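import Cfsg.Agent.Helper17.ONTC.Facts17

set_option autoImplicit false
set_option linter.all false

noncomputable section

namespace Cfsg.Agent.Helper17.ONTC

theorem F128827 : act 0 n40088 = n83792 := d20_4 (iv4 F13628) (iv1 F21537) D18946 D40088 (iv3 D83792) F59922 (iv1 D38889) (iv4 F44573) (iv3 D27651) F21989
def n83793 : Q := act 6 n38606
theorem D83793 : act 6 n38606 = n83793 := rfl
theorem F128828 : act 2 n83793 = n46555 := d3_1 D83793 (iv6 D46555) (iv2 F74228)
def n83794 : Q := act 6 n38607
theorem D83794 : act 6 n38607 = n83794 := rfl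
theorem F128829 : act 2 n83794 = n46550 := d3_1 D83794 (iv6 D46550) (iv2 F74231)
def n83795 : Q := act 0 n38608
theorem D83795 : act 0 n38608 = n83795 := rfl
def n83796 : Q := act 1 n38608
theorem D83796 : act 1 n38608 = n83796 := rfl
def n83797 : Q := act 5 n38608
theorem D83797 : act 5 n38608 = n83797 := rfl
theorem F128830 : act 3 n83797 = n38611 := d6_1 D83797 (iv5 D38611) (iv3 F59425)
theorem F128831 : act 6 n83797 = n45726 := d12_2 D38608 D83797 (iv5 D45726) (iv6 D21857) (iv5 F29558)
def n83798 : Q := act 7 n38608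
theorem D83798 : act 7 n38608 = n83798 := rfl
theorem F128832 : act 3 n83798 = n38612 := d8_1 D83798 (iv7 D38612) (iv3 F59425)
theorem F128833 : act 6 n83798 = n46563 := d14_1 D83798 (iv7 D46563) (iv6 D22314) (iv7 F29559) D38608
def n83799 : Q := act 2 n38609
theorem D83799 : act 2 n38609 = n83799 := rfl
theorem F128834 : act 7 n38610 = n83799 := d15_2 (iv0 D38609) D38610 (iv2 D83799)
def n83800 : Q := act 3 n38609
theorem D83800 : act 3 n38609 = n83800 := rfl
def n83801 : Q := act 4 n38609
theorem D83801 : act 4 n38609 = n83801 := rfl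
def n83802 : Q := act 5 n38609
theorem D83802 : act 5 n38609 = n83802 := rfl
def n83803 : Q := act 6 n38609
theorem D83803 : act 6 n38609 = n83803 := rfl
theorem F128835 : act 5 n83803 = n41721 := d21_6 (iv5 D4902) (iv1 F6816) (iv5 F13565) D18383 D38609 D83803 (iv1 D41721) (iv5 D19633) (iv6 D9229) (iv1 F7319)
def n83804 : Q := act 7 n38609
theorem D83804 : act 7 n38609 = n83804 := rfl
theorem F128836 : act 2 n83804 = n38610 := d4_1 D83804 F128834 (iv2 D83799)
def n83805 : Q := act 3 n38610
theorem D83805 : act 3 n38610 = n83805 := rfl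
def n83806 : Q := act 4 n38610
theorem D83806 : act 4 n38610 = n83806 := rfl
def n83807 : Q := act 5 n38610
theorem D83807 : act 5 n38610 = n83807 := rfl
def n83808 : Q := act 6 n38610
theorem D83808 : act 6 n38610 = n83808 := rfl
def n83809 : Q := act 0 n38611
theorem D83809 : act 0 n38611 = n83809 := rfl
def n83810 : Q := act 1 n38611
theorem D83810 : act 1 n38611 = n83810 := rfl
theorem F128837 : act 1 n83810 = n47344 := d15_1 D83810 F74554 (iv2 F59427)
def n83811 : Q := act 4 n38611
theorem D83811 : act 4 n38611 = n83811 := rfl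
theorem F128838 : act 2 n83811 = n47357 := d1_1 D83811 (iv4 D47357) (iv2 F59427)
theorem F128839 : act 6 n83811 = n45735 := d10_2 (iv6 F59428) D83811 (iv4 D45735)
def n83812 : Q := act 7 n38611
theorem D83812 : act 7 n38611 = n83812 := rfl
theorem F128840 : act 2 n83812 = n47344 := d4_1 D83812 F74554 (iv2 F59427)
theorem F128841 : act 5 n83812 = n38612 := d13_1 D83812 (iv7 D38612) D38611
theorem F128842 : act 1 n47344 = n83809 := d15_0 (iv0 D83809) D83812 F128840
theorem F128843 : act 1 n47356 = n83812 := d15_1 D47356 (iv7 D83812) F59427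
theorem F128844 : act 1 n83812 = n47355 := d15_0 (iv0 D47355) (iv7 F74554) (iv2 F128840)
def n83815 : Q := act 3 n38613
theorem D83815 : act 3 n38613 = n83815 := rfl
theorem F128847 : act 7 n83815 = n38619 := d8_2 F59435 D83815 (iv3 D38619)
def n83816 : Q := act 4 n38613
theorem D83816 : act 4 n38613 = n83816 := rfl
theorem F128848 : act 2 n83816 = n38615 := d1_1 D83816 (iv4 D38615) D38613
theorem F128849 : act 7 n83816 = n38620 := d11_2 F59435 D83816 (iv4 D38620)
def n83817 : Q := act 5 n38613
theorem D83817 : act 5 n38613 = n83817 := rfl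
theorem F128850 : act 2 n83817 = n38616 := d2_1 D83817 (iv5 D38616) D38613
theorem F128851 : act 7 n83817 = n38621 := d13_2 F59435 D83817 (iv5 D38621)
def n83818 : Q := act 6 n38613
theorem D83818 : act 6 n38613 = n83818 := rfl
theorem F128852 : act 2 n83818 = n38617 := d3_1 D83818 (iv6 D38617) D38613
def n83823 : Q := act 5 n38614
theorem D83823 : act 5 n38614 = n83823 := rfl
theorem F128853 : act 3 n83823 = n38616 := d6_1 D83823 (iv5 D38616) D38614
def n83824 : Q := act 6 n38614
theorem D83824 : act 6 n38614 = n83824 := rfl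
theorem F128854 : act 3 n83824 = n38617 := d7_1 D83824 (iv6 D38617) D38614
def n83826 : Q := act 0 n38615
theorem D83826 : act 0 n38615 = n83826 := rfl
def n83827 : Q := act 1 n38615
theorem D83827 : act 1 n38615 = n83827 := rfl
theorem F128856 : act 1 n83827 = n38620 := d15_1 D83827 (iv7 F128849) F128848
def n83828 : Q := act 3 n38615
theorem D83828 : act 3 n38615 = n83828 := rfl
def n83829 : Q := act 5 n38615
theorem D83829 : act 5 n38615 = n83829 := rfl
def n83830 : Q := act 6 n38615
theorem D83830 : act 6 n38615 = n83830 := rfl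
theorem F128857 : act 4 n83830 = n38617 := d10_1 D83830 (iv6 D38617) D38615
def n83831 : Q := act 7 n38615
theorem D83831 : act 7 n38615 = n83831 := rfl
theorem F128858 : act 2 n83831 = n38620 := d4_1 D83831 (iv7 F128849) F128848
theorem F128860 : act 1 n38620 = n83826 := d15_0 (iv0 D83826) D83831 F128858
def n83832 : Q := act 0 n38616
theorem D83832 : act 0 n38616 = n83832 := rfl
theorem F128861 : act 5 n83832 = n83577 := d21_2 D38616 D83832 (iv6 D83577) (iv1 D38528) (iv6 D18355) (iv5 D8648) (iv1 D3881) D3883 D8658 D18384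
def n83833 : Q := act 1 n38616
theorem D83833 : act 1 n38616 = n83833 := rfl
theorem F128862 : act 1 n83833 = n38621 := d15_1 D83833 (iv7 F128851) F128850
def n83834 : Q := act 4 n38616
theorem D83834 : act 4 n38616 = n83834 := rfl
def n83835 : Q := act 6 n38616
theorem D83835 : act 6 n38616 = n83835 := rfl
def n83836 : Q := act 7 n38616
theorem D83836 : act 7 n38616 = n83836 := rfl
theorem F128863 : act 2 n83836 = n38621 := d4_1 D83836 (iv7 F128851) F128850
theorem F128865 : act 1 n38621 = n83832 := d15_0 (iv0 D83832) D83836 F128863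
def n83837 : Q := act 0 n38617
theorem D83837 : act 0 n38617 = n83837 := rfl
def n83838 : Q := act 1 n38617
theorem D83838 : act 1 n38617 = n83838 := rfl
def n83839 : Q := act 5 n38617
theorem D83839 : act 5 n38617 = n83839 := rfl
theorem F128866 : act 0 n83839 = n41708 := d21_7 (iv5 D8648) (iv1 D3881) D3883 D8658 D18384 D38617 D83839 (iv5 D41708) (iv6 D19630) F14426
def n83840 : Q := act 7 n38617
theorem D83840 : act 7 n38617 = n83840 := rfl
def n83841 : Q := act 6 n38618
theorem D83841 : act 6 n38618 = n83841 := rfl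
theorem F128867 : act 2 n83841 = n38622 := d3_1 D83841 (iv6 D38622) (iv2 F59436)
def n83845 : Q := act 4 n38619
theorem D83845 : act 4 n38619 = n83845 := rfl
def n83846 : Q := act 5 n38619
theorem D83846 : act 5 n38619 = n83846 := rfl
theorem F128868 : act 3 n83846 = n38621 := d6_1 D83846 (iv5 D38621) D38619
def n83847 : Q := act 6 n38619
theorem D83847 : act 6 n38619 = n83847 := rfl
theorem F128869 : act 3 n83847 = n38622 := d7_1 D83847 (iv6 D38622) D38619
def n83848 : Q := act 3 n38620
theorem D83848 : act 3 n38620 = n83848 := rfl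
def n83849 : Q := act 5 n38620
theorem D83849 : act 5 n38620 = n83849 := rfl
def n83850 : Q := act 6 n38620
theorem D83850 : act 6 n38620 = n83850 := rfl
theorem F128870 : act 4 n83850 = n38622 := d10_1 D83850 (iv6 D38622) D38620
def n83851 : Q := act 4 n38621
theorem D83851 : act 4 n38621 = n83851 := rfl
def n83852 : Q := act 6 n38621
theorem D83852 : act 6 n38621 = n83852 := rfl
def n83853 : Q := act 0 n38622
theorem D83853 : act 0 n38622 = n83853 := rfl
def n83854 : Q := act 1 n38622
theorem D83854 : act 1 n38622 = n83854 := rfl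
def n83855 : Q := act 5 n38622
theorem D83855 : act 5 n38622 = n83855 := rfl
theorem F128871 : act 0 n83527 = n83855 := d21_1 D83527 (iv5 D83855) (iv6 D38622) (iv1 D18385) (iv6 D8658) (iv5 D3883) D3880 D8644 D18348 D38503
def n83856 : Q := act 7 n38622
theorem D83856 : act 7 n38622 = n83856 := rfl
def n83857 : Q := act 2 n38623
theorem D83857 : act 2 n38623 = n83857 := rfl
theorem F128872 : act 7 n38624 = n83857 := d15_2 (iv0 D38623) D38624 (iv2 D83857)
def n83858 : Q := act 3 n38623
theorem D83858 : act 3 n38623 = n83858 := rfl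
def n83859 : Q := act 4 n38623
theorem D83859 : act 4 n38623 = n83859 := rfl
def n83860 : Q := act 5 n38623
theorem D83860 : act 5 n38623 = n83860 := rfl
def n83861 : Q := act 6 n38623
theorem D83861 : act 6 n38623 = n83861 := rfl
def n83862 : Q := act 7 n38623
theorem D83862 : act 7 n38623 = n83862 := rfl
def n83863 : Q := act 3 n38624
theorem D83863 : act 3 n38624 = n83863 := rfl
def n83864 : Q := act 4 n38624
theorem D83864 : act 4 n38624 = n83864 := rfl
def n83865 : Q := act 5 n38624
theorem D83865 : act 5 n38624 = n83865 := rfl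
theorem F128874 : act 6 n75328 = n83865 := d21_5 (iv5 F13570) (iv1 F12361) D16732 D34487 D75328 (iv5 D83865) (iv1 D38624) (iv5 D18386) (iv6 D8658) D8655
def n83866 : Q := act 6 n38624
theorem D83866 : act 6 n38624 = n83866 := rfl
def n83867 : Q := act 0 n38625
theorem D83867 : act 0 n38625 = n83867 := rfl
def n83868 : Q := act 1 n38625
theorem D83868 : act 1 n38625 = n83868 := rfl
def n83869 : Q := act 3 n38625
theorem D83869 : act 3 n38625 = n83869 := rfl
theorem F128875 : act 6 n83869 = n38686 := d7_2 (iv6 F59437) D83869 (iv3 D38686)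
def n83870 : Q := act 5 n38625
theorem D83870 : act 5 n38625 = n83870 := rfl
def n83871 : Q := act 7 n38625
theorem D83871 : act 7 n38625 = n83871 := rfl
theorem F128876 : act 4 n83871 = n38626 := d11_1 D83871 (iv7 D38626) D38625
def n83872 : Q := act 6 n38626
theorem D83872 : act 6 n38626 = n83872 := rfl
theorem F128877 : act 7 n83872 = n38689 := d14_2 D38626 D83872 (iv6 D38689) (iv7 D18402) (iv6 F29562)
def n83873 : Q := act 5 n38627
theorem D83873 : act 5 n38627 = n83873 := rfl
theorem F128878 : act 2 n83873 = n47283 := d2_1 D83873 F74519 (iv2 F59439)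
theorem F128879 : act 7 n83873 = n38630 := d13_2 (iv7 F59441) D83873 (iv5 D38630)
theorem F128880 : act 1 n47281 = n83873 := d15_1 D47281 F128879 F59446
theorem F128881 : act 1 n83873 = n47280 := d15_0 (iv0 D47280) D47283 (iv2 F128878)
def n83874 : Q := act 2 n38628
theorem D83874 : act 2 n38628 = n83874 := rfl
def n83875 : Q := act 3 n38628
theorem D83875 : act 3 n38628 = n83875 := rfl
def n83876 : Q := act 4 n38628
theorem D83876 : act 4 n38628 = n83876 := rfl
def n83877 : Q := act 5 n38628
theorem D83877 : act 5 n38628 = n83877 := rfl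
def n83878 : Q := act 6 n38628
theorem D83878 : act 6 n38628 = n83878 := rfl
def n83879 : Q := act 7 n38628
theorem D83879 : act 7 n38628 = n83879 := rfl
def n83880 : Q := act 3 n38629
theorem D83880 : act 3 n38629 = n83880 := rfl
def n83881 : Q := act 4 n38629
theorem D83881 : act 4 n38629 = n83881 := rfl
def n83882 : Q := act 5 n38629
theorem D83882 : act 5 n38629 = n83882 := rfl
def n83883 : Q := act 6 n38629
theorem D83883 : act 6 n38629 = n83883 := rfl
def n83884 : Q := act 0 n38630
theorem D83884 : act 0 n38630 = n83884 := rfl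
theorem F128884 : act 1 n47283 = n83884 := d15_0 (iv0 D83884) (iv7 F128879) F128878
def n83885 : Q := act 1 n38630
theorem D83885 : act 1 n38630 = n83885 := rfl
theorem F128885 : act 1 n83885 = n47283 := d15_1 D83885 (iv7 D47283) (iv2 F59446)
def n83886 : Q := act 4 n38630
theorem D83886 : act 4 n38630 = n83886 := rfl
theorem F128886 : act 2 n83886 = n47282 := d1_1 D83886 (iv4 D47282) (iv2 F59446)
theorem F128887 : act 6 n83886 = n38703 := d10_2 (iv6 F59447) D83886 (iv4 D38703)
def n83887 : Q := act 2 n38637
theorem D83887 : act 2 n38637 = n83887 := rfl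
theorem F128888 : act 7 n38638 = n83887 := d15_2 (iv0 D38637) D38638 (iv2 D83887)
def n83888 : Q := act 3 n38637
theorem D83888 : act 3 n38637 = n83888 := rfl
def n83889 : Q := act 4 n38637
theorem D83889 : act 4 n38637 = n83889 := rfl
def n83890 : Q := act 5 n38637
theorem D83890 : act 5 n38637 = n83890 := rfl
def n83891 : Q := act 6 n38637
theorem D83891 : act 6 n38637 = n83891 := rfl
def n83892 : Q := act 7 n38637
theorem D83892 : act 7 n38637 = n83892 := rfl
theorem F128889 : act 2 n83892 = n38638 := d4_1 D83892 F128888 (iv2 D83887)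
def n83893 : Q := act 3 n38638
theorem D83893 : act 3 n38638 = n83893 := rfl
def n83894 : Q := act 4 n38638
theorem D83894 : act 4 n38638 = n83894 := rfl
def n83895 : Q := act 5 n38638
theorem D83895 : act 5 n38638 = n83895 := rfl
def n83897 : Q := act 4 n38639
theorem D83897 : act 4 n38639 = n83897 := rfl
theorem F128890 : act 2 n83897 = n38640 := d1_1 D83897 (iv4 D38640) D38639
def n83898 : Q := act 5 n38639
theorem D83898 : act 5 n38639 = n83898 := rfl
theorem F128891 : act 2 n83898 = n38641 := d2_1 D83898 (iv5 D38641) D38639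
def n83899 : Q := act 6 n38639
theorem D83899 : act 6 n38639 = n83899 := rfl
theorem F128892 : act 2 n83899 = n38642 := d3_1 D83899 (iv6 D38642) D38639
def n83900 : Q := act 0 n38640
theorem D83900 : act 0 n38640 = n83900 := rfl
theorem F128893 : act 3 n83900 = n39754 := d20_5 F29811 D37452 (iv4 F117196) F117195 D83900 (iv4 D39754) (iv1 D18799) (iv4 F30036) (iv3 D18789) F91157
def n83901 : Q := act 1 n38640
theorem D83901 : act 1 n38640 = n83901 := rfl
def n83902 : Q := act 5 n38640
theorem D83902 : act 5 n38640 = n83902 := rfl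
def n83903 : Q := act 6 n38640
theorem D83903 : act 6 n38640 = n83903 := rfl
theorem F128894 : act 4 n83903 = n38642 := d10_1 D83903 (iv6 D38642) D38640
def n83904 : Q := act 0 n38641
theorem D83904 : act 0 n38641 = n83904 := rfl
def n83905 : Q := act 1 n38641
theorem D83905 : act 1 n38641 = n83905 := rfl
def n83906 : Q := act 4 n38641
theorem D83906 : act 4 n38641 = n83906 := rfl
def n83907 : Q := act 6 n38641
theorem D83907 : act 6 n38641 = n83907 := rfl
theorem F128895 : act 3 n83907 = n38653 := d7_1 D83907 (iv6 D38653) (iv3 F59456)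
def n83908 : Q := act 0 n38642
theorem D83908 : act 0 n38642 = n83908 := rfl
def n83910 : Q := act 5 n38642
theorem D83910 : act 5 n38642 = n83910 := rfl
theorem F128896 : act 3 n83910 = n38657 := d6_1 D83910 (iv5 D38657) (iv3 F59457)
theorem F128897 : act 7 n75672 = n83910 := d8_0 F128896 (iv7 F61169) D75672
def n83911 : Q := act 7 n38642
theorem D83911 : act 7 n38642 = n83911 := rfl
theorem F128898 : act 3 n83911 = n38658 := d8_1 D83911 (iv7 D38658) (iv3 F59457)
theorem F128899 : act 5 n83911 = n75672 := d13_1 D83911 F128897 (iv5 D83910)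
def n83912 : Q := act 6 n38647
theorem D83912 : act 6 n38647 = n83912 := rfl
theorem F128902 : act 4 n83912 = n83050 := d10_1 D83912 F127995 (iv4 F61166)
theorem F128903 : act 5 n83912 = n45951 := d12_1 D83912 F72537 F59477 (iv6 D38648) D38647
theorem F128905 : act 0 n83912 = n41385 := d21_10 F63821 (iv1 D21878) F16614 (iv6 D10434) (iv1 F13372) D17754 F28881 F59748 D38647 D83912
theorem F128906 : act 0 n78305 = n83223 := d21_7 (iv5 F128903) F128905 F63821 D45767 (iv1 F123899) F123900 (iv5 F123907) (iv5 D83223) F118920 (iv1 F72534)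
theorem F128907 : act 1 n83912 = n45762 := d15_1 (iv0 F128905) F118964 (iv2 F118975)
theorem F128908 : act 1 n78305 = n83232 := d15_1 (iv0 F128906) F128309 (iv2 F128296)
def n83913 : Q := act 3 n38650
theorem D83913 : act 3 n38650 = n83913 := rfl
theorem F128909 : act 5 n83913 = n82799 := d6_2 (iv5 F59464) D83913 F127537
def n83914 : Q := act 4 n38650
theorem D83914 : act 4 n38650 = n83914 := rfl
theorem F128910 : act 0 n83914 = n38791 := d17_0 F113533 (iv1 F113534) (iv5 D38687) (iv4 D18401) (iv5 D8662) D8661 D18397 F59474 D83914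
theorem F128911 : act 1 n83914 = n38744 := d18_8 (iv1 D75679) (iv4 D34602) D34600 D75673 F113530 (iv4 D38668) F59474 D83914 (iv5 F113537)
def n83915 : Q := act 6 n38650
theorem D83915 : act 6 n38650 = n83915 := rfl
theorem F128912 : act 5 n83915 = n82801 := d12_1 D83915 (iv6 D82801) (iv5 D38086) D38087 (iv5 F59464)
def n83916 : Q := act 3 n38651
theorem D83916 : act 3 n38651 = n83916 := rfl
def n83917 : Q := act 4 n38651
theorem D83917 : act 4 n38651 = n83917 := rfl
theorem F128913 : act 0 n83917 = n38744 := d17_0 (iv5 F113537) (iv1 D75679) D75681 F113539 F59083 F29460 D18392 D38651 D83917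
theorem F128914 : act 1 n83917 = n38791 := d18_8 (iv1 F113534) (iv4 F112966) (iv1 F112968) D75676 F113531 (iv4 D38652) D38651 D83917 F113533
def n83918 : Q := act 5 n38651
theorem D83918 : act 5 n38651 = n83918 := rfl
theorem F128916 : act 7 n83918 = n56853 := d13_2 (iv7 F127962) D83918 (iv5 F127959)
theorem F128917 : act 4 n83918 = n38755 := d17_4 (iv1 F29459) D18397 (iv1 F59471) D83918 (iv5 D38755) F29590 (iv5 D8673) F13530 (iv4 F29457)
theorem F128918 : act 1 n83918 = n82802 := d17_8 (iv1 F122137) (iv5 D79521) (iv1 F118484) (iv5 D38647) (iv4 D18391) D18392 D38651 D83918 F127539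
theorem F128919 : act 6 n75668 = n83918 := d21_5 (iv5 F113494) (iv1 F113515) (iv5 D34598) D34599 D75668 (iv5 D83918) (iv1 D38651) (iv5 D18392) D18393 (iv1 F59660)
theorem F128920 : act 0 n83918 = n75688 := d21_10 F113550 (iv1 D38221) (iv5 D18260) (iv6 D8613) D8609 D18248 D38178 D82952 F127840 F128919
def n83919 : Q := act 6 n38651
theorem D83919 : act 6 n38651 = n83919 := rfl
def n83920 : Q := act 0 n38652
theorem D83920 : act 0 n38652 = n83920 := rfl
theorem F128921 : act 4 n83920 = n83071 := d18_3 (iv1 D38651) D38652 D83920 F128035 F72884 (iv0 F113070) (iv4 F113549) (iv0 F128920) (iv5 D83918)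
theorem F128922 : act 1 n38668 = n83920 := d15_0 (iv0 D83920) (iv7 F127987) F127986
def n83921 : Q := act 1 n38652
theorem D83921 : act 1 n38652 = n83921 := rfl
theorem F128923 : act 1 n83921 = n38668 := d15_1 D83921 (iv7 F127968) F127967
theorem F128924 : act 4 n83921 = n83072 := d18_7 (iv1 F59722) F34425 F59748 (iv4 D18391) D18392 D38652 D83921 F128039 (iv5 D38240)
def n83922 : Q := act 3 n38652
theorem D83922 : act 3 n38652 = n83922 := rfl
def n83923 : Q := act 6 n38652
theorem D83923 : act 6 n38652 = n83923 := rfl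
theorem F128925 : act 4 n83923 = n38653 := d10_1 D83923 (iv6 D38653) D38652
def n83924 : Q := act 0 n38653
theorem D83924 : act 0 n38653 = n83924 := rfl
def n83925 : Q := act 1 n38653
theorem D83925 : act 1 n38653 = n83925 := rfl
def n83926 : Q := act 5 n38653
theorem D83926 : act 5 n38653 = n83926 := rfl
theorem F128926 : act 2 n83926 = n75677 := d2_1 D83926 (iv5 F127970) F127969
theorem F128927 : act 6 n83926 = n38657 := d12_2 D38653 D83926 (iv5 D38657) (iv6 D18393) D18392
def n83927 : Q := act 7 n38653
theorem D83927 : act 7 n38653 = n83927 := rfl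
def n83928 : Q := act 3 n38656
theorem D83928 : act 3 n38656 = n83928 := rfl
theorem F128928 : act 4 n83928 = n39427 := d5_2 (iv4 F59476) D83928 (iv3 D39427) F29953 F117944
def n83929 : Q := act 4 n38657
theorem D83929 : act 4 n38657 = n83929 := rfl
theorem F128931 : act 5 n83929 = n83039 := d16_1 D83929 (iv4 D83039) (iv5 D38213) (iv4 F30441) D40176 (iv4 F127972) F127973 F112960 (iv2 F61163)
def n83930 : Q := act 2 n38660
theorem D83930 : act 2 n38660 = n83930 := rfl
theorem F128932 : act 7 n38661 = n83930 := d15_2 (iv0 D38660) D38661 (iv2 D83930)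
def n83931 : Q := act 3 n38660
theorem D83931 : act 3 n38660 = n83931 := rfl
def n83932 : Q := act 4 n38660
theorem D83932 : act 4 n38660 = n83932 := rfl
def n83933 : Q := act 5 n38660
theorem D83933 : act 5 n38660 = n83933 := rfl
def n83935 : Q := act 7 n38660
theorem D83935 : act 7 n38660 = n83935 := rfl
theorem F128933 : act 2 n83935 = n38661 := d4_1 D83935 F128932 (iv2 D83930)
def n83936 : Q := act 3 n38661
theorem D83936 : act 3 n38661 = n83936 := rfl
def n83937 : Q := act 4 n38661
theorem D83937 : act 4 n38661 = n83937 := rfl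
def n83938 : Q := act 5 n38661
theorem D83938 : act 5 n38661 = n83938 := rfl
def n83939 : Q := act 6 n38661
theorem D83939 : act 6 n38661 = n83939 := rfl
def n83940 : Q := act 4 n38662
theorem D83940 : act 4 n38662 = n83940 := rfl
theorem F128934 : act 2 n83940 = n38663 := d1_1 D83940 (iv4 D38663) D38662
def n83941 : Q := act 5 n38662
theorem D83941 : act 5 n38662 = n83941 := rfl
theorem F128935 : act 2 n83941 = n38664 := d2_1 D83941 (iv5 D38664) D38662
def n83942 : Q := act 6 n38662
theorem D83942 : act 6 n38662 = n83942 := rfl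
theorem F128936 : act 2 n83942 = n38665 := d3_1 D83942 (iv6 D38665) D38662
def n83943 : Q := act 0 n38663
theorem D83943 : act 0 n38663 = n83943 := rfl
def n83944 : Q := act 1 n38663
theorem D83944 : act 1 n38663 = n83944 := rfl
def n83947 : Q := act 0 n38664
theorem D83947 : act 0 n38664 = n83947 := rfl
def n83948 : Q := act 1 n38664
theorem D83948 : act 1 n38664 = n83948 := rfl
def n83949 : Q := act 4 n38664
theorem D83949 : act 4 n38664 = n83949 := rfl
def n83950 : Q := act 6 n38664
theorem D83950 : act 6 n38664 = n83950 := rfl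
theorem F128939 : act 3 n83950 = n38669 := d7_1 D83950 (iv6 D38669) (iv3 F59480)
def n83951 : Q := act 0 n38665
theorem D83951 : act 0 n38665 = n83951 := rfl
def n83952 : Q := act 1 n38665
theorem D83952 : act 1 n38665 = n83952 := rfl
def n83953 : Q := act 5 n38665
theorem D83953 : act 5 n38665 = n83953 := rfl
def n83954 : Q := act 7 n38665
theorem D83954 : act 7 n38665 = n83954 := rfl
def n83955 : Q := act 3 n38668
theorem D83955 : act 3 n38668 = n83955 := rfl
def n83956 : Q := act 6 n38668
theorem D83956 : act 6 n38668 = n83956 := rfl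
theorem F128942 : act 4 n83956 = n38669 := d10_1 D83956 (iv6 D38669) D38668
def n83957 : Q := act 0 n38669
theorem D83957 : act 0 n38669 = n83957 := rfl
def n83958 : Q := act 1 n38669
theorem D83958 : act 1 n38669 = n83958 := rfl
def n83959 : Q := act 5 n38669
theorem D83959 : act 5 n38669 = n83959 := rfl
theorem F128943 : act 6 n83959 = n38672 := d12_2 D38669 D83959 (iv5 D38672) (iv6 D18398) D18397
def n83960 : Q := act 7 n38669
theorem D83960 : act 7 n38669 = n83960 := rfl
def n83961 : Q := act 3 n38670
theorem D83961 : act 3 n38670 = n83961 := rfl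
theorem F128944 : act 4 n83961 = n39459 := d5_2 (iv4 F118934) D83961 (iv3 D39459) F30363 F117752
theorem F128945 : act 7 n83961 = n81824 := d8_2 (iv7 F118935) D83961 (iv3 D81824)
def n83962 : Q := act 4 n38672
theorem D83962 : act 4 n38672 = n83962 := rfl
def n83963 : Q := act 7 n38672
theorem D83963 : act 7 n38672 = n83963 := rfl
theorem F128946 : act 2 n83963 = n81819 := d4_1 D83963 F127992 F127989
theorem F128947 : act 5 n83963 = n38673 := d13_1 D83963 (iv7 D38673) D38672
theorem F128948 : act 1 n56791 = n83963 := d15_1 (iv0 F127991) (iv7 D83963) (iv2 F127989)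
theorem F128949 : act 1 n83963 = n75520 := d15_1 F128948 F113343 (iv2 F117803)
def n83964 : Q := act 0 n38675
theorem D83964 : act 0 n38675 = n83964 := rfl
def n83965 : Q := act 1 n38675
theorem D83965 : act 1 n38675 = n83965 := rfl
def n83966 : Q := act 2 n38675
theorem D83966 : act 2 n38675 = n83966 := rfl
def n83967 : Q := act 4 n38675
theorem D83967 : act 4 n38675 = n83967 := rfl
def n83968 : Q := act 5 n38675
theorem D83968 : act 5 n38675 = n83968 := rfl
theorem F128950 : act 3 n83968 = n38677 := d6_1 D83968 (iv5 D38677) D38675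
def n83969 : Q := act 6 n38675
theorem D83969 : act 6 n38675 = n83969 := rfl
theorem F128951 : act 3 n83969 = n38678 := d7_1 D83969 (iv6 D38678) D38675
def n83970 : Q := act 0 n38676
theorem D83970 : act 0 n38676 = n83970 := rfl
theorem F128952 : act 5 n83970 = n82510 := d17_1 D83970 F127160 F113530 (iv4 D38668) (iv5 D18397) F29459 (iv5 F59083) F59086 D38676
theorem F128953 : act 4 n83970 = n83066 := d18_3 D18399 D38676 D83970 (iv5 D83066) F59754 (iv0 D38644) (iv4 D18391) (iv0 D8660) D8662
theorem F128954 : act 1 n38681 = n83970 := d15_0 (iv0 D83970) (iv7 F128004) F128003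
theorem F128955 : act 7 n83162 = n83970 := d11_0 F128953 F128026 D83162
def n83971 : Q := act 1 n38676
theorem D83971 : act 1 n38676 = n83971 := rfl
theorem F128956 : act 1 n83971 = n38681 := d15_1 D83971 (iv7 F128000) F127999
theorem F128957 : act 2 n83162 = n83971 := d15_3 F128956 F128954 (iv7 F128955)
theorem F128958 : act 4 n45848 = n83971 := d18_5 (iv1 F29459) D18396 F59749 (iv4 F34425) D45848 F128956 (iv4 D38681) F59085 F59083
def n83972 : Q := act 3 n38676
theorem D83972 : act 3 n38676 = n83972 := rfl
def n83973 : Q := act 6 n38676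
theorem D83973 : act 6 n38676 = n83973 := rfl
theorem F128959 : act 4 n83973 = n38678 := d10_1 D83973 (iv6 D38678) D38676
def n83974 : Q := act 0 n38678
theorem D83974 : act 0 n38678 = n83974 := rfl
def n83975 : Q := act 1 n38678
theorem D83975 : act 1 n38678 = n83975 := rfl
def n83976 : Q := act 5 n38678
theorem D83976 : act 5 n38678 = n83976 := rfl
def n83977 : Q := act 7 n38678
theorem D83977 : act 7 n38678 = n83977 := rfl
def n83978 : Q := act 0 n38680
theorem D83978 : act 0 n38680 = n83978 := rfl
def n83980 : Q := act 2 n38680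
theorem D83980 : act 2 n38680 = n83980 := rfl
def n83981 : Q := act 4 n38680
theorem D83981 : act 4 n38680 = n83981 := rfl
def n83982 : Q := act 5 n38680
theorem D83982 : act 5 n38680 = n83982 := rfl
theorem F128960 : act 3 n83982 = n38682 := d6_1 D83982 (iv5 D38682) D38680
def n83983 : Q := act 6 n38680
theorem D83983 : act 6 n38680 = n83983 := rfl
theorem F128961 : act 3 n83983 = n38683 := d7_1 D83983 (iv6 D38683) D38680
def n83984 : Q := act 3 n38681
theorem D83984 : act 3 n38681 = n83984 := rfl
def n83985 : Q := act 6 n38681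
theorem D83985 : act 6 n38681 = n83985 := rfl
theorem F128962 : act 4 n83985 = n38683 := d10_1 D83985 (iv6 D38683) D38681
def n83986 : Q := act 0 n38683
theorem D83986 : act 0 n38683 = n83986 := rfl
def n83987 : Q := act 1 n38683
theorem D83987 : act 1 n38683 = n83987 := rfl
def n83988 : Q := act 5 n38683
theorem D83988 : act 5 n38683 = n83988 := rfl
def n83989 : Q := act 7 n38683
theorem D83989 : act 7 n38683 = n83989 := rfl
def n83990 : Q := act 2 n38684
theorem D83990 : act 2 n38684 = n83990 := rfl
theorem F128963 : act 7 n38685 = n83990 := d15_2 (iv0 D38684) D38685 (iv2 D83990)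
def n83991 : Q := act 3 n38684
theorem D83991 : act 3 n38684 = n83991 := rfl
def n83992 : Q := act 6 n38684
theorem D83992 : act 6 n38684 = n83992 := rfl
def n83993 : Q := act 7 n38684
theorem D83993 : act 7 n38684 = n83993 := rfl
theorem F128964 : act 2 n83993 = n38685 := d4_1 D83993 F128963 (iv2 D83990)
def n83994 : Q := act 3 n38685
theorem D83994 : act 3 n38685 = n83994 := rfl
def n83995 : Q := act 6 n38685
theorem D83995 : act 6 n38685 = n83995 := rfl
def n83996 : Q := act 0 n38686
theorem D83996 : act 0 n38686 = n83996 := rfl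
def n83997 : Q := act 1 n38686
theorem D83997 : act 1 n38686 = n83997 := rfl
def n83998 : Q := act 2 n38686
theorem D83998 : act 2 n38686 = n83998 := rfl
def n83999 : Q := act 5 n38686
theorem D83999 : act 5 n38686 = n83999 := rfl
theorem F128965 : act 3 n83999 = n38687 := d6_1 D83999 (iv5 D38687) D38686
def n84000 : Q := act 7 n38686
theorem D84000 : act 7 n38686 = n84000 := rfl
theorem F128966 : act 3 n84000 = n38688 := d8_1 D84000 (iv7 D38688) D38686
def n84001 : Q := act 6 n38687
theorem D84001 : act 6 n38687 = n84001 := rfl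
def n84002 : Q := act 6 n38688
theorem D84002 : act 6 n38688 = n84002 := rfl
theorem F128967 : act 4 n84002 = n38689 := d10_1 D84002 (iv6 D38689) (iv4 F59488)
def n84003 : Q := act 0 n38689
theorem D84003 : act 0 n38689 = n84003 := rfl
def n84004 : Q := act 1 n38689
theorem D84004 : act 1 n38689 = n84004 := rfl
def n84005 : Q := act 5 n38689
theorem D84005 : act 5 n38689 = n84005 := rfl
theorem F128968 : act 6 n84005 = n38690 := d12_2 D38689 D84005 (iv5 D38690) (iv6 D18403) (iv5 F29567)
def n84006 : Q := act 4 n38690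
theorem D84006 : act 4 n38690 = n84006 := rfl
theorem F128969 : act 7 n84006 = n38703 := d11_2 (iv7 F59489) D84006 (iv4 D38703)
def n84007 : Q := act 0 n38692
theorem D84007 : act 0 n38692 = n84007 := rfl
def n84008 : Q := act 1 n38692
theorem D84008 : act 1 n38692 = n84008 := rfl
def n84009 : Q := act 2 n38692
theorem D84009 : act 2 n38692 = n84009 := rfl
def n84010 : Q := act 5 n38692
theorem D84010 : act 5 n38692 = n84010 := rfl
theorem F128970 : act 3 n84010 = n38694 := d6_1 D84010 (iv5 D38694) D38692
def n84011 : Q := act 6 n38692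
theorem D84011 : act 6 n38692 = n84011 := rfl
theorem F128971 : act 3 n84011 = n38695 := d7_1 D84011 (iv6 D38695) D38692
def n84012 : Q := act 0 n38694
theorem D84012 : act 0 n38694 = n84012 := rfl
theorem F128972 : act 5 n84012 = n75521 := d17_3 D18404 D38694 D84012 F113345 (iv5 F59194) (iv0 F59197) (iv5 D18452) (iv0 D8676) (iv4 F13577)
theorem F128973 : act 0 n83271 = n38695 := d21_4 D34571 D75573 F113427 (iv6 F128341) (iv6 D38695) D38694 D84012 F128972 (iv6 D75521) F118883
theorem F128974 : act 1 n38699 = n84012 := d15_0 (iv0 D84012) (iv7 F126915) F126914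
theorem F128976 : act 2 n81823 = n84012 := d2_3 F128972 (iv2 F117794) D81823
def n84013 : Q := act 1 n38694
theorem D84013 : act 1 n38694 = n84013 := rfl
theorem F128977 : act 1 n84013 = n38699 := d15_1 D84013 (iv7 F126907) F126906
theorem F128978 : act 7 n84013 = n81823 := d15_2 (iv0 D84012) D84013 F128976
theorem F128979 : act 5 n75654 = n84013 := d13_3 F128978 (iv5 D81823) (iv7 F117802)
def n84014 : Q := act 4 n38694
theorem D84014 : act 4 n38694 = n84014 := rfl
def n84015 : Q := act 6 n38694
theorem D84015 : act 6 n38694 = n84015 := rfl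
def n84016 : Q := act 5 n38695
theorem D84016 : act 5 n38695 = n84016 := rfl
theorem F128980 : act 2 n84016 = n75694 := d2_1 D84016 (iv5 F126911) F126909
theorem F128981 : act 0 n84016 = n75252 := d17_2 F128973 D84016 (iv5 D75252) F54652 D34455 (iv0 F59850) (iv5 D38825) (iv0 F59209) (iv4 F128340)
theorem F128982 : act 0 n75684 = n84016 := d21_1 D75684 (iv5 D84016) (iv6 D38695) (iv1 F58644) F58641 (iv5 F59083) (iv1 F59085) D38682 (iv6 F112793) F112794
def n84017 : Q := act 0 n38697
theorem D84017 : act 0 n38697 = n84017 := rfl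
def n84018 : Q := act 1 n38697
theorem D84018 : act 1 n38697 = n84018 := rfl
def n84019 : Q := act 2 n38697
theorem D84019 : act 2 n38697 = n84019 := rfl
def n84020 : Q := act 4 n38697
theorem D84020 : act 4 n38697 = n84020 := rfl
def n84021 : Q := act 5 n38697
theorem D84021 : act 5 n38697 = n84021 := rfl
theorem F128983 : act 3 n84021 = n38699 := d6_1 D84021 (iv5 D38699) D38697
def n84022 : Q := act 6 n38697
theorem D84022 : act 6 n38697 = n84022 := rfl
theorem F128984 : act 3 n84022 = n38700 := d7_1 D84022 (iv6 D38700) D38697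
def n84023 : Q := act 4 n38699
theorem D84023 : act 4 n38699 = n84023 := rfl
def n84024 : Q := act 6 n38699
theorem D84024 : act 6 n38699 = n84024 := rfl
def n84026 : Q := act 5 n38700
theorem D84026 : act 5 n38700 = n84026 := rfl
theorem F128985 : act 2 n84026 = n82254 := d2_1 D84026 F126919 F126917
theorem F128987 : act 0 n84026 = n56852 := d21_7 (iv5 D38677) (iv1 F59086) F59083 (iv6 F58641) (iv1 F58643) D38700 D84026 (iv5 D56852) D56853 F117910
theorem F128989 : act 7 n82255 = n84026 := d15_2 (iv0 D82254) D82255 F128985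
theorem F128990 : act 5 n83436 = n82255 := d13_3 F128989 (iv5 D84026) (iv7 F128541)
def n84027 : Q := act 3 n38701
theorem D84027 : act 3 n38701 = n84027 := rfl
def n84028 : Q := act 4 n38701
theorem D84028 : act 4 n38701 = n84028 := rfl
theorem F128991 : act 1 n84028 = n83156 := d18_6 (iv1 F118912) F72544 D45969 F121905 F121906 D84028 (iv4 D83156) (iv0 F113582) (iv5 D75726)
def n84029 : Q := act 6 n38701
theorem D84029 : act 6 n38701 = n84029 := rfl
def n84030 : Q := act 3 n38702
theorem D84030 : act 3 n38702 = n84030 := rfl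
def n84031 : Q := act 4 n38702
theorem D84031 : act 4 n38702 = n84031 := rfl
theorem F128992 : act 0 n84031 = n83156 := d18_2 (iv1 F126928) D84031 (iv4 D83156) (iv5 D38279) F29479 D36112 (iv4 F121715) F58643 (iv5 F126927)
def n84032 : Q := act 6 n38702
theorem D84032 : act 6 n38702 = n84032 := rfl
def n84033 : Q := act 0 n38703
theorem D84033 : act 0 n38703 = n84033 := rfl
def n84034 : Q := act 1 n38703
theorem D84034 : act 1 n38703 = n84034 := rfl
def n84035 : Q := act 3 n38703
theorem D84035 : act 3 n38703 = n84035 := rfl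
def n84036 : Q := act 5 n38703
theorem D84036 : act 5 n38703 = n84036 := rfl
def n84037 : Q := act 3 n38706
theorem D84037 : act 3 n38706 = n84037 := rfl
theorem F128993 : act 4 n84037 = n39684 := d5_2 D38706 D84037 (iv3 D39684) (iv4 D18781) (iv3 F61123)
def n84039 : Q := act 3 n38714
theorem D84039 : act 3 n38714 = n84039 := rfl
theorem F128994 : act 4 n84039 = n77618 := d5_2 D38714 D84039 (iv3 D77618) (iv4 F116648) F116647
def n84041 : Q := act 6 n38714
theorem D84041 : act 6 n38714 = n84041 := rfl
theorem F128996 : act 2 n84041 = n38720 := d3_1 D84041 (iv6 D38720) (iv2 F59494)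
theorem F128997 : act 4 n84041 = n38716 := d10_1 D84041 (iv6 D38716) D38714
theorem F128998 : act 7 n84041 = n79816 := d14_2 F126991 D84041 (iv6 F123781) (iv7 F123780) F126994
theorem F128999 : act 1 n79801 = n84041 := d15_1 F122517 F128998 (iv2 F122543)
def n84042 : Q := act 5 n38717
theorem D84042 : act 5 n38717 = n84042 := rfl
theorem F129001 : act 7 n84042 = n39951 := d13_2 F59503 D84042 (iv5 D39951)
def n84043 : Q := act 0 n38718
theorem D84043 : act 0 n38718 = n84043 := rfl
def n84044 : Q := act 1 n38718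
theorem D84044 : act 1 n38718 = n84044 := rfl
def n84045 : Q := act 2 n38718
theorem D84045 : act 2 n38718 = n84045 := rfl
theorem F129002 : act 4 n84045 = n38739 := d1_2 (iv4 F59504) D84045 (iv2 D38739)
def n84046 : Q := act 5 n38718
theorem D84046 : act 5 n38718 = n84046 := rfl
def n84047 : Q := act 6 n38718
theorem D84047 : act 6 n38718 = n84047 := rfl
theorem F129004 : act 3 n84047 = n38720 := d7_1 D84047 (iv6 D38720) D38718
def n84048 : Q := act 1 n38719
theorem D84048 : act 1 n38719 = n84048 := rfl
def n84049 : Q := act 4 n38719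
theorem D84049 : act 4 n38719 = n84049 := rfl
def n84050 : Q := act 6 n38719
theorem D84050 : act 6 n38719 = n84050 := rfl
def n84051 : Q := act 1 n38720
theorem D84051 : act 1 n38720 = n84051 := rfl
theorem F129006 : act 1 n84051 = n79816 := d15_1 D84051 (iv7 F128998) F128996
theorem F129007 : act 7 n84051 = n79801 := d15_2 (iv0 F118569) D84051 F122515
theorem F129008 : act 4 n84051 = n79804 := d17_9 (iv1 F122530) F120883 (iv1 D18893) F13775 (iv4 F28740) D36656 D80435 (iv5 F123631) D84051
def n84053 : Q := act 6 n38721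
theorem D84053 : act 6 n38721 = n84053 := rfl
theorem F129013 : act 5 n84053 = n75395 := d12_1 D84053 F118276 (iv5 D37643) D37644 (iv5 F118274)
def n84055 : Q := act 5 n38722
theorem D84055 : act 5 n38722 = n84055 := rfl
theorem F129017 : act 2 n84055 = n75705 := d2_1 D84055 F118440 F118279
theorem F129019 : act 0 n84055 = n75365 := d18_0 F124854 (iv1 D81073) F57981 (iv5 F57107) (iv4 F122545) (iv0 F122546) (iv4 D38723) D38722 D84055
theorem F129020 : act 0 n75700 = n84055 := d21_1 D75700 (iv5 D84055) (iv6 F118553) (iv1 D38154) (iv6 D18240) F13515 (iv1 F13790) F13787 D18022 (iv1 F117257)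
theorem E13767 : n82123 = n75700 := ((c15_1 (iv0 F129020) (iv0 D82123) (iv7 F118441) (iv2 F129017))).symm
theorem F129021 : act 1 n75700 = n37644 := (sb E13767 (iv0 D82123))
theorem E13768 : n82124 = n75365 := (c15_2 F129021 D82124 F113096 (iv2 F113560))
theorem F129022 : act 0 n75365 = n37644 := (sb E13768 (iv1 D82124))
theorem E13769 : n82474 = n75701 := ((c21_4 F118274 (iv1 F129021) (iv5 D75700) D75701 (iv1 D82474) (iv6 D37840) D37839 F123777 (iv5 F59510) (iv6 D38724) D38721)).symm
theorem F129023 : act 0 n75701 = n37840 := (sb E13769 (iv1 D82474))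
def n84056 : Q := act 3 n38723
theorem D84056 : act 3 n38723 = n84056 := rfl
theorem F129028 : act 4 n84056 = n38758 := d5_2 D38723 D84056 (iv3 D38758) (iv4 D18428) (iv3 F29580)
def n84057 : Q := act 5 n38723
theorem D84057 : act 5 n38723 = n84057 := rfl
theorem F129033 : act 1 n84057 = n80412 := d17_6 (iv1 D75271) F54679 (iv1 F117226) D18417 D38723 D84057 (iv5 D80412) D80411 (iv4 F123586)
def n84059 : Q := act 3 n38726
theorem D84059 : act 3 n38726 = n84059 := rfl
theorem F129039 : act 5 n84059 = n82630 := d6_2 (iv5 F117624) D84059 F127283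
theorem F129040 : act 7 n84059 = n57847 := d8_2 (iv7 F118280) D84059 (iv3 F122037)
theorem F129041 : act 1 n57842 = n84059 := d15_1 F122023 F129040 F122035
theorem F129042 : act 1 n84059 = n57311 := d15_1 F129041 F90469 (iv2 F91132)
def n84060 : Q := act 4 n38726
theorem D84060 : act 4 n38726 = n84060 := rfl
def n84061 : Q := act 6 n38726
theorem D84061 : act 6 n38726 = n84061 := rfl
def n84062 : Q := act 0 n38728
theorem D84062 : act 0 n38728 = n84062 := rfl
def n84063 : Q := act 1 n38728
theorem D84063 : act 1 n38728 = n84063 := rfl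
def n84064 : Q := act 2 n38728
theorem D84064 : act 2 n38728 = n84064 := rfl
def n84065 : Q := act 4 n38728
theorem D84065 : act 4 n38728 = n84065 := rfl
theorem F129047 : act 3 n84065 = n40271 := d5_1 D84065 (iv4 D40271) F59693 F59690 D38728
theorem F129050 : act 0 n83709 = n84065 := d20_7 (iv4 D8672) (iv1 D3887) (iv4 F5847) (iv3 F13558) D18375 D38583 D83709 (iv4 D84065) (iv3 D38728) (iv1 F29588)
def n84066 : Q := act 5 n38728
theorem D84066 : act 5 n38728 = n84066 := rfl
theorem F129051 : act 3 n84066 = n38730 := d6_1 D84066 (iv5 D38730) D38728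
def n84067 : Q := act 4 n38730
theorem D84067 : act 4 n38730 = n84067 := rfl
theorem F129052 : act 2 n84067 = n83970 := d1_1 D84067 F128953 F128025
theorem F129053 : act 7 n84067 = n83971 := d11_2 F72405 D84067 (iv4 F128958)
theorem F129054 : act 0 n84067 = n83055 := d18_2 F113590 D84067 (iv4 D83055) (iv5 F113550) F113549 (iv0 F122139) F122138 (iv0 D75730) D75732
theorem F129055 : act 1 n84067 = n83052 := d18_6 D18258 (iv4 F30441) (iv1 F59757) F59690 D38730 D84067 (iv4 D83052) (iv0 D38220) (iv5 D18260)
def n84068 : Q := act 6 n38730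
theorem D84068 : act 6 n38730 = n84068 := rfl
def n84069 : Q := act 2 n38737
theorem D84069 : act 2 n38737 = n84069 := rfl
theorem F129056 : act 7 n38738 = n84069 := d15_2 (iv0 D38737) D38738 (iv2 D84069)
def n84070 : Q := act 3 n38737
theorem D84070 : act 3 n38737 = n84070 := rfl
theorem F129057 : act 4 n84070 = n83944 := d20_6 F5847 D3886 D8667 D18422 D38737 D84070 (iv1 D83944) (iv4 D38663) (iv3 D18395) (iv1 D8661)
theorem F129058 : act 0 n39343 = n84070 := d20_10 F129057 (iv1 D83944) (iv4 D38663) (iv3 D18395) (iv1 D8661) (iv3 F13558) F13559 D8757 D18655 D39343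
def n84071 : Q := act 4 n38737
theorem D84071 : act 4 n38737 = n84071 := rfl
theorem F129059 : act 0 n84071 = n83732 := d20_1 D84071 (iv4 D83732) (iv3 D38588) (iv1 D18376) F13558 F5847 D3886 D8667 D18422 D38737
def n84072 : Q := act 5 n38737
theorem D84072 : act 5 n38737 = n84072 := rfl
def n84073 : Q := act 6 n38737
theorem D84073 : act 6 n38737 = n84073 := rfl
def n84074 : Q := act 7 n38737
theorem D84074 : act 7 n38737 = n84074 := rfl
theorem F129060 : act 2 n84074 = n38738 := d4_1 D84074 F129056 (iv2 D84069)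
def n84075 : Q := act 3 n38738
theorem D84075 : act 3 n38738 = n84075 := rfl
def n84076 : Q := act 4 n38738
theorem D84076 : act 4 n38738 = n84076 := rfl
def n84077 : Q := act 5 n38738
theorem D84077 : act 5 n38738 = n84077 := rfl
def n84079 : Q := act 5 n38739
theorem D84079 : act 5 n38739 = n84079 := rfl
theorem F129061 : act 2 n84079 = n38740 := d2_1 D84079 (iv5 D38740) D38739
def n84080 : Q := act 6 n38739
theorem D84080 : act 6 n38739 = n84080 := rfl
theorem F129062 : act 2 n84080 = n38741 := d3_1 D84080 (iv6 D38741) D38739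
def n84081 : Q := act 0 n38740
theorem D84081 : act 0 n38740 = n84081 := rfl
def n84082 : Q := act 1 n38740
theorem D84082 : act 1 n38740 = n84082 := rfl
def n84083 : Q := act 4 n38740
theorem D84083 : act 4 n38740 = n84083 := rfl
def n84084 : Q := act 6 n38740
theorem D84084 : act 6 n38740 = n84084 := rfl
theorem F129063 : act 3 n84084 = n38745 := d7_1 D84084 (iv6 D38745) (iv3 F59517)
def n84085 : Q := act 0 n38741
theorem D84085 : act 0 n38741 = n84085 := rfl
def n84086 : Q := act 1 n38741
theorem D84086 : act 1 n38741 = n84086 := rfl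
def n84088 : Q := act 3 n38742
theorem D84088 : act 3 n38742 = n84088 := rfl
theorem F129065 : act 5 n84088 = n82777 := d6_2 (iv5 F59816) D84088 F127520
def n84089 : Q := act 4 n38742
theorem D84089 : act 4 n38742 = n84089 := rfl
theorem F129066 : act 2 n84089 = n83920 := d1_1 D84089 F128921 (iv2 F128037)
theorem F129067 : act 7 n84089 = n83921 := d11_2 F128040 D84089 F128924
theorem F129068 : act 0 n84089 = n83047 := d18_2 D38742 D84089 (iv4 D83047) (iv5 D38218) D38217 F59774 F59690 (iv0 D18420) D18423
theorem F129069 : act 1 n84089 = n83039 := d18_6 F113587 (iv4 F113525) (iv1 F118341) (iv4 F118340) (iv5 F59816) D84089 (iv4 D83039) D83038 F127965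
def n84090 : Q := act 6 n38742
theorem D84090 : act 6 n38742 = n84090 := rfl
theorem F129070 : act 5 n84090 = n82779 := d12_1 D84090 (iv6 D82779) (iv5 D38045) D38046 (iv5 F59816)
def n84091 : Q := act 3 n38743
theorem D84091 : act 3 n38743 = n84091 := rfl
def n84092 : Q := act 4 n38743
theorem D84092 : act 4 n38743 = n84092 := rfl
theorem F129071 : act 2 n84092 = n83921 := d1_1 D84092 F128924 (iv2 F128042)
theorem F129072 : act 7 n84092 = n83920 := d11_2 (iv7 F128038) D84092 F128921
theorem F129073 : act 0 n84092 = n83039 := d18_2 (iv1 F59520) D84092 (iv4 D83039) (iv5 D38213) (iv4 F30441) (iv0 F59750) F32909 (iv0 F59687) D18442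
theorem F129074 : act 1 n84092 = n83047 := d15_1 (iv0 F129073) F127987 (iv2 F127967)
def n84093 : Q := act 5 n38743
theorem D84093 : act 5 n38743 = n84093 := rfl
theorem F129077 : act 4 n84093 = n46234 := d17_4 (iv1 F29588) D18442 (iv1 F59520) D84093 F118345 F118347 (iv5 F59477) F59774 F59690
theorem F129078 : act 1 n84093 = n75358 := d17_8 (iv1 F59546) (iv5 D38755) (iv1 D18427) (iv5 D8668) D8667 D18423 D38743 D84093 (iv4 D75358)
theorem F129079 : act 0 n84093 = n75370 := d18_0 (iv4 D75370) F59599 (iv4 F58897) (iv5 F59464) D83914 F128911 (iv4 D38744) D38743 D84093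
theorem F129080 : act 6 n75760 = n84093 := d21_5 (iv5 F113575) (iv1 F113576) (iv5 D34644) D34645 D75760 (iv5 D84093) (iv1 D38743) (iv5 D18423) D18424 (iv1 F113578)
def n84094 : Q := act 6 n38743
theorem D84094 : act 6 n38743 = n84094 := rfl
def n84095 : Q := act 3 n38744
theorem D84095 : act 3 n38744 = n84095 := rfl
def n84096 : Q := act 6 n38744
theorem D84096 : act 6 n38744 = n84096 := rfl
def n84097 : Q := act 0 n38745
theorem D84097 : act 0 n38745 = n84097 := rfl
def n84098 : Q := act 1 n38745
theorem D84098 : act 1 n38745 = n84098 := rfl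
def n84099 : Q := act 5 n38745
theorem D84099 : act 5 n38745 = n84099 := rfl
theorem F129082 : act 6 n84099 = n38748 := d12_2 D38745 D84099 (iv5 D38748) (iv6 D18424) D18423
def n84100 : Q := act 7 n38745
theorem D84100 : act 7 n38745 = n84100 := rfl
def n84101 : Q := act 3 n38747
theorem D84101 : act 3 n38747 = n84101 := rfl
def n84102 : Q := act 1 n38748
theorem D84102 : act 1 n38748 = n84102 := rfl
theorem F129083 : act 1 n84102 = n82509 := d15_1 D84102 F127159 F59822
theorem F129084 : act 7 n84102 = n45878 := d15_2 (iv0 F59815) D84102 F72455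
theorem F129085 : act 5 n84102 = n45879 := d17_7 (iv1 F27468) F12387 (iv1 F13527) (iv5 F13579) (iv4 F29585) D38748 D84102 (iv0 F72462) (iv4 D34494)
def n84103 : Q := act 4 n38748
theorem D84103 : act 4 n38748 = n84103 := rfl
theorem F129087 : act 2 n84103 = n75679 := d1_1 D84103 (iv4 F113536) F59822
theorem F129088 : act 7 n84103 = n75678 := d11_2 F59664 D84103 F113532
theorem F129089 : act 5 n84103 = n83073 := d16_1 D84103 (iv4 D83073) (iv5 D38232) (iv4 D18264) D18265 D38233 (iv5 F127157) F127159 F59822
theorem F129090 : act 0 n84103 = n75341 := d18_2 (iv1 D84102) D84103 (iv4 D75341) (iv5 D34490) F27464 D16735 D34499 F72461 (iv5 F129085)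
theorem F129091 : act 1 n84103 = n75682 := d18_6 (iv1 F127975) F59476 (iv1 D18432) (iv4 F29585) D38748 D84103 F113544 F112961 (iv5 F127973)
def n84104 : Q := act 3 n38751
theorem D84104 : act 3 n38751 = n84104 := rfl
theorem F129092 : act 7 n84104 = n83451 := d8_2 (iv7 F59530) D84104 F128554
def n84105 : Q := act 5 n38751
theorem D84105 : act 5 n38751 = n84105 := rfl
theorem F129095 : act 0 n84105 = n75334 := d17_2 (iv1 F61164) D84105 (iv5 D75334) (iv4 F59765) D45881 (iv0 F72880) D46233 (iv0 F72885) F61166
theorem F129096 : act 1 n84105 = n75338 := d17_6 (iv1 F27465) D34500 F59599 (iv5 F29589) D38751 D84105 (iv5 D75338) F54720 F27541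
def n84106 : Q := act 6 n38751
theorem D84106 : act 6 n38751 = n84106 := rfl
theorem F129098 : act 4 n84106 = n38752 := d10_1 D84106 (iv6 D38752) D38751
theorem F129100 : act 5 n84106 = n75549 := d21_6 D37442 D81819 (iv5 F127994) F127995 (iv1 F61164) D84106 (iv1 F113395) F72858 (iv6 F54843) (iv1 F118892)
theorem F129101 : act 0 n84106 = n83436 := d21_10 F128990 (iv1 D82255) (iv5 D37714) D37715 (iv1 F123906) (iv6 D75339) D75338 (iv1 F129096) (iv5 D84105) D84106
theorem F129102 : act 0 n82399 = n84106 := d21_4 D81823 (iv1 F126916) (iv5 D82398) D82399 (iv6 D84106) D84105 F129095 (iv5 D75334) D75335 F119035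
theorem F129103 : act 0 n41430 = n45835 := d18_0 (iv4 F126918) F129102 F129098 F59533 D75446 F113506 (iv4 D45986) (iv0 F118462) F118465
def n84107 : Q := act 3 n38754
theorem D84107 : act 3 n38754 = n84107 := rfl
theorem F129104 : act 4 n84107 = n39635 := d5_2 D38754 D84107 (iv3 D39635) (iv4 D18766) F117905
theorem F129105 : act 6 n84107 = n55088 := d7_2 F117934 D84107 F87121
theorem F129106 : act 7 n84107 = n83928 := d8_2 (iv7 F59658) D84107 (iv3 D83928)
def n84108 : Q := act 5 n38754
theorem D84108 : act 5 n38754 = n84108 := rfl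
theorem F129108 : act 7 n84108 = n75649 := d13_2 (iv7 F59658) D84108 (iv5 F113511)
theorem F129110 : act 1 n84108 = n75334 := d17_6 D16734 D34495 (iv1 F59546) (iv5 D38755) D38754 D84108 (iv5 D75334) (iv0 D34488) F27464
def n84109 : Q := act 3 n38756
theorem D84109 : act 3 n38756 = n84109 := rfl
theorem F129111 : act 7 n84109 = n83416 := d8_2 (iv7 F118354) D84109 F128525
def n84110 : Q := act 5 n38756
theorem D84110 : act 5 n38756 = n84110 := rfl
theorem F129113 : act 7 n84110 = n75720 := d13_2 (iv7 F118354) D84110 F113575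
theorem F129114 : act 0 n84110 = n75355 := d17_2 D38756 D84110 (iv5 D75355) (iv4 D34494) D34495 (iv0 F58892) (iv5 F29589) (iv0 D18426) D18428
theorem F129115 : act 1 n84110 = n75368 := d17_6 (iv1 F59759) D75664 (iv1 F118341) (iv5 F122146) F122145 D84110 (iv5 D75368) F72461 F72459
def n84111 : Q := act 6 n38756
theorem D84111 : act 6 n38756 = n84111 := rfl
theorem F129116 : act 2 n84111 = n82783 := d3_1 D84111 F127524 F118353
theorem F129117 : act 4 n84111 = n46238 := d10_1 D84111 (iv6 F122147) F122145
theorem F129118 : act 7 n84111 = n82787 := d14_2 (iv7 F118354) D84111 (iv6 F127533) F118377 D38427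
theorem F129120 : act 0 n84111 = n83411 := d21_10 (iv5 F128522) (iv1 D82769) (iv5 D38040) D38041 (iv1 F113621) (iv6 D75369) D75368 (iv1 F129115) (iv5 D84110) D84111
theorem F129121 : act 0 n82412 = n84111 := d21_4 D82590 (iv1 F127203) (iv5 D82411) D82412 (iv6 D84111) D84110 F129114 (iv5 D75355) D75356 F127204
theorem F129122 : act 1 n82262 = n80859 := d18_6 (iv1 F126792) (iv4 F129117) F129120 F128521 (iv5 F117950) D82262 (iv4 D80859) D80858 (iv5 F124575)
theorem F129123 : act 1 n38836 = n82787 := d15_1 F127523 (iv7 F129118) F129116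
def n84112 : Q := act 3 n38757
theorem D84112 : act 3 n38757 = n84112 := rfl
theorem F129125 : act 6 n84112 = n82936 := d7_2 F118374 D84112 (iv3 D82936)
theorem F129126 : act 7 n84112 = n84101 := d8_2 F118351 D84112 (iv3 D84101)
def n84113 : Q := act 5 n38757
theorem D84113 : act 5 n38757 = n84113 := rfl
theorem F129127 : act 2 n84113 = n75720 := d2_1 D84113 F113575 (iv2 F118352)
theorem F129128 : act 7 n84113 = n75721 := d13_2 F118351 D84113 F113580
def n84114 : Q := act 0 n38758
theorem D84114 : act 0 n38758 = n84114 := rfl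
def n84115 : Q := act 1 n38758
theorem D84115 : act 1 n38758 = n84115 := rfl
def n84116 : Q := act 2 n38758
theorem D84116 : act 2 n38758 = n84116 := rfl
theorem F129132 : act 7 n84116 = n84080 := d4_2 (iv7 F59663) D84116 F129062
theorem F129133 : act 1 n84116 = n84085 := d15_0 (iv0 D84085) (iv7 F59663) D84116
theorem F129135 : act 1 n84086 = n84116 := d15_1 D84086 F129132 F129062
def n84118 : Q := act 6 n38758
theorem D84118 : act 6 n38758 = n84118 := rfl
theorem F129138 : act 3 n84118 = n38760 := d7_1 D84118 (iv6 D38760) D38758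
theorem F129139 : act 7 n84118 = n83083 := d14_2 (iv7 F59663) D84118 (iv6 D83083) F59112 D38741
def n84119 : Q := act 6 n38759
theorem D84119 : act 6 n38759 = n84119 := rfl
def n84120 : Q := act 3 n38772
theorem D84120 : act 3 n38772 = n84120 := rfl
theorem F129140 : act 7 n84120 = n77618 := d8_2 F91570 D84120 (iv3 D77618)
def n84121 : Q := act 5 n38772
theorem D84121 : act 5 n38772 = n84121 := rfl
theorem F129141 : act 2 n84121 = n38778 := d2_1 D84121 (iv5 D38778) (iv2 F59670)
def n84122 : Q := act 5 n38774
theorem D84122 : act 5 n38774 = n84122 := rfl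
theorem F129144 : act 3 n84122 = n82462 := d6_1 D84122 F127042 F126997
theorem F129145 : act 6 n84122 = n80613 := d12_2 D38774 D84122 (iv5 D80613) F116649 (iv5 D38773)
theorem F129146 : act 0 n84122 = n38784 := d17_2 (iv1 F118595) D84122 F123049 (iv4 F117857) D36595 F123397 F123396 F123485 (iv4 F116604)
theorem F129147 : act 4 n84122 = n77812 := d17_4 (iv1 F121238) F121241 (iv1 F118595) D84122 (iv5 F123477) F123476 (iv5 D36637) F57478 F117804
theorem F129148 : act 0 n38783 = n84122 := d21_1 (iv5 F123055) (iv5 D84122) (iv6 D38774) F116634 (iv6 D21542) (iv5 D10285) F6757 (iv5 F12369) D16749 D34534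
def n84123 : Q := act 5 n38776
theorem D84123 : act 5 n38776 = n84123 := rfl
theorem F129150 : act 2 n84123 = n77624 := d2_1 D84123 F116523 (iv2 F91168)
theorem F129151 : act 7 n84123 = n56035 := d13_2 (iv7 F91170) D84123 (iv5 D56035)
theorem F129152 : act 0 n84123 = n77622 := d17_2 (iv1 F91167) D84123 (iv5 F116522) (iv4 D75748) (iv5 D34641) D34638 F91402 (iv0 F116645) F116648
theorem F129153 : act 1 n84123 = n77621 := d15_0 (iv0 D77621) D77624 (iv2 F129150)
def n84124 : Q := act 0 n38777
theorem D84124 : act 0 n38777 = n84124 := rfl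
def n84125 : Q := act 1 n38777
theorem D84125 : act 1 n38777 = n84125 := rfl
def n84126 : Q := act 2 n38777
theorem D84126 : act 2 n38777 = n84126 := rfl
theorem F129154 : act 4 n84126 = n38788 := d1_2 (iv4 F59676) D84126 (iv2 D38788)
def n84127 : Q := act 5 n38777
theorem D84127 : act 5 n38777 = n84127 := rfl
theorem F129155 : act 3 n84127 = n38778 := d6_1 D84127 (iv5 D38778) D38777
def n84128 : Q := act 6 n38777
theorem D84128 : act 6 n38777 = n84128 := rfl
theorem F129156 : act 3 n84128 = n38779 := d7_1 D84128 (iv6 D38779) D38777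
theorem F129157 : act 4 n84128 = n38790 := d10_1 D84128 (iv6 D38790) (iv4 F59676)
def n84132 : Q := act 6 n38778
theorem D84132 : act 6 n38778 = n84132 := rfl
def n84133 : Q := act 4 n38780
theorem D84133 : act 4 n38780 = n84133 := rfl
theorem F129162 : act 2 n84133 = n56087 := d1_1 D84133 (iv4 F118404) F123060
theorem F129163 : act 6 n84133 = n56014 := d10_2 (iv6 F123062) D84133 (iv4 F118379)
def n84134 : Q := act 5 n38780
theorem D84134 : act 5 n38780 = n84134 := rfl
theorem F129165 : act 6 n84134 = n82667 := d12_2 (iv6 F123062) D84134 F127349 F128392 (iv5 D83305)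
theorem F129166 : act 7 n84134 = n75746 := d13_2 F128017 D84134 (iv5 F128013)
theorem F129167 : act 0 n75351 = n84134 := d21_1 D75351 (iv5 D84134) F123062 (iv1 D38374) (iv6 D18310) F13542 (iv1 F12349) (iv5 F13256) D17908 (iv1 F116617)
theorem E13771 : n82667 = n75749 := ((c21_5 (iv5 F120388) (iv1 D75747) (iv5 D34641) D34642 D75749 (iv6 F129165) (iv5 D84134) (iv1 F123957) (iv5 D80613) F116649 (iv1 F118402))).symm
theorem F129168 : act 4 n75749 = n77761 := (sb E13771 F127348)
theorem F129169 : act 5 n75749 = n77888 := (sb E13771 F127349)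
theorem F129170 : act 6 n75749 = n84134 := (sb E13771 (iv6 F129165))
theorem F129171 : act 7 n75749 = n37984 := (sb E13771 (iv7 D82667))
theorem F129172 : act 0 n84134 = n75741 := d21_10 (iv5 D75741) F116618 (iv5 F33889) (iv6 D21542) (iv1 F21592) D18231 D38127 (iv1 F119107) (iv5 F129169) F129170
def n84135 : Q := act 4 n38781
theorem D84135 : act 4 n38781 = n84135 := rfl
theorem F129173 : act 7 n84135 = n56087 := d11_2 (iv7 F123059) D84135 (iv4 F118404)
theorem F129174 : act 0 n84135 = n40264 := d17_0 F123359 (iv1 D80271) (iv5 D36571) F28714 (iv5 F28845) (iv0 F116651) D18439 D38781 D84135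
theorem F129175 : act 1 n84133 = n40264 := d15_0 (iv0 F129174) F129173 (iv2 F129162)
def n84136 : Q := act 6 n38781
theorem D84136 : act 6 n38781 = n84136 := rfl
theorem F129176 : act 2 n84136 = n82671 := d3_1 D84136 (iv6 F128014) (iv2 F128015)
theorem F129178 : act 5 n84136 = n45286 := d12_1 D84136 (iv6 F118495) (iv5 D37988) D37989 (iv5 F123058)
theorem F129179 : act 7 n84136 = n58147 := d14_2 (iv7 F123059) D84136 (iv6 D58147) F118407 D38396
theorem F129180 : act 1 n83339 = n84136 := d15_1 D83339 F129179 F118424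
theorem F129181 : act 1 n84136 = n83338 := d15_0 (iv0 D83338) (iv7 F127359) (iv2 F129176)
def n84138 : Q := act 3 n38782
theorem D84138 : act 3 n38782 = n84138 := rfl
theorem F129184 : act 4 n84138 = n38797 := d5_2 D38782 D84138 (iv3 D38797) (iv4 D18444) (iv3 F29603)
theorem F129185 : act 6 n84138 = n83061 := d7_2 (iv6 F59678) D84138 (iv3 D83061)
def n84139 : Q := act 6 n38783
theorem D84139 : act 6 n38783 = n84139 := rfl
theorem F129186 : act 2 n84139 = n81752 := d3_1 D84139 (iv6 D81752) (iv2 F123052)
def n84140 : Q := act 2 n38786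
theorem D84140 : act 2 n38786 = n84140 := rfl
theorem F129187 : act 7 n38787 = n84140 := d15_2 (iv0 D38786) D38787 (iv2 D84140)
def n84141 : Q := act 3 n38786
theorem D84141 : act 3 n38786 = n84141 := rfl
theorem F129188 : act 4 n84141 = n83901 := d20_6 F29457 (iv1 F13530) D8672 D18441 D38786 D84141 (iv1 D83901) (iv4 D38640) (iv3 D18390) (iv1 F29460)
def n84142 : Q := act 4 n38786
theorem D84142 : act 4 n38786 = n84142 := rfl
def n84145 : Q := act 7 n38786
theorem D84145 : act 7 n38786 = n84145 := rfl
theorem F129189 : act 2 n84145 = n38787 := d4_1 D84145 F129187 (iv2 D84140)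
def n84146 : Q := act 3 n38787
theorem D84146 : act 3 n38787 = n84146 := rfl
theorem F129190 : act 4 n83713 = n84146 := d20_2 D38584 D83713 (iv3 D84146) (iv1 D38787) (iv3 D18441) (iv4 D8672) (iv1 D3887) (iv4 F5847) (iv3 F13558) D18375
def n84147 : Q := act 4 n38787
theorem D84147 : act 4 n38787 = n84147 := rfl
theorem F129191 : act 3 n39401 = n84147 := d20_5 F28151 F91174 D19022 F30365 D39401 (iv4 D84147) (iv1 D38787) (iv4 F59676) (iv3 D38777) (iv1 F91188)
def n84148 : Q := act 5 n38787
theorem D84148 : act 5 n38787 = n84148 := rfl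
def n84149 : Q := act 6 n38787
theorem D84149 : act 6 n38787 = n84149 := rfl
def n84150 : Q := act 5 n38788
theorem D84150 : act 5 n38788 = n84150 := rfl
theorem F129192 : act 2 n84150 = n38789 := d2_1 D84150 (iv5 D38789) D38788
def n84151 : Q := act 6 n38788
theorem D84151 : act 6 n38788 = n84151 := rfl
theorem F129193 : act 2 n84151 = n38790 := d3_1 D84151 (iv6 D38790) D38788
def n84152 : Q := act 0 n38789
theorem D84152 : act 0 n38789 = n84152 := rfl
def n84153 : Q := act 1 n38789
theorem D84153 : act 1 n38789 = n84153 := rfl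
def n84154 : Q := act 4 n38789
theorem D84154 : act 4 n38789 = n84154 := rfl
def n84155 : Q := act 6 n38789
theorem D84155 : act 6 n38789 = n84155 := rfl
theorem F129194 : act 3 n84155 = n38792 := d7_1 D84155 (iv6 D38792) (iv3 F59682)
def n84156 : Q := act 0 n38790
theorem D84156 : act 0 n38790 = n84156 := rfl
def n84157 : Q := act 1 n38790
theorem D84157 : act 1 n38790 = n84157 := rfl
def n84158 : Q := act 5 n38790
theorem D84158 : act 5 n38790 = n84158 := rfl
theorem F129195 : act 3 n84158 = n38795 := d6_1 D84158 (iv5 D38795) (iv3 F59683)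
def n84159 : Q := act 7 n38790
theorem D84159 : act 7 n38790 = n84159 := rfl
theorem F129196 : act 3 n84159 = n38796 := d8_1 D84159 (iv7 D38796) (iv3 F59683)
theorem F129197 : act 6 n84159 = n83075 := d14_1 D84159 F128046 F59821 F59098 D38790
def n84160 : Q := act 3 n38791
theorem D84160 : act 3 n38791 = n84160 := rfl
def n84161 : Q := act 6 n38791
theorem D84161 : act 6 n38791 = n84161 := rfl
theorem F129198 : act 4 n84161 = n38792 := d10_1 D84161 (iv6 D38792) D38791
def n84163 : Q := act 1 n38792
theorem D84163 : act 1 n38792 = n84163 := rfl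
def n84164 : Q := act 5 n38792
theorem D84164 : act 5 n38792 = n84164 := rfl
theorem F129199 : act 6 n84164 = n38795 := d12_2 D38792 D84164 (iv5 D38795) (iv6 D18443) D18442
def n84165 : Q := act 7 n38792
theorem D84165 : act 7 n38792 = n84165 := rfl
def n84166 : Q := act 3 n38793
theorem D84166 : act 3 n38793 = n84166 := rfl
def n84167 : Q := act 4 n38795
theorem D84167 : act 4 n38795 = n84167 := rfl
theorem F129200 : act 0 n84167 = n81820 := d17_0 F127226 (iv1 F127230) (iv5 D82603) (iv4 D37915) (iv5 D18166) D18165 D37911 F118632 D84167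
theorem F129201 : act 1 n84167 = n82611 := d18_6 (iv1 F127996) F59189 F29635 (iv4 F29606) D38795 D84167 (iv4 D82611) F125769 (iv5 F127994)
def n84168 : Q := act 7 n38795
theorem D84168 : act 7 n38795 = n84168 := rfl
theorem F129202 : act 2 n84168 = n82578 := d4_1 D84168 (iv7 F128068) F128067
theorem F129203 : act 5 n84168 = n38796 := d13_1 D84168 (iv7 D38796) D38795
theorem F129204 : act 1 n45947 = n84168 := d15_1 F128070 (iv7 D84168) (iv2 F128067)
theorem F129205 : act 1 n84168 = n45966 := d15_1 F129204 F118911 (iv2 F118925)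
def n84169 : Q := act 0 n38797
theorem D84169 : act 0 n38797 = n84169 := rfl
def n84170 : Q := act 1 n38797
theorem D84170 : act 1 n38797 = n84170 := rfl
def n84171 : Q := act 2 n38797
theorem D84171 : act 2 n38797 = n84171 := rfl
theorem F129206 : act 3 n84171 = n84080 := d0_2 D38797 D84171 F129062 F59518 F29632
theorem F129207 : act 6 n84171 = n83069 := d3_2 (iv6 F59821) D84171 (iv2 D83069)
def n84172 : Q := act 5 n38797
theorem D84172 : act 5 n38797 = n84172 := rfl
theorem F129208 : act 3 n84172 = n38798 := d6_1 D84172 (iv5 D38798) D38797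
def n84173 : Q := act 6 n38798
theorem D84173 : act 6 n38798 = n84173 := rfl
theorem F129209 : act 2 n84173 = n84099 := d3_1 D84173 F129082 (iv2 F59822)
theorem F129210 : act 5 n84173 = n83074 := d12_1 D84173 (iv6 D83074) (iv5 D38232) (iv6 F29607) D38798
def n84174 : Q := act 3 n38801
theorem D84174 : act 3 n38801 = n84174 := rfl
theorem F129211 : act 4 n84174 = n39782 := d5_2 D38801 D84174 (iv3 D39782) (iv4 D18813) (iv3 F29637)
theorem F129212 : act 7 n84174 = n38851 := d8_2 (iv7 F59827) D84174 (iv3 D38851)
def n84175 : Q := act 5 n38801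
theorem D84175 : act 5 n38801 = n84175 := rfl
theorem F129213 : act 7 n84175 = n38852 := d13_2 (iv7 F59827) D84175 (iv5 D38852)
def n84176 : Q := act 3 n38811
theorem D84176 : act 3 n38811 = n84176 := rfl
theorem F129214 : act 4 n84176 = n38817 := d5_2 D38811 D84176 (iv3 D38817) (iv4 D18451) D18450
def n84177 : Q := act 5 n38811
theorem D84177 : act 5 n38811 = n84177 := rfl
def n84178 : Q := act 6 n38811
theorem D84178 : act 6 n38811 = n84178 := rfl
theorem F129219 : act 4 n84178 = n38813 := d10_1 D84178 (iv6 D38813) D38811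
theorem F129221 : act 0 n84178 = n55848 := d20_7 F53042 F53044 F42733 (iv3 F117690) F59209 (iv3 F59838) (iv4 F129219) F88336 F43451 D26946
def n84179 : Q := act 1 n38812
theorem D84179 : act 1 n38812 = n84179 := rfl
theorem F129222 : act 7 n84179 = n82475 := d15_2 (iv0 F128140) D84179 (iv2 F128137)
theorem F129223 : act 5 n75710 = n84179 := d13_3 F129222 (iv5 D82475) (iv7 F127049)
def n84180 : Q := act 4 n38812
theorem D84180 : act 4 n38812 = n84180 := rfl
theorem F129224 : act 0 n84180 = n78219 := d18_2 (iv1 D84179) D84180 F119414 F56321 (iv4 F89252) (iv0 F118738) F113563 D75710 F129223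
def n84182 : Q := act 5 n38813
theorem D84182 : act 5 n38813 = n84182 := rfl
theorem F129226 : act 2 n84182 = n82438 := d2_1 D84182 (iv5 F127014) F125868
theorem F129228 : act 7 n84182 = n75792 := d13_2 F128148 D84182 (iv5 F128150)
theorem F129229 : act 0 n84182 = n56697 := d21_1 D84182 (iv5 D56697) (iv6 D27250) (iv1 F21772) D18131 F29299 D37813 D82430 (iv6 F128146) F128151
theorem F129230 : act 1 n84182 = n82440 := d15_1 (iv0 F129229) (iv7 D82440) (iv2 F89666)
def n84183 : Q := act 0 n38817
theorem D84183 : act 0 n38817 = n84183 := rfl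
def n84184 : Q := act 1 n38817
theorem D84184 : act 1 n38817 = n84184 := rfl
def n84185 : Q := act 2 n38817
theorem D84185 : act 2 n38817 = n84185 := rfl
def n84186 : Q := act 5 n38817
theorem D84186 : act 5 n38817 = n84186 := rfl
theorem F129232 : act 3 n84186 = n38818 := d6_1 D84186 (iv5 D38818) D38817
def n84187 : Q := act 6 n38817
theorem D84187 : act 6 n38817 = n84187 := rfl
theorem F129233 : act 3 n84187 = n38819 := d7_1 D84187 (iv6 D38819) D38817
def n84188 : Q := act 0 n38818
theorem D84188 : act 0 n38818 = n84188 := rfl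
theorem F129234 : act 5 n84188 = n45967 := d17_3 (iv1 F121802) D38818 D84188 F72544 D45971 (iv0 F72545) (iv5 D45829) (iv0 D21920) (iv4 F34411)
theorem F129235 : act 1 n38835 = n84188 := d15_0 (iv0 D84188) (iv7 F126956) F126955
theorem F129236 : act 2 n82590 = n84188 := d2_3 F129234 F118913 D82590
def n84189 : Q := act 1 n38818
theorem D84189 : act 1 n38818 = n84189 := rfl
theorem F129237 : act 1 n84189 = n38835 := d15_1 D84189 (iv7 F126935) F126934
theorem F129238 : act 7 n84189 = n82590 := d15_2 (iv0 D84188) D84189 F129236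
theorem F129239 : act 5 n75725 = n84189 := d13_3 F129238 (iv5 D82590) (iv7 F118737)
def n84190 : Q := act 4 n38818
theorem D84190 : act 4 n38818 = n84190 := rfl
def n84191 : Q := act 6 n38818
theorem D84191 : act 6 n38818 = n84191 := rfl
def n84192 : Q := act 5 n38819
theorem D84192 : act 5 n38819 = n84192 := rfl
theorem F129240 : act 2 n84192 = n82521 := d2_1 D84192 (iv5 F127167) F126936
theorem F129241 : act 7 n84192 = n82520 := d13_2 F128351 D84192 (iv5 F128352)
theorem F129242 : act 0 n84192 = n45893 := d17_2 (iv1 F128316) D84192 (iv5 D45893) F34454 D21949 D45903 (iv5 F72492) (iv0 F72538) (iv4 F128314)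
theorem F129243 : act 1 n84192 = n82523 := d17_6 F54654 D34651 F59851 (iv5 D38825) (iv4 F59841) D84192 F127168 F72486 F113033
def n84193 : Q := act 4 n38821
theorem D84193 : act 4 n38821 = n84193 := rfl
theorem F129244 : act 7 n84193 = n81825 := d11_2 (iv7 F117758) D84193 (iv4 D81825)
def n84194 : Q := act 0 n38822
theorem D84194 : act 0 n38822 = n84194 := rfl
theorem F129245 : act 4 n84194 = n45971 := d18_3 (iv1 D38821) D38822 D84194 (iv5 D45971) (iv4 F72544) F118912 F54880 D34633 F59847
theorem F129246 : act 1 n38837 = n84194 := d15_0 (iv0 D84194) (iv7 F126960) F126959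
def n84195 : Q := act 1 n38822
theorem D84195 : act 1 n38822 = n84195 := rfl
theorem F129247 : act 1 n84195 = n38837 := d15_1 D84195 (iv7 F126944) F126943
def n84196 : Q := act 3 n38822
theorem D84196 : act 3 n38822 = n84196 := rfl
def n84197 : Q := act 5 n38822
theorem D84197 : act 5 n38822 = n84197 := rfl
def n84198 : Q := act 6 n38822
theorem D84198 : act 6 n38822 = n84198 := rfl
theorem F129248 : act 4 n84198 = n38823 := d10_1 D84198 (iv6 D38823) D38822
def n84199 : Q := act 5 n38823
theorem D84199 : act 5 n38823 = n84199 := rfl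
theorem F129249 : act 2 n84199 = n75798 := d2_1 D84199 (iv5 F126946) F126945
def n84200 : Q := act 4 n38825
theorem D84200 : act 4 n38825 = n84200 := rfl
theorem F129251 : act 2 n84200 = n75797 := d1_1 D84200 (iv4 D75797) (iv2 F125859)
theorem F129252 : act 7 n84200 = n75793 := d11_2 (iv7 F125860) D84200 (iv4 D75793)
theorem F129253 : act 0 n84200 = n45904 := d18_2 F59851 D84200 (iv4 D45904) (iv5 D21949) (iv4 F34454) D45892 (iv4 F72481) F54655 D34651
def n84201 : Q := act 3 n38831
theorem D84201 : act 3 n38831 = n84201 := rfl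
theorem F129254 : act 4 n84201 = n38834 := d5_2 D38831 D84201 (iv3 D38834) (iv4 D18456) D18455
theorem F129255 : act 7 n84201 = n77548 := d8_2 (iv7 F126099) D84201 (iv3 D77548)
def n84202 : Q := act 5 n38831
theorem D84202 : act 5 n38831 = n84202 := rfl
theorem F129256 : act 2 n84202 = n77555 := d2_1 D84202 (iv5 D77555) (iv2 F126098)
theorem F129257 : act 7 n84202 = n77550 := d13_2 (iv7 F126099) D84202 (iv5 D77550)
theorem F129258 : act 1 n77555 = n80402 := d15_0 F123553 (iv7 F129257) F129256
def n84203 : Q := act 6 n38831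
theorem D84203 : act 6 n38831 = n84203 := rfl
theorem F129260 : act 4 n84203 = n38833 := d10_1 D84203 (iv6 D38833) D38831
theorem F129261 : act 0 n56108 = n84203 := d20_1 (iv4 F88770) F129260 F59854 (iv1 F117945) F58601 F42745 (iv1 F53094) (iv4 F53075) (iv3 F125957) (iv1 D56116)
def n84205 : Q := act 1 n38832
theorem D84205 : act 1 n38832 = n84205 := rfl
theorem F129262 : act 6 n38951 = n84205 := d21_9 (iv5 D38832) (iv1 F126030) D56273 F89003 (iv1 F56759) (iv6 F120376) (iv5 D79109) F117852 D38951 (iv1 D84205)
theorem F129263 : act 3 n84205 = n38963 := d7_1 F129262 (iv6 D38963) (iv3 F59981)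
theorem F129264 : act 5 n84205 = n75477 := d12_1 F129262 (iv6 D75477) (iv5 F123049) F123050 D38951
theorem F129265 : act 0 n38833 = n82671 := d21_4 (iv5 F129264) (iv1 D84205) (iv5 D38832) D38833 (iv6 F128014) F128013 (iv1 F120393) (iv5 D79110) D79111 (iv1 F123412)
theorem F129266 : act 1 n38833 = n58147 := d15_1 (iv0 F129265) (iv7 F129179) F129176
def n84206 : Q := act 4 n38832
theorem D84206 : act 4 n38832 = n84206 := rfl
theorem F129267 : act 1 n84206 = n77820 := d18_6 (iv1 F125925) (iv4 F56122) (iv1 F126032) (iv4 D38831) D38832 D84206 F117637 (iv0 F125930) (iv5 D40285)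
def n84207 : Q := act 6 n38832
theorem D84207 : act 6 n38832 = n84207 := rfl
theorem F129268 : act 3 n84207 = n38838 := d7_1 D84207 (iv6 D38838) (iv3 F59853)
theorem F129269 : act 0 n75164 = n84207 := d21_4 (iv5 D36004) F28433 D34421 D75164 (iv6 D84207) (iv5 D38832) (iv1 F126030) D56273 F89003 (iv1 F56759)
theorem F129270 : act 4 n77928 = n84207 := d20_2 (iv4 F56234) D77928 F129268 (iv1 F112876) F67480 (iv4 F67495) (iv1 F67505) (iv4 D35775) F125999 (iv1 D35558)
theorem F129271 : act 6 n84206 = n77928 := d10_0 F129270 (iv6 D84207) D84206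
def n84208 : Q := act 5 n38833
theorem D84208 : act 5 n38833 = n84208 := rfl
theorem F129272 : act 2 n84208 = n82660 := d2_1 D84208 F127340 F126157
theorem F129274 : act 7 n84208 = n82261 := d13_2 F128552 D84208 (iv5 F128551)
theorem F129275 : act 0 n84208 = n82623 := d21_7 (iv5 D79110) F116624 F91402 (iv6 F116665) (iv1 F125994) D38833 D84208 (iv5 D82623) (iv6 F120391) (iv1 F120393)
theorem F129276 : act 0 n45254 = n84208 := d21_1 D45254 (iv5 D84208) (iv6 D38833) (iv1 F126030) (iv6 D27112) (iv5 D12987) F9597 D8571 D18179 (iv1 F118227)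
theorem E13772 : n82661 = n82261 := (c15_2 (iv0 D82660) D82661 (iv7 F129274) F129272)
theorem F129277 : act 0 n82261 = n37983 := (sb E13772 (iv1 D82661))
def n84209 : Q := act 0 n38834
theorem D84209 : act 0 n38834 = n84209 := rfl
def n84210 : Q := act 1 n38834
theorem D84210 : act 1 n38834 = n84210 := rfl
def n84211 : Q := act 2 n38834
theorem D84211 : act 2 n38834 = n84211 := rfl
def n84212 : Q := act 5 n38834
theorem D84212 : act 5 n38834 = n84212 := rfl
theorem F129279 : act 3 n84212 = n38835 := d6_1 D84212 (iv5 D38835) D38834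
def n84213 : Q := act 6 n38834
theorem D84213 : act 6 n38834 = n84213 := rfl
theorem F129280 : act 3 n84213 = n38836 := d7_1 D84213 (iv6 D38836) D38834
def n84214 : Q := act 4 n38835
theorem D84214 : act 4 n38835 = n84214 := rfl
def n84215 : Q := act 6 n38835
theorem D84215 : act 6 n38835 = n84215 := rfl
def n84216 : Q := act 5 n38836
theorem D84216 : act 5 n38836 = n84216 := rfl
theorem F129284 : act 1 n84216 = n46210 := d17_6 D16743 D34519 F59858 (iv5 D38839) (iv4 F59855) D84216 (iv5 D46210) (iv0 F118288) F27484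
def n84217 : Q := act 3 n38837
theorem D84217 : act 3 n38837 = n84217 := rfl
def n84218 : Q := act 5 n38837
theorem D84218 : act 5 n38837 = n84218 := rfl
def n84219 : Q := act 6 n38837
theorem D84219 : act 6 n38837 = n84219 := rfl
theorem F129285 : act 4 n84219 = n38838 := d10_1 D84219 (iv6 D38838) D38837
def n84220 : Q := act 4 n38839
theorem D84220 : act 4 n38839 = n84220 := rfl
theorem F129288 : act 0 n84220 = n46231 := d18_2 F59858 D84220 (iv4 D46231) (iv5 D22115) D22114 F118286 F29376 F27490 D34519
theorem F129289 : act 1 n84220 = n46215 := d15_1 (iv0 F129288) (iv7 F124584) F124582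
def n84222 : Q := act 1 n38842
theorem D84222 : act 1 n38842 = n84222 := rfl
def n84223 : Q := act 4 n38842
theorem D84223 : act 4 n38842 = n84223 := rfl
theorem F129290 : act 7 n84223 = n78141 := d11_2 (iv7 F113566) D84223 (iv4 F119313)
theorem F129291 : act 0 n84223 = n78144 := d20_7 F41676 (iv1 D18860) (iv4 D8829) (iv3 F13584) D18459 D38842 D84223 F119316 F56301 (iv1 F28286)
theorem E13773 : n84222 = n75276 := (c18_9 F124310 D38811 F59836 F56297 (iv5 F56302) (iv4 F119316) (iv0 F129291) (iv4 D84223) D84222 F112867)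
theorem F129292 : act 0 n75276 = n38842 := (sb E13773 (iv1 D84222))
theorem F129293 : act 0 n78061 = n84223 := d20_7 (iv4 F126979) (iv1 F126980) (iv4 F121713) F121711 F116111 F56466 D78061 (iv4 D84223) (iv3 D38842) (iv1 F58655)
theorem F129294 : act 2 n84223 = n78140 := d15_3 (iv0 D78140) D78141 (iv7 F129290)
theorem F129295 : act 4 n78140 = n81858 := d1_2 D84223 F129294 (iv2 F125874)
def n84224 : Q := act 6 n38842
theorem D84224 : act 6 n38842 = n84224 := rfl
theorem F129296 : act 3 n84224 = n38844 := d7_1 D84224 (iv6 D38844) D38842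
def n84225 : Q := act 0 n38843
theorem D84225 : act 0 n38843 = n84225 := rfl
theorem F129297 : act 4 n84225 = n79324 := d18_3 D18459 D38843 D84225 F121913 (iv4 F59148) F121805 (iv4 D18451) (iv0 D8676) D8678
theorem F129298 : act 1 n38847 = n84225 := d15_0 (iv0 D84225) (iv7 F113602) F113601
def n84226 : Q := act 3 n38843
theorem D84226 : act 3 n38843 = n84226 := rfl
def n84227 : Q := act 5 n38843
theorem D84227 : act 5 n38843 = n84227 := rfl
def n84228 : Q := act 6 n38843
theorem D84228 : act 6 n38843 = n84228 := rfl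
theorem F129300 : act 4 n84228 = n38844 := d10_1 D84228 (iv6 D38844) D38843
def n84229 : Q := act 0 n38844
theorem D84229 : act 0 n38844 = n84229 := rfl
def n84230 : Q := act 1 n38844
theorem D84230 : act 1 n38844 = n84230 := rfl
def n84231 : Q := act 3 n38847
theorem D84231 : act 3 n38847 = n84231 := rfl
def n84232 : Q := act 5 n38847
theorem D84232 : act 5 n38847 = n84232 := rfl
def n84233 : Q := act 3 n38849
theorem D84233 : act 3 n38849 = n84233 := rfl
def n84234 : Q := act 5 n38849
theorem D84234 : act 5 n38849 = n84234 := rfl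
def n84235 : Q := act 6 n38849
theorem D84235 : act 6 n38849 = n84235 := rfl
def n84236 : Q := act 3 n38850
theorem D84236 : act 3 n38850 = n84236 := rfl
def n84237 : Q := act 5 n38850
theorem D84237 : act 5 n38850 = n84237 := rfl
def n84238 : Q := act 6 n38850
theorem D84238 : act 6 n38850 = n84238 := rfl
def n84239 : Q := act 0 n38851
theorem D84239 : act 0 n38851 = n84239 := rfl
def n84240 : Q := act 1 n38851
theorem D84240 : act 1 n38851 = n84240 := rfl
def n84241 : Q := act 2 n38851
theorem D84241 : act 2 n38851 = n84241 := rfl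
theorem F129301 : act 4 n84241 = n39860 := d1_2 (iv4 F59861) D84241 (iv2 D39860)
theorem F129302 : act 6 n84241 = n38882 := d3_2 (iv6 F59862) D84241 (iv2 D38882)
def n84242 : Q := act 5 n38851
theorem D84242 : act 5 n38851 = n84242 := rfl
theorem F129303 : act 3 n84242 = n38852 := d6_1 D84242 (iv5 D38852) D38851
def n84243 : Q := act 0 n38852
theorem D84243 : act 0 n38852 = n84243 := rfl
def n84244 : Q := act 1 n38852
theorem D84244 : act 1 n38852 = n84244 := rfl
def n84245 : Q := act 4 n38852
theorem D84245 : act 4 n38852 = n84245 := rfl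
def n84246 : Q := act 6 n38852
theorem D84246 : act 6 n38852 = n84246 := rfl
theorem F129304 : act 5 n84246 = n38887 := d12_1 D84246 (iv6 D38887) (iv5 D18475) (iv6 F29641) D38852
def n84247 : Q := act 6 n38853
theorem D84247 : act 6 n38853 = n84247 := rfl
theorem F129305 : act 2 n84247 = n75274 := d3_1 D84247 (iv6 D75274) F59864
theorem F129306 : act 3 n84247 = n39877 := d7_1 D84247 (iv6 D39877) F59867
def n84248 : Q := act 3 n38854
theorem D84248 : act 3 n38854 = n84248 := rfl
theorem F129308 : act 4 n84248 = n38858 := d5_2 D38854 D84248 (iv3 D38858) (iv4 D18464) (iv3 F29642)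
theorem F129309 : act 7 n84248 = n78468 := d8_2 (iv7 F59869) D84248 (iv3 D78468)
def n84249 : Q := act 7 n38855
theorem D84249 : act 7 n38855 = n84249 := rfl
theorem F129312 : act 5 n84249 = n43256 := d13_1 D84249 (iv7 D43256) (iv5 F59873)
def n84250 : Q := act 3 n38856
theorem D84250 : act 3 n38856 = n84250 := rfl
theorem F129315 : act 4 n84250 = n55788 := d5_2 (iv4 F59874) D84250 (iv3 D55788) (iv4 D26922) (iv3 F31222)
theorem F129316 : act 7 n84250 = n75303 := d8_2 F59877 D84250 (iv3 D75303)
def n84251 : Q := act 5 n38856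
theorem D84251 : act 5 n38856 = n84251 := rfl
theorem F129317 : act 2 n84251 = n75292 := d2_1 D84251 F112889 F59876
theorem F129319 : act 4 n84251 = n41416 := d16_2 (iv4 F59874) D84251 F63861 F31252 (iv5 F16856) (iv4 F17568) D19498 (iv7 F31934) F31933
def n84252 : Q := act 6 n38856
theorem D84252 : act 6 n38856 = n84252 := rfl
theorem F129322 : act 2 n84252 = n75302 := d3_1 D84252 (iv6 D75302) F59876
theorem F129323 : act 4 n84252 = n41398 := d10_1 D84252 (iv6 D41398) (iv4 F59874)
def n84253 : Q := act 3 n38857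
theorem D84253 : act 3 n38857 = n84253 := rfl
theorem F129324 : act 7 n84253 = n75301 := d8_2 (iv7 F59879) D84253 (iv3 D75301)
def n84254 : Q := act 5 n38857
theorem D84254 : act 5 n38857 = n84254 := rfl
theorem F129325 : act 2 n84254 = n75291 := d2_1 D84254 F112885 F59881
theorem F129326 : act 4 n84254 = n41417 := d9_1 D84254 F63864 (iv4 F31932) (iv5 D20115) (iv4 F17591) D19499 (iv4 F59874) D84251 F129319 F63861 F31252 (iv5 F16856) (iv4 F17568) D19498 (iv4 F59880)
theorem F129327 : act 7 n84254 = n75292 := d13_2 (iv7 F59879) D84254 F112889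
theorem F129328 : act 0 n84254 = n75294 := d17_2 (iv1 F59878) D84254 F112894 F54697 F27443 F17487 D9616 (iv0 F17608) D18467
theorem F129329 : act 1 n84254 = n75267 := d17_6 F28509 (iv5 D9170) D9168 D19498 (iv4 F59880) D84254 (iv5 D75267) (iv0 F56992) (iv4 D36255)
def n84255 : Q := act 6 n38857
theorem D84255 : act 6 n38857 = n84255 := rfl
theorem F129330 : act 2 n84255 = n75304 := d3_1 D84255 (iv6 D75304) F59881
theorem F129331 : act 4 n84255 = n41397 := d10_1 D84255 (iv6 D41397) (iv4 F59880)
def n84256 : Q := act 0 n38858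
theorem D84256 : act 0 n38858 = n84256 := rfl
def n84257 : Q := act 1 n38858
theorem D84257 : act 1 n38858 = n84257 := rfl
def n84258 : Q := act 2 n38858
theorem D84258 : act 2 n38858 = n84258 := rfl
theorem F129332 : act 3 n84258 = n75307 := d0_2 D38858 D84258 (iv2 D75307) (iv3 D34480) (iv2 F29645)
def n84259 : Q := act 5 n38858
theorem D84259 : act 5 n38858 = n84259 := rfl
theorem F129333 : act 3 n84259 = n38859 := d6_1 D84259 (iv5 D38859) D38858
def n84260 : Q := act 6 n38859
theorem D84260 : act 6 n38859 = n84260 := rfl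
theorem F129334 : act 2 n84260 = n75311 := d3_1 D84260 (iv6 D75311) (iv2 F59882)
theorem F129335 : act 4 n84260 = n47756 := d10_1 D84260 (iv6 D47756) (iv4 F59883)
def n84261 : Q := act 3 n38860
theorem D84261 : act 3 n38860 = n84261 := rfl
theorem F129336 : act 4 n84261 = n38863 := d5_2 D38860 D84261 (iv3 D38863) (iv4 D18467) (iv3 F29646)
def n84262 : Q := act 6 n38860
theorem D84262 : act 6 n38860 = n84262 := rfl
theorem F129338 : act 2 n84262 = n77921 := d3_1 D84262 (iv6 D77921) (iv2 F59884)
theorem F129339 : act 4 n84262 = n38861 := d10_1 D84262 (iv6 D38861) D38860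
def n84263 : Q := act 0 n38861
theorem D84263 : act 0 n38861 = n84263 := rfl
def n84264 : Q := act 1 n38861
theorem D84264 : act 1 n38861 = n84264 := rfl
def n84265 : Q := act 1 n38862
theorem D84265 : act 1 n38862 = n84265 := rfl
def n84266 : Q := act 7 n38862
theorem D84266 : act 7 n38862 = n84266 := rfl
theorem F129340 : act 3 n84266 = n42070 := d8_1 D84266 (iv7 D42070) (iv3 F59889)
theorem F129341 : act 6 n84266 = n43511 := d14_1 D84266 F68380 F35221 (iv7 F29649) D38862
theorem F129342 : act 1 n43649 = n84266 := d15_1 (iv0 F75913) (iv7 D84266) (iv2 F66449)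
def n84267 : Q := act 0 n38863
theorem D84267 : act 0 n38863 = n84267 := rfl
theorem F129343 : act 1 n75307 = n84267 := d15_0 (iv0 D84267) F59890 D75307
def n84268 : Q := act 1 n38863
theorem D84268 : act 1 n38863 = n84268 := rfl
def n84269 : Q := act 2 n38863
theorem D84269 : act 2 n38863 = n84269 := rfl
theorem F129344 : act 7 n84269 = n75307 := d4_2 (iv7 F59890) D84269 (iv2 D75307)
theorem F129345 : act 1 n84269 = n75305 := d15_0 (iv0 D75305) (iv7 F59890) D84269
theorem F129347 : act 1 n75306 = n84269 := d15_1 D75306 F129344 (iv2 D75307)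
def n84270 : Q := act 5 n38863
theorem D84270 : act 5 n38863 = n84270 := rfl
theorem F129348 : act 3 n84270 = n38864 := d6_1 D84270 (iv5 D38864) D38863
theorem F129349 : act 7 n84270 = n75308 := d13_2 (iv7 F59890) D84270 (iv5 D75308)
def n84271 : Q := act 6 n38863
theorem D84271 : act 6 n38863 = n84271 := rfl
theorem F129350 : act 3 n84271 = n38865 := d7_1 D84271 (iv6 D38865) D38863
def n84272 : Q := act 6 n38864
theorem D84272 : act 6 n38864 = n84272 := rfl
theorem F129351 : act 4 n84272 = n47754 := d10_1 D84272 (iv6 D47754) (iv4 F59891)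
def n84273 : Q := act 0 n38865
theorem D84273 : act 0 n38865 = n84273 := rfl
def n84274 : Q := act 1 n38865
theorem D84274 : act 1 n38865 = n84274 := rfl
def n84275 : Q := act 5 n38865
theorem D84275 : act 5 n38865 = n84275 := rfl
def n84276 : Q := act 4 n38866
theorem D84276 : act 4 n38866 = n84276 := rfl
def n84277 : Q := act 0 n38867
theorem D84277 : act 0 n38867 = n84277 := rfl
def n84278 : Q := act 1 n38867
theorem D84278 : act 1 n38867 = n84278 := rfl
def n84279 : Q := act 7 n38867
theorem D84279 : act 7 n38867 = n84279 := rfl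
theorem F129352 : act 3 n84279 = n38873 := d8_1 D84279 (iv7 D38873) (iv3 F59894)
def n84280 : Q := act 0 n38868
theorem D84280 : act 0 n38868 = n84280 := rfl
def n84281 : Q := act 1 n38868
theorem D84281 : act 1 n38868 = n84281 := rfl
theorem F129355 : act 4 n78003 = n84281 := d20_6 (iv4 D17237) (iv1 D8085) D8086 D17241 D35585 D78003 (iv1 D84281) (iv4 F116216) (iv3 D77405) (iv1 F56062)
def n84282 : Q := act 2 n38868
theorem D84282 : act 2 n38868 = n84282 := rfl
def n84283 : Q := act 5 n38868
theorem D84283 : act 5 n38868 = n84283 := rfl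
theorem F129356 : act 3 n84283 = n38869 := d6_1 D84283 (iv5 D38869) D38868
def n84285 : Q := act 6 n38869
theorem D84285 : act 6 n38869 = n84285 := rfl
theorem F129358 : act 4 n84285 = n47726 := d10_1 D84285 (iv6 D47726) (iv4 F59896)
def n84286 : Q := act 0 n38870
theorem D84286 : act 0 n38870 = n84286 := rfl
def n84287 : Q := act 1 n38870
theorem D84287 : act 1 n38870 = n84287 := rfl
theorem F129359 : act 1 n84287 = n83300 := d15_1 D84287 F128375 F112895
def n84288 : Q := act 5 n38870
theorem D84288 : act 5 n38870 = n84288 := rfl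
def n84289 : Q := act 7 n38870
theorem D84289 : act 7 n38870 = n84289 := rfl
theorem F129360 : act 2 n84289 = n83300 := d4_1 D84289 F128375 F112895
theorem F129361 : act 4 n84289 = n38873 := d11_1 D84289 (iv7 D38873) (iv4 F59897)
theorem F129362 : act 6 n84289 = n82915 := d14_1 D84289 (iv7 D82915) F58993 F54672 D38870
theorem F129363 : act 1 n83300 = n84286 := d15_0 (iv0 D84286) D84289 F129360
def n84290 : Q := act 2 n38871
theorem D84290 : act 2 n38871 = n84290 := rfl
theorem F129364 : act 7 n38872 = n84290 := d15_2 (iv0 D38871) D38872 (iv2 D84290)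
def n84291 : Q := act 3 n38871
theorem D84291 : act 3 n38871 = n84291 := rfl
def n84292 : Q := act 4 n38871
theorem D84292 : act 4 n38871 = n84292 := rfl
def n84293 : Q := act 5 n38871
theorem D84293 : act 5 n38871 = n84293 := rfl
theorem F129365 : act 6 n84293 = n84230 := d21_3 (iv5 F29654) D38871 D84293 (iv1 D84230) (iv6 D38844) (iv5 F113011) (iv1 F113071) F126940 F126942 (iv1 D38866)
theorem F129366 : act 0 n75798 = n84293 := d21_10 (iv5 D84293) (iv1 F59902) (iv5 F113689) F113690 (iv1 F59031) D38479 F59321 F58773 F58646 D75798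
def n84294 : Q := act 6 n38871
theorem D84294 : act 6 n38871 = n84294 := rfl
theorem F129367 : act 5 n84294 = n75297 := d21_6 (iv5 D16723) (iv1 F17495) F17497 D18471 D38871 D84294 (iv1 D75297) (iv5 F54912) (iv6 D34666) F27554
theorem F129368 : act 0 n84294 = n84199 := d21_10 (iv5 D84199) F127824 F127823 (iv6 F126942) (iv1 D82406) D82408 F126946 F129366 (iv5 D84293) D84294
def n84295 : Q := act 7 n38871
theorem D84295 : act 7 n38871 = n84295 := rfl
theorem F129369 : act 2 n84295 = n38872 := d4_1 D84295 F129364 (iv2 D84290)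
def n84296 : Q := act 3 n38872
theorem D84296 : act 3 n38872 = n84296 := rfl
def n84297 : Q := act 4 n38872
theorem D84297 : act 4 n38872 = n84297 := rfl
def n84298 : Q := act 5 n38872
theorem D84298 : act 5 n38872 = n84298 := rfl
theorem F129370 : act 0 n84298 = n75798 := d21_1 D84298 (iv5 F126946) (iv6 D82408) (iv1 F117724) F58346 (iv5 D27683) (iv1 F117668) (iv5 F29505) D38370 (iv1 F59898)
theorem F129371 : act 6 n84298 = n75296 := d21_3 F113689 (iv1 F59898) D84298 (iv1 F112897) F59901 F58995 (iv1 F29415) D18303 D38352 (iv1 F113692)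
theorem F129372 : act 6 n84229 = n38872 := d21_5 (iv5 D37449) (iv1 F117792) F113011 D38844 D84229 D84298 F129370 (iv5 F126946) (iv6 D82408) (iv1 F117724)
def n84299 : Q := act 0 n38874
theorem D84299 : act 0 n38874 = n84299 := rfl
def n84300 : Q := act 1 n38874
theorem D84300 : act 1 n38874 = n84300 := rfl
def n84301 : Q := act 2 n38874
theorem D84301 : act 2 n38874 = n84301 := rfl
def n84302 : Q := act 5 n38874
theorem D84302 : act 5 n38874 = n84302 := rfl
theorem F129373 : act 3 n84302 = n38875 := d6_1 D84302 (iv5 D38875) D38874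
def n84303 : Q := act 6 n38874
theorem D84303 : act 6 n38874 = n84303 := rfl
theorem F129374 : act 3 n84303 = n38876 := d7_1 D84303 (iv6 D38876) D38874
def n84304 : Q := act 6 n38875
theorem D84304 : act 6 n38875 = n84304 := rfl
theorem F129375 : act 4 n84304 = n47707 := d10_1 D84304 (iv6 D47707) (iv4 F59903)
def n84305 : Q := act 5 n38876
theorem D84305 : act 5 n38876 = n84305 := rfl
theorem F129376 : act 0 n84305 = n83265 := d17_2 (iv1 F119073) D84305 (iv5 D83265) (iv4 D38337) (iv5 D18298) (iv0 D8627) D8629 D18306 D38363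
theorem F129377 : act 0 n83273 = n84305 := d21_7 F54664 (iv1 F59913) F59914 D47685 F128346 (iv6 D83274) D83273 (iv5 D84305) (iv6 D38876) (iv1 F54666)
def n84306 : Q := act 7 n38876
theorem D84306 : act 7 n38876 = n84306 := rfl
theorem F129378 : act 2 n84306 = n83278 := d4_1 D84306 F128354 F113707
theorem F129379 : act 4 n84306 = n41393 := d11_1 D84306 (iv7 D41393) (iv4 F59905)
theorem F129380 : act 1 n82909 = n84306 := d15_1 (iv0 F127728) (iv7 D84306) (iv2 F113707)
theorem F129381 : act 1 n84306 = n58092 := d15_1 F129380 (iv7 F117903) (iv2 F127726)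
def n84307 : Q := act 0 n38877
theorem D84307 : act 0 n38877 = n84307 := rfl
def n84308 : Q := act 1 n38877
theorem D84308 : act 1 n38877 = n84308 := rfl
def n84309 : Q := act 2 n38877
theorem D84309 : act 2 n38877 = n84309 := rfl
def n84310 : Q := act 5 n38877
theorem D84310 : act 5 n38877 = n84310 := rfl
theorem F129382 : act 3 n84310 = n38878 := d6_1 D84310 (iv5 D38878) D38877
def n84311 : Q := act 6 n38877
theorem D84311 : act 6 n38877 = n84311 := rfl
theorem F129383 : act 3 n84311 = n38879 := d7_1 D84311 (iv6 D38879) D38877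
def n84312 : Q := act 6 n38878
theorem D84312 : act 6 n38878 = n84312 := rfl
theorem F129384 : act 4 n84312 = n41418 := d10_1 D84312 (iv6 D41418) (iv4 F59906)
def n84313 : Q := act 0 n38879
theorem D84313 : act 0 n38879 = n84313 := rfl
def n84314 : Q := act 1 n38879
theorem D84314 : act 1 n38879 = n84314 := rfl
def n84315 : Q := act 5 n38879
theorem D84315 : act 5 n38879 = n84315 := rfl
def n84316 : Q := act 7 n38879
theorem D84316 : act 7 n38879 = n84316 := rfl
theorem F129385 : act 6 n84316 = n83278 := d14_1 D84316 F128354 (iv6 D75815) F54918 D38879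
def n84317 : Q := act 2 n38880
theorem D84317 : act 2 n38880 = n84317 := rfl
theorem F129386 : act 7 n38881 = n84317 := d15_2 (iv0 D38880) D38881 (iv2 D84317)
def n84318 : Q := act 3 n38880
theorem D84318 : act 3 n38880 = n84318 := rfl
theorem F129387 : act 4 n84318 = n79207 := d20_6 (iv4 D18470) (iv1 D8686) D8687 D18474 D38880 D84318 (iv1 D79207) (iv4 F112879) (iv3 D75284) (iv1 F54694)
def n84319 : Q := act 4 n38880
theorem D84319 : act 4 n38880 = n84319 := rfl
def n84320 : Q := act 5 n38880
theorem D84320 : act 5 n38880 = n84320 := rfl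
def n84321 : Q := act 6 n38880
theorem D84321 : act 6 n38880 = n84321 := rfl
def n84322 : Q := act 7 n38880
theorem D84322 : act 7 n38880 = n84322 := rfl
theorem F129388 : act 2 n84322 = n38881 := d4_1 D84322 F129386 (iv2 D84317)
def n84323 : Q := act 3 n38881
theorem D84323 : act 3 n38881 = n84323 := rfl
def n84324 : Q := act 5 n38881
theorem D84324 : act 5 n38881 = n84324 := rfl
def n84325 : Q := act 6 n38881
theorem D84325 : act 6 n38881 = n84325 := rfl
def n84326 : Q := act 5 n38882
theorem D84326 : act 5 n38882 = n84326 := rfl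
theorem F129389 : act 2 n84326 = n38883 := d2_1 D84326 (iv5 D38883) D38882
def n84327 : Q := act 0 n38883
theorem D84327 : act 0 n38883 = n84327 := rfl
def n84328 : Q := act 1 n38883
theorem D84328 : act 1 n38883 = n84328 := rfl
def n84329 : Q := act 4 n38883
theorem D84329 : act 4 n38883 = n84329 := rfl
def n84330 : Q := act 6 n38883
theorem D84330 : act 6 n38883 = n84330 := rfl
theorem F129390 : act 3 n84330 = n38887 := d7_1 D84330 (iv6 D38887) (iv3 F59909)
def n84331 : Q := act 3 n38884
theorem D84331 : act 3 n38884 = n84331 := rfl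
theorem F129391 : act 5 n84331 = n47669 := d6_2 (iv5 F59910) D84331 (iv3 D47669)
def n84332 : Q := act 6 n38884
theorem D84332 : act 6 n38884 = n84332 := rfl
theorem F129392 : act 4 n84332 = n47694 := d10_1 D84332 (iv6 D47694) F59912
def n84333 : Q := act 3 n38885
theorem D84333 : act 3 n38885 = n84333 := rfl
theorem F129393 : act 5 n84333 = n47684 := d6_2 (iv5 F59914) D84333 (iv3 D47684)
def n84334 : Q := act 6 n38885
theorem D84334 : act 6 n38885 = n84334 := rfl
theorem F129394 : act 4 n84334 = n47681 := d10_1 D84334 (iv6 D47681) F59915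
def n84335 : Q := act 3 n38886
theorem D84335 : act 3 n38886 = n84335 := rfl
theorem F129395 : act 5 n84335 = n41359 := d6_2 (iv5 F59917) D84335 (iv3 D41359)
theorem F129396 : act 7 n84335 = n45757 := d8_2 (iv7 F59918) D84335 F72221
def n84336 : Q := act 6 n38886
theorem D84336 : act 6 n38886 = n84336 := rfl
theorem F129397 : act 2 n84336 = n41888 := d3_1 D84336 (iv6 D41888) (iv2 F59916)
theorem F129398 : act 4 n84336 = n38887 := d10_1 D84336 (iv6 D38887) D38886
def n84337 : Q := act 0 n38887
theorem D84337 : act 0 n38887 = n84337 := rfl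
def n84338 : Q := act 1 n38887
theorem D84338 : act 1 n38887 = n84338 := rfl
def n84339 : Q := act 7 n38887
theorem D84339 : act 7 n38887 = n84339 := rfl
def n84340 : Q := act 3 n38888
theorem D84340 : act 3 n38888 = n84340 := rfl
theorem F129399 : act 4 n84340 = n57266 := d5_2 (iv4 F59921) D84340 (iv3 F115010) F115011 F109448
theorem F129400 : act 7 n84340 = n57564 := d8_2 F74234 D84340 (iv3 F90716)
theorem F129401 : act 2 n57560 = n84340 := d1_3 F129399 F90714 D57560
def n84341 : Q := act 6 n38888
theorem D84341 : act 6 n38888 = n84341 := rfl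
theorem F129402 : act 4 n84341 = n83794 := d10_1 D84341 (iv6 D83794) (iv4 F59921)
def n84342 : Q := act 3 n38889
theorem D84342 : act 3 n38889 = n84342 := rfl
theorem F129403 : act 4 n84342 = n80708 := d20_6 (iv4 D15561) (iv1 F20765) D26256 D54316 F85708 D84342 (iv1 F124172) F61027 (iv3 D27017) (iv1 F26492)
def n84343 : Q := act 6 n38889
theorem D84343 : act 6 n38889 = n84343 := rfl
def n84344 : Q := act 0 n38890
theorem D84344 : act 0 n38890 = n84344 := rfl
def n84345 : Q := act 1 n38890
theorem D84345 : act 1 n38890 = n84345 := rfl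
def n84346 : Q := act 5 n38890
theorem D84346 : act 5 n38890 = n84346 := rfl
theorem F129405 : act 3 n84346 = n38893 := d6_1 D84346 (iv5 D38893) (iv3 F59923)
def n84347 : Q := act 7 n38890
theorem D84347 : act 7 n38890 = n84347 := rfl
theorem F129406 : act 3 n84347 = n38894 := d8_1 D84347 (iv7 D38894) (iv3 F59923)
def n84348 : Q := act 3 n38891
theorem D84348 : act 3 n38891 = n84348 := rfl
theorem F129407 : act 4 n84348 = n55737 := d5_2 (iv4 F59924) D84348 (iv3 D55737) (iv4 D26905) D26904
theorem F129408 : act 7 n84348 = n38934 := d8_2 (iv7 F89175) D84348 (iv3 D38934)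
def n84349 : Q := act 5 n38891
theorem D84349 : act 5 n38891 = n84349 := rfl
theorem F129409 : act 2 n84349 = n38931 := d2_1 D84349 (iv5 D38931) (iv2 F89174)
theorem F129410 : act 7 n84349 = n38936 := d13_2 (iv7 F89175) D84349 (iv5 D38936)
def n84350 : Q := act 5 n38892
theorem D84350 : act 5 n38892 = n84350 := rfl
theorem F129411 : act 2 n84350 = n38936 := d2_1 D84350 (iv5 D38936) (iv2 F89176)
theorem F129412 : act 7 n84350 = n38931 := d13_2 (iv7 F89177) D84350 (iv5 D38931)
def n84351 : Q := act 6 n38892
theorem D84351 : act 6 n38892 = n84351 := rfl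
theorem F129413 : act 2 n84351 = n38937 := d3_1 D84351 (iv6 D38937) (iv2 F89176)
def n84352 : Q := act 0 n38893
theorem D84352 : act 0 n38893 = n84352 := rfl
def n84353 : Q := act 1 n38893
theorem D84353 : act 1 n38893 = n84353 := rfl
theorem F129414 : act 1 n84353 = n38941 := d15_1 D84353 (iv7 D38941) (iv2 F59927)
theorem F129415 : act 5 n45235 = n84353 := d21_6 (iv5 F33709) F33711 (iv5 D10309) D10310 D21582 D45235 (iv1 D84353) (iv5 D38893) (iv6 D18477) (iv1 F16209)
theorem F129416 : act 2 n84353 = n38939 := d2_1 F129415 (iv5 F124535) F124533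
def n84354 : Q := act 4 n38893
theorem D84354 : act 4 n38893 = n84354 := rfl
theorem F129417 : act 2 n84354 = n38940 := d1_1 D84354 (iv4 D38940) (iv2 F59927)
def n84355 : Q := act 7 n38893
theorem D84355 : act 7 n38893 = n84355 := rfl
theorem F129418 : act 2 n84355 = n38941 := d4_1 D84355 (iv7 D38941) (iv2 F59927)
theorem F129419 : act 5 n84355 = n38894 := d13_1 D84355 (iv7 D38894) D38893
theorem F129420 : act 1 n38941 = n84352 := d15_0 (iv0 D84352) D84355 F129418
theorem F129421 : act 1 n38939 = n84355 := d15_1 D38939 (iv7 D84355) F59927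
theorem F129422 : act 7 n84352 = n38939 := d15_2 F129414 F129420 (iv2 F129416)
theorem F129423 : act 2 n84352 = n38938 := d15_3 (iv0 D38938) D38939 (iv7 F129422)
theorem F129424 : act 7 n38938 = n84353 := d4_2 (iv7 F129422) F129423 F129416
theorem F129425 : act 1 n84355 = n38938 := d15_1 F129421 F129424 F129416
def n84356 : Q := act 3 n38897
theorem D84356 : act 3 n38897 = n84356 := rfl
theorem F129426 : act 6 n84356 = n81795 := d7_2 (iv6 F59935) D84356 (iv3 D81795)
theorem F129427 : act 7 n84356 = n38975 := d8_2 (iv7 F116870) D84356 (iv3 D38975)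
theorem F129428 : act 0 n55141 = n84356 := d20_4 F85923 (iv1 D26645) D26646 D55141 (iv3 D84356) (iv4 D38897) (iv1 F29664) (iv4 F29680) (iv3 F51767) (iv1 F85921)
def n84357 : Q := act 5 n38897
theorem D84357 : act 5 n38897 = n84357 := rfl
theorem F129429 : act 2 n84357 = n38957 := d2_1 D84357 (iv5 D38957) (iv2 F116869)
theorem F129430 : act 7 n84357 = n38976 := d13_2 (iv7 F116870) D84357 (iv5 D38976)
def n84358 : Q := act 1 n38898
theorem D84358 : act 1 n38898 = n84358 := rfl
theorem F129431 : act 1 n84358 = n38901 := d15_1 D84358 F116886 (iv2 F116871)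
theorem F129432 : act 7 n84358 = n38960 := d15_2 (iv0 F116840) D84358 (iv2 F116838)
theorem F129433 : act 2 n38961 = n84358 := d4_3 F129432 (iv2 F116838) (iv7 F116837)
theorem F129434 : act 6 n75177 = n84358 := d14_5 F129432 (iv6 F71191) (iv7 F116776) (iv6 F120027) F120028
def n84359 : Q := act 4 n38898
theorem D84359 : act 4 n38898 = n84359 := rfl
theorem F129435 : act 2 n84359 = n38962 := d1_1 D84359 (iv4 D38962) (iv2 F116871)
theorem F129436 : act 6 n84359 = n81797 := d10_2 (iv6 F59936) D84359 (iv4 D81797)
theorem F129437 : act 7 n84359 = n38978 := d11_2 (iv7 F116872) D84359 (iv4 D38978)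
def n84360 : Q := act 5 n38900
theorem D84360 : act 5 n38900 = n84360 := rfl
theorem F129438 : act 2 n84360 = n38976 := d2_1 D84360 (iv5 D38976) (iv2 F116883)
theorem F129439 : act 7 n84360 = n38957 := d13_2 (iv7 F116884) D84360 (iv5 D38957)
def n84361 : Q := act 6 n38900
theorem D84361 : act 6 n38900 = n84361 := rfl
theorem F129440 : act 2 n84361 = n38977 := d3_1 D84361 (iv6 D38977) (iv2 F116883)
theorem F129441 : act 4 n84361 = n38902 := d10_1 D84361 (iv6 D38902) D38900
theorem F129442 : act 7 n84361 = n81775 := d14_2 (iv7 F116884) D84361 (iv6 D81775) F117049 (iv6 D38958)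
theorem F129443 : act 1 n38977 = n81453 := d15_0 (iv0 F125700) (iv7 F129442) F129440
def n84362 : Q := act 4 n38901
theorem D84362 : act 4 n38901 = n84362 := rfl
theorem F129444 : act 2 n84362 = n38978 := d1_1 D84362 (iv4 D38978) (iv2 F116885)
theorem F129445 : act 7 n84362 = n38962 := d11_2 (iv7 F116886) D84362 (iv4 D38962)
def n84363 : Q := act 4 n38903
theorem D84363 : act 4 n38903 = n84363 := rfl
theorem F129446 : act 2 n84363 = n38986 := d1_1 D84363 (iv4 D38986) (iv2 F116995)
theorem F129447 : act 6 n84363 = n58173 := d10_2 (iv6 F59940) D84363 (iv4 D58173)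
theorem F129448 : act 7 n84363 = n38991 := d11_2 (iv7 F116996) D84363 (iv4 D38991)
def n84364 : Q := act 5 n38903
theorem D84364 : act 5 n38903 = n84364 := rfl
theorem F129449 : act 2 n84364 = n38987 := d2_1 D84364 (iv5 D38987) (iv2 F116995)
theorem F129450 : act 6 n84364 = n39565 := d12_2 (iv6 F59940) D84364 (iv5 D39565) (iv6 F116825) D27721
theorem F129451 : act 7 n84364 = n38992 := d13_2 (iv7 F116996) D84364 (iv5 D38992)
theorem F129452 : act 0 n84364 = n45269 := d21_1 D84364 F71342 F116836 F117091 (iv6 D39865) F30102 (iv1 D16690) D16691 (iv6 F29662) D38903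
theorem F129453 : act 0 n45206 = n84364 := d21_10 (iv5 D84364) (iv1 F59947) F29686 (iv6 F22038) (iv1 F44712) (iv6 F116926) F113903 (iv1 F116711) F71192 D45206
theorem E13774 : n55602 = n38992 := (c15_2 F116997 D55602 (iv7 F129451) F129449)
theorem F129454 : act 0 n38992 = n26841 := (sb E13774 (iv1 D55602))
def n84365 : Q := act 4 n38904
theorem D84365 : act 4 n38904 = n84365 := rfl
theorem F129455 : act 2 n84365 = n38991 := d1_1 D84365 (iv4 D38991) (iv2 F116993)
theorem F129456 : act 7 n84365 = n38986 := d11_2 (iv7 F116994) D84365 (iv4 D38986)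
theorem F129457 : act 0 n84365 = n81505 := d18_2 (iv1 F59941) D84365 F125356 (iv5 D44489) (iv4 F70003) F121265 (iv4 D38900) F29660 (iv5 F29686)
theorem F129458 : act 1 n84363 = n81505 := d15_0 (iv0 F129457) F129456 (iv2 F129446)
def n84366 : Q := act 6 n38904
theorem D84366 : act 6 n38904 = n84366 := rfl
theorem F129459 : act 2 n84366 = n38993 := d3_1 D84366 (iv6 D38993) (iv2 F116993)
theorem F129460 : act 5 n84366 = n45266 := d12_1 D84366 (iv6 D45266) (iv5 D21589) D21590 F59942
theorem F129461 : act 7 n84366 = n58158 := d14_2 (iv7 F116994) D84366 (iv6 D58158) (iv7 F116955) (iv6 D38988)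
def n84367 : Q := act 0 n38905
theorem D84367 : act 0 n38905 = n84367 := rfl
theorem F129463 : act 4 n84367 = n55764 := d20_2 D38905 D84367 (iv3 D55764) (iv1 F88059) F88055 (iv4 F116388) (iv1 F116390) D77893 (iv3 F119109) (iv1 D38904)
theorem F129464 : act 7 n38995 = n84367 := d11_0 F129463 F124544 F124545
theorem F129466 : act 2 n84367 = n38994 := d15_3 (iv0 D38994) D38995 F129464
def n84368 : Q := act 1 n38905
theorem D84368 : act 1 n38905 = n84368 := rfl
theorem F129467 : act 1 n84368 = n38998 := d15_1 D84368 (iv7 D38998) (iv2 F59943)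
theorem F129468 : act 7 n84368 = n38994 := d15_2 (iv0 D84367) D84368 (iv2 F129466)
theorem F129469 : act 2 n38995 = n84368 := d4_3 F129468 (iv2 F129466) (iv7 F129464)
def n84369 : Q := act 3 n38905
theorem D84369 : act 3 n38905 = n84369 := rfl
theorem F129470 : act 6 n84369 = n75163 := d7_2 (iv6 F59944) D84369 (iv3 D75163)
def n84370 : Q := act 5 n38905
theorem D84370 : act 5 n38905 = n84370 := rfl
theorem F129471 : act 2 n84370 = n38997 := d2_1 D84370 (iv5 D38997) (iv2 F59943)
def n84371 : Q := act 7 n38905
theorem D84371 : act 7 n38905 = n84371 := rfl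
theorem F129472 : act 2 n84371 = n38998 := d4_1 D84371 (iv7 D38998) (iv2 F59943)
theorem F129473 : act 4 n84371 = n38906 := d11_1 D84371 (iv7 D38906) D38905
theorem F129474 : act 1 n38995 = n84371 := d15_1 D38995 (iv7 D84371) F59943
theorem F129475 : act 1 n84371 = n38994 := d15_1 F129474 (iv7 F129468) (iv2 F129469)
def n84372 : Q := act 6 n38906
theorem D84372 : act 6 n38906 = n84372 := rfl
theorem F129476 : act 2 n84372 = n38999 := d3_1 D84372 (iv6 D38999) (iv2 F59945)
theorem F129478 : act 7 n84372 = n45160 := d14_2 D38906 D84372 (iv6 D45160) F33926 (iv6 F29662)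
theorem F129479 : act 1 n58714 = n84372 := d15_1 D58714 F129478 F71162
theorem F129480 : act 1 n84372 = n58713 := d15_0 (iv0 D58713) (iv7 F60013) (iv2 F129476)
def n84373 : Q := act 4 n38907
theorem D84373 : act 4 n38907 = n84373 := rfl
theorem F129481 : act 2 n84373 = n82384 := d1_1 D84373 F126882 F126885
theorem F129482 : act 3 n84373 = n82983 := d5_1 D84373 F127904 F110293 (iv4 F106899) (iv3 F106900)
theorem F129484 : act 0 n84373 = n79083 := d18_2 D38907 D84373 (iv4 D79083) D79084 F120317 (iv0 F114791) (iv4 F125558) (iv0 F125559) F58274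
theorem F129485 : act 0 n79082 = n44485 := d20_4 D84373 F129484 (iv4 D79083) D79082 (iv3 D44485) (iv4 D21158) (iv1 D10084) (iv4 F13612) D18482 D38907
theorem F129486 : act 0 n79079 = n84373 := d20_10 (iv4 D84373) (iv1 F70564) F70562 (iv3 F72393) (iv1 F72397) D83147 F128201 (iv1 F127862) (iv4 D82958) (iv3 F120305)
def n84374 : Q := act 5 n38907
theorem D84374 : act 5 n38907 = n84374 := rfl
theorem F129487 : act 2 n84374 = n57113 := d2_1 D84374 (iv5 F90161) F126885
theorem F129488 : act 3 n84374 = n52931 := d6_1 D84374 (iv5 F106898) (iv3 F106900)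
theorem F129489 : act 7 n84374 = n81659 := d13_2 (iv7 F126886) D84374 (iv5 F125583)
theorem F129490 : act 0 n84374 = n81657 := d17_2 D38907 D84374 (iv5 D81657) (iv4 F72448) F72449 F60274 (iv5 D39292) (iv0 F34404) F34402
theorem F129491 : act 4 n84374 = n57109 := d17_4 F90653 F58274 D38907 D84374 (iv5 D57109) F87692 (iv5 F94620) (iv0 D57478) D57480
theorem F129492 : act 0 n38920 = n84374 := d19_0 (iv5 D84374) D84373 F129482 (iv1 F127907) (iv5 D38380) F29511 (iv3 D8635) (iv1 F13538) (iv5 F29335) (iv4 F31307) D41530 F64072 (iv5 D40353) (iv4 F34006) (iv3 D21608) (iv1 F16418) D10334 (iv4 F29671) D38920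
def n84375 : Q := act 6 n38907
theorem D84375 : act 6 n38907 = n84375 := rfl
def n84376 : Q := act 3 n38908
theorem D84376 : act 3 n38908 = n84376 := rfl
theorem F129493 : act 4 n84376 = n72844 := d5_2 F59950 D84376 F109346 (iv4 D38190) D38189
theorem F129494 : act 0 n57564 = n84376 := d20_4 (iv4 D40843) (iv1 F34811) D46553 F90716 (iv3 D84376) (iv4 F59950) F120306 (iv4 D79079) F91678 (iv1 F73555)
theorem F129495 : act 1 n57560 = n84376 := d15_0 (iv0 F129494) (iv7 F129400) (iv2 F129401)
theorem F129496 : act 0 n81429 = n79082 := d20_4 (iv4 D57560) (iv1 F90340) (iv4 F120267) (iv3 F125265) (iv3 D79082) D79083 F127750 F59950 D84376 (iv1 F129495)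
def n84377 : Q := act 5 n38908
theorem D84377 : act 5 n38908 = n84377 := rfl
theorem F129497 : act 2 n84377 = n81659 := d2_1 D84377 (iv5 F125583) (iv2 F126884)
theorem F129498 : act 7 n84377 = n57113 := d13_2 F126883 D84377 (iv5 F90161)
theorem F129499 : act 0 n84377 = n38920 := d17_2 (iv1 F70566) D84377 F59957 F33962 (iv5 F57430) (iv0 D36562) D36566 F59150 (iv4 F70562)
theorem F129500 : act 4 n84377 = n55408 := d19_2 (iv1 F70566) D84377 F87704 (iv1 F87653) F87655 (iv4 D27322) F21833 (iv1 F30252) F30250 F14305 (iv3 D8009) (iv1 D3624) D3626 D8012 (iv3 F25197) D32800 (iv5 F56837) (iv4 F59954) (iv3 F70561)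
theorem F129501 : act 0 n81657 = n84377 := d19_0 (iv5 D84377) (iv4 F59950) (iv3 D38189) (iv1 F42514) (iv5 F42513) (iv4 F74444) F74443 F61035 (iv5 F51937) F51935 F42395 F27125 F12395 (iv4 F24835) (iv3 F27729) (iv1 F27733) F37309 D48751 (iv3 F125578)
def n84378 : Q := act 6 n38908
theorem D84378 : act 6 n38908 = n84378 := rfl
theorem F129502 : act 4 n84378 = n82974 := d10_1 D84378 (iv6 D82974) F59950
def n84379 : Q := act 6 n38909
theorem D84379 : act 6 n38909 = n84379 := rfl
theorem F129503 : act 2 n84379 = n38910 := d3_1 D84379 (iv6 D38910) D38909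
def n84380 : Q := act 0 n38910
theorem D84380 : act 0 n38910 = n84380 := rfl
def n84381 : Q := act 1 n38910
theorem D84381 : act 1 n38910 = n84381 := rfl
def n84382 : Q := act 5 n38910
theorem D84382 : act 5 n38910 = n84382 := rfl
theorem F129504 : act 3 n84382 = n38913 := d6_1 D84382 (iv5 D38913) (iv3 F59951)
def n84383 : Q := act 7 n38910
theorem D84383 : act 7 n38910 = n84383 := rfl
theorem F129505 : act 3 n84383 = n38914 := d8_1 D84383 (iv7 D38914) (iv3 F59951)
theorem F129506 : act 6 n84383 = n39543 := d14_1 D84383 F70571 (iv6 D44906) F33658 D38910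
def n84384 : Q := act 0 n38913
theorem D84384 : act 0 n38913 = n84384 := rfl
def n84385 : Q := act 4 n38913
theorem D84385 : act 4 n38913 = n84385 := rfl
def n84386 : Q := act 7 n38913
theorem D84386 : act 7 n38913 = n84386 := rfl
theorem F129507 : act 5 n84386 = n38914 := d13_1 D84386 (iv7 D38914) D38913
def n84387 : Q := act 2 n38915
theorem D84387 : act 2 n38915 = n84387 := rfl
theorem F129508 : act 7 n38916 = n84387 := d15_2 (iv0 D38915) D38916 (iv2 D84387)
def n84388 : Q := act 3 n38915
theorem D84388 : act 3 n38915 = n84388 := rfl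
def n84389 : Q := act 4 n38915
theorem D84389 : act 4 n38915 = n84389 := rfl
theorem F129509 : act 0 n84389 = n48970 := d17_0 (iv5 D48970) (iv1 F77208) (iv5 F125599) (iv4 D81674) (iv5 F114847) F114849 F86649 F70698 D84389
theorem F129510 : act 5 n84389 = n48986 := d18_4 (iv1 D36091) (iv4 F29668) D38915 D84389 F77299 F42225 F30271 (iv0 F37302) (iv5 F56835)
theorem F129511 : act 1 n84389 = n48951 := d18_8 (iv1 F55462) (iv4 D35000) (iv1 F51798) (iv4 F51797) (iv5 F61039) (iv4 F70696) F70698 D84389 (iv5 D48951)
theorem F129512 : act 2 n73423 = n84389 := d2_3 F129510 (iv2 F77301) (iv5 F110122)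
theorem F129513 : act 7 n71359 = n84389 := d13_0 F129510 (iv7 F77302) D71359
theorem F129514 : act 7 n38915 = n44960 := d11_2 F129513 (iv4 D84389) (iv4 F107857)
theorem F129515 : act 2 n44960 = n38916 := d4_1 F129514 F129508 (iv2 D84387)
theorem E13775 : n84387 = n44961 := (c15_4 F70699 F70694 (iv7 F129514) D84387)
theorem F129516 : act 2 n44961 = n38915 := (sb E13775 (iv2 D84387))
theorem F129517 : act 7 n44961 = n38916 := (sb E13775 (iv7 F129508))
def n84390 : Q := act 5 n38915
theorem D84390 : act 5 n38915 = n84390 := rfl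
theorem F129518 : act 2 n84390 = n71356 := d2_1 D84390 (iv5 F107853) F129516
theorem F129519 : act 7 n84390 = n71885 := d13_2 (iv7 F129514) D84390 F108376
theorem F129520 : act 4 n84390 = n48942 := d16_4 (iv4 F77299) (iv5 F129510) (iv4 D84389) D84390 (iv5 D48942) (iv4 F37225) D26485 F42377 (iv2 F42221)
theorem F129521 : act 0 n84390 = n53004 := d17_2 D38915 D84390 F83728 F58267 F57750 (iv0 D18961) D18964 (iv0 F30281) (iv4 F29668)
theorem F129522 : act 1 n84390 = n38922 := d17_6 (iv1 D71548) (iv5 F52313) D48986 (iv5 F129510) (iv4 D84389) D84390 F59962 D45215 F108062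
def n84391 : Q := act 6 n38915
theorem D84391 : act 6 n38915 = n84391 := rfl
def n84392 : Q := act 3 n38916
theorem D84392 : act 3 n38916 = n84392 := rfl
def n84393 : Q := act 4 n38916
theorem D84393 : act 4 n38916 = n84393 := rfl
theorem F129523 : act 2 n84393 = n71359 := d1_1 D84393 F107857 F129515
theorem F129524 : act 7 n84393 = n73423 := d11_2 F129517 D84393 F110123
theorem F129525 : act 5 n84393 = n48987 := d16_1 D84393 F77305 (iv5 D26485) F37225 D48942 (iv4 F129520) (iv5 D84390) F129514 F129515
theorem F129526 : act 0 n84393 = n48951 := d17_0 (iv5 D48951) (iv1 F55462) D76591 F114864 (iv5 F120075) F120077 F58277 D38916 D84393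
theorem F129527 : act 1 n84393 = n48970 := d18_8 (iv1 F77208) F77209 (iv1 D26491) D26492 F42458 (iv4 F29668) D38916 D84393 (iv5 D48970)
theorem F129528 : act 3 n84393 = n55690 := d20_3 (iv4 F70696) (iv1 F70700) D84393 (iv1 F88121) F56875 F30202 (iv1 F17267) F17265 (iv3 F30280) D40141
theorem E13776 : n84392 = n70426 := ((c20_5 (iv4 D8173) D8171 (iv4 F26494) D32686 D70426 (iv3 D84392) D84393 F129526 F77220 (iv3 D35985) (iv1 D17420))).symm
theorem F129529 : act 3 n70426 = n38916 := (sb E13776 (iv3 D84392))
def n84394 : Q := act 5 n38916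
theorem D84394 : act 5 n38916 = n84394 := rfl
theorem F129530 : act 2 n84394 = n71885 := d2_1 D84394 F108376 F129515
theorem F129531 : act 4 n84394 = n48940 := d9_1 D84394 (iv5 D48940) F37220 D26424 (iv4 F77299) (iv5 F129510) (iv4 D84389) D84390 F129520 (iv5 D48942) (iv4 F37225) D26485 (iv4 F77305) (iv5 F129525) (iv4 D84393)
theorem F129532 : act 7 n84394 = n71356 := d13_2 F129517 D84394 (iv5 F107853)
theorem F129533 : act 0 n84394 = n38922 := d17_2 (iv1 F70700) D84394 F59962 F33966 F30273 (iv0 F37302) (iv5 F56835) F61041 (iv4 F70696)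
theorem F129534 : act 1 n84394 = n53004 := d17_6 F108032 (iv5 D48997) (iv1 F77303) (iv5 F129525) (iv4 D84393) D84394 F83728 F71268 (iv4 F108034)
def n84395 : Q := act 6 n38916
theorem D84395 : act 6 n38916 = n84395 := rfl
def n84396 : Q := act 6 n38917
theorem D84396 : act 6 n38917 = n84396 := rfl
theorem F129535 : act 2 n84396 = n38918 := d3_1 D84396 (iv6 D38918) D38917
theorem F129536 : act 4 n84396 = n79286 := d10_1 D84396 (iv6 D79286) (iv4 F59954)
def n84397 : Q := act 0 n38918
theorem D84397 : act 0 n38918 = n84397 := rfl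
def n84402 : Q := act 2 n38920
theorem D84402 : act 2 n38920 = n84402 := rfl
theorem F129539 : act 3 n84402 = n53004 := d0_2 D38920 D84402 F83727 F58268 F29673
theorem F129540 : act 5 n84402 = n45209 := d2_2 (iv5 F59957) D84402 (iv2 D45209)
theorem F129541 : act 7 n84402 = n81657 := d4_2 (iv7 F59958) D84402 F125577
theorem F129542 : act 1 n84402 = n81659 := d15_0 (iv0 D81659) (iv7 F59958) D84402
theorem F129543 : act 1 n57113 = n84402 := d15_0 F129542 (iv7 F129489) F129487
def n84403 : Q := act 6 n38920
theorem D84403 : act 6 n38920 = n84403 := rfl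
def n84404 : Q := act 0 n38921
theorem D84404 : act 0 n38921 = n84404 := rfl
def n84405 : Q := act 1 n38921
theorem D84405 : act 1 n38921 = n84405 := rfl
def n84407 : Q := act 7 n38921
theorem D84407 : act 7 n38921 = n84407 := rfl
theorem F129548 : act 2 n84407 = n81685 := d4_1 D84407 (iv7 D81685) (iv2 F59959)
theorem F129550 : act 6 n84407 = n81668 := d14_1 D84407 (iv7 D81668) (iv6 D37324) F29674 D38921
theorem F129551 : act 1 n81685 = n84404 := d15_0 (iv0 D84404) D84407 F129548
theorem F129552 : act 1 n81683 = n84407 := d15_1 D81683 (iv7 D84407) F59959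
def n84408 : Q := act 6 n38922
theorem D84408 : act 6 n38922 = n84408 := rfl
theorem F129554 : act 3 n84408 = n38923 := d7_1 D84408 (iv6 D38923) D38922
theorem F129555 : act 4 n84408 = n53003 := d10_1 D84408 (iv6 D53003) (iv4 F59961)
def n84409 : Q := act 0 n38923
theorem D84409 : act 0 n38923 = n84409 := rfl
def n84410 : Q := act 1 n38923
theorem D84410 : act 1 n38923 = n84410 := rfl
theorem F129556 : act 1 n84410 = n81668 := d15_1 D84410 (iv7 D81668) (iv2 F59964)
def n84411 : Q := act 5 n38923
theorem D84411 : act 5 n38923 = n84411 := rfl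
theorem F129557 : act 2 n84411 = n81667 := d2_1 D84411 (iv5 D81667) (iv2 F59964)
theorem F129558 : act 6 n84411 = n45219 := d12_2 D38923 D84411 (iv5 D45219) (iv6 D21577) (iv5 F29677)
def n84412 : Q := act 7 n38923
theorem D84412 : act 7 n38923 = n84412 := rfl
theorem F129559 : act 2 n84412 = n81668 := d4_1 D84412 (iv7 D81668) (iv2 F59964)
theorem F129560 : act 4 n84412 = n45341 := d11_1 D84412 (iv7 D45341) (iv4 F59965)
theorem F129564 : act 1 n84412 = n81665 := d15_0 (iv0 D81665) D81668 (iv2 F129559)
def n84413 : Q := act 2 n38924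
theorem D84413 : act 2 n38924 = n84413 := rfl
theorem F129565 : act 7 n38925 = n84413 := d15_2 (iv0 D38924) D38925 (iv2 D84413)
def n84414 : Q := act 3 n38924
theorem D84414 : act 3 n38924 = n84414 := rfl
def n84415 : Q := act 4 n38924
theorem D84415 : act 4 n38924 = n84415 := rfl
def n84416 : Q := act 5 n38924
theorem D84416 : act 5 n38924 = n84416 := rfl
def n84417 : Q := act 6 n38924
theorem D84417 : act 6 n38924 = n84417 := rfl
def n84418 : Q := act 7 n38924
theorem D84418 : act 7 n38924 = n84418 := rfl
theorem F129566 : act 2 n84418 = n38925 := d4_1 D84418 F129565 (iv2 D84413)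
def n84419 : Q := act 3 n38925
theorem D84419 : act 3 n38925 = n84419 := rfl
def n84420 : Q := act 4 n38925
theorem D84420 : act 4 n38925 = n84420 := rfl
def n84421 : Q := act 5 n38925
theorem D84421 : act 5 n38925 = n84421 := rfl
def n84422 : Q := act 6 n38925
theorem D84422 : act 6 n38925 = n84422 := rfl
def n84423 : Q := act 0 n38926
theorem D84423 : act 0 n38926 = n84423 := rfl
def n84424 : Q := act 1 n38926
theorem D84424 : act 1 n38926 = n84424 := rfl
def n84425 : Q := act 4 n38926
theorem D84425 : act 4 n38926 = n84425 := rfl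
theorem F129567 : act 6 n84425 = n38940 := d10_2 (iv6 F59966) D84425 (iv4 D38940)
def n84426 : Q := act 7 n38926
theorem D84426 : act 7 n38926 = n84426 := rfl
theorem F129568 : act 5 n84426 = n38927 := d13_1 D84426 (iv7 D38927) D38926
def n84427 : Q := act 0 n38929
theorem D84427 : act 0 n38929 = n84427 := rfl
def n84428 : Q := act 1 n38929
theorem D84428 : act 1 n38929 = n84428 := rfl
def n84429 : Q := act 2 n38929
theorem D84429 : act 2 n38929 = n84429 := rfl
def n84430 : Q := act 5 n38929
theorem D84430 : act 5 n38929 = n84430 := rfl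
theorem F129569 : act 3 n84430 = n38931 := d6_1 D84430 (iv5 D38931) D38929
def n84431 : Q := act 6 n38929
theorem D84431 : act 6 n38929 = n84431 := rfl
theorem F129570 : act 3 n84431 = n38932 := d7_1 D84431 (iv6 D38932) D38929
def n84432 : Q := act 5 n38930
theorem D84432 : act 5 n38930 = n84432 := rfl
theorem F129571 : act 2 n84432 = n55732 := d2_1 D84432 (iv5 D55732) (iv2 F89178)
theorem F129572 : act 3 n84432 = n41384 := d6_1 D84432 (iv5 D41384) (iv3 F119071)
def n84433 : Q := act 6 n38930
theorem D84433 : act 6 n38930 = n84433 := rfl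
theorem F129575 : act 4 n84433 = n38932 := d10_1 D84433 (iv6 D38932) D38930
theorem F129576 : act 5 n84433 = n44888 := d21_6 (iv5 D8184) F12773 (iv5 F15945) D21159 (iv1 F121261) D84433 (iv1 D44888) F33646 (iv6 D21426) F16126
theorem F129577 : act 7 n45941 = n84433 := d13_0 F129576 F121333 D45941
theorem F129578 : act 0 n78228 = n84433 := d17_0 F129576 (iv1 D44888) F33646 (iv4 F58218) D81574 (iv0 F125725) (iv5 D81796) F125691 F125690
theorem F129579 : act 1 n44589 = n84433 := d18_8 (iv1 D44888) (iv4 F58218) F121334 (iv4 D17941) D17942 D37381 D81772 (iv4 F125694) F129576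
def n84434 : Q := act 0 n38931
theorem D84434 : act 0 n38931 = n84434 := rfl
theorem F129580 : act 1 n38936 = n84434 := d15_0 (iv0 D84434) (iv7 F129412) F129411
def n84435 : Q := act 1 n38931
theorem D84435 : act 1 n38931 = n84435 := rfl
theorem F129581 : act 1 n84435 = n38936 := d15_1 D84435 (iv7 F129410) F129409
def n84436 : Q := act 4 n38931
theorem D84436 : act 4 n38931 = n84436 := rfl
def n84437 : Q := act 6 n38931
theorem D84437 : act 6 n38931 = n84437 := rfl
def n84438 : Q := act 0 n38934
theorem D84438 : act 0 n38934 = n84438 := rfl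
def n84439 : Q := act 1 n38934
theorem D84439 : act 1 n38934 = n84439 := rfl
def n84440 : Q := act 2 n38934
theorem D84440 : act 2 n38934 = n84440 := rfl
def n84441 : Q := act 4 n38934
theorem D84441 : act 4 n38934 = n84441 := rfl
theorem F129582 : act 3 n84441 = n55655 := d5_1 D84441 (iv4 D55655) (iv3 F59969) (iv4 D38935) D38934
def n84442 : Q := act 5 n38934
theorem D84442 : act 5 n38934 = n84442 := rfl
theorem F129584 : act 3 n84442 = n38936 := d6_1 D84442 (iv5 D38936) D38934
def n84443 : Q := act 6 n38934
theorem D84443 : act 6 n38934 = n84443 := rfl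
theorem F129585 : act 3 n84443 = n38937 := d7_1 D84443 (iv6 D38937) D38934
def n84444 : Q := act 5 n38935
theorem D84444 : act 5 n38935 = n84444 := rfl
theorem F129586 : act 3 n84444 = n55656 := d6_1 D84444 (iv5 D55656) (iv3 F59969)
theorem F129587 : act 7 n84444 = n55732 := d13_2 (iv7 F89164) D84444 (iv5 D55732)
theorem F129588 : act 6 n79707 = n84444 := d7_0 F129586 (iv6 F88051) D79707
theorem F129589 : act 0 n44984 = n79707 := d21_4 (iv5 D19114) F16746 D21477 D44984 F129588 (iv5 D84444) F121262 D44489 F70005 (iv1 F33762)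
def n84445 : Q := act 6 n38935
theorem D84445 : act 6 n38935 = n84445 := rfl
theorem F129590 : act 3 n84445 = n55657 := d7_1 D84445 (iv6 D55657) (iv3 F59969)
theorem F129591 : act 4 n84445 = n38937 := d10_1 D84445 (iv6 D38937) D38935
def n84446 : Q := act 4 n38936
theorem D84446 : act 4 n38936 = n84446 := rfl
def n84447 : Q := act 6 n38936
theorem D84447 : act 6 n38936 = n84447 := rfl
def n84448 : Q := act 0 n38937
theorem D84448 : act 0 n38937 = n84448 := rfl
theorem F129592 : act 4 n84448 = n38980 := d20_8 (iv4 F29128) (iv1 D16402) (iv4 F25886) (iv3 F53252) (iv1 F121771) (iv3 F129590) F129591 D84448 F126077 (iv1 F29883)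
theorem F129593 : act 1 n84445 = n44495 := d18_8 (iv1 D79577) (iv4 F122206) F122207 (iv4 D76181) F126095 (iv4 F129592) (iv0 D84448) (iv4 F129591) F122208
theorem F129594 : act 7 n39799 = n84448 := d11_0 F129592 F126078 (iv4 F60628)
theorem F129595 : act 5 n81686 = n84448 := d17_3 F116769 D37337 D81686 F129592 (iv5 F126095) F126093 (iv5 D17924) D17923 D37312
def n84449 : Q := act 1 n38937
theorem D84449 : act 1 n38937 = n84449 := rfl
def n84450 : Q := act 5 n38937
theorem D84450 : act 5 n38937 = n84450 := rfl
def n84451 : Q := act 7 n38937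
theorem D84451 : act 7 n38937 = n84451 := rfl
def n84452 : Q := act 3 n38938
theorem D84452 : act 3 n38938 = n84452 := rfl
def n84453 : Q := act 4 n38938
theorem D84453 : act 4 n38938 = n84453 := rfl
def n84454 : Q := act 5 n38938
theorem D84454 : act 5 n38938 = n84454 := rfl
theorem F129596 : act 7 n84454 = n45235 := d13_2 (iv7 F129424) D84454 F129415
theorem F129597 : act 1 n84454 = n55597 := d17_8 (iv1 F116997) (iv5 D38987) (iv1 F59949) F59946 (iv4 F59929) (iv5 F129419) F129425 D84454 F87940
def n84455 : Q := act 6 n38938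
theorem D84455 : act 6 n38938 = n84455 := rfl
def n84457 : Q := act 4 n38939
theorem D84457 : act 4 n38939 = n84457 := rfl
def n84459 : Q := act 0 n38940
theorem D84459 : act 0 n38940 = n84459 := rfl
def n84460 : Q := act 1 n38940
theorem D84460 : act 1 n38940 = n84460 := rfl
def n84461 : Q := act 3 n38940
theorem D84461 : act 3 n38940 = n84461 := rfl
def n84462 : Q := act 5 n38940
theorem D84462 : act 5 n38940 = n84462 := rfl
def n84463 : Q := act 7 n38940
theorem D84463 : act 7 n38940 = n84463 := rfl
theorem F129598 : act 4 n84463 = n38941 := d11_1 D84463 (iv7 D38941) D38940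
def n84464 : Q := act 6 n38941
theorem D84464 : act 6 n38941 = n84464 := rfl
def n84465 : Q := act 1 n38951
theorem D84465 : act 1 n38951 = n84465 := rfl
def n84466 : Q := act 4 n38951
theorem D84466 : act 4 n38951 = n84466 := rfl
def n84467 : Q := act 3 n38954
theorem D84467 : act 3 n38954 = n84467 := rfl
def n84468 : Q := act 5 n38954
theorem D84468 : act 5 n38954 = n84468 := rfl
def n84469 : Q := act 0 n38956
theorem D84469 : act 0 n38956 = n84469 := rfl
def n84470 : Q := act 1 n38956
theorem D84470 : act 1 n38956 = n84470 := rfl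
def n84471 : Q := act 2 n38956
theorem D84471 : act 2 n38956 = n84471 := rfl
def n84472 : Q := act 5 n38956
theorem D84472 : act 5 n38956 = n84472 := rfl
theorem F129599 : act 3 n84472 = n38957 := d6_1 D84472 (iv5 D38957) D38956
def n84473 : Q := act 6 n38956
theorem D84473 : act 6 n38956 = n84473 := rfl
theorem F129600 : act 3 n84473 = n38958 := d7_1 D84473 (iv6 D38958) D38956
theorem F129601 : act 7 n81773 = n84473 := d8_0 F129600 (iv7 F117049) D81773
def n84474 : Q := act 0 n38957
theorem D84474 : act 0 n38957 = n84474 := rfl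
theorem F129602 : act 1 n38976 = n84474 := d15_0 (iv0 D84474) (iv7 F129439) F129438
def n84475 : Q := act 1 n38957
theorem D84475 : act 1 n38957 = n84475 := rfl
theorem F129603 : act 1 n84475 = n38976 := d15_1 D84475 (iv7 F129430) F129429
def n84476 : Q := act 4 n38957
theorem D84476 : act 4 n38957 = n84476 := rfl
def n84477 : Q := act 6 n38957
theorem D84477 : act 6 n38957 = n84477 := rfl
def n84478 : Q := act 1 n38958
theorem D84478 : act 1 n38958 = n84478 := rfl
theorem F129604 : act 1 n84478 = n81566 := d15_1 D84478 F125463 (iv2 F117044)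
theorem F129605 : act 7 n84478 = n81772 := d15_2 (iv0 F125414) D84478 F125695
theorem F129606 : act 2 n81771 = n84478 := d4_3 F129605 F125695 F125692
theorem F129607 : act 5 n81764 = n84478 := d17_7 F116806 F29981 F116826 (iv5 D17942) D17941 D37376 D81764 F129604 (iv4 D81566)
def n84479 : Q := act 5 n38958
theorem D84479 : act 5 n38958 = n84479 := rfl
theorem F129608 : act 2 n84479 = n81796 := d2_1 D84479 (iv5 D81796) (iv2 F117044)
theorem F129609 : act 7 n84479 = n81774 := d13_2 F117049 D84479 (iv5 D81774)
def n84480 : Q := act 4 n38960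
theorem D84480 : act 4 n38960 = n84480 := rfl
def n84481 : Q := act 4 n38961
theorem D84481 : act 4 n38961 = n84481 := rfl
def n84482 : Q := act 0 n38962
theorem D84482 : act 0 n38962 = n84482 := rfl
theorem F129610 : act 1 n38978 = n84482 := d15_0 (iv0 D84482) (iv7 F129445) F129444
def n84483 : Q := act 1 n38962
theorem D84483 : act 1 n38962 = n84483 := rfl
theorem F129611 : act 1 n84483 = n38978 := d15_1 D84483 (iv7 F129437) F129435
def n84484 : Q := act 3 n38962
theorem D84484 : act 3 n38962 = n84484 := rfl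
def n84485 : Q := act 5 n38962
theorem D84485 : act 5 n38962 = n84485 := rfl
def n84486 : Q := act 6 n38962
theorem D84486 : act 6 n38962 = n84486 := rfl
theorem F129612 : act 2 n84486 = n81797 := d3_1 D84486 (iv6 F129436) F129435
theorem F129613 : act 4 n84486 = n38963 := d10_1 D84486 (iv6 D38963) D38962
def n84487 : Q := act 3 n38972
theorem D84487 : act 3 n38972 = n84487 := rfl
theorem F129614 : act 4 n84487 = n38975 := d5_2 D38972 D84487 (iv3 D38975) (iv4 D18500) D18499
def n84488 : Q := act 5 n38972
theorem D84488 : act 5 n38972 = n84488 := rfl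
def n84490 : Q := act 0 n38973
theorem D84490 : act 0 n38973 = n84490 := rfl
def n84491 : Q := act 1 n38973
theorem D84491 : act 1 n38973 = n84491 := rfl
theorem F129616 : act 6 n76855 = n84491 := d21_9 (iv5 D38973) F121058 D40299 F61346 (iv1 F56955) (iv6 F89967) (iv5 D56913) (iv1 F116813) D76855 (iv1 D84491)
theorem F129617 : act 3 n84491 = n39017 := d7_1 F129616 F121083 (iv3 F115389)
theorem F129618 : act 4 n84491 = n78312 := d20_6 D35670 F56350 (iv4 D18527) (iv3 F29697) D39017 (iv3 F129617) (iv1 D78312) (iv4 D35697) F28244 (iv1 F28234)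
def n84492 : Q := act 4 n38973
theorem D84492 : act 4 n38973 = n84492 := rfl
def n84493 : Q := act 6 n38973
theorem D84493 : act 6 n38973 = n84493 := rfl
theorem F129619 : act 3 n84493 = n38979 := d7_1 D84493 (iv6 D38979) (iv3 F60001)
theorem F129620 : act 0 n41268 = n84493 := d21_4 (iv5 D36242) F28494 D19412 D41268 (iv6 D84493) (iv5 D38973) F121058 D40299 F61346 (iv1 F56955)
def n84494 : Q := act 0 n38974
theorem D84494 : act 0 n38974 = n84494 := rfl
def n84495 : Q := act 1 n38974
theorem D84495 : act 1 n38974 = n84495 := rfl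
def n84496 : Q := act 5 n38974
theorem D84496 : act 5 n38974 = n84496 := rfl
theorem F129622 : act 0 n76855 = n84496 := d21_1 D76855 (iv5 D84496) (iv6 D38974) F121058 (iv6 D19049) (iv5 D8921) D8919 (iv5 F21823) D27316 (iv1 F116813)
def n84497 : Q := act 7 n38974
theorem D84497 : act 7 n38974 = n84497 := rfl
theorem F129623 : act 3 n84497 = n38983 := d8_1 D84497 (iv7 D38983) (iv3 F60002)
theorem F129624 : act 6 n84497 = n56925 := d14_1 D84497 (iv7 F121482) F121176 (iv7 F121178) D38974
def n84498 : Q := act 0 n38975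
theorem D84498 : act 0 n38975 = n84498 := rfl
def n84499 : Q := act 1 n38975
theorem D84499 : act 1 n38975 = n84499 := rfl
theorem F129625 : act 3 n55143 = n84499 := d20_3 F53215 (iv1 F42713) (iv4 F87232) (iv1 D84499) (iv3 D38975) (iv4 D18500) (iv1 D8695) (iv4 F13614) (iv3 F25104) D32690
theorem F129626 : act 5 n84499 = n78446 := d6_2 (iv5 F87233) F129625 (iv3 D78446)
theorem F129627 : act 7 n84499 = n55141 := d8_2 D55143 F129625 (iv3 D55141)
theorem E13777 : n84498 = n81524 := ((c15_4 (iv0 D84498) D84499 F129627 (iv2 F125397))).symm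
theorem F129628 : act 1 n81524 = n38975 := (sb E13777 (iv0 D84498))
theorem F129629 : act 0 n80261 = n82896 := d20_7 F59929 (iv1 F29665) D18500 D38975 (iv1 F129628) F125398 (iv4 F123345) F127690 (iv3 D38929) (iv1 F59931)
theorem F129630 : act 4 n79168 = n77438 := d20_0 (iv1 F123132) F123128 F122004 F118806 D84487 F129614 (iv1 F129628) F125399 F120455 D79168
theorem F129631 : act 4 n77439 = n79169 := d20_0 (iv1 D79169) (iv4 F57442) (iv3 F123344) F129629 (iv3 D82896) F119075 (iv1 F60958) F60954 (iv3 F123127) (iv1 F123131)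
def n84500 : Q := act 2 n38975
theorem D84500 : act 2 n38975 = n84500 := rfl
def n84501 : Q := act 5 n38975
theorem D84501 : act 5 n38975 = n84501 := rfl
theorem F129632 : act 3 n84501 = n38976 := d6_1 D84501 (iv5 D38976) D38975
def n84502 : Q := act 6 n38975
theorem D84502 : act 6 n38975 = n84502 := rfl
theorem F129633 : act 3 n84502 = n38977 := d7_1 D84502 (iv6 D38977) D38975
def n84503 : Q := act 4 n38976
theorem D84503 : act 4 n38976 = n84503 := rfl
def n84504 : Q := act 6 n38976
theorem D84504 : act 6 n38976 = n84504 := rfl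
def n84505 : Q := act 0 n38977
theorem D84505 : act 0 n38977 = n84505 := rfl
def n84507 : Q := act 7 n38977
theorem D84507 : act 7 n38977 = n84507 := rfl
theorem F129634 : act 2 n84507 = n81775 := d4_1 D84507 (iv7 F129442) F129440
theorem F129635 : act 4 n84507 = n38983 := d11_1 D84507 (iv7 D38983) (iv4 F60003)
theorem F129636 : act 6 n84507 = n81566 := d14_1 D84507 F125463 (iv6 F59935) F116870 D38977
theorem F129637 : act 1 n81775 = n84505 := d15_0 (iv0 D84505) D84507 F129634
def n84508 : Q := act 3 n38978
theorem D84508 : act 3 n38978 = n84508 := rfl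
def n84509 : Q := act 5 n38978
theorem D84509 : act 5 n38978 = n84509 := rfl
def n84510 : Q := act 6 n38978
theorem D84510 : act 6 n38978 = n84510 := rfl
theorem F129638 : act 4 n84510 = n38979 := d10_1 D84510 (iv6 D38979) D38978
def n84511 : Q := act 5 n38979
theorem D84511 : act 5 n38979 = n84511 := rfl
theorem F129639 : act 6 n84511 = n38982 := d12_2 D38979 D84511 (iv5 D38982) (iv6 D18502) D18501
theorem F129640 : act 0 n84511 = n39803 := d21_1 D84511 (iv5 F115672) (iv6 D76961) (iv1 F126090) F33940 (iv5 D16689) F16798 D21504 D45025 F70843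
def n84512 : Q := act 4 n38982
theorem D84512 : act 4 n38982 = n84512 := rfl
def n84513 : Q := act 5 n38985
theorem D84513 : act 5 n38985 = n84513 := rfl
theorem F129641 : act 2 n84513 = n75749 := d2_1 D84513 F129169 F119117
theorem F129643 : act 6 n84513 = n75747 := d12_2 F118438 D84513 F120388 (iv6 D38396) D38395
theorem F129644 : act 7 n84513 = n45255 := d13_2 F119111 D84513 (iv5 F119110)
theorem F129645 : act 0 n75742 = n84513 := d21_10 (iv5 D84513) (iv1 F127669) F127667 F58951 (iv1 F59236) (iv6 F123062) D84134 F129172 (iv5 D75741) D75742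
theorem E13778 : n82664 = n75742 := ((c15_1 (iv0 F129645) (iv0 D82664) (iv7 F129171) (iv2 F129641))).symm
theorem F129646 : act 1 n75742 = n37984 := (sb E13778 (iv0 D82664))
theorem E13779 : n82665 = n75752 := (c15_2 F129646 D82665 (iv7 D75752) (iv2 F113609))
theorem F129647 : act 0 n75752 = n37984 := (sb E13779 (iv1 D82665))
theorem F129648 : act 1 n77871 = n80183 := d18_6 F127345 (iv4 F120381) F120379 (iv4 D35533) D35534 D77871 F123143 F129646 D82666
theorem E13780 : n83446 = n83339 := ((c21_11 F128551 F129277 (iv5 D37983) D37984 (iv1 F129646) (iv6 D75742) D75741 F118502 (iv5 F123058) D84136 (iv1 F129180))).symm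
theorem F129650 : act 5 n83339 = n82261 := (sb E13780 F128551)
theorem F129651 : act 7 n83339 = n38833 := (sb E13780 F128552)
theorem E13781 : n83338 = n80622 := ((c15_4 (iv0 D83338) D83339 F129651 (iv2 F126157))).symm
theorem F129652 : act 0 n80622 = n84136 := (sb E13781 (iv1 F129181))
theorem E13782 : n81390 = n80898 := (c21_4 (iv5 F129178) (iv1 F129180) F129650 F126731 (iv1 D80898) (iv6 D36956) (iv5 D17786) F17600 D18180 (iv6 F58787) F118496)
theorem F129654 : act 3 n80898 = n37164 := (sb E13782 (iv3 D81390))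
theorem F129655 : act 6 n80898 = n82261 := (sb E13782 (iv6 F126731))
theorem F129656 : act 7 n80898 = n82835 := (sb E13782 (iv7 F127581))
theorem F129657 : act 2 n82835 = n80897 := d15_3 (iv0 D80897) D80898 F129656
theorem F129658 : act 0 n56447 = n77451 := d20_1 F118223 F116251 F91268 F122164 F122160 (iv4 F128319) (iv1 F128323) F113619 (iv3 F113614) F129647
theorem F129659 : act 1 n75752 = n84513 := d15_1 (iv0 F129647) F129644 F118491
theorem E13783 : n75750 = n45255 := (c15_2 (iv0 D75749) D75750 (iv7 F129644) F129641)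
theorem F129660 : act 0 n45255 = n34642 := (sb E13783 (iv1 D75750))
def n84514 : Q := act 0 n38986
theorem D84514 : act 0 n38986 = n84514 := rfl
theorem F129661 : act 1 n38991 = n84514 := d15_0 (iv0 D84514) (iv7 F129456) F129455
def n84515 : Q := act 1 n38986
theorem D84515 : act 1 n38986 = n84515 := rfl
theorem F129662 : act 1 n84515 = n38991 := d15_1 D84515 (iv7 F129448) F129446
theorem F129663 : act 4 n44509 = n84515 := d20_6 F127666 (iv1 F119082) (iv4 D35538) D35537 (iv1 F120991) F87585 (iv1 D84515) (iv4 D38986) D38985 (iv1 F127669)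
theorem F129664 : act 2 n84515 = n81505 := d1_1 F129663 F125356 (iv2 F70020)
theorem F129665 : act 6 n84515 = n44508 := d10_2 D44509 F129663 (iv4 D44508)
theorem F129666 : act 7 n84514 = n81505 := d15_2 F129662 F129661 (iv2 F129664)
def n84516 : Q := act 3 n38986
theorem D84516 : act 3 n38986 = n84516 := rfl
def n84517 : Q := act 5 n38986
theorem D84517 : act 5 n38986 = n84517 := rfl
def n84518 : Q := act 6 n38986
theorem D84518 : act 6 n38986 = n84518 := rfl
theorem F129667 : act 2 n84518 = n58173 := d3_1 D84518 (iv6 F129447) F129446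
theorem F129668 : act 4 n84518 = n38988 := d10_1 D84518 (iv6 D38988) D38986
theorem F129669 : act 7 n58157 = n84518 := d11_0 F129668 F116955 D58157
def n84519 : Q := act 0 n38987
theorem D84519 : act 0 n38987 = n84519 := rfl
theorem F129670 : act 5 n84519 = n84358 := d21_2 D38987 D84519 (iv6 F129434) (iv1 D75177) (iv6 D34426) (iv5 D16696) (iv1 D7779) D7780 (iv6 F13616) D18503
theorem F129671 : act 6 n84519 = n75983 := d21_5 F13662 D18738 F113903 (iv6 F116991) D84519 (iv5 F116816) (iv1 F71161) F71156 F116742 (iv1 D13288)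
theorem F129672 : act 2 n45269 = n84519 := d15_3 (iv0 D84519) F116997 (iv7 F116833)
theorem F129673 : act 1 n38992 = n84519 := d15_0 (iv0 D84519) F116992 (iv2 F116981)
theorem F129674 : act 7 n84519 = n45206 := d15_2 (iv0 F129454) F129673 F116715
theorem F129676 : act 3 n76080 = n84519 := d8_3 F129674 F116716 D76080
def n84520 : Q := act 4 n38987
theorem D84520 : act 4 n38987 = n84520 := rfl
theorem F129677 : act 6 n84520 = n76001 := d10_2 (iv6 F116991) D84520 (iv4 D76001)
theorem F129678 : act 7 n84520 = n45261 := d11_2 (iv7 F116992) D84520 F71323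
def n84521 : Q := act 0 n38988
theorem D84521 : act 0 n38988 = n84521 := rfl
theorem F129679 : act 5 n84521 = n75980 := d21_2 (iv5 F60006) D84521 (iv6 D75980) (iv1 F116824) (iv6 F129450) (iv5 D84364) (iv1 F59947) F29686 (iv6 F22038) (iv1 F44712)
theorem F129680 : act 6 n84521 = n45157 := d21_5 (iv5 D55603) (iv1 F116997) (iv5 D38987) D38988 D84521 F116701 F116834 D37401 (iv6 F59936) F116840
theorem F129681 : act 2 n58156 = n84521 := d15_3 (iv0 D84521) (iv0 F117025) (iv7 F117001)
theorem F129682 : act 1 n58113 = n84521 := d15_0 (iv0 D84521) F116955 (iv2 F116962)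
theorem F129683 : act 7 n84521 = n58155 := d15_2 F117026 F129682 (iv2 F117002)
theorem F129684 : act 3 n81891 = n84521 := d8_3 F129683 (iv3 F117441) (iv7 F126226)
theorem F129685 : act 0 n39803 = n58181 := d21_4 (iv5 D21556) (iv1 F126007) D18824 D39803 (iv6 D58181) (iv5 F116846) F116849 (iv5 F129679) F129680 (iv1 D45157)
def n84522 : Q := act 4 n38990
theorem D84522 : act 4 n38990 = n84522 := rfl
theorem F129686 : act 0 n84522 = n79951 := d18_2 F121035 D84522 F122721 F57179 (iv4 F60902) F118776 (iv4 D38972) F121059 (iv5 F90525)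
def n84523 : Q := act 6 n38990
theorem D84523 : act 6 n38990 = n84523 := rfl
theorem F129687 : act 3 n84523 = n38993 := d7_1 D84523 (iv6 D38993) D38990
def n84524 : Q := act 3 n38991
theorem D84524 : act 3 n38991 = n84524 := rfl
def n84525 : Q := act 5 n38991
theorem D84525 : act 5 n38991 = n84525 := rfl
def n84526 : Q := act 6 n38991
theorem D84526 : act 6 n38991 = n84526 := rfl
theorem F129688 : act 4 n84526 = n38993 := d10_1 D84526 (iv6 D38993) D38991
def n84527 : Q := act 4 n38992
theorem D84527 : act 4 n38992 = n84527 := rfl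
theorem F129689 : act 2 n84527 = n45261 := d1_1 D84527 F71323 (iv2 F116981)
theorem F129690 : act 6 n84527 = n45060 := d10_2 (iv6 F60008) D84527 (iv4 D45060)
def n84528 : Q := act 1 n38993
theorem D84528 : act 1 n38993 = n84528 := rfl
theorem F129691 : act 1 n84528 = n58158 := d15_1 D84528 (iv7 F129461) F129459
theorem F129692 : act 6 n45181 = n84528 := d21_3 (iv5 F116927) (iv1 F125335) F125333 (iv1 D84528) (iv6 D38993) D38992 F129454 D55603 F87946 D76159
theorem F129693 : act 2 n84528 = n76182 := d3_1 F129692 (iv6 D76182) F126094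
theorem F129695 : act 5 n84528 = n45309 := d21_6 (iv5 D8832) F12241 D16689 (iv6 F33940) D45181 F129692 (iv1 D45309) (iv5 F60665) (iv6 D39868) (iv1 D18864)
theorem F129696 : act 1 n58158 = n81397 := d15_1 F129691 F125200 (iv2 F129693)
def n84529 : Q := act 5 n38993
theorem D84529 : act 5 n38993 = n84529 := rfl
theorem F129697 : act 2 n84529 = n45266 := d2_1 D84529 (iv5 F129460) F129459
theorem F129698 : act 6 n84529 = n45061 := d12_2 D38993 D84529 (iv5 D45061) (iv6 F60008) (iv5 D38992)
theorem F129699 : act 7 n45293 = n84529 := d14_0 F129698 F116980 (iv6 F70936) F116971 D45293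
theorem F129700 : act 0 n84529 = n78820 := d21_10 (iv5 D78820) (iv1 F126096) F54623 (iv6 D21601) F16892 (iv6 F33841) (iv5 D21517) D21515 D45061 (iv6 F129698)
theorem F129701 : act 1 n82270 = n45293 := d15_1 (iv0 F126749) F129699 F129697
def n84530 : Q := act 7 n38993
theorem D84530 : act 7 n38993 = n84530 := rfl
theorem F129703 : act 5 n84530 = n45293 := d13_1 D84530 F129699 (iv5 D84529)
theorem F129704 : act 6 n84530 = n58113 := d14_1 D84530 F116963 (iv6 F59940) F116996 D38993
def n84531 : Q := act 3 n38994
theorem D84531 : act 3 n38994 = n84531 := rfl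
def n84532 : Q := act 4 n38994
theorem D84532 : act 4 n38994 = n84532 := rfl
theorem F129707 : act 1 n84532 = n44489 := d18_8 (iv1 F121261) (iv4 D38930) (iv1 F59931) F59929 (iv5 F59946) (iv4 F129473) F129475 D84532 (iv5 D44489)
theorem F129708 : act 3 n41391 = n84532 := d20_5 D58034 F126256 F126255 F63811 D41391 (iv4 D84532) (iv1 F129475) F129473 (iv3 F91712) (iv1 F91715)
def n84533 : Q := act 5 n38994
theorem D84533 : act 5 n38994 = n84533 := rfl
def n84534 : Q := act 6 n38994
theorem D84534 : act 6 n38994 = n84534 := rfl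
def n84536 : Q := act 5 n38995
theorem D84536 : act 5 n38995 = n84536 := rfl
def n84538 : Q := act 0 n38996
theorem D84538 : act 0 n38996 = n84538 := rfl
def n84539 : Q := act 1 n38996
theorem D84539 : act 1 n38996 = n84539 := rfl
def n84540 : Q := act 2 n38996
theorem D84540 : act 2 n38996 = n84540 := rfl
theorem F129709 : act 4 n84540 = n39073 := d1_2 (iv4 F60009) D84540 (iv2 D39073)
theorem F129710 : act 6 n84540 = n75183 := d3_2 (iv6 F60010) D84540 (iv2 D75183)
def n84541 : Q := act 5 n38996
theorem D84541 : act 5 n38996 = n84541 := rfl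
theorem F129711 : act 3 n84541 = n38997 := d6_1 D84541 (iv5 D38997) D38996
def n84542 : Q := act 7 n38996
theorem D84542 : act 7 n38996 = n84542 := rfl
theorem F129712 : act 3 n84542 = n38998 := d8_1 D84542 (iv7 D38998) D38996
theorem F129713 : act 4 n84542 = n39075 := d11_1 D84542 (iv7 D39075) (iv4 F60009)
def n84543 : Q := act 0 n38997
theorem D84543 : act 0 n38997 = n84543 := rfl
def n84544 : Q := act 1 n38997
theorem D84544 : act 1 n38997 = n84544 := rfl
def n84545 : Q := act 4 n38997
theorem D84545 : act 4 n38997 = n84545 := rfl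
def n84546 : Q := act 6 n38997
theorem D84546 : act 6 n38997 = n84546 := rfl
theorem F129714 : act 5 n84546 = n75187 := d12_1 D84546 (iv6 D75187) (iv5 D34429) (iv6 F29684) D38997
def n84547 : Q := act 7 n38997
theorem D84547 : act 7 n38997 = n84547 := rfl
theorem F129715 : act 5 n84547 = n38998 := d13_1 D84547 (iv7 D38998) D38997
def n84548 : Q := act 6 n38998
theorem D84548 : act 6 n38998 = n84548 := rfl
theorem F129716 : act 4 n84548 = n38999 := d10_1 D84548 (iv6 D38999) (iv4 F60011)
def n84549 : Q := act 0 n38999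
theorem D84549 : act 0 n38999 = n84549 := rfl
theorem F129718 : act 1 n45160 = n84549 := d15_0 (iv0 D84549) F60013 (iv2 F71162)
def n84550 : Q := act 1 n38999
theorem D84550 : act 1 n38999 = n84550 := rfl
def n84551 : Q := act 0 n39015
theorem D84551 : act 0 n39015 = n84551 := rfl
def n84552 : Q := act 1 n39015
theorem D84552 : act 1 n39015 = n84552 := rfl
def n84553 : Q := act 4 n39015
theorem D84553 : act 4 n39015 = n84553 := rfl
def n84554 : Q := act 6 n39015
theorem D84554 : act 6 n39015 = n84554 := rfl
def n84555 : Q := act 5 n39016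
theorem D84555 : act 5 n39016 = n84555 := rfl
theorem F129720 : act 7 n84555 = n81810 := d13_2 F60027 D84555 (iv5 D81810)
theorem F129721 : act 0 n84555 = n56947 := d17_2 (iv1 F123545) D84555 (iv5 D56947) F44226 F21849 F121297 D36634 D80388 (iv4 F123538)
def n84556 : Q := act 4 n39017
theorem D84556 : act 4 n39017 = n84556 := rfl
theorem F129722 : act 6 n84556 = n76865 := d10_2 (iv6 F121083) D84556 (iv4 D76865)
theorem F129723 : act 0 n84556 = n77836 := d18_2 D39017 D84556 (iv4 D77836) (iv5 D35520) D35519 F121074 F44391 (iv0 F121064) D18517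
def n84557 : Q := act 3 n39018
theorem D84557 : act 3 n39018 = n84557 := rfl
def n84558 : Q := act 4 n39018
theorem D84558 : act 4 n39018 = n84558 := rfl
def n84559 : Q := act 0 n39019
theorem D84559 : act 0 n39019 = n84559 := rfl
def n84560 : Q := act 1 n39019
theorem D84560 : act 1 n39019 = n84560 := rfl
def n84561 : Q := act 3 n39019
theorem D84561 : act 3 n39019 = n84561 := rfl
theorem F129724 : act 4 n84561 = n39025 := d5_2 D39019 D84561 (iv3 D39025) (iv4 D18527) (iv3 F29697)
def n84562 : Q := act 5 n39019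
theorem D84562 : act 5 n39019 = n84562 := rfl
def n84563 : Q := act 6 n39019
theorem D84563 : act 6 n39019 = n84563 := rfl
theorem F129725 : act 4 n84563 = n39020 := d10_1 D84563 (iv6 D39020) D39019
def n84564 : Q := act 3 n39024
theorem D84564 : act 3 n39024 = n84564 := rfl
theorem F129726 : act 6 n84564 = n78586 := d7_2 F114146 D84564 (iv3 D78586)
theorem F129727 : act 7 n84564 = n78261 := d8_2 (iv7 F60033) D84564 (iv3 D78261)
def n84565 : Q := act 0 n39025
theorem D84565 : act 0 n39025 = n84565 := rfl
def n84566 : Q := act 1 n39025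
theorem D84566 : act 1 n39025 = n84566 := rfl
def n84567 : Q := act 2 n39025
theorem D84567 : act 2 n39025 = n84567 := rfl
def n84568 : Q := act 6 n39025
theorem D84568 : act 6 n39025 = n84568 := rfl
theorem F129728 : act 3 n84568 = n39026 := d7_1 D84568 (iv6 D39026) D39025
def n84569 : Q := act 5 n39026
theorem D84569 : act 5 n39026 = n84569 := rfl
theorem F129729 : act 2 n84569 = n81829 := d2_1 D84569 (iv5 D81829) (iv2 F60036)
theorem F129730 : act 4 n84569 = n69524 := d16_2 (iv4 F60037) D84569 F105812 (iv4 D55173) F51222 F51220 F30090 F30089 (iv2 F29884)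
theorem F129732 : act 1 n84569 = n58698 := d17_6 (iv1 F22106) (iv5 F22107) (iv1 F29709) (iv5 F29707) (iv4 F60037) D84569 (iv5 D58698) F45067 (iv4 D18813)
def n84570 : Q := act 0 n39052
theorem D84570 : act 0 n39052 = n84570 := rfl
def n84571 : Q := act 1 n39052
theorem D84571 : act 1 n39052 = n84571 := rfl
def n84572 : Q := act 2 n39052
theorem D84572 : act 2 n39052 = n84572 := rfl
def n84573 : Q := act 3 n39055
theorem D84573 : act 3 n39055 = n84573 := rfl
def n84574 : Q := act 5 n39055
theorem D84574 : act 5 n39055 = n84574 := rfl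
theorem F129734 : act 1 n84574 = n76199 := d17_6 (iv1 F28012) (iv5 F27598) F29882 D18545 D39055 D84574 (iv5 D76199) F55908 F55906
def n84575 : Q := act 0 n39059
theorem D84575 : act 0 n39059 = n84575 := rfl
def n84576 : Q := act 5 n39059
theorem D84576 : act 5 n39059 = n84576 := rfl
def n84577 : Q := act 0 n39060
theorem D84577 : act 0 n39060 = n84577 := rfl
theorem F129735 : act 6 n84577 = n55500 := d21_5 D13190 F120572 (iv5 F54975) (iv6 F60058) D84577 F115444 (iv1 F89951) F89948 F44191 (iv1 F21915)
theorem F129736 : act 5 n84577 = n57407 := d21_0 (iv1 D57407) (iv5 D27472) D27473 F44549 (iv6 D13191) D13190 F120572 (iv5 F54975) (iv6 F60058) D84577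
theorem F129738 : act 1 n55392 = n84577 := d15_0 (iv0 D84577) F60059 (iv2 F120648)
theorem F129739 : act 7 n84577 = n55378 := d15_2 (iv0 F91066) F129738 F115434
def n84578 : Q := act 4 n39060
theorem D84578 : act 4 n39060 = n84578 := rfl
theorem F129740 : act 6 n84578 = n76052 := d10_2 (iv6 F60058) D84578 (iv4 D76052)
theorem F129741 : act 7 n84578 = n56827 := d11_2 (iv7 F60059) D84578 F89843
theorem F129742 : act 0 n55468 = n84578 := d20_7 (iv4 F51967) (iv1 D32821) F30462 (iv3 F43974) D56555 F120891 F116231 (iv4 D84578) F60057 (iv1 F43193)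
def n84579 : Q := act 0 n39066
theorem D84579 : act 0 n39066 = n84579 := rfl
theorem F129743 : act 1 n78398 = n84579 := d15_0 (iv0 D84579) F60063 D78398
def n84580 : Q := act 1 n39066
theorem D84580 : act 1 n39066 = n84580 := rfl
def n84581 : Q := act 2 n39066
theorem D84581 : act 2 n39066 = n84581 := rfl
theorem F129744 : act 3 n84581 = n78383 := d0_2 D39066 D84581 (iv2 D78383) (iv3 D35723) F41955
theorem F129745 : act 7 n84581 = n78398 := d4_2 (iv7 F60063) D84581 (iv2 D78398)
theorem F129746 : act 1 n84581 = n78396 := d15_0 (iv0 D78396) (iv7 F60063) D84581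
theorem F129747 : act 1 n84580 = n78398 := d15_1 D84580 (iv7 F129745) (iv2 D84581)
theorem F129748 : act 1 n78397 = n84581 := d15_1 D78397 F129745 (iv2 D78398)
def n84582 : Q := act 4 n39066
theorem D84582 : act 4 n39066 = n84582 := rfl
theorem F129749 : act 3 n84582 = n55863 := d5_1 D84582 (iv4 D55863) (iv3 D26948) (iv4 F41956) D39066
theorem F129750 : act 7 n84582 = n78391 := d11_2 (iv7 F60063) D84582 F119595
def n84583 : Q := act 5 n39066
theorem D84583 : act 5 n39066 = n84583 := rfl
theorem F129751 : act 3 n84583 = n39067 := d6_1 D84583 (iv5 D39067) D39066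
theorem F129752 : act 7 n84583 = n78399 := d13_2 (iv7 F60063) D84583 (iv5 D78399)
def n84584 : Q := act 6 n39067
theorem D84584 : act 6 n39067 = n84584 := rfl
def n84585 : Q := act 0 n39068
theorem D84585 : act 0 n39068 = n84585 := rfl
theorem F129754 : act 1 n78383 = n84585 := d15_0 (iv0 D84585) F60066 D78383
def n84586 : Q := act 1 n39068
theorem D84586 : act 1 n39068 = n84586 := rfl
def n84587 : Q := act 2 n39068
theorem D84587 : act 2 n39068 = n84587 := rfl
theorem F129755 : act 3 n84587 = n78398 := d0_2 D39068 D84587 (iv2 D78398) (iv3 D35730) F41953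
theorem F129756 : act 7 n84587 = n78383 := d4_2 (iv7 F60066) D84587 (iv2 D78383)
theorem F129757 : act 1 n84587 = n78381 := d15_0 (iv0 D78381) (iv7 F60066) D84587
theorem F129759 : act 1 n78382 = n84587 := d15_1 D78382 F129756 (iv2 D78383)
def n84588 : Q := act 4 n39068
theorem D84588 : act 4 n39068 = n84588 := rfl
theorem F129760 : act 3 n84588 = n55867 := d5_1 D84588 (iv4 D55867) (iv3 D26949) (iv4 F41952) D39068
theorem F129761 : act 7 n84588 = n78376 := d11_2 (iv7 F60066) D84588 F119584
def n84589 : Q := act 5 n39068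
theorem D84589 : act 5 n39068 = n84589 := rfl
theorem F129762 : act 3 n84589 = n39069 := d6_1 D84589 (iv5 D39069) D39068
theorem F129763 : act 7 n84589 = n78384 := d13_2 (iv7 F60066) D84589 (iv5 D78384)
def n84591 : Q := act 6 n39069
theorem D84591 : act 6 n39069 = n84591 := rfl
def n84593 : Q := act 0 n39071
theorem D84593 : act 0 n39071 = n84593 := rfl
theorem F129769 : act 2 n39075 = n84593 := d15_3 (iv0 D84593) (iv0 D39071) D39075
theorem F129770 : act 7 n84593 = n39073 := d4_2 D39075 F129769 (iv2 D39073)
theorem F129771 : act 1 n39072 = n84593 := d15_1 D39072 F129770 (iv2 D39073)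
def n84594 : Q := act 2 n39071
theorem D84594 : act 2 n39071 = n84594 := rfl
theorem F129772 : act 7 n39072 = n84594 := d15_2 (iv0 D39071) D39072 (iv2 D84594)
def n84595 : Q := act 3 n39071
theorem D84595 : act 3 n39071 = n84595 := rfl
def n84596 : Q := act 4 n39071
theorem D84596 : act 4 n39071 = n84596 := rfl
def n84597 : Q := act 5 n39071
theorem D84597 : act 5 n39071 = n84597 := rfl
def n84598 : Q := act 6 n39071
theorem D84598 : act 6 n39071 = n84598 := rfl
def n84599 : Q := act 7 n39071
theorem D84599 : act 7 n39071 = n84599 := rfl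
theorem F129773 : act 2 n84599 = n39072 := d4_1 D84599 F129772 (iv2 D84594)
def n84600 : Q := act 3 n39072
theorem D84600 : act 3 n39072 = n84600 := rfl
def n84601 : Q := act 4 n39072
theorem D84601 : act 4 n39072 = n84601 := rfl
def n84602 : Q := act 5 n39072
theorem D84602 : act 5 n39072 = n84602 := rfl
def n84603 : Q := act 6 n39072
theorem D84603 : act 6 n39072 = n84603 := rfl
def n84604 : Q := act 0 n39073
theorem D84604 : act 0 n39073 = n84604 := rfl
theorem F129774 : act 1 n39075 = n84604 := d15_0 (iv0 D84604) (iv7 F129770) (iv2 F129769)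
def n84605 : Q := act 1 n39073
theorem D84605 : act 1 n39073 = n84605 := rfl
theorem F129775 : act 1 n84605 = n39075 := d15_1 D84605 (iv7 D39075) D39073
def n84606 : Q := act 5 n39073
theorem D84606 : act 5 n39073 = n84606 := rfl
theorem F129776 : act 2 n84606 = n39074 := d2_1 D84606 (iv5 D39074) D39073
def n84607 : Q := act 0 n39074
theorem D84607 : act 0 n39074 = n84607 := rfl
def n84608 : Q := act 1 n39074
theorem D84608 : act 1 n39074 = n84608 := rfl
def n84609 : Q := act 4 n39074
theorem D84609 : act 4 n39074 = n84609 := rfl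
def n84610 : Q := act 6 n39074
theorem D84610 : act 6 n39074 = n84610 := rfl
theorem F129777 : act 3 n84610 = n39079 := d7_1 D84610 (iv6 D39079) (iv3 F60072)
theorem F129778 : act 5 n84610 = n39888 := d12_1 D84610 (iv6 D39888) F30114 (iv6 F29792) D39074
def n84611 : Q := act 7 n39074
theorem D84611 : act 7 n39074 = n84611 := rfl
theorem F129779 : act 3 n84611 = n39080 := d8_1 D84611 (iv7 D39080) (iv3 F60072)
theorem F129780 : act 5 n84611 = n39075 := d13_1 D84611 (iv7 D39075) D39074
def n84612 : Q := act 6 n39075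
theorem D84612 : act 6 n39075 = n84612 := rfl
theorem F129781 : act 3 n84612 = n39081 := d7_1 D84612 (iv6 D39081) (iv3 F60073)
theorem F129782 : act 7 n84612 = n58718 := d14_2 D39075 D84612 (iv6 D58718) F45085 (iv6 F29792)
def n84613 : Q := act 3 n39076
theorem D84613 : act 3 n39076 = n84613 := rfl
theorem F129783 : act 5 n84613 = n55831 := d6_2 (iv5 F60074) D84613 (iv3 D55831)
theorem F129784 : act 7 n84613 = n78352 := d8_2 F60076 D84613 F119570
def n84614 : Q := act 6 n39076
theorem D84614 : act 6 n39076 = n84614 := rfl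
def n84615 : Q := act 3 n39077
theorem D84615 : act 3 n39077 = n84615 := rfl
theorem F129786 : act 5 n84615 = n55856 := d6_2 (iv5 F60078) D84615 (iv3 D55856)
theorem F129787 : act 7 n84615 = n78268 := d8_2 (iv7 F60077) D84615 F119465
def n84617 : Q := act 3 n39078
theorem D84617 : act 3 n39078 = n84617 := rfl
def n84618 : Q := act 6 n39078
theorem D84618 : act 6 n39078 = n84618 := rfl
theorem F129789 : act 4 n84618 = n39079 := d10_1 D84618 (iv6 D39079) D39078
def n84619 : Q := act 0 n39079
theorem D84619 : act 0 n39079 = n84619 := rfl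
theorem F129790 : act 5 n84619 = n78748 := d17_3 (iv1 D39890) (iv5 F60080) D84619 (iv4 D78748) (iv5 D35852) (iv0 D17362) (iv5 F21586) D27111 F60703
def n84620 : Q := act 1 n39079
theorem D84620 : act 1 n39079 = n84620 := rfl
theorem F129791 : act 5 n78758 = n84620 := d21_6 (iv5 F21407) F21408 (iv5 F22120) D27917 (iv1 F88513) (iv6 F119915) (iv1 D84620) F60080 (iv6 D18871) F13738
def n84621 : Q := act 7 n39079
theorem D84621 : act 7 n39079 = n84621 := rfl
theorem F129792 : act 5 n84621 = n39271 := d13_1 D84621 F60238 (iv5 F60080)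
def n84622 : Q := act 6 n39080
theorem D84622 : act 6 n39080 = n84622 := rfl
def n84623 : Q := act 5 n39081
theorem D84623 : act 5 n39081 = n84623 := rfl
theorem F129793 : act 7 n84623 = n39269 := d13_2 (iv7 F60085) D84623 F60233
theorem F129794 : act 0 n84623 = n79879 := d17_2 F92086 D84623 (iv5 D79879) F57139 F43825 F43823 (iv5 F43490) F43493 D35851
def n84624 : Q := act 6 n39082
theorem D84624 : act 6 n39082 = n84624 := rfl
theorem F129795 : act 3 n84624 = n83490 := d7_1 D84624 (iv6 D83490) (iv3 F60086)
def n84625 : Q := act 3 n39083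
theorem D84625 : act 3 n39083 = n84625 := rfl
theorem F129796 : act 2 n84625 = n45991 := d0_1 D84625 F72566 (iv2 F127858) F127859 (iv2 F91679)
theorem F129797 : act 5 n84625 = n41516 := d6_2 (iv5 F74237) D84625 F64041
theorem F129798 : act 7 n84625 = n45989 := d8_2 F91682 D84625 F91685
theorem F129799 : act 4 n84625 = n60251 := d20_6 (iv4 F17283) (iv1 F20828) D26305 D54385 (iv1 F85864) D84625 (iv1 D60251) (iv4 F74316) F74313 F35292
theorem F129800 : act 0 n84625 = n46050 := d20_10 (iv4 F125800) (iv1 F125802) (iv4 D41127) (iv3 D19350) (iv1 F17267) (iv3 F34805) D46540 (iv1 F128751) F128753 D84625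
theorem F129801 : act 0 n41528 = n84625 := d20_4 (iv4 F13494) D18161 (iv4 F31300) D41528 (iv3 D84625) (iv4 F128753) (iv1 D83680) F59401 (iv3 D18382) F13566
def n84626 : Q := act 6 n39083
theorem D84626 : act 6 n39083 = n84626 := rfl
def n84627 : Q := act 6 n39084
theorem D84627 : act 6 n39084 = n84627 := rfl
theorem F129802 : act 3 n84627 = n39086 := d7_1 D84627 (iv6 D39086) (iv3 F60087)
def n84628 : Q := act 0 n39085
theorem D84628 : act 0 n39085 = n84628 := rfl
def n84629 : Q := act 1 n39085
theorem D84629 : act 1 n39085 = n84629 := rfl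
def n84630 : Q := act 5 n39085
theorem D84630 : act 5 n39085 = n84630 := rfl
theorem F129803 : act 3 n84630 = n39089 := d6_1 D84630 (iv5 D39089) (iv3 F60089)
def n84631 : Q := act 7 n39085
theorem D84631 : act 7 n39085 = n84631 := rfl
def n84632 : Q := act 0 n39086
theorem D84632 : act 0 n39086 = n84632 := rfl
def n84633 : Q := act 1 n39086
theorem D84633 : act 1 n39086 = n84633 := rfl
theorem F129805 : act 1 n84633 = n39118 := d15_1 D84633 (iv7 D39118) (iv2 F60090)
def n84634 : Q := act 5 n39086
theorem D84634 : act 5 n39086 = n84634 := rfl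
theorem F129806 : act 2 n84634 = n39117 := d2_1 D84634 (iv5 D39117) (iv2 F60090)
theorem F129807 : act 6 n84634 = n39089 := d12_2 D39086 D84634 (iv5 D39089) (iv6 D18562) D18561
def n84635 : Q := act 7 n39086
theorem D84635 : act 7 n39086 = n84635 := rfl
def n84636 : Q := act 3 n39087
theorem D84636 : act 3 n39087 = n84636 := rfl
theorem F129815 : act 7 n84636 = n39125 := d8_2 (iv7 F91559) D84636 (iv3 D39125)
def n84637 : Q := act 5 n39087
theorem D84637 : act 5 n39087 = n84637 := rfl
theorem F129816 : act 2 n84637 = n39122 := d2_1 D84637 (iv5 D39122) (iv2 F91558)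
theorem F129817 : act 7 n84637 = n39127 := d13_2 (iv7 F91559) D84637 (iv5 D39127)
def n84638 : Q := act 3 n39088
theorem D84638 : act 3 n39088 = n84638 := rfl
theorem F129818 : act 7 n84638 = n39120 := d8_2 (iv7 F91561) D84638 (iv3 D39120)
def n84639 : Q := act 4 n39088
theorem D84639 : act 4 n39088 = n84639 := rfl
theorem F129819 : act 2 n84639 = n39126 := d1_1 D84639 (iv4 D39126) (iv2 F91560)
theorem F129820 : act 7 n84639 = n39121 := d11_2 (iv7 F91561) D84639 (iv4 D39121)
theorem F129821 : act 3 n84639 = n55352 := d20_3 (iv4 F29819) (iv1 F60094) D84639 (iv1 D55352) F42976 (iv4 F55928) D76997 (iv4 F120859) F118550 (iv1 F29806)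
theorem F129822 : act 0 n84639 = n40087 := d20_4 (iv4 F44409) (iv1 F90300) F120849 (iv3 F129821) F60981 F31218 F118119 (iv4 D38165) F120626 (iv1 F44327)
theorem F129823 : act 1 n84639 = n40093 := d15_1 (iv0 F129822) (iv7 D40093) (iv2 F60980)
def n84640 : Q := act 5 n39088
theorem D84640 : act 5 n39088 = n84640 := rfl
theorem F129824 : act 2 n84640 = n39127 := d2_1 D84640 (iv5 D39127) (iv2 F91560)
theorem F129825 : act 7 n84640 = n39122 := d13_2 (iv7 F91561) D84640 (iv5 D39122)
def n84641 : Q := act 6 n39088
theorem D84641 : act 6 n39088 = n84641 := rfl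
theorem F129826 : act 2 n84641 = n39128 := d3_1 D84641 (iv6 D39128) (iv2 F91560)
theorem F129827 : act 7 n84641 = n58521 := d14_2 (iv7 F91561) D84641 (iv6 F126488) F126496 (iv6 D39123)
theorem E13784 : n58522 = n39128 := ((c15_4 F92446 F92445 (iv7 F129827) F129826)).symm
theorem F129828 : act 0 n39128 = n27845 := (sb E13784 (iv1 D58522))
theorem F129829 : act 1 n39128 = n39696 := (sb E13784 F92446)
theorem F129830 : act 5 n39128 = n76088 := (sb E13784 (iv5 F117601))
def n84642 : Q := act 0 n39089
theorem D84642 : act 0 n39089 = n84642 := rfl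
def n84643 : Q := act 1 n39089
theorem D84643 : act 1 n39089 = n84643 := rfl
theorem F129831 : act 1 n84643 = n39132 := d15_1 D84643 (iv7 D39132) (iv2 F60095)
theorem F129832 : act 5 n56729 = n84643 := d21_6 (iv5 F22003) F21783 (iv5 D13058) D13059 D27259 D56729 (iv1 D84643) (iv5 D39089) (iv6 D18562) (iv1 F21998)
theorem F129833 : act 2 n84643 = n39130 := d2_1 F129832 (iv5 F123442) F123440
def n84644 : Q := act 4 n39089
theorem D84644 : act 4 n39089 = n84644 := rfl
theorem F129834 : act 2 n84644 = n39131 := d1_1 D84644 (iv4 D39131) (iv2 F60095)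
def n84645 : Q := act 7 n39089
theorem D84645 : act 7 n39089 = n84645 := rfl
theorem F129835 : act 2 n84645 = n39132 := d4_1 D84645 (iv7 D39132) (iv2 F60095)
theorem F129836 : act 5 n84645 = n39090 := d13_1 D84645 (iv7 D39090) D39089
theorem F129837 : act 1 n39132 = n84642 := d15_0 (iv0 D84642) D84645 F129835
theorem F129838 : act 1 n39130 = n84645 := d15_1 D39130 (iv7 D84645) F60095
theorem F129839 : act 7 n84642 = n39130 := d15_2 F129831 F129837 (iv2 F129833)
theorem F129840 : act 2 n84642 = n39129 := d15_3 (iv0 D39129) D39130 (iv7 F129839)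
theorem F129841 : act 7 n39129 = n84643 := d4_2 (iv7 F129839) F129840 F129833
theorem F129842 : act 1 n84645 = n39129 := d15_1 F129838 F129841 F129833
def n84646 : Q := act 3 n39093
theorem D84646 : act 3 n39093 = n84646 := rfl
theorem F129843 : act 7 n84646 = n39166 := d8_2 (iv7 F117492) D84646 (iv3 D39166)
def n84647 : Q := act 5 n39093
theorem D84647 : act 5 n39093 = n84647 := rfl
theorem F129844 : act 2 n84647 = n39148 := d2_1 D84647 (iv5 D39148) (iv2 F117491)
theorem F129845 : act 7 n84647 = n39167 := d13_2 (iv7 F117492) D84647 (iv5 D39167)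
def n84648 : Q := act 4 n39094
theorem D84648 : act 4 n39094 = n84648 := rfl
theorem F129846 : act 2 n84648 = n39153 := d1_1 D84648 (iv4 D39153) (iv2 F117493)
theorem F129847 : act 7 n84648 = n39169 := d11_2 (iv7 F117494) D84648 (iv4 D39169)
def n84649 : Q := act 5 n39096
theorem D84649 : act 5 n39096 = n84649 := rfl
theorem F129848 : act 2 n84649 = n39167 := d2_1 D84649 (iv5 D39167) (iv2 F117483)
theorem F129849 : act 7 n84649 = n39148 := d13_2 (iv7 F117484) D84649 (iv5 D39148)
def n84650 : Q := act 4 n39097
theorem D84650 : act 4 n39097 = n84650 := rfl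
theorem F129850 : act 2 n84650 = n39169 := d1_1 D84650 (iv4 D39169) (iv2 F117479)
theorem F129851 : act 6 n84650 = n58030 := d10_2 F60102 D84650 (iv4 D58030)
theorem F129852 : act 7 n84650 = n39153 := d11_2 (iv7 F117480) D84650 (iv4 D39153)
def n84651 : Q := act 3 n39099
theorem D84651 : act 3 n39099 = n84651 := rfl
theorem F129853 : act 7 n84651 = n39181 := d8_2 (iv7 F117428) D84651 (iv3 D39181)
theorem F129854 : act 5 n82466 = n84651 := d13_3 F129853 (iv5 F118660) D82466
def n84652 : Q := act 4 n39099
theorem D84652 : act 4 n39099 = n84652 := rfl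
theorem F129855 : act 2 n84652 = n39177 := d1_1 D84652 (iv4 D39177) (iv2 F117427)
theorem F129856 : act 7 n84652 = n39182 := d11_2 (iv7 F117428) D84652 (iv4 D39182)
def n84653 : Q := act 5 n39099
theorem D84653 : act 5 n39099 = n84653 := rfl
theorem F129857 : act 2 n84653 = n39178 := d2_1 D84653 (iv5 D39178) (iv2 F117427)
theorem F129858 : act 3 n84653 = n82466 := d6_1 D84653 F129854 (iv3 D84651)
theorem F129859 : act 7 n84653 = n39183 := d13_2 (iv7 F117428) D84653 (iv5 D39183)
theorem F129860 : act 0 n84653 = n55574 := d21_1 D84653 (iv5 F117437) F117438 F117291 F44041 (iv5 D13046) F16995 D16702 (iv6 F29804) D39099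
theorem F129861 : act 6 n84653 = n55576 := d21_3 D18565 D39099 D84653 (iv1 D55576) (iv6 D26826) D26825 (iv1 F114069) (iv5 D39726) (iv6 F117435) (iv1 D18564)
theorem F129862 : act 0 n56712 = n84653 := d21_10 (iv5 D84653) (iv1 F60109) F29824 (iv6 F22012) (iv1 F44579) D57964 F117432 (iv1 F117314) (iv5 D56711) D56712
def n84654 : Q := act 6 n39099
theorem D84654 : act 6 n39099 = n84654 := rfl
theorem F129863 : act 2 n84654 = n39179 := d3_1 D84654 (iv6 D39179) (iv2 F117427)
theorem F129864 : act 5 n84654 = n39884 := d12_1 D84654 F124352 (iv5 F124351) (iv6 F129861) (iv5 D84653)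
def n84655 : Q := act 4 n39100
theorem D84655 : act 4 n39100 = n84655 := rfl
theorem F129865 : act 2 n84655 = n39182 := d1_1 D84655 (iv4 D39182) (iv2 F117424)
theorem F129866 : act 7 n84655 = n39177 := d11_2 (iv7 F117425) D84655 (iv4 D39177)
def n84656 : Q := act 0 n39101
theorem D84656 : act 0 n39101 = n84656 := rfl
theorem F129867 : act 4 n84656 = n56134 := d20_2 D39101 D84656 (iv3 D56134) (iv1 F88685) F88681 (iv4 F121627) (iv1 F121629) (iv4 F121511) F121509 (iv1 D39100)
theorem F129868 : act 7 n39186 = n84656 := d11_0 F129867 F123465 F123466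
theorem F129869 : act 1 n39189 = n84656 := d18_6 F118122 (iv4 F60092) F60093 F29819 (iv5 F29824) (iv4 F60165) F129867 (iv0 F128467) F74944
theorem F129870 : act 2 n84656 = n39185 := d15_3 (iv0 D39185) D39186 F129868
def n84657 : Q := act 1 n39101
theorem D84657 : act 1 n39101 = n84657 := rfl
theorem F129871 : act 1 n84657 = n39189 := d15_1 D84657 (iv7 D39189) (iv2 F60105)
theorem F129872 : act 7 n84657 = n39185 := d15_2 (iv0 D84656) D84657 (iv2 F129870)
theorem F129873 : act 2 n39186 = n84657 := d4_3 F129872 (iv2 F129870) (iv7 F129868)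
def n84658 : Q := act 3 n39101
theorem D84658 : act 3 n39101 = n84658 := rfl
theorem F129874 : act 6 n84658 = n75204 := d7_2 (iv6 F60106) D84658 (iv3 D75204)
def n84659 : Q := act 5 n39101
theorem D84659 : act 5 n39101 = n84659 := rfl
theorem F129875 : act 2 n84659 = n39188 := d2_1 D84659 (iv5 D39188) (iv2 F60105)
def n84660 : Q := act 7 n39101
theorem D84660 : act 7 n39101 = n84660 := rfl
theorem F129877 : act 4 n84660 = n39102 := d11_1 D84660 (iv7 D39102) D39101
theorem F129878 : act 1 n39186 = n84660 := d15_1 D39186 (iv7 D84660) F60105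
theorem F129879 : act 1 n84660 = n39185 := d15_1 F129878 (iv7 F129872) (iv2 F129873)
def n84661 : Q := act 4 n39103
theorem D84661 : act 4 n39103 = n84661 := rfl
theorem F129880 : act 2 n84661 = n46274 := d1_1 D84661 (iv4 D46274) (iv2 F60116)
theorem F129881 : act 7 n84661 = n46276 := d11_2 F60115 D84661 (iv4 D46276)
theorem F129882 : act 5 n84661 = n70301 := d16_1 D84661 (iv4 D70301) F51681 (iv4 F68223) (iv5 D43401) (iv4 F34690) F60120 F60118 (iv2 F60116)
theorem F129883 : act 0 n84661 = n73078 := d17_0 (iv5 F114937) (iv1 D76636) (iv5 F74068) (iv4 D46860) F35068 (iv0 D19581) D19584 F60114 D84661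
theorem F129884 : act 1 n84661 = n57563 := d18_6 F73430 F34803 (iv1 D20002) D20004 (iv5 F60112) D84661 F90717 (iv0 F92143) F92141
def n84662 : Q := act 6 n39103
theorem D84662 : act 6 n39103 = n84662 := rfl
theorem F129885 : act 2 n84662 = n46275 := d3_1 D84662 (iv6 D46275) (iv2 F60116)
theorem F129886 : act 3 n84662 = n48184 := d7_1 D84662 (iv6 D48184) (iv3 F60113)
def n84663 : Q := act 3 n39104
theorem D84663 : act 3 n39104 = n84663 := rfl
theorem F129887 : act 2 n84663 = n44576 := d0_1 D84663 F70103 F33441 (iv3 F44594) F60119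
theorem F129888 : act 5 n84663 = n44575 := d6_2 F60120 D84663 F70098
theorem F129889 : act 7 n84663 = n46273 := d8_2 (iv7 F60118) D84663 (iv3 D46273)
theorem F129890 : act 4 n84663 = n83351 := d20_6 (iv4 F13574) (iv1 F27521) F27519 (iv3 F31359) (iv1 F60117) D84663 (iv1 D83351) F59253 F31375 F14405
theorem F129891 : act 1 n82956 = n84663 := d17_8 (iv1 D83351) (iv5 F127494) F127496 F109560 F74247 (iv5 D40592) D40591 (iv5 F127855) F129890
theorem F129892 : act 0 n82958 = n84663 := d18_0 F129890 (iv1 D83351) F59253 (iv5 D19603) D19602 F34055 (iv4 F64170) F64173 (iv5 F127860)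
def n84664 : Q := act 4 n39104
theorem D84664 : act 4 n39104 = n84664 := rfl
theorem F129893 : act 2 n84664 = n46276 := d1_1 D84664 (iv4 D46276) F60119
theorem F129894 : act 3 n84664 = n56886 := d5_1 D84664 (iv4 F122987) F128472 (iv4 F129890) (iv3 D84663)
theorem F129895 : act 5 n84664 = n76641 := d9_2 F60120 D84664 (iv4 D76641) F55635 F41494 (iv5 D20005) D20004 (iv5 F60112) D84661 F129882 (iv4 D70301) F51681 (iv4 F68223) (iv5 D43401) (iv4 F34690)
theorem F129896 : act 7 n84664 = n46274 := d11_2 (iv7 F60118) D84664 (iv4 D46274)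
theorem F129897 : act 0 n84664 = n57563 := d17_0 (iv5 F90718) F55669 (iv5 F74071) (iv4 D46862) (iv5 F35076) F31354 (iv5 F29810) D39104 D84664
theorem F129898 : act 1 n84664 = n73078 := d18_8 (iv1 D76636) (iv4 D35026) D35025 (iv4 F90070) F90071 F44373 D39104 D84664 (iv5 F114937)
def n84665 : Q := act 6 n39104
theorem D84665 : act 6 n39104 = n84665 := rfl
theorem F129899 : act 2 n84665 = n46277 := d3_1 D84665 (iv6 D46277) F60119
def n84666 : Q := act 0 n39105
theorem D84666 : act 0 n39105 = n84666 := rfl
theorem F129900 : act 1 n46282 = n84666 := d15_0 (iv0 D84666) (iv7 F92426) F92425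
def n84667 : Q := act 1 n39105
theorem D84667 : act 1 n39105 = n84667 := rfl
theorem F129901 : act 1 n84667 = n46282 := d15_1 D84667 (iv7 D46282) (iv2 F60121)
def n84668 : Q := act 5 n39105
theorem D84668 : act 5 n39105 = n84668 := rfl
theorem F129902 : act 2 n84668 = n46281 := d2_1 D84668 (iv5 D46281) (iv2 F60121)
theorem F129903 : act 3 n84668 = n39108 := d6_1 D84668 (iv5 D39108) (iv3 F60122)
theorem F129904 : act 6 n84668 = n46271 := d12_2 D39105 D84668 (iv5 D46271) (iv6 D22130) (iv5 F29810)
def n84669 : Q := act 0 n39108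
theorem D84669 : act 0 n39108 = n84669 := rfl
theorem F129905 : act 1 n39708 = n84669 := d15_0 (iv0 D84669) (iv7 F92430) F92429
def n84670 : Q := act 4 n39108
theorem D84670 : act 4 n39108 = n84670 := rfl
def n84671 : Q := act 0 n39112
theorem D84671 : act 0 n39112 = n84671 := rfl
def n84672 : Q := act 1 n39112
theorem D84672 : act 1 n39112 = n84672 := rfl
def n84673 : Q := act 4 n39112
theorem D84673 : act 4 n39112 = n84673 := rfl
def n84674 : Q := act 7 n39112
theorem D84674 : act 7 n39112 = n84674 := rfl
theorem F129907 : act 3 n84674 = n46077 := d8_1 D84674 (iv7 D46077) (iv3 F60124)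
theorem F129908 : act 5 n84674 = n39113 := d13_1 D84674 (iv7 D39113) D39112
def n84675 : Q := act 0 n39114
theorem D84675 : act 0 n39114 = n84675 := rfl
def n84676 : Q := act 5 n39114
theorem D84676 : act 5 n39114 = n84676 := rfl
theorem F129909 : act 2 n84676 = n46460 := d2_1 D84676 (iv5 D46460) (iv2 F60128)
theorem F129910 : act 3 n84676 = n46857 := d6_1 D84676 (iv5 D46857) (iv3 F60129)
theorem F129911 : act 6 n84676 = n56719 := d12_2 D39114 D84676 (iv5 D56719) (iv6 D27257) (iv5 F29814)
def n84677 : Q := act 7 n39114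
theorem D84677 : act 7 n39114 = n84677 := rfl
theorem F129912 : act 2 n84677 = n46461 := d4_1 D84677 (iv7 D46461) (iv2 F60128)
theorem F129913 : act 3 n84677 = n46858 := d8_1 D84677 (iv7 D46858) (iv3 F60129)
theorem F129914 : act 6 n84677 = n46695 := d14_1 D84677 (iv7 D46695) (iv6 D22394) (iv7 F29817) D39114
theorem E13785 : n84675 = n46702 := ((c15_1 (iv0 F73819) (iv0 D84675) D84677 F129912)).symm
theorem F129915 : act 1 n46702 = n39114 := (sb E13785 (iv0 D84675))
theorem F129916 : act 1 n46459 = n84677 := d15_1 D46459 (iv7 D84677) F60128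
theorem F129917 : act 1 n84677 = n46458 := d15_0 (iv0 D46458) D46461 (iv2 F129912)
def n84678 : Q := act 2 n39115
theorem D84678 : act 2 n39115 = n84678 := rfl
theorem F129918 : act 7 n39116 = n84678 := d15_2 (iv0 D39115) D39116 (iv2 D84678)
def n84679 : Q := act 3 n39115
theorem D84679 : act 3 n39115 = n84679 := rfl
def n84680 : Q := act 4 n39115
theorem D84680 : act 4 n39115 = n84680 := rfl
def n84681 : Q := act 5 n39115
theorem D84681 : act 5 n39115 = n84681 := rfl
def n84682 : Q := act 6 n39115
theorem D84682 : act 6 n39115 = n84682 := rfl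
def n84683 : Q := act 7 n39115
theorem D84683 : act 7 n39115 = n84683 := rfl
theorem F129919 : act 2 n84683 = n39116 := d4_1 D84683 F129918 (iv2 D84678)
def n84684 : Q := act 3 n39116
theorem D84684 : act 3 n39116 = n84684 := rfl
def n84685 : Q := act 4 n39116
theorem D84685 : act 4 n39116 = n84685 := rfl
def n84686 : Q := act 5 n39116
theorem D84686 : act 5 n39116 = n84686 := rfl
def n84687 : Q := act 6 n39116
theorem D84687 : act 6 n39116 = n84687 := rfl
def n84688 : Q := act 0 n39117
theorem D84688 : act 0 n39117 = n84688 := rfl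
def n84689 : Q := act 1 n39117
theorem D84689 : act 1 n39117 = n84689 := rfl
def n84690 : Q := act 4 n39117
theorem D84690 : act 4 n39117 = n84690 := rfl
theorem F129920 : act 6 n84690 = n39131 := d10_2 (iv6 F60130) D84690 (iv4 D39131)
def n84691 : Q := act 7 n39117
theorem D84691 : act 7 n39117 = n84691 := rfl
theorem F129921 : act 5 n84691 = n39118 := d13_1 D84691 (iv7 D39118) D39117
def n84692 : Q := act 0 n39120
theorem D84692 : act 0 n39120 = n84692 := rfl
def n84693 : Q := act 1 n39120
theorem D84693 : act 1 n39120 = n84693 := rfl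
def n84694 : Q := act 2 n39120
theorem D84694 : act 2 n39120 = n84694 := rfl
def n84695 : Q := act 5 n39120
theorem D84695 : act 5 n39120 = n84695 := rfl
theorem F129922 : act 3 n84695 = n39122 := d6_1 D84695 (iv5 D39122) D39120
def n84696 : Q := act 6 n39120
theorem D84696 : act 6 n39120 = n84696 := rfl
theorem F129923 : act 3 n84696 = n39123 := d7_1 D84696 (iv6 D39123) D39120
def n84697 : Q := act 0 n39121
theorem D84697 : act 0 n39121 = n84697 := rfl
theorem F129925 : act 4 n84697 = n81836 := d20_0 (iv1 F125788) (iv4 D39096) (iv3 F120916) (iv1 D27488) F21933 (iv4 F21934) D27497 D57492 F120841 D84697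
theorem F129926 : act 2 n40093 = n84697 := d15_3 (iv0 D84697) F118418 D40093
theorem F129927 : act 1 n39126 = n84697 := d15_0 (iv0 D84697) (iv7 F129820) F129819
theorem F129928 : act 7 n84697 = n40087 := d15_2 (iv0 F118419) F129927 F60980
theorem F129929 : act 6 n41379 = n84697 := d14_5 F129928 (iv6 D40087) F30251 D19489 D41379
def n84698 : Q := act 5 n39121
theorem D84698 : act 5 n39121 = n84698 := rfl
theorem F129930 : act 2 n84698 = n56101 := d2_1 D84698 (iv5 D56101) (iv2 F91562)
def n84699 : Q := act 6 n39121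
theorem D84699 : act 6 n39121 = n84699 := rfl
theorem F129931 : act 2 n84699 = n56102 := d3_1 D84699 (iv6 D56102) (iv2 F91562)
theorem F129932 : act 4 n84699 = n39123 := d10_1 D84699 (iv6 D39123) D39121
def n84700 : Q := act 0 n39122
theorem D84700 : act 0 n39122 = n84700 := rfl
theorem F129933 : act 1 n39127 = n84700 := d15_0 (iv0 D84700) (iv7 F129825) F129824
def n84701 : Q := act 1 n39122
theorem D84701 : act 1 n39122 = n84701 := rfl
theorem F129934 : act 1 n84701 = n39127 := d15_1 D84701 (iv7 F129817) F129816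
def n84702 : Q := act 4 n39122
theorem D84702 : act 4 n39122 = n84702 := rfl
def n84703 : Q := act 6 n39122
theorem D84703 : act 6 n39122 = n84703 := rfl
def n84704 : Q := act 0 n39123
theorem D84704 : act 0 n39123 = n84704 := rfl
def n84705 : Q := act 1 n39123
theorem D84705 : act 1 n39123 = n84705 := rfl
theorem F129935 : act 4 n84705 = n39157 := d17_9 (iv1 D39157) F58411 (iv1 D37530) (iv5 D18010) (iv4 F29172) D37518 D81938 (iv5 F126286) D84705
theorem F129936 : act 7 n39828 = n84705 := d11_0 F129935 F124317 (iv4 F60644)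
theorem F129937 : act 5 n82053 = n84705 := d17_3 (iv1 F58403) D37605 (iv1 F126469) F129935 F117368 F58486 (iv5 D18046) F29178 (iv4 F58402)
theorem E13786 : n84704 = n81887 := ((c15_4 (iv0 D84704) D84705 (iv7 F129936) (iv2 F125902))).symm
theorem F129938 : act 1 n81887 = n39123 := (sb E13786 (iv0 D84704))
def n84707 : Q := act 1 n39125
theorem D84707 : act 1 n39125 = n84707 := rfl
def n84708 : Q := act 2 n39125
theorem D84708 : act 2 n39125 = n84708 := rfl
def n84709 : Q := act 5 n39125
theorem D84709 : act 5 n39125 = n84709 := rfl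
theorem F129939 : act 3 n84709 = n39127 := d6_1 D84709 (iv5 D39127) D39125
def n84710 : Q := act 6 n39125
theorem D84710 : act 6 n39125 = n84710 := rfl
theorem F129940 : act 3 n84710 = n39128 := d7_1 D84710 (iv6 D39128) D39125
def n84711 : Q := act 6 n39126
theorem D84711 : act 6 n39126 = n84711 := rfl
theorem F129941 : act 3 n84711 = n40268 := d7_1 D84711 F91552 (iv3 F60133)
theorem F129942 : act 4 n84711 = n39128 := d10_1 D84711 (iv6 D39128) D39126
theorem F129943 : act 0 n81831 = n84711 := d18_0 F129942 F129828 (iv4 D27845) (iv5 D13281) D13280 (iv0 F91429) F44601 (iv0 F91422) (iv5 F125781)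
def n84712 : Q := act 4 n39127
theorem D84712 : act 4 n39127 = n84712 := rfl
def n84713 : Q := act 6 n39127
theorem D84713 : act 6 n39127 = n84713 := rfl
def n84714 : Q := act 7 n39128
theorem D84714 : act 7 n39128 = n84714 := rfl
theorem F129944 : act 2 n84714 = n58521 := d4_1 D84714 (iv7 F129827) F129826
def n84715 : Q := act 3 n39129
theorem D84715 : act 3 n39129 = n84715 := rfl
def n84716 : Q := act 4 n39129
theorem D84716 : act 4 n39129 = n84716 := rfl
def n84717 : Q := act 5 n39129
theorem D84717 : act 5 n39129 = n84717 := rfl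
theorem F129945 : act 7 n84717 = n56729 := d13_2 (iv7 F129841) D84717 F129832
theorem F129946 : act 1 n84717 = n76170 := d17_8 (iv1 F117599) (iv5 D39178) (iv1 F60111) F60108 (iv4 F60097) (iv5 F129836) F129842 D84717 F114137
def n84718 : Q := act 6 n39129
theorem D84718 : act 6 n39129 = n84718 := rfl
def n84719 : Q := act 3 n39130
theorem D84719 : act 3 n39130 = n84719 := rfl
def n84720 : Q := act 4 n39130
theorem D84720 : act 4 n39130 = n84720 := rfl
def n84721 : Q := act 6 n39130
theorem D84721 : act 6 n39130 = n84721 := rfl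
def n84722 : Q := act 0 n39131
theorem D84722 : act 0 n39131 = n84722 := rfl
def n84723 : Q := act 1 n39131
theorem D84723 : act 1 n39131 = n84723 := rfl
def n84724 : Q := act 3 n39131
theorem D84724 : act 3 n39131 = n84724 := rfl
def n84725 : Q := act 5 n39131
theorem D84725 : act 5 n39131 = n84725 := rfl
def n84726 : Q := act 7 n39131
theorem D84726 : act 7 n39131 = n84726 := rfl
theorem F129947 : act 4 n84726 = n39132 := d11_1 D84726 (iv7 D39132) D39131
def n84727 : Q := act 6 n39132
theorem D84727 : act 6 n39132 = n84727 := rfl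
def n84728 : Q := act 0 n39142
theorem D84728 : act 0 n39142 = n84728 := rfl
theorem F129948 : act 5 n84728 = n76871 := d17_3 F120713 D39142 D84728 (iv4 F120461) (iv5 F122090) (iv0 D79497) (iv5 D36195) (iv0 F120730) F56834
theorem F129949 : act 4 n84728 = n79507 := d18_1 D84728 (iv1 F122097) (iv4 D36217) (iv5 D17496) D17495 F56917 F120680 (iv0 F120679) D39142
theorem F129950 : act 3 n84728 = n39239 := d20_3 D36200 D79507 (iv4 F129949) (iv1 D39239) F29835 D18616 (iv1 F57075) (iv4 D36333) (iv3 F88893) (iv1 D36199)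
def n84729 : Q := act 1 n39142
theorem D84729 : act 1 n39142 = n84729 := rfl
def n84730 : Q := act 4 n39142
theorem D84730 : act 4 n39142 = n84730 := rfl
def n84731 : Q := act 6 n39142
theorem D84731 : act 6 n39142 = n84731 := rfl
theorem F129951 : act 3 n84731 = n39154 := d7_1 D84731 (iv6 D39154) (iv3 F60143)
def n84733 : Q := act 1 n39143
theorem D84733 : act 1 n39143 = n84733 := rfl
theorem F129952 : act 4 n84733 = n79501 := d17_9 (iv1 D79501) D79502 F122093 (iv5 D57060) F44257 D27367 D57073 (iv5 F121016) D84733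
def n84734 : Q := act 3 n39145
theorem D84734 : act 3 n39145 = n84734 := rfl
def n84735 : Q := act 5 n39145
theorem D84735 : act 5 n39145 = n84735 := rfl
def n84736 : Q := act 0 n39147
theorem D84736 : act 0 n39147 = n84736 := rfl
def n84737 : Q := act 1 n39147
theorem D84737 : act 1 n39147 = n84737 := rfl
def n84738 : Q := act 2 n39147
theorem D84738 : act 2 n39147 = n84738 := rfl
def n84740 : Q := act 6 n39147
theorem D84740 : act 6 n39147 = n84740 := rfl
theorem F129954 : act 3 n84740 = n39149 := d7_1 D84740 (iv6 D39149) D39147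
def n84741 : Q := act 0 n39148
theorem D84741 : act 0 n39148 = n84741 := rfl
theorem F129955 : act 1 n39167 = n84741 := d15_0 (iv0 D84741) (iv7 F129849) F129848
def n84742 : Q := act 1 n39148
theorem D84742 : act 1 n39148 = n84742 := rfl
theorem F129956 : act 1 n84742 = n39167 := d15_1 D84742 (iv7 F129845) F129844
def n84743 : Q := act 4 n39148
theorem D84743 : act 4 n39148 = n84743 := rfl
def n84745 : Q := act 1 n39149
theorem D84745 : act 1 n39149 = n84745 := rfl
def n84746 : Q := act 5 n39149
theorem D84746 : act 5 n39149 = n84746 := rfl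
def n84747 : Q := act 4 n39151
theorem D84747 : act 4 n39151 = n84747 := rfl
def n84748 : Q := act 6 n39151
theorem D84748 : act 6 n39151 = n84748 := rfl
theorem F129957 : act 5 n84748 = n75212 := d12_1 D84748 F112762 (iv5 D56711) D56712 (iv5 F89687)
def n84749 : Q := act 4 n39152
theorem D84749 : act 4 n39152 = n84749 := rfl
theorem F129958 : act 6 n84749 = n39850 := d10_2 (iv6 F117438) D84749 (iv4 D39850)
def n84750 : Q := act 0 n39153
theorem D84750 : act 0 n39153 = n84750 := rfl
theorem F129959 : act 1 n39169 = n84750 := d15_0 (iv0 D84750) (iv7 F129852) F129850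
def n84751 : Q := act 1 n39153
theorem D84751 : act 1 n39153 = n84751 := rfl
theorem F129960 : act 1 n84751 = n39169 := d15_1 D84751 (iv7 F129847) F129846
def n84753 : Q := act 5 n39153
theorem D84753 : act 5 n39153 = n84753 := rfl
def n84754 : Q := act 6 n39153
theorem D84754 : act 6 n39153 = n84754 := rfl
theorem F129961 : act 4 n84754 = n39154 := d10_1 D84754 (iv6 D39154) D39153
def n84756 : Q := act 5 n39163
theorem D84756 : act 5 n39163 = n84756 := rfl
def n84757 : Q := act 0 n39164
theorem D84757 : act 0 n39164 = n84757 := rfl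
def n84758 : Q := act 1 n39164
theorem D84758 : act 1 n39164 = n84758 := rfl
def n84759 : Q := act 4 n39164
theorem D84759 : act 4 n39164 = n84759 := rfl
theorem F129963 : act 6 n84759 = n83133 := d10_2 F118442 D84759 (iv4 D83133)
def n84760 : Q := act 0 n39166
theorem D84760 : act 0 n39166 = n84760 := rfl
def n84761 : Q := act 1 n39166
theorem D84761 : act 1 n39166 = n84761 := rfl
def n84762 : Q := act 2 n39166
theorem D84762 : act 2 n39166 = n84762 := rfl
def n84763 : Q := act 5 n39166
theorem D84763 : act 5 n39166 = n84763 := rfl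
theorem F129964 : act 3 n84763 = n39167 := d6_1 D84763 (iv5 D39167) D39166
def n84764 : Q := act 6 n39166
theorem D84764 : act 6 n39166 = n84764 := rfl
theorem F129965 : act 3 n84764 = n39168 := d7_1 D84764 (iv6 D39168) D39166
def n84765 : Q := act 4 n39167
theorem D84765 : act 4 n39167 = n84765 := rfl
def n84766 : Q := act 6 n39167
theorem D84766 : act 6 n39167 = n84766 := rfl
def n84767 : Q := act 0 n39168
theorem D84767 : act 0 n39168 = n84767 := rfl
theorem F129966 : act 4 n84767 = n81830 := d18_3 F117251 (iv4 F60158) D84767 (iv5 D81830) (iv4 F117196) (iv0 D56653) F44058 F117172 D18785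
theorem F129968 : act 5 n82015 = n84767 := d17_3 (iv1 D37571) D37572 D82015 F129966 (iv5 D81830) (iv0 D37452) (iv5 F54634) (iv0 F114048) (iv4 F117261)
def n84768 : Q := act 5 n39168
theorem D84768 : act 5 n39168 = n84768 := rfl
def n84769 : Q := act 3 n39169
theorem D84769 : act 3 n39169 = n84769 := rfl
def n84770 : Q := act 5 n39169
theorem D84770 : act 5 n39169 = n84770 := rfl
def n84771 : Q := act 6 n39169
theorem D84771 : act 6 n39169 = n84771 := rfl
theorem F129969 : act 2 n84771 = n58030 := d3_1 D84771 (iv6 F129851) F129850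
theorem F129970 : act 4 n84771 = n39170 := d10_1 D84771 (iv6 D39170) D39169
theorem F129971 : act 7 n58034 = n84771 := d11_0 F129970 F117478 D58034
theorem F129972 : act 1 n58030 = n81909 := d15_0 (iv0 F126256) F129971 F129969
def n84773 : Q := act 5 n39176
theorem D84773 : act 5 n39176 = n84773 := rfl
theorem F129973 : act 3 n84773 = n39178 := d6_1 D84773 (iv5 D39178) D39176
theorem F129974 : act 7 n84773 = n56748 := d13_2 (iv7 F121510) D84773 F121507
def n84774 : Q := act 6 n39176
theorem D84774 : act 6 n39176 = n84774 := rfl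
theorem F129975 : act 3 n84774 = n39179 := d7_1 D84774 (iv6 D39179) D39176
def n84775 : Q := act 0 n39177
theorem D84775 : act 0 n39177 = n84775 := rfl
theorem F129976 : act 1 n39182 = n84775 := d15_0 (iv0 D84775) (iv7 F129866) F129865
def n84776 : Q := act 1 n39177
theorem D84776 : act 1 n39177 = n84776 := rfl
theorem F129977 : act 1 n84776 = n39182 := d15_1 D84776 (iv7 F129856) F129855
theorem F129978 : act 4 n47668 = n84776 := d18_5 (iv1 F29807) D18583 (iv1 F118132) (iv4 F60982) (iv5 F74944) F129977 (iv4 D39182) F60110 F60108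
theorem F129979 : act 6 n84776 = n47667 := d10_2 D47668 F129978 (iv4 D47667)
def n84777 : Q := act 3 n39177
theorem D84777 : act 3 n39177 = n84777 := rfl
def n84778 : Q := act 5 n39177
theorem D84778 : act 5 n39177 = n84778 := rfl
def n84779 : Q := act 6 n39177
theorem D84779 : act 6 n39177 = n84779 := rfl
theorem F129981 : act 4 n84779 = n39179 := d10_1 D84779 (iv6 D39179) D39177
def n84780 : Q := act 0 n39178
theorem D84780 : act 0 n39178 = n84780 := rfl
theorem F129982 : act 5 n84780 = n81891 := d21_2 D39178 D84780 (iv6 D81891) (iv1 D37500) F29158 (iv5 D8492) (iv1 F16990) D7794 (iv6 F13634) D18586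
theorem F129984 : act 1 n39183 = n84780 := d15_0 (iv0 D84780) F117426 (iv2 F117382)
theorem F129986 : act 6 n55564 = n84780 := d21_3 (iv5 F21768) (iv1 F117240) D55564 (iv1 F129984) F60162 (iv5 F117167) (iv1 F60576) (iv5 D18797) (iv6 D8808) F117181
theorem F129987 : act 3 n84780 = n75980 := d7_1 F129986 (iv6 D75980) (iv3 F87869)
def n84781 : Q := act 4 n39178
theorem D84781 : act 4 n39178 = n84781 := rfl
theorem F129988 : act 7 n84781 = n56754 := d11_2 (iv7 F117426) D84781 F89746
def n84782 : Q := act 6 n39178
theorem D84782 : act 6 n39178 = n84782 := rfl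
theorem F129989 : act 2 n84782 = n55576 := d3_1 D84782 (iv6 F129861) F129857
theorem F129990 : act 5 n84782 = n39829 := d12_1 D84782 (iv6 F126237) (iv5 F126235) (iv6 D39179) D39178
theorem F129991 : act 7 n84782 = n55575 := d14_2 (iv7 F117426) D84782 F117306 F117385 D27267
theorem F129992 : act 0 n84782 = n55565 := d21_4 D8730 D18586 D39178 D84782 (iv6 D55565) D55564 (iv1 F87871) (iv5 F117354) (iv6 D18585) (iv1 D8729)
def n84783 : Q := act 0 n39179
theorem D84783 : act 0 n39179 = n84783 := rfl
theorem F129994 : act 6 n84783 = n75221 := d21_5 F92007 (iv1 F117599) (iv5 D39178) D39179 D84783 (iv5 F126526) (iv1 F126528) D82152 F126563 (iv1 F117559)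
def n84784 : Q := act 7 n39179
theorem D84784 : act 7 n39179 = n84784 := rfl
theorem F129995 : act 5 n84784 = n39883 := d13_1 D84784 (iv7 F126234) (iv5 F126235)
theorem F129996 : act 6 n84784 = n76926 := d14_1 D84784 F117430 F117371 F117425 D39179
def n84785 : Q := act 4 n39181
theorem D84785 : act 4 n39181 = n84785 := rfl
theorem F129997 : act 0 n84785 = n77194 := d18_2 (iv1 F127777) D84785 F115946 F55973 (iv4 F60779) (iv0 F120830) (iv4 D39163) (iv0 F118387) (iv5 F127776)
def n84786 : Q := act 6 n39181
theorem D84786 : act 6 n39181 = n84786 := rfl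
theorem F129998 : act 3 n84786 = n39184 := d7_1 D84786 (iv6 D39184) D39181
theorem F129999 : act 5 n84786 = n82464 := d12_1 D84786 (iv6 D82464) (iv5 D37834) D37835 F118660
def n84787 : Q := act 3 n39182
theorem D84787 : act 3 n39182 = n84787 := rfl
def n84788 : Q := act 5 n39182
theorem D84788 : act 5 n39182 = n84788 := rfl
def n84789 : Q := act 6 n39182
theorem D84789 : act 6 n39182 = n84789 := rfl
theorem F130001 : act 4 n84789 = n39184 := d10_1 D84789 (iv6 D39184) D39182
def n84790 : Q := act 4 n39183
theorem D84790 : act 4 n39183 = n84790 := rfl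
theorem F130002 : act 2 n84790 = n56754 := d1_1 D84790 F89746 (iv2 F117382)
theorem F130003 : act 6 n84790 = n56673 := d10_2 (iv6 F60162) D84790 (iv4 D56673)
def n84791 : Q := act 3 n39185
theorem D84791 : act 3 n39185 = n84791 := rfl
def n84792 : Q := act 4 n39185
theorem D84792 : act 4 n39185 = n84792 := rfl
theorem F130004 : act 2 n84792 = n56134 := d1_1 D84792 (iv4 F129867) F129870
theorem F130005 : act 1 n84792 = n40092 := d18_8 (iv1 F118418) (iv4 D39121) (iv1 F60099) F60097 (iv5 F60108) (iv4 F129877) F129879 D84792 (iv5 D40092)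
def n84793 : Q := act 5 n39185
theorem D84793 : act 5 n39185 = n84793 := rfl
def n84794 : Q := act 6 n39185
theorem D84794 : act 6 n39185 = n84794 := rfl
def n84795 : Q := act 3 n39186
theorem D84795 : act 3 n39186 = n84795 := rfl
def n84796 : Q := act 5 n39186
theorem D84796 : act 5 n39186 = n84796 := rfl
def n84797 : Q := act 6 n39186
theorem D84797 : act 6 n39186 = n84797 := rfl
def n84798 : Q := act 0 n39187
theorem D84798 : act 0 n39187 = n84798 := rfl
def n84799 : Q := act 1 n39187
theorem D84799 : act 1 n39187 = n84799 := rfl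
def n84800 : Q := act 2 n39187
theorem D84800 : act 2 n39187 = n84800 := rfl
theorem F130006 : act 4 n84800 = n39263 := d1_2 (iv4 F60163) D84800 (iv2 D39263)
theorem F130007 : act 6 n84800 = n75231 := d3_2 (iv6 F60164) D84800 (iv2 D75231)
def n84801 : Q := act 5 n39187
theorem D84801 : act 5 n39187 = n84801 := rfl
theorem F130008 : act 3 n84801 = n39188 := d6_1 D84801 (iv5 D39188) D39187
def n84802 : Q := act 7 n39187
theorem D84802 : act 7 n39187 = n84802 := rfl
theorem F130009 : act 3 n84802 = n39189 := d8_1 D84802 (iv7 D39189) D39187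
theorem F130010 : act 4 n84802 = n39265 := d11_1 D84802 (iv7 D39265) (iv4 F60163)
def n84803 : Q := act 0 n39188
theorem D84803 : act 0 n39188 = n84803 := rfl
def n84804 : Q := act 1 n39188
theorem D84804 : act 1 n39188 = n84804 := rfl
def n84805 : Q := act 4 n39188
theorem D84805 : act 4 n39188 = n84805 := rfl
def n84806 : Q := act 6 n39188
theorem D84806 : act 6 n39188 = n84806 := rfl
theorem F130011 : act 5 n84806 = n75236 := d12_1 D84806 (iv6 D75236) (iv5 D34447) (iv6 F29822) D39188
def n84807 : Q := act 7 n39188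
theorem D84807 : act 7 n39188 = n84807 := rfl
theorem F130012 : act 5 n84807 = n39189 := d13_1 D84807 (iv7 D39189) D39188
def n84808 : Q := act 6 n39189
theorem D84808 : act 6 n39189 = n84808 := rfl
theorem F130013 : act 4 n84808 = n39190 := d10_1 D84808 (iv6 D39190) (iv4 F60165)
theorem F130014 : act 7 n84808 = n39882 := d14_2 D39189 D84808 (iv6 D39882) F30112 (iv6 F29822)
def n84809 : Q := act 4 n39214
theorem D84809 : act 4 n39214 = n84809 := rfl
theorem F130015 : act 0 n79484 = n84809 := d20_7 D18616 (iv1 F57075) (iv4 D36333) (iv3 F88893) (iv1 D36199) (iv3 F56910) D79484 (iv4 D84809) (iv3 D39214) (iv1 F29831)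
def n84810 : Q := act 3 n39215
theorem D84810 : act 3 n39215 = n84810 := rfl
theorem F130016 : act 7 n84810 = n79784 := d8_2 (iv7 F60180) D84810 (iv3 D79784)
def n84811 : Q := act 3 n39217
theorem D84811 : act 3 n39217 = n84811 := rfl
theorem F130017 : act 6 n84811 = n39851 := d7_2 (iv6 F60185) D84811 (iv3 D39851)
theorem F130018 : act 7 n84811 = n79781 := d8_2 (iv7 F60186) D84811 (iv3 D79781)
def n84812 : Q := act 0 n39218
theorem D84812 : act 0 n39218 = n84812 := rfl
def n84813 : Q := act 1 n39218
theorem D84813 : act 1 n39218 = n84813 := rfl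
def n84814 : Q := act 2 n39218
theorem D84814 : act 2 n39218 = n84814 := rfl
def n84815 : Q := act 6 n39218
theorem D84815 : act 6 n39218 = n84815 := rfl
def n84816 : Q := act 5 n39219
theorem D84816 : act 5 n39219 = n84816 := rfl
def n84817 : Q := act 0 n39236
theorem D84817 : act 0 n39236 = n84817 := rfl
def n84818 : Q := act 1 n39236
theorem D84818 : act 1 n39236 = n84818 := rfl
def n84819 : Q := act 4 n39236
theorem D84819 : act 4 n39236 = n84819 := rfl
def n84821 : Q := act 5 n39237
theorem D84821 : act 5 n39237 = n84821 := rfl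
def n84822 : Q := act 3 n39238
theorem D84822 : act 3 n39238 = n84822 := rfl
theorem F130022 : act 4 n84822 = n79739 := d20_6 D36331 F57070 (iv4 D18616) (iv3 F29835) D39238 D84822 (iv1 D79739) (iv4 D36315) F28530 D17543
def n84823 : Q := act 4 n39238
theorem D84823 : act 4 n39238 = n84823 := rfl
def n84824 : Q := act 4 n39239
theorem D84824 : act 4 n39239 = n84824 := rfl
def n84825 : Q := act 6 n39239
theorem D84825 : act 6 n39239 = n84825 := rfl
theorem F130023 : act 5 n84825 = n76876 := d12_1 D84825 (iv6 D76876) (iv5 D35129) D35130 (iv5 F120623)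
def n84826 : Q := act 0 n39240
theorem D84826 : act 0 n39240 = n84826 := rfl
def n84827 : Q := act 1 n39240
theorem D84827 : act 1 n39240 = n84827 := rfl
def n84828 : Q := act 3 n39240
theorem D84828 : act 3 n39240 = n84828 := rfl
theorem F130024 : act 4 n84828 = n39243 := d5_2 D39240 D84828 (iv3 D39243) (iv4 D18616) (iv3 F29835)
theorem F130025 : act 6 n84828 = n78409 := d7_2 (iv6 F60202) D84828 F119606
def n84829 : Q := act 5 n39240
theorem D84829 : act 5 n39240 = n84829 := rfl
def n84830 : Q := act 0 n39243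
theorem D84830 : act 0 n39243 = n84830 := rfl
def n84831 : Q := act 1 n39243
theorem D84831 : act 1 n39243 = n84831 := rfl
def n84832 : Q := act 2 n39243
theorem D84832 : act 2 n39243 = n84832 := rfl
theorem F130026 : act 6 n84832 = n78408 := d3_2 (iv6 F60203) D84832 (iv2 D78408)
def n84833 : Q := act 1 n39253
theorem D84833 : act 1 n39253 = n84833 := rfl
def n84834 : Q := act 5 n39253
theorem D84834 : act 5 n39253 = n84834 := rfl
def n84835 : Q := act 6 n39253
theorem D84835 : act 6 n39253 = n84835 := rfl
theorem F130027 : act 4 n84835 = n39254 := d10_1 D84835 (iv6 D39254) D39253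
def n84836 : Q := act 0 n39255
theorem D84836 : act 0 n39255 = n84836 := rfl
theorem F130028 : act 1 n79888 = n84836 := d15_0 (iv0 D84836) F60211 D79888
def n84837 : Q := act 1 n39255
theorem D84837 : act 1 n39255 = n84837 := rfl
def n84838 : Q := act 2 n39255
theorem D84838 : act 2 n39255 = n84838 := rfl
theorem F130029 : act 3 n84838 = n79873 := d0_2 D39255 D84838 (iv2 D79873) (iv3 D36385) F41785
theorem F130030 : act 7 n84838 = n79888 := d4_2 (iv7 F60211) D84838 (iv2 D79888)
theorem F130031 : act 1 n84838 = n79886 := d15_0 (iv0 D79886) (iv7 F60211) D84838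
theorem F130032 : act 1 n84837 = n79888 := d15_1 D84837 (iv7 F130030) (iv2 D84838)
theorem F130033 : act 1 n79887 = n84838 := d15_1 D79887 F130030 (iv2 D79888)
def n84839 : Q := act 4 n39255
theorem D84839 : act 4 n39255 = n84839 := rfl
theorem F130034 : act 3 n84839 = n56238 := d5_1 D84839 (iv4 D56238) (iv3 D27098) (iv4 F41786) D39255
theorem F130035 : act 7 n84839 = n79883 := d11_2 (iv7 F60211) D84839 F122634
def n84840 : Q := act 5 n39255
theorem D84840 : act 5 n39255 = n84840 := rfl
theorem F130036 : act 3 n84840 = n39256 := d6_1 D84840 (iv5 D39256) D39255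
theorem F130037 : act 7 n84840 = n79889 := d13_2 (iv7 F60211) D84840 (iv5 D79889)
def n84841 : Q := act 6 n39255
theorem D84841 : act 6 n39255 = n84841 := rfl
theorem F130038 : act 3 n84841 = n39257 := d7_1 D84841 (iv6 D39257) D39255
def n84842 : Q := act 6 n39256
theorem D84842 : act 6 n39256 = n84842 := rfl
def n84843 : Q := act 5 n39257
theorem D84843 : act 5 n39257 = n84843 := rfl
theorem F130040 : act 2 n84843 = n79879 := d2_1 D84843 (iv5 D79879) (iv2 F60214)
theorem F130041 : act 0 n84843 = n39269 := d17_2 (iv1 F92648) D84843 F60233 F45087 F22125 D27913 (iv5 F45077) (iv0 F45040) (iv4 F92647)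
def n84844 : Q := act 7 n39257
theorem D84844 : act 7 n39257 = n84844 := rfl
theorem F130043 : act 4 n84844 = n55857 := d11_1 D84844 F88347 (iv4 F60215)
theorem F130044 : act 6 n84844 = n55859 := d14_1 D84844 F88354 (iv6 D36395) (iv7 F41787) D39257
theorem F130045 : act 1 n39811 = n84844 := d15_1 (iv0 F92089) (iv7 D84844) F60214
theorem F130046 : act 1 n84844 = n78510 := d15_1 F130045 F119695 F92646
theorem F130047 : act 0 n78746 = n76964 := d18_2 (iv1 F116004) (iv4 F119902) F115678 F55893 (iv4 F60638) F130045 F130043 (iv0 F88349) (iv5 F116002)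
def n84845 : Q := act 0 n39258
theorem D84845 : act 0 n39258 = n84845 := rfl
theorem F130048 : act 1 n79873 = n84845 := d15_0 (iv0 D84845) F60216 D79873
def n84846 : Q := act 1 n39258
theorem D84846 : act 1 n39258 = n84846 := rfl
def n84847 : Q := act 2 n39258
theorem D84847 : act 2 n39258 = n84847 := rfl
theorem F130049 : act 3 n84847 = n79888 := d0_2 D39258 D84847 (iv2 D79888) (iv3 D36393) F41783
theorem F130050 : act 7 n84847 = n79873 := d4_2 (iv7 F60216) D84847 (iv2 D79873)
theorem F130051 : act 1 n84847 = n79871 := d15_0 (iv0 D79871) (iv7 F60216) D84847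
theorem F130052 : act 1 n84846 = n79873 := d15_1 D84846 (iv7 F130050) (iv2 D84847)
theorem F130053 : act 1 n79872 = n84847 := d15_1 D79872 F130050 (iv2 D79873)
def n84848 : Q := act 4 n39258
theorem D84848 : act 4 n39258 = n84848 := rfl
theorem F130054 : act 3 n84848 = n56243 := d5_1 D84848 (iv4 D56243) (iv3 D27100) (iv4 F41782) D39258
theorem F130055 : act 7 n84848 = n79865 := d11_2 (iv7 F60216) D84848 F122615
def n84849 : Q := act 5 n39258
theorem D84849 : act 5 n39258 = n84849 := rfl
theorem F130056 : act 3 n84849 = n39259 := d6_1 D84849 (iv5 D39259) D39258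
theorem F130057 : act 7 n84849 = n79874 := d13_2 (iv7 F60216) D84849 (iv5 D79874)
def n84850 : Q := act 6 n39258
theorem D84850 : act 6 n39258 = n84850 := rfl
theorem F130058 : act 3 n84850 = n39260 := d7_1 D84850 (iv6 D39260) D39258
theorem F130059 : act 7 n78361 = n84850 := d8_0 F130058 (iv7 F60221) D78361
def n84851 : Q := act 6 n39259
theorem D84851 : act 6 n39259 = n84851 := rfl
theorem F130060 : act 2 n84851 = n79891 := d3_1 D84851 (iv6 D79891) (iv2 F60217)
def n84852 : Q := act 5 n39260
theorem D84852 : act 5 n39260 = n84852 := rfl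
theorem F130061 : act 2 n84852 = n79892 := d2_1 D84852 (iv5 D79892) (iv2 F60219)
theorem F130062 : act 7 n84852 = n78362 := d13_2 F60221 D84852 (iv5 D78362)
theorem F130063 : act 0 n84852 = n76192 := d17_2 F60222 D84852 (iv5 D76192) (iv4 D34802) (iv5 F27598) (iv0 F29127) (iv5 F29896) (iv0 F29897) D35156
theorem F130064 : act 1 n84852 = n76184 := d17_6 D17113 (iv5 F43458) (iv1 F43459) (iv5 F43796) (iv4 F60220) D84852 (iv5 D76184) F55001 (iv4 D17115)
def n84853 : Q := act 0 n39261
theorem D84853 : act 0 n39261 = n84853 := rfl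
theorem F130065 : act 2 n39265 = n84853 := d15_3 (iv0 D84853) (iv0 D39261) D39265
theorem F130066 : act 7 n84853 = n39263 := d4_2 D39265 F130065 (iv2 D39263)
theorem F130067 : act 1 n39262 = n84853 := d15_1 D39262 F130066 (iv2 D39263)
def n84854 : Q := act 2 n39261
theorem D84854 : act 2 n39261 = n84854 := rfl
theorem F130068 : act 7 n39262 = n84854 := d15_2 (iv0 D39261) D39262 (iv2 D84854)
def n84855 : Q := act 3 n39261
theorem D84855 : act 3 n39261 = n84855 := rfl
def n84856 : Q := act 4 n39261
theorem D84856 : act 4 n39261 = n84856 := rfl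
def n84857 : Q := act 5 n39261
theorem D84857 : act 5 n39261 = n84857 := rfl
def n84858 : Q := act 6 n39261
theorem D84858 : act 6 n39261 = n84858 := rfl
def n84859 : Q := act 7 n39261
theorem D84859 : act 7 n39261 = n84859 := rfl
theorem F130069 : act 2 n84859 = n39262 := d4_1 D84859 F130068 (iv2 D84854)
def n84860 : Q := act 3 n39262
theorem D84860 : act 3 n39262 = n84860 := rfl
def n84861 : Q := act 4 n39262
theorem D84861 : act 4 n39262 = n84861 := rfl
def n84862 : Q := act 5 n39262
theorem D84862 : act 5 n39262 = n84862 := rfl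
def n84863 : Q := act 6 n39262
theorem D84863 : act 6 n39262 = n84863 := rfl
def n84864 : Q := act 0 n39263
theorem D84864 : act 0 n39263 = n84864 := rfl
theorem F130070 : act 1 n39265 = n84864 := d15_0 (iv0 D84864) (iv7 F130066) (iv2 F130065)
def n84865 : Q := act 1 n39263
theorem D84865 : act 1 n39263 = n84865 := rfl
theorem F130071 : act 1 n84865 = n39265 := d15_1 D84865 (iv7 D39265) D39263
def n84866 : Q := act 5 n39263
theorem D84866 : act 5 n39263 = n84866 := rfl
theorem F130072 : act 2 n84866 = n39264 := d2_1 D84866 (iv5 D39264) D39263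
def n84867 : Q := act 0 n39264
theorem D84867 : act 0 n39264 = n84867 := rfl
def n84868 : Q := act 1 n39264
theorem D84868 : act 1 n39264 = n84868 := rfl
def n84869 : Q := act 4 n39264
theorem D84869 : act 4 n39264 = n84869 := rfl
def n84870 : Q := act 6 n39264
theorem D84870 : act 6 n39264 = n84870 := rfl
theorem F130073 : act 3 n84870 = n39269 := d7_1 D84870 (iv6 D39269) (iv3 F60225)
theorem F130074 : act 5 n84870 = n58718 := d12_1 D84870 (iv6 D58718) F45084 (iv6 F29899) D39264
def n84871 : Q := act 7 n39264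
theorem D84871 : act 7 n39264 = n84871 := rfl
theorem F130075 : act 3 n84871 = n39270 := d8_1 D84871 (iv7 D39270) (iv3 F60225)
theorem F130076 : act 5 n84871 = n39265 := d13_1 D84871 (iv7 D39265) D39264
def n84872 : Q := act 6 n39265
theorem D84872 : act 6 n39265 = n84872 := rfl
theorem F130077 : act 3 n84872 = n39271 := d7_1 D84872 (iv6 D39271) (iv3 F60226)
theorem F130078 : act 7 n84872 = n39888 := d14_2 D39265 D84872 (iv6 D39888) F30115 (iv6 F29899)
def n84873 : Q := act 3 n39266
theorem D84873 : act 3 n39266 = n84873 := rfl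
theorem F130079 : act 5 n84873 = n56208 := d6_2 (iv5 F60227) D84873 (iv3 D56208)
theorem F130080 : act 7 n84873 = n79858 := d8_2 F60229 D84873 F122604
def n84874 : Q := act 6 n39266
theorem D84874 : act 6 n39266 = n84874 := rfl
def n84875 : Q := act 3 n39267
theorem D84875 : act 3 n39267 = n84875 := rfl
theorem F130082 : act 5 n84875 = n56234 := d6_2 (iv5 F60231) D84875 (iv3 D56234)
theorem F130083 : act 7 n84875 = n79789 := d8_2 (iv7 F60230) D84875 F122494
def n84876 : Q := act 6 n39267
theorem D84876 : act 6 n39267 = n84876 := rfl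
def n84877 : Q := act 3 n39268
theorem D84877 : act 3 n39268 = n84877 := rfl
def n84878 : Q := act 6 n39268
theorem D84878 : act 6 n39268 = n84878 := rfl
theorem F130086 : act 4 n84878 = n39269 := d10_1 D84878 (iv6 D39269) D39268
def n84879 : Q := act 0 n39269
theorem D84879 : act 0 n39269 = n84879 := rfl
theorem F130087 : act 5 n84879 = n78356 := d17_3 F88516 (iv5 F60233) D84879 (iv4 D78356) (iv5 D35715) (iv0 F28247) (iv5 F21435) D26976 D55940
theorem F130088 : act 7 n79879 = n84879 := d13_0 F130087 F119573 D79879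
def n84880 : Q := act 6 n39270
theorem D84880 : act 6 n39270 = n84880 := rfl
def n84881 : Q := act 6 n39272
theorem D84881 : act 6 n39272 = n84881 := rfl
theorem F130089 : act 4 n84881 = n39273 := d10_1 D84881 (iv6 D39273) D39272
def n84884 : Q := act 7 n39273
theorem D84884 : act 7 n39273 = n84884 := rfl
theorem F130090 : act 3 n84884 = n70588 := d8_1 D84884 (iv7 D70588) (iv3 F60242)
def n84885 : Q := act 5 n39274
theorem D84885 : act 5 n39274 = n84885 := rfl
theorem F130091 : act 3 n84885 = n80688 := d6_1 D84885 (iv5 D80688) (iv3 F60243)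
def n84886 : Q := act 2 n39275
theorem D84886 : act 2 n39275 = n84886 := rfl
theorem F130093 : act 7 n39276 = n84886 := d15_2 (iv0 D39275) D39276 (iv2 D84886)
theorem F130094 : act 5 n84886 = n71603 := d13_1 F130093 (iv7 D71603) F60246
def n84887 : Q := act 3 n39275
theorem D84887 : act 3 n39275 = n84887 := rfl
def n84888 : Q := act 4 n39275
theorem D84888 : act 4 n39275 = n84888 := rfl
def n84889 : Q := act 5 n39275
theorem D84889 : act 5 n39275 = n84889 := rfl
theorem F130095 : act 2 n84889 = n71603 := d2_1 D84889 (iv5 F130094) (iv2 D84886)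
theorem F130096 : act 7 n71583 = n84889 := d4_0 F130095 (iv7 D71603) (iv2 F108098)
theorem F130097 : act 1 n84889 = n71601 := d15_0 (iv0 D71601) D71603 (iv2 F130095)
theorem F130098 : act 6 n84889 = n71619 := d14_1 F130096 (iv7 D71619) (iv6 D33113) F52329 D71583
theorem F130099 : act 1 n71602 = n84889 := d15_1 D71602 (iv7 F130096) F108098
theorem F130100 : act 0 n71619 = n76616 := d21_10 F114893 (iv1 D71346) (iv5 D33010) (iv6 D15907) (iv1 F30290) D26630 F42674 D39275 D84889 F130098
theorem F130101 : act 1 n71604 = n76616 := d15_0 (iv0 F130100) (iv7 D71619) (iv2 F108112)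
def n84890 : Q := act 6 n39275
theorem D84890 : act 6 n39275 = n84890 := rfl
def n84891 : Q := act 7 n39275
theorem D84891 : act 7 n39275 = n84891 := rfl
theorem F130102 : act 2 n84891 = n39276 := d4_1 D84891 F130093 (iv2 D84886)
theorem F130103 : act 5 n84891 = n71583 := d13_1 D84891 F130096 (iv5 D84889)
def n84892 : Q := act 3 n39276
theorem D84892 : act 3 n39276 = n84892 := rfl
theorem F130104 : act 5 n84892 = n71588 := d6_2 F60246 D84892 F108100
def n84893 : Q := act 4 n39276
theorem D84893 : act 4 n39276 = n84893 := rfl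
def n84894 : Q := act 6 n39276
theorem D84894 : act 6 n39276 = n84894 := rfl
theorem F130105 : act 5 n84894 = n71599 := d12_1 D84894 (iv6 D71599) (iv5 D33107) D33108 F60246
def n84895 : Q := act 6 n39278
theorem D84895 : act 6 n39278 = n84895 := rfl
theorem F130106 : act 2 n84895 = n47217 := d3_1 D84895 (iv6 D47217) (iv2 F60248)
theorem F130107 : act 3 n84895 = n39279 := d7_1 D84895 (iv6 D39279) D39278
theorem F130108 : act 4 n84895 = n47213 := d10_1 D84895 (iv6 D47213) (iv4 F60249)
def n84896 : Q := act 0 n39279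
theorem D84896 : act 0 n39279 = n84896 := rfl
def n84897 : Q := act 1 n39279
theorem D84897 : act 1 n39279 = n84897 := rfl
def n84898 : Q := act 5 n39279
theorem D84898 : act 5 n39279 = n84898 := rfl
def n84899 : Q := act 7 n39279
theorem D84899 : act 7 n39279 = n84899 := rfl
theorem F130109 : act 4 n84899 = n69947 := d11_1 D84899 (iv7 D69947) (iv4 F60250)
def n84900 : Q := act 6 n39280
theorem D84900 : act 6 n39280 = n84900 := rfl
theorem F130110 : act 2 n84900 = n54394 := d3_1 D84900 (iv6 D54394) (iv2 F60251)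
theorem F130111 : act 3 n84900 = n69926 := d7_1 D84900 (iv6 D69926) F60255
theorem F130112 : act 4 n84900 = n39281 := d10_1 D84900 (iv6 D39281) D39280
def n84901 : Q := act 0 n39281
theorem D84901 : act 0 n39281 = n84901 := rfl
def n84902 : Q := act 1 n39281
theorem D84902 : act 1 n39281 = n84902 := rfl
def n84903 : Q := act 5 n39281
theorem D84903 : act 5 n39281 = n84903 := rfl
def n84904 : Q := act 7 n39281
theorem D84904 : act 7 n39281 = n84904 := rfl
def n84905 : Q := act 3 n39282
theorem D84905 : act 3 n39282 = n84905 := rfl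
theorem F130113 : act 2 n84905 = n47005 := d0_1 D84905 F74249 F59269 (iv3 F60266) (iv2 F60260)
theorem F130114 : act 5 n84905 = n46989 := d6_2 (iv5 F60257) D84905 F74204
theorem F130115 : act 7 n84905 = n80274 := d8_2 F60259 D84905 (iv3 D80274)
theorem F130116 : act 0 n84905 = n80125 := d19_4 (iv1 F86705) (iv5 F107034) F107035 D84905 (iv5 F128474) (iv4 F129890) (iv3 D84663) (iv1 D39104) F29810 (iv4 F34541) F34540 (iv1 F32448) (iv5 F40425) F40424 F21302 (iv1 F10679) D7302 D15457 D32649
theorem F130117 : act 4 n84905 = n80199 := d20_6 F28664 (iv1 F27497) F21658 (iv3 F29912) D39282 D84905 (iv1 D80199) F57379 (iv3 D17633) (iv1 F28662)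
def n84906 : Q := act 6 n39282
theorem D84906 : act 6 n39282 = n84906 := rfl
def n84907 : Q := act 6 n39283
theorem D84907 : act 6 n39283 = n84907 := rfl
theorem F130119 : act 2 n84907 = n80275 := d3_1 D84907 (iv6 D80275) F60264
theorem F130120 : act 3 n84907 = n82718 := d7_1 D84907 (iv6 D82718) F60265
def n84908 : Q := act 0 n39284
theorem D84908 : act 0 n39284 = n84908 := rfl
def n84909 : Q := act 1 n39284
theorem D84909 : act 1 n39284 = n84909 := rfl
def n84910 : Q := act 5 n39284
theorem D84910 : act 5 n39284 = n84910 := rfl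
theorem F130121 : act 3 n84910 = n56437 := d6_1 D84910 (iv5 D56437) (iv3 F60267)
theorem F130122 : act 6 n84910 = n39287 := d12_2 D39284 D84910 (iv5 D39287) (iv6 D18638) D18637
def n84911 : Q := act 7 n39284
theorem D84911 : act 7 n39284 = n84911 := rfl
theorem F130123 : act 3 n84911 = n56438 := d8_1 D84911 (iv7 D56438) (iv3 F60267)
theorem F130124 : act 4 n84911 = n75961 := d11_1 D84911 (iv7 F117113) (iv4 F60268)
theorem F130125 : act 6 n84911 = n80280 := d14_1 D84911 (iv7 D80280) (iv6 D36575) (iv7 F29913) D39284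
def n84912 : Q := act 2 n39285
theorem D84912 : act 2 n39285 = n84912 := rfl
theorem F130126 : act 7 n39286 = n84912 := d15_2 (iv0 D39285) D39286 (iv2 D84912)
def n84913 : Q := act 3 n39285
theorem D84913 : act 3 n39285 = n84913 := rfl
theorem F130127 : act 4 n83500 = n84913 := d20_8 F86894 F53233 D33862 F117679 F118788 (iv3 F29533) (iv4 F59345) D83500 (iv3 D84913) (iv1 F86898)
def n84914 : Q := act 4 n39285
theorem D84914 : act 4 n39285 = n84914 := rfl
theorem F130128 : act 3 n84914 = n54387 := d20_3 (iv4 F29915) D39285 D84914 (iv1 F85872) F41930 F20845 (iv1 F9778) F42346 D16369 (iv1 F53232)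
def n84915 : Q := act 5 n39285
theorem D84915 : act 5 n39285 = n84915 := rfl
def n84916 : Q := act 6 n39285
theorem D84916 : act 6 n39285 = n84916 := rfl
def n84917 : Q := act 7 n39285
theorem D84917 : act 7 n39285 = n84917 := rfl
theorem F130129 : act 2 n84917 = n39286 := d4_1 D84917 F130126 (iv2 D84912)
def n84918 : Q := act 3 n39286
theorem D84918 : act 3 n39286 = n84918 := rfl
def n84919 : Q := act 4 n39286
theorem D84919 : act 4 n39286 = n84919 := rfl
def n84920 : Q := act 5 n39286
theorem D84920 : act 5 n39286 = n84920 := rfl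
def n84921 : Q := act 6 n39286
theorem D84921 : act 6 n39286 = n84921 := rfl
def n84922 : Q := act 0 n39287
theorem D84922 : act 0 n39287 = n84922 := rfl
def n84923 : Q := act 1 n39287
theorem D84923 : act 1 n39287 = n84923 := rfl
def n84924 : Q := act 4 n39287
theorem D84924 : act 4 n39287 = n84924 := rfl
def n84925 : Q := act 7 n39287
theorem D84925 : act 7 n39287 = n84925 := rfl
theorem F130130 : act 5 n84925 = n39288 := d13_1 D84925 (iv7 D39288) D39287
def n84926 : Q := act 5 n39289
theorem D84926 : act 5 n39289 = n84926 := rfl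
def n84927 : Q := act 6 n39289
theorem D84927 : act 6 n39289 = n84927 := rfl
theorem F130131 : act 2 n84927 = n81824 := d3_1 D84927 F125771 F86899
theorem F130132 : act 4 n84927 = n39291 := d10_1 D84927 (iv6 D39291) D39289
def n84928 : Q := act 4 n39290
theorem D84928 : act 4 n39290 = n84928 := rfl
def n84929 : Q := act 6 n39290
theorem D84929 : act 6 n39290 = n84929 := rfl
theorem F130133 : act 7 n84929 = n54581 := d14_2 F86912 D84929 (iv6 D54581) (iv7 F86915) F86913
theorem F130134 : act 0 n84929 = n71990 := d21_4 (iv5 F26655) D18639 D39290 D84929 (iv6 D71990) D71989 F110291 (iv5 F110290) (iv6 D73604) (iv1 D33827)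
def n84930 : Q := act 1 n39291
theorem D84930 : act 1 n39291 = n84930 := rfl
theorem F130135 : act 1 n84930 = n39459 := d15_1 D84930 F60375 (iv2 F60270)
theorem F130136 : act 7 n84930 = n39356 := d15_2 (iv0 F120250) D84930 F60320
theorem F130137 : act 6 n75873 = n84930 := d21_3 D16794 D34684 D75873 (iv1 D84930) (iv6 D39291) D39290 (iv1 F110395) F110396 (iv6 D34683) (iv1 D16793)
theorem E13789 : n75873 = n39355 := ((c14_1 D39355 F130137 F130136 (iv6 D39356) (iv7 D18658) D18657)).symm
theorem F130138 : act 5 n39355 = n34684 := (sb E13789 (iv5 D75873))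
theorem F130139 : act 6 n39355 = n84930 := (sb E13789 F130137)
theorem E13790 : n75875 = n39354 := (c13_3 D39355 F130138 D75875 (iv5 D39354))
theorem F130140 : act 2 n39354 = n34685 := (sb E13790 F113790)
theorem F130141 : act 7 n39354 = n34684 := (sb E13790 (iv7 D75875))
theorem E13791 : n75870 = n68872 := (c15_4 (iv0 D68872) (iv0 F60318) F130141 D75870)
theorem F130142 : act 2 n68872 = n34684 := (sb E13791 (iv2 D75870))
theorem F130143 : act 7 n68872 = n34685 := (sb E13791 (iv7 F113789))
theorem E13792 : n39333 = n39318 := ((c2_3 D39354 F130140 (iv5 F60289) F60305)).symm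
theorem F130144 : act 2 n39318 = n18657 := (sb E13792 F60305)
theorem E13793 : n18653 = n18649 := ((((iv6 D39318)).symm.trans (sb E13792 (iv6 D39333)))).symm
theorem E13794 : n39328 = n8760 := ((((iv1 F29921)).symm.trans (sb E13793 D39328))).symm
theorem E13796 : n39314 = n8757 := ((D39314).symm.trans (sb E13793 (iv2 D18653)))
theorem E13797 : n39330 = n39315 := (((D39315).symm.trans (sb E13793 D39330))).symm
theorem E13798 : n39331 = n39316 := (((D39316).symm.trans (sb E13793 D39331))).symm
theorem E13799 : n39332 = n39317 := (((D39317).symm.trans (sb E13793 D39332))).symm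
theorem E13800 : n39319 = n8758 := ((D39319).symm.trans (sb E13793 (iv7 F29924)))
theorem E13801 : n18658 = n18650 := ((((iv1 F29918)).symm.trans (sb E13794 (iv1 F60298)))).symm
theorem F130145 : act 2 n8757 = n18649 := (sb E13796 (iv2 D39314))
theorem F130146 : act 7 n39315 = n18659 := (sb E13797 F60300)
theorem F130147 : act 2 n39316 = n18655 := (sb E13798 F60301)
theorem F130148 : act 7 n39316 = n18660 := (sb E13798 F60302)
theorem F130149 : act 2 n39317 = n18656 := (sb E13799 F60303)
theorem F130150 : act 7 n39317 = n18661 := (sb E13799 F60304)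
theorem F130151 : act 7 n8758 = n18649 := (sb E13800 (iv7 D39319))
theorem F130152 : act 2 n18650 = n8758 := (sb E13801 F29925)
theorem E13802 : n39340 = n39320 := (((D39320).symm.trans (sb E13801 (iv3 F60308)))).symm
theorem E13803 : n39346 = n39321 := (((D39321).symm.trans (sb E13801 (iv4 F60312)))).symm
theorem E13804 : n39351 = n39322 := (((D39322).symm.trans (sb E13801 (iv5 F60316)))).symm
theorem E13805 : n39356 = n39323 := (((D39323).symm.trans (sb E13801 D39356))).symm
theorem F130153 : act 7 n18650 = n8757 := (sb E13801 (iv7 D18658))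
theorem F130154 : act 7 n39320 = n18654 := (sb E13802 (iv7 D39340))
theorem F130155 : act 2 n39321 = n18660 := (sb E13803 F60311)
theorem F130156 : act 7 n39321 = n18655 := (sb E13803 (iv7 D39346))
theorem F130157 : act 2 n39322 = n18661 := (sb E13804 F60315)
theorem F130158 : act 7 n39322 = n18656 := (sb E13804 (iv7 D39351))
theorem F130159 : act 2 n39323 = n18662 := (sb E13805 F60320)
theorem F130160 : act 7 n39323 = n84930 := (sb E13805 (iv7 F130136))
theorem F130161 : act 2 n84930 = n39371 := d4_1 F130160 (iv7 D39371) (iv2 F130159)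
theorem E13806 : n39459 = n39368 := (c15_1 F130135 (iv0 D39368) D39371 (iv2 F130161))
theorem F130162 : act 0 n39368 = n84930 := (sb E13806 (iv1 F130135))
theorem F130163 : act 3 n39368 = n18697 := (sb E13806 (iv3 D39459))
theorem F130164 : act 4 n39368 = n83961 := (sb E13806 (iv4 F128944))
theorem F130165 : act 5 n39368 = n54740 := (sb E13806 (iv5 F86567))
theorem F130166 : act 6 n39368 = n55017 := (sb E13806 (iv6 F113929))
theorem F130167 : act 7 n39368 = n37450 := (sb E13806 F60375)
theorem F130168 : act 1 n72082 = n39322 := d15_1 F110350 F130158 (iv2 F130149)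
theorem F130169 : act 1 n39322 = n58408 := d15_1 F130168 (iv7 F110347) F110343
theorem F130170 : act 2 n39367 = n72104 := d3_3 F108562 F130157 D39367
theorem F130171 : act 7 n72105 = n39367 := d15_2 (iv0 D72104) D72105 F130170
theorem F130172 : act 7 n39337 = n40145 := d11_2 F130154 D39337 (iv4 F61046)
theorem F130173 : act 2 n39337 = n40144 := d15_3 (iv0 D40144) D40145 (iv7 F130172)
theorem F130174 : act 4 n40144 = n39336 := d1_2 D39337 F130173 (iv2 D39336)
theorem F130175 : act 7 n39363 = n83159 := d8_2 F130148 D39363 F128219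
def n84931 : Q := act 7 n39291
theorem D84931 : act 7 n39291 = n84931 := rfl
theorem F130176 : act 2 n84931 = n39368 := d4_1 D84931 F130167 (iv2 F60270)
theorem F130177 : act 3 n84931 = n81818 := d8_1 D84931 F125765 F110371
theorem F130178 : act 1 n81827 = n84931 := d15_1 D81827 (iv7 D84931) F60270
theorem F130179 : act 1 n84931 = n81826 := d15_0 (iv0 D81826) (iv7 F130167) (iv2 F130176)
def n84932 : Q := act 4 n39292
theorem D84932 : act 4 n39292 = n84932 := rfl
theorem F130180 : act 2 n84932 = n39983 := d1_1 D84932 F60857 (iv2 F60271)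
theorem F130181 : act 3 n84932 = n81599 := d5_1 D84932 F125494 F60282 (iv4 D39294) (iv3 F60272)
theorem F130183 : act 0 n84932 = n80258 := d17_0 F123334 F116539 (iv5 D77636) (iv4 D35449) D35450 F72452 F72449 F60274 D84932
theorem F130184 : act 0 n69811 = n84932 := d20_10 (iv4 D84932) (iv1 F60274) D80254 (iv3 F123663) (iv1 F123664) (iv3 D70754) (iv4 D32798) (iv1 F25196) D32421 D69811
def n84933 : Q := act 6 n39292
theorem D84933 : act 6 n39292 = n84933 := rfl
theorem F130185 : act 2 n84933 = n56430 := d3_1 D84933 (iv6 D56430) (iv2 F60271)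
theorem F130186 : act 3 n84933 = n39295 := d7_1 D84933 (iv6 D39295) (iv3 F60272)
def n84934 : Q := act 0 n39293
theorem D84934 : act 0 n39293 = n84934 := rfl
def n84935 : Q := act 1 n39293
theorem D84935 : act 1 n39293 = n84935 := rfl
def n84936 : Q := act 5 n39293
theorem D84936 : act 5 n39293 = n84936 := rfl
theorem F130187 : act 3 n84936 = n39298 := d6_1 D84936 (iv5 D39298) (iv3 F60277)
def n84937 : Q := act 7 n39293
theorem D84937 : act 7 n39293 = n84937 := rfl
theorem F130188 : act 3 n84937 = n39299 := d8_1 D84937 (iv7 D39299) (iv3 F60277)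
def n84938 : Q := act 6 n39294
theorem D84938 : act 6 n39294 = n84938 := rfl
theorem F130189 : act 2 n84938 = n45165 := d3_1 D84938 (iv6 D45165) (iv2 F60278)
theorem F130190 : act 3 n84938 = n81615 := d7_1 D84938 (iv6 D81615) F60282
theorem F130191 : act 4 n84938 = n39295 := d10_1 D84938 (iv6 D39295) D39294
def n84939 : Q := act 0 n39295
theorem D84939 : act 0 n39295 = n84939 := rfl
def n84940 : Q := act 1 n39295
theorem D84940 : act 1 n39295 = n84940 := rfl
theorem F130192 : act 1 n84940 = n80280 := d15_1 D84940 (iv7 D80280) (iv2 F60283)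
def n84941 : Q := act 5 n39295
theorem D84941 : act 5 n39295 = n84941 := rfl
theorem F130193 : act 2 n84941 = n80279 := d2_1 D84941 (iv5 D80279) (iv2 F60283)
theorem F130194 : act 6 n84941 = n39298 := d12_2 D39295 D84941 (iv5 D39298) (iv6 D18644) D18643
def n84942 : Q := act 7 n39295
theorem D84942 : act 7 n39295 = n84942 := rfl
theorem F130195 : act 2 n84942 = n80280 := d4_1 D84942 (iv7 D80280) (iv2 F60283)
theorem F130196 : act 1 n80280 = n84939 := d15_0 (iv0 D84939) D84942 F130195
theorem F130197 : act 1 n80278 = n84942 := d15_1 D80278 (iv7 D84942) F60283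
theorem F130198 : act 1 n84942 = n80277 := d15_0 (iv0 D80277) D80280 (iv2 F130195)
def n84943 : Q := act 2 n39296
theorem D84943 : act 2 n39296 = n84943 := rfl
theorem F130199 : act 7 n39297 = n84943 := d15_2 (iv0 D39296) D39297 (iv2 D84943)
def n84944 : Q := act 3 n39296
theorem D84944 : act 3 n39296 = n84944 := rfl
def n84945 : Q := act 4 n39296
theorem D84945 : act 4 n39296 = n84945 := rfl
def n84946 : Q := act 5 n39296
theorem D84946 : act 5 n39296 = n84946 := rfl
def n84947 : Q := act 6 n39296
theorem D84947 : act 6 n39296 = n84947 := rfl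
def n84948 : Q := act 7 n39296
theorem D84948 : act 7 n39296 = n84948 := rfl
theorem F130200 : act 2 n84948 = n39297 := d4_1 D84948 F130199 (iv2 D84943)
def n84949 : Q := act 3 n39297
theorem D84949 : act 3 n39297 = n84949 := rfl
def n84950 : Q := act 4 n39297
theorem D84950 : act 4 n39297 = n84950 := rfl
def n84951 : Q := act 5 n39297
theorem D84951 : act 5 n39297 = n84951 := rfl
def n84952 : Q := act 6 n39297
theorem D84952 : act 6 n39297 = n84952 := rfl
def n84953 : Q := act 0 n39298
theorem D84953 : act 0 n39298 = n84953 := rfl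
def n84954 : Q := act 1 n39298
theorem D84954 : act 1 n39298 = n84954 := rfl
def n84955 : Q := act 4 n39298
theorem D84955 : act 4 n39298 = n84955 := rfl
def n84956 : Q := act 7 n39298
theorem D84956 : act 7 n39298 = n84956 := rfl
theorem F130201 : act 5 n84956 = n39299 := d13_1 D84956 (iv7 D39299) D39298
def n84960 : Q := act 4 n39300
theorem D84960 : act 4 n39300 = n84960 := rfl
theorem F130205 : act 2 n84960 = n39302 := d1_1 D84960 (iv4 D39302) D39300
theorem F130206 : act 7 n84960 = n39307 := d11_2 F60285 D84960 (iv4 D39307)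
def n84961 : Q := act 5 n39300
theorem D84961 : act 5 n39300 = n84961 := rfl
theorem F130207 : act 2 n84961 = n39303 := d2_1 D84961 (iv5 D39303) D39300
theorem F130208 : act 7 n84961 = n39308 := d13_2 F60285 D84961 (iv5 D39308)
def n84966 : Q := act 4 n39301
theorem D84966 : act 4 n39301 = n84966 := rfl
def n84971 : Q := act 1 n39302
theorem D84971 : act 1 n39302 = n84971 := rfl
theorem F130213 : act 1 n84971 = n39307 := d15_1 D84971 (iv7 F130206) F130205
def n84975 : Q := act 7 n39302
theorem D84975 : act 7 n39302 = n84975 := rfl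
theorem F130215 : act 2 n84975 = n39307 := d4_1 D84975 (iv7 F130206) F130205
def n84976 : Q := act 0 n39303
theorem D84976 : act 0 n39303 = n84976 := rfl
def n84977 : Q := act 1 n39303
theorem D84977 : act 1 n39303 = n84977 := rfl
theorem F130218 : act 1 n84977 = n39308 := d15_1 D84977 (iv7 F130208) F130207
def n84980 : Q := act 7 n39303
theorem D84980 : act 7 n39303 = n84980 := rfl
theorem F130219 : act 2 n84980 = n39308 := d4_1 D84980 (iv7 F130208) F130207
theorem F130221 : act 1 n39308 = n84976 := d15_0 (iv0 D84976) D84980 F130219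
def n84983 : Q := act 7 n39304
theorem D84983 : act 7 n39304 = n84983 := rfl
def n84984 : Q := act 6 n39305
theorem D84984 : act 6 n39305 = n84984 := rfl
theorem F130222 : act 2 n84984 = n39309 := d3_1 D84984 (iv6 D39309) (iv2 F60286)
theorem F130223 : act 7 n39353 = n84984 := d15_2 F113748 D39353 F130222
theorem F130224 : act 6 n84983 = n39353 := d14_5 F130223 (iv6 D84984) (iv7 D39305) D39304 D84983
def n84989 : Q := act 5 n39306
theorem D84989 : act 5 n39306 = n84989 := rfl
theorem F130225 : act 3 n84989 = n39308 := d6_1 D84989 (iv5 D39308) D39306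
def n84990 : Q := act 6 n39306
theorem D84990 : act 6 n39306 = n84990 := rfl
theorem F130226 : act 3 n84990 = n39309 := d7_1 D84990 (iv6 D39309) D39306
def n84991 : Q := act 3 n39307
theorem D84991 : act 3 n39307 = n84991 := rfl
def n84992 : Q := act 5 n39307
theorem D84992 : act 5 n39307 = n84992 := rfl
def n84993 : Q := act 6 n39307
theorem D84993 : act 6 n39307 = n84993 := rfl
theorem F130227 : act 4 n84993 = n39309 := d10_1 D84993 (iv6 D39309) D39307
def n84994 : Q := act 4 n39308
theorem D84994 : act 4 n39308 = n84994 := rfl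
def n84995 : Q := act 6 n39308
theorem D84995 : act 6 n39308 = n84995 := rfl
theorem F130228 : act 0 n68838 = n84995 := d21_4 (iv5 F41412) (iv1 F41416) D32019 (iv6 F105023) (iv6 D84995) (iv5 D39308) (iv1 D18646) D18647 F43298 (iv1 F43297)
def n84996 : Q := act 0 n39309
theorem D84996 : act 0 n39309 = n84996 := rfl
theorem F130229 : act 2 n39355 = n84996 := d15_3 (iv0 D84996) F113748 D39355
theorem F130230 : act 5 n84996 = n68872 := d2_2 (iv5 F130138) F130229 F130142
theorem F130231 : act 6 n84996 = n39371 := d3_2 (iv6 F130139) F130229 (iv2 F130161)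
theorem F130232 : act 7 n84996 = n39318 := d4_2 D39355 F130229 F130144
theorem F130233 : act 1 n39353 = n84996 := d15_1 D39353 F130232 F130144
theorem E13807 : n81827 = n39371 := ((c21_10 F58347 F86777 (iv5 D54836) (iv6 D26527) F27125 D16791 (iv5 F50664) D68872 (iv5 F130230) F130231 (iv1 D81827))).symm
theorem F130234 : act 0 n39371 = n37450 := (sb E13807 (iv1 D81827))
theorem F130235 : act 1 n39371 = n84931 := (sb E13807 F130178)
theorem E13808 : n81826 = n39323 := (c15_2 F130235 F130179 F130160 F130161)
theorem F130236 : act 0 n39323 = n84931 := (sb E13808 (iv1 F130179))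
theorem F130237 : act 1 n39323 = n37450 := (sb E13808 (iv0 D81826))
def n84997 : Q := act 7 n39309
theorem D84997 : act 7 n39309 = n84997 := rfl
theorem F130238 : act 2 n84997 = n39353 := d4_1 D84997 F130223 F130222
def n84998 : Q := act 2 n39310
theorem D84998 : act 2 n39310 = n84998 := rfl
theorem F130239 : act 7 n39311 = n84998 := d15_2 (iv0 D39310) D39311 (iv2 D84998)
def n85001 : Q := act 5 n39310
theorem D85001 : act 5 n39310 = n85001 := rfl
theorem F130240 : act 6 n85001 = n75855 := d21_3 D18647 D39310 D85001 (iv1 D75855) (iv6 D34678) D34677 D75849 F113741 (iv6 D39309) (iv1 D18646)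
def n85003 : Q := act 7 n39310
theorem D85003 : act 7 n39310 = n85003 := rfl
theorem F130241 : act 2 n85003 = n39311 := d4_1 D85003 F130239 (iv2 D84998)
def n85004 : Q := act 3 n39311
theorem D85004 : act 3 n39311 = n85004 := rfl
def n85005 : Q := act 4 n39311
theorem D85005 : act 4 n39311 = n85005 := rfl
def n85006 : Q := act 5 n39311
theorem D85006 : act 5 n39311 = n85006 := rfl
theorem F130242 : act 6 n85006 = n54726 := d21_9 (iv5 F86819) (iv1 F86820) (iv5 F58347) F58348 (iv1 F42565) (iv6 F42549) (iv5 F86883) (iv1 F86885) D85006 F110795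
theorem F130243 : act 2 n54729 = n85006 := d3_3 F130242 (iv2 D54726) D54729
theorem F130244 : act 3 n72147 = n85006 := d7_3 F130242 F86532 D72147
theorem E13809 : n85004 = n73573 := (c6_4 F110227 F130244 (iv5 D85006) D85004)
theorem F130245 : act 3 n73573 = n39311 := (sb E13809 (iv3 D85004))
theorem E13810 : n85003 = n54933 := (c0_2 F130245 (iv2 F130241) F113939 F42657 D33815 D73573)
theorem F130246 : act 2 n54933 = n39311 := (sb E13810 F130241)
theorem E13811 : n39310 = n33812 := (((F113941).symm.trans (sb E13810 (iv7 D85003)))).symm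
theorem E13812 : n73566 = n54935 := ((D73566).symm.trans (sb E13811 (iv1 F86886)))
theorem E13813 : n73567 = n18647 := ((D73567).symm.trans (sb E13811 (iv0 D39310)))
theorem E13814 : n84998 = n54932 := ((((iv2 F113952)).symm.trans (sb E13811 D84998))).symm
theorem E13817 : n85001 = n73570 := (((D73570).symm.trans (sb E13811 D85001))).symm
theorem F130247 : act 1 n54935 = n33812 := (sb E13812 (iv0 D73566))
theorem F130248 : act 0 n18647 = n33812 := (sb E13813 (iv1 D73567))
theorem F130249 : act 7 n54932 = n39311 := (sb E13814 (iv7 F130239))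
theorem E13819 : n75855 = n69588 := (((F110225).symm.trans (sb E13817 F130240))).symm
theorem F130250 : act 0 n69588 = n34678 := (sb E13819 (iv1 D75855))
theorem E13820 : n75854 = n54879 := ((c15_4 (iv0 D75854) (iv0 F130250) F105880 (iv2 F113945))).symm
theorem F130251 : act 1 n54879 = n34678 := (sb E13820 (iv0 D75854))
theorem F130252 : act 0 n70283 = n55640 := d20_1 D70283 F88029 F43316 F130248 (iv3 D33812) (iv4 F53149) (iv1 F85784) F85781 (iv3 F85756) (iv1 F85760)
theorem E13821 : n68924 = n54127 := (c21_8 (iv5 F50671) (iv1 F41855) (iv5 F43296) (iv6 F43298) F130248 F105099 (iv5 D68928) D68924 (iv5 F106738) (iv6 D70292) (iv1 F51678))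
theorem F130253 : act 1 n54127 = n32052 := (sb E13821 (iv0 D68924))
theorem E13822 : n68925 = n54136 := (c15_2 F130253 D68925 (iv7 D54136) (iv2 F85439))
theorem F130254 : act 0 n54136 = n32052 := (sb E13822 (iv1 D68925))
theorem F130255 : act 4 n76738 = n54319 := d18_7 (iv1 F85760) D70283 F130252 F88029 F43317 (iv4 F55693) D76738 F85712 (iv5 F85757)
theorem F130256 : act 1 n70283 = n73592 := d15_1 (iv0 F130252) F110261 (iv2 F88028)
theorem E13823 : n84966 = n3907 := (c20_7 (iv4 F130255) (iv1 D76738) F55693 F28399 D18645 D39301 D84966 (iv1 F9794) (iv4 F20780) (iv3 F41720) (iv1 F85712))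
theorem E13824 : n39301 = n7591 := (((F42181).symm.trans (sb E13823 (iv4 D84966)))).symm
theorem E13828 : n18645 = n16330 := (((D16330).symm.trans (sb E13824 (iv3 D39301)))).symm
theorem E13832 : n33792 = n26568 := ((D33792).symm.trans (sb E13828 (iv1 F42552)))
theorem E13833 : n33793 = n8755 := ((D33793).symm.trans (sb E13828 (iv0 D18645)))
theorem E13834 : n39300 = n33794 := (((D33794).symm.trans (sb E13828 D39300))).symm
theorem E13835 : n39302 = n33795 := (((D33795).symm.trans (sb E13828 D39302))).symm
theorem E13836 : n39303 = n33796 := (((D33796).symm.trans (sb E13828 D39303))).symm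
theorem E13837 : n39304 = n33797 := (((D33797).symm.trans (sb E13828 D39304))).symm
theorem E13838 : n39305 = n26623 := ((((iv7 F42652)).symm.trans (sb E13828 D39305))).symm
theorem E13839 : n55087 = n18646 := ((((iv1 F42551)).symm.trans (sb E13832 (iv1 F87118)))).symm
theorem F130257 : act 1 n26568 = n16330 := (sb E13832 (iv0 D33792))
theorem E13841 : n73508 = n54914 := ((((iv3 F86858)).symm.trans (sb E13832 D73508))).symm
theorem E13842 : n73509 = n54921 := ((((iv4 F86872)).symm.trans (sb E13832 D73509))).symm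
theorem F130258 : act 0 n8755 = n16330 := (sb E13833 (iv1 D33793))
theorem E13853 : n84960 = n73517 := (((D73517).symm.trans (sb E13834 D84960))).symm
theorem E13854 : n84961 = n73518 := (((D73518).symm.trans (sb E13834 D84961))).symm
theorem E13857 : n84971 = n73521 := (((D73521).symm.trans (sb E13835 D84971))).symm
theorem E13861 : n84975 = n55088 := ((((iv7 F87122)).symm.trans (sb E13835 D84975))).symm
theorem E13862 : n84976 = n73524 := (((D73524).symm.trans (sb E13836 D84976))).symm
theorem E13863 : n84977 = n73525 := (((D73525).symm.trans (sb E13836 D84977))).symm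
theorem E13866 : n84980 = n55089 := ((((iv7 F87124)).symm.trans (sb E13836 D84980))).symm
theorem E13869 : n54830 = n54619 := ((((iv5 F86324)).symm.trans (sb E13837 F86766))).symm
theorem E13870 : n84983 = n55212 := ((((iv7 F87350)).symm.trans (sb E13837 D84983))).symm
theorem E13871 : n84984 = n39635 := ((((iv6 F60515)).symm.trans (sb E13838 D84984))).symm
theorem F130259 : act 2 n18646 = n26623 := (sb E13839 (iv2 D55087))
theorem E13872 : n39306 = n33805 := ((D39306).symm.trans (sb E13839 F87116))
theorem F130260 : act 7 n18646 = n33794 := (sb E13839 F87117)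
theorem F130261 : act 4 n54914 = n70117 := (sb E13841 F110183)
theorem E13873 : n70021 = n39297 := ((((iv1 F86875)).symm.trans (sb E13842 F110184))).symm
theorem F130262 : act 7 n73517 = n39307 := (sb E13853 F130206)
theorem F130263 : act 7 n73518 = n39308 := (sb E13854 F130208)
theorem F130265 : act 1 n73521 = n39307 := (sb E13857 F130213)
theorem F130266 : act 2 n55088 = n39307 := (sb E13861 F130215)
theorem F130267 : act 0 n73524 = n39308 := (sb E13862 (iv1 F130221))
theorem F130268 : act 1 n73525 = n39308 := (sb E13863 F130218)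
theorem F130269 : act 2 n55089 = n39308 := (sb E13866 F130219)
theorem F130270 : act 0 n54619 = n26525 := (sb E13869 (iv1 D54830))
theorem E13874 : n39427 = n39353 := ((F87349).symm.trans (sb E13870 F130224))
theorem F130271 : act 2 n39635 = n39309 := (sb E13871 F130222)
theorem F130272 : act 3 n33805 = n18646 := (sb E13872 (iv3 D39306))
theorem E13879 : n84989 = n73549 := (((D73549).symm.trans (sb E13872 D84989))).symm
theorem E13880 : n84990 = n73550 := (((D73550).symm.trans (sb E13872 D84990))).symm
theorem E13881 : n84950 = n32496 := ((D84950).symm.trans (sb E13873 (iv4 D70021)))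
theorem F130273 : act 3 n39353 = n18685 := (sb E13874 (iv3 D39427))
theorem E13882 : n83928 = n83725 := ((((iv4 F128785)).symm.trans (sb E13874 (iv4 F128928)))).symm
theorem F130274 : act 5 n39353 = n75902 := (sb E13874 (iv5 F113798))
theorem F130275 : act 6 n39353 = n55212 := (sb E13874 (iv6 F87349))
theorem F130276 : act 7 n39353 = n39635 := (sb E13874 (iv7 F60516))
theorem F130277 : act 3 n73549 = n39308 := (sb E13879 F130225)
theorem F130278 : act 3 n73550 = n39309 := (sb E13880 F130226)
theorem F130279 : act 4 n32496 = n39297 := (sb E13881 (iv4 D84950))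
theorem F130280 : act 3 n83725 = n38656 := (sb E13882 (iv3 D83928))
theorem F130281 : act 7 n83725 = n84107 := (sb E13882 (iv7 F129106))
theorem F130282 : act 2 n84107 = n83724 := d15_3 (iv0 D83724) D83725 F130281
theorem E13883 : n84993 = n83724 := ((c1_2 (iv4 F129104) F130282 F130227 (iv2 F130271))).symm
theorem F130283 : act 4 n83724 = n39309 := (sb E13883 F130227)
theorem F130284 : act 6 n83724 = n39307 := (sb E13883 (iv6 D84993))
theorem F130285 : act 4 n84948 = n70020 := d1_2 F130279 (iv2 F130200) (iv2 D70020)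
theorem F130286 : act 4 n84949 = n70024 := d5_2 F130279 D84949 (iv3 D70024) (iv4 D32497) D32496
theorem F130287 : act 4 n84952 = n70023 := d10_3 (iv6 D70023) F130279 D84952
theorem F130288 : act 4 n84943 = n69992 := d11_3 F106398 F130279 F130199
theorem F130289 : act 2 n69992 = n84945 := d1_1 F130288 (iv4 D84945) D84943
theorem F130290 : act 3 n84945 = n69998 := d0_2 D69992 F130289 (iv2 D69998) (iv3 D32491) D32490
theorem F130291 : act 7 n84945 = n70020 := d4_2 (iv7 F106398) F130289 (iv2 D70020)
theorem F130292 : act 1 n84945 = n70018 := d15_0 (iv0 D70018) (iv7 F106398) F130289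
theorem F130293 : act 1 n70019 = n84945 := d15_1 D70019 F130291 (iv2 D70020)
theorem E13884 : n71734 = n49812 := ((c21_7 D39354 F60318 F50664 (iv6 D16791) (iv1 F27128) D26484 (iv5 F78722) (iv1 D71734) (iv5 F87348) (iv6 F130275) (iv1 D39353))).symm
theorem F130294 : act 0 n49812 = n33164 := (sb E13884 (iv1 D71734))
theorem E13885 : n74761 = n65071 := (c20_1 D74761 (iv1 D65071) F48975 (iv3 F78721) F130294 (iv3 D33164) (iv4 F46931) (iv1 F47863) F47860 (iv3 F47809) (iv1 F53909))
theorem F130295 : act 4 n65071 = n34255 := (sb E13885 (iv4 D74761))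
theorem F130296 : act 5 n71737 = n69393 := d21_6 (iv5 D29675) (iv1 F26987) D24284 D49812 F130294 D71737 (iv1 D69393) (iv5 F96058) (iv6 D61528) F47698
theorem F130297 : act 3 n69393 = n71739 := d6_1 F130296 (iv5 D71739) (iv3 F108205)
theorem F130298 : act 6 n69393 = n75902 := d12_2 D71737 F130296 (iv5 F130274) F130275 F87348
theorem E13886 : n68374 = n30789 := (c20_2 D31814 D68374 F49229 (iv3 F51184) (iv1 F105675) F130297 (iv4 F113803) (iv1 D68353) F50113 F24619 D14973)
theorem E13887 : n53426 = n31819 := (((iv1 F84279)).symm.trans (sb E13886 (iv1 F104554)))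
theorem E13888 : n53425 = n31814 := ((F84285).symm.trans (sb E13886 (iv0 D68374)))
theorem E13889 : n68375 = n25879 := (((iv1 F104550)).symm.trans (sb E13887 (iv1 D53426)))
theorem F130299 : act 1 n31819 = n30789 := (sb E13887 F84279)
theorem F130300 : act 0 n31814 = n30789 := (sb E13888 (iv1 F84285))
theorem F130301 : act 0 n25879 = n31814 := (sb E13889 (iv1 D68375))
theorem F130302 : act 1 n25879 = n31819 := (sb E13889 F104550)
theorem E13890 : n74549 = n68407 := ((c18_2 (iv1 F54376) D68407 (iv1 D74549) F53750 F27089 (iv4 F40885) F130302 (iv4 D31819) F41299 (iv5 F54373))).symm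
theorem F130303 : act 0 n68407 = n34183 := (sb E13890 (iv1 D74549))
theorem F130304 : act 1 n68407 = n65194 := (sb E13890 F111936)
theorem F130305 : act 0 n55178 = n68498 := d18_2 (iv1 D55179) (iv4 F87298) F104697 F50182 D68407 F130304 F100954 F54418 F87300
theorem F130307 : act 5 n68378 = n66425 := d21_6 F24350 F11312 D12284 D25879 F130301 D68378 (iv1 D66425) (iv5 D31006) (iv6 D14669) D14667
theorem E13891 : n74548 = n68402 := (c18_7 D14973 D31814 F130300 F49229 (iv5 F51189) (iv4 F100954) F111942 (iv4 D68402) (iv0 D31822) (iv5 D14975))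
theorem F130309 : act 1 n68402 = n34183 := (sb E13891 (iv0 D74548))
theorem F130310 : act 1 n73870 = n68395 := d17_6 (iv1 F41638) D54251 F85595 (iv5 D33925) (iv4 F53277) D73870 (iv5 D68395) F130299 F49229
theorem F130311 : act 0 n54286 = n68396 := d21_4 D73859 F110666 (iv5 D54285) D54286 (iv6 D68396) D68395 (iv1 F130310) (iv5 D73870) (iv6 D33923) D33919
theorem E13892 : n71735 = n54829 := (c15_4 (iv0 D54829) (iv0 F130270) F86325 D71735)
theorem F130312 : act 2 n54829 = n33164 := (sb E13892 (iv2 D71735))
theorem F130313 : act 2 n71737 = n69415 := d3_3 (iv6 F105692) F130312 D71737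
theorem E13893 : n69412 = n69393 := (c2_4 (iv5 F130296) F130313 (iv5 D69415) (iv2 F105691))
theorem F130314 : act 2 n69393 = n32247 := (sb E13893 F105691)
theorem F130315 : act 7 n69393 = n32246 := (sb E13893 (iv7 D69412))
theorem E13894 : n69742 = n69408 := ((c8_2 F130315 D69408 F112669 (iv3 F130297))).symm
theorem F130316 : act 0 n69408 = n75135 := (sb E13894 (iv1 F112671))
theorem F130317 : act 1 n69408 = n32373 := (sb E13894 (iv0 D69742))
theorem F130318 : act 2 n69408 = n75134 := (sb E13894 (iv2 F112668))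
theorem F130319 : act 5 n69408 = n71740 := (sb E13894 (iv5 F112670))
theorem F130320 : act 7 n69408 = n71739 := (sb E13894 F112669)
theorem F130321 : act 7 n69410 = n71737 := d13_2 F130315 D69410 F130296
theorem E13895 : n69407 = n69392 := (c15_4 (iv0 D69392) D69393 F130315 D69407)
theorem F130322 : act 2 n69392 = n32246 := (sb E13895 (iv2 D69407))
theorem F130323 : act 7 n69392 = n32247 := (sb E13895 (iv7 F105690))
theorem F130324 : act 3 n71740 = n69410 := d8_3 F130321 F108205 D71740
theorem F130325 : act 2 n69416 = n75902 := d3_3 (iv6 F130298) F130314 D69416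
theorem F130326 : act 5 n84997 = n69416 := d2_0 F130325 (iv5 F130274) (iv2 F130238)
theorem F130327 : act 7 n69416 = n75849 := d13_2 D84997 F130326 F113741
theorem F130328 : act 0 n39355 = n84997 := d21_1 (iv5 F130138) F130326 (iv6 D69416) (iv1 D32247) (iv6 D15212) F11533 F26913 D15265 (iv6 F27559) D34684
theorem F130329 : act 1 n39355 = n39635 := d15_1 (iv0 F130328) (iv7 F130276) (iv2 F130238)
theorem F130330 : act 1 n39318 = n84997 := d15_0 (iv0 F130328) (iv7 D39355) (iv2 F130144)
theorem F130331 : act 1 n39635 = n39318 := d15_0 F130330 (iv7 D84997) (iv2 F130271)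
theorem E13896 : n75902 = n75850 := (c15_4 F113742 F113745 (iv7 F130327) F130325)
theorem F130332 : act 2 n75850 = n69416 := (sb E13896 (iv2 F130325))
theorem F130333 : act 3 n75850 = n34693 := (sb E13896 (iv3 D75902))
theorem F130334 : act 5 n75850 = n39353 := (sb E13896 (iv5 F130274))
theorem F130335 : act 6 n75850 = n69393 := (sb E13896 (iv6 F130298))
theorem E13897 : n55212 = n55032 := ((c21_5 (iv5 F87019) (iv1 F87023) (iv5 D26601) D26602 D55032 (iv6 F130275) (iv5 F130334) (iv1 D75850) (iv5 D34677) D34678 (iv1 F130251))).symm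
theorem F130336 : act 3 n55032 = n26677 := (sb E13897 (iv3 D55212))
theorem F130337 : act 5 n55032 = n33164 := (sb E13897 F87348)
theorem F130338 : act 6 n55032 = n39353 := (sb E13897 (iv6 F130275))
theorem F130339 : act 7 n55032 = n33797 := (sb E13897 F87350)
theorem E13898 : n71733 = n54832 := (c21_2 F130337 D71733 F86768 (iv6 F113933) (iv1 F113936) D54879 (iv5 F87019) (iv1 F87023) (iv5 D26601) D26602 D55032)
theorem F130340 : act 1 n54832 = n33164 := (sb E13898 (iv0 D71733))
theorem E13899 : n84991 = n83449 := (c0_3 (iv3 F87121) F130266 D84991 (iv2 D83449) (iv3 D38465) F117964)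
theorem F130341 : act 3 n83449 = n39307 := (sb E13899 (iv3 D84991))
theorem F130342 : act 3 n70117 = n79131 := d5_1 F130261 (iv4 F123372) F123371 F86872 (iv3 F86858)
theorem F130343 : act 6 n70117 = n78293 := d10_2 (iv6 F86859) F130261 (iv4 F119491)
theorem F130344 : act 7 n70117 = n40138 := d11_2 D54914 F130261 F61032
theorem E13900 : n70116 = n49004 := ((c15_4 (iv0 D70116) D70117 F130344 (iv2 F77349))).symm
theorem F130345 : act 0 n49004 = n79724 := (sb E13900 (iv1 F122416))
theorem F130346 : act 1 n49004 = n32531 := (sb E13900 (iv0 D70116))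
theorem E13901 : n73476 = n54910 := ((((iv4 F86853)).symm.trans (sb E13900 (iv4 F122580)))).symm
theorem F130347 : act 1 n54910 = n33784 := (sb E13901 (iv0 D73476))
theorem E13902 : n73477 = n54914 := (c15_2 F130347 D73477 (iv7 D54914) (iv2 F86851))
theorem F130348 : act 0 n54914 = n33784 := (sb E13902 (iv1 D73477))
theorem F130349 : act 4 n80762 = n77688 := d20_0 (iv1 F123376) F123372 (iv3 F130342) (iv1 D70117) F51605 (iv4 D27093) F118072 (iv4 F60912) F60911 D80762
theorem E13903 : n84935 = n82936 := ((c20_4 (iv4 F63826) (iv1 F63828) (iv4 F118373) D82936 (iv1 D84935) F60277 F29917 F130258 D33795 F118003 (iv1 F113498))).symm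
theorem F130350 : act 0 n82936 = n39293 := (sb E13903 (iv1 D84935))
theorem E13904 : n84934 = n83403 := ((c15_4 (iv0 D84934) (iv0 F130350) F127798 D83403)).symm
theorem F130351 : act 1 n83403 = n39293 := (sb E13904 (iv0 D84934))
theorem F130352 : act 4 n77689 = n80763 := d20_0 (iv1 D80763) F57825 F29537 (iv1 F113495) (iv3 F118003) (iv4 D33795) (iv1 F130257) (iv4 F86872) (iv3 F123371) (iv1 F123375)
def n85007 : Q := act 6 n39311
theorem D85007 : act 6 n39311 = n85007 := rfl
def n85008 : Q := act 0 n39312
theorem D85008 : act 0 n39312 = n85008 := rfl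
def n85009 : Q := act 1 n39312
theorem D85009 : act 1 n39312 = n85009 := rfl
def n85010 : Q := act 3 n39312
theorem D85010 : act 3 n39312 = n85010 := rfl
def n85011 : Q := act 5 n39312
theorem D85011 : act 5 n39312 = n85011 := rfl
def n85012 : Q := act 7 n39312
theorem D85012 : act 7 n39312 = n85012 := rfl
theorem F130353 : act 4 n85012 = n39313 := d11_1 D85012 (iv7 D39313) D39312
def n85013 : Q := act 0 n39315
theorem D85013 : act 0 n39315 = n85013 := rfl
theorem F130354 : act 1 n39359 = n85013 := d15_0 (iv0 D85013) F130146 D39359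
def n85014 : Q := act 1 n39315
theorem D85014 : act 1 n39315 = n85014 := rfl
def n85015 : Q := act 2 n39315
theorem D85015 : act 2 n39315 = n85015 := rfl
theorem F130355 : act 3 n85015 = n39336 := d0_2 D39315 D85015 (iv2 D39336) (iv3 D18654) F130145
theorem F130356 : act 7 n85015 = n39359 := d4_2 (iv7 F130146) D85015 (iv2 D39359)
theorem F130357 : act 1 n85015 = n39357 := d15_0 (iv0 D39357) (iv7 F130146) D85015
theorem F130358 : act 1 n85014 = n39359 := d15_1 D85014 (iv7 F130356) (iv2 D85015)
theorem F130359 : act 1 n39358 = n85015 := d15_1 D39358 F130356 (iv2 D39359)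
theorem E13905 : n39389 = n39358 := ((c20_11 F92549 (iv1 D58580) F44999 (iv3 D13292) (iv1 F30437) (iv3 F13869) (iv4 F30283) D40144 F130174 (iv3 F130355) (iv1 F130359))).symm
theorem F130360 : act 3 n39358 = n18672 := (sb E13905 (iv3 D39389))
theorem F130361 : act 4 n39358 = n58580 := (sb E13905 F92549)
def n85016 : Q := act 4 n39315
theorem D85016 : act 4 n39315 = n85016 := rfl
theorem F130362 : act 7 n85016 = n39360 := d11_2 (iv7 F130146) D85016 (iv4 D39360)
theorem F130363 : act 0 n58603 = n85016 := d20_1 D58603 (iv4 D85016) (iv3 D39315) (iv1 F29921) F13646 F5859 (iv1 F4237) D6306 D13292 D27877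
def n85017 : Q := act 5 n39315
theorem D85017 : act 5 n39315 = n85017 := rfl
theorem F130364 : act 3 n85017 = n39317 := d6_1 D85017 (iv5 D39317) D39315
theorem F130365 : act 7 n85017 = n39361 := d13_2 (iv7 F130146) D85017 (iv5 D39361)
def n85018 : Q := act 6 n39315
theorem D85018 : act 6 n39315 = n85018 := rfl
theorem F130366 : act 3 n85018 = n39318 := d7_1 D85018 (iv6 D39318) D39315
theorem F130367 : act 5 n75876 = n85018 := d6_0 F130366 F60289 D75876
def n85019 : Q := act 0 n39316
theorem D85019 : act 0 n39316 = n85019 := rfl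
theorem F130368 : act 1 n39321 = n85019 := d15_0 (iv0 D85019) F130148 (iv2 F130155)
def n85020 : Q := act 1 n39316
theorem D85020 : act 1 n39316 = n85020 := rfl
theorem F130369 : act 1 n85020 = n39321 := d15_1 D85020 F130156 (iv2 F130147)
theorem F130370 : act 4 n85020 = n58537 := d20_2 D39321 (iv1 F130369) (iv3 D58537) (iv1 D27849) (iv3 D13284) (iv4 D6302) (iv1 F4239) (iv4 F5859) (iv3 F13646) (iv1 F29918)
theorem F130371 : act 4 n85013 = n39545 := d20_0 (iv1 F92553) F92551 F45004 (iv1 F44971) D58537 (iv4 F130370) (iv1 D85020) (iv4 D39316) D39315 D85013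
def n85021 : Q := act 5 n39316
theorem D85021 : act 5 n39316 = n85021 := rfl
theorem F130372 : act 2 n85021 = n39344 := d2_1 D85021 (iv5 D39344) (iv2 F130147)
theorem F130373 : act 7 n85021 = n39364 := d13_2 (iv7 F130148) D85021 (iv5 D39364)
def n85022 : Q := act 6 n39316
theorem D85022 : act 6 n39316 = n85022 := rfl
theorem F130374 : act 2 n85022 = n39345 := d3_1 D85022 (iv6 D39345) (iv2 F130147)
theorem F130375 : act 4 n85022 = n39318 := d10_1 D85022 (iv6 D39318) D39316
def n85023 : Q := act 4 n39317
theorem D85023 : act 4 n39317 = n85023 := rfl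
theorem F130376 : act 2 n85023 = n39349 := d1_1 D85023 (iv4 D39349) (iv2 F130149)
theorem F130377 : act 7 n85023 = n39366 := d11_2 (iv7 F130150) D85023 (iv4 D39366)
def n85024 : Q := act 6 n39317
theorem D85024 : act 6 n39317 = n85024 := rfl
theorem F130378 : act 2 n85024 = n39350 := d3_1 D85024 (iv6 D39350) (iv2 F130149)
theorem F130379 : act 5 n85024 = n75878 := d12_1 D85024 (iv6 D75878) (iv5 F60289) (iv6 D39318) D39317
def n85026 : Q := act 1 n39320
theorem D85026 : act 1 n39320 = n85026 := rfl
def n85027 : Q := act 2 n39320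
theorem D85027 : act 2 n39320 = n85027 := rfl
theorem F130381 : act 3 n85027 = n39359 := d0_2 D39320 D85027 (iv2 D39359) (iv3 D18659) (iv2 F130152)
theorem F130382 : act 7 n85027 = n39336 := d4_2 (iv7 F130154) D85027 (iv2 D39336)
theorem F130383 : act 1 n85027 = n39334 := d15_0 (iv0 D39334) (iv7 F130154) D85027
theorem F130384 : act 1 n85026 = n39336 := d15_1 D85026 (iv7 F130382) (iv2 D85027)
theorem F130385 : act 1 n39335 = n85027 := d15_1 D39335 F130382 (iv2 D39336)
def n85028 : Q := act 5 n39320
theorem D85028 : act 5 n39320 = n85028 := rfl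
theorem F130386 : act 3 n85028 = n39322 := d6_1 D85028 (iv5 D39322) D39320
theorem F130387 : act 7 n85028 = n39338 := d13_2 (iv7 F130154) D85028 (iv5 D39338)
def n85029 : Q := act 6 n39320
theorem D85029 : act 6 n39320 = n85029 := rfl
theorem F130388 : act 3 n85029 = n39323 := d7_1 D85029 (iv6 D39323) D39320
def n85030 : Q := act 3 n39321
theorem D85030 : act 3 n39321 = n85030 := rfl
theorem F130389 : act 7 n85030 = n39343 := d8_2 (iv7 F130156) D85030 (iv3 D39343)
def n85031 : Q := act 5 n39321
theorem D85031 : act 5 n39321 = n85031 := rfl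
theorem F130390 : act 2 n85031 = n39364 := d2_1 D85031 (iv5 D39364) (iv2 F130155)
theorem F130391 : act 7 n85031 = n39344 := d13_2 (iv7 F130156) D85031 (iv5 D39344)
def n85032 : Q := act 6 n39321
theorem D85032 : act 6 n39321 = n85032 := rfl
theorem F130392 : act 2 n85032 = n39365 := d3_1 D85032 (iv6 D39365) (iv2 F130155)
theorem F130393 : act 4 n85032 = n39323 := d10_1 D85032 (iv6 D39323) D39321
def n85033 : Q := act 4 n39322
theorem D85033 : act 4 n39322 = n85033 := rfl
theorem F130394 : act 2 n85033 = n39366 := d1_1 D85033 (iv4 D39366) (iv2 F130157)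
theorem F130395 : act 7 n85033 = n39349 := d11_2 (iv7 F130158) D85033 (iv4 D39349)
def n85034 : Q := act 5 n39323
theorem D85034 : act 5 n39323 = n85034 := rfl
theorem F130396 : act 2 n85034 = n39370 := d2_1 D85034 (iv5 D39370) (iv2 F130159)
theorem F130397 : act 0 n54728 = n85034 := d21_1 D54728 (iv5 D85034) (iv6 D39323) (iv1 D18650) (iv6 D8756) (iv5 F9330) (iv1 F9332) D6009 D12679 F113935
theorem F130398 : act 1 n54878 = n85034 := d15_0 (iv0 F130397) F86540 (iv2 F113944)
def n85035 : Q := act 2 n39324
theorem D85035 : act 2 n39324 = n85035 := rfl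
theorem F130399 : act 7 n39325 = n85035 := d15_2 (iv0 D39324) D39325 (iv2 D85035)
def n85036 : Q := act 3 n39324
theorem D85036 : act 3 n39324 = n85036 := rfl
theorem F130400 : act 4 n71104 = n85036 := d20_2 (iv4 F52114) D71104 (iv3 D85036) (iv1 F60295) F29926 (iv4 F29967) (iv1 F44928) (iv4 F44966) F109857 (iv1 D32926)
def n85037 : Q := act 4 n39324
theorem D85037 : act 4 n39324 = n85037 := rfl
def n85038 : Q := act 5 n39324
theorem D85038 : act 5 n39324 = n85038 := rfl
theorem F130401 : act 0 n85038 = n73647 := d21_1 D85038 (iv5 F110345) F110346 (iv1 D71865) F52436 (iv5 D16032) (iv1 F27017) D26481 F42367 D39324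
def n85039 : Q := act 6 n39324
theorem D85039 : act 6 n39324 = n85039 := rfl
def n85040 : Q := act 7 n39324
theorem D85040 : act 7 n39324 = n85040 := rfl
theorem F130402 : act 2 n85040 = n39325 := d4_1 D85040 F130399 (iv2 D85035)
def n85041 : Q := act 3 n39325
theorem D85041 : act 3 n39325 = n85041 := rfl
def n85043 : Q := act 6 n39325
theorem D85043 : act 6 n39325 = n85043 := rfl
def n85044 : Q := act 0 n39326
theorem D85044 : act 0 n39326 = n85044 := rfl
def n85045 : Q := act 1 n39326
theorem D85045 : act 1 n39326 = n85045 := rfl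
theorem F130403 : act 1 n85045 = n39386 := d15_1 D85045 (iv7 D39386) (iv2 F60292)
def n85046 : Q := act 3 n39326
theorem D85046 : act 3 n39326 = n85046 := rfl
def n85047 : Q := act 5 n39326
theorem D85047 : act 5 n39326 = n85047 := rfl
theorem F130404 : act 2 n85047 = n39385 := d2_1 D85047 (iv5 D39385) (iv2 F60292)
def n85048 : Q := act 7 n39326
theorem D85048 : act 7 n39326 = n85048 := rfl
theorem F130405 : act 2 n85048 = n39386 := d4_1 D85048 (iv7 D39386) (iv2 F60292)
theorem F130406 : act 4 n85048 = n39327 := d11_1 D85048 (iv7 D39327) D39326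
theorem F130407 : act 1 n39386 = n85044 := d15_0 (iv0 D85044) D85048 F130405
theorem F130409 : act 1 n85048 = n39382 := d15_0 (iv0 D39382) D39386 (iv2 F130405)
def n85049 : Q := act 2 n39334
theorem D85049 : act 2 n39334 = n85049 := rfl
theorem F130410 : act 7 n39335 = n85049 := d15_2 (iv0 D39334) D39335 (iv2 D85049)
def n85050 : Q := act 3 n39334
theorem D85050 : act 3 n39334 = n85050 := rfl
def n85051 : Q := act 4 n39334
theorem D85051 : act 4 n39334 = n85051 := rfl
def n85052 : Q := act 5 n39334
theorem D85052 : act 5 n39334 = n85052 := rfl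
def n85053 : Q := act 6 n39334
theorem D85053 : act 6 n39334 = n85053 := rfl
def n85054 : Q := act 7 n39334
theorem D85054 : act 7 n39334 = n85054 := rfl
theorem F130411 : act 2 n85054 = n39335 := d4_1 D85054 F130410 (iv2 D85049)
def n85055 : Q := act 4 n39335
theorem D85055 : act 4 n39335 = n85055 := rfl
def n85056 : Q := act 5 n39335
theorem D85056 : act 5 n39335 = n85056 := rfl
def n85057 : Q := act 6 n39335
theorem D85057 : act 6 n39335 = n85057 := rfl
def n85058 : Q := act 5 n39336
theorem D85058 : act 5 n39336 = n85058 := rfl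
theorem F130412 : act 2 n85058 = n39338 := d2_1 D85058 (iv5 D39338) D39336
def n85059 : Q := act 6 n39336
theorem D85059 : act 6 n39336 = n85059 := rfl
theorem F130413 : act 2 n85059 = n39339 := d3_1 D85059 (iv6 D39339) D39336
def n85060 : Q := act 3 n39337
theorem D85060 : act 3 n39337 = n85060 := rfl
theorem F130414 : act 4 n85060 = n39343 := d5_2 D39337 D85060 (iv3 D39343) (iv4 D18655) D18654
def n85061 : Q := act 5 n39337
theorem D85061 : act 5 n39337 = n85061 := rfl
def n85062 : Q := act 6 n39337
theorem D85062 : act 6 n39337 = n85062 := rfl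
theorem F130415 : act 4 n85062 = n39339 := d10_1 D85062 (iv6 D39339) D39337
theorem F130416 : act 0 n85062 = n70119 := d20_7 (iv4 D13286) (iv1 F13678) (iv4 F29953) (iv3 F130273) (iv1 D39353) (iv3 F60307) (iv4 F130415) F106499 F51607 F41777
def n85063 : Q := act 0 n39338
theorem D85063 : act 0 n39338 = n85063 := rfl
def n85064 : Q := act 1 n39338
theorem D85064 : act 1 n39338 = n85064 := rfl
def n85065 : Q := act 4 n39338
theorem D85065 : act 4 n39338 = n85065 := rfl
def n85066 : Q := act 6 n39338
theorem D85066 : act 6 n39338 = n85066 := rfl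
theorem F130417 : act 3 n85066 = n39350 := d7_1 D85066 (iv6 D39350) (iv3 F60306)
def n85067 : Q := act 0 n39339
theorem D85067 : act 0 n39339 = n85067 := rfl
def n85068 : Q := act 1 n39339
theorem D85068 : act 1 n39339 = n85068 := rfl
def n85069 : Q := act 5 n39339
theorem D85069 : act 5 n39339 = n85069 := rfl
theorem F130418 : act 3 n85069 = n39354 := d6_1 D85069 (iv5 D39354) (iv3 F60307)
theorem F130419 : act 7 n75871 = n85069 := d8_0 F130418 F130141 D75871
def n85070 : Q := act 7 n39339
theorem D85070 : act 7 n39339 = n85070 := rfl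
theorem F130420 : act 3 n85070 = n39355 := d8_1 D85070 (iv7 D39355) (iv3 F60307)
theorem F130421 : act 5 n85070 = n75871 := d13_1 D85070 F130419 (iv5 D85069)
def n85071 : Q := act 2 n39341
theorem D85071 : act 2 n39341 = n85071 := rfl
theorem F130422 : act 7 n39342 = n85071 := d15_2 (iv0 D39341) D39342 (iv2 D85071)
def n85072 : Q := act 3 n39341
theorem D85072 : act 3 n39341 = n85072 := rfl
theorem F130423 : act 4 n85072 = n83900 := d5_2 (iv4 F60598) D85072 F128893 (iv4 D39754) D39753
def n85073 : Q := act 5 n39341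
theorem D85073 : act 5 n39341 = n85073 := rfl
def n85074 : Q := act 6 n39341
theorem D85074 : act 6 n39341 = n85074 := rfl
def n85075 : Q := act 7 n39341
theorem D85075 : act 7 n39341 = n85075 := rfl
theorem F130424 : act 2 n85075 = n39342 := d4_1 D85075 F130422 (iv2 D85071)
def n85076 : Q := act 3 n39342
theorem D85076 : act 3 n39342 = n85076 := rfl
def n85077 : Q := act 4 n39342
theorem D85077 : act 4 n39342 = n85077 := rfl
def n85080 : Q := act 1 n39343
theorem D85080 : act 1 n39343 = n85080 := rfl
theorem F130425 : act 4 n83943 = n85080 := d20_0 (iv1 D85080) (iv4 F130414) (iv3 D85060) F60458 F60456 F30301 (iv1 F30229) D40057 F60944 D83943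
def n85081 : Q := act 2 n39343
theorem D85081 : act 2 n39343 = n85081 := rfl
def n85082 : Q := act 5 n39343
theorem D85082 : act 5 n39343 = n85082 := rfl
def n85083 : Q := act 6 n39343
theorem D85083 : act 6 n39343 = n85083 := rfl
theorem F130427 : act 3 n85083 = n39345 := d7_1 D85083 (iv6 D39345) D39343
def n85084 : Q := act 0 n39344
theorem D85084 : act 0 n39344 = n85084 := rfl
theorem F130428 : act 1 n39364 = n85084 := d15_0 (iv0 D85084) (iv7 F130391) F130390
def n85085 : Q := act 1 n39344
theorem D85085 : act 1 n39344 = n85085 := rfl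
theorem F130429 : act 1 n85085 = n39364 := d15_1 D85085 (iv7 F130373) F130372
def n85086 : Q := act 4 n39344
theorem D85086 : act 4 n39344 = n85086 := rfl
def n85087 : Q := act 6 n39344
theorem D85087 : act 6 n39344 = n85087 := rfl
def n85088 : Q := act 0 n39345
theorem D85088 : act 0 n39345 = n85088 := rfl
def n85089 : Q := act 1 n39345
theorem D85089 : act 1 n39345 = n85089 := rfl
def n85090 : Q := act 5 n39345
theorem D85090 : act 5 n39345 = n85090 := rfl
def n85091 : Q := act 7 n39345
theorem D85091 : act 7 n39345 = n85091 := rfl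
theorem F130430 : act 4 n85091 = n39355 := d11_1 D85091 (iv7 D39355) (iv4 F60310)
def n85092 : Q := act 3 n39347
theorem D85092 : act 3 n39347 = n85092 := rfl
theorem F130431 : act 2 n85092 = n39413 := d0_1 D85092 (iv3 D39413) F44887 D58408 F110348
theorem F130432 : act 5 n71719 = n85092 := d2_0 F130431 F60340 (iv2 F108196)
def n85093 : Q := act 4 n39347
theorem D85093 : act 4 n39347 = n85093 := rfl
def n85094 : Q := act 5 n39347
theorem D85094 : act 5 n39347 = n85094 := rfl
theorem F130433 : act 2 n85094 = n54614 := d2_1 D85094 (iv5 F92252) F110348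
theorem F130435 : act 6 n85094 = n54611 := d21_3 D18656 D39347 D85094 (iv1 F86311) (iv6 D26484) (iv5 D12644) (iv1 F26614) F4032 D3914 D8757
theorem F130436 : act 1 n85094 = n55318 := d15_0 (iv0 F110342) F110341 (iv2 F130433)
def n85095 : Q := act 6 n39347
theorem D85095 : act 6 n39347 = n85095 := rfl
def n85096 : Q := act 4 n39348
theorem D85096 : act 4 n39348 = n85096 := rfl
def n85097 : Q := act 0 n39349
theorem D85097 : act 0 n39349 = n85097 := rfl
theorem F130437 : act 1 n39366 = n85097 := d15_0 (iv0 D85097) (iv7 F130395) F130394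
def n85098 : Q := act 1 n39349
theorem D85098 : act 1 n39349 = n85098 := rfl
theorem F130438 : act 1 n85098 = n39366 := d15_1 D85098 (iv7 F130377) F130376
def n85099 : Q := act 3 n39349
theorem D85099 : act 3 n39349 = n85099 := rfl
def n85100 : Q := act 5 n39349
theorem D85100 : act 5 n39349 = n85100 := rfl
def n85101 : Q := act 6 n39349
theorem D85101 : act 6 n39349 = n85101 := rfl
theorem F130439 : act 4 n85101 = n39350 := d10_1 D85101 (iv6 D39350) D39349
def n85102 : Q := act 0 n39350
theorem D85102 : act 0 n39350 = n85102 := rfl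
theorem F130440 : act 5 n85102 = n54217 := d21_0 (iv1 D54217) D54218 F85554 (iv1 D26606) F21107 (iv5 D8759) D8757 D18656 D39350 D85102
def n85103 : Q := act 1 n39350
theorem D85103 : act 1 n39350 = n85103 := rfl
def n85104 : Q := act 5 n39350
theorem D85104 : act 5 n39350 = n85104 := rfl
theorem F130441 : act 2 n85104 = n75878 := d2_1 D85104 (iv5 F130379) F130378
theorem F130442 : act 6 n85104 = n39354 := d12_2 D39350 D85104 (iv5 D39354) (iv6 D18657) D18656
theorem F130443 : act 5 n54216 = n85103 := d21_0 (iv1 D85103) D85104 F130442 F60318 (iv6 D32034) F41437 (iv1 F26918) (iv5 F20702) D26221 D54216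
def n85105 : Q := act 7 n39350
theorem D85105 : act 7 n39350 = n85105 := rfl
def n85106 : Q := act 4 n39354
theorem D85106 : act 4 n39354 = n85106 := rfl
theorem F130444 : act 2 n85106 = n75877 := d1_1 D85106 (iv4 D75877) (iv2 F130140)
theorem F130445 : act 7 n85106 = n75872 := d11_2 (iv7 F130141) D85106 (iv4 D75872)
def n85107 : Q := act 2 n39357
theorem D85107 : act 2 n39357 = n85107 := rfl
theorem F130446 : act 7 n39358 = n85107 := d15_2 (iv0 D39357) D39358 (iv2 D85107)
theorem F130447 : act 3 n85107 = n39393 := d8_1 F130446 (iv7 D39393) (iv3 F130360)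
theorem F130448 : act 2 n39394 = n58331 := d0_3 F130447 F60330 D39394 (iv3 F92548) D85107
def n85110 : Q := act 7 n39357
theorem D85110 : act 7 n39357 = n85110 := rfl
theorem F130449 : act 2 n85110 = n39358 := d4_1 D85110 F130446 (iv2 D85107)
def n85113 : Q := act 4 n39359
theorem D85113 : act 4 n39359 = n85113 := rfl
theorem F130452 : act 2 n85113 = n39360 := d1_1 D85113 (iv4 D39360) D39359
theorem F130453 : act 3 n85113 = n81530 := d20_3 (iv4 F130371) (iv1 F130354) D85113 (iv1 D81530) F58188 F29072 (iv1 F116721) D8784 D18731 D39545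
theorem F130454 : act 0 n58608 = n85113 := d20_1 D58608 (iv4 D85113) (iv3 F130381) (iv1 F130385) (iv3 F92574) F92573 (iv1 F92436) F92434 F44968 (iv1 F45007)
theorem F130455 : act 1 n58608 = n85016 := d15_1 (iv0 F130454) F130362 (iv2 F130452)
def n85114 : Q := act 5 n39359
theorem D85114 : act 5 n39359 = n85114 := rfl
theorem F130456 : act 2 n85114 = n39361 := d2_1 D85114 (iv5 D39361) D39359
def n85115 : Q := act 6 n39359
theorem D85115 : act 6 n39359 = n85115 := rfl
theorem F130457 : act 2 n85115 = n39362 := d3_1 D85115 (iv6 D39362) D39359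
def n85116 : Q := act 0 n39360
theorem D85116 : act 0 n39360 = n85116 := rfl
def n85117 : Q := act 3 n39360
theorem D85117 : act 3 n39360 = n85117 := rfl
theorem F130458 : act 4 n85117 = n39363 := d5_2 D39360 D85117 (iv3 D39363) (iv4 D18660) D18659
theorem E13906 : n85116 = n39598 := (c20_11 (iv4 D39598) (iv1 D18751) (iv4 F29975) (iv3 D18731) D18729 D39543 (iv4 F128022) F128024 (iv4 F130458) (iv3 D85117) D85116)
theorem F130459 : act 1 n39598 = n39360 := (sb E13906 (iv0 D85116))
theorem F130460 : act 0 n39597 = n57678 := d20_10 (iv4 D57678) (iv1 F90839) F90834 F44864 (iv1 F29922) D18659 D39360 (iv1 F130459) (iv4 D39598) D39597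
def n85118 : Q := act 5 n39360
theorem D85118 : act 5 n39360 = n85118 := rfl
def n85119 : Q := act 6 n39360
theorem D85119 : act 6 n39360 = n85119 := rfl
theorem F130461 : act 4 n85119 = n39362 := d10_1 D85119 (iv6 D39362) D39360
def n85120 : Q := act 0 n39361
theorem D85120 : act 0 n39361 = n85120 := rfl
def n85121 : Q := act 1 n39361
theorem D85121 : act 1 n39361 = n85121 := rfl
def n85122 : Q := act 4 n39361
theorem D85122 : act 4 n39361 = n85122 := rfl
def n85123 : Q := act 6 n39361
theorem D85123 : act 6 n39361 = n85123 := rfl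
theorem F130462 : act 3 n85123 = n39367 := d7_1 D85123 (iv6 D39367) (iv3 F60321)
def n85124 : Q := act 0 n39362
theorem D85124 : act 0 n39362 = n85124 := rfl
def n85125 : Q := act 1 n39362
theorem D85125 : act 1 n39362 = n85125 := rfl
def n85126 : Q := act 5 n39362
theorem D85126 : act 5 n39362 = n85126 := rfl
theorem F130463 : act 3 n85126 = n39370 := d6_1 D85126 (iv5 D39370) (iv3 F60322)
def n85127 : Q := act 7 n39362
theorem D85127 : act 7 n39362 = n85127 := rfl
theorem F130464 : act 3 n85127 = n39371 := d8_1 D85127 (iv7 D39371) (iv3 F60322)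
def n85128 : Q := act 2 n39363
theorem D85128 : act 2 n39363 = n85128 := rfl
def n85129 : Q := act 5 n39363
theorem D85129 : act 5 n39363 = n85129 := rfl
theorem F130465 : act 3 n85129 = n39364 := d6_1 D85129 (iv5 D39364) D39363
def n85130 : Q := act 6 n39363
theorem D85130 : act 6 n39363 = n85130 := rfl
theorem F130466 : act 3 n85130 = n39365 := d7_1 D85130 (iv6 D39365) D39363
def n85131 : Q := act 4 n39364
theorem D85131 : act 4 n39364 = n85131 := rfl
def n85132 : Q := act 6 n39364
theorem D85132 : act 6 n39364 = n85132 := rfl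
def n85133 : Q := act 0 n39365
theorem D85133 : act 0 n39365 = n85133 := rfl
def n85134 : Q := act 1 n39365
theorem D85134 : act 1 n39365 = n85134 := rfl
def n85135 : Q := act 5 n39365
theorem D85135 : act 5 n39365 = n85135 := rfl
def n85136 : Q := act 7 n39365
theorem D85136 : act 7 n39365 = n85136 := rfl
theorem F130467 : act 4 n85136 = n39371 := d11_1 D85136 (iv7 D39371) (iv4 F60323)
def n85137 : Q := act 3 n39366
theorem D85137 : act 3 n39366 = n85137 := rfl
def n85138 : Q := act 5 n39366
theorem D85138 : act 5 n39366 = n85138 := rfl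
def n85139 : Q := act 6 n39366
theorem D85139 : act 6 n39366 = n85139 := rfl
theorem F130468 : act 4 n85139 = n39367 := d10_1 D85139 (iv6 D39367) D39366
def n85140 : Q := act 0 n39367
theorem D85140 : act 0 n39367 = n85140 := rfl
def n85141 : Q := act 5 n39367
theorem D85141 : act 5 n39367 = n85141 := rfl
theorem F130469 : act 6 n85141 = n39370 := d12_2 D39367 D85141 (iv5 D39370) (iv6 D18662) D18661
def n85142 : Q := act 0 n39370
theorem D85142 : act 0 n39370 = n85142 := rfl
def n85143 : Q := act 1 n39370
theorem D85143 : act 1 n39370 = n85143 := rfl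
theorem F130470 : act 5 n54726 = n85143 := d21_0 (iv1 D85143) (iv5 D39370) (iv6 D18662) (iv1 D8758) (iv6 D3914) (iv5 F4032) (iv1 F26641) (iv5 F21075) D26527 F110796
theorem F130471 : act 2 n85143 = n54728 := d2_1 F130470 (iv5 D54728) D54726
theorem F130473 : act 7 n85143 = n54878 := d13_2 F113938 F130470 (iv5 D54878)
theorem E13907 : n72182 = n39370 := (c15_1 D72182 D85143 F130473 F113944)
theorem E13908 : n85142 = n33319 := ((D85142).symm.trans (sb E13907 (iv1 D72182)))
theorem F130474 : act 1 n33319 = n39370 := (sb E13908 (iv0 D85142))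
theorem E13909 : n72184 = n54197 := (c21_5 D39370 (iv1 F130474) (iv5 D33319) D33320 D72184 F110336 (iv5 F120248) (iv1 F110394) (iv5 D39290) D39291 F120250)
theorem F130475 : act 1 n54197 = n33320 := (sb E13909 (iv0 D72184))
theorem F130476 : act 1 n85143 = n72181 := d15_0 (iv0 D72181) (iv7 F86540) (iv2 F130471)
theorem F130477 : act 7 n72181 = n85034 := d15_2 D85143 F130476 F130396
theorem F130478 : act 5 n84930 = n72181 := d13_3 F130477 (iv5 D85034) F130160
def n85144 : Q := act 4 n39370
theorem D85144 : act 4 n39370 = n85144 := rfl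
def n85145 : Q := act 7 n39370
theorem D85145 : act 7 n39370 = n85145 := rfl
theorem F130479 : act 2 n85145 = n72181 := d4_1 D85145 F130477 F130396
theorem F130480 : act 5 n85145 = n39371 := d13_1 D85145 (iv7 D39371) D39370
theorem F130481 : act 1 n54728 = n85145 := d15_1 (iv0 F130397) (iv7 D85145) (iv2 F130396)
def n85147 : Q := act 1 n39372
theorem D85147 : act 1 n39372 = n85147 := rfl
theorem F130484 : act 1 n85147 = n39377 := d15_1 D85147 (iv7 D39377) D39372
def n85148 : Q := act 3 n39372
theorem D85148 : act 3 n39372 = n85148 := rfl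
theorem F130485 : act 7 n85148 = n39378 := d8_2 F60324 D85148 (iv3 D39378)
def n85149 : Q := act 4 n39372
theorem D85149 : act 4 n39372 = n85149 := rfl
theorem F130486 : act 2 n85149 = n39374 := d1_1 D85149 (iv4 D39374) D39372
theorem F130487 : act 7 n85149 = n39379 := d11_2 F60324 D85149 (iv4 D39379)
def n85150 : Q := act 5 n39372
theorem D85150 : act 5 n39372 = n85150 := rfl
theorem F130488 : act 2 n85150 = n39375 := d2_1 D85150 (iv5 D39375) D39372
theorem F130489 : act 7 n85150 = n39380 := d13_2 F60324 D85150 (iv5 D39380)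
def n85151 : Q := act 6 n39372
theorem D85151 : act 6 n39372 = n85151 := rfl
theorem F130490 : act 2 n85151 = n39376 := d3_1 D85151 (iv6 D39376) D39372
def n85152 : Q := act 0 n39373
theorem D85152 : act 0 n39373 = n85152 := rfl
def n85153 : Q := act 1 n39373
theorem D85153 : act 1 n39373 = n85153 := rfl
def n85154 : Q := act 2 n39373
theorem D85154 : act 2 n39373 = n85154 := rfl
def n85155 : Q := act 4 n39373
theorem D85155 : act 4 n39373 = n85155 := rfl
def n85156 : Q := act 5 n39373
theorem D85156 : act 5 n39373 = n85156 := rfl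
theorem F130491 : act 3 n85156 = n39375 := d6_1 D85156 (iv5 D39375) D39373
def n85157 : Q := act 6 n39373
theorem D85157 : act 6 n39373 = n85157 := rfl
theorem F130492 : act 3 n85157 = n39376 := d7_1 D85157 (iv6 D39376) D39373
def n85158 : Q := act 7 n39373
theorem D85158 : act 7 n39373 = n85158 := rfl
theorem F130493 : act 3 n85158 = n39377 := d8_1 D85158 (iv7 D39377) D39373
def n85159 : Q := act 0 n39374
theorem D85159 : act 0 n39374 = n85159 := rfl
def n85160 : Q := act 1 n39374
theorem D85160 : act 1 n39374 = n85160 := rfl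
theorem F130494 : act 1 n85160 = n39379 := d15_1 D85160 (iv7 F130487) F130486
def n85162 : Q := act 5 n39374
theorem D85162 : act 5 n39374 = n85162 := rfl
def n85164 : Q := act 7 n39374
theorem D85164 : act 7 n39374 = n85164 := rfl
theorem F130496 : act 2 n85164 = n39379 := d4_1 D85164 (iv7 F130487) F130486
theorem F130498 : act 1 n39379 = n85159 := d15_0 (iv0 D85159) D85164 F130496
def n85165 : Q := act 0 n39375
theorem D85165 : act 0 n39375 = n85165 := rfl
theorem F130499 : act 5 n85165 = n72082 := d21_2 D39375 D85165 (iv6 D72082) (iv1 D33281) F25592 (iv5 D7509) F26868 D12715 F21107 D18663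
theorem F130500 : act 0 n72051 = n39376 := d21_4 (iv5 D16066) D16064 D33273 D72051 (iv6 D39376) D39375 D85165 F130499 (iv6 D72082) (iv1 D33281)
theorem F130501 : act 2 n73647 = n85165 := d2_3 F130499 (iv2 F110343) F110345
theorem F130502 : act 6 n73602 = n85165 := d12_0 F130499 (iv6 D72082) D72081 F108533 D73602
theorem F130503 : act 7 n85094 = n85165 := d13_0 F130499 F110349 D85094
theorem F130504 : act 0 n71975 = n54943 := d21_1 F110284 (iv5 D54943) (iv6 F58348) (iv1 F130237) (iv6 D39323) D39322 (iv1 F130168) (iv5 F130499) (iv6 F130502) (iv1 F110283)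
theorem F130505 : act 1 n71975 = n54946 := d15_1 (iv0 F130504) F86912 (iv2 F86902)
theorem F130506 : act 1 n85038 = n85094 := d15_1 (iv0 F130401) F130503 (iv2 F130501)
theorem F130507 : act 0 n85165 = n39380 := d21_10 (iv5 D39380) (iv1 D18664) (iv5 D8759) (iv6 D3914) D3911 D8750 F26655 D33826 D73602 F130502
theorem F130508 : act 1 n54614 = n39380 := d15_0 (iv0 F130507) (iv7 F130503) F130433
theorem F130509 : act 1 n39375 = n54614 := d15_0 F130508 (iv7 F130489) F130488
theorem F130510 : act 0 n55034 = n54613 := d21_7 (iv5 D39375) (iv1 F60297) F60294 (iv6 F42525) (iv1 F42527) D26602 D55034 (iv5 D54613) D54614 (iv1 F130509)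
def n85166 : Q := act 4 n39375
theorem D85166 : act 4 n39375 = n85166 := rfl
def n85167 : Q := act 6 n39375
theorem D85167 : act 6 n39375 = n85167 := rfl
theorem F130511 : act 0 n85167 = n85006 := d21_4 D8759 D18663 D39375 D85167 F130242 F130470 (iv1 D85143) (iv5 D39370) (iv6 D18662) (iv1 D8758)
theorem F130512 : act 0 n73570 = n85167 := d21_4 D26601 (iv1 F87020) F113949 (iv6 F110225) (iv6 D85167) (iv5 D39375) (iv1 F60297) F60294 (iv6 F42525) (iv1 F42527)
def n85168 : Q := act 7 n39375
theorem D85168 : act 7 n39375 = n85168 := rfl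
theorem F130513 : act 2 n85168 = n39380 := d4_1 D85168 (iv7 F130489) F130488
theorem F130514 : act 5 n85168 = n39377 := d13_1 D85168 (iv7 D39377) D39375
def n85169 : Q := act 0 n39376
theorem D85169 : act 0 n39376 = n85169 := rfl
def n85170 : Q := act 5 n39376
theorem D85170 : act 5 n39376 = n85170 := rfl
theorem F130515 : act 0 n85170 = n68903 := d21_1 D85170 F105080 (iv6 D33296) (iv1 D16079) (iv6 F25592) (iv5 D16066) D16064 D33273 D72051 F130500
def n85171 : Q := act 7 n39376
theorem D85171 : act 7 n39376 = n85171 := rfl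
def n85172 : Q := act 6 n39377
theorem D85172 : act 6 n39377 = n85172 := rfl
theorem F130516 : act 2 n85172 = n39381 := d3_1 D85172 (iv6 D39381) (iv2 F60325)
def n85176 : Q := act 4 n39378
theorem D85176 : act 4 n39378 = n85176 := rfl
theorem F130517 : act 0 n71107 = n85176 := d20_1 (iv4 F107631) (iv4 D85176) (iv3 D39378) (iv1 D18664) F13645 D8773 D18710 (iv4 F46251) (iv3 F109873) (iv1 F86076)
theorem F130518 : act 1 n54494 = n85176 := d15_0 (iv0 F130517) (iv7 D71107) (iv2 F86070)
def n85177 : Q := act 5 n39378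
theorem D85177 : act 5 n39378 = n85177 := rfl
theorem F130519 : act 3 n85177 = n39380 := d6_1 D85177 (iv5 D39380) D39378
def n85178 : Q := act 6 n39378
theorem D85178 : act 6 n39378 = n85178 := rfl
theorem F130520 : act 3 n85178 = n39381 := d7_1 D85178 (iv6 D39381) D39378
def n85180 : Q := act 5 n39379
theorem D85180 : act 5 n39379 = n85180 := rfl
def n85182 : Q := act 4 n39380
theorem D85182 : act 4 n39380 = n85182 := rfl
def n85183 : Q := act 0 n39381
theorem D85183 : act 0 n39381 = n85183 := rfl
def n85184 : Q := act 1 n39381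
theorem D85184 : act 1 n39381 = n85184 := rfl
def n85185 : Q := act 5 n39381
theorem D85185 : act 5 n39381 = n85185 := rfl
def n85186 : Q := act 7 n39381
theorem D85186 : act 7 n39381 = n85186 := rfl
def n85187 : Q := act 2 n39382
theorem D85187 : act 2 n39382 = n85187 := rfl
theorem F130522 : act 7 n39383 = n85187 := d15_2 (iv0 D39382) D39383 (iv2 D85187)
def n85188 : Q := act 3 n39382
theorem D85188 : act 3 n39382 = n85188 := rfl
def n85189 : Q := act 4 n39382
theorem D85189 : act 4 n39382 = n85189 := rfl
def n85190 : Q := act 5 n39382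
theorem D85190 : act 5 n39382 = n85190 := rfl
def n85191 : Q := act 6 n39382
theorem D85191 : act 6 n39382 = n85191 := rfl
def n85192 : Q := act 7 n39382
theorem D85192 : act 7 n39382 = n85192 := rfl
theorem F130523 : act 2 n85192 = n39383 := d4_1 D85192 F130522 (iv2 D85187)
def n85193 : Q := act 3 n39383
theorem D85193 : act 3 n39383 = n85193 := rfl
def n85194 : Q := act 4 n39383
theorem D85194 : act 4 n39383 = n85194 := rfl
def n85195 : Q := act 5 n39383
theorem D85195 : act 5 n39383 = n85195 := rfl
def n85196 : Q := act 6 n39383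
theorem D85196 : act 6 n39383 = n85196 := rfl
def n85197 : Q := act 0 n39384
theorem D85197 : act 0 n39384 = n85197 := rfl
def n85198 : Q := act 1 n39384
theorem D85198 : act 1 n39384 = n85198 := rfl
def n85199 : Q := act 2 n39384
theorem D85199 : act 2 n39384 = n85199 := rfl
theorem F130524 : act 4 n85199 = n39490 := d1_2 (iv4 F60326) D85199 (iv2 D39490)
def n85200 : Q := act 5 n39384
theorem D85200 : act 5 n39384 = n85200 := rfl
theorem F130525 : act 3 n85200 = n39385 := d6_1 D85200 (iv5 D39385) D39384
def n85201 : Q := act 7 n39384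
theorem D85201 : act 7 n39384 = n85201 := rfl
theorem F130526 : act 3 n85201 = n39386 := d8_1 D85201 (iv7 D39386) D39384
theorem F130527 : act 4 n85201 = n39492 := d11_1 D85201 (iv7 D39492) (iv4 F60326)
def n85202 : Q := act 0 n39385
theorem D85202 : act 0 n39385 = n85202 := rfl
def n85203 : Q := act 1 n39385
theorem D85203 : act 1 n39385 = n85203 := rfl
def n85204 : Q := act 4 n39385
theorem D85204 : act 4 n39385 = n85204 := rfl
def n85205 : Q := act 6 n39385
theorem D85205 : act 6 n39385 = n85205 := rfl
def n85206 : Q := act 7 n39385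
theorem D85206 : act 7 n39385 = n85206 := rfl
theorem F130528 : act 5 n85206 = n39386 := d13_1 D85206 (iv7 D39386) D39385
def n85207 : Q := act 6 n39386
theorem D85207 : act 6 n39386 = n85207 := rfl
theorem F130529 : act 4 n85207 = n39387 := d10_1 D85207 (iv6 D39387) (iv4 F60327)
def n85209 : Q := act 1 n39388
theorem D85209 : act 1 n39388 = n85209 := rfl
theorem F130531 : act 1 n85209 = n39393 := d15_1 D85209 (iv7 D39393) D39388
def n85210 : Q := act 3 n39388
theorem D85210 : act 3 n39388 = n85210 := rfl
theorem F130532 : act 7 n85210 = n39394 := d8_2 F60329 D85210 (iv3 D39394)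
def n85211 : Q := act 4 n39388
theorem D85211 : act 4 n39388 = n85211 := rfl
theorem F130533 : act 2 n85211 = n39390 := d1_1 D85211 (iv4 D39390) D39388
theorem F130534 : act 7 n85211 = n39395 := d11_2 F60329 D85211 (iv4 D39395)
def n85214 : Q := act 0 n39390
theorem D85214 : act 0 n39390 = n85214 := rfl
theorem F130538 : act 4 n85214 = n40237 := d20_2 D39390 D85214 (iv3 D40237) (iv1 D18999) F13869 F5923 D3970 (iv4 F28967) D8762 D18672
def n85215 : Q := act 1 n39390
theorem D85215 : act 1 n39390 = n85215 := rfl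
theorem F130539 : act 1 n85215 = n39395 := d15_1 D85215 (iv7 F130534) F130533
def n85216 : Q := act 3 n39390
theorem D85216 : act 3 n39390 = n85216 := rfl
def n85217 : Q := act 5 n39390
theorem D85217 : act 5 n39390 = n85217 := rfl
def n85218 : Q := act 6 n39390
theorem D85218 : act 6 n39390 = n85218 := rfl
def n85220 : Q := act 0 n39391
theorem D85220 : act 0 n39391 = n85220 := rfl
def n85221 : Q := act 1 n39391
theorem D85221 : act 1 n39391 = n85221 := rfl
def n85222 : Q := act 4 n39391
theorem D85222 : act 4 n39391 = n85222 := rfl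
def n85223 : Q := act 6 n39391
theorem D85223 : act 6 n39391 = n85223 := rfl
def n85230 : Q := act 0 n39394
theorem D85230 : act 0 n39394 = n85230 := rfl
def n85231 : Q := act 1 n39394
theorem D85231 : act 1 n39394 = n85231 := rfl
def n85235 : Q := act 3 n39395
theorem D85235 : act 3 n39395 = n85235 := rfl
theorem F130551 : act 0 n84120 = n85235 := d20_4 F116669 F116639 D38772 D84120 (iv3 D85235) (iv4 D39395) (iv1 D18673) D18675 (iv3 F30365) D40261
def n85244 : Q := act 3 n39398
theorem D85244 : act 3 n39398 = n85244 := rfl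
def n85245 : Q := act 5 n39398
theorem D85245 : act 5 n39398 = n85245 := rfl
theorem F130553 : act 2 n85245 = n39403 := d2_1 D85245 (iv5 D39403) (iv2 F60331)
def n85246 : Q := act 6 n39398
theorem D85246 : act 6 n39398 = n85246 := rfl
theorem F130554 : act 2 n85246 = n39404 := d3_1 D85246 (iv6 D39404) (iv2 F60331)
theorem F130555 : act 4 n85246 = n39400 := d10_1 D85246 (iv6 D39400) D39398
def n85247 : Q := act 4 n39399
theorem D85247 : act 4 n39399 = n85247 := rfl
theorem F130556 : act 2 n85247 = n39407 := d1_1 D85247 (iv4 D39407) (iv2 F60332)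
def n85248 : Q := act 6 n39399
theorem D85248 : act 6 n39399 = n85248 := rfl
theorem F130557 : act 2 n85248 = n39408 := d3_1 D85248 (iv6 D39408) (iv2 F60332)
def n85249 : Q := act 0 n39400
theorem D85249 : act 0 n39400 = n85249 := rfl
def n85250 : Q := act 1 n39400
theorem D85250 : act 1 n39400 = n85250 := rfl
def n85251 : Q := act 5 n39400
theorem D85251 : act 5 n39400 = n85251 := rfl
theorem F130559 : act 2 n85251 = n39411 := d2_1 D85251 (iv5 D39411) (iv2 F60333)
theorem F130560 : act 3 n85251 = n75944 := d6_1 D85251 F113837 F92239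
theorem F130561 : act 7 n75936 = n85251 := d4_0 F130559 (iv7 F60337) D75936
def n85252 : Q := act 7 n39400
theorem D85252 : act 7 n39400 = n85252 := rfl
theorem F130564 : act 2 n85252 = n39412 := d4_1 D85252 (iv7 D39412) (iv2 F60333)
theorem F130565 : act 5 n85252 = n75936 := d13_1 D85252 F130561 (iv5 D85251)
theorem F130566 : act 1 n39412 = n85249 := d15_0 (iv0 D85249) D85252 F130564
theorem F130567 : act 1 n39410 = n85252 := d15_1 D39410 (iv7 D85252) F60333
theorem F130568 : act 1 n85252 = n39409 := d15_0 (iv0 D39409) D39412 (iv2 F130564)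
def n85253 : Q := act 2 n39401
theorem D85253 : act 2 n39401 = n85253 := rfl
theorem F130569 : act 7 n39402 = n85253 := d15_2 (iv0 D39401) D39402 (iv2 D85253)
def n85254 : Q := act 4 n39401
theorem D85254 : act 4 n39401 = n85254 := rfl
theorem F130570 : act 3 n85254 = n83713 := d5_1 D85254 F129190 (iv3 D84146) D84147 (iv3 F129191)
def n85255 : Q := act 5 n39401
theorem D85255 : act 5 n39401 = n85255 := rfl
def n85256 : Q := act 6 n39401
theorem D85256 : act 6 n39401 = n85256 := rfl
def n85257 : Q := act 7 n39401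
theorem D85257 : act 7 n39401 = n85257 := rfl
theorem F130571 : act 2 n85257 = n39402 := d4_1 D85257 F130569 (iv2 D85253)
def n85258 : Q := act 3 n39402
theorem D85258 : act 3 n39402 = n85258 := rfl
def n85261 : Q := act 0 n39403
theorem D85261 : act 0 n39403 = n85261 := rfl
def n85262 : Q := act 1 n39403
theorem D85262 : act 1 n39403 = n85262 := rfl
def n85265 : Q := act 0 n39404
theorem D85265 : act 0 n39404 = n85265 := rfl
def n85266 : Q := act 1 n39404
theorem D85266 : act 1 n39404 = n85266 := rfl
def n85267 : Q := act 5 n39404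
theorem D85267 : act 5 n39404 = n85267 := rfl
theorem F130572 : act 3 n85267 = n80271 := d6_1 D85267 (iv5 F123359) F61245
def n85268 : Q := act 7 n39404
theorem D85268 : act 7 n39404 = n85268 := rfl
theorem F130573 : act 3 n85268 = n40267 := d8_1 D85268 F61249 F61245
theorem F130574 : act 4 n85268 = n39412 := d11_1 D85268 (iv7 D39412) (iv4 F60334)
def n85269 : Q := act 2 n39405
theorem D85269 : act 2 n39405 = n85269 := rfl
theorem F130575 : act 7 n39406 = n85269 := d15_2 (iv0 D39405) D39406 (iv2 D85269)
def n85271 : Q := act 4 n39405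
theorem D85271 : act 4 n39405 = n85271 := rfl
def n85272 : Q := act 5 n39405
theorem D85272 : act 5 n39405 = n85272 := rfl
def n85273 : Q := act 6 n39405
theorem D85273 : act 6 n39405 = n85273 := rfl
def n85274 : Q := act 7 n39405
theorem D85274 : act 7 n39405 = n85274 := rfl
theorem F130576 : act 2 n85274 = n39406 := d4_1 D85274 F130575 (iv2 D85269)
def n85276 : Q := act 4 n39406
theorem D85276 : act 4 n39406 = n85276 := rfl
def n85277 : Q := act 5 n39406
theorem D85277 : act 5 n39406 = n85277 := rfl
def n85278 : Q := act 6 n39406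
theorem D85278 : act 6 n39406 = n85278 := rfl
def n85279 : Q := act 0 n39407
theorem D85279 : act 0 n39407 = n85279 := rfl
def n85280 : Q := act 1 n39407
theorem D85280 : act 1 n39407 = n85280 := rfl
def n85281 : Q := act 3 n39407
theorem D85281 : act 3 n39407 = n85281 := rfl
theorem F130577 : act 4 n85281 = n39421 := d5_2 D39407 D85281 (iv3 D39421) (iv4 D18681) (iv3 F29934)
def n85282 : Q := act 5 n39407
theorem D85282 : act 5 n39407 = n85282 := rfl
def n85283 : Q := act 6 n39407
theorem D85283 : act 6 n39407 = n85283 := rfl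
theorem F130578 : act 4 n85283 = n39408 := d10_1 D85283 (iv6 D39408) D39407
def n85284 : Q := act 0 n39408
theorem D85284 : act 0 n39408 = n85284 := rfl
def n85285 : Q := act 1 n39408
theorem D85285 : act 1 n39408 = n85285 := rfl
def n85286 : Q := act 5 n39408
theorem D85286 : act 5 n39408 = n85286 := rfl
theorem F130579 : act 3 n85286 = n39425 := d6_1 D85286 (iv5 D39425) (iv3 F60335)
theorem F130580 : act 6 n85286 = n39411 := d12_2 D39408 D85286 (iv5 D39411) (iv6 D18677) D18676
def n85287 : Q := act 7 n39408
theorem D85287 : act 7 n39408 = n85287 := rfl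
theorem F130581 : act 3 n85287 = n39426 := d8_1 D85287 (iv7 D39426) (iv3 F60335)
def n85288 : Q := act 2 n39409
theorem D85288 : act 2 n39409 = n85288 := rfl
theorem F130582 : act 7 n39410 = n85288 := d15_2 (iv0 D39409) D39410 (iv2 D85288)
def n85289 : Q := act 3 n39409
theorem D85289 : act 3 n39409 = n85289 := rfl
def n85290 : Q := act 4 n39409
theorem D85290 : act 4 n39409 = n85290 := rfl
def n85291 : Q := act 5 n39409
theorem D85291 : act 5 n39409 = n85291 := rfl
def n85292 : Q := act 6 n39409
theorem D85292 : act 6 n39409 = n85292 := rfl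
def n85293 : Q := act 7 n39409
theorem D85293 : act 7 n39409 = n85293 := rfl
theorem F130583 : act 2 n85293 = n39410 := d4_1 D85293 F130582 (iv2 D85288)
def n85294 : Q := act 3 n39410
theorem D85294 : act 3 n39410 = n85294 := rfl
def n85295 : Q := act 4 n39410
theorem D85295 : act 4 n39410 = n85295 := rfl
def n85296 : Q := act 5 n39410
theorem D85296 : act 5 n39410 = n85296 := rfl
def n85297 : Q := act 6 n39410
theorem D85297 : act 6 n39410 = n85297 := rfl
def n85298 : Q := act 0 n39411
theorem D85298 : act 0 n39411 = n85298 := rfl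
theorem F130584 : act 1 n75936 = n85298 := d15_0 (iv0 D85298) (iv7 F60337) D75936
def n85299 : Q := act 1 n39411
theorem D85299 : act 1 n39411 = n85299 := rfl
def n85300 : Q := act 4 n39411
theorem D85300 : act 4 n39411 = n85300 := rfl
theorem F130586 : act 7 n85300 = n75937 := d11_2 F60337 D85300 (iv4 D75937)
def n85301 : Q := act 0 n39413
theorem D85301 : act 0 n39413 = n85301 := rfl
def n85302 : Q := act 1 n39413
theorem D85302 : act 1 n39413 = n85302 := rfl
def n85303 : Q := act 4 n39413
theorem D85303 : act 4 n39413 = n85303 := rfl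
def n85304 : Q := act 6 n39413
theorem D85304 : act 6 n39413 = n85304 := rfl
theorem F130587 : act 3 n85304 = n39415 := d7_1 D85304 (iv6 D39415) D39413
theorem F130588 : act 5 n85304 = n71727 := d12_1 D85304 (iv6 D71727) (iv5 D33159) D33160 (iv5 F60340)
def n85305 : Q := act 3 n39414
theorem D85305 : act 3 n39414 = n85305 := rfl
def n85306 : Q := act 5 n39414
theorem D85306 : act 5 n39414 = n85306 := rfl
theorem F130589 : act 2 n85306 = n73565 := d2_1 D85306 F110221 F92255
theorem F130590 : act 7 n85306 = n75903 := d13_2 F92263 D85306 F113799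
theorem F130591 : act 4 n85306 = n39636 := d16_2 D39414 D85306 (iv5 D39636) (iv4 D18766) D18767 (iv4 F60348) (iv5 D39418) F44888 (iv2 F44887)
theorem F130592 : act 0 n85306 = n55610 := d17_2 (iv1 F60342) D85306 F87961 F44926 (iv5 F43133) F43134 (iv5 F30060) (iv0 D18755) D18757
theorem F130593 : act 1 n85306 = n55583 := d17_6 (iv1 F22062) (iv5 F42955) (iv1 F43211) F29946 D39414 D85306 F87903 F44928 F29967
def n85307 : Q := act 6 n39414
theorem D85307 : act 6 n39414 = n85307 := rfl
theorem F130594 : act 4 n85307 = n39415 := d10_1 D85307 (iv6 D39415) D39414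
def n85308 : Q := act 1 n39415
theorem D85308 : act 1 n39415 = n85308 := rfl
def n85309 : Q := act 3 n39417
theorem D85309 : act 3 n39417 = n85309 := rfl
def n85310 : Q := act 5 n39417
theorem D85310 : act 5 n39417 = n85310 := rfl
theorem F130595 : act 2 n85310 = n75903 := d2_1 D85310 F113799 F92262
theorem F130596 : act 4 n85310 = n39629 := d9_1 D85310 (iv5 D39629) (iv4 D18763) F13669 (iv4 F29945) F29946 D39414 D85306 F130591 (iv5 D39636) (iv4 D18766) D18767 (iv4 F60348) (iv5 D39418) D39417
theorem F130597 : act 7 n85310 = n73565 := d13_2 F92256 D85310 F110221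
theorem F130598 : act 0 n85310 = n55583 := d17_2 (iv1 F60345) D85310 F87903 (iv4 F44966) (iv5 F43242) (iv0 F57133) F57132 F29990 D18803
theorem F130599 : act 1 n85310 = n55610 := d17_6 D13273 D27815 (iv1 F60349) (iv5 D39418) D39417 D85310 F87961 (iv0 D27821) (iv4 D13275)
def n85311 : Q := act 3 n39419
theorem D85311 : act 3 n39419 = n85311 := rfl
def n85312 : Q := act 6 n39419
theorem D85312 : act 6 n39419 = n85312 := rfl
theorem F130600 : act 4 n85312 = n58547 := d10_1 D85312 (iv6 D58547) (iv4 F60353)
def n85313 : Q := act 3 n39420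
theorem D85313 : act 3 n39420 = n85313 := rfl
def n85314 : Q := act 0 n39421
theorem D85314 : act 0 n39421 = n85314 := rfl
def n85315 : Q := act 1 n39421
theorem D85315 : act 1 n39421 = n85315 := rfl
def n85316 : Q := act 2 n39421
theorem D85316 : act 2 n39421 = n85316 := rfl
def n85317 : Q := act 6 n39421
theorem D85317 : act 6 n39421 = n85317 := rfl
theorem F130601 : act 3 n85317 = n39422 := d7_1 D85317 (iv6 D39422) D39421
def n85318 : Q := act 0 n39422
theorem D85318 : act 0 n39422 = n85318 := rfl
def n85319 : Q := act 1 n39422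
theorem D85319 : act 1 n39422 = n85319 := rfl
def n85320 : Q := act 5 n39422
theorem D85320 : act 5 n39422 = n85320 := rfl
def n85321 : Q := act 7 n39422
theorem D85321 : act 7 n39422 = n85321 := rfl
theorem F130602 : act 4 n85321 = n39426 := d11_1 D85321 (iv7 D39426) (iv4 F60357)
def n85322 : Q := act 3 n39423
theorem D85322 : act 3 n39423 = n85322 := rfl
def n85324 : Q := act 3 n39424
theorem D85324 : act 3 n39424 = n85324 := rfl
def n85325 : Q := act 4 n39424
theorem D85325 : act 4 n39424 = n85325 := rfl
def n85326 : Q := act 4 n39425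
theorem D85326 : act 4 n39425 = n85326 := rfl
theorem F130603 : act 2 n85326 = n75948 := d1_1 D85326 F113841 (iv2 F60358)
theorem F130604 : act 6 n85326 = n39428 := d10_2 (iv6 F60359) D85326 (iv4 D39428)
def n85327 : Q := act 7 n39425
theorem D85327 : act 7 n39425 = n85327 := rfl
theorem F130605 : act 2 n85327 = n75951 := d4_1 D85327 (iv7 D75951) (iv2 F60358)
theorem F130606 : act 5 n85327 = n39426 := d13_1 D85327 (iv7 D39426) D39425
theorem F130607 : act 6 n85327 = n71306 := d14_1 D85327 F107791 (iv6 D34705) F30427 (iv6 F60359)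
theorem F130608 : act 1 n75950 = n85327 := d15_1 D75950 (iv7 D85327) F60358
theorem F130609 : act 0 n75949 = n85327 := d21_1 (iv5 F113842) F130606 (iv6 F92306) (iv1 F92308) F52575 F25909 F27308 F27307 D26692 D55240
def n85328 : Q := act 3 n39428
theorem D85328 : act 3 n39428 = n85328 := rfl
theorem F130610 : act 5 n85328 = n58413 := d6_2 (iv5 F60362) D85328 (iv3 D58413)
theorem F130611 : act 7 n85328 = n75939 := d8_2 (iv7 F60361) D85328 (iv3 D75939)
def n85330 : Q := act 1 n39429
theorem D85330 : act 1 n39429 = n85330 := rfl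
theorem F130613 : act 1 n85330 = n39434 := d15_1 D85330 (iv7 D39434) D39429
def n85331 : Q := act 3 n39429
theorem D85331 : act 3 n39429 = n85331 := rfl
theorem F130614 : act 7 n85331 = n39435 := d8_2 F60364 D85331 (iv3 D39435)
def n85332 : Q := act 4 n39429
theorem D85332 : act 4 n39429 = n85332 := rfl
theorem F130615 : act 2 n85332 = n39431 := d1_1 D85332 (iv4 D39431) D39429
theorem F130616 : act 7 n85332 = n39436 := d11_2 F60364 D85332 (iv4 D39436)
def n85333 : Q := act 5 n39429
theorem D85333 : act 5 n39429 = n85333 := rfl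
theorem F130617 : act 2 n85333 = n39432 := d2_1 D85333 (iv5 D39432) D39429
theorem F130618 : act 7 n85333 = n39437 := d13_2 F60364 D85333 (iv5 D39437)
def n85335 : Q := act 0 n39430
theorem D85335 : act 0 n39430 = n85335 := rfl
def n85336 : Q := act 1 n39430
theorem D85336 : act 1 n39430 = n85336 := rfl
def n85337 : Q := act 2 n39430
theorem D85337 : act 2 n39430 = n85337 := rfl
def n85338 : Q := act 5 n39430
theorem D85338 : act 5 n39430 = n85338 := rfl
def n85340 : Q := act 7 n39430
theorem D85340 : act 7 n39430 = n85340 := rfl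
theorem F130622 : act 3 n85340 = n39434 := d8_1 D85340 (iv7 D39434) D39430
def n85341 : Q := act 0 n39431
theorem D85341 : act 0 n39431 = n85341 := rfl
def n85342 : Q := act 1 n39431
theorem D85342 : act 1 n39431 = n85342 := rfl
theorem F130623 : act 1 n85342 = n39436 := d15_1 D85342 (iv7 F130616) F130615
def n85343 : Q := act 3 n39431
theorem D85343 : act 3 n39431 = n85343 := rfl
def n85344 : Q := act 5 n39431
theorem D85344 : act 5 n39431 = n85344 := rfl
def n85346 : Q := act 7 n39431
theorem D85346 : act 7 n39431 = n85346 := rfl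
theorem F130625 : act 2 n85346 = n39436 := d4_1 D85346 (iv7 F130616) F130615
theorem F130626 : act 4 n85346 = n39434 := d11_1 D85346 (iv7 D39434) D39431
theorem F130627 : act 1 n39436 = n85341 := d15_0 (iv0 D85341) D85346 F130625
def n85347 : Q := act 0 n39432
theorem D85347 : act 0 n39432 = n85347 := rfl
def n85348 : Q := act 1 n39432
theorem D85348 : act 1 n39432 = n85348 := rfl
theorem F130628 : act 1 n85348 = n39437 := d15_1 D85348 (iv7 F130618) F130617
def n85349 : Q := act 4 n39432
theorem D85349 : act 4 n39432 = n85349 := rfl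
def n85351 : Q := act 7 n39432
theorem D85351 : act 7 n39432 = n85351 := rfl
theorem F130629 : act 2 n85351 = n39437 := d4_1 D85351 (iv7 F130618) F130617
theorem F130630 : act 5 n85351 = n39434 := d13_1 D85351 (iv7 D39434) D39432
theorem F130631 : act 1 n39437 = n85347 := d15_0 (iv0 D85347) D85351 F130629
def n85356 : Q := act 6 n39434
theorem D85356 : act 6 n39434 = n85356 := rfl
theorem F130632 : act 2 n85356 = n39438 := d3_1 D85356 (iv6 D39438) (iv2 F60365)
def n85360 : Q := act 4 n39435
theorem D85360 : act 4 n39435 = n85360 := rfl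
theorem F130633 : act 0 n40233 = n85360 := d20_1 D40233 (iv4 D85360) (iv3 D39435) (iv1 D18690) (iv3 D8767) F28977 (iv1 D3971) (iv4 F5923) (iv3 F13869) D18998
def n85361 : Q := act 5 n39435
theorem D85361 : act 5 n39435 = n85361 := rfl
theorem F130634 : act 3 n85361 = n39437 := d6_1 D85361 (iv5 D39437) D39435
def n85362 : Q := act 6 n39435
theorem D85362 : act 6 n39435 = n85362 := rfl
theorem F130635 : act 3 n85362 = n39438 := d7_1 D85362 (iv6 D39438) D39435
def n85364 : Q := act 5 n39436
theorem D85364 : act 5 n39436 = n85364 := rfl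
def n85365 : Q := act 6 n39436
theorem D85365 : act 6 n39436 = n85365 := rfl
theorem F130636 : act 4 n85365 = n39438 := d10_1 D85365 (iv6 D39438) D39436
def n85366 : Q := act 4 n39437
theorem D85366 : act 4 n39437 = n85366 := rfl
def n85367 : Q := act 6 n39437
theorem D85367 : act 6 n39437 = n85367 := rfl
def n85370 : Q := act 5 n39438
theorem D85370 : act 5 n39438 = n85370 := rfl
def n85372 : Q := act 3 n39439
theorem D85372 : act 3 n39439 = n85372 := rfl
def n85373 : Q := act 5 n39439
theorem D85373 : act 5 n39439 = n85373 := rfl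
theorem F130637 : act 2 n85373 = n39444 := d2_1 D85373 (iv5 D39444) (iv2 F60366)
def n85374 : Q := act 6 n39439
theorem D85374 : act 6 n39439 = n85374 := rfl
theorem F130638 : act 2 n85374 = n39445 := d3_1 D85374 (iv6 D39445) (iv2 F60366)
theorem F130639 : act 4 n85374 = n39441 := d10_1 D85374 (iv6 D39441) D39439
def n85375 : Q := act 4 n39440
theorem D85375 : act 4 n39440 = n85375 := rfl
theorem F130640 : act 2 n85375 = n39448 := d1_1 D85375 (iv4 D39448) (iv2 F60367)
def n85376 : Q := act 6 n39440
theorem D85376 : act 6 n39440 = n85376 := rfl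
theorem F130641 : act 2 n85376 = n39449 := d3_1 D85376 (iv6 D39449) (iv2 F60367)
def n85377 : Q := act 0 n39441
theorem D85377 : act 0 n39441 = n85377 := rfl
def n85378 : Q := act 1 n39441
theorem D85378 : act 1 n39441 = n85378 := rfl
theorem F130642 : act 1 n85378 = n39453 := d15_1 D85378 (iv7 D39453) (iv2 F60368)
def n85379 : Q := act 5 n39441
theorem D85379 : act 5 n39441 = n85379 := rfl
theorem F130643 : act 2 n85379 = n39452 := d2_1 D85379 (iv5 D39452) (iv2 F60368)
def n85380 : Q := act 7 n39441
theorem D85380 : act 7 n39441 = n85380 := rfl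
theorem F130644 : act 2 n85380 = n39453 := d4_1 D85380 (iv7 D39453) (iv2 F60368)
theorem F130645 : act 1 n39453 = n85377 := d15_0 (iv0 D85377) D85380 F130644
theorem F130646 : act 1 n39451 = n85380 := d15_1 D39451 (iv7 D85380) F60368
theorem F130647 : act 1 n85380 = n39450 := d15_0 (iv0 D39450) D39453 (iv2 F130644)
def n85381 : Q := act 2 n39442
theorem D85381 : act 2 n39442 = n85381 := rfl
theorem F130648 : act 7 n39443 = n85381 := d15_2 (iv0 D39442) D39443 (iv2 D85381)
def n85382 : Q := act 3 n39442
theorem D85382 : act 3 n39442 = n85382 := rfl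
def n85383 : Q := act 4 n39442
theorem D85383 : act 4 n39442 = n85383 := rfl
def n85386 : Q := act 7 n39442
theorem D85386 : act 7 n39442 = n85386 := rfl
theorem F130649 : act 2 n85386 = n39443 := d4_1 D85386 F130648 (iv2 D85381)
def n85387 : Q := act 3 n39443
theorem D85387 : act 3 n39443 = n85387 := rfl
def n85388 : Q := act 5 n39443
theorem D85388 : act 5 n39443 = n85388 := rfl
def n85390 : Q := act 0 n39444
theorem D85390 : act 0 n39444 = n85390 := rfl
def n85391 : Q := act 1 n39444
theorem D85391 : act 1 n39444 = n85391 := rfl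
def n85392 : Q := act 4 n39444
theorem D85392 : act 4 n39444 = n85392 := rfl
def n85393 : Q := act 6 n39444
theorem D85393 : act 6 n39444 = n85393 := rfl
def n85394 : Q := act 0 n39445
theorem D85394 : act 0 n39445 = n85394 := rfl
def n85395 : Q := act 1 n39445
theorem D85395 : act 1 n39445 = n85395 := rfl
def n85396 : Q := act 5 n39445
theorem D85396 : act 5 n39445 = n85396 := rfl
def n85397 : Q := act 7 n39445
theorem D85397 : act 7 n39445 = n85397 := rfl
theorem F130651 : act 4 n85397 = n39453 := d11_1 D85397 (iv7 D39453) (iv4 F60369)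
def n85398 : Q := act 2 n39446
theorem D85398 : act 2 n39446 = n85398 := rfl
theorem F130652 : act 7 n39447 = n85398 := d15_2 (iv0 D39446) D39447 (iv2 D85398)
def n85399 : Q := act 3 n39446
theorem D85399 : act 3 n39446 = n85399 := rfl
def n85400 : Q := act 4 n39446
theorem D85400 : act 4 n39446 = n85400 := rfl
def n85401 : Q := act 5 n39446
theorem D85401 : act 5 n39446 = n85401 := rfl
def n85402 : Q := act 6 n39446
theorem D85402 : act 6 n39446 = n85402 := rfl
def n85403 : Q := act 7 n39446
theorem D85403 : act 7 n39446 = n85403 := rfl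
theorem F130653 : act 2 n85403 = n39447 := d4_1 D85403 F130652 (iv2 D85398)
def n85404 : Q := act 3 n39447
theorem D85404 : act 3 n39447 = n85404 := rfl
def n85405 : Q := act 4 n39447
theorem D85405 : act 4 n39447 = n85405 := rfl
def n85406 : Q := act 5 n39447
theorem D85406 : act 5 n39447 = n85406 := rfl
def n85407 : Q := act 6 n39447
theorem D85407 : act 6 n39447 = n85407 := rfl
def n85408 : Q := act 0 n39448
theorem D85408 : act 0 n39448 = n85408 := rfl
def n85409 : Q := act 1 n39448
theorem D85409 : act 1 n39448 = n85409 := rfl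
def n85410 : Q := act 3 n39448
theorem D85410 : act 3 n39448 = n85410 := rfl
theorem F130654 : act 4 n85410 = n39454 := d5_2 D39448 D85410 (iv3 D39454) (iv4 D18695) (iv3 F29961)
def n85411 : Q := act 5 n39448
theorem D85411 : act 5 n39448 = n85411 := rfl
def n85412 : Q := act 6 n39448
theorem D85412 : act 6 n39448 = n85412 := rfl
theorem F130655 : act 4 n85412 = n39449 := d10_1 D85412 (iv6 D39449) D39448
def n85413 : Q := act 0 n39449
theorem D85413 : act 0 n39449 = n85413 := rfl
def n85414 : Q := act 1 n39449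
theorem D85414 : act 1 n39449 = n85414 := rfl
def n85415 : Q := act 5 n39449
theorem D85415 : act 5 n39449 = n85415 := rfl
theorem F130656 : act 3 n85415 = n39457 := d6_1 D85415 (iv5 D39457) (iv3 F60370)
theorem F130657 : act 6 n85415 = n39452 := d12_2 D39449 D85415 (iv5 D39452) (iv6 D18694) D18693
def n85416 : Q := act 7 n39449
theorem D85416 : act 7 n39449 = n85416 := rfl
theorem F130658 : act 3 n85416 = n39458 := d8_1 D85416 (iv7 D39458) (iv3 F60370)
def n85417 : Q := act 2 n39450
theorem D85417 : act 2 n39450 = n85417 := rfl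
theorem F130659 : act 7 n39451 = n85417 := d15_2 (iv0 D39450) D39451 (iv2 D85417)
def n85418 : Q := act 3 n39450
theorem D85418 : act 3 n39450 = n85418 := rfl
def n85419 : Q := act 4 n39450
theorem D85419 : act 4 n39450 = n85419 := rfl
def n85420 : Q := act 5 n39450
theorem D85420 : act 5 n39450 = n85420 := rfl
def n85421 : Q := act 6 n39450
theorem D85421 : act 6 n39450 = n85421 := rfl
def n85422 : Q := act 7 n39450
theorem D85422 : act 7 n39450 = n85422 := rfl
theorem F130660 : act 2 n85422 = n39451 := d4_1 D85422 F130659 (iv2 D85417)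
def n85423 : Q := act 3 n39451
theorem D85423 : act 3 n39451 = n85423 := rfl
def n85424 : Q := act 4 n39451
theorem D85424 : act 4 n39451 = n85424 := rfl
def n85425 : Q := act 5 n39451
theorem D85425 : act 5 n39451 = n85425 := rfl
def n85426 : Q := act 6 n39451
theorem D85426 : act 6 n39451 = n85426 := rfl
def n85427 : Q := act 0 n39452
theorem D85427 : act 0 n39452 = n85427 := rfl
def n85428 : Q := act 1 n39452
theorem D85428 : act 1 n39452 = n85428 := rfl
def n85429 : Q := act 4 n39452
theorem D85429 : act 4 n39452 = n85429 := rfl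
def n85430 : Q := act 7 n39452
theorem D85430 : act 7 n39452 = n85430 := rfl
theorem F130661 : act 3 n85430 = n39461 := d8_1 D85430 (iv7 D39461) (iv3 F60371)
theorem F130662 : act 5 n85430 = n39453 := d13_1 D85430 (iv7 D39453) D39452
theorem F130663 : act 6 n71308 = n85430 := d7_0 F130661 F60382 D71308
def n85431 : Q := act 0 n39454
theorem D85431 : act 0 n39454 = n85431 := rfl
def n85432 : Q := act 1 n39454
theorem D85432 : act 1 n39454 = n85432 := rfl
def n85433 : Q := act 2 n39454
theorem D85433 : act 2 n39454 = n85433 := rfl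
def n85434 : Q := act 6 n39454
theorem D85434 : act 6 n39454 = n85434 := rfl
theorem F130664 : act 3 n85434 = n39455 := d7_1 D85434 (iv6 D39455) D39454
def n85435 : Q := act 0 n39455
theorem D85435 : act 0 n39455 = n85435 := rfl
def n85436 : Q := act 5 n39455
theorem D85436 : act 5 n39455 = n85436 := rfl
def n85437 : Q := act 7 n39455
theorem D85437 : act 7 n39455 = n85437 := rfl
theorem F130665 : act 4 n85437 = n39458 := d11_1 D85437 (iv7 D39458) (iv4 F60373)
theorem F130666 : act 1 n70979 = n85437 := d15_1 (iv0 F107530) (iv7 D85437) (iv2 F92301)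
theorem F130667 : act 4 n54750 = n71151 := d18_1 (iv1 F86593) (iv1 D71151) F52120 (iv5 F52045) (iv4 F107529) F130666 F130665 F92307 (iv5 F92310)
def n85438 : Q := act 4 n39456
theorem D85438 : act 4 n39456 = n85438 := rfl
def n85439 : Q := act 0 n39457
theorem D85439 : act 0 n39457 = n85439 := rfl
theorem F130668 : act 6 n85439 = n71768 := d21_5 (iv5 F42336) F42337 D18699 (iv6 F60374) D85439 (iv5 D71768) (iv1 F86344) F86341 (iv6 D33331) (iv1 F42334)
def n85440 : Q := act 1 n39457
theorem D85440 : act 1 n39457 = n85440 := rfl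
theorem F130670 : act 1 n85440 = n71307 := d15_1 D85440 F107792 F92303
def n85441 : Q := act 4 n39457
theorem D85441 : act 4 n39457 = n85441 := rfl
def n85442 : Q := act 7 n39457
theorem D85442 : act 7 n39457 = n85442 := rfl
theorem F130673 : act 5 n85442 = n39458 := d13_1 D85442 (iv7 D39458) D39457
theorem F130674 : act 6 n85442 = n54541 := d14_1 D85442 F86188 (iv6 F60382) (iv7 D39461) (iv6 F60374)
def n85444 : Q := act 2 n39462
theorem D85444 : act 2 n39462 = n85444 := rfl
theorem F130675 : act 7 n39463 = n85444 := d15_2 (iv0 D39462) D39463 (iv2 D85444)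
def n85445 : Q := act 3 n39462
theorem D85445 : act 3 n39462 = n85445 := rfl
def n85446 : Q := act 4 n39462
theorem D85446 : act 4 n39462 = n85446 := rfl
def n85447 : Q := act 5 n39462
theorem D85447 : act 5 n39462 = n85447 := rfl
def n85448 : Q := act 6 n39462
theorem D85448 : act 6 n39462 = n85448 := rfl
def n85449 : Q := act 7 n39462
theorem D85449 : act 7 n39462 = n85449 := rfl
theorem F130676 : act 2 n85449 = n39463 := d4_1 D85449 F130675 (iv2 D85444)
def n85454 : Q := act 4 n39464
theorem D85454 : act 4 n39464 = n85454 := rfl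
theorem F130677 : act 2 n85454 = n39465 := d1_1 D85454 (iv4 D39465) D39464
def n85455 : Q := act 5 n39464
theorem D85455 : act 5 n39464 = n85455 := rfl
theorem F130678 : act 2 n85455 = n39466 := d2_1 D85455 (iv5 D39466) D39464
def n85456 : Q := act 6 n39464
theorem D85456 : act 6 n39464 = n85456 := rfl
theorem F130679 : act 2 n85456 = n39467 := d3_1 D85456 (iv6 D39467) D39464
def n85457 : Q := act 0 n39465
theorem D85457 : act 0 n39465 = n85457 := rfl
def n85458 : Q := act 1 n39465
theorem D85458 : act 1 n39465 = n85458 := rfl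
def n85459 : Q := act 3 n39465
theorem D85459 : act 3 n39465 = n85459 := rfl
theorem F130680 : act 4 n85459 = n39469 := d5_2 D39465 D85459 (iv3 D39469) (iv4 D18703) D18702
def n85460 : Q := act 5 n39465
theorem D85460 : act 5 n39465 = n85460 := rfl
def n85461 : Q := act 6 n39465
theorem D85461 : act 6 n39465 = n85461 := rfl
def n85462 : Q := act 0 n39466
theorem D85462 : act 0 n39466 = n85462 := rfl
def n85463 : Q := act 1 n39466
theorem D85463 : act 1 n39466 = n85463 := rfl
def n85464 : Q := act 4 n39466
theorem D85464 : act 4 n39466 = n85464 := rfl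
theorem F130682 : act 3 n85464 = n77329 := d5_1 D85464 (iv4 D77329) F56014 (iv4 F29965) (iv3 F60383)
def n85465 : Q := act 0 n39467
theorem D85465 : act 0 n39467 = n85465 := rfl
def n85466 : Q := act 1 n39467
theorem D85466 : act 1 n39467 = n85466 := rfl
def n85467 : Q := act 7 n39467
theorem D85467 : act 7 n39467 = n85467 := rfl
theorem F130683 : act 3 n85467 = n39473 := d8_1 D85467 (iv7 D39473) (iv3 F60384)
def n85468 : Q := act 3 n39468
theorem D85468 : act 3 n39468 = n85468 := rfl
theorem F130684 : act 5 n85468 = n70782 := d6_2 (iv5 F60385) D85468 (iv3 D70782)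
theorem F130685 : act 7 n85468 = n60429 := d8_2 (iv7 F60388) D85468 (iv3 D60429)
def n85469 : Q := act 6 n39468
theorem D85469 : act 6 n39468 = n85469 := rfl
theorem F130686 : act 4 n85469 = n58530 := d10_1 D85469 (iv6 D58530) (iv4 F60386)
theorem F130687 : act 5 n85469 = n68329 := d12_1 D85469 (iv6 D68329) F50096 (iv6 F51949) (iv5 F60385)
theorem F130688 : act 7 n85469 = n59997 := d14_2 (iv7 F60388) D85469 F94467 F46008 (iv6 F46265)
def n85470 : Q := act 0 n39469
theorem D85470 : act 0 n39469 = n85470 := rfl
def n85471 : Q := act 1 n39469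
theorem D85471 : act 1 n39469 = n85471 := rfl
def n85472 : Q := act 2 n39469
theorem D85472 : act 2 n39469 = n85472 := rfl
def n85473 : Q := act 6 n39469
theorem D85473 : act 6 n39469 = n85473 := rfl
theorem F130689 : act 3 n85473 = n39470 := d7_1 D85473 (iv6 D39470) D39469
def n85474 : Q := act 0 n39470
theorem D85474 : act 0 n39470 = n85474 := rfl
def n85475 : Q := act 1 n39470
theorem D85475 : act 1 n39470 = n85475 := rfl
def n85476 : Q := act 5 n39470
theorem D85476 : act 5 n39470 = n85476 := rfl
def n85477 : Q := act 7 n39470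
theorem D85477 : act 7 n39470 = n85477 := rfl
theorem F130690 : act 4 n85477 = n39473 := d11_1 D85477 (iv7 D39473) (iv4 F60389)
def n85478 : Q := act 2 n39471
theorem D85478 : act 2 n39471 = n85478 := rfl
theorem F130691 : act 7 n39472 = n85478 := d15_2 (iv0 D39471) D39472 (iv2 D85478)
def n85479 : Q := act 3 n39471
theorem D85479 : act 3 n39471 = n85479 := rfl
def n85480 : Q := act 4 n39471
theorem D85480 : act 4 n39471 = n85480 := rfl
def n85481 : Q := act 5 n39471
theorem D85481 : act 5 n39471 = n85481 := rfl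
def n85482 : Q := act 7 n39471
theorem D85482 : act 7 n39471 = n85482 := rfl
theorem F130692 : act 2 n85482 = n39472 := d4_1 D85482 F130691 (iv2 D85478)
def n85483 : Q := act 3 n39472
theorem D85483 : act 3 n39472 = n85483 := rfl
def n85484 : Q := act 4 n39472
theorem D85484 : act 4 n39472 = n85484 := rfl
def n85485 : Q := act 5 n39472
theorem D85485 : act 5 n39472 = n85485 := rfl
theorem F130693 : act 6 n85485 = n55642 := d21_3 (iv5 F92334) (iv1 F92337) D85485 (iv1 D55642) (iv6 D26868) F21314 (iv1 F10679) D7302 D15458 D32651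
theorem F130694 : act 0 n76704 = n85485 := d21_10 (iv5 D85485) (iv1 D39472) F51717 F87110 (iv1 D55082) D55084 F87114 D71746 F108211 D76704
def n85486 : Q := act 6 n39472
theorem D85486 : act 6 n39472 = n85486 := rfl
theorem F130695 : act 5 n85486 = n70539 := d21_6 (iv5 F105754) (iv1 F112616) F112613 (iv6 F92335) (iv1 F92337) D85486 (iv1 F106999) F86794 (iv6 F87365) (iv1 F87367)
def n85495 : Q := act 5 n39475
theorem D85495 : act 5 n39475 = n85495 := rfl
def n85497 : Q := act 4 n39476
theorem D85497 : act 4 n39476 = n85497 := rfl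
theorem F130698 : act 2 n85497 = n39477 := d1_1 D85497 (iv4 D39477) D39476
def n85498 : Q := act 6 n39476
theorem D85498 : act 6 n39476 = n85498 := rfl
theorem F130699 : act 2 n85498 = n39478 := d3_1 D85498 (iv6 D39478) D39476
def n85499 : Q := act 0 n39477
theorem D85499 : act 0 n39477 = n85499 := rfl
def n85500 : Q := act 1 n39477
theorem D85500 : act 1 n39477 = n85500 := rfl
theorem F130700 : act 4 n71097 = n85500 := d20_6 D8773 D18710 (iv4 F46251) (iv3 F109873) (iv1 F86076) (iv3 F107628) (iv1 D85500) (iv4 D39477) (iv3 D18707) (iv1 D8772)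
theorem F130701 : act 7 n85500 = n71094 := d11_2 D71097 F130700 F107627
theorem F130702 : act 2 n71094 = n85499 := d15_3 (iv0 D85499) D85500 F130701
theorem F130703 : act 4 n85499 = n71082 := d1_2 (iv4 F107627) F130702 F107618
theorem F130704 : act 6 n85499 = n71081 := d3_2 D71094 F130702 F107616
def n85501 : Q := act 3 n39477
theorem D85501 : act 3 n39477 = n85501 := rfl
theorem F130705 : act 4 n85501 = n39479 := d5_2 D39477 D85501 (iv3 D39479) (iv4 D18708) D18707
def n85502 : Q := act 5 n39477
theorem D85502 : act 5 n39477 = n85502 := rfl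
def n85503 : Q := act 6 n39477
theorem D85503 : act 6 n39477 = n85503 := rfl
theorem F130706 : act 4 n85503 = n39478 := d10_1 D85503 (iv6 D39478) D39477
def n85504 : Q := act 0 n39478
theorem D85504 : act 0 n39478 = n85504 := rfl
def n85505 : Q := act 1 n39478
theorem D85505 : act 1 n39478 = n85505 := rfl
def n85506 : Q := act 7 n39478
theorem D85506 : act 7 n39478 = n85506 := rfl
theorem F130707 : act 3 n85506 = n39483 := d8_1 D85506 (iv7 D39483) (iv3 F60390)
def n85507 : Q := act 0 n39479
theorem D85507 : act 0 n39479 = n85507 := rfl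
def n85508 : Q := act 1 n39479
theorem D85508 : act 1 n39479 = n85508 := rfl
def n85509 : Q := act 2 n39479
theorem D85509 : act 2 n39479 = n85509 := rfl
def n85510 : Q := act 6 n39479
theorem D85510 : act 6 n39479 = n85510 := rfl
theorem F130708 : act 3 n85510 = n39480 := d7_1 D85510 (iv6 D39480) D39479
def n85511 : Q := act 0 n39480
theorem D85511 : act 0 n39480 = n85511 := rfl
def n85512 : Q := act 1 n39480
theorem D85512 : act 1 n39480 = n85512 := rfl
def n85513 : Q := act 5 n39480
theorem D85513 : act 5 n39480 = n85513 := rfl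
def n85514 : Q := act 7 n39480
theorem D85514 : act 7 n39480 = n85514 := rfl
theorem F130709 : act 4 n85514 = n39483 := d11_1 D85514 (iv7 D39483) (iv4 F60391)
def n85515 : Q := act 2 n39481
theorem D85515 : act 2 n39481 = n85515 := rfl
theorem F130710 : act 7 n39482 = n85515 := d15_2 (iv0 D39481) D39482 (iv2 D85515)
def n85516 : Q := act 3 n39481
theorem D85516 : act 3 n39481 = n85516 := rfl
def n85517 : Q := act 4 n39481
theorem D85517 : act 4 n39481 = n85517 := rfl
def n85518 : Q := act 6 n39481
theorem D85518 : act 6 n39481 = n85518 := rfl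
theorem F130711 : act 0 n85518 = n72227 := d21_10 (iv5 D72227) (iv1 D33338) D33339 F52575 (iv1 D16427) D16429 (iv5 F38075) D49819 (iv5 F87387) D85518
def n85519 : Q := act 7 n39481
theorem D85519 : act 7 n39481 = n85519 := rfl
theorem F130712 : act 2 n85519 = n39482 := d4_1 D85519 F130710 (iv2 D85515)
def n85520 : Q := act 3 n39482
theorem D85520 : act 3 n39482 = n85520 := rfl
def n85521 : Q := act 4 n39482
theorem D85521 : act 4 n39482 = n85521 := rfl
def n85525 : Q := act 4 n39484
theorem D85525 : act 4 n39484 = n85525 := rfl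
def n85527 : Q := act 0 n39485
theorem D85527 : act 0 n39485 = n85527 := rfl
def n85528 : Q := act 1 n39485
theorem D85528 : act 1 n39485 = n85528 := rfl
def n85529 : Q := act 5 n39485
theorem D85529 : act 5 n39485 = n85529 := rfl
def n85530 : Q := act 7 n39485
theorem D85530 : act 7 n39485 = n85530 := rfl
theorem F130714 : act 4 n85530 = n76794 := d11_1 D85530 F115268 F94939
def n85531 : Q := act 0 n39486
theorem D85531 : act 0 n39486 = n85531 := rfl
def n85532 : Q := act 1 n39486
theorem D85532 : act 1 n39486 = n85532 := rfl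
def n85533 : Q := act 2 n39486
theorem D85533 : act 2 n39486 = n85533 := rfl
def n85534 : Q := act 4 n39486
theorem D85534 : act 4 n39486 = n85534 := rfl
def n85535 : Q := act 6 n39486
theorem D85535 : act 6 n39486 = n85535 := rfl
theorem F130715 : act 3 n85535 = n39487 := d7_1 D85535 (iv6 D39487) D39486
def n85536 : Q := act 0 n39487
theorem D85536 : act 0 n39487 = n85536 := rfl
def n85539 : Q := act 7 n39487
theorem D85539 : act 7 n39487 = n85539 := rfl
def n85540 : Q := act 0 n39488
theorem D85540 : act 0 n39488 = n85540 := rfl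
theorem F130716 : act 2 n39492 = n85540 := d15_3 (iv0 D85540) (iv0 D39488) D39492
theorem F130717 : act 7 n85540 = n39490 := d4_2 D39492 F130716 (iv2 D39490)
theorem F130718 : act 1 n39489 = n85540 := d15_1 D39489 F130717 (iv2 D39490)
def n85541 : Q := act 2 n39488
theorem D85541 : act 2 n39488 = n85541 := rfl
theorem F130719 : act 7 n39489 = n85541 := d15_2 (iv0 D39488) D39489 (iv2 D85541)
def n85542 : Q := act 3 n39488
theorem D85542 : act 3 n39488 = n85542 := rfl
def n85543 : Q := act 4 n39488
theorem D85543 : act 4 n39488 = n85543 := rfl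
def n85544 : Q := act 5 n39488
theorem D85544 : act 5 n39488 = n85544 := rfl
def n85545 : Q := act 6 n39488
theorem D85545 : act 6 n39488 = n85545 := rfl
def n85546 : Q := act 7 n39488
theorem D85546 : act 7 n39488 = n85546 := rfl
theorem F130720 : act 2 n85546 = n39489 := d4_1 D85546 F130719 (iv2 D85541)
def n85547 : Q := act 3 n39489
theorem D85547 : act 3 n39489 = n85547 := rfl
def n85548 : Q := act 4 n39489
theorem D85548 : act 4 n39489 = n85548 := rfl
def n85549 : Q := act 5 n39489
theorem D85549 : act 5 n39489 = n85549 := rfl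
def n85550 : Q := act 6 n39489
theorem D85550 : act 6 n39489 = n85550 := rfl
def n85551 : Q := act 0 n39490
theorem D85551 : act 0 n39490 = n85551 := rfl
theorem F130721 : act 1 n39492 = n85551 := d15_0 (iv0 D85551) (iv7 F130717) (iv2 F130716)
def n85552 : Q := act 1 n39490
theorem D85552 : act 1 n39490 = n85552 := rfl
def n85553 : Q := act 5 n39490
theorem D85553 : act 5 n39490 = n85553 := rfl
theorem F130723 : act 2 n85553 = n39491 := d2_1 D85553 (iv5 D39491) D39490
def n85554 : Q := act 0 n39491
theorem D85554 : act 0 n39491 = n85554 := rfl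
def n85555 : Q := act 1 n39491
theorem D85555 : act 1 n39491 = n85555 := rfl
def n85556 : Q := act 4 n39491
theorem D85556 : act 4 n39491 = n85556 := rfl
def n85557 : Q := act 6 n39491
theorem D85557 : act 6 n39491 = n85557 := rfl
theorem F130724 : act 3 n85557 = n39493 := d7_1 D85557 (iv6 D39493) (iv3 F60392)
theorem F130725 : act 5 n85557 = n69674 := d12_1 D85557 F106018 F51354 F42791 D39491
def n85558 : Q := act 6 n39492
theorem D85558 : act 6 n39492 = n85558 := rfl
theorem F130726 : act 3 n85558 = n39494 := d7_1 D85558 (iv6 D39494) (iv3 F60393)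
theorem F130727 : act 7 n85558 = n74138 := d14_2 D39492 D85558 (iv6 D74138) F53333 F42791
def n85559 : Q := act 0 n39493
theorem D85559 : act 0 n39493 = n85559 := rfl
theorem F130728 : act 4 n85559 = n68331 := d18_1 D85559 (iv1 D68331) (iv4 F104509) (iv5 F130687) F130686 F114310 (iv4 F114319) (iv0 D69672) (iv5 F60394)
theorem F130729 : act 1 n69754 = n85559 := d15_0 (iv0 D85559) (iv7 F104745) (iv2 F106154)
def n85560 : Q := act 1 n39493
theorem D85560 : act 1 n39493 = n85560 := rfl
theorem F130730 : act 1 n85560 = n69754 := d15_1 D85560 F106157 F92373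
theorem F130731 : act 4 n85560 = n67891 := d18_7 D50055 F114320 (iv1 F53869) (iv4 F54517) (iv5 F87860) F87859 D85560 F109837 F50098
theorem E13910 : n68867 = n68746 := ((c20_4 (iv4 F101406) (iv1 F102293) (iv4 F102296) D68746 (iv1 D68867) (iv3 F51428) (iv4 F106155) (iv1 F130730) F130731 (iv3 D67891) (iv1 F50180))).symm
theorem F130732 : act 0 n68746 = n32031 := (sb E13910 (iv1 D68867))
theorem E13911 : n73922 = n68866 := (c15_4 (iv0 D68866) (iv0 F130732) F104942 (iv2 F110717))
theorem F130733 : act 2 n68866 = n33951 := (sb E13911 F110717)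
theorem F130734 : act 6 n68866 = n33941 := (sb E13911 (iv6 D73922))
theorem E13912 : n55153 = n54035 := (c21_9 F20702 F26894 F41442 D32031 D68866 F130734 (iv5 D33941) (iv1 F53134) D55153 (iv6 D54035) (iv1 F41432))
theorem E13913 : n26654 = n26382 := (((F85253).symm.trans (sb E13912 (iv5 D55153)))).symm
theorem E13914 : n54554 = n12735 := ((D54554).symm.trans (sb E13913 (iv1 D26654)))
theorem E13915 : n54555 = n16408 := ((D54555).symm.trans (sb E13913 F53134))
theorem E13921 : n33188 = n26653 := (((D26653).symm.trans (sb E13914 (iv1 F86217)))).symm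
theorem F130735 : act 1 n12735 = n26382 := (sb E13914 (iv0 D54554))
theorem F130736 : act 0 n16408 = n26382 := (sb E13915 (iv1 D54555))
theorem F130737 : act 2 n26653 = n54556 := (sb E13921 (iv2 F86215))
theorem E13922 : n55999 = n55146 := (((D55146).symm.trans (sb E13921 (iv3 F88637)))).symm
theorem E13923 : n71793 = n55147 := (((D55147).symm.trans (sb E13921 (iv4 F108257)))).symm
theorem E13924 : n68822 = n55148 := (((D55148).symm.trans (sb E13921 (iv5 F105011)))).symm
theorem E13925 : n55149 = n54549 := ((D55149).symm.trans (sb E13921 (iv6 F86203)))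
theorem F130738 : act 7 n26653 = n16011 := (sb E13921 (iv7 D33188))
theorem F130739 : act 0 n55146 = n35978 := (sb E13922 (iv1 F88640))
theorem F130740 : act 1 n55146 = n35977 := (sb E13922 F88641)
theorem F130742 : act 5 n55146 = n75932 := (sb E13922 (iv5 F113824))
theorem F130743 : act 6 n55146 = n35982 := (sb E13922 F88638)
theorem F130745 : act 3 n55147 = n83678 := (sb E13923 (iv3 F128742))
theorem F130746 : act 7 n55147 = n33185 := (sb E13923 (iv7 D71793))
theorem F130748 : act 7 n55148 = n32011 := (sb E13924 (iv7 D68822))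
theorem F130749 : act 6 n54549 = n26653 := (sb E13925 (iv6 D55149))
theorem F130750 : act 0 n54576 = n73925 := d21_1 D54576 (iv5 D73925) (iv6 D33942) F130736 (iv6 D26382) (iv5 D12589) (iv1 D5982) D5984 D12596 D26391
theorem F130751 : act 1 n54576 = n73981 := d15_1 (iv0 F130750) (iv7 D73981) (iv2 F110719)
theorem E13926 : n73659 = n55168 := (c21_5 F120248 (iv1 F110335) (iv5 D33847) D33848 D73659 F87263 (iv5 F110744) (iv1 F130751) (iv5 D54576) F53237 D73698)
theorem F130752 : act 1 n55168 = n33848 := (sb E13926 (iv0 D73659))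
theorem E13927 : n71996 = n55300 := ((((iv5 F87520)).symm.trans (sb E13926 F120240))).symm
theorem F130753 : act 0 n55300 = n62697 := (sb E13927 (iv1 F108485))
theorem F130754 : act 1 n55300 = n33258 := (sb E13927 (iv0 D71996))
theorem E13928 : n61780 = n61197 := ((c20_8 (iv4 F38103) D49872 F78862 D55300 F130753 F97810 (iv4 F97335) (iv1 F97338) (iv4 D61780) (iv3 F110513) (iv1 D24320))).symm
theorem F130755 : act 2 n61197 = n62874 := (sb E13928 (iv2 F110537))
theorem F130756 : act 4 n61197 = n29283 := (sb E13928 (iv4 D61780))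
theorem F130757 : act 7 n61197 = n62869 := (sb E13928 F110536)
theorem E13929 : n74981 = n71997 := (c15_4 F108479 (iv0 F130753) F87521 D74981)
theorem F130758 : act 2 n71997 = n34354 := (sb E13929 (iv2 D74981))
theorem F130759 : act 3 n71997 = n73772 := (sb E13929 F112512)
theorem E13930 : n71798 = n55157 := (((iv5 F108480)).symm.trans (sb E13929 F112513))
theorem F130760 : act 5 n55157 = n71997 := (sb E13930 F108480)
theorem E13931 : n33186 = n26655 := ((((iv6 D55157)).symm.trans (sb E13930 (iv6 D71798)))).symm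
theorem E13932 : n54556 = n16407 := ((((iv1 F53133)).symm.trans (sb E13931 (iv1 F86219)))).symm
theorem E13933 : n16406 = n16011 := ((F53131).symm.trans (sb E13931 (iv0 D33186)))
theorem E13937 : n71797 = n55156 := (((D55156).symm.trans (sb E13931 D71797))).symm
theorem E13939 : n33187 = n7610 := ((((iv1 D16407)).symm.trans (sb E13932 (iv1 F86218)))).symm
theorem E13940 : n33935 = n26653 := (((iv2 F53285)).symm.trans (sb E13932 (iv2 F130737)))
theorem E13941 : n72371 = n33705 := (((F110590).symm.trans (sb E13932 (iv3 F108849)))).symm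
theorem E13942 : n33939 = n33199 := ((D33939).symm.trans (sb E13932 F86216))
theorem E13943 : n33930 = n26382 := ((F53284).symm.trans (sb E13932 (iv7 D54556)))
theorem F130761 : act 0 n16011 = n26655 := (sb E13933 (iv1 F53131))
theorem E13944 : n33931 = n27015 := ((((iv3 F43650)).symm.trans (sb E13933 D33931))).symm
theorem E13945 : n33932 = n33185 := ((((iv4 F52412)).symm.trans (sb E13933 D33932))).symm
theorem E13946 : n33933 = n32011 := ((((iv5 F50379)).symm.trans (sb E13933 D33933))).symm
theorem E13948 : n72071 = n33949 := ((((iv1 F87250)).symm.trans (sb E13937 F108530))).symm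
theorem F130762 : act 0 n7610 = n16011 := (sb E13939 (iv1 D33187))
theorem F130763 : act 2 n26653 = n16407 := (sb E13940 F53285)
theorem E13956 : n73898 = n55147 := (((D55147).symm.trans (sb E13940 (iv4 F110705)))).symm
theorem E13957 : n73903 = n55148 := (((D55148).symm.trans (sb E13940 (iv5 F110709)))).symm
theorem E13959 : n72810 = n72326 := (((iv1 F109972)).symm.trans (sb E13941 (iv1 F108852)))
theorem E13961 : n73227 = n72327 := ((D73227).symm.trans (sb E13941 F108848))
theorem E13962 : n73231 = n71806 := ((D73231).symm.trans (sb E13941 F108850))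
theorem E13963 : n73232 = n33407 := ((D73232).symm.trans (sb E13941 (iv7 D72371)))
theorem E13966 : n73911 = n71820 := ((((iv4 F108273)).symm.trans (sb E13942 (iv4 F110712)))).symm
theorem F130764 : act 6 n33199 = n16407 := (sb E13942 (iv6 D33939))
theorem E13969 : n73885 = n54553 := ((((iv4 F86213)).symm.trans (sb E13943 D73885))).symm
theorem E13970 : n73886 = n54035 := ((((iv5 F85253)).symm.trans (sb E13943 D73886))).symm
theorem F130765 : act 7 n26382 = n16407 := (sb E13943 (iv7 F53284))
theorem E13975 : n60376 = n54331 := ((((iv4 F85741)).symm.trans (sb E13944 F94891))).symm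
theorem E13978 : n73893 = n71790 := (((D71790).symm.trans (sb E13945 D73893))).symm
theorem E13979 : n73894 = n71791 := (((D71791).symm.trans (sb E13945 D73894))).symm
theorem E13983 : n73899 = n68820 := (((D68820).symm.trans (sb E13946 D73899))).symm
theorem E13991 : n73958 = n33279 := ((D73958).symm.trans (sb E13948 (iv5 D72071)))
theorem F130766 : act 2 n55147 = n33937 := (sb E13956 F110704)
theorem F130767 : act 2 n55148 = n33938 := (sb E13957 F110708)
theorem E13992 : n33706 = n33381 := ((((iv1 D72326)).symm.trans (sb E13959 F109971))).symm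
theorem F130768 : act 1 n72326 = n33705 := (sb E13959 F109972)
theorem F130769 : act 2 n72326 = n33581 := (sb E13959 (iv2 D72810))
theorem F130770 : act 3 n72326 = n33730 := (sb E13959 F109973)
theorem F130771 : act 4 n72326 = n60180 := (sb E13959 (iv4 F109994))
theorem F130772 : act 7 n72326 = n33707 := (sb E13959 (iv7 F109992))
theorem F130773 : act 2 n72327 = n33705 := (sb E13961 (iv2 D73227))
theorem F130774 : act 6 n71806 = n33705 := (sb E13962 (iv6 D73231))
theorem F130775 : act 7 n33407 = n33705 := (sb E13963 (iv7 D73232))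
theorem F130776 : act 6 n71820 = n33937 := (sb E13966 (iv6 D73911))
theorem F130777 : act 7 n54553 = n33937 := (sb E13969 F110695)
theorem F130778 : act 7 n54035 = n33938 := (sb E13970 F110697)
theorem F130779 : act 0 n54331 = n28675 := (sb E13975 (iv1 D60376))
theorem F130780 : act 0 n71790 = n33937 := (sb E13978 (iv1 F110706))
theorem F130781 : act 1 n71791 = n33937 := (sb E13979 F110702)
theorem F130782 : act 0 n68820 = n33938 := (sb E13983 (iv1 F110710))
theorem F130784 : act 5 n33279 = n33949 := (sb E13991 (iv5 D73958))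
theorem F130785 : act 0 n33381 = n16287 := (sb E13992 (iv1 D33706))
theorem E13994 : n69247 = n68552 := ((((iv5 F104751)).symm.trans (sb E13992 (iv5 F105520)))).symm
theorem F130786 : act 0 n68552 = n32198 := (sb E13994 (iv1 D69247))
theorem F130787 : act 5 n69251 = n55516 := d21_6 F51028 (iv1 F26798) D31893 D68552 F130786 D69251 (iv1 D55516) D55517 F87802 (iv1 F51030)
theorem F130788 : act 6 n69250 = n73003 := d21_9 (iv5 D33646) (iv1 D16265) D16266 (iv6 F27290) F50737 D33381 (iv5 F104751) F130786 D69250 (iv1 F109498)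
theorem F130789 : act 3 n73003 = n69262 := d7_1 F130788 (iv6 D69262) (iv3 F105521)
theorem F130790 : act 3 n55516 = n69266 := d6_1 F130787 (iv5 D69266) (iv3 F105522)
theorem F130791 : act 4 n69266 = n69766 := d20_6 (iv4 D7848) (iv1 F9429) (iv4 F21284) (iv3 F43085) (iv1 F87799) F130790 (iv1 D69766) F51444 F24877 F30054
theorem E13996 : n75986 = n70898 := (c20_8 F130791 (iv1 D69766) F51444 F24877 F30054 D16824 (iv4 F54963) D75986 F107418 (iv3 F108784) (iv1 F108787))
theorem E13997 : n70387 = n34728 := ((F107423).symm.trans (sb E13996 (iv0 D75986)))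
theorem F130792 : act 0 n34728 = n70898 := (sb E13997 (iv1 F107423))
theorem E13998 : n75987 = n32738 := ((D75987).symm.trans (sb E13997 F107424))
theorem E13999 : n75988 = n70869 := ((D75988).symm.trans (sb E13997 (iv2 F107351)))
theorem E14000 : n32670 = n16824 := (((F54963).symm.trans (sb E13997 (iv4 D70387)))).symm
theorem E14001 : n70873 = n55595 := ((((iv7 F87938)).symm.trans (sb E13997 (iv7 F107370)))).symm
theorem F130793 : act 0 n32738 = n34728 := (sb E13998 (iv1 D75987))
theorem F130794 : act 2 n70869 = n34728 := (sb E13999 (iv2 D75988))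
theorem E14002 : n34740 = n32840 := ((((iv4 D70869)).symm.trans (sb E13999 F113883))).symm
theorem E14003 : n34738 = n32842 := ((D34738).symm.trans (sb E14000 (iv1 F52005)))
theorem E14004 : n34739 = n15548 := ((D34739).symm.trans (sb E14000 (iv0 D32670)))
theorem E14005 : n70386 = n7848 := ((((iv3 D16824)).symm.trans (sb E14000 D70386))).symm
theorem E14006 : n59976 = n34741 := (((D34741).symm.trans (sb E14000 (iv5 F94459)))).symm
theorem E14007 : n70388 = n34742 := (((D34742).symm.trans (sb E14000 D70388))).symm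
theorem E14008 : n32841 = n26842 := ((((iv7 F43233)).symm.trans (sb E14000 F57954))).symm
theorem F130795 : act 0 n55595 = n32850 := (sb E14001 (iv1 F107372))
theorem F130796 : act 1 n55595 = n70576 := (sb E14001 F107371)
theorem F130797 : act 2 n55595 = n70390 := (sb E14001 F107368)
theorem F130798 : act 6 n55595 = n70496 := (sb E14001 F107369)
theorem E14009 : n55606 = n32672 := ((((iv1 F52003)).symm.trans (sb E14002 (iv1 F87955)))).symm
theorem E14010 : n55605 = n15806 := ((((iv0 D32840)).symm.trans (sb E14002 F87951))).symm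
theorem F130799 : act 2 n32840 = n16824 := (sb E14002 (iv2 D34740))
theorem E14011 : n70868 = n55580 := ((D70868).symm.trans (sb E14002 (iv3 F87892)))
theorem E14012 : n76036 = n70870 := (((D70870).symm.trans (sb E14002 D76036))).symm
theorem E14013 : n76037 = n70871 := (((D70871).symm.trans (sb E14002 D76037))).symm
theorem E14014 : n55607 = n32671 := (((F57953).symm.trans (sb E14002 (iv7 F87953)))).symm
theorem F130800 : act 1 n32842 = n16824 := (sb E14003 (iv0 D34738))
theorem E14016 : n76027 = n70861 := ((((iv3 F107331)).symm.trans (sb E14003 D76027))).symm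
theorem E14017 : n76028 = n70867 := ((((iv4 F107345)).symm.trans (sb E14003 D76028))).symm
theorem F130801 : act 0 n15548 = n16824 := (sb E14004 (iv1 D34739))
theorem E14025 : n70872 = n12833 := ((((iv7 F43152)).symm.trans (sb E14005 (iv7 F107367)))).symm
theorem E14026 : n76039 = n31821 := ((D76039).symm.trans (sb E14006 (iv0 F104559)))
theorem E14027 : n55608 = n28481 := (((iv7 F87958)).symm.trans (sb E14006 (iv7 D59976)))
theorem E14028 : n76042 = n70858 := ((D76042).symm.trans (sb E14007 (iv1 F110570)))
theorem E14029 : n76043 = n70965 := ((D76043).symm.trans (sb E14007 (iv0 F107511)))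
theorem E14030 : n68339 = n48933 := ((((iv5 F77151)).symm.trans (sb E14007 F106868))).symm
theorem E14031 : n70962 = n59972 := ((((iv7 F94456)).symm.trans (sb E14007 F114109))).symm
theorem E14032 : n55609 = n32708 := ((D55609).symm.trans (sb E14008 F57951))
theorem F130802 : act 0 n32672 = n26842 := (sb E14009 (iv1 D55606))
theorem F130803 : act 1 n15806 = n26842 := (sb E14010 (iv0 D55605))
theorem F130804 : act 3 n55580 = n32840 := (sb E14011 (iv3 D70868))
theorem E14033 : n70389 = n34776 := (((F87893).symm.trans (sb E14011 F107350))).symm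
theorem F130805 : act 2 n70870 = n34741 := (sb E14012 F113911)
theorem F130806 : act 2 n70871 = n34742 := (sb E14013 F113912)
theorem F130807 : act 2 n32671 = n26842 := (sb E14014 (iv2 D55607))
theorem E14034 : n75921 = n71554 := ((((iv4 F108069)).symm.trans (sb E14016 F113908))).symm
theorem E14035 : n75861 = n70383 := ((((iv1 F107348)).symm.trans (sb E14017 F113909))).symm
theorem E14036 : n59973 = n26843 := (((D26843).symm.trans (sb E14025 F107365))).symm
theorem E14037 : n70495 = n26844 := (((D26844).symm.trans (sb E14025 F107366))).symm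
theorem F130808 : act 0 n31821 = n34741 := (sb E14026 (iv1 D76039))
theorem F130809 : act 5 n28481 = n26842 := (sb E14027 (iv5 D55608))
theorem F130810 : act 7 n28481 = n34741 := (sb E14027 F87958)
theorem F130811 : act 1 n70858 = n34742 := (sb E14028 (iv0 D76042))
theorem F130812 : act 0 n70965 = n34742 := (sb E14029 (iv1 D76043))
theorem F130813 : act 0 n48933 = n31801 := (sb E14030 (iv1 D68339))
theorem F130814 : act 1 n48933 = n76142 := (sb E14030 F114113)
theorem F130815 : act 2 n48933 = n76143 := (sb E14030 (iv2 F114114))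
theorem F130816 : act 6 n48933 = n76048 := (sb E14030 (iv6 F113963))
theorem E14038 : n55611 = n28479 := (((F77152).symm.trans (sb E14030 F104527))).symm
theorem F130817 : act 1 n59972 = n32867 := (sb E14031 (iv0 D70962))
theorem F130818 : act 2 n59972 = n70494 := (sb E14031 (iv2 F114107))
theorem E14039 : n81031 = n35663 := (((iv6 F124798)).symm.trans (sb E14031 (iv6 F114108)))
theorem E14040 : n78250 = n37016 := ((((iv5 F57950)).symm.trans (sb E14032 (iv5 F119434)))).symm
theorem F130819 : act 6 n32708 = n26842 := (sb E14032 (iv6 D55609))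
theorem F130820 : act 3 n34776 = n32671 := (sb E14033 (iv3 D70389))
theorem E14041 : n78252 = n76133 := (((D76133).symm.trans (sb E14033 (iv6 F119441)))).symm
theorem F130821 : act 0 n71554 = n34698 := (sb E14034 (iv1 D75921))
theorem F130822 : act 4 n70383 = n34680 := (sb E14035 (iv4 D75861))
theorem F130823 : act 3 n26843 = n28481 := (sb E14036 F94457)
theorem F130824 : act 3 n26844 = n32708 := (sb E14037 (iv3 D70495))
theorem E14042 : n60365 = n59968 := (((D59968).symm.trans (sb E14038 (iv1 F114105)))).symm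
theorem E14043 : n59969 = n53882 := ((D59969).symm.trans (sb E14038 (iv0 F87964)))
theorem E14044 : n59970 = n34780 := ((D59970).symm.trans (sb E14038 F87963))
theorem F130825 : act 6 n28479 = n26843 := (sb E14038 (iv6 D55611))
theorem F130826 : act 6 n35663 = n59972 := (sb E14039 F124798)
theorem F130827 : act 3 n37016 = n35663 := (sb E14040 (iv3 D78250))
theorem F130828 : act 3 n76133 = n35664 := (sb E14041 (iv3 D78252))
theorem F130829 : act 5 n76133 = n70816 := (sb E14041 F119440)
theorem F130830 : act 7 n76133 = n70492 := (sb E14041 F119442)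
theorem F130831 : act 0 n59968 = n76143 := (sb E14042 (iv1 F114118))
theorem F130833 : act 5 n59968 = n28672 := (sb E14042 (iv5 D60365))
theorem F130834 : act 7 n59968 = n31801 := (sb E14042 F110498)
theorem F130835 : act 0 n53882 = n28479 := (sb E14043 (iv1 D59969))
theorem F130836 : act 2 n34780 = n28479 := (sb E14044 (iv2 D59970))
theorem F130837 : act 2 n48931 = n76137 := d0_5 F114097 F130836 (iv3 D28479) (iv2 F43201) D48931
theorem F130838 : act 2 n59971 = n76141 := d1_3 F114099 F130836 D59971
theorem F130839 : act 6 n55610 = n59971 := d3_0 F130838 (iv6 D76141) (iv2 F87960)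
theorem F130840 : act 6 n76132 = n48931 := d3_0 F130837 (iv6 D76137) (iv2 F114095)
theorem F130841 : act 7 n76137 = n59979 := d4_2 (iv7 F77147) F130837 (iv2 D59979)
theorem F130842 : act 1 n76137 = n59977 := d15_0 (iv0 D59977) (iv7 F77147) F130837
theorem F130843 : act 3 n59979 = n76143 := d8_1 F130841 (iv7 D76143) (iv3 F114097)
theorem F130844 : act 1 n59978 = n76137 := d15_1 D59978 F130841 (iv2 D59979)
theorem F130845 : act 3 n48932 = n76132 := d7_3 F130840 (iv3 D48931) D48932
theorem F130846 : act 2 n70492 = n70816 := d4_1 F130830 F107295 (iv2 F114096)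
theorem F130847 : act 1 n76139 = n70492 := d15_1 D76139 (iv7 F130830) F114096
theorem F130848 : act 1 n70492 = n76138 := d15_0 (iv0 D76138) (iv7 F107295) (iv2 F130846)
theorem E14045 : n73688 = n34683 := (c20_4 D35708 (iv1 F110385) (iv4 D73689) D73688 F113746 F85912 F52377 (iv1 F43253) (iv4 F57947) F130827 (iv1 F56333))
theorem E14046 : n75863 = n33856 := (((iv3 F113783)).symm.trans (sb E14045 (iv3 D73688)))
theorem F130850 : act 3 n33856 = n34683 := (sb E14046 F113783)
theorem E14047 : n54289 = n34680 := (((iv6 F85663)).symm.trans (sb E14046 (iv6 D75863)))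
theorem E14048 : n75858 = n26322 := ((D75858).symm.trans (sb E14047 F85664))
theorem E14049 : n75859 = n32740 := ((D75859).symm.trans (sb E14047 (iv0 F85665)))
theorem E14050 : n75860 = n32311 := ((D75860).symm.trans (sb E14047 F85662))
theorem E14051 : n75862 = n26246 := ((D75862).symm.trans (sb E14047 (iv5 D54289)))
theorem F130851 : act 6 n34680 = n33856 := (sb E14047 F85663)
theorem E14052 : n75822 = n32739 := (((iv7 F113764)).symm.trans (sb E14047 (iv7 F85952)))
theorem F130852 : act 1 n26322 = n34680 := (sb E14048 (iv0 D75858))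
theorem F130853 : act 0 n32740 = n34680 := (sb E14049 (iv1 D75859))
theorem F130854 : act 2 n32311 = n34680 := (sb E14050 (iv2 D75860))
theorem E14053 : n54283 = n34682 := (((iv3 F85648)).symm.trans (sb E14051 F113782))
theorem F130855 : act 5 n26246 = n34680 := (sb E14051 (iv5 D75862))
theorem E14054 : n70577 = n34671 := ((D70577).symm.trans (sb E14052 (iv3 D75822)))
theorem F130856 : act 7 n32739 = n34680 := (sb E14052 F113764)
theorem F130857 : act 3 n34682 = n26246 := (sb E14053 F85648)
theorem E14055 : n75868 = n26243 := ((D75868).symm.trans (sb E14053 (iv6 D54283)))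
theorem F130858 : act 3 n34671 = n32739 := (sb E14054 (iv3 D70577))
theorem E14056 : n54279 = n54035 := ((D54279).symm.trans (sb E14055 (iv0 F113786)))
theorem E14057 : n68820 = n54280 := (((D54280).symm.trans (sb E14055 F113785))).symm
theorem F130859 : act 6 n26243 = n34682 := (sb E14055 (iv6 D75868))
theorem E14058 : n68821 = n15231 := (((F51256).symm.trans (sb E14055 (iv7 F113787)))).symm
theorem F130860 : act 0 n54035 = n26243 := (sb E14056 (iv1 D54279))
theorem F130861 : act 1 n54035 = n32315 := (sb E14056 F85643)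
theorem E14059 : n33938 = n32314 := ((((iv1 F85644)).symm.trans (sb E14057 F130782))).symm
theorem E14060 : n32313 = n32011 := ((F85642).symm.trans (sb E14057 (iv0 D68820)))
theorem F130862 : act 6 n54280 = n75828 := (sb E14057 F113722)
theorem E14061 : n79040 = n32317 := (((D32317).symm.trans (sb E14058 (iv5 F120233)))).symm
theorem E14062 : n69597 = n55148 := (((iv2 F105883)).symm.trans (sb E14059 (iv2 F130767)))
theorem E14063 : n73230 = n69598 := (((D69598).symm.trans (sb E14059 (iv3 F110591)))).symm
theorem E14065 : n69600 = n16407 := ((D69600).symm.trans (sb E14059 (iv5 D33938)))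
theorem E14067 : n69592 = n54035 := ((F105882).symm.trans (sb E14059 (iv7 F130778)))
theorem F130863 : act 0 n32011 = n54280 := (sb E14060 (iv1 F85642))
theorem F130864 : act 1 n32011 = n15231 := (sb E14060 (iv0 D32313))
theorem E14072 : n71970 = n69603 := ((((iv2 F105885)).symm.trans (sb E14061 F120232))).symm
theorem E14073 : n35972 = n16797 := ((((iv6 F51342)).symm.trans (sb E14061 (iv6 D79040)))).symm
theorem F130865 : act 2 n55148 = n32314 := (sb E14062 F105883)
theorem F130866 : act 5 n69598 = n33705 := (sb E14063 (iv5 D73230))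
theorem F130867 : act 5 n16407 = n32314 := (sb E14065 (iv5 D69600))
theorem F130868 : act 7 n54035 = n32314 := (sb E14067 (iv7 F105882))
theorem E14074 : n34690 = n33249 := (((iv6 F105886)).symm.trans (sb E14072 (iv6 D71970)))
theorem E14075 : n34688 = n33251 := ((D34688).symm.trans (sb E14073 (iv1 F56692)))
theorem E14076 : n34689 = n17415 := ((D34689).symm.trans (sb E14073 (iv0 D35972)))
theorem E14078 : n79038 = n34691 := (((D34691).symm.trans (sb E14073 D79038))).symm
theorem E14079 : n79039 = n34692 := (((D34692).symm.trans (sb E14073 D79039))).symm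
theorem E14080 : n33250 = n26809 := ((((iv7 F51331)).symm.trans (sb E14073 F113761))).symm
theorem E14081 : n55540 = n35975 := ((((iv1 F56694)).symm.trans (sb E14074 (iv1 F87831)))).symm
theorem E14082 : n55539 = n16054 := ((((iv0 D33249)).symm.trans (sb E14074 F87827))).symm
theorem F130869 : act 2 n33249 = n16797 := (sb E14074 (iv2 D34690))
theorem E14083 : n71967 = n55535 := ((D71967).symm.trans (sb E14074 (iv3 F87815)))
theorem E14084 : n75894 = n71968 := (((D71968).symm.trans (sb E14074 D75894))).symm
theorem E14085 : n75895 = n71969 := (((D71969).symm.trans (sb E14074 D75895))).symm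
theorem F130870 : act 6 n33249 = n69603 := (sb E14074 F105886)
theorem E14086 : n55541 = n35973 := ((((iv7 F113758)).symm.trans (sb E14074 (iv7 F87829)))).symm
theorem F130871 : act 1 n33251 = n16797 := (sb E14075 (iv0 D34688))
theorem F130872 : act 0 n17415 = n16797 := (sb E14076 (iv1 D34689))
theorem E14098 : n71973 = n55542 := ((((iv7 F87834)).symm.trans (sb E14078 F120229))).symm
theorem E14099 : n71974 = n55543 := ((((iv7 F87836)).symm.trans (sb E14079 F120231))).symm
theorem E14100 : n71975 = n55544 := (((D55544).symm.trans (sb E14080 D71975))).symm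
theorem F130873 : act 0 n35975 = n26809 := (sb E14081 (iv1 D55540))
theorem F130874 : act 1 n16054 = n26809 := (sb E14082 (iv0 D55539))
theorem F130875 : act 3 n55535 = n33249 := (sb E14083 (iv3 D71967))
theorem E14101 : n79041 = n34697 := (((F87816).symm.trans (sb E14083 (iv7 F120234)))).symm
theorem F130876 : act 2 n71968 = n34691 := (sb E14084 F113796)
theorem F130877 : act 2 n71969 = n34692 := (sb E14085 F113797)
theorem F130878 : act 2 n35973 = n26809 := (sb E14086 (iv2 D55541))
theorem F130879 : act 2 n55542 = n79042 := (sb E14098 (iv2 F120236))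
theorem F130880 : act 2 n55543 = n54198 := (sb E14099 (iv2 F113756))
theorem F130881 : act 6 n55543 = n54149 := (sb E14099 (iv6 F108463))
theorem F130882 : act 0 n55544 = n54943 := (sb E14100 F130504)
theorem F130883 : act 1 n55544 = n54946 := (sb E14100 F130505)
theorem F130884 : act 2 n55544 = n73698 := (sb E14100 (iv2 F120247))
theorem F130885 : act 5 n55544 = n71701 := (sb E14100 (iv5 F110284))
theorem F130886 : act 7 n55544 = n73699 := (sb E14100 (iv7 F120243))
theorem F130887 : act 3 n34697 = n35973 := (sb E14101 (iv3 D79041))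
theorem E14102 : n75917 = n71552 := ((D75917).symm.trans (sb E14101 F120235))
theorem F130888 : act 2 n71552 = n34698 := (sb E14102 F113815)
theorem F130889 : act 4 n71552 = n34697 := (sb E14102 (iv4 D75917))
theorem F130890 : act 3 n54198 = n75918 := d6_3 (iv5 D75918) F130887 (iv5 F85522)
theorem F130891 : act 3 n73698 = n75919 := d7_3 (iv6 D75919) F130887 (iv6 F120249)
theorem F130892 : act 6 n75918 = n54195 := d7_2 D54198 F130890 (iv3 D54195)
theorem F130893 : act 2 n54195 = n75927 := d3_1 F130892 (iv6 D75927) (iv2 F113816)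
theorem F130894 : act 3 n55546 = n54149 := d0_4 D54195 F130893 F113819 (iv2 F87841) F113754
theorem E14103 : n68553 = n54200 := ((c8_4 F104752 F130894 F113755 D54200)).symm
theorem F130895 : act 0 n54200 = n31894 := (sb E14103 (iv1 D68553))
theorem F130896 : act 1 n54200 = n75932 := (sb E14103 F113828)
theorem F130897 : act 2 n54200 = n75933 := (sb E14103 (iv2 F113829))
theorem F130898 : act 5 n54200 = n70579 := (sb E14103 (iv5 F107044))
theorem F130899 : act 6 n54200 = n69630 := (sb E14103 (iv6 F105903))
theorem F130900 : act 7 n54200 = n55546 := (sb E14103 F104752)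
theorem F130901 : act 3 n69630 = n54203 := d7_1 F130899 (iv6 D54203) D54200
theorem F130902 : act 5 n54203 = n69616 := d6_2 (iv5 F105902) F130901 F105893
theorem F130903 : act 7 n54203 = n69615 := d8_2 D69630 F130901 F105891
theorem F130904 : act 6 n69616 = n75824 := d12_2 D54203 F130902 (iv5 D75824) (iv6 F85524) (iv5 D54202)
theorem F130905 : act 2 n75852 = n69616 := d3_3 F130904 F113767 D75852
theorem F130906 : act 3 n75824 = n54290 := d7_1 F130904 F85667 (iv3 F105893)
theorem F130907 : act 2 n69573 = n75840 := d0_3 F130906 F85666 (iv3 F105846) F113733 (iv2 F113767)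
theorem F130908 : act 5 n75838 = n69573 := d2_0 F130907 (iv5 D75840) D75838
theorem F130909 : act 7 n75840 = n69560 := d4_2 D69573 F130907 F105840
theorem F130910 : act 1 n75840 = n69570 := d15_0 (iv0 D69570) D69573 F130907
theorem F130912 : act 5 n69560 = n75826 := d13_1 F130909 F113772 D75840
theorem F130913 : act 1 n69571 = n75840 := d15_1 D69571 F130909 F105840
theorem F130914 : act 2 n75826 = n69572 := d2_1 F130912 (iv5 D69572) (iv2 F105840)
theorem F130915 : act 7 n69572 = n75838 := d4_2 (iv7 F113772) F130914 (iv2 D75838)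
theorem F130916 : act 1 n69572 = n75836 := d15_0 (iv0 D75836) (iv7 F113772) F130914
theorem F130917 : act 3 n75838 = n54425 := d8_1 F130915 F85948 (iv3 F105845)
theorem F130918 : act 1 n75837 = n69572 := d15_1 D75837 F130915 (iv2 D75838)
theorem F130919 : act 4 n79034 = n70774 := d20_8 (iv4 F51943) D70764 F113781 F130917 (iv1 F85946) (iv3 F52487) (iv4 F108460) (iv1 F120219) (iv3 D70774) (iv1 D32805)
theorem F130920 : act 7 n69604 = n75852 := d4_0 F130905 (iv7 D69616) (iv2 F105887)
theorem F130921 : act 1 n75852 = n69613 := d15_0 (iv0 D69613) D69616 (iv2 F130905)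
theorem F130922 : act 1 n69614 = n75852 := d15_1 D69614 (iv7 F130920) F105887
theorem F130923 : act 3 n70579 = n54202 := d6_1 F130898 (iv5 D54202) D54200
theorem F130924 : act 3 n73699 = n54287 := d8_1 F130886 F85657 (iv3 F87837)
theorem F130925 : act 6 n73699 = n54282 := d14_1 F130886 F85647 (iv6 F51342) (iv7 F51331) D55544
theorem F130926 : act 3 n71701 = n55126 := d6_1 F130885 F87190 (iv3 F87837)
theorem F130927 : act 1 n54198 = n75899 := d15_0 (iv0 D75899) (iv7 F87836) F130880
theorem F130928 : act 1 n79042 = n75896 := d15_0 (iv0 D75896) (iv7 F87834) F130879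
theorem F130929 : act 1 n75900 = n54198 := d15_1 D75900 (iv7 F113759) F130877
theorem F130930 : act 1 n75897 = n79042 := d15_1 D75897 F120237 F130876
theorem F130931 : act 0 n80181 = n79031 := d20_4 F57443 F116621 (iv4 F113048) D80181 F120217 F56685 F130872 D34691 (iv3 F56013) (iv1 F116612)
theorem E14104 : n55148 = n54278 := (c21_7 (iv5 F120256) (iv1 F120258) (iv5 F108275) (iv6 D71825) (iv1 F86206) F130749 D55148 (iv1 F85639) D69603 (iv6 F130870) (iv1 F56694))
theorem F130932 : act 2 n54278 = n32314 := (sb E14104 F130865)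
theorem F130934 : act 5 n54278 = n26653 := (sb E14104 (iv5 D55148))
theorem F130935 : act 7 n54278 = n32011 := (sb E14104 F130748)
theorem E14105 : n72069 = n54282 := (c21_11 (iv5 D54282) D54278 F130934 (iv6 F130749) (iv1 F86205) D71830 (iv5 F108519) (iv1 F108523) (iv5 D33278) D33279 D72069)
theorem F130936 : act 1 n54282 = n33279 := (sb E14105 (iv0 D72069))
theorem E14106 : n62696 = n34354 := (c21_8 (iv5 F130934) (iv1 F85639) D69603 (iv6 F130870) (iv1 F56694) F56691 (iv5 F108484) (iv1 F108486) F54512 (iv6 D26658) D26653)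
theorem E14107 : n74979 = n29643 := ((D74979).symm.trans (sb E14106 (iv1 D62696)))
theorem E14108 : n74980 = n71999 := ((D74980).symm.trans (sb E14106 F108486))
theorem F130937 : act 1 n29643 = n34354 := (sb E14107 (iv0 D74979))
theorem F130938 : act 0 n71999 = n34354 := (sb E14108 (iv1 D74980))
theorem F130939 : act 7 n62695 = n71997 := d15_2 (iv0 F130938) F108487 F130758
theorem F130940 : act 2 n55300 = n62695 := d4_3 F130939 F130758 (iv7 F87521)
theorem F130941 : act 3 n74972 = n62695 := d8_3 F130939 F130759 (iv7 F112498)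
theorem E14109 : n62869 = n62450 := ((c20_8 (iv4 F78865) (iv1 F78866) (iv4 D34355) D34354 (iv1 F130937) F47624 (iv4 F47340) D62450 (iv4 D62869) (iv3 F109841) (iv1 F38271))).symm
theorem F130942 : act 2 n62450 = n61775 := (sb E14109 F110522)
theorem F130943 : act 4 n62450 = n29751 := (sb E14109 (iv4 D62869))
theorem F130944 : act 7 n62450 = n61197 := (sb E14109 (iv7 F130757))
theorem E14110 : n62874 = n62451 := (c15_4 F97331 F97337 F130944 F130755)
theorem F130945 : act 2 n62451 = n61197 := (sb E14110 (iv2 F130755))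
theorem F130946 : act 4 n62451 = n29752 := (sb E14110 (iv4 D62874))
theorem F130947 : act 7 n62451 = n61775 := (sb E14110 F110518)
theorem E14111 : n61775 = n61196 := (c15_4 (iv0 D61196) D61197 (iv7 F130944) F130942)
theorem F130948 : act 2 n61196 = n62450 := (sb E14111 (iv2 F130942))
theorem F130949 : act 4 n61196 = n29282 := (sb E14111 (iv4 D61775))
theorem F130950 : act 7 n61196 = n62451 := (sb E14111 (iv7 F130947))
theorem E14112 : n70550 = n70366 := ((c18_2 D32662 D70366 (iv1 F107452) F107448 F85938 (iv4 F97335) F97339 F130949 (iv0 D29282) (iv5 F26484))).symm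
theorem F130951 : act 0 n70366 = n70905 := (sb E14112 (iv1 F107452))
theorem F130952 : act 1 n70366 = n32728 := (sb E14112 (iv0 D70550))
theorem E14113 : n70551 = n69845 := (c15_2 F130952 D70551 (iv7 F107202) F109929)
theorem F130953 : act 0 n69845 = n32728 := (sb E14113 (iv1 D70551))
theorem F130954 : act 1 n69845 = n70905 := (sb E14113 F107451)
theorem F130955 : act 4 n69821 = n70555 := d20_8 (iv4 F107448) (iv1 F130954) (iv4 D69845) (iv3 D32431) (iv1 D15323) (iv3 F24899) (iv4 F51486) D69821 (iv3 D70555) (iv1 F85942)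
theorem E14114 : n55324 = n35965 := (c20_5 F11566 D8329 (iv4 F28962) D26736 D55324 (iv3 F85937) (iv4 F107448) (iv1 F130954) (iv4 D69845) (iv3 D32431) (iv1 D15323))
theorem E14115 : n34396 = n33257 := ((((iv1 F56668)).symm.trans (sb E14114 (iv1 F87548)))).symm
theorem E14116 : n33256 = n26736 := ((F56669).symm.trans (sb E14114 (iv0 D55324)))
theorem E14117 : n55325 = n16059 := ((((iv1 D33257)).symm.trans (sb E14115 (iv1 F87552)))).symm
theorem E14118 : n71991 = n16673 := (((iv2 F108476)).symm.trans (sb E14115 (iv2 D34396)))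
theorem E14119 : n71992 = n55334 := ((D71992).symm.trans (sb E14115 (iv3 F87566)))
theorem E14120 : n75109 = n71993 := (((D71993).symm.trans (sb E14115 D75109))).symm
theorem E14121 : n75110 = n71994 := (((D71994).symm.trans (sb E14115 D75110))).symm
theorem E14122 : n75111 = n71995 := (((D71995).symm.trans (sb E14115 D75111))).symm
theorem E14123 : n71986 = n55326 := ((F108475).symm.trans (sb E14115 (iv7 F87550)))
theorem F130956 : act 0 n26736 = n35965 := (sb E14116 (iv1 F56669))
theorem E14126 : n71989 = n55328 := (((D55328).symm.trans (sb E14116 D71989))).symm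
theorem E14127 : n71990 = n55329 := (((D55329).symm.trans (sb E14116 D71990))).symm
theorem F130957 : act 0 n16059 = n26736 := (sb E14117 (iv1 D55325))
theorem F130958 : act 2 n16673 = n33257 := (sb E14118 F108476)
theorem F130959 : act 3 n55334 = n33257 := (sb E14119 (iv3 D71992))
theorem F130960 : act 2 n71993 = n34397 := (sb E14120 F112619)
theorem F130961 : act 2 n71994 = n34398 := (sb E14121 F112620)
theorem F130962 : act 2 n71995 = n34399 := (sb E14122 F112621)
theorem F130963 : act 7 n55326 = n33257 := (sb E14123 (iv7 F108475))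
theorem F130964 : act 0 n55328 = n71699 := (sb E14126 F110291)
theorem F130965 : act 1 n55329 = n84929 := (sb E14127 (iv0 F130134))
theorem E14128 : n58460 = n54530 := (c21_2 (iv5 F87559) D58460 F86154 (iv6 D26379) F26948 D16354 (iv5 F26655) D18639 D39290 D84929 (iv1 F130965))
theorem F130966 : act 0 n54530 = n39464 := (sb E14128 (iv1 F92339))
theorem F130967 : act 1 n54530 = n27818 := (sb E14128 (iv0 D58460))
theorem E14129 : n71834 = n58461 := ((c15_2 F130967 D58461 (iv7 D71834) (iv2 F86152))).symm
theorem F130968 : act 5 n58461 = n33199 := (sb E14129 F108278)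
theorem F130969 : act 7 n58461 = n33198 := (sb E14129 (iv7 D71834))
theorem F130970 : act 2 n75119 = n61533 := d3_3 F108478 F130961 D75119
theorem F130971 : act 7 n61534 = n75119 := d15_2 (iv0 D61533) D61534 F130970
theorem F130972 : act 3 n61510 = n61534 := d8_3 F130971 F112623 (iv7 F96021)
theorem F130973 : act 0 n77371 = n71980 := d20_4 F89306 (iv1 F58807) F117071 D77371 F108472 F52491 F130957 D55327 (iv3 F91235) F117080
theorem F130974 : act 4 n71983 = n69831 := d20_2 (iv4 F120199) (iv1 F120202) (iv3 D69831) (iv1 D32427) F24899 F11566 D8329 (iv4 F28962) D26736 F130956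
theorem E14130 : n70535 = n34374 := (c20_5 D69845 F130953 F51808 (iv3 F51791) D70535 (iv3 D34374) D34375 F109926 F108943 F107375 (iv1 F109884))
theorem E14131 : n75038 = n71978 := ((D75038).symm.trans (sb E14130 (iv1 F108469)))
theorem E14132 : n75039 = n32722 := ((D75039).symm.trans (sb E14130 (iv0 D70535)))
theorem F130975 : act 1 n71978 = n34374 := (sb E14131 (iv0 D75038))
theorem F130976 : act 0 n32722 = n34374 := (sb E14132 (iv1 D75039))
theorem F130977 : act 0 n75042 = n72504 := d21_1 D75042 (iv5 F109550) (iv6 D73033) (iv1 D33649) (iv6 F27290) (iv5 D16655) (iv1 F50732) D15632 D32722 F130976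
theorem F130978 : act 7 n70536 = n75040 := d15_2 (iv0 F130976) D70536 (iv2 D75040)
theorem F130979 : act 2 n75044 = n70536 := d4_3 F130978 (iv2 D75040) D75044
theorem F130980 : act 3 n70536 = n75057 := d0_2 (iv3 F112570) F130979 (iv2 D75057) (iv3 D34379) (iv2 F54544)
theorem F130981 : act 0 n73006 = n75043 := d21_4 (iv5 D16266) D16264 D33641 D73006 (iv6 D75043) D75042 F130977 (iv5 F109550) (iv6 D73033) (iv1 D33649)
theorem F130982 : act 1 n72395 = n75043 := d15_0 (iv0 F130981) F109500 F109776
theorem E14133 : n70903 = n70891 := ((c18_2 (iv1 F52012) D70891 (iv1 D70903) F52027 F41973 (iv4 F47340) D62451 F130946 F47835 (iv5 F51741))).symm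
theorem F130983 : act 0 n70891 = n32852 := (sb E14133 (iv1 D70903))
theorem F130984 : act 1 n70891 = n70553 := (sb E14133 F107444)
theorem E14134 : n70902 = n70743 := (c15_2 F130984 F107450 F107202 F109864)
theorem F130985 : act 0 n70743 = n70553 := (sb E14134 (iv1 F107450))
theorem F130986 : act 1 n70743 = n32852 := (sb E14134 (iv0 D70902))
theorem E14135 : n75100 = n26321 := (c20_6 F24900 (iv1 F13150) (iv4 F28975) D16673 D34394 D75100 (iv4 F52027) (iv1 F130986) (iv4 D70743) (iv3 D32793) (iv1 F25187))
theorem E14136 : n34394 = n17411 := (((F41972).symm.trans (sb E14135 (iv3 D75100)))).symm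
theorem E14137 : n55326 = n35963 := (((D35963).symm.trans (sb E14136 (iv1 F87551)))).symm
theorem E14138 : n35964 = n16673 := ((D35964).symm.trans (sb E14136 (iv0 D34394)))
theorem E14144 : n34395 = n33259 := ((((iv1 F56667)).symm.trans (sb E14137 (iv1 F87553)))).symm
theorem E14145 : n79015 = n26736 := ((D79015).symm.trans (sb E14137 (iv2 D55326)))
theorem E14146 : n79016 = n34388 := ((D79016).symm.trans (sb E14137 F87549))
theorem E14147 : n79020 = n33257 := ((D79020).symm.trans (sb E14137 F130963))
theorem F130987 : act 0 n16673 = n17411 := (sb E14138 (iv1 D35964))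
theorem E14150 : n79023 = n34398 := (((D34398).symm.trans (sb E14138 D79023))).symm
theorem F130988 : act 0 n33259 = n16673 := (sb E14144 (iv1 D34395))
theorem F130989 : act 2 n26736 = n35963 := (sb E14145 (iv2 D79015))
theorem F130990 : act 3 n34388 = n35963 := (sb E14146 (iv3 D79016))
theorem F130991 : act 7 n33257 = n35963 := (sb E14147 (iv7 D79020))
theorem E14156 : n75117 = n73661 := ((D75117).symm.trans (sb E14150 (iv0 F120208)))
theorem F130992 : act 0 n73661 = n34398 := (sb E14156 (iv1 D75117))
theorem F130993 : act 7 n79018 = n71994 := d15_2 (iv0 F130992) (iv0 F120205) F130961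
theorem F130994 : act 2 n55328 = n79018 := d4_3 F130993 F130961 (iv7 F87557)
theorem F130995 : act 3 n79018 = n75081 := d0_2 (iv3 F87556) F130994 F112595 F54557 (iv2 F51295)
theorem F130996 : act 1 n79018 = n75116 := d15_0 (iv0 D75116) (iv7 F87557) F130994
theorem F130997 : act 7 n75116 = n71699 := d15_2 (iv0 F120205) F130996 (iv2 F110362)
theorem F130998 : act 3 n71706 = n75116 := d8_3 F130997 F108179 D71706
theorem F130999 : act 7 n79017 = n71993 := d11_2 F130991 D79017 (iv4 D71993)
theorem F131000 : act 2 n55327 = n79017 := d4_3 F130999 F130960 (iv7 F87555)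
theorem F131001 : act 1 n75113 = n79017 := d15_1 D75113 F130999 F130960
theorem F131002 : act 1 n79017 = n75112 := d15_0 (iv0 D75112) (iv7 F87555) F131000
theorem F131003 : act 3 n79019 = n75082 := d7_3 (iv6 D75082) F130990 D79019
theorem F131004 : act 2 n55329 = n79019 := d0_5 F131003 F112596 F54558 (iv2 F51296) (iv3 F87558)
theorem E14157 : n71832 = n58462 := ((c6_4 (iv5 F120206) F131003 (iv5 F112597) (iv3 F92340))).symm
theorem E14158 : n39463 = n33198 := (((iv1 F92344)).symm.trans (sb E14157 (iv1 D71832)))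
theorem F131005 : act 5 n58462 = n79019 := (sb E14157 (iv5 F120206))
theorem E14159 : n71831 = n18702 := ((D71831).symm.trans (sb E14158 (iv1 D39463)))
theorem F131006 : act 1 n33198 = n58462 := (sb E14158 F92344)
theorem E14160 : n85449 = n54530 := ((((iv2 F86152)).symm.trans (sb E14158 (iv2 F130676)))).symm
theorem E14165 : n85444 = n58461 := ((((iv7 F130969)).symm.trans (sb E14158 F130675))).symm
theorem F131007 : act 1 n18702 = n33198 := (sb E14159 (iv0 D71831))
theorem F131008 : act 7 n54530 = n39462 := (sb E14160 (iv7 D85449))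
theorem F131009 : act 2 n58461 = n39462 := (sb E14165 (iv2 D85444))
theorem E14166 : n85447 = n54549 := (c2_3 (iv5 F130968) F131009 D85447 F86201)
theorem F131010 : act 5 n54549 = n39462 := (sb E14166 (iv5 D85447))
theorem E14167 : n85445 = n54535 := (c6_2 F131010 D85445 F86161 (iv3 F86202))
theorem F131011 : act 3 n54535 = n39462 := (sb E14167 (iv3 D85445))
theorem E14168 : n85448 = n71295 := (c7_3 (iv6 F86162) F131011 D85448 F107786)
theorem F131012 : act 6 n71295 = n39462 := (sb E14168 (iv6 D85448))
theorem E14169 : n72163 = n72054 := (c21_4 D33198 (iv1 F131007) D39466 (iv6 F108614) (iv1 D72054) (iv6 D33274) D33273 D72048 F108519 (iv6 D71830) (iv1 D33197))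
theorem F131013 : act 3 n72054 = n33313 := (sb E14169 (iv3 D72163))
theorem F131014 : act 6 n72054 = n39466 := (sb E14169 F108614)
theorem F131015 : act 7 n72054 = n34399 := (sb E14169 F108615)
theorem E14170 : n70343 = n70299 := (c21_7 (iv5 D26533) F26805 D16024 (iv6 F52420) (iv1 F131007) D39467 (iv5 F106815) (iv1 D70299) (iv5 F52578) (iv6 D33342) F42479)
theorem F131016 : act 3 n70299 = n32652 := (sb E14170 (iv3 D70343))
theorem F131017 : act 5 n70299 = n39467 := (sb E14170 F106815)
theorem F131018 : act 5 n85462 = n72196 := d21_2 D39466 D85462 (iv6 D72196) F86777 F86776 (iv5 D26533) F26805 D16024 (iv6 F52420) (iv1 F131007)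
theorem F131020 : act 6 n54943 = n85462 := d12_0 F131018 (iv6 D72196) (iv5 F58347) F58348 D54943
theorem F131021 : act 6 n85143 = n85466 := d21_3 (iv5 D54836) F110796 F130470 (iv1 D85466) (iv6 D39467) D39466 D85462 F131018 (iv6 D72196) F86777
theorem F131022 : act 5 n85466 = n85007 := d12_1 F131021 (iv6 D85007) D85006 F130242 F130470
theorem F131023 : act 2 n85462 = n84929 := d3_1 F131020 (iv6 D84929) (iv2 F86902)
theorem F131024 : act 0 n85462 = n79019 := d21_4 (iv5 F27023) D26572 D54943 F131020 (iv6 D79019) D79018 F120205 (iv5 D73661) (iv6 D33848) (iv1 D16360)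
theorem E14171 : n85463 = n54581 := (c15_2 (iv0 D85462) D85463 (iv7 F130133) (iv2 F131023))
theorem F131025 : act 0 n54581 = n39466 := (sb E14171 (iv1 D85463))
theorem F131026 : act 0 n73925 = n54580 := d21_7 (iv5 D39466) D39462 (iv5 F131010) F130749 (iv1 F53132) D33942 D73925 (iv5 D54580) D54581 F131025
theorem E14172 : n72053 = n71995 := ((c15_4 (iv0 D72053) D72054 F131015 (iv2 F130962))).symm
theorem F131027 : act 1 n71995 = n33274 := (sb E14172 (iv0 D72053))
theorem F131028 : act 7 n79019 = n85455 := d13_2 (iv7 F92341) F131005 (iv5 D85455)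
theorem F131029 : act 1 n54581 = n79019 := d15_1 (iv0 F131025) F131028 F130678
theorem F131030 : act 1 n84929 = n85455 := d15_1 F130965 (iv7 F131028) (iv2 F131004)
theorem F131031 : act 0 n54838 = n75119 := d21_4 (iv5 D12666) D12664 D26529 D54838 (iv6 D75119) (iv5 D34398) F130987 (iv5 F47625) (iv6 D29643) F27036
theorem E14173 : n72419 = n71977 := ((c20_5 D70743 F130985 F107018 (iv3 F106990) (iv1 F108464) (iv3 D72419) D72420 F109846 F52727 F52006 F109848)).symm
theorem F131032 : act 3 n71977 = n33434 := (sb E14173 (iv3 D72419))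
theorem F131033 : act 4 n71977 = n70727 := (sb E14173 F108932)
theorem F131034 : act 0 n61495 = n73252 := d20_4 (iv4 F130943) (iv1 F97337) F95676 (iv3 F96010) F109713 D73299 F109845 F98090 F47834 D29751
theorem E14174 : n73250 = n73033 := (c21_2 (iv5 D73252) D73250 F109550 (iv6 D72504) F52982 (iv6 F109948) (iv5 D73344) F108788 F104940 F97557 F131034)
theorem F131035 : act 1 n73033 = n33710 := (sb E14174 (iv0 D73250))
theorem F131036 : act 1 n61487 = n73252 := d15_0 (iv0 F131034) (iv7 D61495) (iv2 F95995)
theorem E14175 : n73648 = n71830 := (c21_11 (iv5 F108519) (iv1 F108523) (iv5 D33278) D33279 (iv1 F130936) (iv6 F130925) F110396 F113746 (iv5 D33842) D33843 D73648)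
theorem F131037 : act 1 n71830 = n33843 := (sb E14175 (iv0 D73648))
theorem F131038 : act 0 n85104 = n73959 := d21_4 F130334 (iv1 D39353) D39354 (iv6 F130442) (iv6 D73959) (iv5 F130784) (iv1 F130936) (iv5 D54282) F130859 (iv1 F113742)
theorem F131039 : act 7 n69598 = n68975 := d8_2 F130868 D69598 F105174
theorem E14176 : n69601 = n68831 := (c14_2 F130868 D69601 (iv7 D68831) (iv6 D32015) (iv7 F41430) D54035)
theorem F131040 : act 6 n68831 = n32314 := (sb E14176 (iv6 D69601))
theorem E14177 : n73965 = n68868 := (c21_5 (iv5 F130867) (iv1 D16407) D16410 D33951 D73965 F105057 F54935 (iv1 F54926) D75828 (iv6 F130862) (iv1 F85644))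
theorem F131041 : act 1 n68868 = n33951 := (sb E14177 (iv0 D73965))
theorem F131042 : act 6 n75867 = n54281 := d10_2 F130859 D75867 (iv4 D54281)
theorem E14178 : n70864 = n70578 := (c20_2 (iv4 F51997) D70864 (iv4 D70578) (iv3 F130858) (iv1 F54928) F27560 F12398 (iv1 F9424) D12833 D26842 (iv1 F130803))
theorem F131043 : act 0 n70578 = n70385 := (sb E14178 (iv1 F107347))
theorem F131044 : act 1 n70578 = n32839 := (sb E14178 (iv0 D70864))
theorem E14179 : n68731 = n66410 := ((c18_7 D32739 D70578 F131043 F106867 F51756 (iv4 F101380) F102325 (iv4 D68731) (iv0 D31977) (iv5 F25141))).symm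
theorem F131045 : act 4 n66410 = n31977 := (sb E14179 (iv4 D68731))
theorem F131046 : act 7 n70383 = n70578 := d11_2 F130856 (iv4 F130822) (iv4 D70578)
theorem F131047 : act 2 n70578 = n70382 := d15_3 (iv0 D70382) D70383 F131046
theorem F131048 : act 2 n70383 = n69591 := d15_3 F107359 (iv0 F131043) (iv7 F131046)
theorem F131049 : act 6 n73689 = n70383 := d3_0 F131048 F106953 (iv2 F110382)
theorem F131050 : act 7 n69591 = n70382 := d4_2 (iv7 F131046) F131048 (iv2 F131047)
theorem F131051 : act 4 n70382 = n54425 := d11_1 F131050 F85948 D69591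
theorem F131052 : act 1 n69587 = n68396 := d18_6 (iv1 D32671) (iv4 F51755) D70382 F131051 (iv5 F85949) (iv4 F105878) F104566 (iv0 F94902) F77150
theorem E14180 : n67875 = n65647 := (c18_2 D31542 D67875 (iv1 F102327) F102323 (iv5 F52001) (iv4 F107345) F107349 F131051 (iv0 D54425) F41975)
theorem F131053 : act 4 n65647 = n31542 := (sb E14180 (iv4 D67875))
theorem E14181 : n67880 = n65648 := ((c18_7 F130853 (iv4 F130822) (iv1 D70383) F51755 F26490 (iv4 F49212) D65648 (iv4 D67880) F50338 (iv5 F51825))).symm
theorem F131054 : act 4 n65648 = n31543 := (sb E14181 (iv4 D67880))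
theorem F131055 : act 3 n70496 = n55597 := d5_3 (iv4 F43237) F130824 D70496 F87940 F43232
theorem E14182 : n75920 = n54684 := ((c15_4 (iv0 D75920) (iv0 F130821) (iv7 D71554) (iv2 F86499))).symm
theorem F131056 : act 1 n54684 = n34698 := (sb E14182 (iv0 D75920))
theorem F131057 : act 3 n76048 = n48934 := d7_1 F130816 (iv6 D48934) D48933
theorem F131058 : act 5 n76048 = n76041 := d12_1 F130816 (iv6 D76041) (iv5 D34741) D34742 (iv5 F77151)
theorem F131059 : act 0 n59982 = n76041 := d21_1 (iv5 F94461) (iv5 F131058) (iv6 F130816) F130813 (iv6 D31801) F26681 (iv1 D7139) D7140 (iv6 F24639) D31878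
theorem F131060 : act 2 n59984 = n76041 := d15_3 (iv0 F131059) (iv0 D59982) D59984
theorem F131061 : act 7 n76041 = n48934 := d4_2 D59984 F131060 F77153
theorem F131062 : act 4 n69541 = n76041 := d11_3 F131061 F77154 D69541
theorem F131063 : act 1 n53893 = n76041 := d15_1 (iv0 F122600) F131061 F77153
theorem F131064 : act 6 n76040 = n69541 := d10_0 F131062 (iv6 D76041) D76040
theorem F131065 : act 7 n54270 = n76040 := d14_0 F131064 (iv7 D69541) (iv6 D32283) F43202 D54270
theorem F131066 : act 2 n76040 = n69530 := d4_1 F131065 (iv7 D69530) (iv2 F85610)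
theorem F131067 : act 1 n69528 = n76040 := d15_1 D69528 (iv7 F131065) F85610
theorem F131068 : act 1 n76040 = n69527 := d15_0 (iv0 D69527) D69530 (iv2 F131066)
theorem E14183 : n69527 = n69454 := (c18_7 F51340 (iv4 F51824) F130793 F54963 D34741 D76040 F131068 F105750 F87275 D32311)
theorem F131069 : act 0 n69454 = n76040 := (sb E14183 (iv1 F131068))
theorem F131071 : act 0 n55543 = n69451 := d20_4 D70133 F106520 (iv4 D55545) (iv3 F87835) F105749 (iv4 F105750) F131069 (iv4 D76040) F54968 (iv1 F51610)
theorem F131072 : act 1 n71969 = n69451 := d15_0 (iv0 F131071) F87836 (iv2 F130877)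
theorem F131073 : act 6 n76038 = n68600 := d21_5 D54004 (iv1 F113965) F131058 (iv6 D76041) D76038 (iv5 D68600) (iv1 F85239) F85236 F41408 (iv1 F41313)
theorem F131074 : act 0 n76038 = n48932 := d21_4 D15051 D31911 D68600 (iv6 F131073) (iv6 D48932) (iv5 F57683) (iv1 F57688) F52087 F52090 (iv1 D15050)
theorem F131075 : act 7 n76038 = n68387 := d15_2 (iv0 F94902) (iv0 F131074) F104563
theorem F131076 : act 2 n68399 = n76038 := d4_3 F131075 F104563 D68399
theorem E14184 : n68600 = n68386 := ((c14_5 F131075 (iv6 D68387) (iv7 D31817) D31816 D68386 (iv6 F131073))).symm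
theorem F131077 : act 5 n68386 = n31911 := (sb E14184 (iv5 D68600))
theorem F131078 : act 6 n68386 = n76038 := (sb E14184 (iv6 F131073))
theorem E14185 : n68602 = n54028 := (c13_3 D68386 F131077 D68602 (iv5 F85234))
theorem F131079 : act 2 n54028 = n31912 := (sb E14185 F104802)
theorem F131080 : act 7 n54028 = n31911 := (sb E14185 (iv7 D68602))
theorem F131081 : act 7 n68599 = n68942 := d11_2 F131080 D68599 F105873
theorem E14186 : n68597 = n54027 := (c15_4 (iv0 D54027) D54028 F131080 D68597)
theorem F131082 : act 2 n54027 = n31911 := (sb E14186 (iv2 D68597))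
theorem F131083 : act 7 n54027 = n31912 := (sb E14186 (iv7 F104800))
theorem F131084 : act 2 n68601 = n54344 := d3_3 F85751 F131082 D68601
theorem E14187 : n54341 = n54319 := (c2_4 (iv5 F104801) F131084 (iv5 D54344) (iv2 F85750))
theorem F131085 : act 2 n54319 = n26266 := (sb E14187 F85750)
theorem F131086 : act 7 n54319 = n26265 := (sb E14187 (iv7 D54341))
theorem F131087 : act 7 n54337 = n73442 := d8_2 F131086 D54337 F110146
theorem F131088 : act 7 n54338 = n76738 := d11_2 F131086 D54338 F130255
theorem F131089 : act 7 n54339 = n68601 := d13_2 F131086 D54339 F104801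
theorem E14188 : n54336 = n54318 := (c15_4 (iv0 D54318) D54319 F131086 D54336)
theorem F131090 : act 2 n54318 = n26265 := (sb E14188 (iv2 D54336))
theorem F131091 : act 7 n54318 = n26266 := (sb E14188 (iv7 F85747))
theorem F131092 : act 2 n54340 = n62841 := d3_3 F98064 F131090 D54340
theorem E14189 : n62838 = n34255 := (c2_4 (iv5 F85748) F131092 (iv5 D62841) (iv2 F98063))
theorem E14190 : n74759 = n29736 := (((iv2 F112202)).symm.trans (sb E14189 F98063))
theorem E14191 : n74755 = n29735 := ((F112198).symm.trans (sb E14189 (iv7 D62838)))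
theorem F131093 : act 2 n29736 = n34255 := (sb E14190 F112202)
theorem E14192 : n62834 = n34254 := ((F98062).symm.trans (sb E14190 (iv7 D74759)))
theorem E14193 : n68383 = n53990 := (((F85170).symm.trans (sb E14191 F112197))).symm
theorem F131094 : act 7 n29735 = n34255 := (sb E14191 (iv7 F112198))
theorem F131095 : act 2 n34254 = n29735 := (sb E14192 (iv2 D62834))
theorem F131096 : act 7 n34254 = n29736 := (sb E14192 (iv7 F98062))
theorem F131097 : act 2 n53990 = n31820 := (sb E14193 F104560)
theorem E14194 : n31817 = n26109 := ((((iv5 D53990)).symm.trans (sb E14193 F104561))).symm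
theorem F131098 : act 7 n53990 = n31815 := (sb E14193 (iv7 D68383))
theorem E14195 : n68362 = n12373 := ((((iv1 D26109)).symm.trans (sb E14194 (iv1 F104540)))).symm
theorem E14197 : n53987 = n14974 := (((iv2 F85169)).symm.trans (sb E14194 F50117))
theorem E14198 : n68373 = n53988 := (((D53988).symm.trans (sb E14194 (iv3 F104549)))).symm
theorem E14199 : n68379 = n53989 := (((D53989).symm.trans (sb E14194 (iv4 F104553)))).symm
theorem E14200 : n68387 = n53991 := (((D53991).symm.trans (sb E14194 D68387))).symm
theorem E14201 : n53982 = n14973 := ((F85167).symm.trans (sb E14194 (iv7 D31817)))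
theorem E14202 : n31812 = n26108 := (((D26108).symm.trans (sb E14195 (iv1 D68362)))).symm
theorem F131099 : act 2 n14974 = n26109 := (sb E14197 F85169)
theorem F131100 : act 7 n53988 = n31813 := (sb E14198 (iv7 D68373))
theorem F131101 : act 2 n53989 = n31819 := (sb E14199 F104552)
theorem F131102 : act 7 n53989 = n31814 := (sb E14199 (iv7 D68379))
theorem F131103 : act 2 n53991 = n31821 := (sb E14200 F104563)
theorem F131104 : act 7 n53991 = n76038 := (sb E14200 (iv7 F131075))
theorem F131105 : act 7 n14973 = n26109 := (sb E14201 (iv7 F85167))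
theorem F131106 : act 2 n26108 = n14973 := (sb E14202 (iv2 D31812))
theorem E14203 : n68363 = n53983 := (((D53983).symm.trans (sb E14202 D68363))).symm
theorem E14204 : n68364 = n53984 := (((D53984).symm.trans (sb E14202 D68364))).symm
theorem E14205 : n68365 = n53985 := (((D53985).symm.trans (sb E14202 D68365))).symm
theorem E14206 : n68366 = n53986 := (((D53986).symm.trans (sb E14202 D68366))).symm
theorem F131107 : act 7 n26108 = n14974 := (sb E14202 (iv7 F50116))
theorem F131108 : act 7 n53983 = n31818 := (sb E14203 F104541)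
theorem F131109 : act 2 n53984 = n31814 := (sb E14204 F104542)
theorem F131110 : act 7 n53984 = n31819 := (sb E14204 F104543)
theorem F131111 : act 2 n53985 = n31815 := (sb E14205 F104544)
theorem F131112 : act 7 n53985 = n31820 := (sb E14205 F104545)
theorem F131113 : act 2 n53986 = n31816 := (sb E14206 F104546)
theorem F131114 : act 7 n74758 = n62841 := d15_2 (iv0 F122477) (iv0 F122476) (iv2 F131092)
theorem F131115 : act 7 n54345 = n68398 := d14_4 F131114 F98064 F131091 D54345 (iv6 F112201)
theorem E14207 : n68399 = n59975 := (c13_3 F131115 (iv5 D68398) D68399 (iv5 F94458))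
theorem F131116 : act 2 n59975 = n76038 := (sb E14207 F131076)
theorem F131117 : act 7 n59975 = n31821 := (sb E14207 (iv7 D68399))
theorem F131118 : act 7 n68396 = n69585 := d11_2 F131117 (iv4 F104566) F105877
theorem F131119 : act 2 n68396 = n69584 := d15_3 (iv0 D69584) D69585 (iv7 F131118)
theorem F131120 : act 4 n69584 = n53991 := d1_2 (iv4 F104566) F131119 F131103
theorem F131121 : act 6 n69584 = n53989 := d3_2 D68396 F131119 F131101
theorem F131122 : act 7 n62839 = n74756 := d8_2 F131096 D62839 (iv3 D74756)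
theorem F131123 : act 7 n62840 = n74757 := d11_2 F131096 D62840 (iv4 D74757)
theorem F131124 : act 2 n74757 = n74441 := d15_3 (iv0 D74441) (iv0 F110447) F131123
theorem E14208 : n74441 = n62836 := (c1_2 D74757 F131124 (iv4 D62836) (iv2 F131095))
theorem F131125 : act 0 n62836 = n65073 := (sb E14208 (iv1 F111729))
theorem F131126 : act 1 n62836 = n34144 := (sb E14208 (iv0 D74441))
theorem F131127 : act 2 n62836 = n74757 := (sb E14208 (iv2 F131124))
theorem F131128 : act 2 n62837 = n74758 := d2_3 (iv5 D74758) F131095 D62837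
theorem F131130 : act 1 n49035 = n62841 := d15_1 (iv0 F109941) (iv7 F131114) (iv2 F131128)
theorem F131131 : act 7 n74760 = n62835 := d8_2 F131094 D74760 (iv3 D62835)
theorem F131132 : act 7 n65071 = n62836 := d11_2 F131094 (iv4 F130295) (iv4 D62836)
theorem F131133 : act 2 n62840 = n65071 := d4_3 F131132 F131127 (iv7 F131123)
theorem F131138 : act 2 n74762 = n62842 := d3_3 (iv6 D62842) F131093 D74762
theorem F131139 : act 1 n62842 = n70239 := d15_0 (iv0 F106693) (iv7 F112204) F131138
theorem F131140 : act 2 n54338 = n76737 := d15_3 (iv0 D76737) D76738 (iv7 F131088)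
theorem F131141 : act 4 n76737 = n54318 := d1_2 D54338 F131140 F131090
theorem F131142 : act 7 n54343 = n76737 := d11_0 F131141 F131091 D54343
theorem F131143 : act 2 n76738 = n54343 := d4_3 F131142 (iv2 F131140) F131088
theorem E14210 : n73435 = n73400 := (c11_3 F131087 (iv4 D73442) F110144 F110097)
theorem F131144 : act 2 n73400 = n33774 := (sb E14210 (iv2 D73435))
theorem F131148 : act 2 n73437 = n54337 := d1_3 (iv4 F110097) F131144 D73437
theorem F131149 : act 2 n68942 = n68604 := d15_3 F110682 (iv0 F110680) F131081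
theorem F131150 : act 2 n68599 = n68941 := d15_3 (iv0 D68941) D68942 (iv7 F131081)
theorem F131151 : act 4 n68941 = n54027 := d1_2 D68599 F131150 F131082
theorem F131152 : act 7 n68941 = n68604 := d4_2 (iv7 F131081) F131150 (iv2 F131149)
theorem F131153 : act 1 n68599 = n54102 := d15_0 F110681 (iv7 F131152) (iv2 F131150)
theorem E14212 : n69562 = n69317 := ((c20_7 (iv4 F41656) (iv1 F41659) F37328 D48933 F130813 (iv3 F104524) (iv4 F105593) (iv1 D69562) (iv4 D32297) (iv3 D15226) (iv1 F20717))).symm
theorem F131154 : act 0 n69317 = n32297 := (sb E14212 (iv1 D69562))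
theorem E14213 : n71551 = n55536 := (c20_8 F12398 (iv1 F9424) D12833 D26842 (iv1 F130803) (iv3 F51992) (iv4 F52317) D71551 (iv4 D55536) (iv3 D26806) (iv1 F21286))
theorem F131155 : act 1 n55536 = n33095 := (sb E14213 (iv0 D71551))
theorem F131156 : act 0 n81591 = n70381 := d20_4 F61589 (iv1 F61588) (iv4 F117104) D81591 F106866 F51755 F130801 (iv4 F54963) (iv3 D34728) D34726
theorem E14214 : n70431 = n49033 := ((c20_1 D49033 (iv1 D70431) F51761 (iv3 F52622) F130785 (iv3 D16287) D16288 D33712 D73257 F109717 (iv1 D49031))).symm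
theorem F131157 : act 0 n49033 = n32687 := (sb E14214 (iv1 D70431))
theorem E14215 : n70430 = n60372 := ((c15_4 (iv0 D70430) (iv0 F131157) F77395 (iv2 F94888))).symm
theorem F131158 : act 1 n60372 = n32687 := (sb E14215 (iv0 D70430))
theorem E14216 : n55021 = n17417 := (c20_11 (iv4 F51761) (iv1 F131158) (iv4 D60372) (iv3 F77362) (iv1 F77366) D60401 (iv4 F94917) (iv1 F87018) (iv4 D26600) D26599 D55021)
theorem E14217 : n35978 = n26599 := ((D35978).symm.trans (sb E14216 (iv0 D55021)))
theorem F131159 : act 0 n26599 = n17417 := (sb E14217 (iv1 D35978))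
theorem E14218 : n55146 = n55022 := (((D55022).symm.trans (sb E14217 (iv0 F130739)))).symm
theorem E14219 : n79054 = n55023 := (((D55023).symm.trans (sb E14217 (iv2 F120263)))).symm
theorem E14222 : n79057 = n55025 := (((D55025).symm.trans (sb E14217 D79057))).symm
theorem E14224 : n79050 = n54994 := ((((iv7 F87003)).symm.trans (sb E14217 F120262))).symm
theorem F131160 : act 1 n55022 = n35977 := (sb E14218 F130740)
theorem F131162 : act 3 n55022 = n26653 := (sb E14218 (iv3 D55146))
theorem F131163 : act 5 n55022 = n75932 := (sb E14218 F130742)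
theorem F131164 : act 6 n55022 = n35982 := (sb E14218 F130743)
theorem F131166 : act 7 n55023 = n35977 := (sb E14219 (iv7 D79054))
theorem F131167 : act 6 n55025 = n69755 := (sb E14222 F120264)
theorem F131168 : act 2 n54994 = n35977 := (sb E14224 (iv2 D79050))
theorem F131169 : act 0 n60402 = n73314 := d20_1 D60402 (iv4 D73314) (iv3 F130770) (iv1 D72326) F52622 (iv4 F51761) (iv1 F131158) (iv4 D60372) (iv3 F77362) (iv1 F77366)
theorem F131170 : act 1 n60402 = n72789 := d15_1 (iv0 F131169) F110001 (iv2 F109809)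
theorem E14225 : n79051 = n55000 := (c0_3 D54994 F131168 D79051 (iv2 D55000) (iv3 D26594) D26593)
theorem F131171 : act 3 n55000 = n35977 := (sb E14225 (iv3 D79051))
theorem F131172 : act 3 n69755 = n55031 := d7_1 F131167 (iv6 D55031) (iv3 F87026)
theorem F131173 : act 5 n73955 = n72057 := d2_2 F130784 (iv2 F110736) F108526
theorem F131174 : act 5 n73956 = n72063 := d6_2 F130784 D73956 F108528
theorem F131175 : act 5 n73959 = n72068 := d12_3 D33279 F130784 D73959 (iv6 D72068) (iv5 D33278)
theorem F131176 : act 5 n73950 = n72072 := d13_3 (iv7 D72072) F130784 F110735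
theorem F131177 : act 2 n72072 = n73953 := d2_1 F131176 (iv5 D73953) D73950
theorem F131178 : act 7 n73953 = n72057 := d4_2 D72072 F131177 F108526
theorem F131179 : act 1 n73953 = n54282 := d15_0 F130936 D72072 F131177
theorem F131180 : act 1 n69603 = n73953 := d15_0 F131179 F85647 (iv2 F105885)
theorem E14226 : n73954 = n68837 := (c21_4 D54282 (iv1 F131179) (iv5 D73953) D73954 (iv1 D68837) (iv6 D32018) (iv5 D15106) (iv1 F20655) D26141 D54035 F130860)
theorem F131181 : act 6 n68837 = n33948 := (sb E14226 (iv6 D73954))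
theorem E14227 : n73660 = n55157 := ((c21_4 (iv5 D73953) (iv1 F87251) (iv5 D55156) D55157 (iv1 D73660) (iv6 D33848) D33847 (iv1 F113747) (iv5 F110396) F130925 (iv1 F131179))).symm
theorem F131182 : act 0 n55157 = n33848 := (sb E14227 (iv1 D73660))
theorem F131183 : act 6 n75120 = n73953 := d21_5 D73661 F130992 (iv5 D34398) D34399 D75120 (iv5 D73953) (iv1 F87251) (iv5 D55156) D55157 F131182
theorem E14228 : n75120 = n72056 := ((c14_1 D72056 F131183 F131178 (iv6 D72057) (iv7 D33275) D33274)).symm
theorem F131184 : act 1 n72056 = n34399 := (sb E14228 (iv0 D75120))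
theorem F131185 : act 6 n72056 = n73953 := (sb E14228 F131183)
theorem F131186 : act 5 n55071 = n72056 := d21_8 (iv5 D69603) (iv1 F130861) F85253 (iv6 D26382) F26953 D12720 D26616 D55071 F131185 (iv1 F131180)
theorem F131187 : act 7 n72055 = n55071 := d13_0 F131186 (iv7 D72056) D72055
theorem E14229 : n72070 = n69603 := (c15_1 D72070 F131180 F131178 F108526)
theorem F131188 : act 0 n69603 = n33279 := (sb E14229 (iv1 D72070))
theorem F131189 : act 5 n73972 = n69451 := d21_6 F130784 (iv1 D33949) (iv5 D16410) D16411 D33952 D73972 (iv1 F131072) (iv5 D71969) F130870 F131188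
theorem F131190 : act 3 n69456 = n73972 := d6_3 F131189 F105749 D69456
theorem E14230 : n73971 = n54582 := ((c12_5 D73972 F131189 (iv6 D69451) D69450 F112122 (iv5 D73971))).symm
theorem F131191 : act 5 n54582 = n33952 := (sb E14230 (iv5 D73971))
theorem E14231 : n74925 = n73969 := ((c6_2 F131191 D73969 (iv5 D74925) (iv3 F112121))).symm
theorem F131192 : act 5 n73969 = n34334 := (sb E14231 (iv5 D74925))
theorem F131193 : act 6 n73969 = n69456 := (sb E14231 F112447)
theorem F131194 : act 5 n72049 = n73649 := d21_0 (iv1 D73649) F108323 (iv6 F110346) (iv1 D39348) D39350 D85104 F131038 F131175 (iv6 D72068) (iv1 F108520)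
theorem F131195 : act 7 n60306 = n72368 := d11_2 F130775 F110589 F108846
theorem E14232 : n60307 = n60199 := ((c15_4 F94851 F94855 F131195 F108845)).symm
theorem F131196 : act 0 n60199 = n28649 := (sb E14232 (iv1 D60307))
theorem F131197 : act 1 n60199 = n28654 := (sb E14232 F94851)
theorem E14233 : n79069 = n79052 := ((c20_1 D79052 (iv1 F120283) (iv4 D60364) (iv3 F110586) (iv1 D60323) (iv3 D28653) D28654 (iv1 F131197) F94754 F52622 D35977)).symm
theorem F131198 : act 0 n79052 = n60364 := (sb E14233 (iv1 F120283))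
theorem F131199 : act 1 n79052 = n35984 := (sb E14233 (iv0 D79069))
theorem E14234 : n73751 = n55000 := (c20_5 D60325 (iv1 F110465) (iv4 D33886) D33885 D73751 F131171 D79052 F131198 (iv4 D60364) (iv3 F110586) (iv1 D60323))
theorem F131200 : act 1 n55000 = n33885 := (sb E14234 (iv0 D73751))
theorem E14235 : n73752 = n55004 := (c15_2 F131200 D73752 (iv7 D55004) D55000)
theorem F131201 : act 0 n55004 = n33885 := (sb E14235 (iv1 D73752))
theorem E14236 : n60401 = n60300 := ((c20_5 (iv4 F94754) F131196 (iv4 D28649) D28648 D60300 (iv3 D60401) D60402 F131169 (iv4 D73314) (iv3 F130770) (iv1 D72326))).symm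
theorem F131202 : act 3 n60300 = n28686 := (sb E14236 (iv3 D60401))
theorem F131203 : act 4 n60300 = n55005 := (sb E14236 (iv4 F94917))
theorem F131204 : act 5 n54559 = n73979 := d21_0 (iv1 D73979) (iv5 D33954) (iv6 D16411) F130762 (iv6 D16011) (iv5 D7489) (iv1 F9293) D12591 D26384 D54559
theorem E14237 : n73966 = n54039 := ((c21_4 F41615 (iv1 F26920) F41446 D54039 (iv1 D73966) (iv6 D33951) (iv5 D16410) F130762 (iv5 F50379) (iv6 D32011) (iv1 F41617))).symm
theorem F131205 : act 0 n54039 = n33951 := (sb E14237 (iv1 D73966))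
theorem F131206 : act 2 n73979 = n54576 := d2_1 F131204 (iv5 D54576) (iv2 F86914)
theorem F131207 : act 7 n73979 = n54580 := d13_2 (iv7 F86915) F131204 (iv5 D54580)
theorem F131208 : act 2 n54580 = n73978 := d15_3 (iv0 D73978) D73979 F131207
theorem F131209 : act 7 n54576 = n73978 := d4_2 (iv7 F131207) F131206 (iv2 F131208)
theorem F131211 : act 5 n73978 = n54560 := d13_1 F131209 F86917 D54576
theorem F131212 : act 0 n60189 = n72368 := d20_1 D60189 F108846 F52665 (iv1 F130735) (iv3 D12735) F41667 (iv1 F13880) F12876 (iv3 F22814) (iv1 F46176)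
theorem F131213 : act 5 n55162 = n71863 := d21_2 D26657 D55162 (iv6 D71863) (iv1 D33209) (iv6 D16029) (iv5 D7497) (iv1 F9294) D12589 D26382 (iv1 F130735)
def n85561 : Q := act 0 n39510
theorem D85561 : act 0 n39510 = n85561 := rfl
def n85562 : Q := act 1 n39510
theorem D85562 : act 1 n39510 = n85562 := rfl
def n85563 : Q := act 2 n39510
theorem D85563 : act 2 n39510 = n85563 := rfl
def n85564 : Q := act 5 n39510
theorem D85564 : act 5 n39510 = n85564 := rfl
def n85565 : Q := act 4 n39511
theorem D85565 : act 4 n39511 = n85565 := rfl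
def n85567 : Q := act 0 n39538
theorem D85567 : act 0 n39538 = n85567 := rfl
def n85568 : Q := act 1 n39538
theorem D85568 : act 1 n39538 = n85568 := rfl
def n85569 : Q := act 2 n39538
theorem D85569 : act 2 n39538 = n85569 := rfl
def n85570 : Q := act 5 n39538
theorem D85570 : act 5 n39538 = n85570 := rfl
theorem F131216 : act 3 n85570 = n39539 := d6_1 D85570 (iv5 D39539) D39538
def n85573 : Q := act 6 n39539
theorem D85573 : act 6 n39539 = n85573 := rfl
def n85574 : Q := act 5 n39540
theorem D85574 : act 5 n39540 = n85574 := rfl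
theorem F131220 : act 2 n85574 = n39556 := d2_1 D85574 (iv5 D39556) (iv2 F60422)
theorem F131221 : act 7 n85574 = n81669 := d13_2 F60425 D85574 F125594
theorem F131223 : act 0 n85574 = n45219 := d21_7 D10309 (iv1 F33663) (iv5 D21432) D21433 F59766 D39540 D85574 (iv5 D45219) (iv6 D21577) (iv1 D10307)
def n85575 : Q := act 3 n39541
theorem D85575 : act 3 n39541 = n85575 := rfl
def n85576 : Q := act 0 n39543
theorem D85576 : act 0 n39543 = n85576 := rfl
def n85577 : Q := act 1 n39543
theorem D85577 : act 1 n39543 = n85577 := rfl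
theorem F131225 : act 4 n83005 = n85577 := d20_6 (iv4 D18268) (iv1 D8615) (iv4 F13526) (iv3 F29451) D38203 D83005 (iv1 D85577) (iv4 F128022) (iv3 D83065) (iv1 F59096)
def n85578 : Q := act 2 n39543
theorem D85578 : act 2 n39543 = n85578 := rfl
def n85579 : Q := act 5 n39543
theorem D85579 : act 5 n39543 = n85579 := rfl
def n85582 : Q := act 2 n39545
theorem D85582 : act 2 n39545 = n85582 := rfl
theorem F131227 : act 7 n39546 = n85582 := d15_2 (iv0 D39545) D39546 (iv2 D85582)
def n85583 : Q := act 3 n39545
theorem D85583 : act 3 n39545 = n85583 := rfl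
def n85585 : Q := act 6 n39545
theorem D85585 : act 6 n39545 = n85585 := rfl
def n85590 : Q := act 5 n39547
theorem D85590 : act 5 n39547 = n85590 := rfl
theorem F131229 : act 2 n85590 = n39548 := d2_1 D85590 (iv5 D39548) D39547
def n85591 : Q := act 6 n39547
theorem D85591 : act 6 n39547 = n85591 := rfl
theorem F131230 : act 2 n85591 = n39549 := d3_1 D85591 (iv6 D39549) D39547
theorem F131231 : act 4 n85591 = n39602 := d10_1 D85591 (iv6 D39602) (iv4 F60431)
def n85592 : Q := act 0 n39548
theorem D85592 : act 0 n39548 = n85592 := rfl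
def n85593 : Q := act 1 n39548
theorem D85593 : act 1 n39548 = n85593 := rfl
def n85596 : Q := act 0 n39549
theorem D85596 : act 0 n39549 = n85596 := rfl
def n85597 : Q := act 1 n39549
theorem D85597 : act 1 n39549 = n85597 := rfl
def n85599 : Q := act 2 n39550
theorem D85599 : act 2 n39550 = n85599 := rfl
theorem F131234 : act 7 n39551 = n85599 := d15_2 (iv0 D39550) D39551 (iv2 D85599)
def n85602 : Q := act 5 n39550
theorem D85602 : act 5 n39550 = n85602 := rfl
theorem F131235 : act 1 n85602 = n55600 := d17_8 (iv1 F113879) (iv5 D39560) (iv1 F29977) (iv5 F29973) D27868 D58575 F92540 D85602 (iv4 D55600)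
theorem F131236 : act 6 n85602 = n45055 := d21_3 D18732 D39550 D85602 (iv1 D45055) (iv6 D21514) F16262 (iv1 F29105) F29106 D18485 F59762
theorem F131237 : act 2 n45239 = n85602 := d3_3 F131236 F118268 D45239
theorem F131238 : act 4 n46227 = n85602 := d10_3 F131236 F118318 D46227
theorem E14238 : n85599 = n58585 := (c2_4 F92561 F131237 (iv5 D85602) D85599)
theorem F131239 : act 2 n58585 = n39550 := (sb E14238 (iv2 D85599))
theorem F131240 : act 7 n58585 = n39551 := (sb E14238 (iv7 F131234))
theorem F131241 : act 2 n39551 = n58584 := d15_3 (iv0 D58584) D58585 F131240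
theorem F131242 : act 7 n39550 = n58584 := d4_2 (iv7 F131240) F131239 (iv2 F131241)
theorem F131243 : act 7 n76009 = n85602 := d13_2 F131242 (iv5 F113905) (iv5 D85602)
theorem F131244 : act 6 n84454 = n76009 := d14_5 F131243 F131236 F118269 D45235 (iv7 F129596)
theorem F131245 : act 1 n75979 = n85602 := d15_0 F131235 F87944 (iv2 F113870)
theorem F131246 : act 1 n46227 = n80444 := d18_8 F113856 F30747 (iv1 F59777) (iv4 D34723) D34724 D75979 F131245 (iv4 F131238) (iv5 D80444)
def n85603 : Q := act 6 n39550
theorem D85603 : act 6 n39550 = n85603 := rfl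
def n85604 : Q := act 3 n39551
theorem D85604 : act 3 n39551 = n85604 := rfl
def n85606 : Q := act 5 n39551
theorem D85606 : act 5 n39551 = n85606 := rfl
theorem F131248 : act 7 n85606 = n45239 := d13_2 F131240 D85606 (iv5 F92561)
theorem F131250 : act 1 n55600 = n85606 := d15_1 F131235 F131248 F131237
def n85607 : Q := act 6 n39551
theorem D85607 : act 6 n39551 = n85607 := rfl
def n85611 : Q := act 5 n39552
theorem D85611 : act 5 n39552 = n85611 := rfl
def n85617 : Q := act 2 n39554
theorem D85617 : act 2 n39554 = n85617 := rfl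
theorem F131254 : act 7 n39555 = n85617 := d15_2 (iv0 D39554) D39555 (iv2 D85617)
def n85618 : Q := act 3 n39554
theorem D85618 : act 3 n39554 = n85618 := rfl
def n85619 : Q := act 4 n39554
theorem D85619 : act 4 n39554 = n85619 := rfl
theorem F131256 : act 3 n85619 = n41435 := d20_9 (iv4 F127972) (iv1 F127975) F59476 (iv3 F117944) (iv1 D8800) (iv3 F13661) (iv4 F29976) D39554 D85619 (iv1 F118348)
theorem F131257 : act 4 n85618 = n84112 := d5_2 (iv4 D85619) D85618 (iv3 D84112) F118349 (iv3 F131256)
theorem F131259 : act 6 n41432 = n85619 := d7_0 F131256 (iv6 D41435) D41432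
theorem F131260 : act 0 n85619 = n44910 := d20_4 D18444 (iv1 F59662) F118349 (iv3 F131256) (iv3 F90913) (iv4 F90931) (iv1 F90991) (iv4 D57829) (iv3 F120574) (iv1 F29595)
theorem F131261 : act 6 n39554 = n58107 := d10_2 F131259 (iv4 D85619) F118370
theorem E14239 : n85617 = n39568 := ((c3_3 F131261 F118153 (iv6 F120558) (iv2 D85617))).symm
theorem F131262 : act 2 n39568 = n39554 := (sb E14239 (iv2 D85617))
theorem F131263 : act 7 n39568 = n39555 := (sb E14239 (iv7 F131254))
theorem F131264 : act 5 n75991 = n39554 := d21_2 D34729 D75991 F131261 (iv1 D58107) (iv6 D27703) F22025 (iv1 F29675) F29677 D21577 F59814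
theorem F131265 : act 2 n39555 = n39567 := d15_3 (iv0 D39567) D39568 F131263
theorem F131266 : act 7 n39554 = n39567 := d4_2 (iv7 F131263) F131262 (iv2 F131265)
def n85621 : Q := act 4 n39555
theorem D85621 : act 4 n39555 = n85621 := rfl
theorem F131268 : act 0 n85621 = n44584 := d17_0 F70113 (iv1 D21435) (iv5 F30748) F30747 D37327 (iv0 F60437) (iv5 D39556) D39555 D85621
theorem F131269 : act 1 n85621 = n44910 := d18_8 (iv1 F33669) F59770 (iv1 D27871) (iv4 D13290) F13662 (iv4 F29976) D39555 D85621 (iv5 D44910)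
theorem F131270 : act 3 n85621 = n79256 := d20_9 (iv4 F121704) (iv1 F122026) F117560 (iv3 D39724) (iv1 F44951) F44948 D39541 (iv1 F60436) D85621 (iv1 F121604)
theorem F131271 : act 5 n80651 = n85621 := d6_0 F131270 F121602 (iv3 F124045)
theorem F131272 : act 6 n79489 = n85621 := d7_0 F131270 F121603 (iv3 F122083)
theorem F131273 : act 0 n77628 = n56087 := d20_7 D39541 (iv1 F60436) D85621 F131270 (iv1 F121604) (iv3 F91180) D77628 (iv4 F118404) F118403 (iv1 F29983)
def n85622 : Q := act 6 n39555
theorem D85622 : act 6 n39555 = n85622 := rfl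
theorem F131274 : act 4 n85622 = n79489 := d10_1 D85622 F131272 (iv4 D85621)
theorem F131275 : act 7 n85622 = n79481 := d14_2 F131263 D85622 (iv6 D79481) F118130 (iv6 F120558)
def n85623 : Q := act 1 n39556
theorem D85623 : act 1 n39556 = n85623 := rfl
theorem F131276 : act 1 n85623 = n81669 := d15_1 D85623 (iv7 F131221) F131220
theorem F131277 : act 7 n85623 = n45219 := d15_2 (iv0 F60437) D85623 F71281
theorem F131278 : act 5 n85623 = n45220 := d17_7 (iv1 F116653) (iv5 F116696) (iv1 D13288) F13662 (iv4 F29976) D39556 D85623 F71287 (iv4 D34723)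
def n85625 : Q := act 0 n39559
theorem D85625 : act 0 n39559 = n85625 := rfl
theorem F131283 : act 4 n85625 = n44584 := d18_3 D18734 D39559 D85625 F70113 (iv4 F116756) F116754 (iv4 D18718) (iv0 D8781) D8785
theorem F131285 : act 2 n81537 = n85625 := d1_3 F131283 F90444 (iv4 F125410)
theorem F131286 : act 6 n44582 = n85625 := d10_0 F131283 (iv6 D44584) D44582
def n85626 : Q := act 1 n39559
theorem D85626 : act 1 n39559 = n85626 := rfl
theorem F131288 : act 7 n85626 = n81537 := d15_2 (iv0 D85625) D85626 F131285
theorem F131289 : act 4 n44910 = n85626 := d20_0 (iv1 D85626) (iv4 D39559) (iv3 F123057) (iv1 D38781) F29603 D18444 (iv1 F59662) F118349 (iv3 F131256) F131260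
theorem F131290 : act 6 n84478 = n85626 := d14_5 F131288 (iv6 D81537) F116753 (iv6 F125696) (iv7 F129605)
def n85627 : Q := act 3 n39559
theorem D85627 : act 3 n39559 = n85627 := rfl
def n85628 : Q := act 5 n39559
theorem D85628 : act 5 n39559 = n85628 := rfl
theorem F131291 : act 0 n85628 = n81589 := d17_2 (iv1 D85626) D85628 (iv5 D81589) (iv4 F117096) D79105 (iv0 F124048) F131271 F131269 F131289
theorem F131292 : act 1 n85628 = n81592 := d17_6 F116652 D26840 (iv1 F113879) (iv5 D39560) D39559 D85628 (iv5 D81592) F71236 F71233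
theorem E14240 : n81793 = n81590 := ((c21_4 D85628 F131291 (iv5 D81589) D81590 (iv1 D81793) (iv6 D37397) D37396 (iv1 F125682) F129607 F131290 (iv1 D85626))).symm
theorem F131293 : act 0 n81590 = n37397 := (sb E14240 (iv1 D81793))
def n85629 : Q := act 6 n39559
theorem D85629 : act 6 n39559 = n85629 := rfl
theorem F131294 : act 4 n85629 = n39561 := d10_1 D85629 (iv6 D39561) D39559
theorem F131295 : act 7 n85629 = n58153 := d14_2 (iv7 F117018) D85629 (iv6 D58153) (iv7 F116953) (iv6 F117020)
def n85630 : Q := act 4 n39560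
theorem D85630 : act 4 n39560 = n85630 := rfl
theorem F131296 : act 2 n85630 = n45280 := d1_1 D85630 F71338 (iv2 F116943)
theorem F131298 : act 7 n85630 = n76001 := d11_2 (iv7 F116945) D85630 (iv4 D76001)
def n85631 : Q := act 0 n39561
theorem D85631 : act 0 n39561 = n85631 := rfl
theorem F131299 : act 6 n85631 = n81482 := d21_5 D26840 (iv1 F113879) (iv5 D39560) D39561 D85631 F125333 (iv1 F71201) F58263 (iv6 F33958) F116652
theorem F131301 : act 1 n45292 = n85631 := d15_0 (iv0 D85631) F116968 (iv2 F116964)
theorem F131302 : act 7 n85631 = n45155 := d15_2 (iv0 F126057) F131301 (iv2 F126013)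
theorem F131303 : act 3 n81889 = n85631 := d8_3 F131302 F125980 D81889
def n85632 : Q := act 4 n39563
theorem D85632 : act 4 n39563 = n85632 := rfl
theorem F131305 : act 0 n40182 = n85632 := d20_1 (iv4 F61081) (iv4 D85632) (iv3 D39563) (iv1 D18735) F13660 D8796 D18768 (iv4 F30452) (iv3 F118074) (iv1 D40190)
def n85633 : Q := act 5 n39563
theorem D85633 : act 5 n39563 = n85633 := rfl
theorem F131307 : act 7 n85633 = n45277 := d13_2 F117021 D85633 F116800
theorem F131308 : act 0 n55483 = n85633 := d21_1 D55483 (iv5 D85633) F116821 (iv1 F120717) (iv6 D19831) (iv5 D9328) F12972 (iv5 F14063) D19162 (iv1 F116642)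
theorem F131309 : act 1 n81605 = n85633 := d15_0 (iv0 F131308) F115456 (iv2 F125509)
theorem F131310 : act 1 n40735 = n81605 := d15_0 F131309 F131307 F121025
def n85634 : Q := act 3 n39564
theorem D85634 : act 3 n39564 = n85634 := rfl
def n85635 : Q := act 5 n39564
theorem D85635 : act 5 n39564 = n85635 := rfl
def n85636 : Q := act 4 n39565
theorem D85636 : act 4 n39565 = n85636 := rfl
theorem F131315 : act 0 n85636 = n81628 := d18_2 (iv1 F116824) D85636 F125538 (iv5 D79107) (iv4 F117104) F71236 F71233 F116653 D34724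
def n85637 : Q := act 3 n39567
theorem D85637 : act 3 n39567 = n85637 := rfl
theorem F131317 : act 7 n85637 = n85618 := d8_2 F131266 D85637 (iv3 D85618)
def n85638 : Q := act 4 n39567
theorem D85638 : act 4 n39567 = n85638 := rfl
theorem F131321 : act 7 n85638 = n85619 := d11_2 F131266 D85638 (iv4 D85619)
theorem F131322 : act 0 n85638 = n44588 := d17_0 (iv5 D44588) (iv1 D21209) (iv5 F28423) (iv4 F33969) D45219 (iv0 F131223) (iv5 D85574) F60440 D85638
theorem F131323 : act 5 n85638 = n46227 := d18_4 (iv1 D18735) D18736 D39567 D85638 F131238 F131235 (iv4 D55600) (iv0 F116823) (iv5 D39565)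
theorem F131324 : act 1 n85638 = n44583 := d18_8 (iv1 F33671) (iv4 F59760) (iv1 F44994) (iv4 D27868) F29973 (iv4 F60423) F60440 D85638 (iv5 D44583)
def n85639 : Q := act 5 n39567
theorem D85639 : act 5 n39567 = n85639 := rfl
theorem F131326 : act 7 n85639 = n75991 := d13_2 F131266 D85639 F131264
theorem F131327 : act 0 n85639 = n75977 := d17_2 D39567 D85639 (iv5 D75977) (iv4 D34723) D34724 (iv0 F113878) (iv5 D39560) (iv0 D18734) D18736
theorem F131328 : act 1 n85639 = n55596 := d17_6 (iv1 F113857) D80444 (iv1 F131246) (iv5 F131323) (iv4 D85638) D85639 (iv5 D55596) F71286 F71284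
theorem E14241 : n81736 = n75978 := ((c21_4 D85639 F131327 (iv5 D75977) D75978 (iv1 D81736) (iv6 D37356) D37355 (iv1 F125640) (iv5 F125642) (iv6 D39571) D39567)).symm
theorem F131329 : act 0 n75978 = n37356 := (sb E14241 (iv1 D81736))
theorem F131330 : act 0 n81737 = n58671 := d17_2 F131329 D81737 (iv5 D58671) (iv4 D27898) D27899 (iv0 F126044) (iv5 D37401) (iv0 F116834) (iv4 F113869)
def n85640 : Q := act 6 n39567
theorem D85640 : act 6 n39567 = n85640 := rfl
theorem F131331 : act 2 n85640 = n85622 := d3_1 D85640 (iv6 D85622) F131265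
theorem F131332 : act 7 n85640 = n58128 := d14_2 F131266 D85640 (iv6 D58128) (iv7 F118154) (iv6 F131261)
def n85642 : Q := act 5 n39568
theorem D85642 : act 5 n39568 = n85642 := rfl
theorem F131340 : act 0 n75977 = n85642 := d21_1 D75977 (iv5 D85642) F120558 (iv1 D27710) (iv6 D13229) D13228 (iv1 F29096) (iv5 D17927) D17928 (iv1 F59777)
def n85643 : Q := act 0 n39569
theorem D85643 : act 0 n39569 = n85643 := rfl
theorem F131341 : act 1 n85591 = n85643 := d15_0 (iv0 D85643) F60443 (iv2 F131230)
def n85644 : Q := act 1 n39569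
theorem D85644 : act 1 n39569 = n85644 := rfl
theorem F131342 : act 4 n85289 = n85644 := d20_6 (iv4 F30452) (iv1 D19029) F28969 (iv3 F29935) D39409 D85289 (iv1 D85644) F60442 (iv3 D18770) D18768
def n85645 : Q := act 2 n39569
theorem D85645 : act 2 n39569 = n85645 := rfl
theorem F131343 : act 4 n85645 = n39641 := d1_2 (iv4 F60442) D85645 (iv2 D39641)
theorem F131344 : act 7 n85645 = n85591 := d4_2 (iv7 F60443) D85645 F131230
theorem F131346 : act 1 n85644 = n85591 := d15_1 D85644 (iv7 F131344) (iv2 D85645)
theorem F131347 : act 1 n85597 = n85645 := d15_1 D85597 F131344 F131230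
def n85646 : Q := act 5 n39569
theorem D85646 : act 5 n39569 = n85646 := rfl
def n85647 : Q := act 6 n39569
theorem D85647 : act 6 n39569 = n85647 := rfl
theorem F131351 : act 4 n85647 = n39643 := d10_1 D85647 (iv6 D39643) (iv4 F60442)
theorem F131352 : act 7 n85647 = n58583 := d14_2 (iv7 F60443) D85647 (iv6 D58583) F45000 D39549
def n85648 : Q := act 4 n39570
theorem D85648 : act 4 n39570 = n85648 := rfl
def n85649 : Q := act 6 n39570
theorem D85649 : act 6 n39570 = n85649 := rfl
def n85650 : Q := act 1 n39571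
theorem D85650 : act 1 n39571 = n85650 := rfl
theorem F131355 : act 7 n85650 = n58589 := d15_2 (iv0 F125441) D85650 (iv2 F92565)
theorem F131356 : act 4 n85650 = n56334 := d17_9 F121425 F121424 (iv1 F125466) (iv5 D45941) (iv4 F118922) D37350 D81722 (iv5 F125642) D85650
theorem F131357 : act 2 n58588 = n85650 := d1_3 F131356 (iv2 F119007) (iv4 F118940)
theorem F131358 : act 5 n81558 = n85650 := d17_3 (iv1 D37250) D37251 D81558 F131356 (iv5 D56334) F121329 F33646 D44888 F121332
theorem F131359 : act 6 n84451 = n85650 := d14_5 F131355 F92564 F89175 D38937 D84451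
def n85651 : Q := act 0 n39576
theorem D85651 : act 0 n39576 = n85651 := rfl
theorem F131360 : act 4 n85651 = n44583 := d18_3 D18738 D39576 D85651 (iv5 D44583) D44582 F116724 F33897 (iv0 F116659) F13662
theorem F131362 : act 1 n39581 = n85651 := d15_0 (iv0 D85651) (iv7 F117018) F117023
def n85652 : Q := act 3 n39576
theorem D85652 : act 3 n39576 = n85652 := rfl
theorem F131366 : act 7 n85652 = n85627 := d8_2 F117018 D85652 (iv3 D85627)
def n85653 : Q := act 5 n39576
theorem D85653 : act 5 n39576 = n85653 := rfl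
theorem F131368 : act 7 n85653 = n85628 := d13_2 F117018 D85653 (iv5 D85628)
def n85654 : Q := act 4 n39580
theorem D85654 : act 4 n39580 = n85654 := rfl
theorem F131371 : act 0 n40186 = n85654 := d20_1 D40186 (iv4 D85654) (iv3 D39580) (iv1 D18739) F13661 (iv4 F13665) (iv1 F41778) F41780 (iv3 F43782) F118533
def n85655 : Q := act 6 n39580
theorem D85655 : act 6 n39580 = n85655 := rfl
theorem F131373 : act 5 n85655 = n40736 := d12_1 D85655 F121003 (iv5 D45276) D45277 F116800
def n85656 : Q := act 3 n39581
theorem D85656 : act 3 n39581 = n85656 := rfl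
theorem F131374 : act 7 n85656 = n85634 := d8_2 (iv7 F117022) D85656 (iv3 D85634)
def n85657 : Q := act 5 n39581
theorem D85657 : act 5 n39581 = n85657 := rfl
theorem F131376 : act 7 n85657 = n85635 := d13_2 (iv7 F117022) D85657 (iv5 D85635)
def n85658 : Q := act 6 n39581
theorem D85658 : act 6 n39581 = n85658 := rfl
theorem F131379 : act 4 n85658 = n39583 := d10_1 D85658 (iv6 D39583) D39581
def n85659 : Q := act 2 n39584
theorem D85659 : act 2 n39584 = n85659 := rfl
theorem F131380 : act 7 n39585 = n85659 := d15_2 (iv0 D39584) D39585 (iv2 D85659)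
def n85660 : Q := act 4 n39584
theorem D85660 : act 4 n39584 = n85660 := rfl
def n85661 : Q := act 5 n39584
theorem D85661 : act 5 n39584 = n85661 := rfl
def n85662 : Q := act 6 n39584
theorem D85662 : act 6 n39584 = n85662 := rfl
def n85663 : Q := act 7 n39584
theorem D85663 : act 7 n39584 = n85663 := rfl
theorem F131381 : act 2 n85663 = n39585 := d4_1 D85663 F131380 (iv2 D85659)
def n85664 : Q := act 3 n39585
theorem D85664 : act 3 n39585 = n85664 := rfl
def n85665 : Q := act 4 n39585
theorem D85665 : act 4 n39585 = n85665 := rfl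
def n85666 : Q := act 5 n39585
theorem D85666 : act 5 n39585 = n85666 := rfl
def n85667 : Q := act 6 n39585
theorem D85667 : act 6 n39585 = n85667 := rfl
theorem F131382 : act 5 n85667 = n70779 := d21_6 (iv5 D11186) (iv1 F12435) (iv5 F13868) D18997 (iv1 F60454) D85667 (iv1 D70779) (iv5 D32806) (iv6 D15705) F43060
def n85668 : Q := act 4 n39586
theorem D85668 : act 4 n39586 = n85668 := rfl
theorem F131383 : act 2 n85668 = n39587 := d1_1 D85668 (iv4 D39587) D39586
theorem F131384 : act 7 n85668 = n40140 := d11_2 (iv7 F60452) D85668 F61038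
theorem F131385 : act 0 n85668 = n40145 := d20_1 D85668 (iv4 F61046) (iv3 D39320) (iv1 D18650) (iv3 F22055) (iv4 F44444) D57660 (iv4 F90838) (iv3 D40232) (iv1 F60453)
theorem F131386 : act 1 n85668 = n40144 := d15_0 (iv0 D40144) (iv7 F60457) (iv2 F131383)
def n85669 : Q := act 5 n39586
theorem D85669 : act 5 n39586 = n85669 := rfl
theorem F131387 : act 2 n85669 = n39588 := d2_1 D85669 (iv5 D39588) D39586
theorem F131388 : act 7 n85669 = n40230 := d13_2 (iv7 F60452) D85669 (iv5 D40230)
theorem F131389 : act 1 n40242 = n85669 := d15_1 D40242 F131388 F61212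
theorem F131390 : act 1 n85669 = n40241 := d15_0 (iv0 D40241) (iv7 F60460) (iv2 F131387)
def n85670 : Q := act 0 n39587
theorem D85670 : act 0 n39587 = n85670 := rfl
theorem F131391 : act 2 n40145 = n85670 := d15_3 (iv0 D85670) (iv0 F60458) F130172
theorem F131392 : act 1 n40140 = n85670 := d15_0 (iv0 D85670) F60457 (iv2 F61037)
theorem F131393 : act 7 n85670 = n40144 := d15_2 (iv0 F90869) F131392 (iv2 F130173)
theorem F131394 : act 4 n85027 = n85670 := d11_3 F131393 F130174 (iv7 F130382)
theorem E14242 : n85014 = n58419 := (c20_11 F92276 (iv1 D39546) F29975 (iv3 D8790) D8788 D18741 D39587 D85670 (iv4 F131394) F130381 (iv1 F130358))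
theorem F131396 : act 1 n58419 = n39359 := (sb E14242 F130358)
def n85671 : Q := act 5 n39587
theorem D85671 : act 5 n39587 = n85671 := rfl
theorem F131398 : act 7 n85671 = n40146 := d13_2 (iv7 F60457) D85671 (iv5 D40146)
def n85672 : Q := act 0 n39588
theorem D85672 : act 0 n39588 = n85672 := rfl
theorem F131399 : act 1 n40230 = n85672 := d15_0 (iv0 D85672) F60460 (iv2 F61212)
theorem F131400 : act 5 n69829 = n85672 := d21_6 F37308 (iv1 D7247) D7250 D15321 D32426 D69829 (iv1 F131399) (iv5 D40230) (iv6 D18997) (iv1 F18161)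
def n85673 : Q := act 1 n39588
theorem D85673 : act 1 n39588 = n85673 := rfl
theorem F131401 : act 1 n85673 = n40230 := d15_1 D85673 (iv7 F131388) F131387
def n85674 : Q := act 4 n39588
theorem D85674 : act 4 n39588 = n85674 := rfl
theorem F131402 : act 7 n85674 = n40243 := d11_2 (iv7 F60460) D85674 (iv4 D40243)
theorem F131403 : act 0 n85155 = n85674 := d20_7 (iv4 F46263) (iv1 D18711) (iv4 D8773) (iv3 F13645) D18663 D39373 D85155 (iv4 D85674) F60459 (iv1 F46259)
theorem E14243 : n85153 = n85056 := ((c18_10 (iv1 D85153) D85155 F131403 (iv4 D85674) (iv5 D39588) D39587 (iv0 F60458) (iv4 D39337) D39335 D85056)).symm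
theorem F131404 : act 0 n85056 = n39373 := (sb E14243 (iv1 D85153))
def n85675 : Q := act 6 n39588
theorem D85675 : act 6 n39588 = n85675 := rfl
theorem F131405 : act 3 n85675 = n39590 := d7_1 D85675 (iv6 D39590) (iv3 F60459)
theorem F131406 : act 7 n85675 = n76264 := d14_2 (iv7 F60460) D85675 (iv6 D76264) (iv7 D34836) (iv6 F30329)
def n85676 : Q := act 3 n39589
theorem D85676 : act 3 n39589 = n85676 := rfl
theorem F131407 : act 5 n85676 = n69784 := d6_2 (iv5 F60463) D85676 (iv3 D69784)
theorem F131408 : act 7 n85676 = n40248 := d8_2 (iv7 F60462) D85676 (iv3 D40248)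
def n85677 : Q := act 6 n39589
theorem D85677 : act 6 n39589 = n85677 := rfl
theorem F131409 : act 2 n85677 = n85469 := d3_1 D85677 (iv6 D85469) (iv2 F60461)
theorem F131410 : act 4 n85677 = n39590 := d10_1 D85677 (iv6 D39590) D39589
theorem F131411 : act 5 n85677 = n68536 := d12_1 D85677 (iv6 D68536) F50190 (iv6 F51452) (iv5 F60463)
theorem F131412 : act 7 n85677 = n60443 := d14_2 (iv7 F60462) D85677 (iv6 D60443) F46271 (iv6 F30332)
def n85678 : Q := act 0 n39591
theorem D85678 : act 0 n39591 = n85678 := rfl
theorem F131413 : act 1 n39596 = n85678 := d15_0 (iv0 D85678) (iv7 F60467) (iv2 F60470)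
def n85680 : Q := act 3 n39591
theorem D85680 : act 3 n39591 = n85680 := rfl
theorem F131415 : act 7 n85680 = n39597 := d8_2 F60467 D85680 (iv3 D39597)
def n85681 : Q := act 4 n39591
theorem D85681 : act 4 n39591 = n85681 := rfl
theorem F131416 : act 2 n85681 = n39593 := d1_1 D85681 (iv4 D39593) D39591
theorem F131417 : act 7 n85681 = n39598 := d11_2 F60467 D85681 (iv4 D39598)
def n85682 : Q := act 5 n39591
theorem D85682 : act 5 n39591 = n85682 := rfl
theorem F131418 : act 2 n85682 = n39594 := d2_1 D85682 (iv5 D39594) D39591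
theorem F131419 : act 7 n85682 = n39599 := d13_2 F60467 D85682 (iv5 D39599)
def n85684 : Q := act 0 n39592
theorem D85684 : act 0 n39592 = n85684 := rfl
def n85685 : Q := act 2 n39592
theorem D85685 : act 2 n39592 = n85685 := rfl
theorem F131421 : act 4 n85685 = n85386 := d1_2 (iv4 F60468) D85685 F130649
theorem F131422 : act 7 n85383 = n85685 := d11_0 F131421 (iv7 D85386) D85383
theorem F131423 : act 1 n83715 = n85383 := d15_1 (iv0 F128775) F131422 (iv2 D85685)
def n85686 : Q := act 5 n39592
theorem D85686 : act 5 n39592 = n85686 := rfl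
theorem F131424 : act 3 n85686 = n39594 := d6_1 D85686 (iv5 D39594) D39592
def n85687 : Q := act 6 n39592
theorem D85687 : act 6 n39592 = n85687 := rfl
def n85688 : Q := act 7 n39592
theorem D85688 : act 7 n39592 = n85688 := rfl
theorem F131427 : act 2 n85688 = n85383 := d4_1 D85688 F131422 (iv2 D85685)
theorem F131428 : act 3 n85688 = n39596 := d8_1 D85688 (iv7 D39596) D39592
theorem F131429 : act 4 n85688 = n85381 := d11_1 D85688 (iv7 F130648) (iv4 F60468)
theorem F131430 : act 1 n85383 = n85684 := d15_0 (iv0 D85684) D85688 F131427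
def n85689 : Q := act 1 n39593
theorem D85689 : act 1 n39593 = n85689 := rfl
theorem F131431 : act 1 n85689 = n39598 := d15_1 D85689 (iv7 F131417) F131416
theorem F131432 : act 7 n85689 = n85113 := d15_2 (iv0 F60469) D85689 F130452
theorem F131433 : act 2 n85016 = n85689 := d4_3 F131432 F130452 (iv7 F130362)
theorem F131434 : act 4 n85015 = n85689 := d11_3 F131432 (iv4 D85113) (iv7 F130356)
theorem F131435 : act 1 n58603 = n85113 := d15_1 (iv0 F130363) (iv7 F131432) (iv2 F131433)
def n85690 : Q := act 3 n39593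
theorem D85690 : act 3 n39593 = n85690 := rfl
theorem F131436 : act 4 n85690 = n85387 := d5_2 D39593 D85690 (iv3 D85387) (iv4 F60468) (iv3 D39592)
def n85692 : Q := act 6 n39593
theorem D85692 : act 6 n39593 = n85692 := rfl
def n85695 : Q := act 1 n39594
theorem D85695 : act 1 n39594 = n85695 := rfl
theorem F131440 : act 1 n85695 = n39599 := d15_1 D85695 (iv7 F131419) F131418
def n85698 : Q := act 7 n39594
theorem D85698 : act 7 n39594 = n85698 := rfl
theorem F131441 : act 2 n85698 = n39599 := d4_1 D85698 (iv7 F131419) F131418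
theorem F131442 : act 5 n85698 = n39596 := d13_1 D85698 (iv7 D39596) D39594
def n85704 : Q := act 1 n39597
theorem D85704 : act 1 n39597 = n85704 := rfl
def n85705 : Q := act 2 n39597
theorem D85705 : act 2 n39597 = n85705 := rfl
theorem F131445 : act 3 n85705 = n85383 := d0_2 D39597 D85705 (iv2 F131427) F131428 F60470
theorem F131446 : act 4 n58338 = n85705 := d20_2 D27784 (iv1 F92202) F131445 (iv1 F131423) (iv3 D83715) (iv4 D38584) (iv1 F59394) F59391 (iv3 F44864) (iv1 F44867)
theorem F131447 : act 0 n85705 = n40232 := d20_4 D18692 D39442 D85383 (iv3 F131445) (iv3 D40232) D40233 F130633 (iv4 D85360) (iv3 D39435) (iv1 D18690)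
def n85706 : Q := act 4 n39597
theorem D85706 : act 4 n39597 = n85706 := rfl
theorem F131448 : act 2 n85706 = n58338 := d1_1 D85706 F131446 (iv2 D85705)
theorem F131449 : act 0 n58317 = n85706 := d20_1 D58317 (iv4 D85706) (iv3 D39597) (iv1 D18751) (iv3 D8790) (iv4 D3921) (iv1 F4241) (iv4 F9807) (iv3 F22058) (iv1 F44859)
theorem F131450 : act 7 n58337 = n85706 := d15_2 F92202 F92206 F131448
theorem E14244 : n85680 = n58607 := (c11_3 F131450 (iv4 D85706) (iv7 F131415) (iv4 F92572))
theorem E14245 : n39591 = n27878 := ((((iv3 D58607)).symm.trans (sb E14244 (iv3 D85680)))).symm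
theorem F131451 : act 7 n58607 = n39597 := (sb E14244 F131415)
theorem E14246 : n85678 = n13292 := ((((iv1 D27878)).symm.trans (sb E14245 D85678))).symm
theorem E14252 : n58601 = n18751 := ((F92569).symm.trans (sb E14245 (iv7 F60467)))
theorem E14253 : n39596 = n27877 := (((D27877).symm.trans (sb E14246 (iv1 F131413)))).symm
theorem F131458 : act 7 n18751 = n27878 := (sb E14252 (iv7 F92569))
theorem E14254 : n85688 = n58602 := (((D58602).symm.trans (sb E14253 (iv3 F131428)))).symm
theorem E14256 : n85698 = n58604 := (((D58604).symm.trans (sb E14253 (iv5 F131442)))).symm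
theorem E14258 : n85381 = n58398 := (((F92570).symm.trans (sb E14254 F131429))).symm
theorem F131465 : act 2 n58604 = n39599 := (sb E14256 F131441)
theorem F131469 : act 7 n58398 = n39443 := (sb E14258 (iv7 F130648))
theorem E14259 : n85386 = n58397 := (c15_4 (iv0 D58397) D58398 F131469 (iv2 F130649))
theorem F131471 : act 4 n58397 = n85685 := (sb E14259 (iv4 F131421))
theorem F131472 : act 7 n58397 = n39442 := (sb E14259 (iv7 D85386))
def n85707 : Q := act 5 n39597
theorem D85707 : act 5 n39597 = n85707 := rfl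
theorem F131473 : act 3 n85707 = n39599 := d6_1 D85707 (iv5 D39599) D39597
def n85709 : Q := act 3 n39598
theorem D85709 : act 3 n39598 = n85709 := rfl
def n85718 : Q := act 4 n39601
theorem D85718 : act 4 n39601 = n85718 := rfl
theorem F131476 : act 2 n85718 = n39605 := d1_1 D85718 (iv4 D39605) (iv2 F60471)
def n85719 : Q := act 6 n39601
theorem D85719 : act 6 n39601 = n85719 := rfl
def n85720 : Q := act 5 n39602
theorem D85720 : act 5 n39602 = n85720 := rfl
theorem F131478 : act 2 n85720 = n39609 := d2_1 D85720 (iv5 D39609) (iv2 F60472)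
def n85722 : Q := act 3 n39603
theorem D85722 : act 3 n39603 = n85722 := rfl
theorem F131480 : act 4 n85722 = n85409 := d20_6 D39417 F60344 (iv4 D18757) (iv3 F29987) D39603 D85722 (iv1 D85409) (iv4 D39448) F29961 (iv1 F29948)
def n85723 : Q := act 4 n39603
theorem D85723 : act 4 n39603 = n85723 := rfl
theorem F131481 : act 0 n85723 = n85122 := d18_2 D39603 D85723 (iv4 D85122) (iv5 D39361) D39360 (iv0 F60469) (iv4 D39593) (iv0 D18750) D18753
def n85724 : Q := act 5 n39603
theorem D85724 : act 5 n39603 = n85724 := rfl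
def n85725 : Q := act 6 n39603
theorem D85725 : act 6 n39603 = n85725 := rfl
def n85726 : Q := act 7 n39603
theorem D85726 : act 7 n39603 = n85726 := rfl
def n85731 : Q := act 0 n39605
theorem D85731 : act 0 n39605 = n85731 := rfl
def n85733 : Q := act 3 n39605
theorem D85733 : act 3 n39605 = n85733 := rfl
theorem F131483 : act 4 n85733 = n39615 := d5_2 D39605 D85733 (iv3 D39615) (iv4 D18757) (iv3 F29987)
def n85735 : Q := act 6 n39605
theorem D85735 : act 6 n39605 = n85735 := rfl
theorem F131484 : act 4 n85735 = n39606 := d10_1 D85735 (iv6 D39606) D39605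
def n85736 : Q := act 0 n39606
theorem D85736 : act 0 n39606 = n85736 := rfl
def n85737 : Q := act 1 n39606
theorem D85737 : act 1 n39606 = n85737 := rfl
def n85738 : Q := act 5 n39606
theorem D85738 : act 5 n39606 = n85738 := rfl
theorem F131485 : act 3 n85738 = n39619 := d6_1 D85738 (iv5 D39619) (iv3 F60473)
def n85739 : Q := act 7 n39606
theorem D85739 : act 7 n39606 = n85739 := rfl
def n85740 : Q := act 2 n39607
theorem D85740 : act 2 n39607 = n85740 := rfl
theorem F131488 : act 7 n39608 = n85740 := d15_2 (iv0 D39607) D39608 (iv2 D85740)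
def n85741 : Q := act 3 n39607
theorem D85741 : act 3 n39607 = n85741 := rfl
def n85742 : Q := act 4 n39607
theorem D85742 : act 4 n39607 = n85742 := rfl
def n85743 : Q := act 5 n39607
theorem D85743 : act 5 n39607 = n85743 := rfl
def n85744 : Q := act 6 n39607
theorem D85744 : act 6 n39607 = n85744 := rfl
def n85746 : Q := act 3 n39608
theorem D85746 : act 3 n39608 = n85746 := rfl
def n85747 : Q := act 4 n39608
theorem D85747 : act 4 n39608 = n85747 := rfl
def n85748 : Q := act 5 n39608
theorem D85748 : act 5 n39608 = n85748 := rfl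
def n85752 : Q := act 4 n39609
theorem D85752 : act 4 n39609 = n85752 := rfl
def n85753 : Q := act 0 n39610
theorem D85753 : act 0 n39610 = n85753 := rfl
def n85754 : Q := act 1 n39610
theorem D85754 : act 1 n39610 = n85754 := rfl
def n85755 : Q := act 2 n39610
theorem D85755 : act 2 n39610 = n85755 := rfl
theorem F131490 : act 5 n85755 = n70829 := d2_2 (iv5 F60475) D85755 F107300
def n85756 : Q := act 4 n39610
theorem D85756 : act 4 n39610 = n85756 := rfl
theorem F131491 : act 0 n85065 = n85756 := d20_7 D18803 (iv1 F60345) (iv4 D39417) (iv3 F110344) (iv1 D39348) (iv3 F60306) D85065 (iv4 D85756) (iv3 D39610) (iv1 F29989)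
def n85757 : Q := act 6 n39610
theorem D85757 : act 6 n39610 = n85757 := rfl
theorem F131492 : act 3 n85757 = n39612 := d7_1 D85757 (iv6 D39612) D39610
theorem F131493 : act 5 n85757 = n70837 := d12_1 D85757 (iv6 D70837) (iv5 D32827) D32828 (iv5 F60475)
def n85758 : Q := act 3 n39611
theorem D85758 : act 3 n39611 = n85758 := rfl
theorem F131494 : act 7 n85758 = n85313 := d8_2 (iv7 F60477) D85758 (iv3 D85313)
def n85759 : Q := act 6 n39611
theorem D85759 : act 6 n39611 = n85759 := rfl
theorem F131495 : act 2 n85759 = n85312 := d3_1 D85759 (iv6 D85312) (iv2 F60476)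
theorem F131496 : act 4 n85759 = n39612 := d10_1 D85759 (iv6 D39612) D39611
def n85760 : Q := act 0 n39612
theorem D85760 : act 0 n39612 = n85760 := rfl
theorem F131497 : act 5 n85760 = n61764 := d21_2 (iv5 F60480) D85760 (iv6 D61764) (iv1 D29275) (iv6 D13914) F10708 (iv1 F10639) D13828 D29056 F51977
def n85761 : Q := act 1 n39612
theorem D85761 : act 1 n39612 = n85761 := rfl
def n85762 : Q := act 0 n39613
theorem D85762 : act 0 n39613 = n85762 := rfl
def n85763 : Q := act 1 n39613
theorem D85763 : act 1 n39613 = n85763 := rfl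
def n85764 : Q := act 2 n39613
theorem D85764 : act 2 n39613 = n85764 := rfl
def n85765 : Q := act 4 n39613
theorem D85765 : act 4 n39613 = n85765 := rfl
def n85766 : Q := act 3 n39614
theorem D85766 : act 3 n39614 = n85766 := rfl
theorem F131498 : act 7 n85766 = n85311 := d8_2 (iv7 F60482) D85766 (iv3 D85311)
def n85769 : Q := act 2 n39615
theorem D85769 : act 2 n39615 = n85769 := rfl
def n85770 : Q := act 6 n39615
theorem D85770 : act 6 n39615 = n85770 := rfl
theorem F131499 : act 3 n85770 = n39616 := d7_1 D85770 (iv6 D39616) D39615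
def n85772 : Q := act 1 n39616
theorem D85772 : act 1 n39616 = n85772 := rfl
def n85773 : Q := act 5 n39616
theorem D85773 : act 5 n39616 = n85773 := rfl
def n85774 : Q := act 7 n39616
theorem D85774 : act 7 n39616 = n85774 := rfl
theorem F131500 : act 4 n85774 = n39620 := d11_1 D85774 (iv7 D39620) (iv4 F60485)
def n85775 : Q := act 2 n39617
theorem D85775 : act 2 n39617 = n85775 := rfl
theorem F131501 : act 7 n39618 = n85775 := d15_2 (iv0 D39617) D39618 (iv2 D85775)
def n85776 : Q := act 3 n39617
theorem D85776 : act 3 n39617 = n85776 := rfl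
def n85777 : Q := act 4 n39617
theorem D85777 : act 4 n39617 = n85777 := rfl
def n85778 : Q := act 7 n39617
theorem D85778 : act 7 n39617 = n85778 := rfl
theorem F131502 : act 2 n85778 = n39618 := d4_1 D85778 F131501 (iv2 D85775)
def n85779 : Q := act 3 n39618
theorem D85779 : act 3 n39618 = n85779 := rfl
def n85780 : Q := act 4 n39618
theorem D85780 : act 4 n39618 = n85780 := rfl
def n85781 : Q := act 6 n39618
theorem D85781 : act 6 n39618 = n85781 := rfl
theorem F131503 : act 5 n85781 = n54005 := d12_1 D85781 (iv6 D54005) D54004 (iv6 F112678) F112679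
theorem E14260 : n68505 = n54005 := (c21_2 (iv5 F104000) (iv1 F104718) (iv5 F131503) (iv6 D85781) (iv1 D39618) (iv6 D18758) (iv5 D8791) D8788 D18743 D39590 (iv1 F94466))
theorem F131504 : act 1 n54005 = n67920 := (sb E14260 F104718)
theorem F131505 : act 2 n54005 = n31877 := (sb E14260 F104709)
theorem E14261 : n31873 = n26116 := ((((iv6 D54005)).symm.trans (sb E14260 (iv6 D68505)))).symm
theorem E14262 : n68482 = n12383 := ((((iv1 D26116)).symm.trans (sb E14261 (iv1 F104683)))).symm
theorem E14264 : n54001 = n15002 := (((iv2 F85185)).symm.trans (sb E14261 F50183))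
theorem E14265 : n68493 = n54002 := (((D54002).symm.trans (sb E14261 (iv3 F104695)))).symm
theorem E14266 : n68499 = n54003 := (((D54003).symm.trans (sb E14261 (iv4 F104699)))).symm
theorem E14267 : n68503 = n54004 := (((D54004).symm.trans (sb E14261 (iv5 F104706)))).symm
theorem E14268 : n53996 = n15001 := ((F85182).symm.trans (sb E14261 (iv7 D31873)))
theorem E14269 : n31868 = n26115 := (((D26115).symm.trans (sb E14262 (iv1 D68482)))).symm
theorem F131506 : act 2 n15002 = n26116 := (sb E14264 F85185)
theorem F131507 : act 7 n54002 = n31869 := (sb E14265 (iv7 D68493))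
theorem F131509 : act 7 n54003 = n31870 := (sb E14266 (iv7 D68499))
theorem F131510 : act 2 n54004 = n31876 := (sb E14267 F104705)
theorem F131511 : act 7 n54004 = n31871 := (sb E14267 (iv7 D68503))
theorem F131512 : act 7 n15001 = n26116 := (sb E14268 (iv7 F85182))
theorem F131513 : act 2 n26115 = n15001 := (sb E14269 (iv2 D31868))
theorem E14270 : n68483 = n53997 := (((D53997).symm.trans (sb E14269 D68483))).symm
theorem E14271 : n68484 = n53998 := (((D53998).symm.trans (sb E14269 D68484))).symm
theorem E14272 : n68485 = n53999 := (((D53999).symm.trans (sb E14269 D68485))).symm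
theorem E14273 : n68486 = n54000 := (((D54000).symm.trans (sb E14269 D68486))).symm
theorem F131514 : act 7 n26115 = n15002 := (sb E14269 (iv7 F50181))
theorem F131515 : act 7 n53997 = n31874 := (sb E14270 F104684)
theorem F131516 : act 2 n53998 = n31870 := (sb E14271 F104685)
theorem F131518 : act 2 n53999 = n31871 := (sb E14272 F104687)
theorem F131519 : act 7 n53999 = n31876 := (sb E14272 F104688)
theorem F131520 : act 2 n54000 = n31872 := (sb E14273 F104689)
theorem E14274 : n68405 = n34277 := (((F85183).symm.trans (sb E14273 (iv5 F104690)))).symm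
theorem E14275 : n74814 = n31823 := (((iv2 F112274)).symm.trans (sb E14274 F104572))
theorem E14276 : n74810 = n31822 := ((F112271).symm.trans (sb E14274 (iv7 D68405)))
theorem F131522 : act 2 n31823 = n34277 := (sb E14275 F112274)
theorem E14277 : n68400 = n34276 := ((F104568).symm.trans (sb E14275 (iv7 D74814)))
theorem F131523 : act 7 n31822 = n34277 := (sb E14276 (iv7 F112271))
theorem F131524 : act 2 n34276 = n31822 := (sb E14277 (iv2 D68400))
theorem E14278 : n68504 = n60391 := (((F94905).symm.trans (sb E14277 (iv5 F104708)))).symm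
theorem F131525 : act 7 n34276 = n31823 := (sb E14277 (iv7 F104568))
theorem F131527 : act 7 n60391 = n31872 := (sb E14278 (iv7 D68504))
theorem F131528 : act 7 n68406 = n74811 := d8_2 F131525 D68406 (iv3 D74811)
theorem F131529 : act 7 n68407 = n74812 := d11_2 F131525 D68407 (iv4 D74812)
theorem F131530 : act 2 n74812 = n68402 := d15_3 F130309 (iv0 F130303) F131529
theorem F131531 : act 2 n68404 = n74813 := d3_3 (iv6 D74813) F131524 D68404
theorem E14279 : n74159 = n55254 := ((c2_3 (iv5 F104571) F131531 F112272 F110873)).symm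
theorem F131532 : act 2 n55254 = n34016 := (sb E14279 F110873)
theorem F131533 : act 7 n55254 = n34015 := (sb E14279 (iv7 D74159))
theorem F131534 : act 7 n74158 = n74813 := d15_2 (iv0 F107209) (iv0 F110872) (iv2 F131531)
theorem E14280 : n74155 = n55253 := (c15_4 (iv0 D55253) D55254 F131533 D74155)
theorem F131535 : act 2 n55253 = n34015 := (sb E14280 (iv2 D74155))
theorem F131536 : act 7 n55253 = n34016 := (sb E14280 (iv7 F110871))
theorem E14281 : n85778 = n58552 := ((c14_4 F131536 D74162 (iv7 F110875) F104713 (iv7 D85778) (iv6 F112683))).symm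
theorem F131537 : act 2 n58552 = n39618 := (sb E14281 F131502)
theorem F131538 : act 7 n58552 = n39617 := (sb E14281 (iv7 D85778))
theorem F131539 : act 7 n75142 = n53886 := d13_2 F131538 F112682 F92492
theorem E14282 : n85775 = n58551 := (c15_4 (iv0 D58551) D58552 F131538 D85775)
theorem F131540 : act 2 n58551 = n39617 := (sb E14282 (iv2 D85775))
theorem F131541 : act 7 n58551 = n39618 := (sb E14282 (iv7 F131501))
theorem F131542 : act 7 n75141 = n53887 := d13_2 F131541 (iv5 F112679) (iv5 F92489)
theorem F131543 : act 2 n53887 = n75142 := d15_3 F112681 (iv0 F112680) F131542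
theorem F131544 : act 2 n75141 = n53886 := d4_1 (iv7 F131542) (iv7 F131539) (iv2 F131543)
theorem F131545 : act 2 n85781 = n68518 := d3_3 F104713 F131537 D85781
theorem F131546 : act 7 n74815 = n68401 := d8_2 F131523 D74815 (iv3 D68401)
theorem F131547 : act 7 n74816 = n68402 := d11_2 F131523 D74816 (iv4 D68402)
theorem F131548 : act 2 n68407 = n74816 := d4_3 F131547 (iv2 F131530) (iv7 F131529)
theorem F131549 : act 2 n74817 = n68408 := d3_3 (iv6 D68408) F131522 D74817
def n85782 : Q := act 0 n39619
theorem D85782 : act 0 n39619 = n85782 := rfl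
theorem F131550 : act 6 n85782 = n60379 := d21_5 F54971 (iv1 D18760) D18761 (iv6 F60486) D85782 (iv5 F110572) F110569 F106946 (iv6 D34780) (iv1 F54970)
theorem F131551 : act 5 n85782 = n74169 := d21_0 (iv1 F110906) (iv5 F112686) F112687 (iv1 F104522) F54972 F54971 (iv1 D18760) D18761 (iv6 F60486) D85782
theorem F131552 : act 7 n68563 = n85782 := d13_0 F131551 (iv7 F110902) (iv5 F104756)
def n85783 : Q := act 1 n39619
theorem D85783 : act 1 n39619 = n85783 := rfl
theorem F131553 : act 5 n74170 = n85783 := d21_0 (iv1 D85783) (iv5 D39619) (iv6 D18758) D18755 D39612 F60480 (iv1 F96162) (iv5 F110895) F110896 (iv1 F110903)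
theorem F131554 : act 2 n85783 = n68563 := d2_1 F131553 F104756 F110905
theorem F131555 : act 6 n85783 = n68545 := d21_3 F112686 (iv1 F110903) F131553 (iv1 F104746) (iv6 F85178) F85177 (iv1 F41317) D31876 (iv6 F84974) F112689
theorem E14283 : n68559 = n68545 := ((c3_1 F131555 (iv2 D68559) D68563 (iv2 F131554))).symm
theorem F131556 : act 2 n68545 = n31896 := (sb E14283 (iv2 D68559))
theorem F131557 : act 7 n68545 = n31897 := (sb E14283 (iv7 F104755))
theorem E14284 : n68564 = n68546 := (c15_4 F104747 F104746 F131557 (iv2 F104757))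
theorem F131558 : act 2 n68546 = n31897 := (sb E14284 F104757)
theorem F131559 : act 7 n68546 = n31896 := (sb E14284 (iv7 D68564))
def n85784 : Q := act 4 n39619
theorem D85784 : act 4 n39619 = n85784 := rfl
theorem F131560 : act 2 n85784 = n75955 := d1_1 D85784 F113852 F60612
theorem F131561 : act 6 n85784 = n39622 := d10_2 (iv6 F60486) D85784 (iv4 D39622)
def n85785 : Q := act 7 n39619
theorem D85785 : act 7 n39619 = n85785 := rfl
theorem F131562 : act 5 n85785 = n39620 := d13_1 D85785 (iv7 D39620) D39619
theorem F131563 : act 6 n85785 = n71133 := d14_1 D85785 F107643 (iv6 D39644) F30025 (iv6 F60486)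
theorem F131564 : act 1 n68563 = n85785 := d15_1 (iv0 F110914) (iv7 D85785) (iv2 F60612)
def n85786 : Q := act 0 n39621
theorem D85786 : act 0 n39621 = n85786 := rfl
theorem F131565 : act 1 n79844 = n85786 := d15_0 (iv0 D85786) F60487 (iv2 F122586)
def n85787 : Q := act 1 n39621
theorem D85787 : act 1 n39621 = n85787 := rfl
def n85788 : Q := act 2 n39621
theorem D85788 : act 2 n39621 = n85788 := rfl
theorem F131566 : act 7 n85788 = n79844 := d4_2 (iv7 F60487) D85788 F122586
theorem F131567 : act 1 n85788 = n79849 := d15_0 (iv0 D79849) (iv7 F60487) D85788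
theorem F131568 : act 1 n85787 = n79844 := d15_1 D85787 (iv7 F131566) (iv2 D85788)
theorem F131569 : act 1 n79850 = n85788 := d15_1 D79850 F131566 F122586
def n85789 : Q := act 4 n39621
theorem D85789 : act 4 n39621 = n85789 := rfl
theorem F131571 : act 7 n85789 = n79811 := d11_2 (iv7 F60487) D85789 F122541
def n85790 : Q := act 3 n39622
theorem D85790 : act 3 n39622 = n85790 := rfl
theorem F131572 : act 5 n85790 = n58549 := d6_2 (iv5 F60490) D85790 (iv3 D58549)
theorem F131573 : act 7 n85790 = n75952 := d8_2 (iv7 F60489) D85790 (iv3 D75952)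
def n85791 : Q := act 1 n39626
theorem D85791 : act 1 n39626 = n85791 := rfl
theorem F131576 : act 4 n79828 = n85791 := d20_6 D8812 (iv1 F30421) F28549 (iv3 F28548) D36363 D79828 (iv1 D85791) (iv4 D39626) (iv3 D18762) (iv1 F13675)
theorem F131578 : act 6 n85791 = n57761 := d10_2 (iv6 F123534) F131576 F123538
def n85792 : Q := act 3 n39626
theorem D85792 : act 3 n39626 = n85792 := rfl
theorem F131579 : act 4 n85792 = n39628 := d5_2 D39626 D85792 (iv3 D39628) (iv4 D18763) D18762
theorem F131580 : act 7 n85792 = n73554 := d8_2 (iv7 F60499) D85792 F110214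
theorem F131581 : act 6 n74012 = n85792 := d10_0 F131579 F60503 D74012
def n85793 : Q := act 5 n39626
theorem D85793 : act 5 n39626 = n85793 := rfl
theorem F131583 : act 1 n85793 = n55467 := d17_6 (iv1 F42990) D26798 F120577 (iv5 F29993) D39626 D85793 (iv5 D55467) F87634 F87632
def n85794 : Q := act 6 n39626
theorem D85794 : act 6 n39626 = n85794 := rfl
theorem F131584 : act 3 n85794 = n74012 := d7_1 D85794 F131581 (iv3 D85792)
theorem F131585 : act 4 n85794 = n39627 := d10_1 D85794 (iv6 D39627) D39626
def n85795 : Q := act 0 n39628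
theorem D85795 : act 0 n39628 = n85795 := rfl
theorem F131587 : act 1 n73550 = n85795 := d15_0 (iv0 D85795) F60504 (iv2 F110212)
def n85796 : Q := act 1 n39628
theorem D85796 : act 1 n39628 = n85796 := rfl
def n85797 : Q := act 2 n39628
theorem D85797 : act 2 n39628 = n85797 := rfl
theorem F131588 : act 3 n85797 = n84997 := d0_2 D39628 D85797 F130238 F130273 (iv2 F29995)
theorem F131589 : act 6 n85797 = n74011 := d3_2 (iv6 F60503) D85797 (iv2 D74011)
theorem F131590 : act 7 n85797 = n73550 := d4_2 (iv7 F60504) D85797 F110212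
theorem F131591 : act 1 n85797 = n73559 := d15_0 (iv0 D73559) (iv7 F60504) D85797
theorem F131592 : act 1 n85796 = n73550 := d15_1 D85796 (iv7 F131590) (iv2 D85797)
theorem F131593 : act 1 n73560 = n85797 := d15_1 D73560 F131590 F110212
def n85798 : Q := act 5 n39628
theorem D85798 : act 5 n39628 = n85798 := rfl
theorem F131594 : act 3 n85798 = n39629 := d6_1 D85798 (iv5 D39629) D39628
theorem F131595 : act 7 n85798 = n73561 := d13_2 (iv7 F60504) D85798 (iv5 D73561)
def n85799 : Q := act 5 n39635
theorem D85799 : act 5 n39635 = n85799 := rfl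
theorem F131596 : act 2 n85799 = n75849 := d2_1 D85799 F113741 (iv2 F130271)
theorem F131597 : act 3 n85799 = n39636 := d6_1 D85799 (iv5 D39636) D39635
theorem F131598 : act 7 n85799 = n75850 := d13_2 F130276 D85799 F130334
theorem F131599 : act 0 n85799 = n75828 := d21_1 D85799 (iv5 D75828) (iv6 F120245) (iv1 F110285) F130502 F130499 (iv1 F110350) (iv5 D39317) D39318 (iv1 F130331)
theorem E14285 : n54931 = n39635 := (c21_6 (iv5 D73602) (iv1 F53177) (iv5 F42563) F42564 (iv1 F42546) D54931 D85799 F131599 (iv5 D75828) (iv6 F120245) (iv1 F110285))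
theorem E14286 : n26623 = n26566 := ((F60515).symm.trans (sb E14285 (iv6 D54931)))
theorem E14287 : n55085 = n12700 := ((((iv1 D26566)).symm.trans (sb E14286 D55085))).symm
theorem E14289 : n54927 = n18646 := (((iv2 F86878)).symm.trans (sb E14286 (iv2 F130259)))
theorem E14290 : n54928 = n12722 := ((D54928).symm.trans (sb E14286 (iv3 D26623)))
theorem E14291 : n55088 = n54929 := (((D54929).symm.trans (sb E14286 D55088))).symm
theorem E14292 : n55089 = n54930 := (((D54930).symm.trans (sb E14286 D55089))).symm
theorem F131600 : act 6 n26566 = n39635 := (sb E14286 (iv6 F60515))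
theorem E14293 : n54922 = n16330 := ((F86877).symm.trans (sb E14286 F42652))
theorem E14294 : n33794 = n26565 := (((D26565).symm.trans (sb E14287 (iv1 F87115)))).symm
theorem F131601 : act 2 n18646 = n26566 := (sb E14289 F86878)
theorem F131602 : act 3 n12722 = n26566 := (sb E14290 (iv3 D54928))
theorem F131603 : act 2 n54929 = n39307 := (sb E14291 F130266)
theorem F131604 : act 3 n54929 = n27741 := (sb E14291 F87121)
theorem F131605 : act 6 n54929 = n84107 := (sb E14291 (iv6 F129105))
theorem F131606 : act 7 n54929 = n33795 := (sb E14291 F87122)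
theorem F131607 : act 2 n54930 = n39308 := (sb E14292 F130269)
theorem F131608 : act 3 n54930 = n26624 := (sb E14292 F87123)
theorem F131609 : act 7 n54930 = n33796 := (sb E14292 F87124)
theorem F131610 : act 7 n16330 = n26566 := (sb E14293 (iv7 F86877))
theorem F131611 : act 2 n26565 = n16330 := (sb E14294 (iv2 D33794))
theorem E14295 : n55077 = n54923 := (((D54923).symm.trans (sb E14294 (iv3 F87090)))).symm
theorem E14296 : n73517 = n54924 := (((D54924).symm.trans (sb E14294 D73517))).symm
theorem E14297 : n73518 = n54925 := (((D54925).symm.trans (sb E14294 D73518))).symm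
theorem E14298 : n73519 = n54926 := (((D54926).symm.trans (sb E14294 D73519))).symm
theorem F131612 : act 7 n26565 = n18646 := (sb E14294 (iv7 F130260))
theorem F131613 : act 0 n54923 = n33804 := (sb E14295 (iv1 F87094))
theorem F131614 : act 1 n54923 = n33803 := (sb E14295 F87092)
theorem F131615 : act 2 n54923 = n26619 := (sb E14295 (iv2 D55077))
theorem F131616 : act 7 n54923 = n33805 := (sb E14295 F87091)
theorem F131617 : act 2 n54924 = n33795 := (sb E14296 F110186)
theorem F131618 : act 7 n54924 = n39307 := (sb E14296 F130262)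
theorem F131619 : act 2 n54925 = n33796 := (sb E14297 F110187)
theorem F131620 : act 7 n54925 = n39308 := (sb E14297 F130263)
theorem F131621 : act 2 n54926 = n33797 := (sb E14298 F110188)
theorem F131622 : act 0 n75824 = n85799 := d21_1 D75824 (iv5 D85799) (iv6 F131600) (iv1 D26566) (iv6 D12700) (iv5 F27027) (iv1 F11549) (iv5 F12395) D16791 D34671
theorem F131623 : act 1 n75824 = n69416 := d15_1 (iv0 F131622) F130327 (iv2 F131596)
theorem F131624 : act 1 n69416 = n75828 := d15_1 F131623 F113776 (iv2 F113767)
theorem E14299 : n72185 = n54202 := ((c21_4 F130326 (iv1 F131623) (iv5 D75824) (iv6 F85524) (iv1 D72185) (iv6 D33320) D33319 D72181 (iv5 F130478) (iv6 F130139) F130328)).symm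
theorem F131625 : act 0 n54202 = n33320 := (sb E14299 (iv1 D72185))
theorem F131626 : act 3 n55091 = n68898 := d7_3 F105073 F131608 D55091
theorem F131627 : act 2 n84995 = n68898 := d3_3 F105073 F131607 D84995
theorem F131628 : act 7 n68899 = n84995 := d15_2 (iv0 D68898) D68899 F131627
theorem E14300 : n84937 = n83401 := ((c20_5 (iv4 F31218) (iv1 F118363) (iv4 D38420) D38419 D83401 F130188 F60284 (iv1 F42546) D54929 F131604 (iv1 F118120))).symm
theorem F131629 : act 3 n83401 = n39299 := (sb E14300 F130188)
theorem F131630 : act 7 n83401 = n39293 := (sb E14300 (iv7 D84937))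
theorem F131631 : act 4 n80281 = n79413 := d20_0 (iv1 F122383) F122378 F59361 (iv1 F118117) (iv3 F131604) (iv4 D54929) (iv1 D26566) (iv4 F42545) (iv3 F57449) D80281
theorem F131632 : act 3 n82926 = n80281 := d20_5 (iv4 D27741) (iv1 F117932) (iv4 F29431) (iv3 F59009) D82926 F131631 (iv1 F122383) F122378 F59361 (iv1 F118117)
theorem E14301 : n79723 = n40138 := ((c20_7 F11579 (iv1 F9787) (iv4 F42641) F131602 (iv1 D26566) (iv3 F42535) (iv4 F61032) (iv1 D79723) F57034 (iv3 D17539) (iv1 F30464))).symm
theorem F131633 : act 0 n40138 = n36310 := (sb E14301 (iv1 D79723))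
theorem F131634 : act 1 n40138 = n70113 := (sb E14301 F122417)
theorem F131635 : act 4 n54918 = n69912 := d20_2 (iv4 F42545) D54918 (iv3 D69912) (iv1 F51550) F24958 F11579 (iv1 F9787) (iv4 F42641) F131602 (iv1 D26566)
theorem F131636 : act 0 n54338 = n73729 := d20_1 D54338 F110451 F53239 (iv1 F42546) (iv3 F131602) F42641 (iv1 D6289) (iv4 F9204) (iv3 F20772) D26265
theorem F131637 : act 1 n54343 = n73729 := d15_0 (iv0 F131636) F131088 F131143
theorem F131638 : act 1 n55639 = n54343 := d15_0 F131637 F110452 (iv2 F88026)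
theorem F131639 : act 1 n54338 = n55639 := d15_0 F131638 F131142 (iv2 F131140)
theorem F131640 : act 4 n54347 = n76740 := d18_1 (iv1 F85752) (iv1 D76740) F55694 (iv5 F43655) (iv4 F88027) F131638 (iv4 D54343) F85718 F85715
theorem F131641 : act 2 n76740 = n70283 := d1_1 F131640 (iv4 D70283) (iv2 F110573)
theorem F131642 : act 7 n76740 = n70279 := d11_2 (iv7 F110574) F131640 (iv4 D70279)
theorem F131643 : act 2 n70279 = n76739 := d15_3 (iv0 D76739) D76740 F131642
theorem F131644 : act 7 n70283 = n76739 := d4_2 (iv7 F131642) F131641 (iv2 F131643)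
theorem F131646 : act 4 n76739 = n54346 := d11_1 F131644 F110577 D70283
theorem F131647 : act 1 n70279 = n55640 := d15_0 (iv0 F130252) F131644 (iv2 F131643)
theorem F131648 : act 0 n54337 = n79839 := d20_10 (iv4 F122579) (iv1 F110164) (iv4 D33785) D33784 (iv1 F130347) F86852 (iv4 F88027) (iv1 F131639) (iv4 D54338) D54337
theorem F131649 : act 7 n79722 = n49004 := d15_2 F131634 F122413 F77349
theorem F131650 : act 2 n70117 = n79722 := d4_3 F131649 F77349 (iv7 F130344)
theorem F131651 : act 6 n70483 = n79722 := d14_5 F131649 (iv6 D49004) F37318 D40137 F106938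
theorem F131652 : act 4 n79414 = n80282 := d20_0 (iv1 D80282) F57450 (iv3 F61031) F131633 (iv3 D36310) (iv4 D17533) D17530 D36297 D79711 (iv1 F122382)
def n85800 : Q := act 6 n39636
theorem D85800 : act 6 n39636 = n85800 := rfl
theorem F131653 : act 2 n85800 = n73564 := d3_1 D85800 F110220 (iv2 F60517)
theorem F131654 : act 5 n85800 = n55091 := d12_1 D85800 (iv6 D55091) (iv5 D26624) F42642 D39636
def n85801 : Q := act 0 n39637
theorem D85801 : act 0 n39637 = n85801 := rfl
theorem F131655 : act 1 n70115 = n85801 := d15_0 (iv0 D85801) F60521 (iv2 F106496)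
def n85802 : Q := act 1 n39637
theorem D85802 : act 1 n39637 = n85802 := rfl
def n85803 : Q := act 2 n39637
theorem D85803 : act 2 n39637 = n85803 := rfl
theorem F131656 : act 3 n85803 = n85788 := d0_2 D39637 D85803 (iv2 D85788) (iv3 D39621) F30447
theorem F131657 : act 7 n85803 = n70115 := d4_2 (iv7 F60521) D85803 F106496
theorem F131658 : act 1 n85803 = n70124 := d15_0 (iv0 D70124) (iv7 F60521) D85803
theorem F131659 : act 1 n85802 = n70115 := d15_1 D85802 (iv7 F131657) (iv2 D85803)
theorem F131660 : act 1 n70125 = n85803 := d15_1 D70125 F131657 F106496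
def n85804 : Q := act 4 n39637
theorem D85804 : act 4 n39637 = n85804 := rfl
theorem F131661 : act 7 n85804 = n70119 := d11_2 (iv7 F60521) D85804 F106499
def n85805 : Q := act 5 n39637
theorem D85805 : act 5 n39637 = n85805 := rfl
theorem F131662 : act 3 n85805 = n39638 := d6_1 D85805 (iv5 D39638) D39637
theorem F131663 : act 7 n85805 = n70126 := d13_2 (iv7 F60521) D85805 (iv5 D70126)
def n85806 : Q := act 2 n39639
theorem D85806 : act 2 n39639 = n85806 := rfl
theorem F131664 : act 7 n39640 = n85806 := d15_2 (iv0 D39639) D39640 (iv2 D85806)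
def n85807 : Q := act 3 n39639
theorem D85807 : act 3 n39639 = n85807 := rfl
def n85808 : Q := act 4 n39639
theorem D85808 : act 4 n39639 = n85808 := rfl
def n85809 : Q := act 5 n39639
theorem D85809 : act 5 n39639 = n85809 := rfl
def n85810 : Q := act 6 n39639
theorem D85810 : act 6 n39639 = n85810 := rfl
def n85811 : Q := act 7 n39639
theorem D85811 : act 7 n39639 = n85811 := rfl
theorem F131665 : act 2 n85811 = n39640 := d4_1 D85811 F131664 (iv2 D85806)
def n85812 : Q := act 3 n39640
theorem D85812 : act 3 n39640 = n85812 := rfl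
def n85813 : Q := act 4 n39640
theorem D85813 : act 4 n39640 = n85813 := rfl
def n85814 : Q := act 5 n39640
theorem D85814 : act 5 n39640 = n85814 := rfl
def n85815 : Q := act 6 n39640
theorem D85815 : act 6 n39640 = n85815 := rfl
def n85816 : Q := act 5 n39641
theorem D85816 : act 5 n39641 = n85816 := rfl
theorem F131667 : act 7 n85816 = n85720 := d13_2 (iv7 F60527) D85816 (iv5 D85720)
def n85817 : Q := act 6 n39641
theorem D85817 : act 6 n39641 = n85817 := rfl
theorem F131670 : act 2 n85817 = n39643 := d3_1 D85817 (iv6 D39643) D39641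
theorem F131671 : act 7 n85817 = n58612 := d14_2 (iv7 F60527) D85817 (iv6 D58612) F45005 D39602
theorem F131673 : act 1 n85817 = n58617 := d15_0 (iv0 D58617) (iv7 F60534) (iv2 F131670)
def n85820 : Q := act 4 n39642
theorem D85820 : act 4 n39642 = n85820 := rfl
theorem F131676 : act 7 n85820 = n85752 := d11_2 (iv7 F60532) D85820 (iv4 D85752)
def n85821 : Q := act 6 n39642
theorem D85821 : act 6 n39642 = n85821 := rfl
theorem F131677 : act 3 n85821 = n39644 := d7_1 D85821 (iv6 D39644) (iv3 F60531)
def n85822 : Q := act 0 n39643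
theorem D85822 : act 0 n39643 = n85822 := rfl
theorem F131678 : act 1 n58612 = n85822 := d15_0 (iv0 D85822) F60534 (iv2 F92580)
def n85823 : Q := act 1 n39643
theorem D85823 : act 1 n39643 = n85823 := rfl
theorem F131679 : act 1 n85823 = n58612 := d15_1 D85823 (iv7 F131671) F131670
def n85824 : Q := act 1 n39644
theorem D85824 : act 1 n39644 = n85824 := rfl
theorem F131680 : act 5 n71235 = n85824 := d21_6 (iv5 D15837) (iv1 F20933) (iv5 F42025) D54486 (iv1 F86045) D71235 (iv1 D85824) F86092 (iv6 F86091) (iv1 D32887)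
def n85825 : Q := act 0 n39684
theorem D85825 : act 0 n39684 = n85825 := rfl
def n85826 : Q := act 1 n39684
theorem D85826 : act 1 n39684 = n85826 := rfl
def n85827 : Q := act 2 n39684
theorem D85827 : act 2 n39684 = n85827 := rfl
theorem F131682 : act 3 n85827 = n41132 := d0_2 D39684 D85827 (iv2 F72313) F117215 F61276
theorem F131683 : act 7 n85827 = n41128 := d4_2 F117199 D85827 (iv2 F89605)
theorem F131684 : act 1 n85826 = n41128 := d15_1 D85826 (iv7 F131683) (iv2 D85827)
def n85828 : Q := act 5 n39684
theorem D85828 : act 5 n39684 = n85828 := rfl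
theorem F131685 : act 3 n85828 = n39685 := d6_1 D85828 (iv5 D39685) D39684
def n85829 : Q := act 4 n39685
theorem D85829 : act 4 n39685 = n85829 := rfl
def n85830 : Q := act 6 n39685
theorem D85830 : act 6 n39685 = n85830 := rfl
def n85831 : Q := act 0 n39693
theorem D85831 : act 0 n39693 = n85831 := rfl
theorem F131686 : act 3 n85831 = n83894 := d20_5 (iv4 D27829) (iv1 F22070) D18784 D39693 D85831 (iv4 D83894) (iv1 D38638) D38640 (iv3 F117195) F117193
def n85832 : Q := act 1 n39693
theorem D85832 : act 1 n39693 = n85832 := rfl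
def n85833 : Q := act 2 n39693
theorem D85833 : act 2 n39693 = n85833 := rfl
theorem F131687 : act 3 n85833 = n39712 := d0_2 D39693 D85833 (iv2 D39712) (iv3 D18789) (iv2 F30031)
def n85834 : Q := act 5 n39693
theorem D85834 : act 5 n39693 = n85834 := rfl
theorem F131688 : act 3 n85834 = n39694 := d6_1 D85834 (iv5 D39694) D39693
def n85835 : Q := act 6 n39693
theorem D85835 : act 6 n39693 = n85835 := rfl
theorem F131689 : act 3 n85835 = n39695 := d7_1 D85835 (iv6 D39695) D39693
def n85836 : Q := act 4 n39694
theorem D85836 : act 4 n39694 = n85836 := rfl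
theorem F131690 : act 2 n85836 = n39717 := d1_1 D85836 (iv4 D39717) (iv2 F60566)
def n85837 : Q := act 6 n39694
theorem D85837 : act 6 n39694 = n85837 := rfl
theorem F131691 : act 2 n85837 = n39718 := d3_1 D85837 (iv6 D39718) (iv2 F60566)
def n85838 : Q := act 5 n39695
theorem D85838 : act 5 n39695 = n85838 := rfl
theorem F131692 : act 2 n85838 = n39721 := d2_1 D85838 (iv5 D39721) (iv2 F60567)
theorem F131693 : act 0 n85838 = n56732 := d17_2 (iv1 F119032) D85838 (iv5 D56732) (iv4 F57339) F57338 D77792 F123452 F123448 F119029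
theorem F131694 : act 1 n85838 = n56728 := d17_6 D13060 F117163 (iv1 F60578) (iv5 D39699) (iv4 F60568) D85838 (iv5 D56728) (iv0 D27259) F21785
def n85839 : Q := act 7 n39695
theorem D85839 : act 7 n39695 = n85839 := rfl
theorem F131696 : act 4 n85839 = n39699 := d11_1 D85839 (iv7 F60575) (iv4 F60568)
theorem F131697 : act 6 n85839 = n58500 := d14_1 D85839 F92422 F60570 F44944 D39695
theorem F131698 : act 1 n39720 = n85839 := d15_1 D39720 (iv7 D85839) F60567
theorem F131699 : act 1 n85839 = n39719 := d15_1 F131698 F123429 F91740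
def n85841 : Q := act 4 n39697
theorem D85841 : act 4 n39697 = n85841 := rfl
theorem F131703 : act 7 n85841 = n39744 := d11_2 F117375 D85841 (iv4 D39744)
def n85842 : Q := act 5 n39706
theorem D85842 : act 5 n39706 = n85842 := rfl
theorem F131704 : act 2 n85842 = n46305 := d2_1 D85842 F72952 (iv2 F91586)
theorem F131705 : act 3 n85842 = n39708 := d6_1 D85842 (iv5 D39708) D39706
theorem F131706 : act 7 n85842 = n41534 := d13_2 (iv7 F91588) D85842 (iv5 D41534)
theorem F131707 : act 1 n46303 = n85842 := d15_1 D46303 F131706 F64079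
theorem F131708 : act 1 n85842 = n46302 := d15_0 (iv0 D46302) D46305 (iv2 F131704)
def n85843 : Q := act 4 n39708
theorem D85843 : act 4 n39708 = n85843 := rfl
def n85844 : Q := act 6 n39708
theorem D85844 : act 6 n39708 = n85844 := rfl
def n85845 : Q := act 2 n39710
theorem D85845 : act 2 n39710 = n85845 := rfl
theorem F131709 : act 7 n39711 = n85845 := d15_2 (iv0 D39710) D39711 (iv2 D85845)
def n85846 : Q := act 3 n39710
theorem D85846 : act 3 n39710 = n85846 := rfl
def n85847 : Q := act 5 n39710
theorem D85847 : act 5 n39710 = n85847 := rfl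
def n85849 : Q := act 7 n39710
theorem D85849 : act 7 n39710 = n85849 := rfl
theorem F131710 : act 2 n85849 = n39711 := d4_1 D85849 F131709 (iv2 D85845)
def n85850 : Q := act 3 n39711
theorem D85850 : act 3 n39711 = n85850 := rfl
def n85851 : Q := act 5 n39711
theorem D85851 : act 5 n39711 = n85851 := rfl
def n85852 : Q := act 6 n39711
theorem D85852 : act 6 n39711 = n85852 := rfl
def n85853 : Q := act 5 n39712
theorem D85853 : act 5 n39712 = n85853 := rfl
theorem F131711 : act 2 n85853 = n39713 := d2_1 D85853 (iv5 D39713) D39712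
def n85854 : Q := act 6 n39712
theorem D85854 : act 6 n39712 = n85854 := rfl
theorem F131712 : act 2 n85854 = n39714 := d3_1 D85854 (iv6 D39714) D39712
theorem F131713 : act 4 n85854 = n39758 := d10_1 D85854 (iv6 D39758) (iv4 F60583)
def n85855 : Q := act 0 n39713
theorem D85855 : act 0 n39713 = n85855 := rfl
def n85856 : Q := act 1 n39713
theorem D85856 : act 1 n39713 = n85856 := rfl
def n85857 : Q := act 4 n39713
theorem D85857 : act 4 n39713 = n85857 := rfl
def n85858 : Q := act 6 n39713
theorem D85858 : act 6 n39713 = n85858 := rfl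
theorem F131714 : act 3 n85858 = n39718 := d7_1 D85858 (iv6 D39718) (iv3 F60584)
def n85859 : Q := act 0 n39714
theorem D85859 : act 0 n39714 = n85859 := rfl
def n85860 : Q := act 1 n39714
theorem D85860 : act 1 n39714 = n85860 := rfl
def n85861 : Q := act 5 n39714
theorem D85861 : act 5 n39714 = n85861 := rfl
theorem F131715 : act 3 n85861 = n39721 := d6_1 D85861 (iv5 D39721) (iv3 F60585)
def n85862 : Q := act 7 n39714
theorem D85862 : act 7 n39714 = n85862 := rfl
theorem F131717 : act 4 n85862 = n39766 := d11_1 D85862 (iv7 D39766) (iv4 F60586)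
theorem F131718 : act 6 n85862 = n58523 := d14_1 D85862 F92448 F60592 F44955 D39714
def n85863 : Q := act 3 n39715
theorem D85863 : act 3 n39715 = n85863 := rfl
def n85864 : Q := act 4 n39715
theorem D85864 : act 4 n39715 = n85864 := rfl
def n85865 : Q := act 5 n39715
theorem D85865 : act 5 n39715 = n85865 := rfl
theorem F131719 : act 2 n85865 = n76106 := d2_1 D85865 F117534 (iv2 F117533)
theorem F131720 : act 7 n85865 = n76105 := d13_2 (iv7 F117531) D85865 F117525
theorem F131721 : act 1 n85865 = n55573 := d17_8 (iv1 F114069) (iv5 D39726) (iv1 F44951) (iv5 D27838) D27837 D58499 F92420 D85865 (iv4 D55573)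
theorem F131722 : act 6 n76091 = n85865 := d21_5 F129830 (iv1 D76088) (iv5 D34765) D34766 D76091 (iv5 D85865) (iv1 F92420) (iv5 D58499) (iv6 F60570) (iv1 F129829)
theorem E14302 : n82059 = n76091 := (c14_1 D82059 F131722 F131720 F117527 F91566 D37601)
theorem F131723 : act 7 n76091 = n37601 := (sb E14302 (iv7 D82059))
theorem F131724 : act 1 n76076 = n85865 := d15_0 F131721 F87884 (iv2 F114060)
def n85866 : Q := act 6 n39715
theorem D85866 : act 6 n39715 = n85866 := rfl
def n85867 : Q := act 3 n39716
theorem D85867 : act 3 n39716 = n85867 := rfl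
theorem F131725 : act 5 n85867 = n82065 := d6_2 (iv5 F92419) D85867 F126478
def n85868 : Q := act 4 n39716
theorem D85868 : act 4 n39716 = n85868 := rfl
def n85869 : Q := act 6 n39716
theorem D85869 : act 6 n39716 = n85869 := rfl
theorem F131726 : act 5 n85869 = n82069 := d12_1 D85869 (iv6 D82069) (iv5 D37605) D37606 (iv5 F92419)
def n85870 : Q := act 0 n39717
theorem D85870 : act 0 n39717 = n85870 := rfl
def n85871 : Q := act 1 n39717
theorem D85871 : act 1 n39717 = n85871 := rfl
theorem F131727 : act 4 n85871 = n82134 := d18_7 F117235 (iv4 D18781) (iv1 D8804) D8806 D18790 D39717 D85871 F126542 (iv5 D81838)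
def n85872 : Q := act 3 n39717
theorem D85872 : act 3 n39717 = n85872 := rfl
def n85873 : Q := act 5 n39717
theorem D85873 : act 5 n39717 = n85873 := rfl
def n85874 : Q := act 6 n39717
theorem D85874 : act 6 n39717 = n85874 := rfl
theorem F131728 : act 4 n85874 = n39718 := d10_1 D85874 (iv6 D39718) D39717
def n85875 : Q := act 0 n39718
theorem D85875 : act 0 n39718 = n85875 := rfl
def n85876 : Q := act 1 n39718
theorem D85876 : act 1 n39718 = n85876 := rfl
def n85877 : Q := act 5 n39718
theorem D85877 : act 5 n39718 = n85877 := rfl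
theorem F131729 : act 6 n85877 = n39721 := d12_2 D39718 D85877 (iv5 D39721) (iv6 D18791) D18790
def n85878 : Q := act 7 n39718
theorem D85878 : act 7 n39718 = n85878 := rfl
def n85879 : Q := act 3 n39719
theorem D85879 : act 3 n39719 = n85879 := rfl
def n85880 : Q := act 6 n39719
theorem D85880 : act 6 n39719 = n85880 := rfl
def n85881 : Q := act 3 n39720
theorem D85881 : act 3 n39720 = n85881 := rfl
theorem F131730 : act 4 n85881 = n77806 := d5_2 F91576 D85881 F117631 F56188 (iv3 F56185)
theorem F131731 : act 6 n85881 = n77785 := d7_2 (iv6 F91577) D85881 (iv3 D77785)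
def n85882 : Q := act 0 n39721
theorem D85882 : act 0 n39721 = n85882 := rfl
theorem F131732 : act 5 n85882 = n45867 := d17_3 (iv1 D39720) D39721 D85882 (iv4 D45867) D45868 F123445 F123444 F123456 F91576
theorem F131733 : act 2 n56732 = n85882 := d15_3 (iv0 D85882) (iv0 F123439) F123438
theorem F131734 : act 7 n85882 = n56728 := d4_2 F123438 F131733 (iv2 F123437)
def n85883 : Q := act 4 n39721
theorem D85883 : act 4 n39721 = n85883 := rfl
def n85884 : Q := act 7 n39721
theorem D85884 : act 7 n39721 = n85884 := rfl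
theorem F131735 : act 5 n85884 = n39722 := d13_1 D85884 (iv7 D39722) D39721
theorem F131736 : act 1 n56728 = n85884 := d15_1 F131694 (iv7 D85884) (iv2 F131692)
theorem F131737 : act 1 n85884 = n56732 := d15_1 F131736 (iv7 F123438) F123437
def n85886 : Q := act 0 n39725
theorem D85886 : act 0 n39725 = n85886 := rfl
theorem F131743 : act 1 n39730 = n85886 := d15_0 (iv0 D85886) F117539 F117537
def n85887 : Q := act 1 n39725
theorem D85887 : act 1 n39725 = n85887 := rfl
theorem F131744 : act 1 n85887 = n39730 := d15_1 D85887 (iv7 F117536) F117540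
theorem F131745 : act 4 n81831 = n85887 := d18_5 (iv1 F22075) D18781 (iv1 F117232) F117234 (iv5 F125781) F131744 (iv4 D39730) F44950 (iv5 D27838)
theorem F131747 : act 3 n85887 = n83903 := d5_1 F131745 F128894 F59457 (iv4 F59460) (iv3 F125780)
theorem F131748 : act 6 n85887 = n56653 := d10_2 D81831 F131745 F117196
theorem F131749 : act 7 n85887 = n84767 := d11_2 (iv7 F125782) F131745 F129966
theorem F131750 : act 2 n84767 = n85886 := d15_3 (iv0 D85886) D85887 F131749
def n85889 : Q := act 5 n39725
theorem D85889 : act 5 n39725 = n85889 := rfl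
theorem F131754 : act 2 n85889 = n84768 := d2_1 D85889 (iv5 D84768) F117540
theorem F131755 : act 1 n85889 = n82010 := d17_6 (iv1 F117201) D26825 (iv1 F114069) (iv5 D39726) D39725 D85889 (iv5 D82010) (iv0 D37570) F29197
def n85890 : Q := act 4 n39726
theorem D85890 : act 4 n39726 = n85890 := rfl
theorem F131756 : act 2 n85890 = n76102 := d1_1 D85890 (iv4 D76102) (iv2 F117503)
theorem F131757 : act 6 n85890 = n76111 := d10_2 (iv6 F117445) D85890 (iv4 D76111)
theorem F131758 : act 7 n85890 = n76097 := d11_2 (iv7 F117504) D85890 (iv4 D76097)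
theorem F131759 : act 0 n85890 = n81977 := d18_2 (iv1 F114069) D85890 F126393 (iv5 D77314) (iv4 F117261) F117259 (iv4 D55555) (iv0 D26821) D26825
theorem F131761 : act 1 n85890 = n82132 := d15_0 (iv0 D82132) F117507 (iv2 F131756)
def n85891 : Q := act 3 n39730
theorem D85891 : act 3 n39730 = n85891 := rfl
def n85892 : Q := act 5 n39730
theorem D85892 : act 5 n39730 = n85892 := rfl
theorem F131763 : act 7 n85892 = n84768 := d13_2 F117536 D85892 (iv5 D84768)
theorem F131765 : act 1 n82010 = n85892 := d15_1 F131755 F131763 (iv2 F131754)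
def n85893 : Q := act 6 n39730
theorem D85893 : act 6 n39730 = n85893 := rfl
theorem F131766 : act 2 n85893 = n82143 := d3_1 D85893 F126553 F117537
theorem F131767 : act 4 n85893 = n39732 := d10_1 D85893 (iv6 D39732) D39730
theorem F131768 : act 7 n85893 = n82151 := d14_2 F117536 D85893 F126561 F117492 D39168
theorem F131769 : act 1 n84745 = n85893 := d15_1 D84745 F131768 F126560
theorem F131770 : act 5 n82101 = n84745 := d17_7 F117369 F117368 (iv1 D37630) (iv5 D18041) D18040 D37626 D82101 F131769 F131767
theorem F131771 : act 1 n85893 = n81880 := d15_0 F126515 (iv7 F126554) (iv2 F131766)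
def n85894 : Q := act 2 n39733
theorem D85894 : act 2 n39733 = n85894 := rfl
theorem F131772 : act 7 n39734 = n85894 := d15_2 (iv0 D39733) D39734 (iv2 D85894)
def n85895 : Q := act 3 n39733
theorem D85895 : act 3 n39733 = n85895 := rfl
def n85896 : Q := act 4 n39733
theorem D85896 : act 4 n39733 = n85896 := rfl
theorem F131773 : act 1 n85896 = n40196 := d18_8 F91155 (iv4 F29811) (iv1 F91156) (iv4 D27837) D27838 D58500 F92424 D85896 (iv5 D40196)
def n85897 : Q := act 5 n39733
theorem D85897 : act 5 n39733 = n85897 := rfl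
theorem F131774 : act 0 n85897 = n76074 := d17_2 D39733 D85897 (iv5 D76074) (iv4 D34759) D34760 (iv0 F114068) (iv5 D39726) (iv0 D18792) D18794
theorem F131775 : act 1 n85897 = n55569 := d15_1 (iv0 F131774) F87880 (iv2 F114057)
theorem E14304 : n84641 = n39733 := ((c21_3 D55569 (iv1 F131775) (iv5 D85897) (iv6 D84641) (iv1 D39088) (iv6 D18562) D18561 (iv1 F29799) (iv5 F17132) D18031 F91443)).symm
theorem E14305 : n85894 = n39128 := ((D85894).symm.trans (sb E14304 F129826))
theorem F131776 : act 6 n39733 = n39088 := (sb E14304 (iv6 D84641))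
theorem F131777 : act 7 n39733 = n58521 := (sb E14304 F129827)
theorem F131778 : act 2 n39128 = n39733 := (sb E14305 (iv2 D85894))
theorem E14306 : n84714 = n39734 := ((D84714).symm.trans (sb E14305 (iv7 F131772)))
theorem F131779 : act 2 n39734 = n58521 := (sb E14306 F129944)
theorem F131780 : act 7 n39734 = n39128 := (sb E14306 (iv7 D84714))
theorem F131781 : act 2 n85896 = n84711 := d1_3 F129942 F131778 D85896
theorem F131782 : act 2 n85897 = n76088 := d2_3 (iv5 F129830) F131778 D85897
theorem F131783 : act 6 n84639 = n85896 := d3_0 F131781 (iv6 D84711) (iv2 F129819)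
theorem F131784 : act 6 n84638 = n85895 := d7_2 F131776 D84638 (iv3 D85895)
def n85899 : Q := act 4 n39734
theorem D85899 : act 4 n39734 = n85899 := rfl
theorem F131786 : act 7 n85899 = n84711 := d11_2 (iv7 F131780) D85899 F129942
theorem F131787 : act 0 n85899 = n40196 := d17_0 (iv5 D40196) F91155 (iv5 F54634) F54633 D56719 (iv0 F91431) (iv5 D39736) D39734 D85899
theorem F131788 : act 5 n85899 = n82067 := d18_4 (iv1 F44951) D58500 (iv1 F92423) D85899 F126483 (iv0 F115589) (iv4 D76076) (iv0 F114068) (iv5 D39726)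
theorem F131789 : act 1 n85899 = n81830 := d18_8 (iv1 F91160) (iv4 D39707) (iv1 D18788) (iv4 D8806) D8807 D18794 D39734 D85899 (iv5 D81830)
def n85900 : Q := act 5 n39734
theorem D85900 : act 5 n39734 = n85900 := rfl
theorem F131791 : act 7 n85900 = n76088 := d13_2 (iv7 F131780) D85900 (iv5 F129830)
theorem F131792 : act 0 n85900 = n55569 := d17_2 (iv1 F92423) D85900 (iv5 D55569) (iv4 D26824) D26825 F117179 F117173 F44950 D58500
theorem F131793 : act 1 n85900 = n76074 := d17_6 (iv1 F112745) D80163 (iv1 F126485) (iv5 F131788) (iv4 D85899) D85900 (iv5 D76074) F87876 (iv4 F112742)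
theorem F131794 : act 2 n85900 = n76087 := d15_3 (iv0 D76087) D76088 (iv7 F131791)
theorem F131795 : act 5 n76087 = n58521 := d2_2 D85900 F131794 (iv2 F131779)
theorem F131796 : act 7 n76087 = n85897 := d4_2 (iv7 F131791) F131794 F131782
def n85901 : Q := act 6 n39734
theorem D85901 : act 6 n39734 = n85901 := rfl
theorem F131798 : act 7 n85901 = n82078 := d14_2 (iv7 F131780) D85901 F126490 F91559 D39128
theorem F131799 : act 0 n85901 = n84705 := d21_10 (iv5 F129937) (iv1 D82053) (iv5 D37600) D37601 (iv1 F126473) (iv6 D76075) D76074 (iv1 F131793) (iv5 D85900) D85901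
def n85902 : Q := act 0 n39735
theorem D85902 : act 0 n39735 = n85902 := rfl
def n85903 : Q := act 1 n39735
theorem D85903 : act 1 n39735 = n85903 := rfl
def n85904 : Q := act 2 n39735
theorem D85904 : act 2 n39735 = n85904 := rfl
theorem F131802 : act 4 n85904 = n39775 := d1_2 (iv4 F60591) D85904 (iv2 D39775)
theorem F131803 : act 6 n85904 = n58505 := d3_2 (iv6 F60592) D85904 (iv2 D58505)
def n85905 : Q := act 5 n39735
theorem D85905 : act 5 n39735 = n85905 := rfl
theorem F131804 : act 3 n85905 = n39736 := d6_1 D85905 (iv5 D39736) D39735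
def n85906 : Q := act 4 n39736
theorem D85906 : act 4 n39736 = n85906 := rfl
def n85907 : Q := act 6 n39736
theorem D85907 : act 6 n39736 = n85907 := rfl
theorem F131805 : act 5 n85907 = n58510 := d12_1 D85907 (iv6 D58510) (iv5 D27842) (iv6 F30038) D39736
def n85908 : Q := act 4 n39738
theorem D85908 : act 4 n39738 = n85908 := rfl
theorem F131806 : act 0 n85908 = n80550 := d20_1 D85908 (iv4 D80550) (iv3 D36747) F28780 (iv3 F28832) D36771 D80580 (iv4 F125710) F125709 (iv1 F127064)
def n85909 : Q := act 6 n39738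
theorem D85909 : act 6 n39738 = n85909 := rfl
def n85910 : Q := act 0 n39739
theorem D85910 : act 0 n39739 = n85910 := rfl
theorem F131808 : act 4 n85910 = n80352 := d20_2 D39739 D85910 (iv3 F123446) (iv1 D36770) F28832 (iv4 F41946) F41943 F13686 (iv3 F13685) D18795
theorem F131809 : act 1 n39744 = n85910 := d15_0 (iv0 D85910) F117429 F117423
def n85912 : Q := act 5 n39739
theorem D85912 : act 5 n39739 = n85912 := rfl
theorem F131810 : act 1 n85912 = n45858 := d17_6 (iv1 D13061) F9681 D13060 F117163 D39739 D85912 (iv5 D45858) (iv0 F118897) (iv4 D27270)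
def n85913 : Q := act 6 n39739
theorem D85913 : act 6 n39739 = n85913 := rfl
def n85914 : Q := act 3 n39744
theorem D85914 : act 3 n39744 = n85914 := rfl
def n85915 : Q := act 5 n39744
theorem D85915 : act 5 n39744 = n85915 := rfl
theorem F131812 : act 0 n85915 = n45858 := d17_2 (iv1 F131809) D85915 (iv5 D45858) F34437 F16669 D21936 D45868 F123445 (iv4 F131808)
def n85917 : Q := act 1 n39747
theorem D85917 : act 1 n39747 = n85917 := rfl
theorem F131814 : act 1 n85917 = n39752 := d15_1 D85917 (iv7 D39752) D39747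
def n85918 : Q := act 3 n39747
theorem D85918 : act 3 n39747 = n85918 := rfl
theorem F131815 : act 7 n85918 = n39753 := d8_2 F60595 D85918 (iv3 D39753)
theorem F131816 : act 4 n85075 = n85918 := d11_3 F131815 (iv4 F60598) D85075
theorem F131817 : act 2 n85918 = n85077 := d1_1 F131816 (iv4 D85077) (iv2 F130424)
def n85919 : Q := act 4 n39747
theorem D85919 : act 4 n39747 = n85919 := rfl
theorem F131818 : act 2 n85919 = n39749 := d1_1 D85919 (iv4 D39749) D39747
theorem F131819 : act 7 n85919 = n39754 := d11_2 F60595 D85919 (iv4 D39754)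
def n85920 : Q := act 5 n39747
theorem D85920 : act 5 n39747 = n85920 := rfl
theorem F131820 : act 2 n85920 = n39750 := d2_1 D85920 (iv5 D39750) D39747
theorem F131821 : act 7 n85920 = n39755 := d13_2 F60595 D85920 (iv5 D39755)
def n85922 : Q := act 0 n39748
theorem D85922 : act 0 n39748 = n85922 := rfl
def n85923 : Q := act 1 n39748
theorem D85923 : act 1 n39748 = n85923 := rfl
def n85924 : Q := act 2 n39748
theorem D85924 : act 2 n39748 = n85924 := rfl
theorem F131823 : act 3 n85924 = n85077 := d0_2 D39748 D85924 (iv2 F131817) (iv3 D85918) (iv2 D39747)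
theorem F131824 : act 4 n85924 = n85257 := d1_2 (iv4 F60596) D85924 F130571
theorem F131825 : act 7 n85254 = n85924 := d11_0 F131824 (iv7 D85257) D85254
theorem F131826 : act 7 n85077 = n83713 := d8_2 F131825 F131823 (iv3 F130570)
theorem F131827 : act 1 n85923 = n85254 := d15_1 D85923 F131825 (iv2 D85924)
theorem F131828 : act 2 n83713 = n39753 := d4_1 F131826 (iv7 F131815) F131817
theorem E14307 : n85071 = n84146 := ((c11_2 F131826 F129190 (iv7 F130422) D85077)).symm
theorem F131829 : act 2 n84146 = n39341 := (sb E14307 (iv2 D85071))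
theorem F131830 : act 7 n84146 = n39342 := (sb E14307 (iv7 F130422))
theorem E14308 : n85918 = n83714 := (c15_4 F128774 F128779 (iv7 F131826) (iv2 F131817))
theorem F131831 : act 2 n83714 = n85077 := (sb E14308 F131817)
theorem F131832 : act 3 n83714 = n39747 := (sb E14308 (iv3 D85918))
theorem F131833 : act 4 n83714 = n85075 := (sb E14308 (iv4 F131816))
theorem F131834 : act 7 n83714 = n39753 := (sb E14308 F131815)
theorem F131835 : act 0 n58356 = n85919 := d20_7 (iv4 D38584) (iv1 F59394) F59391 (iv3 F44864) (iv1 F44867) D27783 D58356 (iv4 D85919) (iv3 F131832) (iv1 D83714)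
theorem F131836 : act 7 n58533 = n39749 := d15_2 (iv0 F131835) (iv0 F92470) (iv2 F131818)
theorem F131837 : act 2 n39754 = n58533 := d4_3 F131836 (iv2 F131818) F131819
theorem E14309 : n39752 = n27848 := (c11_3 F131836 (iv4 D39749) D39752 D58533)
theorem E14310 : n85917 = n18800 := ((((iv1 F44967)).symm.trans (sb E14309 (iv1 F131814)))).symm
theorem E14312 : n58531 = n18799 := ((D58531).symm.trans (sb E14309 F60597))
theorem E14313 : n58536 = n18798 := ((D58536).symm.trans (sb E14309 (iv7 D39752)))
theorem E14314 : n39747 = n27849 := ((((iv1 F44971)).symm.trans (sb E14310 (iv1 D85917)))).symm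
theorem F131838 : act 2 n18799 = n27848 := (sb E14312 (iv2 D58531))
theorem F131839 : act 7 n18798 = n27848 := (sb E14313 (iv7 D58536))
theorem E14315 : n83714 = n58537 := (((D58537).symm.trans (sb E14314 (iv3 F131832)))).symm
theorem E14316 : n85919 = n58538 := (((D58538).symm.trans (sb E14314 D85919))).symm
theorem E14317 : n85920 = n58539 := (((D58539).symm.trans (sb E14314 D85920))).symm
theorem F131841 : act 7 n27849 = n18799 := (sb E14314 (iv7 F60595))
theorem F131842 : act 0 n58537 = n38584 := (sb E14315 (iv1 D83714))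
theorem F131843 : act 1 n58537 = n38589 := (sb E14315 F128774)
theorem F131844 : act 2 n58537 = n85077 := (sb E14315 F131831)
theorem E14319 : n85075 = n85020 := ((((iv4 F130370)).symm.trans (sb E14315 F131833))).symm
theorem F131845 : act 7 n58537 = n39753 := (sb E14315 F131834)
theorem F131846 : act 1 n58538 = n58356 := (sb E14316 (iv0 F131835))
theorem F131847 : act 2 n58538 = n39749 := (sb E14316 F131818)
theorem F131848 : act 7 n58538 = n39754 := (sb E14316 F131819)
theorem F131849 : act 2 n58539 = n39750 := (sb E14317 F131820)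
theorem F131850 : act 7 n58539 = n39755 := (sb E14317 F131821)
theorem F131853 : act 7 n85020 = n39341 := (sb E14319 (iv7 D85075))
theorem E14320 : n85019 = n84146 := ((c15_4 (iv0 D85019) D85020 F131853 (iv2 F131829))).symm
theorem F131854 : act 0 n84146 = n39321 := (sb E14320 (iv1 F130368))
theorem F131855 : act 1 n84146 = n39316 := (sb E14320 (iv0 D85019))
theorem F131856 : act 7 n58532 = n39748 := d8_2 F131839 D58532 (iv3 D39748)
theorem F131857 : act 7 n58534 = n39750 := d13_2 F131839 D58534 (iv5 D39750)
theorem F131858 : act 2 n39755 = n58534 := d4_3 F131857 (iv2 F131849) F131850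
theorem F131859 : act 2 n85254 = n58532 := d4_3 F131856 D85924 (iv7 F131825)
theorem E14321 : n85253 = n58432 := (c11_3 F131856 F60596 F130569 (iv4 F92469))
theorem F131860 : act 2 n58432 = n39401 := (sb E14321 (iv2 D85253))
theorem F131861 : act 7 n58432 = n39402 := (sb E14321 (iv7 F130569))
theorem F131862 : act 1 n85254 = n85922 := d15_0 (iv0 D85922) (iv7 F131856) (iv2 F131859)
theorem E14322 : n85257 = n58431 := (c15_4 (iv0 D58431) D58432 F131861 (iv2 F130571))
theorem F131864 : act 4 n58431 = n85924 := (sb E14322 (iv4 F131824))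
theorem F131865 : act 7 n58431 = n39401 := (sb E14322 (iv7 D85257))
theorem F131866 : act 0 n85077 = n60338 := d20_10 F94871 (iv1 F59392) F29552 F13646 (iv1 F9803) D13269 D27805 D58431 F131864 F131823
theorem F131867 : act 1 n39753 = n60338 := d15_0 (iv0 F131866) F131826 F131828
theorem E14323 : n85076 = n84140 := (c8_2 F131830 D85076 (iv7 F129187) D84146)
theorem F131869 : act 3 n84140 = n39342 := (sb E14323 (iv3 D85076))
def n85925 : Q := act 5 n39748
theorem D85925 : act 5 n39748 = n85925 := rfl
theorem F131870 : act 3 n85925 = n39750 := d6_1 D85925 (iv5 D39750) D39748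
def n85927 : Q := act 0 n39749
theorem D85927 : act 0 n39749 = n85927 := rfl
theorem F131873 : act 4 n85927 = n58311 := d20_2 D39749 D85927 (iv3 D58311) (iv1 F44866) F22058 F9807 (iv1 F4240) D3926 D8809 D18798
theorem F131874 : act 1 n39754 = n85927 := d15_0 (iv0 D85927) (iv7 F131836) (iv2 F131837)
theorem F131875 : act 0 n39753 = n83657 := d20_10 (iv4 D83657) (iv1 D38567) F29547 (iv3 F22055) D27773 D58311 (iv4 F131873) (iv1 F131874) (iv4 D39754) D39753
theorem F131876 : act 1 n85077 = n83657 := d15_0 (iv0 F131875) (iv7 F131845) F131844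
theorem E14324 : n84140 = n83068 := (c20_4 D83657 (iv1 F131876) (iv4 D85077) (iv3 F131869) (iv1 D83068) (iv3 D38231) (iv4 D18264) (iv1 F13529) (iv4 F13576) (iv3 F29551) (iv1 F59388))
theorem F131877 : act 2 n83068 = n38786 := (sb E14324 (iv2 D84140))
theorem F131878 : act 3 n83068 = n39342 := (sb E14324 F131869)
theorem F131879 : act 7 n83068 = n38787 := (sb E14324 (iv7 F129187))
theorem E14325 : n84145 = n83067 := (c15_4 (iv0 D83067) D83068 F131879 (iv2 F129189))
theorem F131880 : act 2 n83067 = n38787 := (sb E14325 F129189)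
theorem F131881 : act 7 n83067 = n38786 := (sb E14325 (iv7 D84145))
def n85928 : Q := act 1 n39749
theorem D85928 : act 1 n39749 = n85928 := rfl
theorem F131882 : act 1 n85928 = n39754 := d15_1 D85928 (iv7 F131848) F131847
def n85929 : Q := act 3 n39749
theorem D85929 : act 3 n39749 = n85929 := rfl
theorem F131883 : act 4 n85929 = n85258 := d5_2 D39749 D85929 (iv3 D85258) (iv4 F60596) (iv3 D39748)
theorem F131884 : act 0 n85929 = n83766 := d20_10 (iv4 D83766) (iv1 F113417) F113413 (iv3 D39706) (iv1 D18788) D18789 F30036 D18798 D39749 D85929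
theorem F131885 : act 0 n83771 = n85929 := d20_1 D83771 F131883 (iv3 D85258) (iv1 D39402) (iv3 F30365) (iv4 D19022) D19019 F59675 (iv3 F113412) (iv1 F113416)
theorem F131886 : act 0 n85216 = n83770 := d20_4 (iv4 D18675) D18672 D39390 D85216 (iv3 D83770) D83771 F131885 F131883 (iv3 D85258) (iv1 D39402)
def n85932 : Q := act 0 n39750
theorem D85932 : act 0 n39750 = n85932 := rfl
theorem F131888 : act 1 n39755 = n85932 := d15_0 (iv0 D85932) (iv7 F131857) (iv2 F131858)
def n85933 : Q := act 1 n39750
theorem D85933 : act 1 n39750 = n85933 := rfl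
theorem F131889 : act 1 n85933 = n39755 := d15_1 D85933 (iv7 F131850) F131849
def n85940 : Q := act 5 n39753
theorem D85940 : act 5 n39753 = n85940 := rfl
theorem F131890 : act 3 n85940 = n39755 := d6_1 D85940 (iv5 D39755) D39753
theorem F131891 : act 4 n85940 = n85159 := d18_5 D8757 D18655 D39341 F60598 D85940 (iv0 D85159) (iv4 D39374) (iv0 D18663) (iv5 D8759)
theorem E14326 : n85933 = n60427 := (c20_5 D39374 D85159 (iv4 F131891) F131890 (iv1 F131889) (iv3 D60427) (iv4 F46263) (iv1 D18711) (iv4 D8773) (iv3 F13645) D18663)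
theorem F131892 : act 0 n60427 = n39750 := (sb E14326 (iv1 D85933))
theorem F131894 : act 4 n85925 = n85458 := d20_6 (iv4 F44934) (iv1 F44936) F46263 D60427 F131892 (iv3 F131870) (iv1 D85458) (iv4 D39465) (iv3 D18702) (iv1 F22069)
theorem E14327 : n85932 = n71109 := ((c15_4 (iv0 D85932) (iv0 F131892) F94942 (iv2 F109860))).symm
theorem F131895 : act 0 n71109 = n39755 := (sb E14327 (iv1 F131888))
theorem F131896 : act 1 n71109 = n39750 := (sb E14327 (iv0 D85932))
def n85941 : Q := act 6 n39753
theorem D85941 : act 6 n39753 = n85941 := rfl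
theorem F131897 : act 3 n85941 = n39756 := d7_1 D85941 (iv6 D39756) D39753
theorem F131898 : act 4 n85941 = n85074 := d10_1 D85941 (iv6 D85074) F60598
def n85942 : Q := act 5 n39754
theorem D85942 : act 5 n39754 = n85942 := rfl
def n85943 : Q := act 6 n39754
theorem D85943 : act 6 n39754 = n85943 := rfl
theorem F131899 : act 4 n85943 = n39756 := d10_1 D85943 (iv6 D39756) D39754
def n85944 : Q := act 4 n39755
theorem D85944 : act 4 n39755 = n85944 := rfl
def n85945 : Q := act 6 n39755
theorem D85945 : act 6 n39755 = n85945 := rfl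
def n85950 : Q := act 4 n39757
theorem D85950 : act 4 n39757 = n85950 := rfl
theorem F131900 : act 2 n85950 = n39761 := d1_1 D85950 (iv4 D39761) (iv2 F60599)
def n85951 : Q := act 6 n39757
theorem D85951 : act 6 n39757 = n85951 := rfl
theorem F131901 : act 2 n85951 = n39762 := d3_1 D85951 (iv6 D39762) (iv2 F60599)
def n85952 : Q := act 0 n39758
theorem D85952 : act 0 n39758 = n85952 := rfl
def n85953 : Q := act 1 n39758
theorem D85953 : act 1 n39758 = n85953 := rfl
theorem F131902 : act 1 n85953 = n39766 := d15_1 D85953 (iv7 D39766) (iv2 F60600)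
def n85954 : Q := act 5 n39758
theorem D85954 : act 5 n39758 = n85954 := rfl
theorem F131903 : act 2 n85954 = n39765 := d2_1 D85954 (iv5 D39765) (iv2 F60600)
def n85955 : Q := act 7 n39758
theorem D85955 : act 7 n39758 = n85955 := rfl
theorem F131904 : act 2 n85955 = n39766 := d4_1 D85955 (iv7 D39766) (iv2 F60600)
theorem F131905 : act 3 n85955 = n85817 := d8_1 D85955 F131671 F92581
theorem F131906 : act 6 n85955 = n58556 := d14_1 D85955 F92500 F60610 F44969 D39758
theorem F131907 : act 1 n39766 = n85952 := d15_0 (iv0 D85952) D85955 F131904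
theorem F131908 : act 1 n39764 = n85955 := d15_1 D39764 (iv7 D85955) F60600
theorem F131909 : act 1 n85955 = n39763 := d15_0 (iv0 D39763) D39766 (iv2 F131904)
def n85956 : Q := act 2 n39759
theorem D85956 : act 2 n39759 = n85956 := rfl
theorem F131910 : act 7 n39760 = n85956 := d15_2 (iv0 D39759) D39760 (iv2 D85956)
def n85957 : Q := act 3 n39759
theorem D85957 : act 3 n39759 = n85957 := rfl
theorem F131911 : act 4 n85957 = n85280 := d20_6 D39414 F60341 (iv4 D18803) (iv3 F30042) D39759 D85957 (iv1 D85280) (iv4 D39407) F29934 D18679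
def n85958 : Q := act 4 n39759
theorem D85958 : act 4 n39759 = n85958 := rfl
def n85959 : Q := act 5 n39759
theorem D85959 : act 5 n39759 = n85959 := rfl
def n85960 : Q := act 6 n39759
theorem D85960 : act 6 n39759 = n85960 := rfl
def n85961 : Q := act 7 n39759
theorem D85961 : act 7 n39759 = n85961 := rfl
theorem F131912 : act 2 n85961 = n39760 := d4_1 D85961 F131910 (iv2 D85956)
def n85962 : Q := act 3 n39760
theorem D85962 : act 3 n39760 = n85962 := rfl
theorem F131913 : act 4 n85097 = n85962 := d20_2 D39349 D85097 (iv3 D85962) (iv1 D39760) F30042 D18803 (iv1 F60345) (iv4 D39417) (iv3 F110344) (iv1 D39348)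
def n85963 : Q := act 4 n39760
theorem D85963 : act 4 n39760 = n85963 := rfl
def n85964 : Q := act 5 n39760
theorem D85964 : act 5 n39760 = n85964 := rfl
def n85965 : Q := act 6 n39760
theorem D85965 : act 6 n39760 = n85965 := rfl
def n85966 : Q := act 0 n39761
theorem D85966 : act 0 n39761 = n85966 := rfl
def n85967 : Q := act 1 n39761
theorem D85967 : act 1 n39761 = n85967 := rfl
def n85968 : Q := act 3 n39761
theorem D85968 : act 3 n39761 = n85968 := rfl
theorem F131914 : act 4 n85968 = n39767 := d5_2 D39761 D85968 (iv3 D39767) (iv4 D18803) (iv3 F30042)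
def n85969 : Q := act 5 n39761
theorem D85969 : act 5 n39761 = n85969 := rfl
def n85970 : Q := act 6 n39761
theorem D85970 : act 6 n39761 = n85970 := rfl
theorem F131915 : act 4 n85970 = n39762 := d10_1 D85970 (iv6 D39762) D39761
def n85971 : Q := act 0 n39762
theorem D85971 : act 0 n39762 = n85971 := rfl
def n85972 : Q := act 1 n39762
theorem D85972 : act 1 n39762 = n85972 := rfl
def n85973 : Q := act 5 n39762
theorem D85973 : act 5 n39762 = n85973 := rfl
theorem F131916 : act 3 n85973 = n39770 := d6_1 D85973 (iv5 D39770) (iv3 F60601)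
theorem F131917 : act 6 n85973 = n39765 := d12_2 D39762 D85973 (iv5 D39765) (iv6 D18802) D18801
def n85974 : Q := act 7 n39762
theorem D85974 : act 7 n39762 = n85974 := rfl
theorem F131918 : act 3 n85974 = n39771 := d8_1 D85974 (iv7 D39771) (iv3 F60601)
def n85975 : Q := act 2 n39763
theorem D85975 : act 2 n39763 = n85975 := rfl
theorem F131919 : act 7 n39764 = n85975 := d15_2 (iv0 D39763) D39764 (iv2 D85975)
def n85976 : Q := act 3 n39763
theorem D85976 : act 3 n39763 = n85976 := rfl
def n85977 : Q := act 4 n39763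
theorem D85977 : act 4 n39763 = n85977 := rfl
def n85978 : Q := act 5 n39763
theorem D85978 : act 5 n39763 = n85978 := rfl
def n85979 : Q := act 6 n39763
theorem D85979 : act 6 n39763 = n85979 := rfl
def n85980 : Q := act 7 n39763
theorem D85980 : act 7 n39763 = n85980 := rfl
theorem F131920 : act 2 n85980 = n39764 := d4_1 D85980 F131919 (iv2 D85975)
def n85981 : Q := act 3 n39764
theorem D85981 : act 3 n39764 = n85981 := rfl
def n85982 : Q := act 4 n39764
theorem D85982 : act 4 n39764 = n85982 := rfl
def n85983 : Q := act 5 n39764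
theorem D85983 : act 5 n39764 = n85983 := rfl
def n85984 : Q := act 6 n39764
theorem D85984 : act 6 n39764 = n85984 := rfl
def n85985 : Q := act 0 n39765
theorem D85985 : act 0 n39765 = n85985 := rfl
def n85986 : Q := act 1 n39765
theorem D85986 : act 1 n39765 = n85986 := rfl
def n85987 : Q := act 4 n39765
theorem D85987 : act 4 n39765 = n85987 := rfl
def n85988 : Q := act 0 n39767
theorem D85988 : act 0 n39767 = n85988 := rfl
def n85989 : Q := act 1 n39767
theorem D85989 : act 1 n39767 = n85989 := rfl
def n85990 : Q := act 2 n39767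
theorem D85990 : act 2 n39767 = n85990 := rfl
def n85991 : Q := act 6 n39767
theorem D85991 : act 6 n39767 = n85991 := rfl
theorem F131921 : act 3 n85991 = n39768 := d7_1 D85991 (iv6 D39768) D39767
def n85992 : Q := act 0 n39768
theorem D85992 : act 0 n39768 = n85992 := rfl
def n85993 : Q := act 5 n39768
theorem D85993 : act 5 n39768 = n85993 := rfl
def n85994 : Q := act 7 n39768
theorem D85994 : act 7 n39768 = n85994 := rfl
theorem F131922 : act 4 n85994 = n39771 := d11_1 D85994 (iv7 D39771) (iv4 F60605)
def n85995 : Q := act 3 n39769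
theorem D85995 : act 3 n39769 = n85995 := rfl
def n85996 : Q := act 4 n39769
theorem D85996 : act 4 n39769 = n85996 := rfl
theorem F131923 : act 7 n85996 = n74032 := d11_2 (iv7 F92600) D85996 F110781
theorem F131924 : act 1 n85437 = n85996 := d15_1 F130666 F131923 F110780
theorem F131925 : act 2 n85996 = n85435 := d15_3 (iv0 D85435) (iv0 F110782) (iv7 F131923)
theorem F131926 : act 4 n85435 = n58622 := d1_2 D85996 F131925 F92598
theorem F131927 : act 7 n85435 = n70979 := d4_2 (iv7 F131923) F131925 (iv2 F110780)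
theorem F131928 : act 1 n85996 = n58444 := d15_0 (iv0 F107530) (iv7 F131927) (iv2 F131925)
theorem F131929 : act 4 n54749 = n71150 := d18_1 D54749 (iv1 F108695) F108691 (iv5 F92599) D85996 F131928 F92302 (iv0 F86597) (iv5 D54751)
theorem E14328 : n72250 = n72221 := (c18_7 F52576 (iv4 F60373) D85435 F131926 (iv5 F92597) (iv4 F107657) F108693 (iv4 D72221) (iv0 D33337) D33339)
theorem F131930 : act 0 n72221 = n71153 := (sb E14328 (iv1 F108693))
theorem F131931 : act 1 n72221 = n33347 := (sb E14328 (iv0 D72250))
def n85997 : Q := act 0 n39770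
theorem D85997 : act 0 n39770 = n85997 := rfl
theorem F131932 : act 6 n85997 = n61830 := d21_5 F42020 F41943 D18807 (iv6 F60606) D85997 (iv5 D61830) (iv1 F47884) (iv5 F52106) (iv6 D32913) (iv1 F42018)
def n85998 : Q := act 1 n39770
theorem D85998 : act 1 n39770 = n85998 := rfl
theorem F131934 : act 1 n85998 = n71134 := d15_1 D85998 F107644 F92590
def n85999 : Q := act 4 n39770
theorem D85999 : act 4 n39770 = n85999 := rfl
def n86000 : Q := act 7 n39770
theorem D86000 : act 7 n39770 = n86000 := rfl
theorem F131937 : act 5 n86000 = n39771 := d13_1 D86000 (iv7 D39771) D39770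
theorem F131938 : act 6 n86000 = n54503 := d14_1 D86000 F86098 (iv6 F57628) F57625 (iv6 F60606)
def n86001 : Q := act 3 n39772
theorem D86001 : act 3 n39772 = n86001 := rfl
def n86002 : Q := act 2 n39773
theorem D86002 : act 2 n39773 = n86002 := rfl
theorem F131939 : act 7 n39774 = n86002 := d15_2 (iv0 D39773) D39774 (iv2 D86002)
def n86003 : Q := act 3 n39773
theorem D86003 : act 3 n39773 = n86003 := rfl
def n86004 : Q := act 4 n39773
theorem D86004 : act 4 n39773 = n86004 := rfl
def n86005 : Q := act 5 n39773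
theorem D86005 : act 5 n39773 = n86005 := rfl
def n86006 : Q := act 6 n39773
theorem D86006 : act 6 n39773 = n86006 := rfl
def n86007 : Q := act 7 n39773
theorem D86007 : act 7 n39773 = n86007 := rfl
def n86008 : Q := act 3 n39774
theorem D86008 : act 3 n39774 = n86008 := rfl
def n86009 : Q := act 4 n39774
theorem D86009 : act 4 n39774 = n86009 := rfl
def n86010 : Q := act 5 n39774
theorem D86010 : act 5 n39774 = n86010 := rfl
def n86011 : Q := act 6 n39774
theorem D86011 : act 6 n39774 = n86011 := rfl
def n86012 : Q := act 5 n39775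
theorem D86012 : act 5 n39775 = n86012 := rfl
theorem F131941 : act 2 n86012 = n39776 := d2_1 D86012 (iv5 D39776) D39775
theorem F131942 : act 3 n86012 = n85720 := d6_1 D86012 (iv5 D85720) (iv3 F60609)
def n86013 : Q := act 0 n39776
theorem D86013 : act 0 n39776 = n86013 := rfl
def n86014 : Q := act 1 n39776
theorem D86014 : act 1 n39776 = n86014 := rfl
def n86015 : Q := act 4 n39776
theorem D86015 : act 4 n39776 = n86015 := rfl
def n86016 : Q := act 6 n39776
theorem D86016 : act 6 n39776 = n86016 := rfl
theorem F131943 : act 3 n86016 = n39777 := d7_1 D86016 (iv6 D39777) (iv3 F60611)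
theorem F131944 : act 5 n86016 = n58545 := d12_1 D86016 (iv6 D58545) (iv5 D27851) (iv6 F30065) D39776
def n86017 : Q := act 0 n39777
theorem D86017 : act 0 n39777 = n86017 := rfl
theorem F131945 : act 6 n86017 = n70964 := d21_5 (iv5 D39638) (iv1 F30022) D18810 D39777 D86017 (iv5 D70964) (iv1 F130817) (iv5 D59972) F130825 (iv1 F60525)
theorem F131946 : act 5 n86017 = n60436 := d21_0 (iv1 F110913) F110910 F84976 F98149 F98147 (iv5 D39638) (iv1 F30022) D18810 D39777 D86017
theorem F131947 : act 2 n85782 = n86017 := d15_3 (iv0 D86017) (iv0 F110914) F131552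
theorem F131948 : act 7 n86017 = n85783 := d4_2 F131552 F131947 F131554
theorem F131950 : act 6 n70944 = n76269 := d21_5 (iv5 F60613) D86017 F131946 F94955 (iv1 F107492) (iv5 F114313) F114315 D68518 F104713 (iv1 D58552)
theorem F131951 : act 5 n70944 = n70459 := d21_0 (iv1 D70459) F87452 (iv6 F87451) (iv1 D27853) D27855 (iv5 F60613) D86017 F131946 F94955 (iv1 F107492)
def n86018 : Q := act 7 n39777
theorem D86018 : act 7 n39777 = n86018 := rfl
theorem F131952 : act 2 n86018 = n85785 := d4_1 D86018 (iv7 D85785) (iv2 F60612)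
theorem F131953 : act 5 n86018 = n58553 := d13_1 D86018 (iv7 D58553) (iv5 F60613)
theorem F131954 : act 1 n85783 = n86018 := d15_1 D85783 (iv7 D86018) F60612
theorem F131955 : act 1 n86018 = n85782 := d15_1 F131954 (iv7 F131552) (iv2 F131554)
def n86019 : Q := act 0 n39782
theorem D86019 : act 0 n39782 = n86019 := rfl
theorem F131956 : act 1 n39860 = n86019 := d15_0 (iv0 D86019) F60622 D39860
def n86020 : Q := act 1 n39782
theorem D86020 : act 1 n39782 = n86020 := rfl
def n86021 : Q := act 2 n39782
theorem D86021 : act 2 n39782 = n86021 := rfl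
theorem F131957 : act 7 n86021 = n39860 := d4_2 (iv7 F60622) D86021 (iv2 D39860)
theorem F131958 : act 1 n86021 = n39858 := d15_0 (iv0 D39858) (iv7 F60622) D86021
theorem F131959 : act 1 n86020 = n39860 := d15_1 D86020 (iv7 F131957) (iv2 D86021)
theorem F131960 : act 1 n39859 = n86021 := d15_1 D39859 F131957 (iv2 D39860)
def n86022 : Q := act 0 n39798
theorem D86022 : act 0 n39798 = n86022 := rfl
theorem F131961 : act 5 n86022 = n81557 := d21_2 D39798 D86022 (iv6 D81557) (iv1 D37250) (iv6 D17904) (iv5 F16474) (iv1 F33712) F33709 D21471 F121723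
theorem F131962 : act 0 n84451 = n39799 := d21_4 D37251 D81558 F131358 (iv6 F131359) (iv6 D39799) D39798 D86022 F131961 (iv6 D81557) (iv1 D37250)
theorem F131963 : act 1 n84351 = n39799 := d15_0 (iv0 F131962) (iv7 D84451) (iv2 F129413)
theorem F131964 : act 2 n81737 = n86022 := d2_3 F131961 F125437 D81737
def n86023 : Q := act 1 n39798
theorem D86023 : act 1 n39798 = n86023 := rfl
theorem F131965 : act 7 n86023 = n81737 := d15_2 (iv0 D86022) D86023 F131964
theorem F131966 : act 5 n81738 = n86023 := d13_3 F131965 (iv5 D81737) D81738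
def n86024 : Q := act 4 n39798
theorem D86024 : act 4 n39798 = n86024 := rfl
def n86025 : Q := act 6 n39798
theorem D86025 : act 6 n39798 = n86025 := rfl
def n86026 : Q := act 5 n39799
theorem D86026 : act 5 n39799 = n86026 := rfl
theorem F131967 : act 2 n86026 = n81687 := d2_1 D86026 (iv5 F126185) F126187
theorem F131968 : act 7 n86026 = n81686 := d13_2 (iv7 F129594) D86026 F129595
theorem F131969 : act 1 n86026 = n81689 := d17_6 (iv1 F33943) (iv5 F58263) F126091 F55886 (iv4 F60628) D86026 F125618 (iv0 F116787) (iv4 D45173)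
theorem F131970 : act 0 n86026 = n45212 := d21_1 D86026 (iv5 D45212) (iv6 D21575) (iv1 F16389) D17904 D37251 D81558 F131358 (iv6 F131359) F131962
def n86027 : Q := act 3 n39801
theorem D86027 : act 3 n39801 = n86027 := rfl
theorem F131971 : act 5 n86027 = n76022 := d6_2 (iv5 F126016) D86027 (iv3 D76022)
theorem F131972 : act 7 n86027 = n81784 := d8_2 (iv7 F126018) D86027 F125715
def n86028 : Q := act 4 n39801
theorem D86028 : act 4 n39801 = n86028 := rfl
theorem F131973 : act 7 n86028 = n81797 := d11_2 (iv7 F126018) D86028 (iv4 D81797)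
def n86029 : Q := act 0 n39802
theorem D86029 : act 0 n39802 = n86029 := rfl
def n86030 : Q := act 1 n39802
theorem D86030 : act 1 n39802 = n86030 := rfl
def n86031 : Q := act 3 n39802
theorem D86031 : act 3 n39802 = n86031 := rfl
theorem F131974 : act 4 n86031 = n39809 := d5_2 D39802 D86031 (iv3 D39809) (iv4 D18834) (iv3 F30080)
def n86032 : Q := act 5 n39802
theorem D86032 : act 5 n39802 = n86032 := rfl
def n86033 : Q := act 6 n39802
theorem D86033 : act 6 n39802 = n86033 := rfl
theorem F131975 : act 4 n86033 = n39803 := d10_1 D86033 (iv6 D39803) D39802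
def n86034 : Q := act 3 n39807
theorem D86034 : act 3 n39807 = n86034 := rfl
theorem F131976 : act 7 n86034 = n81828 := d8_2 (iv7 F60632) D86034 (iv3 D81828)
def n86035 : Q := act 5 n39807
theorem D86035 : act 5 n39807 = n86035 := rfl
theorem F131977 : act 4 n86035 = n69525 := d9_1 D86035 F105825 (iv4 D55170) F42723 F42329 (iv5 F29707) (iv4 F60037) D84569 F129730 F105812 (iv4 D55173) F51222 F51220 F30090 D39807
theorem F131978 : act 7 n86035 = n81829 := d13_2 (iv7 F60632) D86035 (iv5 D81829)
theorem F131979 : act 0 n86035 = n58698 := d17_2 F61338 D86035 (iv5 D58698) F45068 (iv5 F28208) F28844 (iv5 F57701) F57704 D40295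
def n86036 : Q := act 3 n39808
theorem D86036 : act 3 n39808 = n86036 := rfl
theorem F131981 : act 6 n86036 = n80070 := d7_2 F60636 D86036 (iv3 D80070)
theorem F131982 : act 7 n86036 = n78269 := d8_2 (iv7 F60634) D86036 F119466
def n86037 : Q := act 5 n39808
theorem D86037 : act 5 n39808 = n86037 := rfl
theorem F131983 : act 4 n86037 = n73859 := d9_1 D86037 (iv5 D73859) F53271 F46224 F28835 D17734 D36786 D80612 F123949 (iv5 D73862) F53274 (iv5 F52087) F52086 F53255 (iv4 F60635)
theorem F131985 : act 0 n86037 = n58693 := d17_2 (iv1 F60633) D86037 (iv5 D58693) (iv4 D27906) (iv5 F22107) D16834 F30090 F30088 D18848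
def n86040 : Q := act 2 n39809
theorem D86040 : act 2 n39809 = n86040 := rfl
def n86041 : Q := act 5 n39809
theorem D86041 : act 5 n39809 = n86041 := rfl
theorem F131987 : act 3 n86041 = n39810 := d6_1 D86041 (iv5 D39810) D39809
def n86042 : Q := act 6 n39809
theorem D86042 : act 6 n39809 = n86042 := rfl
theorem F131988 : act 3 n86042 = n39811 := d7_1 D86042 (iv6 D39811) D39809
def n86044 : Q := act 5 n39811
theorem D86044 : act 5 n39811 = n86044 := rfl
def n86045 : Q := act 0 n39827
theorem D86045 : act 0 n39827 = n86045 := rfl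
def n86046 : Q := act 1 n39827
theorem D86046 : act 1 n39827 = n86046 := rfl
theorem F131989 : act 5 n56733 = n86046 := d21_6 (iv5 D82073) (iv1 F126292) F126289 (iv6 F89633) (iv1 F89634) D56733 (iv1 D86046) (iv5 D39827) D39828 (iv1 F126487)
def n86048 : Q := act 6 n39827
theorem D86048 : act 6 n39827 = n86048 := rfl
def n86050 : Q := act 3 n39829
theorem D86050 : act 3 n39829 = n86050 := rfl
def n86053 : Q := act 0 n39831
theorem D86053 : act 0 n39831 = n86053 := rfl
def n86054 : Q := act 1 n39831
theorem D86054 : act 1 n39831 = n86054 := rfl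
theorem F131994 : act 4 n77790 = n86054 := d20_6 D39807 (iv1 F61314) (iv4 D40287) (iv3 F61305) F125930 (iv3 F117627) (iv1 D86054) (iv4 D39831) F30094 (iv1 F30088)
theorem F131995 : act 6 n86054 = n77789 := d10_2 D77790 F131994 (iv4 D77789)
def n86055 : Q := act 3 n39831
theorem D86055 : act 3 n39831 = n86055 := rfl
theorem F131996 : act 4 n86055 = n39835 := d5_2 D39831 D86055 (iv3 D39835) (iv4 D18848) (iv3 F30094)
def n86056 : Q := act 5 n39831
theorem D86056 : act 5 n39831 = n86056 := rfl
def n86057 : Q := act 4 n39834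
theorem D86057 : act 4 n39834 = n86057 := rfl
def n86058 : Q := act 0 n39835
theorem D86058 : act 0 n39835 = n86058 := rfl
def n86059 : Q := act 1 n39835
theorem D86059 : act 1 n39835 = n86059 := rfl
def n86060 : Q := act 2 n39835
theorem D86060 : act 2 n39835 = n86060 := rfl
def n86061 : Q := act 5 n39835
theorem D86061 : act 5 n39835 = n86061 := rfl
theorem F131999 : act 3 n86061 = n39836 := d6_1 D86061 (iv5 D39836) D39835
def n86063 : Q := act 0 n39840
theorem D86063 : act 0 n39840 = n86063 := rfl
theorem F132000 : act 4 n86063 = n44504 := d18_3 (iv1 F116794) D39840 D86063 F70010 (iv4 F59952) (iv0 F121722) (iv4 D18823) F126007 D21556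
theorem F132001 : act 7 n44503 = n86063 := d11_0 F132000 (iv7 D44504) D44503
def n86064 : Q := act 3 n39840
theorem D86064 : act 3 n39840 = n86064 := rfl
theorem F132002 : act 4 n86064 = n39842 := d5_2 D39840 D86064 (iv3 D39842) (iv4 D18853) D18852
def n86065 : Q := act 5 n39840
theorem D86065 : act 5 n39840 = n86065 := rfl
def n86066 : Q := act 6 n39840
theorem D86066 : act 6 n39840 = n86066 := rfl
theorem F132003 : act 4 n86066 = n39841 := d10_1 D86066 (iv6 D39841) D39840
def n86067 : Q := act 0 n39841
theorem D86067 : act 0 n39841 = n86067 := rfl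
def n86068 : Q := act 1 n39841
theorem D86068 : act 1 n39841 = n86068 := rfl
def n86069 : Q := act 0 n39842
theorem D86069 : act 0 n39842 = n86069 := rfl
def n86073 : Q := act 6 n39842
theorem D86073 : act 6 n39842 = n86073 := rfl
theorem F132005 : act 3 n86073 = n39844 := d7_1 D86073 (iv6 D39844) D39842
def n86074 : Q := act 0 n39843
theorem D86074 : act 0 n39843 = n86074 := rfl
theorem F132006 : act 5 n86074 = n58652 := d17_1 D86074 (iv1 D58652) D58654 F92644 F77403 F77402 D73849 F110634 F85614
theorem F132009 : act 1 n39852 = n86074 := d15_0 (iv0 D86074) (iv7 F92730) F92728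
theorem F132010 : act 7 n86074 = n80612 := d15_2 F119469 F132009 F123948
def n86076 : Q := act 1 n39844
theorem D86076 : act 1 n39844 = n86076 := rfl
theorem F132013 : act 6 n78748 = n86076 := d21_3 (iv5 F60080) D84619 F129790 (iv1 D86076) (iv6 D39844) D39843 D86074 F132006 (iv6 F92640) (iv1 D39890)
def n86077 : Q := act 2 n39845
theorem D86077 : act 2 n39845 = n86077 := rfl
theorem F132014 : act 6 n86077 = n39912 := d3_2 (iv6 F60729) D86077 F60726
theorem F132015 : act 7 n39846 = n86077 := d15_2 (iv0 D39845) D39846 (iv2 D86077)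
theorem F132016 : act 7 n39911 = n39910 := d14_4 F132015 F132014 (iv7 D39912) D39911 F60722
theorem E14329 : n39912 = n27919 := (c13_3 F132016 (iv5 D39910) D39912 (iv5 F60724))
theorem E14330 : n58722 = n18878 := (((iv2 F92793)).symm.trans (sb E14329 F60726))
theorem E14331 : n86077 = n58687 := ((((iv6 F92707)).symm.trans (sb E14329 (iv6 F132014)))).symm
theorem E14332 : n58719 = n18877 := ((F92790).symm.trans (sb E14329 (iv7 D39912)))
theorem F132017 : act 2 n18878 = n27919 := (sb E14330 F92793)
theorem E14333 : n78725 = n39914 := (((D39914).symm.trans (sb E14330 (iv4 F119865)))).symm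
theorem E14334 : n39907 = n27918 := ((F60721).symm.trans (sb E14330 (iv7 D58722)))
theorem F132018 : act 2 n58687 = n39845 := (sb E14331 (iv2 D86077))
theorem F132019 : act 7 n58687 = n39846 := (sb E14331 (iv7 F132015))
theorem E14335 : n78721 = n39909 := (((D39909).symm.trans (sb E14332 (iv4 F119860)))).symm
theorem F132020 : act 7 n18877 = n27919 := (sb E14332 (iv7 F92790))
theorem F132021 : act 2 n39914 = n35847 := (sb E14333 F119864)
theorem F132022 : act 7 n39914 = n35846 := (sb E14333 (iv7 D78725))
theorem F132023 : act 2 n27918 = n18877 := (sb E14334 (iv2 D39907))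
theorem F132024 : act 7 n27918 = n18878 := (sb E14334 (iv7 F60721))
theorem F132025 : act 2 n39909 = n35846 := (sb E14335 (iv2 D78721))
theorem F132026 : act 7 n39909 = n35847 := (sb E14335 (iv7 F119861))
theorem F132027 : act 2 n39910 = n58721 := d15_3 (iv0 F92792) (iv0 F60725) F132016
theorem F132028 : act 2 n39911 = n39915 := d15_3 F115682 (iv0 F115683) (iv7 F132016)
theorem F132029 : act 7 n39915 = n58721 := d4_2 (iv7 F132016) F132028 (iv2 F132027)
theorem F132030 : act 7 n58688 = n39845 := d14_2 F132029 F92791 F60729 (iv7 F132024) (iv6 F60728)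
theorem F132031 : act 2 n39846 = n58688 := d4_3 F132030 (iv2 F132018) F132019
theorem F132032 : act 7 n39913 = n58720 := d8_2 F132024 D39913 (iv3 D58720)
theorem F132033 : act 7 n58723 = n39908 := d8_2 F132020 D58723 (iv3 D39908)
def n86078 : Q := act 3 n39845
theorem D86078 : act 3 n39845 = n86078 := rfl
theorem F132034 : act 6 n86078 = n39913 := d7_2 (iv6 F60729) D86078 (iv3 D39913)
def n86079 : Q := act 4 n39845
theorem D86079 : act 4 n39845 = n86079 := rfl
theorem F132035 : act 2 n86079 = n78728 := d1_1 D86079 F119866 F132018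
theorem F132036 : act 6 n86079 = n39914 := d10_2 (iv6 F60729) D86079 (iv4 D39914)
def n86080 : Q := act 3 n39846
theorem D86080 : act 3 n39846 = n86080 := rfl
def n86081 : Q := act 4 n39846
theorem D86081 : act 4 n39846 = n86081 := rfl
theorem F132037 : act 7 n86081 = n78728 := d11_2 F132019 D86081 F119866
theorem F132038 : act 0 n86081 = n39855 := d18_2 (iv1 F88563) D86081 F60651 F56484 D55915 F114174 F56557 (iv0 F43558) D55961
theorem F132039 : act 1 n86079 = n39855 := d15_0 (iv0 F132038) F132037 (iv2 F132035)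
def n86082 : Q := act 0 n39850
theorem D86082 : act 0 n39850 = n86082 := rfl
theorem F132040 : act 4 n86082 = n56622 := d18_3 (iv1 F117292) D39850 D86082 (iv5 D56622) (iv4 F44598) F125962 (iv4 D18842) (iv0 F124284) (iv5 F58378)
theorem F132041 : act 2 n77540 = n86082 := d1_3 F132040 F89545 D77540
theorem F132042 : act 6 n39893 = n86082 := d10_0 F132040 F89546 (iv4 F60706)
def n86083 : Q := act 1 n39850
theorem D86083 : act 1 n39850 = n86083 := rfl
theorem F132043 : act 7 n86083 = n77540 := d15_2 (iv0 D86082) D86083 F132041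
theorem F132044 : act 4 n77541 = n86083 := d20_6 D8829 D18859 F41677 (iv3 F91311) (iv1 F56260) (iv3 F116425) (iv1 D86083) (iv4 D39850) (iv3 D18856) (iv1 D8828)
def n86084 : Q := act 3 n39850
theorem D86084 : act 3 n39850 = n86084 := rfl
theorem F132045 : act 4 n86084 = n39851 := d5_2 D39850 D86084 (iv3 D39851) (iv4 D18857) D18856
def n86085 : Q := act 5 n39850
theorem D86085 : act 5 n39850 = n86085 := rfl
def n86086 : Q := act 0 n39851
theorem D86086 : act 0 n39851 = n86086 := rfl
def n86087 : Q := act 1 n39851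
theorem D86087 : act 1 n39851 = n86087 := rfl
def n86088 : Q := act 2 n39851
theorem D86088 : act 2 n39851 = n86088 := rfl
def n86089 : Q := act 5 n39851
theorem D86089 : act 5 n39851 = n86089 := rfl
theorem F132046 : act 3 n86089 = n39852 := d6_1 D86089 (iv5 D39852) D39851
def n86090 : Q := act 6 n39852
theorem D86090 : act 6 n39852 = n86090 := rfl
def n86091 : Q := act 0 n39853
theorem D86091 : act 0 n39853 = n86091 := rfl
def n86092 : Q := act 1 n39853
theorem D86092 : act 1 n39853 = n86092 := rfl
def n86093 : Q := act 2 n39853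
theorem D86093 : act 2 n39853 = n86093 := rfl
def n86094 : Q := act 4 n39853
theorem D86094 : act 4 n39853 = n86094 := rfl
theorem F132047 : act 3 n86094 = n77980 := d5_1 D86094 (iv4 D77980) F91311 (iv4 F41677) D39853
def n86095 : Q := act 5 n39853
theorem D86095 : act 5 n39853 = n86095 := rfl
theorem F132048 : act 3 n86095 = n39854 := d6_1 D86095 (iv5 D39854) D39853
def n86096 : Q := act 6 n39853
theorem D86096 : act 6 n39853 = n86096 := rfl
theorem F132049 : act 3 n86096 = n39855 := d7_1 D86096 (iv6 D39855) D39853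
def n86097 : Q := act 0 n39854
theorem D86097 : act 0 n39854 = n86097 := rfl
theorem F132050 : act 5 n86097 = n58651 := d17_1 D86097 F92634 (iv5 F92744) F92745 (iv5 D33963) F53272 D73859 F110667 F85684
theorem F132051 : act 4 n86097 = n73849 := d18_1 D86097 F110633 F85609 (iv5 D39852) (iv4 D18857) (iv0 F22101) D27885 F45020 D39854
theorem F132053 : act 1 n39857 = n86097 := d15_0 (iv0 D86097) (iv7 F92740) F92738
theorem F132054 : act 7 n86097 = n84569 := d15_2 F125776 F132053 F129729
def n86098 : Q := act 6 n39854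
theorem D86098 : act 6 n39854 = n86098 := rfl
def n86099 : Q := act 5 n39855
theorem D86099 : act 5 n39855 = n86099 := rfl
theorem F132055 : act 2 n86099 = n78864 := d2_1 D86099 (iv5 F120018) F92735
theorem F132056 : act 7 n86099 = n78863 := d13_2 F119762 D86099 F120017
def n86100 : Q := act 0 n39856
theorem D86100 : act 0 n39856 = n86100 := rfl
def n86101 : Q := act 1 n39856
theorem D86101 : act 1 n39856 = n86101 := rfl
def n86102 : Q := act 2 n39856
theorem D86102 : act 2 n39856 = n86102 := rfl
def n86103 : Q := act 4 n39856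
theorem D86103 : act 4 n39856 = n86103 := rfl
theorem F132059 : act 3 n86103 = n78639 := d5_1 D86103 (iv4 D78639) (iv3 D35823) F41676 D39856
def n86104 : Q := act 5 n39856
theorem D86104 : act 5 n39856 = n86104 := rfl
theorem F132060 : act 3 n86104 = n39857 := d6_1 D86104 (iv5 D39857) D39856
def n86105 : Q := act 6 n39857
theorem D86105 : act 6 n39857 = n86105 := rfl
def n86106 : Q := act 2 n39858
theorem D86106 : act 2 n39858 = n86106 := rfl
theorem F132061 : act 7 n39859 = n86106 := d15_2 (iv0 D39858) D39859 (iv2 D86106)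
def n86107 : Q := act 3 n39858
theorem D86107 : act 3 n39858 = n86107 := rfl
def n86108 : Q := act 4 n39858
theorem D86108 : act 4 n39858 = n86108 := rfl
def n86109 : Q := act 5 n39858
theorem D86109 : act 5 n39858 = n86109 := rfl
def n86110 : Q := act 6 n39858
theorem D86110 : act 6 n39858 = n86110 := rfl
def n86111 : Q := act 7 n39858
theorem D86111 : act 7 n39858 = n86111 := rfl
theorem F132062 : act 2 n86111 = n39859 := d4_1 D86111 F132061 (iv2 D86106)
def n86112 : Q := act 3 n39859
theorem D86112 : act 3 n39859 = n86112 := rfl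
def n86113 : Q := act 4 n39859
theorem D86113 : act 4 n39859 = n86113 := rfl
def n86114 : Q := act 5 n39859
theorem D86114 : act 5 n39859 = n86114 := rfl
def n86115 : Q := act 6 n39859
theorem D86115 : act 6 n39859 = n86115 := rfl
def n86116 : Q := act 5 n39860
theorem D86116 : act 5 n39860 = n86116 := rfl
theorem F132063 : act 2 n86116 = n39861 := d2_1 D86116 (iv5 D39861) D39860
def n86117 : Q := act 0 n39861
theorem D86117 : act 0 n39861 = n86117 := rfl
def n86118 : Q := act 1 n39861
theorem D86118 : act 1 n39861 = n86118 := rfl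
def n86119 : Q := act 4 n39861
theorem D86119 : act 4 n39861 = n86119 := rfl
def n86120 : Q := act 3 n39862
theorem D86120 : act 3 n39862 = n86120 := rfl
def n86121 : Q := act 6 n39862
theorem D86121 : act 6 n39862 = n86121 := rfl
def n86123 : Q := act 6 n39863
theorem D86123 : act 6 n39863 = n86123 := rfl
def n86124 : Q := act 3 n39864
theorem D86124 : act 3 n39864 = n86124 := rfl
theorem F132064 : act 7 n86124 = n75165 := d8_2 (iv7 F60655) D86124 (iv3 D75165)
def n86125 : Q := act 5 n39864
theorem D86125 : act 5 n39864 = n86125 := rfl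
theorem F132065 : act 2 n86125 = n75174 := d2_1 D86125 (iv5 D75174) (iv2 F60654)
theorem F132066 : act 7 n86125 = n75166 := d13_2 (iv7 F60655) D86125 (iv5 D75166)
theorem F132067 : act 4 n86125 = n40520 := d16_2 D39864 D86125 (iv5 D40520) (iv4 F30765) (iv5 D9472) D9471 (iv5 F30106) F30105 F30103
theorem F132068 : act 0 n86125 = n81504 := d17_2 F70011 D86125 (iv5 D81504) F58170 F33761 (iv0 F28030) (iv5 F28514) (iv0 F33399) D44505
theorem F132069 : act 1 n86125 = n81507 := d17_6 F30176 F22116 (iv1 F27346) (iv5 F30102) D39864 D86125 (iv5 D81507) (iv0 F60838) (iv4 D39975)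
def n86126 : Q := act 6 n39864
theorem D86126 : act 6 n39864 = n86126 := rfl
theorem F132070 : act 2 n86126 = n75175 := d3_1 D86126 (iv6 D75175) (iv2 F60654)
theorem F132071 : act 4 n86126 = n39865 := d10_1 D86126 (iv6 D39865) D39864
def n86127 : Q := act 6 n39866
theorem D86127 : act 6 n39866 = n86127 := rfl
theorem F132072 : act 3 n86127 = n39868 := d7_1 D86127 (iv6 D39868) D39866
theorem F132073 : act 5 n86127 = n40740 := d12_1 D86127 (iv6 D40740) (iv5 D19220) D19221 (iv5 F60658)
def n86128 : Q := act 3 n39867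
theorem D86128 : act 3 n39867 = n86128 := rfl
theorem F132074 : act 7 n86128 = n75173 := d8_2 (iv7 F60663) D86128 (iv3 D75173)
def n86129 : Q := act 5 n39867
theorem D86129 : act 5 n39867 = n86129 := rfl
theorem F132075 : act 2 n86129 = n75166 := d2_1 D86129 (iv5 D75166) (iv2 F60662)
theorem F132076 : act 4 n86129 = n40517 := d9_1 D86129 (iv5 D40517) F32696 F32692 (iv4 F31669) (iv5 F30102) D39864 D86125 F132067 (iv5 D40520) (iv4 F30765) (iv5 D9472) D9471 (iv5 F30106) D39867
theorem F132077 : act 7 n86129 = n75174 := d13_2 (iv7 F60663) D86129 (iv5 D75174)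
theorem F132078 : act 0 n86129 = n81507 := d17_2 F70013 D86129 (iv5 D81507) F58171 F33768 (iv0 D19119) D19120 (iv0 F33402) D44506
theorem F132079 : act 1 n86129 = n81504 := d17_6 (iv1 F27352) (iv5 D16691) F14687 (iv5 F30106) D39867 D86129 (iv5 D81504) (iv0 D37216) (iv4 D17894)
def n86130 : Q := act 6 n39867
theorem D86130 : act 6 n39867 = n86130 := rfl
theorem F132081 : act 4 n86130 = n39868 := d10_1 D86130 (iv6 D39868) D39867
def n86131 : Q := act 3 n39869
theorem D86131 : act 3 n39869 = n86131 := rfl
theorem F132082 : act 4 n86131 = n75301 := d5_2 (iv4 F60666) D86131 (iv3 D75301) F54712 (iv3 F57000)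
def n86132 : Q := act 5 n39869
theorem D86132 : act 5 n39869 = n86132 := rfl
theorem F132085 : act 4 n86132 = n40511 := d16_2 (iv4 F60666) D86132 (iv5 D40511) (iv4 D19142) (iv5 F13986) (iv4 F16520) D21763 F34203 D36259
theorem F132086 : act 0 n86132 = n48550 := d17_2 D39869 D86132 F76413 (iv4 D34420) (iv5 D16691) D16690 (iv5 F30102) (iv0 D18863) D18865
theorem F132087 : act 1 n86132 = n58711 := d17_6 (iv1 F33412) F33413 (iv1 F33409) (iv5 F57001) (iv4 F60666) D86132 (iv5 D58711) (iv0 F56942) (iv4 D36239)
def n86133 : Q := act 6 n39869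
theorem D86133 : act 6 n39869 = n86133 := rfl
theorem F132088 : act 2 n86133 = n79624 := d3_1 D86133 (iv6 D79624) F60667
theorem F132089 : act 4 n86133 = n79622 := d10_1 D86133 (iv6 D79622) (iv4 F60666)
def n86134 : Q := act 3 n39870
theorem D86134 : act 3 n39870 = n86134 := rfl
theorem F132090 : act 4 n86134 = n55780 := d5_2 (iv4 F60669) D86134 (iv3 D55780) (iv4 D26919) (iv3 F34202)
theorem F132091 : act 7 n86134 = n79623 := d8_2 (iv7 F60668) D86134 (iv3 D79623)
def n86135 : Q := act 5 n39870
theorem D86135 : act 5 n39870 = n86135 := rfl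
theorem F132092 : act 2 n86135 = n75185 := d2_1 D86135 F112729 F61545
theorem F132093 : act 4 n86135 = n40504 := d9_1 D86135 (iv5 D40504) (iv4 D19139) F16900 D19116 (iv5 F57001) (iv4 F60666) D86132 F132085 (iv5 D40511) (iv4 D19142) (iv5 F13986) (iv4 F16520) D21763 (iv4 F60669)
theorem F132094 : act 7 n86135 = n75186 := d13_2 (iv7 F60668) D86135 F112733
theorem F132095 : act 0 n86135 = n58711 := d17_2 F70839 D86135 (iv5 D58711) (iv4 D27914) F22116 (iv0 F14686) (iv5 F30106) (iv0 F33809) D45024
theorem F132096 : act 1 n86135 = n48550 := d17_6 D21167 F33410 (iv1 F30744) D21763 (iv4 F60669) D86135 F76413 F54616 (iv4 D21169)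
def n86136 : Q := act 6 n39870
theorem D86136 : act 6 n39870 = n86136 := rfl
theorem F132097 : act 4 n86136 = n45581 := d10_1 D86136 F71865 (iv4 F60669)
def n86137 : Q := act 0 n39871
theorem D86137 : act 0 n39871 = n86137 := rfl
def n86138 : Q := act 1 n39871
theorem D86138 : act 1 n39871 = n86138 := rfl
def n86139 : Q := act 2 n39871
theorem D86139 : act 2 n39871 = n86139 := rfl
theorem F132098 : act 4 n86139 = n39875 := d1_2 (iv4 F60670) D86139 (iv2 D39875)
def n86140 : Q := act 5 n39871
theorem D86140 : act 5 n39871 = n86140 := rfl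
theorem F132099 : act 3 n86140 = n39872 := d6_1 D86140 (iv5 D39872) D39871
def n86141 : Q := act 6 n39872
theorem D86141 : act 6 n39872 = n86141 := rfl
def n86142 : Q := act 2 n39873
theorem D86142 : act 2 n39873 = n86142 := rfl
theorem F132100 : act 7 n39874 = n86142 := d15_2 (iv0 D39873) D39874 (iv2 D86142)
def n86143 : Q := act 3 n39873
theorem D86143 : act 3 n39873 = n86143 := rfl
theorem F132101 : act 4 n86143 = n78708 := d20_6 (iv4 D9617) F6237 D8833 D18866 D39873 D86143 (iv1 D78708) (iv4 D35840) F28292 (iv1 F14992)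
def n86144 : Q := act 4 n39873
theorem D86144 : act 4 n39873 = n86144 := rfl
def n86145 : Q := act 5 n39873
theorem D86145 : act 5 n39873 = n86145 := rfl
def n86146 : Q := act 6 n39873
theorem D86146 : act 6 n39873 = n86146 := rfl
def n86147 : Q := act 7 n39873
theorem D86147 : act 7 n39873 = n86147 := rfl
theorem F132102 : act 2 n86147 = n39874 := d4_1 D86147 F132100 (iv2 D86142)
def n86148 : Q := act 3 n39874
theorem D86148 : act 3 n39874 = n86148 := rfl
def n86149 : Q := act 4 n39874
theorem D86149 : act 4 n39874 = n86149 := rfl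
def n86150 : Q := act 5 n39874
theorem D86150 : act 5 n39874 = n86150 := rfl
def n86151 : Q := act 6 n39874
theorem D86151 : act 6 n39874 = n86151 := rfl
def n86152 : Q := act 3 n39876
theorem D86152 : act 3 n39876 = n86152 := rfl
theorem F132103 : act 7 n86152 = n75217 := d8_2 (iv7 F60673) D86152 (iv3 D75217)
def n86153 : Q := act 5 n39876
theorem D86153 : act 5 n39876 = n86153 := rfl
theorem F132104 : act 2 n86153 = n75210 := d2_1 D86153 (iv5 D75210) (iv2 F60672)
theorem F132105 : act 7 n86153 = n75218 := d13_2 (iv7 F60673) D86153 (iv5 D75218)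
theorem F132106 : act 0 n86153 = n81908 := d17_2 F116028 D86153 (iv5 D81908) F58388 (iv5 D19491) D19490 D41380 F63818 D77262
theorem F132107 : act 1 n86153 = n81911 := d17_6 (iv1 F29163) (iv5 F29164) (iv1 F28303) F30110 D39876 D86153 (iv5 D81911) F58390 (iv4 D34438)
def n86154 : Q := act 6 n39876
theorem D86154 : act 6 n39876 = n86154 := rfl
theorem F132108 : act 2 n86154 = n75211 := d3_1 D86154 (iv6 D75211) (iv2 F60672)
theorem F132109 : act 4 n86154 = n39877 := d10_1 D86154 (iv6 D39877) D39876
def n86155 : Q := act 3 n39878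
theorem D86155 : act 3 n39878 = n86155 := rfl
theorem F132110 : act 7 n86155 = n75223 := d8_2 F60679 D86155 (iv3 D75223)
def n86156 : Q := act 5 n39878
theorem D86156 : act 5 n39878 = n86156 := rfl
theorem F132111 : act 2 n86156 = n75227 := d2_1 D86156 (iv5 D75227) F60678
theorem F132112 : act 7 n86156 = n75224 := d13_2 F60679 D86156 (iv5 D75224)
theorem F132113 : act 4 n86156 = n86153 := d16_2 (iv4 F60676) D86156 (iv5 D86153) (iv4 D39876) (iv5 F30110) (iv4 F28127) (iv5 F43721) F43722 (iv2 F56214)
theorem F132114 : act 0 n86156 = n81902 := d17_2 D39878 D86156 (iv5 D81902) (iv4 D37505) (iv5 F29164) F28302 D18056 (iv0 F29224) D18868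
theorem F132115 : act 1 n86156 = n39970 := d17_6 F57174 F57172 (iv1 F31170) D35547 (iv4 F60676) D86156 (iv5 D39970) (iv0 F57289) (iv4 D36476)
def n86157 : Q := act 6 n39878
theorem D86157 : act 6 n39878 = n86157 := rfl
theorem F132116 : act 2 n86157 = n75228 := d3_1 D86157 (iv6 D75228) F60678
theorem F132117 : act 4 n86157 = n77907 := d10_1 D86157 (iv6 D77907) (iv4 F60676)
def n86158 : Q := act 3 n39879
theorem D86158 : act 3 n39879 = n86158 := rfl
theorem F132118 : act 4 n86158 = n56151 := d5_2 (iv4 F60682) D86158 (iv3 D56151) (iv4 D27066) D27065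
theorem F132119 : act 7 n86158 = n75226 := d8_2 (iv7 F60681) D86158 (iv3 D75226)
def n86159 : Q := act 5 n39879
theorem D86159 : act 5 n39879 = n86159 := rfl
theorem F132120 : act 2 n86159 = n75224 := d2_1 D86159 (iv5 D75224) F60683
theorem F132121 : act 4 n86159 = n82197 := d9_1 D86159 (iv5 D82197) (iv4 D37677) (iv5 D18056) (iv4 F28166) D35547 (iv4 F60676) D86156 F132113 (iv5 D86153) (iv4 D39876) (iv5 F30110) (iv4 F28127) (iv5 F43721) (iv4 F60682)
theorem F132122 : act 7 n86159 = n75227 := d13_2 (iv7 F60681) D86159 (iv5 D75227)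
theorem F132123 : act 0 n86159 = n39970 := d17_2 (iv1 F60680) D86159 (iv5 D39970) (iv4 D18902) (iv5 D8859) D8858 F30110 F30108 D34436
theorem F132124 : act 1 n86159 = n81902 := d17_6 (iv1 F57283) F57285 (iv1 F31213) (iv5 F43721) (iv4 F60682) D86159 (iv5 D81902) F60818 F60816
def n86160 : Q := act 6 n39879
theorem D86160 : act 6 n39879 = n86160 := rfl
theorem F132125 : act 2 n86160 = n75225 := d3_1 D86160 (iv6 D75225) F60683
theorem F132126 : act 4 n86160 = n56149 := d10_1 D86160 (iv6 D56149) (iv4 F60682)
def n86161 : Q := act 0 n39880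
theorem D86161 : act 0 n39880 = n86161 := rfl
theorem F132127 : act 1 n75231 = n86161 := d15_0 (iv0 D86161) F60685 D75231
def n86162 : Q := act 2 n39880
theorem D86162 : act 2 n39880 = n86162 := rfl
theorem F132128 : act 4 n86162 = n39887 := d1_2 (iv4 F60684) D86162 (iv2 D39887)
theorem F132129 : act 7 n86162 = n75231 := d4_2 (iv7 F60685) D86162 (iv2 D75231)
theorem F132130 : act 1 n86162 = n75229 := d15_0 (iv0 D75229) (iv7 F60685) D86162
theorem F132131 : act 1 n75230 = n86162 := d15_1 D75230 F132129 (iv2 D75231)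
def n86163 : Q := act 5 n39880
theorem D86163 : act 5 n39880 = n86163 := rfl
theorem F132132 : act 3 n86163 = n39881 := d6_1 D86163 (iv5 D39881) D39880
theorem F132133 : act 7 n86163 = n75232 := d13_2 (iv7 F60685) D86163 (iv5 D75232)
def n86164 : Q := act 6 n39880
theorem D86164 : act 6 n39880 = n86164 := rfl
theorem F132134 : act 3 n86164 = n39882 := d7_1 D86164 (iv6 D39882) D39880
theorem F132135 : act 4 n86164 = n39888 := d10_1 D86164 (iv6 D39888) (iv4 F60684)
def n86165 : Q := act 0 n39881
theorem D86165 : act 0 n39881 = n86165 := rfl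
theorem F132136 : act 5 n86165 = n39893 := d17_3 (iv1 D39879) D39881 D86165 F60706 (iv5 D27226) F28079 D35309 F56217 (iv4 F60682)
theorem F132138 : act 1 n75205 = n86165 := d15_0 (iv0 D86165) F60686 (iv2 F112754)
theorem F132139 : act 4 n75203 = n86165 := d18_5 (iv1 F60815) (iv4 D39967) F30157 D34435 D75203 (iv0 D86165) (iv4 F112755) F132138 F132136
theorem F132140 : act 7 n86165 = n75233 := d11_2 (iv7 F112753) F132139 (iv4 F112780)
def n86166 : Q := act 6 n39881
theorem D86166 : act 6 n39881 = n86166 := rfl
def n86167 : Q := act 0 n39882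
theorem D86167 : act 0 n39882 = n86167 := rfl
def n86168 : Q := act 1 n39882
theorem D86168 : act 1 n39882 = n86168 := rfl
def n86169 : Q := act 5 n39882
theorem D86169 : act 5 n39882 = n86169 := rfl
def n86170 : Q := act 3 n39883
theorem D86170 : act 3 n39883 = n86170 := rfl
def n86171 : Q := act 4 n39883
theorem D86171 : act 4 n39883 = n86171 := rfl
def n86172 : Q := act 3 n39884
theorem D86172 : act 3 n39884 = n86172 := rfl
def n86173 : Q := act 4 n39884
theorem D86173 : act 4 n39884 = n86173 := rfl
def n86174 : Q := act 2 n39885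
theorem D86174 : act 2 n39885 = n86174 := rfl
theorem F132141 : act 7 n39886 = n86174 := d15_2 (iv0 D39885) D39886 (iv2 D86174)
def n86175 : Q := act 3 n39885
theorem D86175 : act 3 n39885 = n86175 := rfl
theorem F132142 : act 4 n86175 = n56171 := d20_6 (iv4 D12912) F9517 D8837 D18870 D39885 D86175 (iv1 D56171) F43733 (iv3 D12985) (iv1 F21454)
def n86176 : Q := act 4 n39885
theorem D86176 : act 4 n39885 = n86176 := rfl
def n86177 : Q := act 5 n39885
theorem D86177 : act 5 n39885 = n86177 := rfl
def n86178 : Q := act 6 n39885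
theorem D86178 : act 6 n39885 = n86178 := rfl
def n86179 : Q := act 7 n39885
theorem D86179 : act 7 n39885 = n86179 := rfl
theorem F132143 : act 2 n86179 = n39886 := d4_1 D86179 F132141 (iv2 D86174)
def n86180 : Q := act 3 n39886
theorem D86180 : act 3 n39886 = n86180 := rfl
def n86181 : Q := act 4 n39886
theorem D86181 : act 4 n39886 = n86181 := rfl
def n86182 : Q := act 5 n39886
theorem D86182 : act 5 n39886 = n86182 := rfl
def n86183 : Q := act 6 n39886
theorem D86183 : act 6 n39886 = n86183 := rfl
def n86184 : Q := act 6 n39887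
theorem D86184 : act 6 n39887 = n86184 := rfl
theorem F132144 : act 2 n86184 = n39888 := d3_1 D86184 (iv6 D39888) D39887
def n86185 : Q := act 0 n39888
theorem D86185 : act 0 n39888 = n86185 := rfl
def n86186 : Q := act 1 n39888
theorem D86186 : act 1 n39888 = n86186 := rfl
def n86187 : Q := act 3 n39889
theorem D86187 : act 3 n39889 = n86187 := rfl
theorem F132145 : act 6 n86187 = n55856 := d7_2 (iv6 F60695) D86187 (iv3 D55856)
theorem F132146 : act 7 n86187 = n80070 := d8_2 F60698 D86187 (iv3 D80070)
def n86188 : Q := act 5 n39889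
theorem D86188 : act 5 n39889 = n86188 := rfl
theorem F132147 : act 2 n86188 = n78355 := d2_1 D86188 (iv5 D78355) F60696
theorem F132148 : act 7 n86188 = n80071 := d13_2 F60698 D86188 (iv5 D80071)
def n86189 : Q := act 3 n39890
theorem D86189 : act 3 n39890 = n86189 := rfl
theorem F132149 : act 7 n86189 = n78353 := d8_2 (iv7 F60701) D86189 F119571
def n86190 : Q := act 5 n39890
theorem D86190 : act 5 n39890 = n86190 := rfl
theorem F132150 : act 2 n86190 = n80071 := d2_1 D86190 (iv5 D80071) F60702
theorem F132151 : act 7 n86190 = n78355 := d13_2 (iv7 F60701) D86190 (iv5 D78355)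
def n86191 : Q := act 4 n39891
theorem D86191 : act 4 n39891 = n86191 := rfl
def n86192 : Q := act 3 n39893
theorem D86192 : act 3 n39893 = n86192 := rfl
def n86193 : Q := act 0 n39894
theorem D86193 : act 0 n39894 = n86193 := rfl
def n86194 : Q := act 1 n39894
theorem D86194 : act 1 n39894 = n86194 := rfl
theorem F132152 : act 4 n55917 = n86194 := d20_6 (iv4 D8265) F5725 D6117 D12906 D26970 D55917 (iv1 D86194) F60708 (iv3 D18875) F13742
def n86195 : Q := act 2 n39894
theorem D86195 : act 2 n39894 = n86195 := rfl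
theorem F132153 : act 4 n86195 = n39902 := d1_2 (iv4 F60708) D86195 (iv2 D39902)
def n86196 : Q := act 5 n39894
theorem D86196 : act 5 n39894 = n86196 := rfl
theorem F132154 : act 3 n86196 = n39895 := d6_1 D86196 (iv5 D39895) D39894
def n86197 : Q := act 6 n39894
theorem D86197 : act 6 n39894 = n86197 := rfl
theorem F132155 : act 3 n86197 = n39896 := d7_1 D86197 (iv6 D39896) D39894
theorem F132156 : act 4 n86197 = n39903 := d10_1 D86197 (iv6 D39903) (iv4 F60708)
def n86198 : Q := act 4 n39895
theorem D86198 : act 4 n39895 = n86198 := rfl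
theorem F132157 : act 2 n86198 = n39970 := d1_1 D86198 (iv4 F126244) F126243
theorem F132158 : act 7 n86198 = n81902 := d11_2 F60822 D86198 F126244
theorem F132159 : act 5 n86198 = n39967 := d16_3 D18873 D39895 D86198 (iv4 D39967) (iv5 D18900) F13794 D18900 F30156 F29165
theorem F132160 : act 0 n86198 = n75227 := d17_0 (iv5 D75227) (iv1 D34445) D34447 D75235 F112785 F58382 D75224 F112772 D86198
theorem F132161 : act 1 n86198 = n75224 := d18_8 (iv1 F58382) (iv4 D37503) F29161 D34442 D75218 (iv4 F112771) F112772 D86198 (iv5 D75224)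
def n86199 : Q := act 6 n39895
theorem D86199 : act 6 n39895 = n86199 := rfl
def n86200 : Q := act 0 n39896
theorem D86200 : act 0 n39896 = n86200 := rfl
def n86201 : Q := act 1 n39896
theorem D86201 : act 1 n39896 = n86201 := rfl
def n86202 : Q := act 5 n39896
theorem D86202 : act 5 n39896 = n86202 := rfl
def n86203 : Q := act 7 n39896
theorem D86203 : act 7 n39896 = n86203 := rfl
theorem F132162 : act 4 n86203 = n39899 := d11_1 D86203 (iv7 D39899) (iv4 F60709)
theorem F132163 : act 6 n86203 = n58040 := d14_1 D86203 (iv7 D58040) F44608 F30165 D39896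
def n86204 : Q := act 2 n39897
theorem D86204 : act 2 n39897 = n86204 := rfl
theorem F132164 : act 7 n39898 = n86204 := d15_2 (iv0 D39897) D39898 (iv2 D86204)
def n86205 : Q := act 3 n39897
theorem D86205 : act 3 n39897 = n86205 := rfl
def n86206 : Q := act 4 n39897
theorem D86206 : act 4 n39897 = n86206 := rfl
def n86207 : Q := act 5 n39897
theorem D86207 : act 5 n39897 = n86207 := rfl
theorem F132165 : act 0 n76190 = n86207 := d21_10 (iv5 D86207) (iv1 F126253) F126249 F126240 (iv1 F60110) D39184 F91794 F124344 (iv5 F55005) D76190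
def n86208 : Q := act 6 n39897
theorem D86208 : act 6 n39897 = n86208 := rfl
theorem F132166 : act 5 n86208 = n81905 := d21_6 (iv5 F27392) F21532 (iv5 F13740) D18874 D39897 D86208 (iv1 D81905) F58387 (iv6 D37504) F29161
def n86209 : Q := act 7 n39897
theorem D86209 : act 7 n39897 = n86209 := rfl
theorem F132167 : act 2 n86209 = n39898 := d4_1 D86209 F132164 (iv2 D86204)
def n86210 : Q := act 3 n39898
theorem D86210 : act 3 n39898 = n86210 := rfl
def n86211 : Q := act 4 n39898
theorem D86211 : act 4 n39898 = n86211 := rfl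
def n86212 : Q := act 5 n39898
theorem D86212 : act 5 n39898 = n86212 := rfl
theorem F132168 : act 0 n86212 = n76190 := d21_1 D86212 F114155 (iv6 D58647) F124342 (iv6 D58008) (iv5 D27668) (iv1 F44588) (iv5 F91713) (iv6 F126250) (iv1 F126252)
theorem F132169 : act 6 n86212 = n81904 := d21_3 (iv5 F126249) (iv1 F126252) D86212 (iv1 F126251) F60712 F44610 (iv1 F44579) D57963 (iv6 F91707) (iv1 F126242)
def n86213 : Q := act 6 n39898
theorem D86213 : act 6 n39898 = n86213 := rfl
def n86214 : Q := act 2 n39900
theorem D86214 : act 2 n39900 = n86214 := rfl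
theorem F132170 : act 7 n39901 = n86214 := d15_2 (iv0 D39900) D39901 (iv2 D86214)
def n86215 : Q := act 4 n39900
theorem D86215 : act 4 n39900 = n86215 := rfl
def n86216 : Q := act 5 n39900
theorem D86216 : act 5 n39900 = n86216 := rfl
def n86217 : Q := act 6 n39900
theorem D86217 : act 6 n39900 = n86217 := rfl
def n86218 : Q := act 7 n39900
theorem D86218 : act 7 n39900 = n86218 := rfl
theorem F132171 : act 2 n86218 = n39901 := d4_1 D86218 F132170 (iv2 D86214)
def n86219 : Q := act 3 n39901
theorem D86219 : act 3 n39901 = n86219 := rfl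
def n86220 : Q := act 4 n39901
theorem D86220 : act 4 n39901 = n86220 := rfl
def n86221 : Q := act 5 n39901
theorem D86221 : act 5 n39901 = n86221 := rfl
def n86222 : Q := act 6 n39901
theorem D86222 : act 6 n39901 = n86222 := rfl
def n86223 : Q := act 6 n39902
theorem D86223 : act 6 n39902 = n86223 := rfl
theorem F132172 : act 2 n86223 = n39903 := d3_1 D86223 (iv6 D39903) D39902
def n86224 : Q := act 0 n39903
theorem D86224 : act 0 n39903 = n86224 := rfl
def n86225 : Q := act 1 n39903
theorem D86225 : act 1 n39903 = n86225 := rfl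
def n86226 : Q := act 5 n39903
theorem D86226 : act 5 n39903 = n86226 := rfl
theorem F132173 : act 3 n86226 = n39905 := d6_1 D86226 (iv5 D39905) (iv3 F60714)
theorem F132174 : act 6 n86226 = n58251 := d12_2 D39903 D86226 (iv5 D58251) F44791 (iv5 F30119)
def n86227 : Q := act 7 n39903
theorem D86227 : act 7 n39903 = n86227 := rfl
theorem F132175 : act 3 n86227 = n39906 := d8_1 D86227 (iv7 D39906) (iv3 F60714)
theorem F132176 : act 6 n86227 = n58102 := d14_1 D86227 (iv7 D58102) F44701 F30166 D39903
def n86228 : Q := act 0 n39905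
theorem D86228 : act 0 n39905 = n86228 := rfl
theorem F132177 : act 5 n86228 = n84844 := d17_3 (iv1 F60704) D39905 D86228 F130043 (iv5 D55857) (iv0 F43456) F21586 D17363 D35856
theorem F132178 : act 2 n84879 = n86228 := d15_3 (iv0 D86228) (iv0 F122628) F130088
theorem F132179 : act 7 n86228 = n84843 := d4_2 F130088 F132178 F130040
theorem F132180 : act 1 n84623 = n86228 := d15_1 (iv0 F129794) F132179 F130040
def n86229 : Q := act 4 n39905
theorem D86229 : act 4 n39905 = n86229 := rfl
theorem F132181 : act 2 n86229 = n84878 := d1_1 D86229 F130086 (iv2 F60715)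
theorem F132182 : act 6 n86229 = n58253 := d10_2 (iv6 F60716) D86229 (iv4 D58253)
def n86230 : Q := act 7 n39905
theorem D86230 : act 7 n39905 = n86230 := rfl
theorem F132183 : act 2 n86230 = n84623 := d4_1 D86230 F129793 (iv2 F60715)
theorem F132184 : act 5 n86230 = n39906 := d13_1 D86230 (iv7 D39906) D39905
theorem F132185 : act 1 n84843 = n86230 := d15_1 (iv0 F130041) (iv7 D86230) F60715
theorem F132186 : act 1 n86230 = n84879 := d15_1 F132185 (iv7 F130088) (iv2 F130040)
def n86231 : Q := act 0 n39908
theorem D86231 : act 0 n39908 = n86231 := rfl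
def n86233 : Q := act 2 n39908
theorem D86233 : act 2 n39908 = n86233 := rfl
def n86234 : Q := act 4 n39908
theorem D86234 : act 4 n39908 = n86234 := rfl
def n86235 : Q := act 5 n39908
theorem D86235 : act 5 n39908 = n86235 := rfl
theorem F132187 : act 3 n86235 = n39910 := d6_1 D86235 (iv5 D39910) D39908
theorem F132188 : act 6 n86080 = n86235 := d7_0 F132187 F60722 D86080
def n86236 : Q := act 6 n39908
theorem D86236 : act 6 n39908 = n86236 := rfl
theorem F132189 : act 3 n86236 = n39911 := d7_1 D86236 (iv6 D39911) D39908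
theorem F132190 : act 5 n58723 = n86236 := d6_0 F132189 F60724 D58723
def n86237 : Q := act 3 n39909
theorem D86237 : act 3 n39909 = n86237 := rfl
theorem F132192 : act 7 n86237 = n78726 := d8_2 (iv7 F132026) D86237 (iv3 D78726)
def n86238 : Q := act 5 n39909
theorem D86238 : act 5 n39909 = n86238 := rfl
theorem F132193 : act 2 n86238 = n78723 := d2_1 D86238 (iv5 D78723) (iv2 F132025)
theorem F132194 : act 7 n86238 = n78727 := d13_2 (iv7 F132026) D86238 (iv5 D78727)
def n86239 : Q := act 6 n39909
theorem D86239 : act 6 n39909 = n86239 := rfl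
theorem F132195 : act 2 n86239 = n78724 := d3_1 D86239 (iv6 D78724) (iv2 F132025)
theorem F132196 : act 4 n86239 = n39911 := d10_1 D86239 (iv6 D39911) D39909
def n86240 : Q := act 4 n39910
theorem D86240 : act 4 n39910 = n86240 := rfl
theorem F132197 : act 6 n86240 = n86081 := d10_2 (iv6 F60722) D86240 (iv4 D86081)
theorem F132198 : act 7 n86240 = n86239 := d11_2 F132016 D86240 F132196
theorem F132199 : act 5 n86240 = n78448 := d17_5 (iv1 D18872) (iv5 F13744) D18877 D39910 D86240 (iv0 D78448) F56421 D35844 F88492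
def n86241 : Q := act 0 n39913
theorem D86241 : act 0 n39913 = n86241 := rfl
def n86242 : Q := act 1 n39913
theorem D86242 : act 1 n39913 = n86242 := rfl
def n86243 : Q := act 2 n39913
theorem D86243 : act 2 n39913 = n86243 := rfl
def n86244 : Q := act 4 n39913
theorem D86244 : act 4 n39913 = n86244 := rfl
def n86245 : Q := act 5 n39913
theorem D86245 : act 5 n39913 = n86245 := rfl
theorem F132201 : act 3 n86245 = n39915 := d6_1 D86245 (iv5 D39915) D39913
theorem F132202 : act 6 n58720 = n86245 := d7_0 F132201 F60728 D58720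
def n86246 : Q := act 3 n39914
theorem D86246 : act 3 n39914 = n86246 := rfl
theorem F132203 : act 7 n86246 = n78722 := d8_2 (iv7 F132022) D86246 (iv3 D78722)
def n86247 : Q := act 5 n39914
theorem D86247 : act 5 n39914 = n86247 := rfl
theorem F132204 : act 2 n86247 = n78727 := d2_1 D86247 (iv5 D78727) (iv2 F132021)
theorem F132205 : act 7 n86247 = n78723 := d13_2 (iv7 F132022) D86247 (iv5 D78723)
def n86249 : Q := act 3 n39916
theorem D86249 : act 3 n39916 = n86249 := rfl
def n86258 : Q := act 4 n39918
theorem D86258 : act 4 n39918 = n86258 := rfl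
theorem F132208 : act 2 n86258 = n39919 := d1_1 D86258 (iv4 D39919) D39918
theorem F132209 : act 7 n86258 = n55800 := d11_2 (iv7 F60733) D86258 F88261
theorem F132210 : act 1 n55799 = n86258 := d15_1 D55799 F132209 (iv2 D55800)
theorem F132211 : act 1 n86258 = n55798 := d15_0 (iv0 D55798) (iv7 F60738) (iv2 F132208)
def n86259 : Q := act 6 n39918
theorem D86259 : act 6 n39918 = n86259 := rfl
theorem F132212 : act 2 n86259 = n39920 := d3_1 D86259 (iv6 D39920) D39918
theorem F132213 : act 3 n86259 = n78640 := d7_1 D86259 (iv6 D78640) (iv3 F60731)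
def n86260 : Q := act 0 n39919
theorem D86260 : act 0 n39919 = n86260 := rfl
theorem F132214 : act 1 n55800 = n86260 := d15_0 (iv0 D86260) F60738 D55800
def n86261 : Q := act 1 n39919
theorem D86261 : act 1 n39919 = n86261 := rfl
theorem F132215 : act 1 n86261 = n55800 := d15_1 D86261 (iv7 F132209) F132208
theorem F132216 : act 4 n75189 = n86261 := d20_6 (iv4 D3938) (iv1 F5556) D7782 D16698 D34430 D75189 (iv1 D86261) (iv4 D39919) (iv3 D18880) (iv1 D8842)
def n86262 : Q := act 5 n39919
theorem D86262 : act 5 n39919 = n86262 := rfl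
theorem F132217 : act 3 n86262 = n55806 := d6_1 D86262 F88280 (iv3 F60737)
theorem F132218 : act 7 n86262 = n55801 := d13_2 (iv7 F60738) D86262 (iv5 D55801)
def n86263 : Q := act 6 n39919
theorem D86263 : act 6 n39919 = n86263 := rfl
theorem F132219 : act 3 n86263 = n55807 := d7_1 D86263 (iv6 D55807) (iv3 F60737)
theorem F132220 : act 4 n86263 = n39920 := d10_1 D86263 (iv6 D39920) D39919
def n86264 : Q := act 0 n39920
theorem D86264 : act 0 n39920 = n86264 := rfl
def n86265 : Q := act 1 n39920
theorem D86265 : act 1 n39920 = n86265 := rfl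
def n86266 : Q := act 5 n39920
theorem D86266 : act 5 n39920 = n86266 := rfl
theorem F132221 : act 3 n86266 = n39923 := d6_1 D86266 (iv5 D39923) (iv3 F60739)
theorem F132222 : act 6 n86266 = n56254 := d12_2 D39920 D86266 (iv5 D56254) F43811 (iv5 F30126)
def n86267 : Q := act 7 n39920
theorem D86267 : act 7 n39920 = n86267 := rfl
theorem F132223 : act 3 n86267 = n39924 := d8_1 D86267 (iv7 D39924) (iv3 F60739)
theorem F132224 : act 6 n86267 = n55878 := d14_1 D86267 (iv7 D55878) F43483 (iv7 F30127) D39920
def n86268 : Q := act 0 n39923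
theorem D86268 : act 0 n39923 = n86268 := rfl
theorem F132225 : act 5 n86268 = n79903 := d17_3 F88494 D39923 D86268 F122651 (iv5 D39053) (iv0 F29722) (iv5 F13744) D18878 D39914
theorem F132226 : act 7 n78730 = n86268 := d13_0 F132225 (iv7 D79903) (iv5 F119868)
theorem F132227 : act 0 n86268 = n78452 := d21_7 D55872 (iv1 F119454) (iv5 D78258) F56347 (iv1 F60056) (iv6 F122652) (iv5 F132225) (iv5 D78452) (iv6 D35749) (iv1 F43471)
theorem F132228 : act 2 n86268 = n78729 := d15_3 (iv0 D78729) D78730 F132226
def n86269 : Q := act 1 n39923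
theorem D86269 : act 1 n39923 = n86269 := rfl
theorem F132229 : act 1 n86269 = n78452 := d15_1 D86269 F119637 (iv2 F60741)
theorem F132230 : act 7 n86269 = n78729 := d15_2 (iv0 D86268) D86269 (iv2 F132228)
theorem F132231 : act 5 n56247 = n86269 := d21_6 (iv5 F12764) (iv1 F13745) F13748 (iv6 F21579) D27102 D56247 (iv1 D86269) (iv5 D39923) (iv6 D18881) (iv1 D8842)
theorem F132232 : act 2 n86269 = n78730 := d2_1 F132231 F119868 (iv2 F88966)
def n86270 : Q := act 4 n39923
theorem D86270 : act 4 n39923 = n86270 := rfl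
theorem F132233 : act 2 n86270 = n78731 := d1_1 D86270 (iv4 D78731) (iv2 F60741)
theorem F132234 : act 6 n86270 = n56258 := d10_2 (iv6 F60742) D86270 (iv4 D56258)
def n86271 : Q := act 7 n39923
theorem D86271 : act 7 n39923 = n86271 := rfl
theorem F132235 : act 2 n86271 = n78452 := d4_1 D86271 F119637 (iv2 F60741)
theorem F132236 : act 5 n86271 = n39924 := d13_1 D86271 (iv7 D39924) D39923
theorem F132237 : act 1 n78730 = n86271 := d15_1 D78730 (iv7 D86271) F60741
theorem F132238 : act 1 n86271 = n78729 := d15_1 F132237 (iv7 F132230) F132232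
def n86274 : Q := act 3 n39925
theorem D86274 : act 3 n39925 = n86274 := rfl
theorem F132241 : act 7 n86274 = n39931 := d8_2 F60749 D86274 (iv3 D39931)
def n86275 : Q := act 4 n39925
theorem D86275 : act 4 n39925 = n86275 := rfl
theorem F132242 : act 2 n86275 = n39927 := d1_1 D86275 (iv4 D39927) D39925
theorem F132243 : act 7 n86275 = n39932 := d11_2 F60749 D86275 (iv4 D39932)
def n86276 : Q := act 5 n39925
theorem D86276 : act 5 n39925 = n86276 := rfl
theorem F132244 : act 2 n86276 = n39928 := d2_1 D86276 (iv5 D39928) D39925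
theorem F132245 : act 7 n86276 = n39933 := d13_2 F60749 D86276 (iv5 D39933)
def n86278 : Q := act 0 n39926
theorem D86278 : act 0 n39926 = n86278 := rfl
def n86279 : Q := act 1 n39926
theorem D86279 : act 1 n39926 = n86279 := rfl
def n86280 : Q := act 2 n39926
theorem D86280 : act 2 n39926 = n86280 := rfl
def n86281 : Q := act 5 n39926
theorem D86281 : act 5 n39926 = n86281 := rfl
theorem F132247 : act 3 n86281 = n39928 := d6_1 D86281 (iv5 D39928) D39926
def n86282 : Q := act 6 n39926
theorem D86282 : act 6 n39926 = n86282 := rfl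
theorem F132248 : act 3 n86282 = n39929 := d7_1 D86282 (iv6 D39929) D39926
def n86284 : Q := act 0 n39927
theorem D86284 : act 0 n39927 = n86284 := rfl
theorem F132250 : act 4 n86284 = n86219 := d20_2 D39927 D86284 (iv3 D86219) (iv1 D39901) (iv3 D18875) (iv4 D8840) (iv1 D3937) D3938 D8843 D18882
def n86285 : Q := act 1 n39927
theorem D86285 : act 1 n39927 = n86285 := rfl
theorem F132251 : act 1 n86285 = n39932 := d15_1 D86285 (iv7 F132243) F132242
def n86286 : Q := act 3 n39927
theorem D86286 : act 3 n39927 = n86286 := rfl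
def n86287 : Q := act 5 n39927
theorem D86287 : act 5 n39927 = n86287 := rfl
def n86288 : Q := act 6 n39927
theorem D86288 : act 6 n39927 = n86288 := rfl
theorem F132252 : act 4 n86288 = n39929 := d10_1 D86288 (iv6 D39929) D39927
def n86289 : Q := act 7 n39927
theorem D86289 : act 7 n39927 = n86289 := rfl
theorem F132253 : act 2 n86289 = n39932 := d4_1 D86289 (iv7 F132243) F132242
theorem F132254 : act 4 n86289 = n39930 := d11_1 D86289 (iv7 D39930) D39927
theorem F132255 : act 1 n39932 = n86284 := d15_0 (iv0 D86284) D86289 F132253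
def n86290 : Q := act 0 n39928
theorem D86290 : act 0 n39928 = n86290 := rfl
def n86291 : Q := act 1 n39928
theorem D86291 : act 1 n39928 = n86291 := rfl
def n86292 : Q := act 4 n39928
theorem D86292 : act 4 n39928 = n86292 := rfl
def n86293 : Q := act 6 n39928
theorem D86293 : act 6 n39928 = n86293 := rfl
def n86294 : Q := act 7 n39928
theorem D86294 : act 7 n39928 = n86294 := rfl
theorem F132257 : act 2 n86294 = n39933 := d4_1 D86294 (iv7 F132245) F132244
theorem F132258 : act 5 n86294 = n39930 := d13_1 D86294 (iv7 D39930) D39928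
theorem F132259 : act 1 n39933 = n86290 := d15_0 (iv0 D86290) D86294 F132257
def n86295 : Q := act 0 n39929
theorem D86295 : act 0 n39929 = n86295 := rfl
def n86296 : Q := act 1 n39929
theorem D86296 : act 1 n39929 = n86296 := rfl
def n86297 : Q := act 5 n39929
theorem D86297 : act 5 n39929 = n86297 := rfl
def n86298 : Q := act 7 n39929
theorem D86298 : act 7 n39929 = n86298 := rfl
def n86299 : Q := act 6 n39930
theorem D86299 : act 6 n39930 = n86299 := rfl
theorem F132260 : act 2 n86299 = n39934 := d3_1 D86299 (iv6 D39934) (iv2 F60750)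
def n86300 : Q := act 0 n39931
theorem D86300 : act 0 n39931 = n86300 := rfl
def n86301 : Q := act 1 n39931
theorem D86301 : act 1 n39931 = n86301 := rfl
def n86302 : Q := act 2 n39931
theorem D86302 : act 2 n39931 = n86302 := rfl
def n86303 : Q := act 4 n39931
theorem D86303 : act 4 n39931 = n86303 := rfl
theorem F132261 : act 0 n75190 = n86303 := d20_1 D75190 (iv4 D86303) (iv3 D39931) (iv1 D18883) (iv3 D8843) (iv4 D3938) (iv1 F5556) D7782 D16698 D34430
def n86304 : Q := act 5 n39931
theorem D86304 : act 5 n39931 = n86304 := rfl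
theorem F132262 : act 3 n86304 = n39933 := d6_1 D86304 (iv5 D39933) D39931
def n86305 : Q := act 6 n39931
theorem D86305 : act 6 n39931 = n86305 := rfl
theorem F132263 : act 3 n86305 = n39934 := d7_1 D86305 (iv6 D39934) D39931
def n86306 : Q := act 3 n39932
theorem D86306 : act 3 n39932 = n86306 := rfl
def n86307 : Q := act 5 n39932
theorem D86307 : act 5 n39932 = n86307 := rfl
def n86308 : Q := act 6 n39932
theorem D86308 : act 6 n39932 = n86308 := rfl
theorem F132264 : act 4 n86308 = n39934 := d10_1 D86308 (iv6 D39934) D39932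
def n86309 : Q := act 4 n39933
theorem D86309 : act 4 n39933 = n86309 := rfl
def n86310 : Q := act 6 n39933
theorem D86310 : act 6 n39933 = n86310 := rfl
def n86311 : Q := act 0 n39934
theorem D86311 : act 0 n39934 = n86311 := rfl
def n86312 : Q := act 1 n39934
theorem D86312 : act 1 n39934 = n86312 := rfl
def n86313 : Q := act 5 n39934
theorem D86313 : act 5 n39934 = n86313 := rfl
def n86314 : Q := act 7 n39934
theorem D86314 : act 7 n39934 = n86314 := rfl
def n86315 : Q := act 4 n39935
theorem D86315 : act 4 n39935 = n86315 := rfl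
theorem F132265 : act 2 n86315 = n39954 := d1_1 D86315 (iv4 D39954) (iv2 F90429)
theorem F132267 : act 7 n86315 = n39959 := d11_2 (iv7 F90431) D86315 (iv4 D39959)
def n86316 : Q := act 4 n39936
theorem D86316 : act 4 n39936 = n86316 := rfl
theorem F132270 : act 2 n86316 = n39959 := d1_1 D86316 (iv4 D39959) (iv2 F90426)
theorem F132271 : act 3 n86316 = n57751 := d5_1 D86316 (iv4 D57751) (iv3 D27571) D27572 F60752
theorem F132272 : act 6 n86316 = n78224 := d10_2 (iv6 F121416) D86316 (iv4 D78224)
theorem F132274 : act 0 n86316 = n56648 := d18_2 (iv1 F60751) D86316 F89596 F44054 (iv4 F58448) (iv0 F123599) (iv4 D80415) F57505 (iv5 F30146)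
def n86317 : Q := act 2 n39938
theorem D86317 : act 2 n39938 = n86317 := rfl
theorem F132276 : act 3 n86317 = n77020 := d0_2 D39938 D86317 (iv2 D77020) (iv3 D35181) (iv2 F30133)
theorem F132277 : act 4 n86317 = n57258 := d1_2 (iv4 F60760) D86317 (iv2 D57258)
theorem F132278 : act 5 n86317 = n52830 := d2_2 F108392 D86317 (iv2 F108389)
theorem F132279 : act 7 n86317 = n57609 := d4_2 (iv7 F60761) D86317 F90750
theorem F132280 : act 1 n86317 = n57611 := d15_0 (iv0 D57611) (iv7 F60761) D86317
theorem F132281 : act 1 n57612 = n86317 := d15_0 F132280 (iv7 F90755) F90757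
theorem F132282 : act 0 n77020 = n60198 := d20_4 (iv4 D57601) (iv1 F90324) (iv4 F132277) F132276 (iv3 D60198) F46186 F25784 D16236 D33586 (iv1 F94813)
def n86318 : Q := act 6 n39938
theorem D86318 : act 6 n39938 = n86318 := rfl
theorem F132283 : act 3 n86318 = n39940 := d7_1 D86318 (iv6 D39940) D39938
theorem F132284 : act 4 n86318 = n57259 := d10_1 D86318 (iv6 D57259) (iv4 F60760)
theorem F132285 : act 7 n78161 = n86318 := d8_0 F132283 F121255 D78161
def n86319 : Q := act 6 n39939
theorem D86319 : act 6 n39939 = n86319 := rfl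
theorem F132286 : act 2 n86319 = n77023 := d3_1 D86319 (iv6 D77023) (iv2 F60762)
theorem F132287 : act 4 n86319 = n80423 := d10_1 D86319 (iv6 D80423) (iv4 F60764)
def n86320 : Q := act 5 n39940
theorem D86320 : act 5 n39940 = n86320 := rfl
theorem F132289 : act 7 n86320 = n78162 := d13_2 (iv7 F121255) D86320 (iv5 D78162)
def n86321 : Q := act 0 n39944
theorem D86321 : act 0 n39944 = n86321 := rfl
theorem F132290 : act 3 n86321 = n83664 := d20_5 (iv4 D17245) (iv1 F13760) D18888 D39944 D86321 (iv4 D83664) (iv1 F86986) (iv4 F59117) (iv3 D38242) F29465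
theorem F132291 : act 4 n86321 = n83668 := d20_8 F128722 (iv1 D54820) (iv4 F42460) (iv3 D17886) D17884 D37187 (iv4 F60773) D86321 (iv3 D83668) D83666
theorem F132293 : act 1 n77020 = n86321 := d15_0 (iv0 D86321) F60774 D77020
theorem F132294 : act 7 n86321 = n77019 := d15_2 (iv0 F132282) F132293 (iv2 F115758)
def n86322 : Q := act 2 n39944
theorem D86322 : act 2 n39944 = n86322 := rfl
theorem F132295 : act 3 n86322 = n57609 := d0_2 D39944 D86322 F90750 F44420 (iv2 F30138)
theorem F132296 : act 4 n86322 = n81429 := d1_2 (iv4 F60773) D86322 (iv2 D81429)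
theorem F132297 : act 7 n86322 = n77020 := d4_2 (iv7 F60774) D86322 (iv2 D77020)
theorem F132298 : act 1 n86322 = n77019 := d15_0 (iv0 D77019) (iv7 F60774) D86322
def n86323 : Q := act 5 n39944
theorem D86323 : act 5 n39944 = n86323 := rfl
theorem F132300 : act 3 n86323 = n39945 := d6_1 D86323 (iv5 D39945) D39944
theorem F132301 : act 7 n86323 = n77021 := d13_2 (iv7 F60774) D86323 (iv5 D77021)
def n86324 : Q := act 6 n39944
theorem D86324 : act 6 n39944 = n86324 := rfl
theorem F132302 : act 3 n86324 = n39946 := d7_1 D86324 (iv6 D39946) D39944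
def n86325 : Q := act 6 n39945
theorem D86325 : act 6 n39945 = n86325 := rfl
theorem F132305 : act 2 n86325 = n76996 := d3_1 D86325 (iv6 D76996) (iv2 F60775)
theorem F132306 : act 4 n86325 = n80422 := d10_1 D86325 (iv6 D80422) (iv4 F60776)
def n86326 : Q := act 0 n39946
theorem D86326 : act 0 n39946 = n86326 := rfl
theorem F132307 : act 4 n86326 = n57457 := d20_2 (iv4 F60779) D86326 (iv3 D57457) (iv1 F90632) F90629 F120912 (iv1 F118108) (iv4 D40110) (iv3 F118106) F120781
theorem F132309 : act 1 n56182 = n86326 := d15_0 (iv0 D86326) (iv7 F120854) (iv2 F120855)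
theorem F132310 : act 7 n86326 = n76998 := d15_2 (iv0 F88862) F132309 F120852
theorem F132311 : act 3 n79438 = n86326 := d5_5 F132307 (iv3 D57457) (iv4 F120927) D36166 D79438
def n86327 : Q := act 5 n39946
theorem D86327 : act 5 n39946 = n86327 := rfl
theorem F132312 : act 2 n86327 = n76999 := d2_1 D86327 (iv5 D76999) (iv2 F60778)
theorem F132313 : act 7 n86327 = n79797 := d13_2 F120854 D86327 (iv5 D79797)
def n86328 : Q := act 0 n39950
theorem D86328 : act 0 n39950 = n86328 := rfl
def n86329 : Q := act 1 n39950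
theorem D86329 : act 1 n39950 = n86329 := rfl
def n86330 : Q := act 5 n39950
theorem D86330 : act 5 n39950 = n86330 := rfl
theorem F132314 : act 6 n86330 = n39951 := d12_2 D39950 D86330 (iv5 D39951) (iv6 D18891) D18890
def n86331 : Q := act 7 n39950
theorem D86331 : act 7 n39950 = n86331 := rfl
theorem F132315 : act 6 n86331 = n78074 := d14_1 D86331 (iv7 D78074) (iv6 D35609) (iv7 F30143) D39950
def n86332 : Q := act 0 n39951
theorem D86332 : act 0 n39951 = n86332 := rfl
theorem F132316 : act 5 n86332 = n81072 := d17_3 F59110 D39951 D86332 F124851 (iv5 D75700) F117257 (iv5 F44054) (iv0 F117191) D38237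
def n86333 : Q := act 1 n39951
theorem D86333 : act 1 n39951 = n86333 := rfl
def n86334 : Q := act 4 n39951
theorem D86334 : act 4 n39951 = n86334 := rfl
def n86335 : Q := act 3 n39954
theorem D86335 : act 3 n39954 = n86335 := rfl
def n86336 : Q := act 5 n39954
theorem D86336 : act 5 n39954 = n86336 := rfl
def n86338 : Q := act 3 n39959
theorem D86338 : act 3 n39959 = n86338 := rfl
theorem F132325 : act 4 n86338 = n81538 := d5_2 D39959 D86338 (iv3 D81538) F116756 F90412
def n86339 : Q := act 5 n39959
theorem D86339 : act 5 n39959 = n86339 := rfl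
def n86341 : Q := act 5 n39966
theorem D86341 : act 5 n39966 = n86341 := rfl
theorem F132329 : act 2 n86341 = n77626 := d2_1 D86341 (iv5 D77626) (iv2 F91580)
theorem F132330 : act 3 n86341 = n58433 := d6_1 D86341 (iv5 D58433) (iv3 F60809)
theorem F132331 : act 7 n86341 = n40263 := d13_2 (iv7 F60810) D86341 (iv5 D40263)
def n86342 : Q := act 3 n39967
theorem D86342 : act 3 n39967 = n86342 := rfl
theorem F132332 : act 4 n86342 = n75163 := d5_2 D39967 D86342 (iv3 D75163) (iv4 D34420) (iv3 F30155)
theorem F132333 : act 7 n86342 = n81901 := d8_2 (iv7 F60813) D86342 (iv3 D81901)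
def n86343 : Q := act 3 n39968
theorem D86343 : act 3 n39968 = n86343 := rfl
theorem F132334 : act 7 n86343 = n86192 := d8_2 (iv7 F60819) D86343 (iv3 D86192)
def n86344 : Q := act 6 n39968
theorem D86344 : act 6 n39968 = n86344 := rfl
theorem F132335 : act 2 n86344 = n77342 := d3_1 D86344 F116152 F60817
theorem F132336 : act 4 n86344 = n45851 := d10_1 D86344 F72408 (iv4 F60816)
theorem F132337 : act 0 n76189 = n86344 := d18_2 F124346 D76189 F132336 (iv5 D45851) F34427 (iv0 F91497) (iv4 D34794) F117287 (iv5 F89694)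
theorem F132338 : act 1 n81988 = n86344 := d15_0 (iv0 F132337) (iv7 F115652) (iv2 F126399)
def n86345 : Q := act 0 n39969
theorem D86345 : act 0 n39969 = n86345 := rfl
theorem F132339 : act 1 n86195 = n86345 := d15_0 (iv0 D86345) F60821 D86195
def n86346 : Q := act 1 n39969
theorem D86346 : act 1 n39969 = n86346 := rfl
theorem F132340 : act 4 n86249 = n86346 := d20_6 (iv4 D8007) (iv1 F9511) (iv4 F13747) D18880 D39916 D86249 (iv1 D86346) F60820 (iv3 D18903) F13801
theorem F132341 : act 0 n86195 = n86346 := d20_7 (iv4 F88261) (iv1 F132215) (iv4 F132216) (iv3 D75189) (iv1 F92786) F92783 (iv4 F132153) (iv4 F132340) (iv3 D86249) (iv1 F60730)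
def n86347 : Q := act 2 n39969
theorem D86347 : act 2 n39969 = n86347 := rfl
theorem F132342 : act 4 n86347 = n39973 := d1_2 (iv4 F60820) D86347 (iv2 D39973)
theorem F132343 : act 7 n86347 = n86195 := d4_2 (iv7 F60821) D86347 (iv2 D86195)
theorem F132344 : act 1 n86347 = n86193 := d15_0 (iv0 D86193) (iv7 F60821) D86347
theorem F132345 : act 1 n86194 = n86347 := d15_1 D86194 F132343 (iv2 D86195)
def n86348 : Q := act 5 n39969
theorem D86348 : act 5 n39969 = n86348 := rfl
theorem F132346 : act 3 n86348 = n39970 := d6_1 D86348 (iv5 D39970) D39969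
theorem F132347 : act 7 n86348 = n86196 := d13_2 (iv7 F60821) D86348 (iv5 D86196)
def n86349 : Q := act 6 n39970
theorem D86349 : act 6 n39970 = n86349 := rfl
def n86350 : Q := act 2 n39971
theorem D86350 : act 2 n39971 = n86350 := rfl
theorem F132348 : act 7 n39972 = n86350 := d15_2 (iv0 D39971) D39972 (iv2 D86350)
def n86351 : Q := act 3 n39971
theorem D86351 : act 3 n39971 = n86351 := rfl
theorem F132349 : act 4 n86351 = n78012 := d20_6 (iv4 D6314) (iv1 F5899) D8860 D18903 D39971 D86351 (iv1 F119217) F56268 F28294 (iv1 F12896)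
def n86352 : Q := act 4 n39971
theorem D86352 : act 4 n39971 = n86352 := rfl
def n86353 : Q := act 5 n39971
theorem D86353 : act 5 n39971 = n86353 := rfl
def n86354 : Q := act 6 n39971
theorem D86354 : act 6 n39971 = n86354 := rfl
def n86355 : Q := act 7 n39971
theorem D86355 : act 7 n39971 = n86355 := rfl
theorem F132350 : act 2 n86355 = n39972 := d4_1 D86355 F132348 (iv2 D86350)
def n86356 : Q := act 3 n39972
theorem D86356 : act 3 n39972 = n86356 := rfl
def n86357 : Q := act 4 n39972
theorem D86357 : act 4 n39972 = n86357 := rfl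
def n86358 : Q := act 5 n39972
theorem D86358 : act 5 n39972 = n86358 := rfl
def n86359 : Q := act 6 n39972
theorem D86359 : act 6 n39972 = n86359 := rfl
def n86360 : Q := act 3 n39975
theorem D86360 : act 3 n39975 = n86360 := rfl
theorem F132351 : act 6 n86360 = n81648 := d7_2 (iv6 F60836) D86360 (iv3 D81648)
theorem F132352 : act 7 n86360 = n45161 := d8_2 (iv7 F60837) D86360 (iv3 D45161)
def n86361 : Q := act 5 n39975
theorem D86361 : act 5 n39975 = n86361 := rfl
theorem F132353 : act 2 n86361 = n75162 := d2_1 D86361 (iv5 D75162) (iv2 F60835)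
theorem F132354 : act 4 n86361 = n48524 := d9_1 D86361 F76370 F36831 (iv5 D17883) F13249 D8441 D17894 D37219 (iv4 F65031) (iv5 D42110) (iv4 D19858) (iv5 D9345) (iv4 F13812) D18905 D39975
theorem F132355 : act 7 n86361 = n45162 := d13_2 (iv7 F60837) D86361 (iv5 D45162)
theorem F132356 : act 0 n86361 = n81514 := d17_2 (iv1 F60839) D86361 F125364 (iv4 D44983) (iv5 D21477) (iv0 F16746) D19114 F33762 (iv4 F58170)
theorem F132357 : act 1 n86361 = n81513 := d17_6 (iv1 F29068) (iv5 D17893) (iv1 F16816) D18905 D39975 D86361 F125362 F70724 (iv4 D34422)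
def n86362 : Q := act 0 n39976
theorem D86362 : act 0 n39976 = n86362 := rfl
theorem F132358 : act 1 n40047 = n86362 := d15_0 (iv0 D86362) F60842 D40047
def n86363 : Q := act 1 n39976
theorem D86363 : act 1 n39976 = n86363 := rfl
theorem F132359 : act 1 n86363 = n40047 := d15_1 D86363 (iv7 F77282) F77279
def n86364 : Q := act 6 n39976
theorem D86364 : act 6 n39976 = n86364 := rfl
def n86365 : Q := act 1 n39977
theorem D86365 : act 1 n39977 = n86365 := rfl
theorem F132362 : act 1 n86365 = n40165 := d15_1 D86365 F61059 (iv2 F60843)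
theorem F132364 : act 4 n40557 = n86365 := d20_0 (iv1 D86365) F60844 F30184 D35601 F121831 F126089 (iv1 F71144) F71140 (iv3 F71114) (iv1 F71117)
def n86366 : Q := act 5 n39977
theorem D86366 : act 5 n39977 = n86366 := rfl
theorem F132367 : act 6 n86366 = n41143 := d12_2 D39977 D86366 (iv5 D41143) (iv6 D19354) (iv5 F30179)
def n86367 : Q := act 7 n39977
theorem D86367 : act 7 n39977 = n86367 := rfl
theorem F132369 : act 4 n86367 = n39980 := d11_1 D86367 (iv7 D39980) (iv4 F60844)
def n86368 : Q := act 4 n39978
theorem D86368 : act 4 n39978 = n86368 := rfl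
theorem F132373 : act 2 n86368 = n40206 := d1_1 D86368 (iv4 D40206) (iv2 F124469)
theorem F132374 : act 6 n86368 = n78325 := d10_2 (iv6 F119486) D86368 (iv4 D78325)
theorem F132375 : act 7 n86368 = n40211 := d11_2 (iv7 F124470) D86368 (iv4 D40211)
theorem F132376 : act 0 n40064 = n86368 := d20_7 (iv4 F91723) F125923 (iv4 D37496) (iv3 F125963) (iv1 D21555) (iv3 F33906) (iv4 F60961) (iv4 D86368) F126131 (iv1 F89551)
def n86369 : Q := act 4 n39979
theorem D86369 : act 4 n39979 = n86369 := rfl
theorem F132377 : act 2 n86369 = n40211 := d1_1 D86369 (iv4 D40211) (iv2 F124458)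
theorem F132378 : act 3 n86369 = n84020 := d5_1 D86369 (iv4 D84020) (iv3 D38697) F121715 (iv3 F121714)
theorem F132381 : act 0 n86369 = n40064 := d20_1 D86369 F60961 F33906 (iv1 F126007) (iv3 D8818) (iv4 F43120) (iv1 F18171) F18167 (iv3 F30307) (iv1 F60845)
def n86370 : Q := act 0 n39981
theorem D86370 : act 0 n39981 = n86370 := rfl
theorem F132382 : act 5 n86370 = n83592 := d19_1 D86370 (iv4 D83592) (iv3 F127903) (iv1 F127902) (iv5 D82637) (iv4 F113256) F113254 F54776 F34581 (iv4 D12955) D12954 (iv1 F27945) (iv5 D17043) (iv4 D7967) F5928 F12243 (iv5 F16381) (iv4 F30185) D39981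
theorem F132383 : act 1 n81599 = n86370 := d15_0 (iv0 D86370) F60855 D81599
theorem F132384 : act 7 n81597 = n86370 := d13_0 F132382 F128671 F125493
def n86371 : Q := act 1 n39981
theorem D86371 : act 1 n39981 = n86371 := rfl
theorem F132385 : act 5 n86371 = n83548 := d18_9 F128644 F121978 (iv1 D45843) (iv4 F43368) D55685 (iv4 F88111) (iv0 D45188) (iv4 F60854) D86371
theorem F132386 : act 4 n81671 = n86371 := d20_6 (iv4 D19201) F14097 F13259 D17929 D37329 D81671 (iv1 D86371) F60854 (iv3 D21568) (iv1 F30844)
theorem F132387 : act 0 n81599 = n86371 := d20_1 (iv4 F125494) (iv4 F132386) (iv3 D81671) (iv1 F71272) F71269 (iv4 F72448) (iv1 F72452) D77638 F116544 (iv1 F71212)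
theorem F132388 : act 2 n81597 = n86371 := d15_3 (iv0 F132387) F132383 (iv7 F132384)
theorem F132389 : act 7 n81598 = n86371 := d15_2 (iv0 D81597) D81598 (iv2 F132388)
theorem F132390 : act 2 n86370 = n81598 := d4_3 F132389 (iv2 F132388) F132384
def n86372 : Q := act 2 n39981
theorem D86372 : act 2 n39981 = n86372 := rfl
theorem F132391 : act 3 n86372 = n80256 := d0_2 D39981 D86372 F123326 F57434 F30788
theorem F132392 : act 4 n86372 = n45190 := d1_2 (iv4 F60854) D86372 (iv2 D45190)
theorem F132393 : act 5 n86372 = n82494 := d2_2 F124256 D86372 F127139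
theorem F132395 : act 1 n86372 = n81597 := d15_0 (iv0 D81597) (iv7 F60855) D86372
theorem F132396 : act 1 n81598 = n86372 := d15_0 F132395 F132384 F132390
def n86374 : Q := act 5 n39982
theorem D86374 : act 5 n39982 = n86374 := rfl
def n86375 : Q := act 6 n39983
theorem D86375 : act 6 n39983 = n86375 := rfl
theorem F132399 : act 3 n86375 = n39984 := d7_1 D86375 (iv6 D39984) D39983
theorem F132400 : act 4 n86375 = n56430 := d10_1 D86375 (iv6 D56430) (iv4 F60857)
def n86376 : Q := act 5 n39984
theorem D86376 : act 5 n39984 = n86376 := rfl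
def n86377 : Q := act 7 n39984
theorem D86377 : act 7 n39984 = n86377 := rfl
def n86378 : Q := act 3 n39985
theorem D86378 : act 3 n39985 = n86378 := rfl
theorem F132406 : act 4 n86378 = n81563 := d5_2 (iv4 F121236) D86378 (iv3 D81563) (iv4 D37255) F121235
def n86379 : Q := act 5 n39985
theorem D86379 : act 5 n39985 = n86379 := rfl
theorem F132408 : act 7 n86379 = n81778 := d13_2 F118995 D86379 (iv5 D81778)
def n86380 : Q := act 6 n39985
theorem D86380 : act 6 n39985 = n86380 := rfl
theorem F132409 : act 4 n86380 = n56926 := d10_1 D86380 (iv6 D56926) (iv4 F121236)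
def n86381 : Q := act 3 n39986
theorem D86381 : act 3 n39986 = n86381 := rfl
theorem F132411 : act 7 n86381 = n80312 := d8_2 F121282 D86381 F123393
def n86382 : Q := act 5 n39986
theorem D86382 : act 5 n39986 = n86382 := rfl
theorem F132412 : act 2 n86382 = n81778 := d2_1 D86382 (iv5 D81778) F119002
def n86383 : Q := act 6 n39986
theorem D86383 : act 6 n39986 = n86383 := rfl
theorem F132413 : act 2 n86383 = n81779 := d3_1 D86383 (iv6 D81779) F119002
theorem F132414 : act 4 n86383 = n56931 := d10_1 D86383 (iv6 D56931) (iv4 F121243)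
def n86384 : Q := act 0 n39987
theorem D86384 : act 0 n39987 = n86384 := rfl
def n86385 : Q := act 1 n39987
theorem D86385 : act 1 n39987 = n86385 := rfl
theorem F132415 : act 1 n86385 = n80555 := d15_1 D86385 F123843 F72267
def n86386 : Q := act 4 n39987
theorem D86386 : act 4 n39987 = n86386 := rfl
def n86387 : Q := act 7 n39987
theorem D86387 : act 7 n39987 = n86387 := rfl
theorem F132416 : act 2 n86387 = n80555 := d4_1 D86387 F123843 F72267
theorem F132417 : act 5 n86387 = n39988 := d13_1 D86387 (iv7 D39988) D39987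
theorem F132418 : act 1 n80555 = n86384 := d15_0 (iv0 D86384) D86387 F132416
def n86388 : Q := act 3 n39991
theorem D86388 : act 3 n39991 = n86388 := rfl
def n86389 : Q := act 5 n39991
theorem D86389 : act 5 n39991 = n86389 := rfl
theorem F132421 : act 2 n86389 = n56379 := d2_1 D86389 (iv5 D56379) (iv2 F118878)
theorem F132422 : act 7 n86389 = n80557 := d13_2 (iv7 F118879) D86389 (iv5 D80557)
theorem F132424 : act 1 n86389 = n80570 := d15_0 (iv0 D80570) (iv7 F89217) (iv2 F132421)
def n86390 : Q := act 6 n39991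
theorem D86390 : act 6 n39991 = n86390 := rfl
theorem F132426 : act 4 n86390 = n39993 := d10_1 D86390 (iv6 D39993) D39991
def n86391 : Q := act 4 n39992
theorem D86391 : act 4 n39992 = n86391 := rfl
theorem F132427 : act 2 n86391 = n56383 := d1_1 D86391 (iv4 D56383) (iv2 F118835)
theorem F132430 : act 1 n86391 = n80580 := d18_6 (iv1 F121277) (iv4 F30793) F121293 (iv4 D39991) D39992 D86391 (iv4 F125710) (iv0 D81780) (iv5 D37393)
def n86392 : Q := act 1 n39999
theorem D86392 : act 1 n39999 = n86392 := rfl
theorem F132431 : act 1 n86392 = n81971 := d15_1 D86392 F126388 F74221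
theorem F132432 : act 7 n86392 = n81970 := d15_2 (iv0 F73520) D86392 (iv2 F126385)
theorem F132433 : act 5 n86392 = n47789 := d18_9 F75088 F73512 (iv1 D40975) F30953 D19308 (iv4 F60876) (iv0 D40006) (iv4 F60864) D86392
theorem F132434 : act 2 n81969 = n86392 := d2_3 F132433 F75085 (iv5 F126378)
def n86393 : Q := act 5 n39999
theorem D86393 : act 5 n39999 = n86393 := rfl
theorem F132435 : act 2 n86393 = n41626 := d2_1 D86393 (iv5 F74223) F74221
theorem F132436 : act 3 n86393 = n40000 := d6_1 D86393 (iv5 D40000) D39999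
theorem F132437 : act 7 n86393 = n45797 := d13_2 (iv7 F60865) D86393 F72298
theorem F132438 : act 1 n86393 = n45381 := d17_8 (iv1 F34078) D44714 (iv1 F71598) F71600 (iv4 F36062) D46522 (iv0 F73520) D86393 (iv4 D45381)
theorem F132439 : act 4 n86393 = n45323 := d18_5 (iv1 F73778) (iv4 F73779) (iv1 D40007) (iv4 F60864) D86393 F71398 F61807 F34490 (iv5 F62134)
theorem F132440 : act 0 n86393 = n41455 := d20_1 (iv4 F132439) F63904 D45384 F71578 (iv3 F127107) (iv4 D82482) (iv1 F58705) (iv4 F33500) (iv3 F61806) (iv1 F71398)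
def n86394 : Q := act 6 n39999
theorem D86394 : act 6 n39999 = n86394 := rfl
theorem F132441 : act 3 n86394 = n40001 := d7_1 D86394 (iv6 D40001) D39999
theorem F132442 : act 4 n86394 = n40008 := d10_1 D86394 (iv6 D40008) (iv4 F60864)
theorem F132443 : act 7 n82093 = n86394 := d8_0 F132441 (iv7 F118261) D82093
def n86395 : Q := act 6 n40000
theorem D86395 : act 6 n40000 = n86395 := rfl
theorem F132444 : act 2 n86395 = n45799 := d3_1 D86395 (iv6 D45799) (iv2 F60866)
theorem F132445 : act 4 n86395 = n45798 := d10_1 D86395 (iv6 D45798) (iv4 F60867)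
def n86396 : Q := act 5 n40001
theorem D86396 : act 5 n40001 = n86396 := rfl
theorem F132448 : act 0 n84746 = n86396 := d21_7 (iv5 F30984) (iv1 F34904) F34906 D37457 F118131 D39149 D84746 (iv5 D86396) (iv6 D40001) F30195
def n86397 : Q := act 7 n40004
theorem D86397 : act 7 n40004 = n86397 := rfl
theorem F132449 : act 3 n86397 = n40027 := d8_1 D86397 (iv7 D40027) (iv3 F60873)
theorem F132450 : act 4 n86397 = n82139 := d11_1 D86397 F126604 F126601
theorem F132451 : act 5 n86397 = n40005 := d13_1 D86397 (iv7 D40005) D40004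
theorem F132453 : act 0 n56497 = n86397 := d20_10 F132450 (iv1 F126546) (iv4 D37658) D37657 (iv1 F126550) F113121 D82625 (iv1 F127366) (iv4 D56498) D56497
def n86398 : Q := act 3 n40006
theorem D86398 : act 3 n40006 = n86398 := rfl
theorem F132454 : act 2 n86398 = n76590 := d0_1 D86398 (iv3 D76590) (iv2 F88628) F88629 F72247
theorem F132455 : act 4 n86398 = n40121 := d5_2 (iv4 F60876) D86398 F61015 F30264 (iv3 F30960)
def n86399 : Q := act 6 n40006
theorem D86399 : act 6 n40006 = n86399 := rfl
theorem F132456 : act 4 n86399 = n41002 := d10_1 D86399 (iv6 D41002) (iv4 F60876)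
def n86400 : Q := act 6 n40007
theorem D86400 : act 6 n40007 = n86400 := rfl
def n86401 : Q := act 0 n40008
theorem D86401 : act 0 n40008 = n86401 := rfl
def n86402 : Q := act 1 n40008
theorem D86402 : act 1 n40008 = n86402 := rfl
def n86403 : Q := act 5 n40008
theorem D86403 : act 5 n40008 = n86403 := rfl
def n86404 : Q := act 7 n40008
theorem D86404 : act 7 n40008 = n86404 := rfl
theorem F132458 : act 3 n86404 = n40013 := d8_1 D86404 (iv7 D40013) (iv3 F60877)
theorem F132459 : act 4 n86404 = n82093 := d11_1 D86404 F132443 F132442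
theorem F132460 : act 6 n86404 = n80554 := d14_1 D86404 F123842 (iv6 D45777) F34362 D40008
def n86405 : Q := act 0 n40009
theorem D86405 : act 0 n40009 = n86405 := rfl
def n86406 : Q := act 1 n40009
theorem D86406 : act 1 n40009 = n86406 := rfl
def n86407 : Q := act 5 n40009
theorem D86407 : act 5 n40009 = n86407 := rfl
theorem F132461 : act 6 n86407 = n40012 := d12_2 D40009 D86407 (iv5 D40012) (iv6 D18919) D18918
def n86408 : Q := act 7 n40009
theorem D86408 : act 7 n40009 = n86408 := rfl
theorem F132462 : act 4 n86408 = n41132 := d11_1 D86408 (iv7 D41132) (iv4 F60878)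
def n86409 : Q := act 3 n40010
theorem D86409 : act 3 n40010 = n86409 := rfl
def n86411 : Q := act 6 n40010
theorem D86411 : act 6 n40010 = n86411 := rfl
theorem F132464 : act 4 n86411 = n82659 := d10_1 D86411 (iv6 D82659) (iv4 F118211)
theorem F132465 : act 0 n86411 = n81005 := d20_7 (iv4 F128319) (iv1 F128323) F113619 (iv3 F113614) F129647 (iv3 F127337) (iv4 F132464) (iv4 D81005) F122402 F122140
theorem F132466 : act 1 n86411 = n81007 := d15_1 (iv0 F132465) F124764 (iv2 F124761)
theorem F132467 : act 0 n77864 = n81006 := d20_4 (iv4 F123143) (iv1 F129648) (iv4 D77871) (iv3 F118754) (iv3 D81006) D81007 (iv1 F132466) F132464 F127337 (iv1 F129646)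
theorem F132468 : act 1 n82051 = n81006 := d15_0 (iv0 F132467) F118755 (iv2 F126465)
theorem F132469 : act 1 n80164 = n82051 := d15_0 F132468 F124763 (iv2 F123099)
def n86414 : Q := act 6 n40011
theorem D86414 : act 6 n40011 = n86414 := rfl
theorem F132471 : act 4 n86414 = n45277 := d10_1 D86414 (iv6 D45277) (iv4 F118069)
theorem F132472 : act 0 n80479 = n86414 := d18_2 F118525 (iv4 F123704) F132471 F116800 D85654 (iv0 F131371) (iv4 D40186) (iv0 F118533) D56233
def n86415 : Q := act 0 n40012
theorem D86415 : act 0 n40012 = n86415 := rfl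
def n86416 : Q := act 1 n40012
theorem D86416 : act 1 n40012 = n86416 := rfl
theorem F132473 : act 1 n86416 = n80972 := d15_1 D86416 F124720 F72824
def n86418 : Q := act 7 n40012
theorem D86418 : act 7 n40012 = n86418 := rfl
theorem F132475 : act 5 n86418 = n40013 := d13_1 D86418 (iv7 D40013) D40012
def n86419 : Q := act 3 n40021
theorem D86419 : act 3 n40021 = n86419 := rfl
theorem F132478 : act 7 n86419 = n80974 := d8_2 (iv7 F118059) D86419 (iv3 D80974)
def n86420 : Q := act 5 n40021
theorem D86420 : act 5 n40021 = n86420 := rfl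
theorem F132479 : act 2 n86420 = n56579 := d2_1 D86420 (iv5 D56579) (iv2 F118058)
theorem F132480 : act 7 n86420 = n80975 := d13_2 (iv7 F118059) D86420 (iv5 D80975)
theorem F132482 : act 1 n86420 = n80986 := d15_0 (iv0 D80986) (iv7 F89480) (iv2 F132479)
theorem F132483 : act 5 n80986 = n79731 := d17_7 D36317 F119052 (iv1 F118061) (iv5 D40022) D40021 D86420 F132482 (iv0 D79731) F57036
theorem F132484 : act 6 n79731 = n86365 := d21_3 D36999 D80986 F132483 (iv1 D86365) (iv6 D39977) F30179 (iv1 F30287) F30288 D19215 (iv1 F120704)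
def n86421 : Q := act 6 n40021
theorem D86421 : act 6 n40021 = n86421 := rfl
theorem F132486 : act 4 n86421 = n40023 := d10_1 D86421 (iv6 D40023) D40021
def n86423 : Q := act 4 n40025
theorem D86423 : act 4 n40025 = n86423 := rfl
theorem F132492 : act 2 n86423 = n56594 := d1_1 D86423 (iv4 D56594) (iv2 F118087)
theorem F132495 : act 1 n86423 = n81111 := d15_0 (iv0 D81111) (iv7 F89504) (iv2 F132492)
def n86424 : Q := act 6 n40025
theorem D86424 : act 6 n40025 = n86424 := rfl
theorem F132500 : act 5 n86424 = n79718 := d12_1 D86424 (iv6 D79718) (iv5 D36306) D36307 (iv5 F118089)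
theorem F132503 : act 0 n81195 = n86424 := d21_4 F57920 D78394 (iv5 F124959) D81195 (iv6 D86424) F118089 F118543 F118542 F124759 (iv1 D81004)
theorem E14336 : n81195 = n81003 := ((c21_5 (iv5 D18922) F118054 D17806 D37004 D81003 (iv6 D81195) F124959 (iv1 F122392) (iv5 F132500) (iv6 D86424) (iv1 D40025))).symm
theorem F132504 : act 0 n81003 = n86424 := (sb E14336 F132503)
theorem F132505 : act 6 n81003 = n37094 := (sb E14336 (iv6 D81195))
theorem F132506 : act 7 n81003 = n80995 := (sb E14336 F124985)
def n86426 : Q := act 1 n40026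
theorem D86426 : act 1 n40026 = n86426 := rfl
theorem F132508 : act 4 n86426 = n45290 := d18_7 (iv1 F120688) (iv4 F118069) (iv1 D40011) F30203 D18922 D40026 D86426 F127354 F61843
def n86429 : Q := act 7 n40026
theorem D86429 : act 7 n40026 = n86429 := rfl
theorem F132511 : act 4 n86429 = n40027 := d11_1 D86429 (iv7 D40027) D40026
def n86430 : Q := act 3 n40028
theorem D86430 : act 3 n40028 = n86430 := rfl
theorem F132515 : act 4 n86430 = n56523 := d5_2 (iv4 F60885) D86430 (iv3 D56523) F43955 (iv3 F30881)
def n86431 : Q := act 5 n40028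
theorem D86431 : act 5 n40028 = n86431 := rfl
theorem F132518 : act 4 n86431 = n40832 := d16_2 (iv4 F60885) D86431 (iv5 D40832) (iv4 F33178) (iv5 D21006) (iv4 F17398) D19220 F30871 (iv2 F30880)
def n86432 : Q := act 6 n40028
theorem D86432 : act 6 n40028 = n86432 := rfl
theorem F132521 : act 4 n86432 = n40741 := d10_1 D86432 (iv6 D40741) (iv4 F60885)
def n86434 : Q := act 5 n40029
theorem D86434 : act 5 n40029 = n86434 := rfl
theorem F132525 : act 4 n86434 = n40835 := d9_1 D86434 (iv5 D40835) F30902 (iv5 D10382) (iv4 F17419) D19222 (iv4 F60885) D86431 F132518 (iv5 D40832) (iv4 F33178) (iv5 D21006) (iv4 F17398) D19220 (iv4 F60889)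
def n86435 : Q := act 6 n40029
theorem D86435 : act 6 n40029 = n86435 := rfl
theorem F132529 : act 2 n86435 = n86432 := d3_1 D86435 (iv6 D86432) F60890
theorem F132530 : act 4 n86435 = n40740 := d10_1 D86435 (iv6 D40740) (iv4 F60889)
def n86438 : Q := act 2 n40030
theorem D86438 : act 2 n40030 = n86438 := rfl
def n86441 : Q := act 6 n40033
theorem D86441 : act 6 n40033 = n86441 := rfl
theorem F132537 : act 2 n86441 = n80742 := d3_1 D86441 (iv6 D80742) (iv2 F60897)
theorem F132538 : act 3 n86441 = n40034 := d7_1 D86441 (iv6 D40034) D40033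
theorem F132540 : act 7 n78272 = n86441 := d8_0 F132538 F118777 D78272
def n86442 : Q := act 0 n40034
theorem D86442 : act 0 n40034 = n86442 := rfl
theorem F132541 : act 4 n86442 = n40297 := d20_2 (iv4 F60902) D86442 F121056 D77730 (iv3 F118587) (iv4 F118590) (iv1 F117743) F117745 F43443 F118775
theorem F132542 : act 2 n40069 = n86442 := d15_3 (iv0 D86442) F118776 (iv7 F119068)
theorem F132543 : act 1 n40072 = n86442 := d15_0 (iv0 D86442) F118777 (iv2 F118807)
theorem F132544 : act 7 n86442 = n40070 := d15_2 (iv0 F118806) F132543 F119013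
theorem F132545 : act 3 n77726 = n86442 := d5_5 F132541 F121056 (iv4 D35476) D35475 D77726
def n86443 : Q := act 5 n40034
theorem D86443 : act 5 n40034 = n86443 := rfl
theorem F132546 : act 2 n86443 = n40071 := d2_1 D86443 (iv5 D40071) (iv2 F60901)
theorem F132547 : act 7 n86443 = n78273 := d13_2 (iv7 F118777) D86443 (iv5 D78273)
def n86444 : Q := act 0 n40038
theorem D86444 : act 0 n40038 = n86444 := rfl
theorem F132548 : act 4 n86444 = n40307 := d20_2 (iv4 F60912) D86444 F120670 (iv1 F44719) F22037 (iv4 F20780) (iv1 F20783) (iv4 F41776) D12977 F118072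
theorem F132549 : act 1 n40102 = n86444 := d15_0 (iv0 D86444) (iv7 F118414) (iv2 F118413)
theorem F132550 : act 2 n40099 = n86444 := d1_3 F132548 F120669 (iv4 F118411)
def n86445 : Q := act 1 n40038
theorem D86445 : act 1 n40038 = n86445 := rfl
theorem F132552 : act 1 n86445 = n40102 := d15_1 D86445 (iv7 D40102) (iv2 F60910)
theorem F132553 : act 7 n86445 = n40099 := d15_2 (iv0 D86444) D86445 F132550
theorem F132554 : act 4 n40308 = n86445 := d20_0 (iv1 D86445) F60912 F30222 D19512 (iv3 F118361) D36071 D79236 (iv4 F120911) F90629 (iv1 F64933)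
def n86446 : Q := act 5 n40038
theorem D86446 : act 5 n40038 = n86446 := rfl
theorem F132556 : act 2 n86446 = n40101 := d2_1 D86446 (iv5 D40101) (iv2 F60910)
theorem F132559 : act 7 n86446 = n79712 := d13_2 F118414 D86446 (iv5 D79712)
def n86447 : Q := act 4 n40041
theorem D86447 : act 4 n40041 = n86447 := rfl
theorem F132560 : act 2 n86447 = n40115 := d1_1 D86447 (iv4 D40115) (iv2 F60914)
theorem F132561 : act 6 n86447 = n40214 := d10_2 (iv6 F60916) D86447 (iv4 D40214)
theorem F132562 : act 7 n86447 = n79713 := d11_2 F118515 D86447 (iv4 D79713)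
def n86448 : Q := act 1 n40043
theorem D86448 : act 1 n40043 = n86448 := rfl
theorem F132563 : act 1 n86448 = n40119 := d15_1 D86448 (iv7 F108042) F108040
theorem F132564 : act 7 n86448 = n40118 := d15_2 (iv0 F124121) D86448 (iv2 F124122)
theorem F132565 : act 2 n40117 = n86448 := d4_3 F132564 (iv2 F124122) F124119
theorem F132566 : act 5 n86448 = n71368 := d2_2 (iv5 F61007) F132565 (iv2 F107863)
def n86449 : Q := act 6 n40043
theorem D86449 : act 6 n40043 = n86449 := rfl
theorem F132567 : act 3 n86449 = n40044 := d7_1 D86449 (iv6 D40044) D40043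
def n86450 : Q := act 5 n40044
theorem D86450 : act 5 n40044 = n86450 := rfl
theorem F132570 : act 2 n86450 = n40134 := d2_1 D86450 (iv5 D40134) (iv2 F60925)
theorem F132571 : act 7 n86450 = n79721 := d13_2 F120915 D86450 (iv5 D79721)
def n86451 : Q := act 2 n40045
theorem D86451 : act 2 n40045 = n86451 := rfl
theorem F132572 : act 7 n40046 = n86451 := d15_2 (iv0 D40045) D40046 (iv2 D86451)
def n86452 : Q := act 4 n40045
theorem D86452 : act 4 n40045 = n86452 := rfl
theorem F132573 : act 0 n86452 = n73619 := d18_2 D40045 D86452 F110322 F56166 (iv4 F43663) D56011 (iv4 F88663) (iv0 D47161) F35275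
def n86453 : Q := act 6 n40045
theorem D86453 : act 6 n40045 = n86453 := rfl
def n86454 : Q := act 7 n40045
theorem D86454 : act 7 n40045 = n86454 := rfl
theorem F132574 : act 2 n86454 = n40046 := d4_1 D86454 F132572 (iv2 D86451)
def n86455 : Q := act 3 n40046
theorem D86455 : act 3 n40046 = n86455 := rfl
theorem F132575 : act 4 n86455 = n40748 := d20_6 (iv4 D18991) (iv1 F18159) D23898 D48980 (iv1 F77283) D86455 (iv1 F61860) D69962 F106382 F60240
def n86456 : Q := act 4 n40046
theorem D86456 : act 4 n40046 = n86456 := rfl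
theorem F132576 : act 3 n86456 = n81846 := d5_1 D86456 F125800 F72631 (iv4 F132575) (iv3 D86455)
theorem F132577 : act 1 n86456 = n73619 := d18_6 (iv1 D56278) F43836 D36491 D80121 (iv5 F122970) D86456 F110322 D77697 (iv5 F122989)
def n86457 : Q := act 6 n40046
theorem D86457 : act 6 n40046 = n86457 := rfl
def n86458 : Q := act 6 n40047
theorem D86458 : act 6 n40047 = n86458 := rfl
theorem F132578 : act 2 n86458 = n40048 := d3_1 D86458 (iv6 D40048) D40047
theorem F132579 : act 3 n86458 = n40140 := d7_1 D86458 (iv6 D40140) (iv3 F60927)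
def n86459 : Q := act 0 n40048
theorem D86459 : act 0 n40048 = n86459 := rfl
def n86460 : Q := act 1 n40048
theorem D86460 : act 1 n40048 = n86460 := rfl
def n86461 : Q := act 5 n40048
theorem D86461 : act 5 n40048 = n86461 := rfl
def n86462 : Q := act 7 n40048
theorem D86462 : act 7 n40048 = n86462 := rfl
theorem F132581 : act 3 n86462 = n40051 := d8_1 D86462 (iv7 D40051) (iv3 F60928)
def n86463 : Q := act 3 n40049
theorem D86463 : act 3 n40049 = n86463 := rfl
theorem F132583 : act 7 n86463 = n40155 := d8_2 (iv7 F60930) D86463 (iv3 D40155)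
def n86464 : Q := act 5 n40049
theorem D86464 : act 5 n40049 = n86464 := rfl
theorem F132584 : act 2 n86464 = n40159 := d2_1 D86464 (iv5 D40159) F60931
theorem F132585 : act 7 n86464 = n40156 := d13_2 (iv7 F60930) D86464 (iv5 D40156)
def n86465 : Q := act 0 n40050
theorem D86465 : act 0 n40050 = n86465 := rfl
def n86466 : Q := act 1 n40050
theorem D86466 : act 1 n40050 = n86466 := rfl
theorem F132586 : act 1 n86466 = n40164 := d15_1 D86466 (iv7 D40164) (iv2 F60932)
theorem F132587 : act 5 n80467 = n86466 := d21_6 (iv5 F36435) F36436 (iv5 D17682) D17683 D36686 D80467 (iv1 D86466) (iv5 D40050) (iv6 D18932) (iv1 F21920)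
def n86468 : Q := act 7 n40050
theorem D86468 : act 7 n40050 = n86468 := rfl
theorem F132590 : act 5 n86468 = n40051 := d13_1 D86468 (iv7 D40051) D40050
theorem F132592 : act 1 n40162 = n86468 := d15_1 D40162 (iv7 D86468) F60932
def n86469 : Q := act 5 n40053
theorem D86469 : act 5 n40053 = n86469 := rfl
theorem F132594 : act 2 n86469 = n81830 := d2_1 D86469 (iv5 D81830) F91152
theorem F132595 : act 3 n86469 = n40055 := d6_1 D86469 (iv5 D40055) D40053
theorem F132596 : act 6 n86469 = n80352 := d12_2 (iv6 F61180) D86469 F123444 (iv6 D40197) D40196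
theorem F132597 : act 7 n86469 = n40196 := d13_2 (iv7 F61132) D86469 (iv5 D40196)
theorem F132598 : act 4 n86469 = n85886 := d18_5 F117181 (iv4 F29154) D37458 F117236 D86469 (iv0 D85886) (iv4 D39725) (iv0 D18792) (iv5 D8807)
theorem F132599 : act 6 n85886 = n85910 := d10_2 (iv6 F132596) F132598 F131808
theorem F132600 : act 1 n81830 = n85896 := d15_0 F131773 (iv7 F132597) F132594
theorem F132601 : act 1 n86469 = n84711 := d15_0 (iv0 F129943) F125782 (iv2 F132594)
theorem F132602 : act 0 n77620 = n83328 := d20_7 F132598 (iv1 F131743) (iv4 D39730) (iv3 F118273) (iv1 F59506) (iv3 F59672) (iv4 F116521) F128432 (iv3 F129941) (iv1 F132601)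
def n86470 : Q := act 0 n40054
theorem D86470 : act 0 n40054 = n86470 := rfl
theorem F132603 : act 4 n86470 = n44572 := d20_2 D40054 D86470 F70089 F116639 (iv3 F117223) D82428 F126992 F59132 F30131 D18933
theorem F132605 : act 1 n40057 = n86470 := d15_0 (iv0 D86470) F61135 (iv2 F61144)
theorem F132606 : act 7 n86470 = n40066 := d15_2 F116739 F132605 F60964
def n86471 : Q := act 3 n40054
theorem D86471 : act 3 n40054 = n86471 := rfl
theorem F132607 : act 4 n86471 = n81837 := d5_2 D40054 D86471 (iv3 D81837) F117236 (iv3 D40053)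
theorem F132608 : act 7 n86471 = n40198 := d8_2 (iv7 F61135) D86471 (iv3 D40198)
def n86472 : Q := act 5 n40054
theorem D86472 : act 5 n40054 = n86472 := rfl
theorem F132609 : act 2 n86472 = n40181 := d2_1 D86472 (iv5 D40181) (iv2 F61134)
theorem F132610 : act 7 n86472 = n40199 := d13_2 (iv7 F61135) D86472 (iv5 D40199)
def n86473 : Q := act 4 n40055
theorem D86473 : act 4 n40055 = n86473 := rfl
theorem F132611 : act 2 n86473 = n40186 := d1_1 D86473 (iv4 D40186) F61140
theorem F132612 : act 6 n86473 = n80579 := d10_2 F118816 D86473 (iv4 D80579)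
def n86474 : Q := act 5 n40057
theorem D86474 : act 5 n40057 = n86474 := rfl
theorem F132615 : act 2 n86474 = n40199 := d2_1 D86474 (iv5 D40199) (iv2 F61144)
def n86475 : Q := act 7 n40061
theorem D86475 : act 7 n40061 = n86475 := rfl
theorem F132618 : act 2 n86475 = n41393 := d4_1 D86475 (iv7 D41393) (iv2 F60949)
theorem F132619 : act 3 n86475 = n40086 := d8_1 D86475 (iv7 D40086) (iv3 F60950)
theorem F132620 : act 4 n86475 = n83278 := d11_1 D86475 F128354 F113708
theorem F132621 : act 5 n86475 = n40062 := d13_1 D86475 (iv7 D40062) D40061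
theorem F132622 : act 1 n41392 = n86475 := d15_1 D41392 (iv7 D86475) F60949
theorem F132623 : act 1 n86475 = n41391 := d15_1 F132622 (iv7 F128364) F128363
def n86476 : Q := act 0 n40063
theorem D86476 : act 0 n40063 = n86476 := rfl
theorem F132624 : act 5 n86476 = n80626 := d17_1 D86476 F127141 (iv5 F132393) F132392 (iv5 F83666) F88021 F88019 (iv0 D45137) (iv4 F60959)
theorem F132625 : act 3 n86476 = n80627 := d20_5 (iv4 D13138) (iv1 F16317) (iv4 F30238) D40063 D86476 F123986 (iv1 F94735) F59129 (iv3 D18931) (iv1 F21920)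
theorem F132626 : act 1 n81518 = n86476 := d15_0 (iv0 D86476) F60960 D81518
theorem F132627 : act 7 n81516 = n86476 := d8_0 F132625 F123983 (iv3 F125366)
def n86477 : Q := act 1 n40063
theorem D86477 : act 1 n40063 = n86477 := rfl
theorem F132628 : act 4 n84388 = n86477 := d20_6 (iv4 D21156) (iv1 F15943) F13613 D18484 D38915 D84388 (iv1 D86477) F60959 (iv3 D21551) (iv1 F33392)
theorem F132629 : act 0 n81518 = n86477 := d20_1 (iv4 F125367) (iv4 F132628) (iv3 D84388) (iv1 F70698) F70695 (iv4 F72363) (iv1 F72366) (iv4 F115110) F115107 (iv1 F71124)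
theorem F132630 : act 2 n81516 = n86477 := d15_3 (iv0 F132629) F132626 (iv7 F132627)
theorem F132631 : act 7 n81517 = n86477 := d15_2 (iv0 D81516) D81517 (iv2 F132630)
theorem F132632 : act 2 n86476 = n81517 := d4_3 F132631 (iv2 F132630) F132627
def n86478 : Q := act 2 n40063
theorem D86478 : act 2 n40063 = n86478 := rfl
theorem F132633 : act 3 n86478 = n77634 := d0_2 D40063 D86478 F116531 F56156 F30782
theorem F132634 : act 4 n86478 = n45138 := d1_2 (iv4 F60959) D86478 (iv2 D45138)
theorem F132635 : act 5 n86478 = n83144 := d2_2 F121979 D86478 F128179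
theorem F132636 : act 7 n86478 = n81518 := d4_2 (iv7 F60960) D86478 (iv2 D81518)
theorem F132637 : act 1 n86478 = n81516 := d15_0 (iv0 D81516) (iv7 F60960) D86478
theorem F132638 : act 1 n81517 = n86478 := d15_0 F132637 F132627 F132632
def n86479 : Q := act 6 n40063
theorem D86479 : act 6 n40063 = n86479 := rfl
theorem F132639 : act 3 n86479 = n40064 := d7_1 D86479 (iv6 D40064) D40063
theorem F132640 : act 4 n86479 = n45140 := d10_1 D86479 (iv6 D45140) (iv4 F60959)
def n86480 : Q := act 5 n40064
theorem D86480 : act 5 n40064 = n86480 := rfl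
def n86481 : Q := act 7 n40064
theorem D86481 : act 7 n40064 = n86481 := rfl
theorem F132641 : act 4 n86481 = n45135 := d11_1 D86481 (iv7 D45135) (iv4 F60961)
theorem F132643 : act 1 n40211 = n86481 := d15_1 (iv0 F126115) (iv7 D86481) (iv2 F61683)
def n86482 : Q := act 2 n40065
theorem D86482 : act 2 n40065 = n86482 := rfl
theorem F132646 : act 4 n86482 = n54863 := d1_2 (iv4 F60962) D86482 F86803
theorem F132647 : act 7 n86482 = n77634 := d4_2 (iv7 F60963) D86482 F116531
theorem F132648 : act 1 n86482 = n40223 := d15_0 (iv0 F61208) (iv7 F60963) D86482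
theorem F132649 : act 1 n71541 = n86482 := d15_0 F132648 (iv7 F77330) (iv2 F108056)
def n86483 : Q := act 6 n40065
theorem D86483 : act 6 n40065 = n86483 := rfl
theorem F132650 : act 3 n86483 = n40066 := d7_1 D86483 (iv6 D40066) D40065
theorem F132651 : act 4 n86483 = n56064 := d10_1 D86483 (iv6 D56064) (iv4 F60962)
def n86484 : Q := act 5 n40066
theorem D86484 : act 5 n40066 = n86484 := rfl
def n86485 : Q := act 6 n40067
theorem D86485 : act 6 n40067 = n86485 := rfl
theorem F132653 : act 2 n86485 = n80756 := d3_1 D86485 (iv6 D80756) F60970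
theorem F132654 : act 4 n86485 = n40599 := d10_1 D86485 (iv6 D40599) (iv4 F60969)
def n86486 : Q := act 0 n40068
theorem D86486 : act 0 n40068 = n86486 := rfl
def n86487 : Q := act 1 n40068
theorem D86487 : act 1 n40068 = n86487 := rfl
def n86488 : Q := act 5 n40068
theorem D86488 : act 5 n40068 = n86488 := rfl
theorem F132656 : act 6 n86488 = n40071 := d12_2 D40068 D86488 (iv5 D40071) (iv6 D18940) D18939
def n86489 : Q := act 7 n40068
theorem D86489 : act 7 n40068 = n86489 := rfl
theorem F132657 : act 3 n86489 = n56304 := d8_1 D86489 (iv7 D56304) (iv3 F60971)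
theorem F132658 : act 4 n86489 = n41112 := d11_1 D86489 (iv7 D41112) (iv4 F60972)
def n86490 : Q := act 3 n40069
theorem D86490 : act 3 n40069 = n86490 := rfl
theorem F132660 : act 4 n86490 = n84356 := d5_2 (iv4 F121174) D86490 (iv3 D84356) (iv4 D38897) F121173
def n86491 : Q := act 5 n40069
theorem D86491 : act 5 n40069 = n86491 := rfl
def n86492 : Q := act 3 n40070
theorem D86492 : act 3 n40070 = n86492 := rfl
theorem F132663 : act 4 n86492 = n77476 := d5_2 (iv4 F121184) D86492 (iv3 D77476) (iv4 F121182) (iv3 D57335)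
theorem F132664 : act 7 n86492 = n77726 := d8_2 F132544 D86492 F132545
def n86493 : Q := act 5 n40070
theorem D86493 : act 5 n40070 = n86493 := rfl
def n86494 : Q := act 6 n40070
theorem D86494 : act 6 n40070 = n86494 := rfl
theorem F132667 : act 4 n86494 = n57338 := d10_1 D86494 (iv6 D57338) (iv4 F121184)
def n86495 : Q := act 0 n40071
theorem D86495 : act 0 n40071 = n86495 := rfl
def n86496 : Q := act 1 n40071
theorem D86496 : act 1 n40071 = n86496 := rfl
theorem F132668 : act 1 n86496 = n78273 := d15_1 D86496 (iv7 F132547) F132546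
theorem F132669 : act 5 n86496 = n86411 := d17_7 (iv1 D37006) (iv5 F28945) (iv1 F118085) (iv5 D18943) (iv4 F30247) D40071 D86496 F132466 (iv4 D81007)
def n86497 : Q := act 4 n40071
theorem D86497 : act 4 n40071 = n86497 := rfl
def n86498 : Q := act 7 n40071
theorem D86498 : act 7 n40071 = n86498 := rfl
theorem F132670 : act 2 n86498 = n78273 := d4_1 D86498 (iv7 F132547) F132546
theorem F132671 : act 5 n86498 = n40072 := d13_1 D86498 (iv7 D40072) D40071
theorem F132672 : act 1 n78273 = n86495 := d15_0 (iv0 D86495) D86498 F132670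
def n86499 : Q := act 3 n40075
theorem D86499 : act 3 n40075 = n86499 := rfl
theorem F132673 : act 4 n86499 = n78186 := d5_2 D40075 D86499 (iv3 D78186) (iv4 D35644) F118819
theorem F132674 : act 7 n86499 = n78276 := d8_2 (iv7 F118823) D86499 (iv3 D78276)
def n86500 : Q := act 5 n40075
theorem D86500 : act 5 n40075 = n86500 := rfl
theorem F132675 : act 2 n86500 = n55824 := d2_1 D86500 (iv5 D55824) (iv2 F118822)
theorem F132676 : act 7 n86500 = n78277 := d13_2 (iv7 F118823) D86500 (iv5 D78277)
theorem F132677 : act 1 n78298 = n86500 := d15_1 D78298 F132676 F119471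
theorem F132678 : act 5 n78298 = n77295 := d21_2 D86500 (iv1 F132677) (iv6 D77295) (iv1 D35281) (iv6 D17125) D17124 (iv1 F30265) (iv5 D18956) D18957 (iv1 F121050)
theorem F132679 : act 1 n77295 = n80976 := d17_8 F119513 (iv5 F118840) (iv1 D35696) (iv5 D17300) D17299 D35693 D78298 F132678 F124725
theorem F132680 : act 1 n86500 = n78297 := d15_0 (iv0 D78297) (iv7 F88299) (iv2 F132675)
def n86501 : Q := act 4 n40076
theorem D86501 : act 4 n40076 = n86501 := rfl
theorem F132681 : act 2 n86501 = n55827 := d1_1 D86501 (iv4 D55827) (iv2 F118825)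
theorem F132682 : act 7 n86501 = n78279 := d11_2 (iv7 F118827) D86501 (iv4 D78279)
theorem F132683 : act 1 n78312 = n86501 := d15_1 D78312 F132682 F119474
theorem F132684 : act 1 n86501 = n78311 := d15_0 (iv0 D78311) (iv7 F88302) (iv2 F132681)
theorem F132685 : act 4 n78311 = n84490 := d18_7 F121058 F30573 (iv1 F121050) (iv4 D40075) D40076 D86501 F132684 (iv0 D84490) (iv5 D38973)
def n86502 : Q := act 4 n40083
theorem D86502 : act 4 n40083 = n86502 := rfl
theorem F132686 : act 2 n86502 = n55863 := d1_1 D86502 (iv4 D55863) (iv2 F118094)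
theorem F132687 : act 7 n86502 = n78387 := d11_2 (iv7 F118096) D86502 (iv4 D78387)
theorem F132688 : act 0 n86502 = n78390 := d18_2 D40083 D86502 (iv4 F121041) F90525 F121053 (iv0 F118820) (iv4 D40075) (iv0 D18941) D18943
theorem F132689 : act 1 n86502 = n78389 := d15_0 (iv0 D78389) (iv7 F88363) (iv2 F132686)
def n86503 : Q := act 0 n40085
theorem D86503 : act 0 n40085 = n86503 := rfl
theorem F132690 : act 4 n86503 = n57339 := d20_2 D40085 D86503 (iv3 F121014) (iv1 F59947) F29685 (iv4 F29793) (iv1 F41763) (iv4 D17317) D17316 (iv1 F118085)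
theorem F132692 : act 1 n78274 = n86503 := d18_6 D27449 (iv4 F121174) (iv1 F119067) (iv4 D35684) D35685 D78274 F132690 (iv0 D57339) (iv5 D27451)
def n86504 : Q := act 1 n40085
theorem D86504 : act 1 n40085 = n86504 := rfl
theorem F132693 : act 1 n86504 = n78274 := d15_1 D86504 F122722 F122720
theorem F132694 : act 4 n57340 = n86504 := d20_6 (iv4 F122131) (iv1 F127747) F127745 (iv3 F127665) (iv1 F127668) F127344 (iv1 D86504) (iv4 D40085) (iv3 F60950) F122129
theorem E14337 : n77860 = n77777 := (c20_5 (iv4 F120381) F120379 (iv4 D35533) D35532 D77860 F118686 D78274 (iv1 F132693) (iv4 F132694) (iv3 F127344) F127345)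
theorem F132696 : act 1 n77777 = n35532 := (sb E14337 (iv0 D77860))
def n86505 : Q := act 3 n40085
theorem D86505 : act 3 n40085 = n86505 := rfl
theorem F132697 : act 6 n86505 = n77260 := d7_2 (iv6 F60978) D86505 (iv3 D77260)
def n86506 : Q := act 5 n40085
theorem D86506 : act 5 n40085 = n86506 := rfl
def n86507 : Q := act 7 n40085
theorem D86507 : act 7 n40085 = n86507 := rfl
theorem F132699 : act 4 n86507 = n40086 := d11_1 D86507 (iv7 D40086) D40085
theorem F132700 : act 1 n84522 = n86507 := d15_1 (iv0 F129686) (iv7 D86507) (iv2 F122720)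
def n86508 : Q := act 1 n40088
theorem D86508 : act 1 n40088 = n86508 := rfl
theorem F132701 : act 1 n86508 = n46980 := d15_1 D86508 (iv7 F121996) F121994
theorem F132702 : act 7 n86508 = n81832 := d15_2 (iv0 F128827) D86508 (iv2 F128823)
theorem F132703 : act 5 n86508 = n45381 := d18_9 (iv1 F132438) F132439 (iv1 D45323) F34006 D40353 (iv4 F61436) (iv0 D40094) (iv4 F60983) D86508
theorem F132704 : act 2 n46547 = n86508 := d2_3 F132703 F71558 F74224
def n86509 : Q := act 6 n40088
theorem D86509 : act 6 n40088 = n86509 := rfl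
theorem F132705 : act 3 n86509 = n40089 := d7_1 D86509 (iv6 D40089) D40088
theorem F132706 : act 4 n86509 = n40097 := d10_1 D86509 (iv6 D40097) (iv4 F60983)
theorem F132707 : act 7 n84734 = n86509 := d8_0 F132705 (iv7 F118133) D84734
def n86510 : Q := act 5 n40089
theorem D86510 : act 5 n40089 = n86510 := rfl
theorem F132708 : act 2 n86510 = n81835 := d2_1 D86510 (iv5 D81835) (iv2 F60985)
theorem F132709 : act 7 n86510 = n84735 := d13_2 F118133 D86510 (iv5 D84735)
def n86511 : Q := act 4 n40092
theorem D86511 : act 4 n40092 = n86511 := rfl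
theorem F132710 : act 2 n86511 = n84776 := d1_1 D86511 (iv4 F129978) F74942
theorem F132711 : act 6 n86511 = n77262 := d10_2 (iv6 F60988) D86511 (iv4 D77262)
theorem F132712 : act 1 n86511 = n84655 := d18_6 (iv1 F29802) D39096 F118547 F60986 D40092 D86511 (iv4 D84655) F60103 F29824
theorem F132713 : act 1 n84652 = n86511 := d15_0 F132712 F129866 (iv2 F129855)
theorem F132714 : act 7 n84775 = n86511 := d15_2 F129977 F129976 F132710
def n86512 : Q := act 7 n40092
theorem D86512 : act 7 n40092 = n86512 := rfl
theorem F132715 : act 3 n86512 = n40116 := d8_1 D86512 (iv7 D40116) (iv3 F60987)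
theorem F132717 : act 5 n86512 = n40093 := d13_1 D86512 (iv7 D40093) D40092
def n86513 : Q := act 3 n40094
theorem D86513 : act 3 n40094 = n86513 := rfl
theorem F132719 : act 4 n86513 = n47159 := d5_2 (iv4 F61436) D86513 (iv3 D47159) F35272 (iv3 F61434)
def n86514 : Q := act 6 n40094
theorem D86514 : act 6 n40094 = n86514 := rfl
def n86515 : Q := act 6 n40095
theorem D86515 : act 6 n40095 = n86515 := rfl
def n86516 : Q := act 6 n40096
theorem D86516 : act 6 n40096 = n86516 := rfl
theorem F132721 : act 3 n86516 = n40098 := d7_1 D86516 (iv6 D40098) (iv3 F60993)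
def n86517 : Q := act 0 n40097
theorem D86517 : act 0 n40097 = n86517 := rfl
def n86518 : Q := act 1 n40097
theorem D86518 : act 1 n40097 = n86518 := rfl
def n86519 : Q := act 5 n40097
theorem D86519 : act 5 n40097 = n86519 := rfl
theorem F132722 : act 3 n86519 = n40101 := d6_1 D86519 (iv5 D40101) (iv3 F60997)
def n86520 : Q := act 7 n40097
theorem D86520 : act 7 n40097 = n86520 := rfl
theorem F132723 : act 3 n86520 = n40102 := d8_1 D86520 (iv7 D40102) (iv3 F60997)
theorem F132724 : act 4 n86520 = n84734 := d11_1 D86520 F132707 F132706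
def n86521 : Q := act 0 n40098
theorem D86521 : act 0 n40098 = n86521 := rfl
def n86522 : Q := act 1 n40098
theorem D86522 : act 1 n40098 = n86522 := rfl
theorem F132726 : act 1 n86522 = n80761 := d15_1 D86522 (iv7 D80761) (iv2 F60998)
def n86523 : Q := act 5 n40098
theorem D86523 : act 5 n40098 = n86523 := rfl
theorem F132727 : act 2 n86523 = n80760 := d2_1 D86523 (iv5 D80760) (iv2 F60998)
theorem F132728 : act 6 n86523 = n40101 := d12_2 D40098 D86523 (iv5 D40101) (iv6 D18950) D18949
def n86524 : Q := act 7 n40098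
theorem D86524 : act 7 n40098 = n86524 := rfl
theorem F132729 : act 2 n86524 = n80761 := d4_1 D86524 (iv7 D80761) (iv2 F60998)
theorem F132730 : act 4 n86524 = n41086 := d11_1 D86524 (iv7 D41086) (iv4 F60999)
theorem F132731 : act 1 n80761 = n86521 := d15_0 (iv0 D86521) D86524 F132729
theorem F132732 : act 1 n80759 = n86524 := d15_1 D80759 (iv7 D86524) F60998
theorem F132733 : act 1 n86524 = n80758 := d15_0 (iv0 D80758) D80761 (iv2 F132729)
def n86525 : Q := act 3 n40099
theorem D86525 : act 3 n40099 = n86525 := rfl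
theorem F132734 : act 4 n86525 = n56079 := d5_2 (iv4 F118411) D86525 (iv3 D56079) F118410 D38388
def n86526 : Q := act 5 n40099
theorem D86526 : act 5 n40099 = n86526 := rfl
def n86527 : Q := act 6 n40099
theorem D86527 : act 6 n40099 = n86527 := rfl
theorem F132735 : act 4 n86527 = n83333 := d10_1 D86527 (iv6 D83333) (iv4 F118411)
def n86528 : Q := act 3 n40100
theorem D86528 : act 3 n40100 = n86528 := rfl
theorem F132737 : act 4 n86528 = n58170 := d5_2 (iv4 F118417) D86528 (iv3 D58170) (iv4 D27720) D27719
def n86529 : Q := act 5 n40100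
theorem D86529 : act 5 n40100 = n86529 := rfl
def n86530 : Q := act 0 n40101
theorem D86530 : act 0 n40101 = n86530 := rfl
def n86531 : Q := act 1 n40101
theorem D86531 : act 1 n40101 = n86531 := rfl
theorem F132738 : act 1 n86531 = n79712 := d15_1 D86531 (iv7 F132559) F132556
theorem F132739 : act 5 n86380 = n86531 := d21_6 (iv5 F56886) (iv1 D36151) (iv5 F28471) D18910 D39985 D86380 (iv1 D86531) (iv5 D40101) (iv6 D18950) (iv1 F30241)
def n86532 : Q := act 4 n40101
theorem D86532 : act 4 n40101 = n86532 := rfl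
def n86533 : Q := act 7 n40101
theorem D86533 : act 7 n40101 = n86533 := rfl
theorem F132740 : act 2 n86533 = n79712 := d4_1 D86533 (iv7 F132559) F132556
theorem F132741 : act 5 n86533 = n40102 := d13_1 D86533 (iv7 D40102) D40101
theorem F132742 : act 1 n79712 = n86530 := d15_0 (iv0 D86530) D86533 F132740
def n86534 : Q := act 3 n40110
theorem D86534 : act 3 n40110 = n86534 := rfl
def n86535 : Q := act 5 n40110
theorem D86535 : act 5 n40110 = n86535 := rfl
theorem F132745 : act 2 n86535 = n56226 := d2_1 D86535 (iv5 D56226) (iv2 F118109)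
theorem F132746 : act 7 n86535 = n79715 := d13_2 (iv7 F118110) D86535 (iv5 D79715)
theorem F132747 : act 1 n79728 = n86535 := d15_1 D79728 F132746 F122384
theorem F132748 : act 1 n86535 = n79727 := d15_0 (iv0 D79727) (iv7 F88933) (iv2 F132745)
def n86536 : Q := act 6 n40110
theorem D86536 : act 6 n40110 = n86536 := rfl
theorem F132749 : act 2 n86536 = n56227 := d3_1 D86536 (iv6 D56227) (iv2 F118109)
theorem F132750 : act 4 n86536 = n40112 := d10_1 D86536 (iv6 D40112) D40110
theorem F132752 : act 0 n40157 = n86536 := d20_1 F90952 F132750 F118112 F121400 (iv3 F121398) (iv4 F131360) (iv1 F131362) (iv4 D39581) D39580 F121001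
def n86537 : Q := act 4 n40111
theorem D86537 : act 4 n40111 = n86537 := rfl
theorem F132753 : act 2 n86537 = n56230 := d1_1 D86537 (iv4 D56230) (iv2 F118099)
theorem F132754 : act 6 n86537 = n86502 := d10_2 F61003 D86537 (iv4 D86502)
theorem F132755 : act 7 n86537 = n79717 := d11_2 (iv7 F118101) D86537 (iv4 D79717)
theorem F132756 : act 1 n79739 = n86537 := d15_1 D79739 F132755 F122387
theorem F132757 : act 1 n86537 = n79738 := d15_0 (iv0 D79738) (iv7 F88938) (iv2 F132753)
def n86538 : Q := act 4 n40114
theorem D86538 : act 4 n40114 = n86538 := rfl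
theorem F132758 : act 2 n86538 = n56243 := d1_1 D86538 (iv4 D56243) (iv2 F118843)
theorem F132759 : act 7 n86538 = n79861 := d11_2 (iv7 F118845) D86538 (iv4 D79861)
theorem F132760 : act 0 n86538 = n78550 := d18_2 (iv1 F118518) D86538 F119737 (iv5 D40309) F30581 (iv0 F120712) (iv4 D40110) (iv0 F118102) D36298
theorem F132761 : act 1 n86538 = n79864 := d15_0 (iv0 D79864) (iv7 F88959) (iv2 F132758)
def n86539 : Q := act 6 n40114
theorem D86539 : act 6 n40114 = n86539 := rfl
theorem F132764 : act 5 n86539 = n78284 := d12_1 D86539 F119482 (iv5 D39992) D39993 F61004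
theorem F132765 : act 0 n86539 = n78310 := d21_4 F118535 F116109 F61004 D86539 (iv6 D78310) F118840 (iv1 F118522) F57922 F43781 D56228
def n86540 : Q := act 0 n40115
theorem D86540 : act 0 n40115 = n86540 := rfl
def n86541 : Q := act 1 n40115
theorem D86541 : act 1 n40115 = n86541 := rfl
theorem F132769 : act 4 n58183 = n86541 := d20_6 (iv4 D84792) (iv1 F129879) F129877 (iv3 F91920) (iv1 F91923) D58183 (iv1 D86541) (iv4 D40115) (iv3 F60987) (iv1 F130005)
def n86542 : Q := act 3 n40115
theorem D86542 : act 3 n40115 = n86542 := rfl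
theorem F132770 : act 6 n86542 = n77265 := d7_2 (iv6 F61005) D86542 (iv3 D77265)
def n86543 : Q := act 5 n40115
theorem D86543 : act 5 n40115 = n86543 := rfl
def n86544 : Q := act 7 n40115
theorem D86544 : act 7 n40115 = n86544 := rfl
theorem F132771 : act 2 n86544 = n79713 := d4_1 D86544 (iv7 F132562) F132560
theorem F132772 : act 4 n86544 = n40116 := d11_1 D86544 (iv7 D40116) D40115
theorem F132773 : act 1 n79713 = n86540 := d15_0 (iv0 D86540) D86544 F132771
theorem F132774 : act 4 n83341 = n86540 := d20_6 F118980 (iv1 D38481) (iv4 D18340) (iv3 F29515) D38397 D83341 (iv1 F132773) (iv4 D79713) (iv3 F118517) (iv1 F118979)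
theorem F132775 : act 0 n41262 = n83341 := d18_0 F132774 (iv1 F132773) (iv4 D79713) (iv5 D36298) D36297 (iv0 F118412) F118411 (iv0 F120716) (iv5 F63580)
def n86545 : Q := act 6 n40116
theorem D86545 : act 6 n40116 = n86545 := rfl
theorem F132777 : act 5 n86545 = n78275 := d12_1 D86545 (iv6 D78275) (iv5 D35685) (iv6 F118797) (iv5 F61006)
theorem F132778 : act 7 n86545 = n40216 := d14_2 D40116 D86545 (iv6 D40216) F30315 (iv6 F30263)
theorem F132779 : act 0 n86545 = n56270 := d21_4 (iv5 D36306) (iv1 F118080) (iv5 F61006) D86545 (iv6 F123920) F123919 F119034 D77311 F118544 (iv1 F88935)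
theorem F132780 : act 0 n78280 = n86545 := d21_4 F60979 F118789 D35688 D78280 (iv6 D86545) F61006 F118079 D27094 (iv6 F43781) (iv1 F118521)
def n86546 : Q := act 4 n40117
theorem D86546 : act 4 n40117 = n86546 := rfl
theorem F132781 : act 3 n86546 = n83548 := d5_1 D86546 (iv4 D83548) (iv3 D38521) (iv4 F56778) (iv3 F61008)
def n86547 : Q := act 6 n40117
theorem D86547 : act 6 n40117 = n86547 := rfl
def n86548 : Q := act 3 n40118
theorem D86548 : act 3 n40118 = n86548 := rfl
theorem F132783 : act 2 n86548 = n79125 := d0_1 D86548 (iv3 D79125) F57759 D80684 F124122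
theorem F132784 : act 4 n86548 = n82997 := d5_2 F120492 D86548 (iv3 D82997) (iv4 F74450) D79214
theorem F132785 : act 5 n79280 = n86548 := d9_0 F132784 F127922 (iv4 D81655) F90652 (iv4 D57480) (iv5 D27494) (iv4 F44400) D57449 (iv4 F128410) F128411 (iv4 D81651) D81652 F125558 F114789 (iv4 F121670)
def n86549 : Q := act 5 n40118
theorem D86549 : act 5 n40118 = n86549 := rfl
theorem F132786 : act 2 n86549 = n40120 := d2_1 D86549 (iv5 F124118) F124122
theorem F132787 : act 3 n86549 = n79280 := d6_1 D86549 F132785 (iv3 D86548)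
theorem F132788 : act 7 n86549 = n71368 := d13_2 F132564 D86549 (iv5 F132566)
theorem F132789 : act 0 n86549 = n40147 := d17_2 (iv1 F108043) D86549 F61049 (iv4 F56761) (iv5 F116064) (iv0 D77278) (iv5 F74437) F107864 F108044
theorem F132790 : act 4 n86549 = n40119 := d17_4 F56762 D71518 (iv1 F108043) D86549 (iv5 F61010) (iv0 F57742) (iv5 F61694) (iv0 D40568) (iv4 F56761)
theorem F132791 : act 1 n86549 = n54643 := d15_1 (iv0 F132789) F86391 (iv2 F61048)
def n86550 : Q := act 6 n40118
theorem D86550 : act 6 n40118 = n86550 := rfl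
def n86551 : Q := act 6 n40119
theorem D86551 : act 6 n40119 = n86551 := rfl
theorem F132792 : act 2 n86551 = n40122 := d3_1 D86551 (iv6 D40122) D40119
theorem F132793 : act 3 n86551 = n76607 := d7_1 D86551 (iv6 D76607) (iv3 F61009)
def n86552 : Q := act 6 n40120
theorem D86552 : act 6 n40120 = n86552 := rfl
theorem F132794 : act 3 n86552 = n55663 := d7_1 D86552 (iv6 D55663) (iv3 F61011)
def n86554 : Q := act 0 n40122
theorem D86554 : act 0 n40122 = n86554 := rfl
theorem F132798 : act 3 n86554 = n79168 := d20_5 (iv4 D38972) F121058 F30573 (iv3 F61017) D86554 F129630 (iv1 F123132) F123128 F122004 F118806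
def n86555 : Q := act 1 n40122
theorem D86555 : act 1 n40122 = n86555 := rfl
def n86556 : Q := act 5 n40122
theorem D86556 : act 5 n40122 = n86556 := rfl
theorem F132799 : act 3 n86556 = n40126 := d6_1 D86556 (iv5 D40126) (iv3 F61017)
def n86557 : Q := act 7 n40122
theorem D86557 : act 7 n40122 = n86557 := rfl
def n86558 : Q := act 0 n40123
theorem D86558 : act 0 n40123 = n86558 := rfl
def n86559 : Q := act 1 n40123
theorem D86559 : act 1 n40123 = n86559 := rfl
def n86561 : Q := act 7 n40123
theorem D86561 : act 7 n40123 = n86561 := rfl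
theorem F132803 : act 4 n86561 = n41010 := d11_1 D86561 (iv7 D41010) (iv4 F61018)
def n86562 : Q := act 0 n40126
theorem D86562 : act 0 n40126 = n86562 := rfl
def n86563 : Q := act 4 n40126
theorem D86563 : act 4 n40126 = n86563 := rfl
def n86564 : Q := act 7 n40126
theorem D86564 : act 7 n40126 = n86564 := rfl
def n86565 : Q := act 3 n40128
theorem D86565 : act 3 n40128 = n86565 := rfl
theorem F132807 : act 4 n86565 = n81832 := d5_2 F90800 D86565 (iv3 F125785) (iv4 F114999) F114997
theorem F132808 : act 5 n86565 = n60223 := d6_2 (iv5 F61019) D86565 (iv3 D60223)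
def n86566 : Q := act 6 n40128
theorem D86566 : act 6 n40128 = n86566 := rfl
def n86567 : Q := act 6 n40129
theorem D86567 : act 6 n40129 = n86567 := rfl
def n86568 : Q := act 0 n40130
theorem D86568 : act 0 n40130 = n86568 := rfl
def n86569 : Q := act 1 n40130
theorem D86569 : act 1 n40130 = n86569 := rfl
def n86570 : Q := act 5 n40130
theorem D86570 : act 5 n40130 = n86570 := rfl
theorem F132809 : act 3 n86570 = n40134 := d6_1 D86570 (iv5 D40134) (iv3 F61023)
def n86571 : Q := act 7 n40130
theorem D86571 : act 7 n40130 = n86571 := rfl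
theorem F132811 : act 3 n86571 = n40135 := d8_1 D86571 (iv7 D40135) (iv3 F61023)
def n86572 : Q := act 0 n40131
theorem D86572 : act 0 n40131 = n86572 := rfl
def n86573 : Q := act 1 n40131
theorem D86573 : act 1 n40131 = n86573 := rfl
def n86574 : Q := act 5 n40131
theorem D86574 : act 5 n40131 = n86574 := rfl
theorem F132813 : act 3 n86574 = n76566 := d6_1 D86574 (iv5 D76566) (iv3 F61024)
def n86575 : Q := act 7 n40131
theorem D86575 : act 7 n40131 = n86575 := rfl
theorem F132815 : act 3 n86575 = n76567 := d8_1 D86575 (iv7 D76567) (iv3 F61024)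
theorem F132816 : act 4 n86575 = n40905 := d11_1 D86575 (iv7 D40905) (iv4 F61025)
def n86576 : Q := act 0 n40134
theorem D86576 : act 0 n40134 = n86576 := rfl
theorem F132817 : act 5 n86576 = n79868 := d17_3 F120712 D40134 D86576 (iv4 D79868) (iv5 D36383) F118847 (iv5 D18953) D18952 D40110
def n86577 : Q := act 1 n40134
theorem D86577 : act 1 n40134 = n86577 := rfl
theorem F132818 : act 1 n86577 = n79721 := d15_1 D86577 (iv7 F132571) F132570
theorem F132819 : act 5 n86390 = n86577 := d21_6 D8888 D18966 F30284 D19164 F121293 D86390 (iv1 D86577) (iv5 D40134) (iv6 D18960) (iv1 D8886)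
def n86578 : Q := act 4 n40134
theorem D86578 : act 4 n40134 = n86578 := rfl
def n86579 : Q := act 7 n40134
theorem D86579 : act 7 n40134 = n86579 := rfl
theorem F132821 : act 5 n86579 = n40135 := d13_1 D86579 (iv7 D40135) D40134
def n86580 : Q := act 6 n40136
theorem D86580 : act 6 n40136 = n86580 := rfl
theorem F132823 : act 2 n86580 = n79163 := d3_1 D86580 (iv6 D79163) (iv2 F61026)
theorem F132824 : act 3 n86580 = n40137 := d7_1 D86580 (iv6 D40137) D40136
theorem F132825 : act 4 n86580 = n55141 := d10_1 D86580 F87227 (iv4 F61027)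
def n86581 : Q := act 5 n40137
theorem D86581 : act 5 n40137 = n86581 := rfl
def n86582 : Q := act 5 n40138
theorem D86582 : act 5 n40138 = n86582 := rfl
def n86583 : Q := act 6 n40139
theorem D86583 : act 6 n40139 = n86583 := rfl
theorem F132829 : act 2 n86583 = n40143 := d3_1 D86583 (iv6 D40143) (iv2 F61033)
def n86584 : Q := act 5 n40140
theorem D86584 : act 5 n40140 = n86584 := rfl
theorem F132830 : act 2 n86584 = n40146 := d2_1 D86584 (iv5 D40146) (iv2 F61037)
def n86585 : Q := act 6 n40141
theorem D86585 : act 6 n40141 = n86585 := rfl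
theorem F132832 : act 3 n86585 = n79328 := d7_1 D86585 (iv6 D79328) (iv3 F61043)
def n86586 : Q := act 6 n40142
theorem D86586 : act 6 n40142 = n86586 := rfl
theorem F132833 : act 4 n86586 = n40143 := d10_1 D86586 (iv6 D40143) D40142
def n86587 : Q := act 0 n40143
theorem D86587 : act 0 n40143 = n86587 := rfl
def n86588 : Q := act 1 n40143
theorem D86588 : act 1 n40143 = n86588 := rfl
def n86589 : Q := act 5 n40143
theorem D86589 : act 5 n40143 = n86589 := rfl
theorem F132834 : act 3 n86589 = n40152 := d6_1 D86589 (iv5 D40152) (iv3 F61045)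
theorem F132835 : act 6 n86589 = n40146 := d12_2 D40143 D86589 (iv5 D40146) (iv6 D18965) D18964
def n86590 : Q := act 7 n40143
theorem D86590 : act 7 n40143 = n86590 := rfl
def n86591 : Q := act 3 n40144
theorem D86591 : act 3 n40144 = n86591 := rfl
def n86592 : Q := act 5 n40144
theorem D86592 : act 5 n40144 = n86592 := rfl
theorem F132837 : act 2 n86592 = n85061 := d2_1 D86592 (iv5 D85061) F130173
def n86593 : Q := act 6 n40144
theorem D86593 : act 6 n40144 = n86593 := rfl
theorem F132838 : act 2 n86593 = n85062 := d3_1 D86593 (iv6 D85062) F130173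
theorem F132839 : act 4 n86593 = n85059 := d10_1 D86593 (iv6 D85059) (iv4 F130174)
def n86594 : Q := act 3 n40145
theorem D86594 : act 3 n40145 = n86594 := rfl
theorem F132840 : act 4 n86594 = n85030 := d5_2 F61046 D86594 (iv3 D85030) (iv4 D39321) D39320
theorem F132841 : act 7 n86594 = n85060 := d8_2 F130172 D86594 (iv3 D85060)
def n86595 : Q := act 5 n40145
theorem D86595 : act 5 n40145 = n86595 := rfl
theorem F132842 : act 7 n86595 = n85061 := d13_2 F130172 D86595 (iv5 D85061)
def n86596 : Q := act 6 n40145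
theorem D86596 : act 6 n40145 = n86596 := rfl
theorem F132843 : act 4 n86596 = n85029 := d10_1 D86596 (iv6 D85029) F61046
def n86597 : Q := act 0 n40146
theorem D86597 : act 0 n40146 = n86597 := rfl
def n86598 : Q := act 1 n40146
theorem D86598 : act 1 n40146 = n86598 := rfl
def n86599 : Q := act 4 n40146
theorem D86599 : act 4 n40146 = n86599 := rfl
def n86600 : Q := act 4 n40147
theorem D86600 : act 4 n40147 = n86600 := rfl
theorem F132844 : act 2 n86600 = n71358 := d1_1 D86600 F107854 (iv2 F61048)
theorem F132845 : act 3 n86600 = n40749 := d5_1 D86600 (iv4 D40749) F30888 (iv4 F30285) D40147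
theorem F132846 : act 7 n86600 = n86513 := d11_2 F74438 D86600 F132719
theorem F132847 : act 5 n79365 = n86600 := d6_0 F132845 F72261 D79365
def n86601 : Q := act 6 n40147
theorem D86601 : act 6 n40147 = n86601 := rfl
def n86602 : Q := act 0 n40148
theorem D86602 : act 0 n40148 = n86602 := rfl
def n86603 : Q := act 1 n40148
theorem D86603 : act 1 n40148 = n86603 := rfl
def n86604 : Q := act 5 n40148
theorem D86604 : act 5 n40148 = n86604 := rfl
def n86605 : Q := act 7 n40148
theorem D86605 : act 7 n40148 = n86605 := rfl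
def n86606 : Q := act 0 n40149
theorem D86606 : act 0 n40149 = n86606 := rfl
def n86607 : Q := act 1 n40149
theorem D86607 : act 1 n40149 = n86607 := rfl
def n86608 : Q := act 5 n40149
theorem D86608 : act 5 n40149 = n86608 := rfl
theorem F132853 : act 6 n86608 = n40724 := d12_2 D40149 D86608 (iv5 D40724) (iv6 D19215) (iv5 F30288)
def n86609 : Q := act 7 n40149
theorem D86609 : act 7 n40149 = n86609 := rfl
theorem F132855 : act 4 n86609 = n40619 := d11_1 D86609 (iv7 D40619) (iv4 F61053)
def n86610 : Q := act 2 n40150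
theorem D86610 : act 2 n40150 = n86610 := rfl
theorem F132856 : act 7 n40151 = n86610 := d15_2 (iv0 D40150) D40151 (iv2 D86610)
def n86611 : Q := act 3 n40150
theorem D86611 : act 3 n40150 = n86611 := rfl
def n86612 : Q := act 4 n40150
theorem D86612 : act 4 n40150 = n86612 := rfl
def n86613 : Q := act 5 n40150
theorem D86613 : act 5 n40150 = n86613 := rfl
def n86614 : Q := act 6 n40150
theorem D86614 : act 6 n40150 = n86614 := rfl
def n86616 : Q := act 3 n40151
theorem D86616 : act 3 n40151 = n86616 := rfl
def n86617 : Q := act 4 n40151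
theorem D86617 : act 4 n40151 = n86617 := rfl
def n86618 : Q := act 5 n40151
theorem D86618 : act 5 n40151 = n86618 := rfl
def n86619 : Q := act 6 n40151
theorem D86619 : act 6 n40151 = n86619 := rfl
def n86620 : Q := act 0 n40152
theorem D86620 : act 0 n40152 = n86620 := rfl
def n86621 : Q := act 1 n40152
theorem D86621 : act 1 n40152 = n86621 := rfl
def n86622 : Q := act 4 n40152
theorem D86622 : act 4 n40152 = n86622 := rfl
theorem F132858 : act 6 n86622 = n40163 := d10_2 (iv6 F61054) D86622 (iv4 D40163)
def n86623 : Q := act 7 n40152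
theorem D86623 : act 7 n40152 = n86623 := rfl
theorem F132859 : act 5 n86623 = n40153 := d13_1 D86623 (iv7 D40153) D40152
def n86624 : Q := act 6 n40153
theorem D86624 : act 6 n40153 = n86624 := rfl
theorem F132861 : act 4 n86624 = n40852 := d10_1 D86624 (iv6 F74396) F74395
theorem F132862 : act 7 n86624 = n40154 := d14_2 D40153 D86624 (iv6 D40154) (iv7 D18969) D18968
theorem F132863 : act 1 n41142 = n86624 := d15_1 D41142 F132862 F61055
def n86626 : Q := act 1 n40154
theorem D86626 : act 1 n40154 = n86626 := rfl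
def n86627 : Q := act 5 n40154
theorem D86627 : act 5 n40154 = n86627 := rfl
theorem F132867 : act 2 n86627 = n41143 := d2_1 D86627 (iv5 D41143) (iv2 F61055)
theorem F132868 : act 6 n86627 = n40168 := d12_2 D40154 D86627 (iv5 D40168) (iv6 D18974) (iv5 F30300)
def n86628 : Q := act 0 n40155
theorem D86628 : act 0 n40155 = n86628 := rfl
theorem F132869 : act 3 n86628 = n83937 := d20_5 F58179 (iv1 F116733) (iv4 F44548) D40155 D86628 (iv4 D83937) (iv1 D38661) D38663 (iv3 F60944) (iv1 F116739)
def n86629 : Q := act 1 n40155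
theorem D86629 : act 1 n40155 = n86629 := rfl
def n86630 : Q := act 2 n40155
theorem D86630 : act 2 n40155 = n86630 := rfl
def n86631 : Q := act 4 n40155
theorem D86631 : act 4 n40155 = n86631 := rfl
theorem F132870 : act 3 n86631 = n55688 := d5_1 D86631 (iv4 F117206) F117205 (iv4 F44548) D40155
def n86634 : Q := act 0 n40156
theorem D86634 : act 0 n40156 = n86634 := rfl
theorem F132875 : act 5 n86634 = n86421 := d17_3 D18970 D40156 D86634 F132486 (iv5 F61107) (iv0 D40184) (iv5 D18978) (iv0 D8891) (iv4 F13856)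
theorem F132876 : act 1 n40159 = n86634 := d15_0 (iv0 D86634) (iv7 F132585) F132584
theorem F132877 : act 1 n86421 = n80467 := d17_8 (iv1 F131310) (iv5 F117105) (iv1 D57804) (iv5 F44493) F44362 D40159 F132876 F132875 (iv4 F125511)
def n86635 : Q := act 1 n40156
theorem D86635 : act 1 n40156 = n86635 := rfl
theorem F132878 : act 1 n86635 = n40159 := d15_1 D86635 (iv7 F90958) F90957
def n86638 : Q := act 1 n40157
theorem D86638 : act 1 n40157 = n86638 := rfl
theorem F132879 : act 1 n86638 = n57801 := d15_1 D86638 F90963 F90959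
theorem F132880 : act 7 n86638 = n56227 := d15_2 (iv0 F132752) D86638 (iv2 F132749)
theorem F132881 : act 4 n86638 = n40190 := d18_7 (iv1 F30232) (iv4 F30301) (iv1 F60929) (iv4 F116686) F116687 F90952 D86638 F61116 (iv5 D40055)
theorem F132883 : act 6 n79734 = n86638 := d10_0 F132881 F118076 (iv4 F122424)
def n86639 : Q := act 5 n40157
theorem D86639 : act 5 n40157 = n86639 := rfl
theorem F132886 : act 1 n86639 = n77299 := d17_6 (iv1 F116672) (iv5 F116736) F116734 F116687 F90952 D86639 F116091 (iv0 F87770) (iv4 D55482)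
def n86640 : Q := act 7 n40157
theorem D86640 : act 7 n40157 = n86640 := rfl
theorem F132887 : act 2 n86640 = n57801 := d4_1 D86640 F90963 F90959
theorem F132888 : act 4 n86640 = n57794 := d11_1 D86640 F90954 F90952
theorem F132889 : act 5 n77296 = n86640 := d17_3 (iv1 D35281) D35282 D77296 F132888 (iv5 D57794) F116733 (iv5 F33948) D45186 F116677
def n86641 : Q := act 0 n40158
theorem D86641 : act 0 n40158 = n86641 := rfl
def n86642 : Q := act 1 n40158
theorem D86642 : act 1 n40158 = n86642 := rfl
def n86643 : Q := act 2 n40158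
theorem D86643 : act 2 n40158 = n86643 := rfl
def n86644 : Q := act 5 n40158
theorem D86644 : act 5 n40158 = n86644 := rfl
theorem F132892 : act 3 n86644 = n40159 := d6_1 D86644 (iv5 D40159) D40158
def n86645 : Q := act 6 n40158
theorem D86645 : act 6 n40158 = n86645 := rfl
theorem F132893 : act 3 n86645 = n40160 := d7_1 D86645 (iv6 D40160) D40158
def n86646 : Q := act 4 n40159
theorem D86646 : act 4 n40159 = n86646 := rfl
def n86647 : Q := act 6 n40159
theorem D86647 : act 6 n40159 = n86647 := rfl
def n86648 : Q := act 2 n40161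
theorem D86648 : act 2 n40161 = n86648 := rfl
theorem F132894 : act 7 n40162 = n86648 := d15_2 (iv0 D40161) D40162 (iv2 D86648)
def n86653 : Q := act 7 n40161
theorem D86653 : act 7 n40161 = n86653 := rfl
theorem F132896 : act 2 n86653 = n40162 := d4_1 D86653 F132894 (iv2 D86648)
def n86656 : Q := act 5 n40162
theorem D86656 : act 5 n40162 = n86656 := rfl
theorem F132897 : act 4 n86656 = n76856 := d17_4 (iv1 F60936) (iv5 F132590) (iv1 F132592) D86656 (iv5 F116678) F71204 (iv5 F70090) (iv0 F116732) (iv4 F44548)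
theorem F132898 : act 6 n86656 = n76854 := d21_3 (iv5 F132590) (iv1 F132592) D86656 F115387 F57568 (iv5 F116091) (iv1 F132886) (iv5 D86639) (iv6 D40157) (iv1 F60936)
theorem F132899 : act 2 n80467 = n86656 := d3_3 F132898 F115471 D80467
theorem E14338 : n86653 = n86466 := (c2_4 (iv5 F132587) F132899 (iv5 D86656) (iv2 F132896))
theorem F132900 : act 2 n86466 = n40162 := (sb E14338 F132896)
theorem F132905 : act 0 n86656 = n56580 := d20_7 (iv4 F29965) (iv1 F52387) F52384 D34746 (iv1 F120587) (iv3 F115390) (iv4 F132897) F89481 F44000 F30456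
def n86657 : Q := act 6 n40162
theorem D86657 : act 6 n40162 = n86657 := rfl
def n86664 : Q := act 5 n40165
theorem D86664 : act 5 n40165 = n86664 := rfl
theorem F132907 : act 7 n86664 = n40168 := d13_2 (iv7 F61059) D86664 (iv5 D40168)
def n86667 : Q := act 6 n40166
theorem D86667 : act 6 n40166 = n86667 := rfl
theorem F132909 : act 2 n86667 = n78302 := d3_1 D86667 F121554 F124378
def n86668 : Q := act 3 n40167
theorem D86668 : act 3 n40167 = n86668 := rfl
def n86670 : Q := act 6 n40167
theorem D86670 : act 6 n40167 = n86670 := rfl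
def n86671 : Q := act 0 n40168
theorem D86671 : act 0 n40168 = n86671 := rfl
def n86672 : Q := act 1 n40168
theorem D86672 : act 1 n40168 = n86672 := rfl
theorem F132912 : act 5 n80575 = n86672 := d21_6 (iv5 F36466) F36468 F31396 D35273 F87772 (iv6 F123880) (iv1 D86672) (iv5 D40168) (iv6 D18974) (iv1 F30223)
def n86673 : Q := act 4 n40168
theorem D86673 : act 4 n40168 = n86673 := rfl
def n86674 : Q := act 3 n40178
theorem D86674 : act 3 n40178 = n86674 := rfl
theorem F132913 : act 4 n86674 = n58567 := d5_2 F90483 D86674 (iv3 D58567) (iv4 D27865) (iv3 F90482)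
theorem F132914 : act 7 n86674 = n81520 := d8_2 F116740 D86674 F125388
def n86675 : Q := act 5 n40178
theorem D86675 : act 5 n40178 = n86675 := rfl
theorem F132915 : act 7 n86675 = n81522 := d13_2 F116740 D86675 (iv5 D81522)
def n86676 : Q := act 0 n40180
theorem D86676 : act 0 n40180 = n86676 := rfl
theorem F132916 : act 1 n83940 = n86676 := d15_0 (iv0 D86676) (iv7 F61170) (iv2 F128934)
def n86677 : Q := act 1 n40180
theorem D86677 : act 1 n40180 = n86677 := rfl
def n86678 : Q := act 2 n40180
theorem D86678 : act 2 n40180 = n86678 := rfl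
theorem F132917 : act 4 n86678 = n83034 := d1_2 (iv4 F61080) D86678 (iv2 D83034)
theorem F132918 : act 7 n86678 = n83940 := d4_2 F61170 D86678 F128934
theorem F132919 : act 1 n86678 = n83943 := d15_0 (iv0 D83943) F61170 D86678
theorem F132921 : act 1 n83944 = n86678 := d15_1 D83944 F132918 F128934
def n86679 : Q := act 5 n40180
theorem D86679 : act 5 n40180 = n86679 := rfl
theorem F132922 : act 3 n86679 = n40181 := d6_1 D86679 (iv5 D40181) D40180
def n86680 : Q := act 6 n40180
theorem D86680 : act 6 n40180 = n86680 := rfl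
theorem F132924 : act 3 n86680 = n40182 := d7_1 D86680 (iv6 D40182) D40180
theorem F132925 : act 4 n86680 = n83036 := d10_1 D86680 (iv6 D83036) (iv4 F61080)
def n86681 : Q := act 0 n40181
theorem D86681 : act 0 n40181 = n86681 := rfl
theorem F132926 : act 5 n86681 = n86414 := d17_3 F116689 D40181 D86681 F132471 F116800 F121002 (iv5 D27593) F116683 (iv4 F60965)
def n86682 : Q := act 1 n40181
theorem D86682 : act 1 n40181 = n86682 := rfl
theorem F132928 : act 1 n86682 = n40199 := d15_1 D86682 (iv7 F132610) F132609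
def n86683 : Q := act 4 n40181
theorem D86683 : act 4 n40181 = n86683 := rfl
def n86684 : Q := act 6 n40181
theorem D86684 : act 6 n40181 = n86684 := rfl
def n86685 : Q := act 1 n40182
theorem D86685 : act 1 n40182 = n86685 := rfl
theorem F132930 : act 4 n86685 = n57804 := d18_7 F116732 (iv4 F132603) (iv1 F132605) (iv4 D40057) (iv5 F30304) (iv4 F61081) D86685 F90968 (iv5 D57794)
def n86686 : Q := act 5 n40182
theorem D86686 : act 5 n40182 = n86686 := rfl
theorem F132932 : act 0 n86686 = n86374 := d17_2 (iv1 D86685) D86686 (iv5 D86374) F60856 F33948 (iv0 F116730) F44493 D57804 (iv4 F132930)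
def n86687 : Q := act 4 n40184
theorem D86687 : act 4 n40184 = n86687 := rfl
theorem F132934 : act 7 n86687 = n86536 := d11_2 (iv7 F118536) D86687 F132750
theorem F132935 : act 0 n86687 = n57798 := d17_0 F116090 (iv1 D77297) (iv5 D35282) F28072 F12788 D8892 D18983 F61113 D86687
theorem F132936 : act 1 n86687 = n86640 := d18_6 (iv1 F131309) F125511 (iv1 F132877) F132486 (iv5 F61107) D86687 F132888 (iv0 F121028) D85633
def n86689 : Q := act 3 n40186
theorem D86689 : act 3 n40186 = n86689 := rfl
theorem F132942 : act 7 n86689 = n86680 := d8_2 (iv7 F61177) D86689 F132924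
def n86691 : Q := act 6 n40186
theorem D86691 : act 6 n40186 = n86691 := rfl
theorem F132944 : act 2 n86691 = n80579 := d3_1 D86691 (iv6 F132612) F132611
theorem F132945 : act 4 n86691 = n40187 := d10_1 D86691 (iv6 D40187) D40186
theorem F132946 : act 7 n86691 = n80578 := d14_2 (iv7 F61177) D86691 F123885 F61145 D40182
theorem F132947 : act 1 n81781 = n86691 := d15_1 (iv0 F125714) F132946 F123884
def n86692 : Q := act 3 n40195
theorem D86692 : act 3 n40195 = n86692 := rfl
theorem F132948 : act 4 n86692 = n40198 := d5_2 D40195 D86692 (iv3 D40198) (iv4 D18982) D18981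
theorem F132949 : act 7 n86692 = n81837 := d8_2 F117237 D86692 (iv3 D81837)
def n86693 : Q := act 5 n40195
theorem D86693 : act 5 n40195 = n86693 := rfl
theorem F132950 : act 2 n86693 = n81841 := d2_1 D86693 (iv5 D81841) F117233
theorem F132951 : act 7 n86693 = n81838 := d13_2 F117237 D86693 (iv5 D81838)
theorem F132952 : act 1 n81841 = n82134 := d15_0 F126542 (iv7 F132951) F132950
def n86694 : Q := act 6 n40195
theorem D86694 : act 6 n40195 = n86694 := rfl
theorem F132954 : act 4 n86694 = n40197 := d10_1 D86694 (iv6 D40197) D40195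
theorem F132956 : act 0 n58003 = n86694 := d18_2 F117171 (iv4 F91759) F132954 (iv5 F123444) (iv4 F131808) (iv0 D85910) (iv4 D39739) (iv0 D18795) D18797
def n86695 : Q := act 0 n40198
theorem D86695 : act 0 n40198 = n86695 := rfl
def n86696 : Q := act 1 n40198
theorem D86696 : act 1 n40198 = n86696 := rfl
def n86697 : Q := act 2 n40198
theorem D86697 : act 2 n40198 = n86697 := rfl
theorem F132958 : act 3 n86697 = n83940 := d0_2 D40198 D86697 F128934 (iv3 F60944) F61144
def n86698 : Q := act 5 n40198
theorem D86698 : act 5 n40198 = n86698 := rfl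
def n86699 : Q := act 6 n40198
theorem D86699 : act 6 n40198 = n86699 := rfl
theorem F132960 : act 3 n86699 = n40200 := d7_1 D86699 (iv6 D40200) D40198
def n86702 : Q := act 0 n40200
theorem D86702 : act 0 n40200 = n86702 := rfl
theorem F132961 : act 4 n86702 = n40579 := d18_3 (iv1 F118841) (iv4 F61182) D86702 (iv5 D40579) D40578 F121280 F34367 F118870 D36762
theorem F132962 : act 1 n86691 = n86702 := d15_0 (iv0 D86702) (iv7 F123886) (iv2 F132944)
def n86703 : Q := act 5 n40200
theorem D86703 : act 5 n40200 = n86703 := rfl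
theorem F132963 : act 1 n86703 = n86379 := d17_6 D18911 D39992 F118833 F118815 (iv4 F61182) D86703 (iv5 D86379) (iv0 D39985) F30191
theorem F132964 : act 1 n86382 = n86703 := d15_0 F132963 F132408 (iv2 F132412)
def n86704 : Q := act 3 n40201
theorem D86704 : act 3 n40201 = n86704 := rfl
def n86706 : Q := act 3 n40206
theorem D86706 : act 3 n40206 = n86706 := rfl
def n86707 : Q := act 5 n40206
theorem D86707 : act 5 n40206 = n86707 := rfl
def n86708 : Q := act 6 n40206
theorem D86708 : act 6 n40206 = n86708 := rfl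
theorem F132969 : act 2 n86708 = n78325 := d3_1 D86708 (iv6 F132374) F132373
theorem F132970 : act 4 n86708 = n40208 := d10_1 D86708 (iv6 D40208) D40206
theorem F132971 : act 7 n78320 = n86708 := d11_0 F132970 F124472 D78320
def n86709 : Q := act 4 n40207
theorem D86709 : act 4 n40207 = n86709 := rfl
def n86710 : Q := act 6 n40207
theorem D86710 : act 6 n40207 = n86710 := rfl
theorem F132974 : act 0 n86710 = n79863 := d21_4 F28282 D18986 D40207 D86710 (iv6 D79863) D79862 F122612 (iv5 F119049) F119045 (iv1 D35813)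
theorem F132975 : act 0 n78317 = n86710 := d21_4 (iv5 F119485) (iv1 D35700) D35701 (iv6 F119529) (iv6 D86710) (iv5 D40207) (iv1 F60853) (iv5 F119771) (iv6 F122693) (iv1 F122694)
def n86711 : Q := act 5 n40210
theorem D86711 : act 5 n40210 = n86711 := rfl
theorem F132976 : act 2 n86711 = n77536 := d2_1 D86711 (iv5 D77536) (iv2 F125910)
theorem F132977 : act 3 n86711 = n40212 := d6_1 D86711 (iv5 D40212) D40210
theorem F132978 : act 7 n86711 = n77531 := d13_2 (iv7 F125911) D86711 (iv5 D77531)
theorem F132979 : act 0 n77790 = n86711 := d21_10 (iv5 D86711) F126109 D56622 F89546 F44035 (iv6 F63812) (iv5 D41378) (iv1 F118760) D35498 D77790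
theorem F132980 : act 6 n77910 = n86711 := d21_5 (iv5 D19491) F21533 D17220 D35549 D77910 (iv5 D86711) F126109 D56622 F89546 F44035
def n86712 : Q := act 6 n40210
theorem D86712 : act 6 n40210 = n86712 := rfl
theorem F132981 : act 2 n86712 = n77537 := d3_1 D86712 (iv6 D77537) (iv2 F125910)
theorem F132982 : act 3 n86712 = n40213 := d7_1 D86712 (iv6 D40213) D40210
theorem F132983 : act 4 n86712 = n81880 := d10_1 D86712 (iv6 D81880) F124379
theorem F132984 : act 0 n56102 = n86712 := d18_0 F132983 (iv1 F131771) F131767 (iv5 F117510) D81949 F126603 F126601 F126577 (iv5 F126570)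
theorem F132985 : act 7 n79748 = n86712 := d8_0 F132982 F124481 D79748
def n86713 : Q := act 3 n40211
theorem D86713 : act 3 n40211 = n86713 := rfl
theorem F132986 : act 4 n86713 = n81878 := d5_2 D40211 D86713 (iv3 D81878) F124379 (iv3 D40210)
def n86714 : Q := act 5 n40211
theorem D86714 : act 5 n40211 = n86714 := rfl
def n86716 : Q := act 4 n40212
theorem D86716 : act 4 n40212 = n86716 := rfl
def n86717 : Q := act 6 n40212
theorem D86717 : act 6 n40212 = n86717 := rfl
theorem F132991 : act 2 n86717 = n42872 := d3_1 D86717 F123913 F124466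
theorem F132992 : act 3 n86717 = n77910 := d7_1 D86717 F132980 F132977
theorem F132993 : act 5 n86717 = n81004 := d12_1 D86717 (iv6 F124759) (iv5 F118542) (iv6 D40213) D40212
theorem F132995 : act 0 n42863 = n86717 := d21_4 (iv5 D17118) F17514 D20249 D42863 (iv6 D86717) (iv5 D40212) (iv1 D18987) (iv5 F28282) (iv6 D17349) F28055
theorem F132996 : act 7 n42873 = n86717 := d15_2 (iv0 D42872) D42873 F132991
def n86718 : Q := act 1 n40214
theorem D86718 : act 1 n40214 = n86718 := rfl
theorem F132997 : act 1 n86718 = n40215 := d15_1 D86718 F61200 (iv2 F61197)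
theorem F132999 : act 4 n86718 = n40301 := d18_7 (iv1 F16939) F14040 D10244 F16930 D18988 D40214 D86718 F61355 (iv5 D19836)
theorem F133000 : act 2 n77264 = n86718 := d1_3 F132999 F61352 (iv4 F116035)
def n86719 : Q := act 3 n40214
theorem D86719 : act 3 n40214 = n86719 := rfl
theorem F133001 : act 4 n86719 = n41440 := d5_2 D40214 D86719 (iv3 D41440) (iv4 D19516) (iv3 F30310)
theorem F133002 : act 7 n86719 = n78542 := d8_2 (iv7 F61198) D86719 (iv3 D78542)
def n86720 : Q := act 5 n40214
theorem D86720 : act 5 n40214 = n86720 := rfl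
theorem F133003 : act 2 n86720 = n77266 := d2_1 D86720 (iv5 D77266) (iv2 F61197)
theorem F133004 : act 7 n86720 = n78543 := d13_2 (iv7 F61198) D86720 (iv5 D78543)
theorem F133005 : act 4 n86720 = n41291 := d16_2 D40214 D86720 F63610 F32125 (iv5 D19710) F14441 D18989 F30315 (iv2 F30309)
def n86721 : Q := act 3 n40215
theorem D86721 : act 3 n40215 = n86721 := rfl
theorem F133006 : act 7 n86721 = n77265 := d8_2 (iv7 F61200) D86721 (iv3 D77265)
def n86722 : Q := act 5 n40215
theorem D86722 : act 5 n40215 = n86722 := rfl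
theorem F133007 : act 2 n86722 = n78543 := d2_1 D86722 (iv5 D78543) (iv2 F61199)
theorem F133008 : act 4 n86722 = n41290 := d9_1 D86722 F63609 (iv4 F33741) (iv5 D21468) F16930 D18988 D40214 D86720 F133005 F63610 F32125 (iv5 D19710) F14441 D18989 D40215
theorem F133009 : act 7 n86722 = n77266 := d13_2 (iv7 F61200) D86722 (iv5 D77266)
def n86723 : Q := act 6 n40215
theorem D86723 : act 6 n40215 = n86723 := rfl
theorem F133010 : act 2 n86723 = n78544 := d3_1 D86723 (iv6 D78544) (iv2 F61199)
theorem F133011 : act 4 n86723 = n40216 := d10_1 D86723 (iv6 D40216) D40215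
def n86724 : Q := act 1 n40216
theorem D86724 : act 1 n40216 = n86724 := rfl
theorem F133012 : act 1 n86724 = n78316 := d15_1 D86724 (iv7 F119527) (iv2 F61201)
theorem F133013 : act 7 n86724 = n78280 := d15_2 (iv0 F119072) D86724 F119475
theorem F133014 : act 5 n79863 = n86724 := d21_0 (iv1 D86724) F61202 (iv6 D35779) F28273 D17349 F28282 D18986 D40207 D86710 F132974
theorem F133015 : act 2 n86724 = n56270 := d2_1 F133014 F88998 (iv2 F122614)
theorem F133016 : act 3 n78463 = n86724 := d0_0 F133015 (iv3 D56270) F43826 D36458 F121495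
def n86725 : Q := act 6 n40217
theorem D86725 : act 6 n40217 = n86725 := rfl
theorem F133017 : act 3 n86725 = n54685 := d7_1 D86725 (iv6 D54685) (iv3 F61203)
theorem F133018 : act 4 n86725 = n70359 := d10_1 D86725 (iv6 D70359) (iv4 F61205)
def n86726 : Q := act 0 n40218
theorem D86726 : act 0 n40218 = n86726 := rfl
def n86727 : Q := act 1 n40218
theorem D86727 : act 1 n40218 = n86727 := rfl
def n86728 : Q := act 5 n40218
theorem D86728 : act 5 n40218 = n86728 := rfl
def n86729 : Q := act 7 n40218
theorem D86729 : act 7 n40218 = n86729 := rfl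
theorem F133019 : act 4 n86729 = n40221 := d11_1 D86729 (iv7 D40221) (iv4 F61206)
def n86734 : Q := act 6 n40219
theorem D86734 : act 6 n40219 = n86734 := rfl
def n86740 : Q := act 0 n40222
theorem D86740 : act 0 n40222 = n86740 := rfl
def n86741 : Q := act 1 n40222
theorem D86741 : act 1 n40222 = n86741 := rfl
def n86742 : Q := act 5 n40222
theorem D86742 : act 5 n40222 = n86742 := rfl
theorem F133022 : act 3 n86742 = n40228 := d6_1 D86742 (iv5 D40228) (iv3 F61207)
theorem F133023 : act 6 n86742 = n76528 := d12_2 D40222 D86742 (iv5 D76528) (iv6 D34958) (iv5 F30326)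
def n86743 : Q := act 7 n40222
theorem D86743 : act 7 n40222 = n86743 := rfl
theorem F133024 : act 3 n86743 = n40229 := d8_1 D86743 (iv7 D40229) (iv3 F61207)
def n86744 : Q := act 5 n40223
theorem D86744 : act 5 n40223 = n86744 := rfl
theorem F133025 : act 2 n86744 = n54683 := d2_1 D86744 (iv5 F110131) F110130
theorem F133026 : act 3 n86744 = n40224 := d6_1 D86744 (iv5 D40224) D40223
theorem F133027 : act 4 n86744 = n55405 := d9_1 D86744 (iv5 F94620) (iv4 F120313) (iv5 D79080) D79079 (iv5 F120307) F116509 (iv5 D71541) F87694 (iv5 F94617) (iv4 F120317) (iv5 D79084) D79083 F120315 F108251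
theorem F133028 : act 7 n86744 = n57104 := d13_2 F77330 D86744 F90155
theorem F133029 : act 0 n86744 = n71540 := d17_2 F61208 D86744 (iv5 F127143) (iv4 D80256) (iv5 F57433) (iv0 F42555) (iv5 F56154) (iv0 D35446) D35449
theorem F133030 : act 1 n86744 = n71539 := d15_1 (iv0 F133029) (iv7 F123337) (iv2 F127142)
def n86745 : Q := act 6 n40223
theorem D86745 : act 6 n40223 = n86745 := rfl
theorem F133031 : act 3 n86745 = n40225 := d7_1 D86745 (iv6 D40225) D40223
def n86746 : Q := act 6 n40224
theorem D86746 : act 6 n40224 = n86746 := rfl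
def n86747 : Q := act 0 n40225
theorem D86747 : act 0 n40225 = n86747 := rfl
def n86748 : Q := act 1 n40225
theorem D86748 : act 1 n40225 = n86748 := rfl
def n86749 : Q := act 5 n40225
theorem D86749 : act 5 n40225 = n86749 := rfl
def n86750 : Q := act 7 n40225
theorem D86750 : act 7 n40225 = n86750 := rfl
theorem F133033 : act 4 n86750 = n40229 := d11_1 D86750 (iv7 D40229) (iv4 F61210)
def n86755 : Q := act 6 n40226
theorem D86755 : act 6 n40226 = n86755 := rfl
def n86762 : Q := act 1 n40228
theorem D86762 : act 1 n40228 = n86762 := rfl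
def n86763 : Q := act 7 n40228
theorem D86763 : act 7 n40228 = n86763 := rfl
theorem F133036 : act 5 n86763 = n40229 := d13_1 D86763 (iv7 D40229) D40228
def n86764 : Q := act 4 n40230
theorem D86764 : act 4 n40230 = n86764 := rfl
theorem F133037 : act 2 n86764 = n40243 := d1_1 D86764 (iv4 D40243) (iv2 F61212)
theorem F133038 : act 6 n86764 = n76246 := d10_2 (iv6 F61213) D86764 (iv4 D76246)
def n86766 : Q := act 1 n40231
theorem D86766 : act 1 n40231 = n86766 := rfl
theorem F133040 : act 1 n86766 = n40236 := d15_1 D86766 (iv7 D40236) D40231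
def n86767 : Q := act 3 n40231
theorem D86767 : act 3 n40231 = n86767 := rfl
theorem F133041 : act 7 n86767 = n40237 := d8_2 F61214 D86767 (iv3 D40237)
def n86768 : Q := act 4 n40231
theorem D86768 : act 4 n40231 = n86768 := rfl
theorem F133042 : act 2 n86768 = n40233 := d1_1 D86768 (iv4 D40233) D40231
theorem F133043 : act 7 n86768 = n40238 := d11_2 F61214 D86768 (iv4 D40238)
def n86769 : Q := act 5 n40231
theorem D86769 : act 5 n40231 = n86769 := rfl
theorem F133044 : act 2 n86769 = n40234 := d2_1 D86769 (iv5 D40234) D40231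
theorem F133045 : act 7 n86769 = n40239 := d13_2 F61214 D86769 (iv5 D40239)
def n86770 : Q := act 6 n40231
theorem D86770 : act 6 n40231 = n86770 := rfl
theorem F133046 : act 2 n86770 = n40235 := d3_1 D86770 (iv6 D40235) D40231
def n86771 : Q := act 0 n40232
theorem D86771 : act 0 n40232 = n86771 := rfl
def n86772 : Q := act 2 n40232
theorem D86772 : act 2 n40232 = n86772 := rfl
def n86773 : Q := act 5 n40232
theorem D86773 : act 5 n40232 = n86773 := rfl
theorem F133047 : act 3 n86773 = n40234 := d6_1 D86773 (iv5 D40234) D40232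
def n86774 : Q := act 6 n40232
theorem D86774 : act 6 n40232 = n86774 := rfl
theorem F133048 : act 3 n86774 = n40235 := d7_1 D86774 (iv6 D40235) D40232
def n86775 : Q := act 7 n40232
theorem D86775 : act 7 n40232 = n86775 := rfl
theorem F133049 : act 3 n86775 = n40236 := d8_1 D86775 (iv7 D40236) D40232
def n86776 : Q := act 1 n40233
theorem D86776 : act 1 n40233 = n86776 := rfl
theorem F133050 : act 1 n86776 = n40238 := d15_1 D86776 (iv7 F133043) F133042
def n86777 : Q := act 3 n40233
theorem D86777 : act 3 n40233 = n86777 := rfl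
def n86778 : Q := act 5 n40233
theorem D86778 : act 5 n40233 = n86778 := rfl
def n86779 : Q := act 6 n40233
theorem D86779 : act 6 n40233 = n86779 := rfl
theorem F133051 : act 4 n86779 = n40235 := d10_1 D86779 (iv6 D40235) D40233
def n86780 : Q := act 7 n40233
theorem D86780 : act 7 n40233 = n86780 := rfl
theorem F133052 : act 2 n86780 = n40238 := d4_1 D86780 (iv7 F133043) F133042
theorem F133053 : act 4 n86780 = n40236 := d11_1 D86780 (iv7 D40236) D40233
theorem F133054 : act 1 n40238 = n85360 := d15_0 (iv0 F130633) D86780 F133052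
theorem F133055 : act 0 n40237 = n85924 := d20_10 (iv4 F131864) (iv1 F92289) (iv4 D39398) (iv3 F44875) (iv1 F44879) D39435 D85360 (iv1 F133054) (iv4 D40238) D40237
theorem E14340 : n85360 = n85051 := ((c20_1 D85051 (iv1 F133054) (iv4 D40238) D40237 F133055 F131823 (iv4 D85077) (iv1 D39342) (iv4 D18655) D18654 D39334)).symm
theorem F133056 : act 0 n85051 = n40238 := (sb E14340 (iv1 F133054))
theorem F133057 : act 1 n85051 = n40233 := (sb E14340 (iv0 F130633))
theorem E14341 : n39435 = n39334 := ((((iv4 D85051)).symm.trans (sb E14340 (iv4 D85360)))).symm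
theorem E14345 : n85050 = n18690 := ((D85050).symm.trans (sb E14341 (iv3 D39435)))
theorem E14346 : n85361 = n85052 := (((D85052).symm.trans (sb E14341 D85361))).symm
theorem E14347 : n85362 = n85053 := (((D85053).symm.trans (sb E14341 D85362))).symm
theorem E14348 : n85331 = n85054 := (((D85054).symm.trans (sb E14341 (iv7 F130614)))).symm
theorem F133058 : act 3 n18690 = n39334 := (sb E14345 (iv3 D85050))
theorem F133059 : act 3 n85052 = n39437 := (sb E14346 F130634)
theorem F133060 : act 3 n85053 = n39438 := (sb E14347 F130635)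
theorem F133061 : act 3 n85054 = n39429 := (sb E14348 (iv3 D85331))
theorem F133062 : act 1 n40237 = n58532 := d15_1 (iv0 F133055) F131856 D85924
theorem E14349 : n85337 = n58353 := (c0_4 F133061 (iv2 D39429) D39430 D85337 F92574 (iv2 F130411))
theorem F133063 : act 2 n58353 = n39430 := (sb E14349 (iv2 D85337))
theorem E14350 : n85845 = n58504 := ((c1_3 (iv4 F92573) F133063 F92432 (iv2 D85845))).symm
theorem F133065 : act 7 n58504 = n39711 := (sb E14350 (iv7 F131709))
theorem E14351 : n85340 = n58354 := ((c15_2 (iv0 D58353) D58354 (iv7 D85340) (iv2 F133063))).symm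
theorem F133066 : act 3 n58354 = n39434 := (sb E14351 F130622)
theorem F133067 : act 7 n58354 = n39430 := (sb E14351 (iv7 D85340))
theorem E14352 : n58385 = n58354 := (c11_4 F133067 F92432 F133065 (iv4 F92227))
theorem E14353 : n39434 = n27791 := ((F133066).symm.trans (sb E14352 (iv3 D58385)))
theorem F133068 : act 4 n58354 = n39711 := (sb E14352 F92227)
theorem E14354 : n85330 = n18691 := ((((iv1 F44874)).symm.trans (sb E14353 (iv1 F130613)))).symm
theorem E14356 : n58384 = n18690 := ((D58384).symm.trans (sb E14353 F60365))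
theorem F133069 : act 3 n27791 = n58354 := (sb E14353 (iv3 F133066))
theorem E14357 : n85346 = n58386 := (((D58386).symm.trans (sb E14353 (iv4 F130626)))).symm
theorem E14358 : n85351 = n58387 := (((D58387).symm.trans (sb E14353 (iv5 F130630)))).symm
theorem E14359 : n85356 = n58388 := (((D58388).symm.trans (sb E14353 D85356))).symm
theorem E14360 : n58389 = n18689 := ((D58389).symm.trans (sb E14353 (iv7 D39434)))
theorem E14361 : n39429 = n27792 := ((((iv1 F44878)).symm.trans (sb E14354 (iv1 D85330)))).symm
theorem F133070 : act 2 n18690 = n27791 := (sb E14356 (iv2 D58384))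
theorem F133071 : act 2 n58386 = n39436 := (sb E14357 F130625)
theorem F133072 : act 7 n58386 = n39431 := (sb E14357 (iv7 D85346))
theorem F133073 : act 2 n58387 = n39437 := (sb E14358 F130629)
theorem F133074 : act 7 n58387 = n39432 := (sb E14358 (iv7 D85351))
theorem F133075 : act 2 n58388 = n39438 := (sb E14359 F130632)
theorem F133076 : act 7 n18689 = n27791 := (sb E14360 (iv7 D58389))
theorem E14362 : n85054 = n58390 := (((D58390).symm.trans (sb E14361 (iv3 F133061)))).symm
theorem E14363 : n85332 = n58391 := (((D58391).symm.trans (sb E14361 D85332))).symm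
theorem E14364 : n85333 = n58392 := (((D58392).symm.trans (sb E14361 D85333))).symm
theorem F133078 : act 7 n27792 = n18690 := (sb E14361 (iv7 F60364))
theorem F133079 : act 2 n58390 = n39335 := (sb E14362 F130411)
theorem F133080 : act 7 n58390 = n39334 := (sb E14362 (iv7 D85054))
theorem F133082 : act 7 n58391 = n39436 := (sb E14363 F130616)
theorem F133084 : act 7 n58392 = n39437 := (sb E14364 F130618)
theorem E14366 : n85849 = n58503 := (c15_4 (iv0 D58503) D58504 F133065 (iv2 F131710))
theorem F133086 : act 2 n58503 = n39711 := (sb E14366 F131710)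
theorem F133087 : act 7 n58503 = n39710 := (sb E14366 (iv7 D85849))
def n86781 : Q := act 0 n40234
theorem D86781 : act 0 n40234 = n86781 := rfl
def n86782 : Q := act 1 n40234
theorem D86782 : act 1 n40234 = n86782 := rfl
theorem F133088 : act 1 n86782 = n40239 := d15_1 D86782 (iv7 F133045) F133044
def n86783 : Q := act 4 n40234
theorem D86783 : act 4 n40234 = n86783 := rfl
def n86784 : Q := act 6 n40234
theorem D86784 : act 6 n40234 = n86784 := rfl
def n86785 : Q := act 7 n40234
theorem D86785 : act 7 n40234 = n86785 := rfl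
theorem F133089 : act 2 n86785 = n40239 := d4_1 D86785 (iv7 F133045) F133044
theorem F133090 : act 5 n86785 = n40236 := d13_1 D86785 (iv7 D40236) D40234
theorem F133091 : act 1 n40239 = n86781 := d15_0 (iv0 D86781) D86785 F133089
def n86786 : Q := act 0 n40235
theorem D86786 : act 0 n40235 = n86786 := rfl
def n86787 : Q := act 1 n40235
theorem D86787 : act 1 n40235 = n86787 := rfl
def n86788 : Q := act 5 n40235
theorem D86788 : act 5 n40235 = n86788 := rfl
theorem F133092 : act 0 n86788 = n70758 := d21_7 F43051 (iv1 D7866) (iv5 F5922) D8900 D18998 D40235 D86788 (iv5 D70758) (iv6 D32799) (iv1 F25196)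
theorem F133093 : act 1 n86788 = n70781 := d15_1 (iv0 F133092) (iv7 D70781) (iv2 F107229)
def n86789 : Q := act 7 n40235
theorem D86789 : act 7 n40235 = n86789 := rfl
def n86790 : Q := act 6 n40236
theorem D86790 : act 6 n40236 = n86790 := rfl
theorem F133094 : act 2 n86790 = n40240 := d3_1 D86790 (iv6 D40240) (iv2 F61215)
def n86791 : Q := act 2 n40237
theorem D86791 : act 2 n40237 = n86791 := rfl
def n86792 : Q := act 5 n40237
theorem D86792 : act 5 n40237 = n86792 := rfl
theorem F133095 : act 3 n86792 = n40239 := d6_1 D86792 (iv5 D40239) D40237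
def n86793 : Q := act 6 n40237
theorem D86793 : act 6 n40237 = n86793 := rfl
theorem F133096 : act 3 n86793 = n40240 := d7_1 D86793 (iv6 D40240) D40237
def n86794 : Q := act 3 n40238
theorem D86794 : act 3 n40238 = n86794 := rfl
def n86795 : Q := act 5 n40238
theorem D86795 : act 5 n40238 = n86795 := rfl
def n86796 : Q := act 6 n40238
theorem D86796 : act 6 n40238 = n86796 := rfl
theorem F133097 : act 4 n86796 = n40240 := d10_1 D86796 (iv6 D40240) D40238
def n86797 : Q := act 4 n40239
theorem D86797 : act 4 n40239 = n86797 := rfl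
def n86798 : Q := act 6 n40239
theorem D86798 : act 6 n40239 = n86798 := rfl
def n86799 : Q := act 0 n40240
theorem D86799 : act 0 n40240 = n86799 := rfl
def n86800 : Q := act 1 n40240
theorem D86800 : act 1 n40240 = n86800 := rfl
def n86801 : Q := act 5 n40240
theorem D86801 : act 5 n40240 = n86801 := rfl
def n86802 : Q := act 7 n40240
theorem D86802 : act 7 n40240 = n86802 := rfl
def n86803 : Q := act 2 n40241
theorem D86803 : act 2 n40241 = n86803 := rfl
theorem F133098 : act 7 n40242 = n86803 := d15_2 (iv0 D40241) D40242 (iv2 D86803)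
def n86804 : Q := act 3 n40241
theorem D86804 : act 3 n40241 = n86804 := rfl
def n86805 : Q := act 4 n40241
theorem D86805 : act 4 n40241 = n86805 := rfl
def n86806 : Q := act 5 n40241
theorem D86806 : act 5 n40241 = n86806 := rfl
def n86807 : Q := act 6 n40241
theorem D86807 : act 6 n40241 = n86807 := rfl
def n86808 : Q := act 7 n40241
theorem D86808 : act 7 n40241 = n86808 := rfl
theorem F133099 : act 2 n86808 = n40242 := d4_1 D86808 F133098 (iv2 D86803)
def n86809 : Q := act 3 n40242
theorem D86809 : act 3 n40242 = n86809 := rfl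
def n86810 : Q := act 4 n40242
theorem D86810 : act 4 n40242 = n86810 := rfl
def n86811 : Q := act 5 n40242
theorem D86811 : act 5 n40242 = n86811 := rfl
theorem F133100 : act 6 n86811 = n69795 := d21_3 D85669 (iv1 F131389) D86811 (iv1 F106210) (iv6 F51947) (iv5 F107258) (iv1 F133093) (iv5 D86788) (iv6 D40235) (iv1 F60453)
def n86812 : Q := act 6 n40242
theorem D86812 : act 6 n40242 = n86812 := rfl
def n86813 : Q := act 0 n40243
theorem D86813 : act 0 n40243 = n86813 := rfl
def n86814 : Q := act 1 n40243
theorem D86814 : act 1 n40243 = n86814 := rfl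
theorem F133101 : act 4 n85041 = n86814 := d20_6 (iv4 F44926) (iv1 F44927) F29967 (iv3 F29926) (iv1 F60291) D85041 (iv1 D86814) (iv4 D40243) F30328 D19011
def n86815 : Q := act 3 n40243
theorem D86815 : act 3 n40243 = n86815 := rfl
theorem F133102 : act 4 n86815 = n40248 := d5_2 D40243 D86815 (iv3 D40248) (iv4 D19013) (iv3 F30328)
theorem F133103 : act 6 n86815 = n76261 := d7_2 (iv6 F61216) D86815 (iv3 D76261)
def n86816 : Q := act 5 n40243
theorem D86816 : act 5 n40243 = n86816 := rfl
def n86817 : Q := act 0 n40244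
theorem D86817 : act 0 n40244 = n86817 := rfl
def n86818 : Q := act 1 n40244
theorem D86818 : act 1 n40244 = n86818 := rfl
def n86819 : Q := act 4 n40244
theorem D86819 : act 4 n40244 = n86819 := rfl
def n86820 : Q := act 6 n40244
theorem D86820 : act 6 n40244 = n86820 := rfl
theorem F133105 : act 5 n86820 = n76796 := d12_1 D86820 F115275 (iv5 F123832) F123833 F87908
def n86821 : Q := act 0 n40245
theorem D86821 : act 0 n40245 = n86821 := rfl
theorem F133106 : act 6 n86821 = n74170 := d21_5 F30060 (iv1 F43134) F43133 D40245 D86821 F131553 (iv1 D85783) (iv5 D39619) (iv6 D18758) D18755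
theorem F133107 : act 1 n76794 = n86821 := d15_0 (iv0 D86821) (iv7 F106674) (iv2 F115266)
def n86822 : Q := act 7 n40247
theorem D86822 : act 7 n40247 = n86822 := rfl
theorem F133108 : act 6 n86822 = n76794 := d14_1 D86822 F115268 (iv6 D60426) (iv7 F46254) D40247
def n86823 : Q := act 0 n40248
theorem D86823 : act 0 n40248 = n86823 := rfl
def n86824 : Q := act 1 n40248
theorem D86824 : act 1 n40248 = n86824 := rfl
def n86825 : Q := act 2 n40248
theorem D86825 : act 2 n40248 = n86825 := rfl
theorem F133109 : act 6 n86825 = n76267 := d3_2 (iv6 F61218) D86825 (iv2 D76267)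
def n86826 : Q := act 5 n40248
theorem D86826 : act 5 n40248 = n86826 := rfl
theorem F133110 : act 3 n86826 = n40249 := d6_1 D86826 (iv5 D40249) D40248
theorem F133111 : act 7 n86826 = n69784 := d13_2 F131408 D86826 (iv5 F131407)
def n86827 : Q := act 6 n40249
theorem D86827 : act 6 n40249 = n86827 := rfl
theorem F133112 : act 4 n86827 = n68332 := d10_1 D86827 F104511 (iv4 F61219)
theorem F133113 : act 5 n86827 = n59997 := d12_1 D86827 F94467 F46009 (iv6 F30332) D40249
theorem F133114 : act 7 n86827 = n68329 := d14_2 (iv7 F61220) D86827 (iv6 D68329) F50095 (iv6 F51452)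
def n86828 : Q := act 3 n40258
theorem D86828 : act 3 n40258 = n86828 := rfl
theorem F133115 : act 2 n86828 = n85244 := d0_1 D86828 (iv3 D85244) F60331 (iv3 F30365) (iv2 F61225)
theorem F133117 : act 7 n86828 = n77625 := d8_2 F91579 D86828 (iv3 D77625)
def n86829 : Q := act 5 n40258
theorem D86829 : act 5 n40258 = n86829 := rfl
theorem F133118 : act 2 n86829 = n40263 := d2_1 D86829 (iv5 D40263) (iv2 F61225)
def n86830 : Q := act 4 n40259
theorem D86830 : act 4 n40259 = n86830 := rfl
theorem F133120 : act 2 n86830 = n40267 := d1_1 D86830 (iv4 D40267) (iv2 F61232)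
theorem F133121 : act 6 n86830 = n80374 := d10_2 (iv6 F91195) D86830 (iv4 D80374)
theorem F133123 : act 5 n86830 = n80270 := d17_5 (iv1 D17628) (iv5 F21541) F91193 D40259 D86830 (iv0 D80270) (iv5 D36571) (iv0 F116615) (iv4 D36529)
theorem F133124 : act 0 n86830 = n84135 := d18_2 (iv1 F61250) D86830 (iv4 D84135) F123058 (iv4 F118500) F123164 F116186 F116136 F116133
def n86831 : Q := act 3 n40261
theorem D86831 : act 3 n40261 = n86831 := rfl
theorem F133126 : act 6 n86831 = n77643 := d7_2 (iv6 F116670) D86831 F116549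
theorem F133127 : act 7 n86831 = n56064 := d8_2 (iv7 F116671) D86831 F88733
def n86832 : Q := act 5 n40261
theorem D86832 : act 5 n40261 = n86832 := rfl
theorem F133129 : act 7 n86832 = n56068 := d13_2 (iv7 F116671) D86832 (iv5 D56068)
theorem F133131 : act 1 n86832 = n77683 := d17_6 (iv1 F120392) (iv5 D75351) (iv1 F116622) (iv5 F57705) (iv4 F116669) D86832 F117112 (iv0 F118501) F118500
def n86833 : Q := act 0 n40263
theorem D86833 : act 0 n40263 = n86833 := rfl
theorem F133132 : act 1 n77626 = n86833 := d15_0 (iv0 D86833) (iv7 F132331) F132329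
def n86834 : Q := act 1 n40263
theorem D86834 : act 1 n40263 = n86834 := rfl
def n86837 : Q := act 0 n40267
theorem D86837 : act 0 n40267 = n86837 := rfl
theorem F133135 : act 4 n86837 = n83063 := d20_2 D40267 D86837 (iv3 F128018) (iv1 D57804) F44492 (iv4 F44496) (iv1 F121011) F121009 F88785 F91184
theorem F133137 : act 1 n77628 = n86837 := d15_0 (iv0 D86837) F61249 (iv2 F116525)
theorem F133138 : act 7 n86837 = n84133 := d15_2 (iv0 F131273) F133137 F129162
def n86838 : Q := act 5 n40267
theorem D86838 : act 5 n40267 = n86838 := rfl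
theorem F133139 : act 2 n86838 = n80270 := d2_1 D86838 (iv5 F133123) F133120
theorem F133142 : act 1 n86838 = n56437 := d17_6 (iv1 D17160) (iv5 F17008) F91174 D19023 D40267 D86838 (iv5 D56437) (iv0 F116610) (iv4 D35368)
def n86839 : Q := act 3 n40269
theorem D86839 : act 3 n40269 = n86839 := rfl
theorem F133143 : act 5 n86839 = n56488 := d6_2 (iv5 F91199) D86839 F89349
theorem F133144 : act 7 n86839 = n56125 := d8_2 (iv7 F91555) D86839 F88785
theorem F133145 : act 4 n86839 = n57834 := d20_6 (iv4 F122034) (iv1 F122033) (iv4 D79310) (iv3 F61233) (iv1 F61251) D86839 (iv1 F91122) (iv4 D27620) (iv3 F44514) D57847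
theorem F133146 : act 7 n57834 = n57499 := d11_2 (iv7 F133144) F133145 F121009
theorem F133147 : act 0 n79828 = n86839 := d18_0 F133145 (iv1 F91122) (iv4 D27620) (iv5 D13190) D13189 F44499 (iv4 F91198) F91415 (iv5 F122557)
theorem F133148 : act 1 n57739 = n86839 := d15_0 (iv0 F133147) F122558 F90934
theorem F133149 : act 1 n56488 = n77143 := d17_8 F120887 D82284 (iv1 F126762) (iv5 D57303) (iv4 F70115) F90916 F133148 F133143 F115855
theorem F133150 : act 1 n77418 = n56488 := d15_0 F133149 (iv7 F123635) F123633
theorem F133151 : act 0 n85793 = n55462 := d17_2 (iv1 D85791) D85793 (iv5 D55462) (iv4 F91405) D77418 F133150 (iv5 F133143) (iv0 F133147) F131576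
theorem F133152 : act 0 n77419 = n80383 := d21_4 F133143 (iv1 F133150) (iv5 D77418) D77419 (iv6 D80383) D80382 F123518 (iv5 F123536) (iv6 F123534) F133147
theorem F133153 : act 1 n77419 = n80392 := d15_1 (iv0 F133152) (iv7 D80392) (iv2 F123521)
theorem F133154 : act 2 n57499 = n57835 := d15_3 F91123 F91122 F133146
theorem F133155 : act 2 n57834 = n57825 := d15_3 F90981 (iv0 F121010) (iv7 F133146)
theorem F133156 : act 7 n57825 = n57835 := d4_2 (iv7 F133146) F133155 (iv2 F133154)
theorem F133157 : act 6 n57835 = n57240 := d3_2 D57499 F133154 F120848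
def n86840 : Q := act 4 n40269
theorem D86840 : act 4 n40269 = n86840 := rfl
theorem F133161 : act 0 n83064 = n86840 := d20_1 D83064 (iv4 D86840) D86839 (iv1 F133148) F90914 (iv4 F125410) (iv1 F125412) (iv4 D39576) (iv3 F118403) (iv1 F123956)
theorem F133162 : act 1 n56491 = n75748 := d18_6 (iv1 F123956) D83064 F133161 (iv4 D86840) F91199 (iv4 F89350) (iv4 D75748) D75747 F120388
def n86841 : Q := act 6 n40269
theorem D86841 : act 6 n40269 = n86841 := rfl
theorem F133164 : act 5 n86841 = n56425 := d12_1 D86841 F89286 (iv5 D27180) D27181 (iv5 F91199)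
theorem F133166 : act 0 n86841 = n56116 := d21_4 (iv5 F56046) F91383 (iv5 F91199) D86841 (iv6 F88780) (iv5 F125991) (iv1 F126023) F56049 (iv6 F28680) (iv1 F28682)
def n86842 : Q := act 5 n40271
theorem D86842 : act 5 n40271 = n86842 := rfl
theorem F133168 : act 2 n86842 = n79306 := d2_1 D86842 F121702 (iv2 F61255)
theorem F133169 : act 7 n86842 = n55689 := d13_2 (iv7 F61257) D86842 (iv5 D55689)
def n86843 : Q := act 3 n40272
theorem D86843 : act 3 n40272 = n86843 := rfl
theorem F133172 : act 2 n86843 = n85372 := d0_1 D86843 (iv3 D85372) F60366 (iv3 F30539) (iv2 F61263)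
theorem F133173 : act 4 n86843 = n77625 := d5_2 D40272 D86843 (iv3 D77625) (iv4 D35443) (iv3 F91176)
def n86845 : Q := act 6 n40272
theorem D86845 : act 6 n40272 = n86845 := rfl
theorem F133178 : act 4 n86845 = n40273 := d10_1 D86845 (iv6 D40273) D40272
theorem F133180 : act 0 n55713 = n86845 := d20_7 D80153 (iv1 F123044) (iv4 F129147) F129144 (iv1 F127045) (iv3 F127057) F127062 F133178 (iv3 F91207) F89352
def n86846 : Q := act 3 n40275
theorem D86846 : act 3 n40275 = n86846 := rfl
theorem F133181 : act 4 n86846 = n45808 := d5_2 F90404 D86846 F117215 (iv4 D27829) (iv3 F90403)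
theorem F133183 : act 7 n86846 = n45804 := d8_2 F117248 D86846 F72307
theorem F133184 : act 2 n86408 = n86846 := d4_3 F133183 F72306 D86408
theorem F133185 : act 1 n86406 = n86846 := d15_1 D86406 F133183 F72306
theorem F133186 : act 1 n86846 = n86405 := d15_0 (iv0 D86405) D86408 F133184
def n86847 : Q := act 5 n40275
theorem D86847 : act 5 n40275 = n86847 := rfl
theorem F133187 : act 2 n86847 = n79385 := d2_1 D86847 F121977 (iv2 F117210)
theorem F133188 : act 7 n86847 = n55701 := d13_2 F117248 D86847 (iv5 D55701)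
theorem F133190 : act 1 n86847 = n79382 := d15_0 (iv0 D79382) D79385 (iv2 F133187)
def n86849 : Q := act 4 n40276
theorem D86849 : act 4 n40276 = n86849 := rfl
def n86855 : Q := act 5 n40284
theorem D86855 : act 5 n40284 = n86855 := rfl
theorem F133207 : act 2 n86855 = n77576 := d2_1 D86855 (iv5 D77576) (iv2 F125929)
theorem F133208 : act 3 n86855 = n55160 := d6_1 D86855 (iv5 D55160) (iv3 F61303)
theorem F133209 : act 7 n86855 = n73940 := d13_2 (iv7 F61304) D86855 (iv5 D73940)
def n86856 : Q := act 6 n40284
theorem D86856 : act 6 n40284 = n86856 := rfl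
theorem F133210 : act 2 n86856 = n77577 := d3_1 D86856 (iv6 D77577) (iv2 F125929)
theorem F133211 : act 3 n86856 = n55161 := d7_1 D86856 (iv6 D55161) (iv3 F61303)
theorem F133212 : act 4 n86856 = n40286 := d10_1 D86856 (iv6 D40286) D40284
theorem F133213 : act 7 n77754 = n86856 := d11_0 F133212 (iv7 F125968) (iv4 F126166)
theorem F133214 : act 0 n77757 = n86856 := d20_7 (iv4 F41951) F46235 F46233 (iv3 F126077) F116935 (iv3 F125668) F125669 F133212 F61307 (iv1 F30547)
def n86857 : Q := act 4 n40285
theorem D86857 : act 4 n40285 = n86857 := rfl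
theorem F133217 : act 7 n86857 = n73996 := d11_2 (iv7 F61306) D86857 (iv4 D73996)
def n86858 : Q := act 6 n40285
theorem D86858 : act 6 n40285 = n86858 := rfl
theorem F133218 : act 2 n86858 = n77580 := d3_1 D86858 (iv6 D77580) (iv2 F125932)
theorem F133219 : act 3 n86858 = n40288 := d7_1 D86858 (iv6 D40288) (iv3 F61305)
theorem F133220 : act 5 n86858 = n77240 := d12_1 D86858 (iv6 D77240) F61308 (iv6 D40286) D40285
theorem F133221 : act 7 n86858 = n77938 := d14_2 (iv7 F61306) D86858 (iv6 D77938) F125971 F88417
theorem F133222 : act 0 n86858 = n56137 := d21_4 F28193 F125926 D40285 D86858 (iv6 D56137) (iv5 F91374) (iv1 F123063) (iv5 F123065) F119088 (iv1 D35577)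
theorem F133224 : act 0 n77856 = n86858 := d21_4 (iv5 F57419) F91356 D35529 (iv6 F118748) (iv6 D86858) (iv5 D40285) (iv1 F125925) (iv5 F56127) F56128 (iv1 F57418)
def n86859 : Q := act 3 n40287
theorem D86859 : act 3 n40287 = n86859 := rfl
theorem F133226 : act 5 n86859 = n86120 := d6_2 (iv5 F61312) D86859 (iv3 D86120)
theorem F133227 : act 7 n86859 = n73999 := d8_2 (iv7 F61311) D86859 (iv3 D73999)
def n86860 : Q := act 6 n40287
theorem D86860 : act 6 n40287 = n86860 := rfl
theorem F133228 : act 2 n86860 = n73842 := d3_1 D86860 (iv6 D73842) (iv2 F61310)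
theorem F133229 : act 4 n86860 = n40288 := d10_1 D86860 (iv6 D40288) D40287
theorem F133230 : act 7 n86860 = n78531 := d14_2 (iv7 F61311) D86860 (iv6 D78531) (iv7 F92756) F92755
theorem F133231 : act 0 n86860 = n56247 := d21_4 D18862 D39862 (iv5 F61312) D86860 (iv6 D56247) D56246 (iv1 F122482) (iv5 D79780) F57073 (iv1 D18860)
theorem F133232 : act 0 n79903 = n86860 := d21_4 D76199 (iv1 F129734) (iv5 D84574) (iv6 F122652) (iv6 D86860) F61312 (iv1 F85631) F85629 (iv6 F55907) (iv1 F55908)
theorem F133233 : act 1 n76971 = n86239 := d18_6 F67526 (iv4 F122651) F133232 F133229 F61316 (iv4 F115697) F132196 F114159 F114157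
def n86861 : Q := act 5 n40292
theorem D86861 : act 5 n40292 = n86861 := rfl
def n86862 : Q := act 6 n40292
theorem D86862 : act 6 n40292 = n86862 := rfl
theorem F133237 : act 2 n86862 = n79355 := d3_1 D86862 (iv6 D79355) (iv2 F121797)
theorem F133238 : act 3 n86862 = n55199 := d7_1 D86862 (iv6 D55199) (iv3 F61328)
theorem F133239 : act 4 n86862 = n40294 := d10_1 D86862 (iv6 D40294) D40292
theorem F133240 : act 7 n79446 = n86862 := d11_0 F133239 (iv7 F121755) (iv4 F122016)
theorem F133241 : act 1 n79448 = n86862 := d17_8 F121734 F118158 F57729 F57725 (iv4 F57711) (iv5 F124003) F124010 (iv5 F124009) F133239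
theorem E14367 : n79445 = n79355 := ((c15_4 (iv0 D79445) D79446 F133240 F133237)).symm
theorem F133243 : act 1 n79355 = n36169 := (sb E14367 (iv0 D79445))
def n86863 : Q := act 0 n40293
theorem D86863 : act 0 n40293 = n86863 := rfl
theorem F133246 : act 1 n55673 = n86863 := d15_0 (iv0 D86863) F61331 (iv2 F121730)
theorem F133247 : act 7 n86863 = n55744 := d15_2 (iv0 F89195) F133246 (iv2 F89192)
def n86865 : Q := act 3 n40295
theorem D86865 : act 3 n40295 = n86865 := rfl
theorem F133253 : act 6 n86865 = n78520 := d7_2 (iv6 F61336) D86865 (iv3 D78520)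
theorem F133254 : act 7 n86865 = n73841 := d8_2 (iv7 F61337) D86865 (iv3 D73841)
def n86867 : Q := act 5 n40297
theorem D86867 : act 5 n40297 = n86867 := rfl
theorem F133260 : act 2 n86867 = n57333 := d2_1 D86867 (iv5 D57333) (iv2 F121171)
theorem F133262 : act 7 n86867 = n57337 := d13_2 (iv7 F121172) D86867 (iv5 D57337)
theorem F133263 : act 0 n86867 = n84491 := d18_0 F129618 (iv1 D78312) (iv4 D35697) (iv5 D17300) D17299 D35691 (iv4 F121053) F61349 D86867
theorem F133264 : act 1 n86867 = n84490 := d15_0 (iv0 D84490) (iv7 F121531) (iv2 F133260)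
def n86868 : Q := act 0 n40299
theorem D86868 : act 0 n40299 = n86868 := rfl
theorem F133265 : act 3 n86868 = n77888 := d20_5 D55769 F122929 (iv4 F122926) F122925 D86868 (iv4 D77888) (iv1 F116392) F116388 (iv3 F88055) (iv1 F88058)
def n86869 : Q := act 7 n40299
theorem D86869 : act 7 n40299 = n86869 := rfl
theorem F133270 : act 5 n86869 = n40300 := d13_1 D86869 (iv7 D40300) D40299
theorem F133271 : act 1 n57340 = n86869 := d15_1 D57340 (iv7 D86869) F61345
theorem F133272 : act 1 n86869 = n57339 := d15_1 F133271 F121015 (iv2 F127339)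
def n86870 : Q := act 6 n40301
theorem D86870 : act 6 n40301 = n86870 := rfl
theorem F133274 : act 3 n86870 = n55778 := d7_1 D86870 (iv6 D55778) (iv3 F61353)
theorem F133275 : act 5 n86870 = n40741 := d12_1 D86870 (iv6 D40741) (iv5 D19222) F30577 D40301
def n86871 : Q := act 3 n40302
theorem D86871 : act 3 n40302 = n86871 := rfl
theorem F133276 : act 4 n86871 = n40497 := d5_2 (iv4 F61356) D86871 (iv3 D40497) (iv4 D19137) (iv3 F30749)
theorem F133277 : act 7 n86871 = n44958 := d8_2 F61358 D86871 (iv3 D44958)
def n86872 : Q := act 5 n40302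
theorem D86872 : act 5 n40302 = n86872 := rfl
theorem F133278 : act 7 n86872 = n44959 := d13_2 F61358 D86872 (iv5 D44959)
theorem F133279 : act 0 n86872 = n41270 := d17_2 D40302 D86872 (iv5 D41270) (iv4 D19413) (iv5 D9108) F6122 D9333 (iv0 F14530) D19052
theorem F133280 : act 1 n86872 = n41265 := d17_6 F31921 (iv5 D10831) F15465 D19136 (iv4 F61356) D86872 (iv5 D41265) D41263 F63583
def n86873 : Q := act 3 n40303
theorem D86873 : act 3 n40303 = n86873 := rfl
theorem F133281 : act 4 n86873 = n42252 := d5_2 F61360 D86873 (iv3 D42252) F31782 F31174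
theorem F133282 : act 7 n86873 = n42664 := d8_2 F64938 D86873 F66888
def n86874 : Q := act 5 n40303
theorem D86874 : act 5 n40303 = n86874 := rfl
theorem F133283 : act 2 n86874 = n44959 := d2_1 D86874 (iv5 D44959) (iv2 F61361)
theorem F133284 : act 0 n86874 = n41265 := d17_2 (iv1 F61359) D86874 (iv5 D41265) (iv4 D19410) (iv5 D9105) (iv0 D4090) D4092 D9110 D19416
theorem F133285 : act 1 n86874 = n41270 := d17_6 (iv1 F57157) (iv5 D36411) F28563 (iv5 F31172) F61360 D86874 (iv5 D41270) (iv0 F61563) (iv4 D40461)
def n86875 : Q := act 0 n40304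
theorem D86875 : act 0 n40304 = n86875 := rfl
def n86876 : Q := act 1 n40304
theorem D86876 : act 1 n40304 = n86876 := rfl
def n86877 : Q := act 2 n40304
theorem D86877 : act 2 n40304 = n86877 := rfl
def n86878 : Q := act 5 n40304
theorem D86878 : act 5 n40304 = n86878 := rfl
theorem F133286 : act 3 n86878 = n40305 := d6_1 D86878 (iv5 D40305) D40304
def n86879 : Q := act 0 n40305
theorem D86879 : act 0 n40305 = n86879 := rfl
theorem F133288 : act 1 n41275 = n86879 := d15_0 (iv0 D86879) (iv7 F64975) F64974
def n86880 : Q := act 1 n40305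
theorem D86880 : act 1 n40305 = n86880 := rfl
theorem F133289 : act 1 n86880 = n41275 := d15_1 D86880 (iv7 F64941) F64940
theorem F133290 : act 5 n86880 = n40311 := d17_7 F17548 (iv5 D4325) F17521 D8925 D19052 D40305 D86880 (iv0 D40311) (iv4 D19056)
def n86881 : Q := act 6 n40305
theorem D86881 : act 6 n40305 = n86881 := rfl
def n86882 : Q := act 3 n40306
theorem D86882 : act 3 n40306 = n86882 := rfl
theorem F133291 : act 4 n86882 = n40313 := d5_2 D40306 D86882 (iv3 D40313) (iv4 D19056) (iv3 F30578)
def n86883 : Q := act 5 n40307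
theorem D86883 : act 5 n40307 = n86883 := rfl
theorem F133292 : act 2 n86883 = n83332 := d2_1 D86883 (iv5 D83332) (iv2 F120669)
theorem F133294 : act 7 n86883 = n58168 := d13_2 (iv7 F120671) D86883 (iv5 D58168)
def n86884 : Q := act 6 n40307
theorem D86884 : act 6 n40307 = n86884 := rfl
theorem F133298 : act 5 n86884 = n45290 := d21_6 F21823 (iv1 F13887) D8928 D19054 D40307 D86884 (iv1 F127353) (iv5 D40589) (iv6 D19168) (iv1 F21821)
def n86885 : Q := act 5 n40308
theorem D86885 : act 5 n40308 = n86885 := rfl
theorem F133299 : act 2 n86885 = n58168 := d2_1 D86885 (iv5 D58168) (iv2 F120672)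
theorem F133300 : act 3 n86885 = n83305 := d6_1 D86885 (iv5 D83305) (iv3 F120673)
theorem F133301 : act 7 n86885 = n83332 := d13_2 (iv7 F120674) D86885 (iv5 D83332)
theorem F133302 : act 0 n86885 = n84822 := d18_0 F130022 (iv1 D79739) (iv4 D36315) (iv5 D17534) D17533 F120711 (iv4 F30581) D40308 D86885
theorem F133304 : act 1 n86883 = n84822 := d15_0 (iv0 F133302) F133301 (iv2 F133292)
def n86886 : Q := act 0 n40309
theorem D86886 : act 0 n40309 = n86886 := rfl
def n86887 : Q := act 1 n40309
theorem D86887 : act 1 n40309 = n86887 := rfl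
theorem F133305 : act 5 n86887 = n40580 := d18_9 F125518 F125516 F125517 (iv4 D79868) (iv5 D36383) D36382 (iv0 F121536) F119737 D86887
theorem F133306 : act 2 n58183 = n86887 := d2_3 F133305 F121487 F121490
theorem F133307 : act 3 n83307 = n86887 := d6_3 F133305 F121488 F128396
theorem F133308 : act 7 n86887 = n83341 := d8_2 F128398 F133307 (iv3 D83341)
theorem F133309 : act 2 n83341 = n86886 := d15_3 (iv0 D86886) D86887 F133308
theorem F133310 : act 7 n58183 = n86886 := d4_2 (iv7 F133308) (iv2 F133306) (iv2 F133309)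
theorem F133311 : act 3 n86886 = n58117 := d8_1 F133310 F116924 D58183
def n86888 : Q := act 7 n40309
theorem D86888 : act 7 n40309 = n86888 := rfl
theorem F133313 : act 5 n86888 = n40310 := d13_1 D86888 (iv7 D40310) D40309
theorem F133314 : act 1 n58183 = n86888 := d15_1 (iv0 F121491) (iv7 D86888) (iv2 F63579)
theorem F133315 : act 1 n86888 = n83341 := d15_1 F133314 (iv7 F133308) (iv2 F133306)
def n86889 : Q := act 6 n40311
theorem D86889 : act 6 n40311 = n86889 := rfl
theorem F133316 : act 4 n86889 = n41365 := d10_1 D86889 (iv6 D41365) (iv4 F61369)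
def n86892 : Q := act 0 n40313
theorem D86892 : act 0 n40313 = n86892 := rfl
def n86893 : Q := act 1 n40313
theorem D86893 : act 1 n40313 = n86893 := rfl
def n86894 : Q := act 2 n40313
theorem D86894 : act 2 n40313 = n86894 := rfl
def n86895 : Q := act 5 n40313
theorem D86895 : act 5 n40313 = n86895 := rfl
theorem F133319 : act 3 n86895 = n40314 := d6_1 D86895 (iv5 D40314) D40313
def n86896 : Q := act 0 n40314
theorem D86896 : act 0 n40314 = n86896 := rfl
theorem F133320 : act 5 n86896 = n42059 := d17_1 D86896 (iv1 F64937) D42073 (iv4 F122735) (iv5 D79956) F57184 (iv5 F65003) (iv0 F119730) F119729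
theorem F133321 : act 2 n86872 = n86896 := d15_3 (iv0 D86896) (iv0 F70692) (iv7 F133278)
theorem F133322 : act 1 n42066 = n86896 := d15_0 (iv0 D86896) (iv7 F63593) (iv2 F64951)
theorem F133323 : act 7 n86896 = n86874 := d15_2 F70693 F133322 F133283
def n86897 : Q := act 6 n40314
theorem D86897 : act 6 n40314 = n86897 := rfl
def n86898 : Q := act 4 n40315
theorem D86898 : act 4 n40315 = n86898 := rfl
theorem F133324 : act 2 n86898 = n47030 := d1_1 D86898 (iv4 D47030) (iv2 F61373)
theorem F133325 : act 3 n86898 = n69819 := d5_1 D86898 (iv4 D69819) F51483 (iv4 F30585) (iv3 F61374)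
theorem F133326 : act 0 n86898 = n81922 := d18_2 F72917 D86898 (iv4 D81922) F75468 (iv4 D22306) F17166 F14129 F17162 D22302
theorem F133327 : act 1 n86898 = n81920 := d18_6 F63905 (iv4 D41456) (iv1 F31253) F30583 D40315 D86898 (iv4 D81920) (iv0 D37511) D37513
def n86899 : Q := act 6 n40315
theorem D86899 : act 6 n40315 = n86899 := rfl
theorem F133328 : act 2 n86899 = n47031 := d3_1 D86899 (iv6 D47031) (iv2 F61373)
theorem F133329 : act 3 n86899 = n40317 := d7_1 D86899 (iv6 D40317) (iv3 F61374)
def n86900 : Q := act 0 n40316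
theorem D86900 : act 0 n40316 = n86900 := rfl
def n86901 : Q := act 1 n40316
theorem D86901 : act 1 n40316 = n86901 := rfl
def n86902 : Q := act 5 n40316
theorem D86902 : act 5 n40316 = n86902 := rfl
theorem F133330 : act 3 n86902 = n40319 := d6_1 D86902 (iv5 D40319) (iv3 F61375)
def n86903 : Q := act 7 n40316
theorem D86903 : act 7 n40316 = n86903 := rfl
theorem F133331 : act 3 n86903 = n40320 := d8_1 D86903 (iv7 D40320) (iv3 F61375)
theorem F133332 : act 4 n86903 = n86903 := d11_1 D86903 (iv7 D86903) F61376
def n86904 : Q := act 0 n40317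
theorem D86904 : act 0 n40317 = n86904 := rfl
def n86905 : Q := act 1 n40317
theorem D86905 : act 1 n40317 = n86905 := rfl
theorem F133333 : act 1 n86905 = n40380 := d15_1 D86905 (iv7 D40380) (iv2 F61377)
def n86906 : Q := act 5 n40317
theorem D86906 : act 5 n40317 = n86906 := rfl
theorem F133334 : act 2 n86906 = n40379 := d2_1 D86906 (iv5 D40379) (iv2 F61377)
theorem F133335 : act 6 n86906 = n40319 := d12_2 D40317 D86906 (iv5 D40319) (iv6 D19059) D19058
def n86907 : Q := act 7 n40317
theorem D86907 : act 7 n40317 = n86907 := rfl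
theorem F133336 : act 2 n86907 = n40380 := d4_1 D86907 (iv7 D40380) (iv2 F61377)
theorem F133337 : act 4 n86907 = n80464 := d11_1 D86907 (iv7 D80464) (iv4 F61378)
theorem F133338 : act 1 n40380 = n86904 := d15_0 (iv0 D86904) D86907 F133336
theorem F133339 : act 1 n40378 = n86907 := d15_1 D40378 (iv7 D86907) F61377
theorem F133340 : act 1 n86907 = n40377 := d15_0 (iv0 D40377) D40380 (iv2 F133336)
def n86908 : Q := act 3 n40318
theorem D86908 : act 3 n40318 = n86908 := rfl
theorem F133341 : act 4 n86908 = n43243 := d5_2 (iv4 F63774) D86908 (iv3 D43243) F63532 F63772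
theorem F133342 : act 7 n86908 = n40382 := d8_2 (iv7 F63520) D86908 (iv3 D40382)
def n86909 : Q := act 5 n40318
theorem D86909 : act 5 n40318 = n86909 := rfl
theorem F133343 : act 2 n86909 = n40388 := d2_1 D86909 (iv5 D40388) (iv2 F63519)
theorem F133344 : act 7 n86909 = n40384 := d13_2 (iv7 F63520) D86909 (iv5 D40384)
theorem F133345 : act 1 n86909 = n43702 := d17_6 D22828 (iv5 F64438) (iv1 F70224) F70221 (iv4 F63774) D86909 (iv5 D43702) F62473 F35399
def n86910 : Q := act 4 n40319
theorem D86910 : act 4 n40319 = n86910 := rfl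
theorem F133346 : act 2 n86910 = n40392 := d1_1 D86910 (iv4 D40392) (iv2 F61380)
theorem F133347 : act 5 n86910 = n41198 := d16_1 D86910 F62386 F30992 F14160 (iv5 F13925) (iv4 F30639) (iv5 F61464) (iv7 D40393) (iv2 F61380)
theorem F133348 : act 7 n41197 = n86910 := d13_0 F133347 (iv7 D41198) D41197
def n86911 : Q := act 7 n40319
theorem D86911 : act 7 n40319 = n86911 := rfl
theorem F133349 : act 2 n86911 = n40393 := d4_1 D86911 (iv7 D40393) (iv2 F61380)
theorem F133350 : act 4 n86911 = n41197 := d11_1 D86911 F133348 (iv4 D86910)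
theorem F133351 : act 5 n86911 = n40320 := d13_1 D86911 (iv7 D40320) D40319
theorem F133352 : act 1 n40391 = n86911 := d15_1 D40391 (iv7 D86911) F61380
theorem F133353 : act 1 n86911 = n40390 := d15_1 F133352 F63560 F62374
def n86912 : Q := act 0 n40323
theorem D86912 : act 0 n40323 = n86912 := rfl
theorem F133354 : act 4 n86912 = n41364 := d18_3 D19060 D40323 D86912 F63777 F63106 (iv0 D40861) (iv4 D19261) (iv0 D9057) (iv5 F13911)
theorem F133355 : act 2 n40404 = n86912 := d15_3 (iv0 D86912) F63562 (iv7 F63157)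
theorem F133356 : act 1 n40326 = n86912 := d15_0 (iv0 D86912) F63446 (iv2 F63455)
theorem F133357 : act 7 n86912 = n40328 := d15_2 (iv0 F63561) F133356 F61387
theorem F133358 : act 6 n40603 = n86912 := d14_5 F133357 (iv6 D40328) F30598 D19174 D40603
def n86913 : Q := act 5 n40323
theorem D86913 : act 5 n40323 = n86913 := rfl
theorem F133359 : act 2 n86913 = n40407 := d2_1 D86913 (iv5 D40407) (iv2 F63445)
theorem F133360 : act 7 n86913 = n40423 := d13_2 (iv7 F63446) D86913 (iv5 D40423)
def n86914 : Q := act 4 n40324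
theorem D86914 : act 4 n40324 = n86914 := rfl
theorem F133361 : act 2 n86914 = n40412 := d1_1 D86914 (iv4 D40412) (iv2 F63447)
theorem F133362 : act 6 n86914 = n43986 := d10_2 F66186 D86914 (iv4 D43986)
theorem F133363 : act 7 n86914 = n40425 := d11_2 (iv7 F63448) D86914 (iv4 D40425)
theorem F133364 : act 1 n86914 = n40768 := d18_6 F63558 (iv4 F30803) (iv1 F63562) (iv4 D40323) D40324 D86914 F63049 (iv0 F69721) (iv5 D41496)
def n86915 : Q := act 5 n40326
theorem D86915 : act 5 n40326 = n86915 := rfl
theorem F133365 : act 2 n86915 = n40423 := d2_1 D86915 (iv5 D40423) (iv2 F63455)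
theorem F133366 : act 7 n86915 = n40407 := d13_2 (iv7 F63456) D86915 (iv5 D40407)
def n86916 : Q := act 5 n40328
theorem D86916 : act 5 n40328 = n86916 := rfl
theorem F133367 : act 2 n86916 = n40597 := d2_1 D86916 (iv5 D40597) (iv2 F61387)
theorem F133368 : act 0 n86916 = n41232 := d17_2 (iv1 F63121) D86916 (iv5 D41232) (iv4 D19389) (iv5 D9097) (iv0 D4087) (iv5 F5932) D8942 D19093
theorem F133369 : act 1 n86916 = n41258 := d17_6 (iv1 F35400) (iv5 F63103) (iv1 D21881) (iv5 F31155) (iv4 F61388) D86916 (iv5 D41258) F62449 F62450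
def n86917 : Q := act 6 n40329
theorem D86917 : act 6 n40329 = n86917 := rfl
theorem F133370 : act 2 n86917 = n40330 := d3_1 D86917 (iv6 D40330) D40329
theorem F133371 : act 3 n86917 = n40747 := d7_1 D86917 (iv6 D40747) (iv3 F61389)
theorem F133372 : act 4 n86917 = n82684 := d10_1 D86917 (iv6 D82684) (iv4 F61390)
def n86918 : Q := act 1 n40330
theorem D86918 : act 1 n40330 = n86918 := rfl
def n86919 : Q := act 5 n40330
theorem D86919 : act 5 n40330 = n86919 := rfl
theorem F133373 : act 3 n86919 = n40334 := d6_1 D86919 (iv5 D40334) (iv3 F61395)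
theorem F133374 : act 6 n86919 = n69970 := d12_2 D40330 D86919 (iv5 D69970) (iv6 D32484) F30604
def n86920 : Q := act 0 n40331
theorem D86920 : act 0 n40331 = n86920 := rfl
def n86921 : Q := act 1 n40331
theorem D86921 : act 1 n40331 = n86921 := rfl
theorem F133375 : act 1 n86921 = n40758 := d15_1 D86921 (iv7 D40758) (iv2 F61397)
def n86922 : Q := act 5 n40331
theorem D86922 : act 5 n40331 = n86922 := rfl
theorem F133376 : act 2 n86922 = n40757 := d2_1 D86922 (iv5 D40757) (iv2 F61397)
theorem F133377 : act 3 n86922 = n69970 := d6_1 D86922 (iv5 D69970) (iv3 F61398)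
theorem F133378 : act 6 n86922 = n40334 := d12_2 D40331 D86922 (iv5 D40334) (iv6 D19066) D19065
def n86923 : Q := act 7 n40331
theorem D86923 : act 7 n40331 = n86923 := rfl
theorem F133379 : act 2 n86923 = n40758 := d4_1 D86923 (iv7 D40758) (iv2 F61397)
theorem F133380 : act 3 n86923 = n69971 := d8_1 D86923 (iv7 D69971) (iv3 F61398)
theorem F133381 : act 6 n86923 = n40619 := d14_1 D86923 (iv7 D40619) (iv6 D19182) (iv7 F30607) D40331
theorem F133382 : act 1 n40758 = n86920 := d15_0 (iv0 D86920) D86923 F133379
theorem F133383 : act 1 n40756 = n86923 := d15_1 D40756 (iv7 D86923) F61397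
theorem F133384 : act 1 n86923 = n40755 := d15_0 (iv0 D40755) D40758 (iv2 F133379)
def n86924 : Q := act 3 n40332
theorem D86924 : act 3 n40332 = n86924 := rfl
theorem F133385 : act 4 n86924 = n45093 := d5_2 F62919 D86924 (iv3 D45093) (iv4 D21529) (iv3 F62918)
theorem F133386 : act 7 n86924 = n40765 := d8_2 (iv7 F62844) D86924 (iv3 D40765)
def n86925 : Q := act 5 n40332
theorem D86925 : act 5 n40332 = n86925 := rfl
theorem F133387 : act 2 n86925 = n40762 := d2_1 D86925 (iv5 D40762) (iv2 F62842)
theorem F133388 : act 7 n86925 = n40767 := d13_2 (iv7 F62844) D86925 (iv5 D40767)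
def n86926 : Q := act 6 n40332
theorem D86926 : act 6 n40332 = n86926 := rfl
theorem F133390 : act 2 n86926 = n40763 := d3_1 D86926 (iv6 D40763) (iv2 F62842)
theorem F133391 : act 4 n86926 = n41509 := d10_1 D86926 (iv6 D41509) F62919
theorem F133392 : act 5 n86926 = n48212 := d21_6 D23316 F36428 (iv5 D19065) D19066 D40332 D86926 (iv1 D48212) (iv5 D23348) (iv6 D10968) (iv1 F17801)
theorem F133393 : act 2 n48212 = n40917 := d2_1 F133392 (iv5 F62008) (iv2 F133390)
theorem F133394 : act 7 n40916 = n48212 := d15_2 F66963 F66964 F133393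
theorem F133395 : act 7 n48211 = n40917 := d15_2 F75776 F75775 (iv2 F133393)
theorem F133396 : act 2 n40916 = n48211 := d4_3 F133395 (iv2 F133393) (iv7 F133394)
def n86927 : Q := act 5 n40333
theorem D86927 : act 5 n40333 = n86927 := rfl
theorem F133397 : act 2 n86927 = n40767 := d2_1 D86927 (iv5 D40767) (iv2 F62845)
theorem F133398 : act 7 n86927 = n40762 := d13_2 (iv7 F62846) D86927 (iv5 D40762)
def n86928 : Q := act 6 n40333
theorem D86928 : act 6 n40333 = n86928 := rfl
theorem F133400 : act 2 n86928 = n40768 := d3_1 D86928 (iv6 D40768) (iv2 F62845)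
theorem F133401 : act 4 n86928 = n41511 := d10_1 D86928 (iv6 D41511) F62879
theorem F133402 : act 0 n40425 = n86928 := d18_2 (iv1 F61497) D40425 F133401 (iv5 F64030) (iv4 F62418) F62417 (iv4 D40864) (iv0 F62075) (iv5 F61492)
theorem F133403 : act 1 n40412 = n86928 := d18_6 (iv1 D41363) (iv4 F61388) F63120 (iv4 D19088) D19089 D40412 F133401 F70223 F70221
def n86929 : Q := act 0 n40334
theorem D86929 : act 0 n40334 = n86929 := rfl
theorem F133404 : act 1 n40772 = n86929 := d15_0 (iv0 D86929) (iv7 F69621) F69620
def n86930 : Q := act 1 n40334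
theorem D86930 : act 1 n40334 = n86930 := rfl
theorem F133405 : act 1 n86930 = n40772 := d15_1 D86930 (iv7 D40772) (iv2 F61400)
theorem F133406 : act 5 n86930 = n41015 := d17_7 (iv1 D20667) (iv5 F15859) (iv1 F62570) (iv5 D19069) (iv4 F30609) D40334 D86930 (iv0 F76093) (iv4 D43681)
theorem F133407 : act 2 n40770 = n86930 := d2_3 F133406 (iv2 F75739) F75741
theorem F133408 : act 7 n40769 = n86930 := d13_0 F133406 F75869 F75866
theorem F133409 : act 2 n40769 = n86929 := d15_3 (iv0 D86929) D86930 (iv7 F133408)
theorem F133410 : act 7 n86929 = n40770 := d4_2 (iv7 F133408) F133409 F133407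
def n86931 : Q := act 4 n40334
theorem D86931 : act 4 n40334 = n86931 := rfl
theorem F133411 : act 2 n86931 = n40771 := d1_1 D86931 (iv4 D40771) (iv2 F61400)
def n86933 : Q := act 1 n40348
theorem D86933 : act 1 n40348 = n86933 := rfl
theorem F133419 : act 4 n41513 = n86933 := d20_6 (iv4 F64120) (iv1 F64121) F34642 (iv3 F34549) (iv1 F72731) F72736 (iv1 D86933) (iv4 D40348) F30612 D38011
def n86934 : Q := act 3 n40348
theorem D86934 : act 3 n40348 = n86934 := rfl
theorem F133422 : act 6 n86934 = n40672 := d7_2 (iv6 F61417) D86934 (iv3 D40672)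
def n86936 : Q := act 6 n40353
theorem D86936 : act 6 n40353 = n86936 := rfl
theorem F133424 : act 2 n86936 = n69963 := d3_1 D86936 (iv6 D69963) (iv2 F61433)
theorem F133425 : act 3 n86936 = n40355 := d7_1 D86936 (iv6 D40355) (iv3 F61434)
theorem F133426 : act 4 n86936 = n86514 := d10_1 D86936 (iv6 D86514) F61436
def n86937 : Q := act 5 n40354
theorem D86937 : act 5 n40354 = n86937 := rfl
theorem F133427 : act 3 n86937 = n40358 := d6_1 D86937 (iv5 D40358) (iv3 F61437)
def n86938 : Q := act 0 n40355
theorem D86938 : act 0 n40355 = n86938 := rfl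
def n86939 : Q := act 1 n40355
theorem D86939 : act 1 n40355 = n86939 := rfl
theorem F133428 : act 1 n86939 = n40619 := d15_1 D86939 (iv7 D40619) (iv2 F61438)
def n86940 : Q := act 5 n40355
theorem D86940 : act 5 n40355 = n86940 := rfl
theorem F133429 : act 2 n86940 = n40618 := d2_1 D86940 (iv5 D40618) (iv2 F61438)
theorem F133430 : act 6 n86940 = n40358 := d12_2 D40355 D86940 (iv5 D40358) (iv6 D19074) D19073
def n86941 : Q := act 7 n40355
theorem D86941 : act 7 n40355 = n86941 := rfl
theorem F133431 : act 2 n86941 = n40619 := d4_1 D86941 (iv7 D40619) (iv2 F61438)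
theorem F133432 : act 6 n86941 = n40758 := d14_1 D86941 (iv7 D40758) (iv6 D19228) (iv7 F30625) D40355
theorem F133433 : act 1 n40619 = n86938 := d15_0 (iv0 D86938) D86941 F133431
theorem F133434 : act 1 n40617 = n86941 := d15_1 D40617 (iv7 D86941) F61438
theorem F133435 : act 1 n86941 = n40616 := d15_0 (iv0 D40616) D40619 (iv2 F133431)
def n86942 : Q := act 5 n40356
theorem D86942 : act 5 n40356 = n86942 := rfl
theorem F133436 : act 2 n86942 = n40623 := d2_1 D86942 (iv5 D40623) (iv2 F66307)
theorem F133437 : act 7 n86942 = n40628 := d13_2 (iv7 F66309) D86942 (iv5 D40628)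
def n86943 : Q := act 6 n40356
theorem D86943 : act 6 n40356 = n86943 := rfl
theorem F133438 : act 2 n86943 = n40624 := d3_1 D86943 (iv6 D40624) (iv2 F66307)
theorem F133439 : act 4 n86943 = n45769 := d10_1 D86943 (iv6 D45769) (iv4 F66308)
theorem F133440 : act 5 n86943 = n48196 := d21_6 D21203 F33443 (iv5 D19073) D19074 D40356 D86943 (iv1 D48196) (iv5 D23322) (iv6 D10960) (iv1 F15968)
theorem F133441 : act 2 n48196 = n41022 := d2_1 F133440 (iv5 F62143) (iv2 F133438)
theorem F133442 : act 0 n43986 = n86943 := d17_0 F133440 (iv1 D48196) (iv5 D23322) F17808 D10963 F66159 F15542 D20869 D43986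
theorem F133443 : act 1 n43984 = n86943 := d15_0 (iv0 F133442) F69172 (iv2 F69164)
theorem F133444 : act 7 n41021 = n48196 := d15_2 F68586 F68587 F133441
theorem F133445 : act 7 n48195 = n41022 := d15_2 F75745 F75744 (iv2 F133441)
theorem F133446 : act 2 n41021 = n48195 := d4_3 F133445 (iv2 F133441) (iv7 F133444)
def n86944 : Q := act 0 n40358
theorem D86944 : act 0 n40358 = n86944 := rfl
theorem F133447 : act 5 n86944 = n41253 := d17_3 F66211 D40358 D86944 (iv4 F72229) (iv5 D45768) (iv0 D21883) F16626 F65813 D21370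
theorem F133448 : act 1 n40633 = n86944 := d15_0 (iv0 D86944) (iv7 F69182) F69181
theorem F133449 : act 2 n40630 = n86944 := d2_3 F133447 (iv2 F72340) F72342
theorem F133450 : act 7 n40631 = n86944 := d13_0 F133447 (iv7 F72356) F72357
def n86945 : Q := act 1 n40358
theorem D86945 : act 1 n40358 = n86945 := rfl
theorem F133451 : act 1 n86945 = n40633 := d15_1 D86945 (iv7 D40633) (iv2 F61440)
theorem F133452 : act 7 n86945 = n40630 := d15_2 (iv0 D86944) D86945 F133449
theorem F133453 : act 5 n86945 = n40910 := d17_7 F31016 (iv5 F66118) (iv1 F66149) F13922 (iv4 F30627) D40358 D86945 F66268 F62456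
theorem F133454 : act 2 n40631 = n86945 := d2_3 F133453 (iv2 F72354) F72357
def n86946 : Q := act 4 n40358
theorem D86946 : act 4 n40358 = n86946 := rfl
theorem F133455 : act 2 n86946 = n40632 := d1_1 D86946 (iv4 D40632) (iv2 F61440)
def n86947 : Q := act 6 n40368
theorem D86947 : act 6 n40368 = n86947 := rfl
theorem F133456 : act 3 n86947 = n82683 := d7_1 D86947 (iv6 D82683) (iv3 F61453)
def n86948 : Q := act 6 n40369
theorem D86948 : act 6 n40369 = n86948 := rfl
def n86949 : Q := act 0 n40370
theorem D86949 : act 0 n40370 = n86949 := rfl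
def n86950 : Q := act 1 n40370
theorem D86950 : act 1 n40370 = n86950 := rfl
def n86951 : Q := act 5 n40370
theorem D86951 : act 5 n40370 = n86951 := rfl
theorem F133457 : act 3 n86951 = n40373 := d6_1 D86951 (iv5 D40373) (iv3 F61454)
def n86952 : Q := act 0 n40373
theorem D86952 : act 0 n40373 = n86952 := rfl
theorem F133458 : act 1 n44291 = n86952 := d15_0 (iv0 D86952) (iv7 F69651) (iv2 F69704)
def n86953 : Q := act 4 n40373
theorem D86953 : act 4 n40373 = n86953 := rfl
def n86954 : Q := act 0 n40375
theorem D86954 : act 0 n40375 = n86954 := rfl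
theorem F133459 : act 5 n86954 = n86362 := d17_1 D86954 (iv1 F132358) (iv5 F74445) F74444 F42513 F42514 D38191 F108917 (iv4 F61455)
theorem F133460 : act 4 n86954 = n56412 := d18_3 F113262 (iv4 F61455) D86954 F115015 (iv4 D57276) (iv0 D27429) F21907 D18253 D38196
theorem F133461 : act 1 n80677 = n86954 := d15_0 (iv0 D86954) (iv7 F64335) (iv2 F124108)
theorem F133462 : act 2 n80121 = n86954 := d1_3 F133460 F125385 D80121
theorem F133463 : act 7 n80126 = n86954 := d11_0 F133460 F125386 D80126
theorem F133464 : act 3 n80670 = n86954 := d20_5 F21617 (iv1 F21262) (iv4 F28859) D36819 D80670 F133460 (iv1 D56412) F43911 (iv3 D17738) (iv1 F21615)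
theorem F133465 : act 7 n57052 = n80670 := d8_0 F133464 (iv7 F133463) (iv3 F122983)
theorem F133466 : act 2 n80670 = n57053 := d15_3 F124100 F124098 F133465
theorem F133467 : act 2 n57052 = n80671 := d15_3 F124099 F124094 (iv7 F133465)
theorem F133468 : act 7 n80671 = n57053 := d4_2 (iv7 F133465) F133467 (iv2 F133466)
theorem E14368 : n86454 = n86362 := ((c13_2 F133463 F133459 (iv7 D86454) (iv5 F122984))).symm
theorem F133469 : act 2 n86362 = n40046 := (sb E14368 F132574)
theorem F133470 : act 7 n86362 = n40045 := (sb E14368 (iv7 D86454))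
theorem E14369 : n86451 = n86363 := (c15_4 F132359 F132358 F133470 D86451)
theorem F133471 : act 2 n86363 = n40045 := (sb E14369 (iv2 D86451))
theorem F133472 : act 7 n86363 = n40046 := (sb E14369 (iv7 F132572))
def n86955 : Q := act 1 n40375
theorem D86955 : act 1 n40375 = n86955 := rfl
theorem F133474 : act 7 n86955 = n80121 := d15_2 (iv0 D86954) D86955 F133462
theorem F133475 : act 5 n86955 = n86363 := d18_9 (iv1 D86363) F60840 D78044 F119232 F116575 (iv4 F108918) F108917 (iv4 F61455) D86955
theorem F133476 : act 4 n56411 = n86955 := d20_0 (iv1 D86955) F61455 F54715 (iv1 F28670) (iv3 D17624) (iv4 D8303) (iv1 F9641) D13010 D27157 D56411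
def n86956 : Q := act 6 n40375
theorem D86956 : act 6 n40375 = n86956 := rfl
theorem F133478 : act 3 n86956 = n40376 := d7_1 D86956 (iv6 D40376) D40375
theorem F133479 : act 4 n86956 = n75323 := d10_1 D86956 (iv6 D75323) (iv4 F61455)
def n86957 : Q := act 0 n40376
theorem D86957 : act 0 n40376 = n86957 := rfl
def n86958 : Q := act 1 n40376
theorem D86958 : act 1 n40376 = n86958 := rfl
theorem F133480 : act 1 n86958 = n80464 := d15_1 D86958 (iv7 D80464) (iv2 F61457)
def n86959 : Q := act 5 n40376
theorem D86959 : act 5 n40376 = n86959 := rfl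
theorem F133481 : act 2 n86959 = n80463 := d2_1 D86959 (iv5 D80463) (iv2 F61457)
theorem F133482 : act 6 n86959 = n80457 := d12_2 D40376 D86959 (iv5 D80457) (iv6 D36681) (iv5 F30636)
def n86960 : Q := act 7 n40376
theorem D86960 : act 7 n40376 = n86960 := rfl
theorem F133483 : act 2 n86960 = n80464 := d4_1 D86960 (iv7 D80464) (iv2 F61457)
theorem F133484 : act 4 n86960 = n40380 := d11_1 D86960 (iv7 D40380) (iv4 F61458)
theorem F133485 : act 1 n80464 = n86957 := d15_0 (iv0 D86957) D86960 F133483
theorem F133487 : act 1 n86960 = n80461 := d15_0 (iv0 D80461) D80464 (iv2 F133483)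
def n86961 : Q := act 2 n40377
theorem D86961 : act 2 n40377 = n86961 := rfl
theorem F133488 : act 7 n40378 = n86961 := d15_2 (iv0 D40377) D40378 (iv2 D86961)
def n86962 : Q := act 3 n40377
theorem D86962 : act 3 n40377 = n86962 := rfl
def n86963 : Q := act 4 n40377
theorem D86963 : act 4 n40377 = n86963 := rfl
def n86964 : Q := act 5 n40377
theorem D86964 : act 5 n40377 = n86964 := rfl
def n86965 : Q := act 6 n40377
theorem D86965 : act 6 n40377 = n86965 := rfl
def n86966 : Q := act 7 n40377
theorem D86966 : act 7 n40377 = n86966 := rfl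
theorem F133489 : act 2 n86966 = n40378 := d4_1 D86966 F133488 (iv2 D86961)
def n86969 : Q := act 5 n40378
theorem D86969 : act 5 n40378 = n86969 := rfl
def n86970 : Q := act 6 n40378
theorem D86970 : act 6 n40378 = n86970 := rfl
def n86971 : Q := act 0 n40379
theorem D86971 : act 0 n40379 = n86971 := rfl
def n86972 : Q := act 1 n40379
theorem D86972 : act 1 n40379 = n86972 := rfl
def n86973 : Q := act 4 n40379
theorem D86973 : act 4 n40379 = n86973 := rfl
theorem F133490 : act 6 n86973 = n40392 := d10_2 (iv6 F61459) D86973 (iv4 D40392)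
def n86974 : Q := act 7 n40379
theorem D86974 : act 7 n40379 = n86974 := rfl
theorem F133491 : act 5 n86974 = n40380 := d13_1 D86974 (iv7 D40380) D40379
def n86975 : Q := act 0 n40382
theorem D86975 : act 0 n40382 = n86975 := rfl
def n86976 : Q := act 1 n40382
theorem D86976 : act 1 n40382 = n86976 := rfl
def n86977 : Q := act 2 n40382
theorem D86977 : act 2 n40382 = n86977 := rfl
theorem F133492 : act 4 n86977 = n43273 := d1_2 F65116 D86977 (iv2 F67853)
def n86978 : Q := act 5 n40382
theorem D86978 : act 5 n40382 = n86978 := rfl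
theorem F133493 : act 3 n86978 = n40384 := d6_1 D86978 (iv5 D40384) D40382
def n86979 : Q := act 6 n40382
theorem D86979 : act 6 n40382 = n86979 := rfl
theorem F133494 : act 3 n86979 = n40385 := d7_1 D86979 (iv6 D40385) D40382
def n86980 : Q := act 0 n40384
theorem D86980 : act 0 n40384 = n86980 := rfl
theorem F133495 : act 5 n86980 = n41050 := d17_3 D19082 D40384 D86980 F62156 (iv5 F61492) (iv0 D40410) (iv5 D19089) (iv0 D8941) (iv4 F13923)
theorem F133496 : act 1 n40388 = n86980 := d15_0 (iv0 D86980) (iv7 F133344) F133343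
theorem F133497 : act 2 n43702 = n86980 := d2_3 F133495 (iv2 F62474) D43702
def n86981 : Q := act 1 n40384
theorem D86981 : act 1 n40384 = n86981 := rfl
theorem F133498 : act 1 n86981 = n40388 := d15_1 D86981 (iv7 F64434) F64433
theorem F133499 : act 7 n86981 = n43702 := d15_2 (iv0 D86980) D86981 F133497
theorem F133500 : act 5 n86981 = n41170 := d17_7 D22824 F63430 (iv1 F69722) (iv5 D41781) F63499 D40384 D86981 F62372 (iv4 D22826)
def n86982 : Q := act 4 n40384
theorem D86982 : act 4 n40384 = n86982 := rfl
theorem F133501 : act 5 n86982 = n41191 := d16_1 D86982 (iv4 D41191) D41192 (iv4 F63982) (iv5 D41496) F31273 D40388 (iv7 F64434) F64433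
def n86983 : Q := act 6 n40384
theorem D86983 : act 6 n40384 = n86983 := rfl
def n86984 : Q := act 0 n40387
theorem D86984 : act 0 n40387 = n86984 := rfl
def n86985 : Q := act 1 n40387
theorem D86985 : act 1 n40387 = n86985 := rfl
def n86986 : Q := act 2 n40387
theorem D86986 : act 2 n40387 = n86986 := rfl
def n86987 : Q := act 5 n40387
theorem D86987 : act 5 n40387 = n86987 := rfl
theorem F133502 : act 3 n86987 = n40388 := d6_1 D86987 (iv5 D40388) D40387
def n86988 : Q := act 6 n40387
theorem D86988 : act 6 n40387 = n86988 := rfl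
theorem F133503 : act 3 n86988 = n40389 := d7_1 D86988 (iv6 D40389) D40387
def n86989 : Q := act 4 n40388
theorem D86989 : act 4 n40388 = n86989 := rfl
theorem F133504 : act 5 n86989 = n41186 := d9_2 D40388 D86989 (iv4 D41186) D41187 (iv4 F64428) (iv5 D41781) F63499 D40384 D86982 F133501 (iv4 D41191) D41192 (iv4 F63982) (iv5 D41496) F31273
def n86990 : Q := act 6 n40388
theorem D86990 : act 6 n40388 = n86990 := rfl
def n86991 : Q := act 3 n40390
theorem D86991 : act 3 n40390 = n86991 := rfl
def n86992 : Q := act 4 n40390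
theorem D86992 : act 4 n40390 = n86992 := rfl
theorem F133505 : act 5 n86992 = n41178 := d16_1 D86992 (iv4 D41178) (iv5 D19363) (iv4 F17181) F17310 (iv4 F35399) F61463 (iv7 F74705) F74704
def n86993 : Q := act 6 n40390
theorem D86993 : act 6 n40390 = n86993 := rfl
def n86994 : Q := act 3 n40391
theorem D86994 : act 3 n40391 = n86994 := rfl
theorem F133506 : act 5 n86994 = n47503 := d6_2 F61463 D86994 F74686
def n86995 : Q := act 4 n40391
theorem D86995 : act 4 n40391 = n86995 := rfl
theorem F133507 : act 5 n86995 = n41167 := d9_2 F61463 D86995 (iv4 D41167) (iv5 D19360) F17365 D22819 (iv4 F62378) F63559 D86992 F133505 (iv4 D41178) (iv5 D19363) (iv4 F17181) F17310 (iv4 F35399)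
def n86996 : Q := act 6 n40391
theorem D86996 : act 6 n40391 = n86996 := rfl
theorem F133508 : act 5 n86996 = n47506 := d12_1 D86996 (iv6 D47506) (iv5 D22822) D22823 F61463
def n86997 : Q := act 0 n40392
theorem D86997 : act 0 n40392 = n86997 := rfl
theorem F133509 : act 4 n86997 = n41232 := d18_3 (iv1 D40391) D40392 D86997 (iv5 D41232) (iv4 D19389) (iv0 F62469) (iv4 F32820) F62473 F61463
theorem F133510 : act 5 n41251 = n86997 := d16_1 D41251 F133509 (iv5 D41232) (iv4 D19389) (iv5 D9097) D9096 D19384 (iv7 F61976) F61975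
theorem F133511 : act 1 n41197 = n86997 := d18_6 F63120 (iv4 D19088) (iv1 F30596) (iv4 F61382) (iv5 F133351) F133350 F133509 (iv0 F133368) (iv5 D86916)
def n86998 : Q := act 1 n40392
theorem D86998 : act 1 n40392 = n86998 := rfl
theorem F133512 : act 1 n86998 = n41197 := d15_1 D86998 F133348 F133346
theorem F133513 : act 4 n41258 = n86998 := d18_5 (iv1 F62422) (iv4 D41224) (iv1 F31019) D19405 D41258 F133512 (iv4 F133350) F133353 (iv5 F63559)
theorem F133514 : act 5 n86998 = n41219 := d9_2 D41258 F133513 (iv4 D41219) (iv5 D19384) (iv4 D9096) D9097 D19389 D41232 (iv4 F133509) (iv5 F133510) (iv4 D41251) (iv5 D19403) (iv4 D9101) D9102 D19405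
def n86999 : Q := act 3 n40392
theorem D86999 : act 3 n40392 = n86999 := rfl
def n87000 : Q := act 5 n40392
theorem D87000 : act 5 n40392 = n87000 := rfl
theorem F133515 : act 2 n87000 = n41198 := d2_1 D87000 (iv5 F133347) F133346
theorem F133516 : act 4 n87000 = n40859 := d9_1 D87000 F61960 F30918 (iv5 F30593) (iv4 F61382) (iv5 F133351) F133350 (iv5 D41197) (iv4 D19367) (iv5 D9092) F6006 (iv5 F5932) (iv4 F13923) D19084 D40392
theorem F133517 : act 7 n87000 = n40858 := d16_8 (iv4 D19367) (iv5 D9092) F6006 (iv5 F5932) (iv4 F13923) D19084 D40392 D87000 F61958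
theorem F133518 : act 1 n41195 = n87000 := d15_1 D41195 F133517 F61958
theorem F133519 : act 1 n87000 = n41194 := d15_0 (iv0 D41194) D41198 (iv2 F133515)
def n87001 : Q := act 7 n40392
theorem D87001 : act 7 n40392 = n87001 := rfl
theorem F133520 : act 2 n87001 = n41197 := d4_1 D87001 F133348 F133346
theorem F133521 : act 4 n87001 = n40393 := d11_1 D87001 (iv7 D40393) D40392
theorem F133522 : act 5 n87001 = n40858 := d13_1 D87001 (iv7 F133517) (iv5 D87000)
def n87002 : Q := act 6 n40393
theorem D87002 : act 6 n40393 = n87002 := rfl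
def n87003 : Q := act 6 n40401
theorem D87003 : act 6 n40401 = n87003 := rfl
theorem F133524 : act 3 n87003 = n40413 := d7_1 D87003 (iv6 D40413) (iv3 F61474)
theorem F133525 : act 4 n87003 = n44870 := d10_1 D87003 (iv6 F73002) F72998
theorem F133526 : act 5 n87003 = n43703 := d12_1 D87003 F68688 (iv5 F66688) (iv6 D40402) D40401
theorem F133528 : act 0 n87003 = n40548 := d21_4 F30771 F35847 D40401 D87003 (iv6 D40548) D40547 F74583 F74580 (iv6 F69103) (iv1 F35587)
theorem F133529 : act 1 n87003 = n82492 := d15_1 (iv0 F133528) (iv7 D82492) (iv2 F66303)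
def n87004 : Q := act 1 n40402
theorem D87004 : act 1 n40402 = n87004 := rfl
theorem F133530 : act 1 n87004 = n43954 := d15_1 D87004 F74587 F64372
theorem F133531 : act 7 n87004 = n40553 := d15_2 (iv0 F74584) D87004 (iv2 F66298)
theorem F133532 : act 4 n87004 = n41806 := d17_9 (iv1 D41806) D41807 F64464 (iv5 D22383) F17195 (iv5 F31961) D42648 (iv5 F66688) D87004
theorem F133533 : act 5 n87004 = n48228 := d18_9 (iv1 D48228) D48229 F75817 (iv4 D44885) (iv5 D21424) (iv4 F33632) (iv0 F66327) F63931 D87004
theorem F133534 : act 6 n82492 = n87004 := d21_3 (iv5 F59873) (iv1 F74173) (iv5 F127132) (iv1 D87004) (iv6 D40402) D40401 (iv1 F68388) (iv5 D43516) (iv6 D20585) (iv1 F62617)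
theorem F133536 : act 6 n48228 = n84265 := d21_3 (iv5 F74586) (iv1 F133530) F133533 (iv1 D84265) (iv6 D38862) (iv5 D18466) (iv1 F14569) (iv5 F16790) D20129 D42647
theorem F133537 : act 2 n84265 = n43649 := d3_1 F133536 (iv6 F75911) (iv2 F76263)
def n87005 : Q := act 3 n40404
theorem D87005 : act 3 n40404 = n87005 := rfl
theorem F133538 : act 4 n87005 = n41998 := d5_2 F61488 D87005 (iv3 D41998) (iv4 D19797) (iv3 F61487)
theorem F133539 : act 7 n87005 = n40593 := d8_2 (iv7 F63157) D87005 F61714
def n87006 : Q := act 5 n40404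
theorem D87006 : act 5 n40404 = n87006 := rfl
theorem F133540 : act 7 n87006 = n40597 := d13_2 (iv7 F63157) D87006 (iv5 D40597)
theorem F133541 : act 0 n87006 = n41258 := d17_2 D40404 D87006 (iv5 D41258) (iv4 D19405) (iv5 D9102) F14137 (iv5 F30593) F30596 D19088
theorem F133542 : act 1 n87006 = n41232 := d17_6 (iv1 D22825) (iv5 D10786) D10782 (iv5 F61489) F61488 D87006 (iv5 D41232) D41230 F62452
def n87007 : Q := act 0 n40406
theorem D87007 : act 0 n40406 = n87007 := rfl
def n87008 : Q := act 1 n40406
theorem D87008 : act 1 n40406 = n87008 := rfl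
def n87009 : Q := act 2 n40406
theorem D87009 : act 2 n40406 = n87009 := rfl
def n87010 : Q := act 5 n40406
theorem D87010 : act 5 n40406 = n87010 := rfl
theorem F133543 : act 3 n87010 = n40407 := d6_1 D87010 (iv5 D40407) D40406
def n87011 : Q := act 6 n40406
theorem D87011 : act 6 n40406 = n87011 := rfl
theorem F133544 : act 3 n87011 = n40408 := d7_1 D87011 (iv6 D40408) D40406
def n87012 : Q := act 0 n40407
theorem D87012 : act 0 n40407 = n87012 := rfl
theorem F133545 : act 5 n87012 = n41020 := d17_3 F63120 D40407 D87012 F63249 (iv5 F64438) (iv0 D41786) (iv5 D19664) (iv0 F63105) (iv4 F61388)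
theorem F133546 : act 1 n40423 = n87012 := d15_0 (iv0 D87012) (iv7 F133366) F133365
def n87013 : Q := act 1 n40407
theorem D87013 : act 1 n40407 = n87013 := rfl
theorem F133547 : act 1 n87013 = n40423 := d15_1 D87013 (iv7 F133360) F133359
theorem F133548 : act 5 n87013 = n41222 := d17_7 (iv1 F31022) (iv5 F62484) (iv1 F62497) (iv5 D19089) D19088 D40407 D87013 F62417 (iv4 D40864)
def n87014 : Q := act 4 n40407
theorem D87014 : act 4 n40407 = n87014 := rfl
theorem F133549 : act 5 n87014 = n41195 := d17_5 (iv1 F133369) (iv5 D86916) F63120 D40407 D87014 F133518 (iv5 D87000) D86998 (iv4 F133513)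
def n87015 : Q := act 6 n40407
theorem D87015 : act 6 n40407 = n87015 := rfl
def n87016 : Q := act 1 n40408
theorem D87016 : act 1 n40408 = n87016 := rfl
theorem F133550 : act 7 n87016 = n40629 := d15_2 (iv0 F70443) D87016 (iv2 F70441)
theorem F133551 : act 4 n41791 = n87016 := d11_3 F133550 F66305 (iv7 F72329)
def n87017 : Q := act 5 n40408
theorem D87017 : act 5 n40408 = n87017 := rfl
theorem F133552 : act 0 n87017 = n40885 := d17_2 (iv1 D87016) D87017 (iv5 D40885) F30927 D21466 (iv0 F64448) (iv5 D41792) D41791 F133551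
def n87018 : Q := act 4 n40410
theorem D87018 : act 4 n40410 = n87018 := rfl
theorem F133553 : act 2 n87018 = n43711 := d1_1 D87018 (iv4 D43711) F62478
theorem F133554 : act 7 n87018 = n40809 := d11_2 (iv7 F62048) D87018 F61898
theorem F133555 : act 5 n87018 = n47504 := d17_5 (iv1 F14133) (iv5 F14162) (iv1 F62076) (iv5 F61492) D87018 F74688 (iv5 D40854) F30913 F14160
theorem F133556 : act 0 n87018 = n41192 := d17_0 (iv5 D41192) (iv1 D19366) (iv5 D9092) F6006 (iv5 F5932) D8942 D19094 F61497 D87018
theorem F133557 : act 1 n87018 = n41187 := d18_6 (iv1 F35400) F35391 (iv1 F62379) F62156 (iv5 F61492) D87018 (iv4 F64428) F69722 (iv5 F63430)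
def n87019 : Q := act 0 n40412
theorem D87019 : act 0 n40412 = n87019 := rfl
theorem F133558 : act 4 n87019 = n41786 := d18_3 (iv1 F62497) D40412 D87019 F64438 (iv4 F63249) F63248 F31009 D19393 (iv5 F62484)
theorem F133559 : act 1 n40425 = n87019 := d15_0 (iv0 D87019) F64635 F64633
theorem F133560 : act 7 n87019 = n40768 := d15_2 (iv0 F133402) F133559 (iv2 F133400)
def n87020 : Q := act 3 n40412
theorem D87020 : act 3 n40412 = n87020 := rfl
def n87021 : Q := act 5 n40412
theorem D87021 : act 5 n40412 = n87021 := rfl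
theorem F133561 : act 0 n87021 = n41207 := d17_2 (iv1 F133403) D87021 (iv5 D41207) (iv4 F35319) (iv5 F61489) (iv0 D19660) D19664 (iv0 F68710) (iv4 F133401)
theorem F133562 : act 1 n87021 = n40889 := d17_6 (iv1 D4088) (iv5 F5932) D8941 D19089 D40412 D87021 (iv5 D40889) (iv0 F63094) (iv4 D9101)
theorem F133563 : act 4 n87021 = n41194 := d18_5 F63984 F33278 (iv1 F62497) D40412 D87021 (iv0 D41194) (iv4 D19367) D19366 D41192
def n87022 : Q := act 6 n40412
theorem D87022 : act 6 n40412 = n87022 := rfl
theorem F133564 : act 2 n87022 = n43986 := d3_1 D87022 (iv6 F133362) F133361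
theorem F133565 : act 4 n87022 = n40413 := d10_1 D87022 (iv6 D40413) D40412
theorem F133566 : act 7 n87022 = n43984 := d14_2 (iv7 F64635) D87022 F69165 F64600 D41901
theorem F133567 : act 0 n87022 = n40624 := d21_4 D40889 (iv1 F133562) (iv5 D87021) D87022 (iv6 D40624) D40623 (iv1 F63092) (iv5 D41255) (iv6 D19404) F63094
theorem F133568 : act 1 n41910 = n40624 := d15_0 (iv0 F133567) F133566 F69164
def n87023 : Q := act 1 n40420
theorem D87023 : act 1 n40420 = n87023 := rfl
theorem F133569 : act 7 n87023 = n40710 := d15_2 (iv0 F127432) D87023 (iv2 F127428)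
theorem F133570 : act 5 n87023 = n40993 := d17_7 (iv1 F70129) D48420 (iv1 F76138) (iv5 D45376) F63199 D40420 D87023 (iv0 F62976) (iv4 F70127)
theorem F133571 : act 4 n87023 = n42021 := d17_9 (iv1 D42021) D42022 F64884 (iv5 D23168) (iv4 F30834) (iv5 F32362) (iv0 F61486) D40420 D87023
theorem F133572 : act 6 n42548 = n87023 := d21_9 (iv5 D40420) F61486 F32362 (iv6 D19198) (iv1 F14546) D19848 D42100 F65012 D42548 (iv1 D87023)
theorem F133573 : act 3 n87023 = n40434 := d7_1 F133572 F61513 (iv3 F66372)
theorem F133574 : act 0 n42727 = n42474 := d21_1 F69685 (iv5 D42474) D42475 (iv1 F66289) (iv6 D41236) D41235 F62976 (iv5 F133570) (iv6 F133572) F74000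
theorem F133575 : act 1 n42727 = n42234 := d15_1 (iv0 F133574) F65224 (iv2 F65620)
def n87024 : Q := act 0 n40421
theorem D87024 : act 0 n40421 = n87024 := rfl
theorem F133576 : act 2 n42548 = n87024 := d15_3 (iv0 D87024) F71757 (iv7 F66373)
theorem F133577 : act 1 n44114 = n87024 := d15_0 (iv0 D87024) (iv7 F69686) F71756
theorem F133578 : act 7 n87024 = n40705 := d15_2 D44114 F133577 (iv2 F62922)
theorem F133579 : act 4 n42014 = n87024 := d11_3 F133578 F62908 F64874
theorem F133580 : act 5 n87024 = n42546 := d17_5 (iv1 D10861) D10862 D23022 (iv5 F75046) F133579 F66013 (iv5 D23340) (iv0 F66027) F31764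
theorem F133581 : act 6 n42479 = n43572 := d21_3 (iv5 F133580) (iv1 F133577) F69455 (iv1 D43572) (iv6 D20612) F16955 (iv1 F30732) D19832 (iv6 F36459) (iv1 F66013)
theorem F133582 : act 2 n43572 = n42953 := d3_1 F133581 F67309 (iv2 F71758)
def n87025 : Q := act 2 n40422
theorem D87025 : act 2 n40422 = n87025 := rfl
def n87026 : Q := act 5 n40422
theorem D87026 : act 5 n40422 = n87026 := rfl
theorem F133583 : act 3 n87026 = n40423 := d6_1 D87026 (iv5 D40423) D40422
def n87027 : Q := act 6 n40422
theorem D87027 : act 6 n40422 = n87027 := rfl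
theorem F133584 : act 3 n87027 = n40424 := d7_1 D87027 (iv6 D40424) D40422
def n87028 : Q := act 4 n40423
theorem D87028 : act 4 n40423 = n87028 := rfl
theorem F133585 : act 5 n87028 = n41194 := d16_1 D87028 (iv4 F133563) (iv5 D87021) (iv4 D40412) (iv5 D19089) D19088 D40407 (iv7 F133366) F133365
def n87029 : Q := act 6 n40423
theorem D87029 : act 6 n40423 = n87029 := rfl
def n87030 : Q := act 0 n40424
theorem D87030 : act 0 n40424 = n87030 := rfl
theorem F133586 : act 5 n87030 = n48211 := d17_1 D87030 (iv1 F75775) F62009 F30945 (iv5 F30951) F62522 D20220 F62482 (iv4 F61505)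
theorem F133587 : act 7 n40763 = n87030 := d13_0 F133586 F133395 (iv5 F62008)
def n87031 : Q := act 1 n40424
theorem D87031 : act 1 n40424 = n87031 := rfl
def n87032 : Q := act 5 n40424
theorem D87032 : act 5 n40424 = n87032 := rfl
theorem F133588 : act 1 n87032 = n40909 := d17_6 D9066 D19287 (iv1 F66095) F66097 (iv4 F61505) D87032 (iv5 D40909) (iv0 D19280) F14146
theorem F133589 : act 1 n40914 = n87032 := d15_0 F133588 (iv7 F75168) F75167
def n87033 : Q := act 3 n40425
theorem D87033 : act 3 n40425 = n87033 := rfl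
def n87034 : Q := act 5 n40425
theorem D87034 : act 5 n40425 = n87034 := rfl
theorem F133590 : act 4 n87034 = n41195 := d9_1 D87034 (iv5 F133549) (iv4 D87014) (iv5 D40407) (iv4 D19088) D19089 D40412 D87021 F133563 (iv5 F133585) (iv4 D87028) (iv5 D40423) (iv4 D19093) D19094 D40425
theorem F133591 : act 0 n87034 = n40889 := d17_2 (iv1 F133559) D87034 (iv5 D40889) F30928 (iv5 F31155) D41363 (iv5 F70221) F70224 (iv4 F133558)
theorem F133592 : act 1 n87034 = n41207 := d17_6 (iv1 F14138) (iv5 F30593) (iv1 F30595) D19094 D40425 D87034 (iv5 D41207) (iv0 D19381) (iv4 D9096)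
def n87035 : Q := act 0 n40432
theorem D87035 : act 0 n40432 = n87035 := rfl
theorem F133593 : act 5 n87035 = n41306 := d17_3 (iv1 F63210) D40432 D87035 F63625 D47578 (iv0 F74826) (iv5 D41486) F63164 (iv4 F15687)
theorem F133594 : act 1 n42191 = n87035 := d15_0 (iv0 D87035) (iv7 F61525) (iv2 F65120)
theorem F133595 : act 2 n43460 = n87035 := d2_3 F133593 (iv2 F63627) D43460
def n87036 : Q := act 1 n40432
theorem D87036 : act 1 n40432 = n87036 := rfl
theorem F133596 : act 1 n87036 = n42191 := d15_1 D87036 (iv7 F67787) F67786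
theorem F133597 : act 7 n87036 = n43460 := d15_2 (iv0 D87035) D87036 F133595
theorem F133598 : act 5 n87036 = n41307 := d17_7 (iv1 F31101) F35630 (iv1 F35682) (iv5 D19105) D19104 D40432 D87036 F63629 (iv4 D41299)
def n87037 : Q := act 4 n40432
theorem D87037 : act 4 n40432 = n87037 := rfl
def n87038 : Q := act 6 n40432
theorem D87038 : act 6 n40432 = n87038 := rfl
def n87039 : Q := act 4 n40434
theorem D87039 : act 4 n40434 = n87039 := rfl
theorem F133599 : act 2 n87039 = n43528 := d1_1 D87039 (iv4 D43528) F61514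
theorem F133600 : act 6 n87039 = n42554 := d10_2 (iv6 F61513) D87039 (iv4 D42554)
theorem F133601 : act 7 n87039 = n44032 := d11_2 (iv7 F61516) D87039 F69309
theorem F133602 : act 0 n87039 = n41823 := d17_0 F65435 (iv1 D42359) (iv5 D19989) F14657 F16782 D9381 (iv5 F31721) F61515 D87039
theorem F133603 : act 1 n87039 = n44145 := d18_6 (iv1 F73625) (iv4 F65430) (iv1 F65432) (iv4 D41314) (iv5 F61512) D87039 F69484 F67710 (iv5 F73620)
def n87040 : Q := act 0 n40435
theorem D87040 : act 0 n40435 = n87040 := rfl
theorem F133604 : act 5 n87040 = n41327 := d17_1 D87040 (iv1 F63677) (iv5 D41297) (iv4 D19432) D19433 F31100 (iv5 F61512) (iv0 D40434) D40435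
theorem F133605 : act 4 n87040 = n47578 := d18_3 (iv1 F35682) D40435 D87040 (iv5 D47578) (iv4 F63625) (iv0 D41306) F31093 D19444 F35630
theorem F133606 : act 6 n87040 = n42455 := d21_5 D20545 (iv1 F68299) F69028 (iv6 F69027) D87040 (iv5 D42455) (iv1 F65181) F65178 (iv6 F32508) (iv1 F32510)
theorem F133607 : act 2 n44094 = n87040 := d15_3 (iv0 D87040) (iv0 F63350) D44094
theorem F133608 : act 1 n42139 = n87040 := d15_0 (iv0 D87040) (iv7 F61529) (iv2 F65056)
theorem F133609 : act 7 n87040 = n44022 := d15_2 F65058 F133608 F69273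
def n87041 : Q := act 0 n40438
theorem D87041 : act 0 n40438 = n87041 := rfl
theorem F133610 : act 5 n87041 = n41310 := d17_3 F63213 D40438 D87041 (iv4 F73621) F73620 (iv0 D41821) (iv5 D19687) D19684 (iv4 F63215)
theorem F133611 : act 2 n87036 = n87041 := d15_3 (iv0 D87041) (iv0 F68315) (iv7 F133597)
theorem F133612 : act 1 n43251 = n87041 := d15_0 (iv0 D87041) F61525 (iv2 F67786)
theorem F133613 : act 7 n87041 = n87035 := d15_2 F68316 F133612 (iv2 F133595)
def n87042 : Q := act 4 n40438
theorem D87042 : act 4 n40438 = n87042 := rfl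
theorem F133614 : act 7 n87042 = n87037 := d11_2 (iv7 F61525) D87042 (iv4 D87037)
def n87043 : Q := act 5 n40439
theorem D87043 : act 5 n40439 = n87043 := rfl
theorem F133615 : act 2 n87043 = n42432 := d2_1 D87043 F65549 F65121
theorem F133617 : act 0 n87043 = n42214 := d17_2 F65572 D87043 (iv5 D42214) (iv4 F65773) D46655 (iv0 F73729) (iv5 D41826) F71736 F65571
theorem F133618 : act 1 n87043 = n42211 := d17_6 D9400 D19934 F35812 F32002 (iv4 F61526) D87043 (iv5 D42211) (iv0 D19927) F14617
def n87044 : Q := act 5 n40442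
theorem D87044 : act 5 n40442 = n87044 := rfl
theorem F133619 : act 2 n87044 = n80667 := d2_1 D87044 (iv5 D80667) F117055
theorem F133620 : act 3 n87044 = n80203 := d6_1 D87044 (iv5 D80203) (iv3 F115333)
theorem F133621 : act 7 n87044 = n80668 := d13_2 F117060 D87044 (iv5 D80668)
def n87045 : Q := act 0 n40444
theorem D87045 : act 0 n40444 = n87045 := rfl
def n87046 : Q := act 7 n40444
theorem D87046 : act 7 n40444 = n87046 := rfl
theorem F133622 : act 2 n87046 = n79578 := d4_1 D87046 (iv7 D79578) (iv2 F61531)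
theorem F133623 : act 5 n87046 = n40445 := d13_1 D87046 (iv7 D40445) D40444
theorem F133624 : act 6 n87046 = n44504 := d14_1 D87046 (iv7 D44504) F33398 (iv7 F30707) (iv6 F61532)
theorem F133625 : act 1 n79578 = n87045 := d15_0 (iv0 D87045) D87046 F133622
theorem F133626 : act 1 n79577 = n87046 := d15_1 D79577 (iv7 D87046) F61531
theorem F133627 : act 7 n87045 = n79577 := d15_2 F122213 F133625 F122209
theorem F133628 : act 2 n87045 = n79576 := d15_3 (iv0 D79576) D79577 (iv7 F133627)
theorem F133629 : act 7 n79576 = n77176 := d4_2 (iv7 F133627) F133628 (iv2 F122209)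
theorem F133630 : act 3 n77061 = n79576 := d8_3 F133629 (iv3 D77176) (iv7 F121859)
theorem F133631 : act 1 n87046 = n79576 := d15_1 F133626 F133629 (iv2 F122209)
theorem F133632 : act 3 n87045 = n80207 := d0_2 F133630 (iv2 F133628) (iv2 F126218) (iv3 D77171) (iv2 F121858)
theorem F133633 : act 4 n76887 = n80207 := d20_2 D35133 D76887 (iv3 F133632) (iv1 F133625) F122210 (iv4 F122279) (iv1 F122281) F122282 (iv3 D76884) (iv1 D35132)
def n87047 : Q := act 0 n40446
theorem D87047 : act 0 n40446 = n87047 := rfl
theorem F133634 : act 1 n44564 = n87047 := d15_0 (iv0 D87047) F61537 D44564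
def n87048 : Q := act 1 n40446
theorem D87048 : act 1 n40446 = n87048 := rfl
def n87049 : Q := act 2 n40446
theorem D87049 : act 2 n40446 = n87049 := rfl
theorem F133635 : act 7 n87049 = n44564 := d4_2 (iv7 F61537) D87049 (iv2 D44564)
theorem F133636 : act 1 n87049 = n44562 := d15_0 (iv0 D44562) (iv7 F61537) D87049
theorem F133637 : act 1 n87048 = n44564 := d15_1 D87048 (iv7 F133635) (iv2 D87049)
theorem F133638 : act 1 n44563 = n87049 := d15_1 D44563 F133635 (iv2 D44564)
def n87050 : Q := act 5 n40446
theorem D87050 : act 5 n40446 = n87050 := rfl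
theorem F133639 : act 3 n87050 = n40447 := d6_1 D87050 (iv5 D40447) D40446
theorem F133640 : act 7 n87050 = n44565 := d13_2 (iv7 F61537) D87050 (iv5 D44565)
def n87051 : Q := act 6 n40447
theorem D87051 : act 6 n40447 = n87051 := rfl
def n87052 : Q := act 0 n40448
theorem D87052 : act 0 n40448 = n87052 := rfl
def n87053 : Q := act 1 n40448
theorem D87053 : act 1 n40448 = n87053 := rfl
def n87054 : Q := act 2 n40448
theorem D87054 : act 2 n40448 = n87054 := rfl
theorem F133641 : act 3 n87054 = n40477 := d0_2 D40448 D87054 (iv2 D40477) (iv3 D19129) (iv2 F30713)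
def n87055 : Q := act 5 n40448
theorem D87055 : act 5 n40448 = n87055 := rfl
theorem F133643 : act 3 n87055 = n40449 := d6_1 D87055 (iv5 D40449) D40448
def n87056 : Q := act 6 n40449
theorem D87056 : act 6 n40449 = n87056 := rfl
theorem F133644 : act 2 n87056 = n40482 := d3_1 D87056 (iv6 D40482) (iv2 F61540)
def n87057 : Q := act 1 n40450
theorem D87057 : act 1 n40450 = n87057 := rfl
theorem F133646 : act 7 n87057 = n42595 := d15_2 (iv0 F74906) D87057 (iv2 F74904)
theorem F133647 : act 2 n42596 = n87057 := d4_3 F133646 (iv2 F74904) (iv7 F74916)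
theorem F133648 : act 4 n42608 = n87057 := d11_3 F133646 (iv4 F73133) (iv7 F74911)
def n87058 : Q := act 7 n40450
theorem D87058 : act 7 n40450 = n87058 := rfl
theorem F133651 : act 3 n87058 = n40459 := d8_1 D87058 (iv7 D40459) (iv3 F61542)
theorem F133655 : act 1 n42596 = n87058 := d15_1 D42596 (iv7 D87058) F61541
theorem F133656 : act 1 n87058 = n42595 := d15_1 F133655 (iv7 F133646) (iv2 F133647)
def n87059 : Q := act 3 n40451
theorem D87059 : act 3 n40451 = n87059 := rfl
theorem F133657 : act 4 n87059 = n84253 := d5_2 D40451 D87059 (iv3 D84253) F59880 F31220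
theorem F133658 : act 7 n87059 = n86131 := d8_2 (iv7 F61546) D87059 (iv3 D86131)
def n87060 : Q := act 6 n40451
theorem D87060 : act 6 n40451 = n87060 := rfl
theorem F133660 : act 4 n87060 = n40452 := d10_1 D87060 (iv6 D40452) D40451
def n87061 : Q := act 0 n40452
theorem D87061 : act 0 n40452 = n87061 := rfl
theorem F133661 : act 6 n87061 = n44976 := d21_5 F33761 F28031 D19120 D40452 D87061 (iv5 D44976) (iv1 D21473) D21474 F33750 D21478
def n87062 : Q := act 1 n40452
theorem D87062 : act 1 n40452 = n87062 := rfl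
def n87063 : Q := act 7 n40452
theorem D87063 : act 7 n40452 = n87063 := rfl
theorem F133662 : act 5 n87063 = n45561 := d13_1 D87063 (iv7 D45561) (iv5 F61549)
def n87064 : Q := act 3 n40453
theorem D87064 : act 3 n40453 = n87064 := rfl
theorem F133663 : act 4 n87064 = n43173 := d5_2 (iv4 F61551) D87064 (iv3 D43173) F32324 F31939
def n87065 : Q := act 6 n40453
theorem D87065 : act 6 n40453 = n87065 := rfl
theorem F133664 : act 4 n87065 = n42588 := d10_1 D87065 (iv6 D42588) (iv4 F61551)
def n87066 : Q := act 0 n40454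
theorem D87066 : act 0 n40454 = n87066 := rfl
def n87068 : Q := act 2 n40454
theorem D87068 : act 2 n40454 = n87068 := rfl
theorem F133665 : act 4 n87068 = n43617 := d1_2 (iv4 F61552) D87068 (iv2 D43617)
def n87069 : Q := act 5 n40454
theorem D87069 : act 5 n40454 = n87069 := rfl
theorem F133666 : act 3 n87069 = n40455 := d6_1 D87069 (iv5 D40455) D40454
def n87071 : Q := act 6 n40455
theorem D87071 : act 6 n40455 = n87071 := rfl
def n87072 : Q := act 0 n40456
theorem D87072 : act 0 n40456 = n87072 := rfl
theorem F133669 : act 4 n87072 = n42589 := d20_2 (iv4 F61553) D87072 (iv3 F66640) F64664 F32128 (iv4 F32141) (iv1 F32143) (iv4 F32137) D20358 F66878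
theorem F133670 : act 6 n48254 = n87072 := d10_0 F133669 F66639 D48254
def n87073 : Q := act 1 n40456
theorem D87073 : act 1 n40456 = n87073 := rfl
def n87075 : Q := act 7 n40456
theorem D87075 : act 7 n40456 = n87075 := rfl
theorem F133671 : act 4 n87075 = n40459 := d11_1 D87075 (iv7 D40459) (iv4 F61553)
def n87077 : Q := act 6 n40460
theorem D87077 : act 6 n40460 = n87077 := rfl
theorem F133675 : act 2 n87077 = n75172 := d3_1 D87077 (iv6 D75172) (iv2 F61556)
theorem F133676 : act 3 n87077 = n75298 := d7_1 D87077 (iv6 D75298) (iv3 F61557)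
def n87078 : Q := act 3 n40461
theorem D87078 : act 3 n40461 = n87078 := rfl
theorem F133678 : act 4 n87078 = n40463 := d5_2 D40461 D87078 (iv3 D40463) (iv4 D19125) (iv3 F30733)
def n87079 : Q := act 5 n40461
theorem D87079 : act 5 n40461 = n87079 := rfl
theorem F133680 : act 2 n87079 = n86880 := d2_1 D87079 F133290 (iv2 F61561)
theorem F133682 : act 0 n87079 = n42061 := d17_2 (iv1 F61564) D87079 (iv5 D42061) (iv4 D19834) (iv5 D9332) (iv0 F17525) D9594 (iv0 F17552) D19410
theorem F133683 : act 1 n87079 = n42073 := d17_6 F31699 F31181 (iv1 F17586) D19124 D40461 D87079 (iv5 D42073) F64937 F64935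
def n87080 : Q := act 6 n40461
theorem D87080 : act 6 n40461 = n87080 := rfl
theorem F133685 : act 4 n87080 = n40462 := d10_1 D87080 (iv6 D40462) D40461
def n87081 : Q := act 0 n40462
theorem D87081 : act 0 n40462 = n87081 := rfl
theorem F133686 : act 6 n87081 = n45791 := d21_5 F31181 (iv1 F17586) D19124 D40462 D87081 (iv5 D45791) (iv1 D21894) D21895 F34378 F31699
theorem F133687 : act 2 n43188 = n87081 := d3_3 F133686 F72276 (iv6 F70227)
def n87082 : Q := act 1 n40462
theorem D87082 : act 1 n40462 = n87082 := rfl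
theorem F133689 : act 5 n47645 = n87082 := d21_6 (iv5 D36411) F28563 (iv5 F31172) D41366 F74929 D47645 (iv1 D87082) F61566 (iv6 D40462) (iv1 F57157)
theorem F133690 : act 3 n87082 = n43171 := d6_1 F133689 (iv5 F67608) (iv3 F74931)
theorem F133691 : act 6 n46653 = n87082 := d7_0 F133690 (iv6 F67607) F73723
theorem F133692 : act 4 n87082 = n42947 := d20_6 D20297 (iv1 F32352) F32350 (iv3 F32336) (iv1 F67605) (iv3 F133690) (iv1 D42947) F32185 F14954 D9601
theorem F133693 : act 6 n42947 = n42730 := d10_2 F133691 F133692 F73722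
def n87083 : Q := act 7 n40462
theorem D87083 : act 7 n40462 = n87083 := rfl
theorem F133694 : act 3 n87083 = n40468 := d8_1 D87083 (iv7 D40468) (iv3 F61565)
def n87085 : Q := act 1 n40463
theorem D87085 : act 1 n40463 = n87085 := rfl
def n87086 : Q := act 2 n40463
theorem D87086 : act 2 n40463 = n87086 := rfl
def n87087 : Q := act 5 n40463
theorem D87087 : act 5 n40463 = n87087 := rfl
theorem F133696 : act 3 n87087 = n40464 := d6_1 D87087 (iv5 D40464) D40463
def n87088 : Q := act 6 n40463
theorem D87088 : act 6 n40463 = n87088 := rfl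
theorem F133697 : act 3 n87088 = n40465 := d7_1 D87088 (iv6 D40465) D40463
def n87089 : Q := act 6 n40464
theorem D87089 : act 6 n40464 = n87089 := rfl
def n87090 : Q := act 0 n40465
theorem D87090 : act 0 n40465 = n87090 := rfl
def n87091 : Q := act 1 n40465
theorem D87091 : act 1 n40465 = n87091 := rfl
def n87092 : Q := act 5 n40465
theorem D87092 : act 5 n40465 = n87092 := rfl
def n87093 : Q := act 7 n40465
theorem D87093 : act 7 n40465 = n87093 := rfl
theorem F133698 : act 4 n87093 = n40468 := d11_1 D87093 (iv7 D40468) (iv4 F61567)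
def n87095 : Q := act 0 n40469
theorem D87095 : act 0 n40469 = n87095 := rfl
def n87096 : Q := act 1 n40469
theorem D87096 : act 1 n40469 = n87096 := rfl
def n87097 : Q := act 2 n40469
theorem D87097 : act 2 n40469 = n87097 := rfl
def n87098 : Q := act 4 n40469
theorem D87098 : act 4 n40469 = n87098 := rfl
theorem F133700 : act 3 n87098 = n41360 := d5_1 D87098 F63763 F32424 F31685 D40469
theorem F133701 : act 7 n87098 = n41408 := d11_2 F76401 D87098 (iv4 F76400)
theorem F133702 : act 0 n87098 = n48622 := d20_4 (iv4 F27434) (iv1 F32427) (iv4 F63763) (iv3 F133700) (iv3 D48622) (iv4 D23705) (iv1 D11097) (iv4 F17636) (iv3 D10845) D10843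
def n87099 : Q := act 5 n40469
theorem D87099 : act 5 n40469 = n87099 := rfl
theorem F133703 : act 3 n87099 = n40470 := d6_1 D87099 (iv5 D40470) D40469
def n87100 : Q := act 6 n40469
theorem D87100 : act 6 n40469 = n87100 := rfl
def n87101 : Q := act 6 n40470
theorem D87101 : act 6 n40470 = n87101 := rfl
def n87102 : Q := act 5 n40471
theorem D87102 : act 5 n40471 = n87102 := rfl
def n87103 : Q := act 7 n40471
theorem D87103 : act 7 n40471 = n87103 := rfl
theorem F133706 : act 1 n44700 = n87103 := d15_1 (iv0 F70276) (iv7 D87103) (iv2 F65023)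
def n87104 : Q := act 0 n40472
theorem D87104 : act 0 n40472 = n87104 := rfl
def n87105 : Q := act 1 n40472
theorem D87105 : act 1 n40472 = n87105 := rfl
def n87106 : Q := act 2 n40472
theorem D87106 : act 2 n40472 = n87106 := rfl
theorem F133708 : act 4 n87106 = n43831 := d1_2 (iv4 F61571) D87106 (iv2 D43831)
def n87107 : Q := act 5 n40472
theorem D87107 : act 5 n40472 = n87107 := rfl
theorem F133709 : act 3 n87107 = n40473 := d6_1 D87107 (iv5 D40473) D40472
def n87108 : Q := act 6 n40472
theorem D87108 : act 6 n40472 = n87108 := rfl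
theorem F133710 : act 3 n87108 = n40474 := d7_1 D87108 (iv6 D40474) D40472
theorem F133711 : act 4 n87108 = n42338 := d10_1 D87108 F65377 (iv4 F61571)
def n87109 : Q := act 6 n40473
theorem D87109 : act 6 n40473 = n87109 := rfl
def n87110 : Q := act 5 n40474
theorem D87110 : act 5 n40474 = n87110 := rfl
theorem F133712 : act 0 n87110 = n48429 := d17_2 F70811 D87110 (iv5 D48429) (iv4 D23578) (iv5 D11046) F66773 D10259 D21501 D45017
def n87111 : Q := act 2 n40475
theorem D87111 : act 2 n40475 = n87111 := rfl
theorem F133713 : act 7 n40476 = n87111 := d15_2 (iv0 D40475) D40476 (iv2 D87111)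
def n87112 : Q := act 3 n40475
theorem D87112 : act 3 n40475 = n87112 := rfl
def n87113 : Q := act 4 n40475
theorem D87113 : act 4 n40475 = n87113 := rfl
def n87116 : Q := act 7 n40475
theorem D87116 : act 7 n40475 = n87116 := rfl
theorem F133714 : act 2 n87116 = n40476 := d4_1 D87116 F133713 (iv2 D87111)
def n87117 : Q := act 3 n40476
theorem D87117 : act 3 n40476 = n87117 := rfl
def n87120 : Q := act 5 n40477
theorem D87120 : act 5 n40477 = n87120 := rfl
theorem F133715 : act 2 n87120 = n40478 := d2_1 D87120 (iv5 D40478) D40477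
def n87121 : Q := act 0 n40478
theorem D87121 : act 0 n40478 = n87121 := rfl
def n87122 : Q := act 1 n40478
theorem D87122 : act 1 n40478 = n87122 := rfl
def n87123 : Q := act 4 n40478
theorem D87123 : act 4 n40478 = n87123 := rfl
def n87124 : Q := act 6 n40478
theorem D87124 : act 6 n40478 = n87124 := rfl
theorem F133717 : act 3 n87124 = n40482 := d7_1 D87124 (iv6 D40482) (iv3 F61576)
def n87125 : Q := act 3 n40479
theorem D87125 : act 3 n40479 = n87125 := rfl
theorem F133718 : act 5 n87125 = n48518 := d6_2 (iv5 F61577) D87125 (iv3 D48518)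
def n87126 : Q := act 6 n40479
theorem D87126 : act 6 n40479 = n87126 := rfl
def n87127 : Q := act 3 n40480
theorem D87127 : act 3 n40480 = n87127 := rfl
theorem F133719 : act 5 n87127 = n43569 := d6_2 (iv5 F61578) D87127 (iv3 D43569)
def n87128 : Q := act 6 n40480
theorem D87128 : act 6 n40480 = n87128 := rfl
def n87129 : Q := act 3 n40481
theorem D87129 : act 3 n40481 = n87129 := rfl
def n87130 : Q := act 6 n40481
theorem D87130 : act 6 n40481 = n87130 := rfl
theorem F133720 : act 4 n87130 = n40482 := d10_1 D87130 (iv6 D40482) D40481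
def n87131 : Q := act 0 n40482
theorem D87131 : act 0 n40482 = n87131 := rfl
def n87132 : Q := act 1 n40482
theorem D87132 : act 1 n40482 = n87132 := rfl
def n87133 : Q := act 7 n40482
theorem D87133 : act 7 n40482 = n87133 := rfl
def n87134 : Q := act 0 n40483
theorem D87134 : act 0 n40483 = n87134 := rfl
theorem F133721 : act 1 n40488 = n87134 := d15_0 (iv0 D87134) (iv7 F61579) (iv2 F61580)
def n87136 : Q := act 3 n40483
theorem D87136 : act 3 n40483 = n87136 := rfl
theorem F133723 : act 7 n87136 = n40489 := d8_2 F61579 D87136 (iv3 D40489)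
def n87137 : Q := act 4 n40483
theorem D87137 : act 4 n40483 = n87137 := rfl
theorem F133724 : act 2 n87137 = n40485 := d1_1 D87137 (iv4 D40485) D40483
theorem F133725 : act 7 n87137 = n40490 := d11_2 F61579 D87137 (iv4 D40490)
def n87138 : Q := act 5 n40483
theorem D87138 : act 5 n40483 = n87138 := rfl
theorem F133726 : act 2 n87138 = n40486 := d2_1 D87138 (iv5 D40486) D40483
theorem F133727 : act 7 n87138 = n40491 := d13_2 F61579 D87138 (iv5 D40491)
def n87140 : Q := act 0 n40484
theorem D87140 : act 0 n40484 = n87140 := rfl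
def n87141 : Q := act 1 n40484
theorem D87141 : act 1 n40484 = n87141 := rfl
theorem F133729 : act 3 n47741 = n87141 := d20_3 (iv4 F17636) D22972 D47741 (iv1 D87141) (iv3 D40484) D40485 F76471 (iv4 D48619) (iv3 D23704) (iv1 D11097)
def n87142 : Q := act 2 n40484
theorem D87142 : act 2 n40484 = n87142 := rfl
def n87143 : Q := act 5 n40484
theorem D87143 : act 5 n40484 = n87143 := rfl
theorem F133730 : act 3 n87143 = n40486 := d6_1 D87143 (iv5 D40486) D40484
def n87145 : Q := act 7 n40484
theorem D87145 : act 7 n40484 = n87145 := rfl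
theorem F133732 : act 3 n87145 = n40488 := d8_1 D87145 (iv7 D40488) D40484
def n87146 : Q := act 1 n40485
theorem D87146 : act 1 n40485 = n87146 := rfl
theorem F133733 : act 1 n87146 = n40490 := d15_1 D87146 (iv7 F133725) F133724
def n87147 : Q := act 3 n40485
theorem D87147 : act 3 n40485 = n87147 := rfl
def n87150 : Q := act 7 n40485
theorem D87150 : act 7 n40485 = n87150 := rfl
theorem F133735 : act 2 n87150 = n40490 := d4_1 D87150 (iv7 F133725) F133724
theorem F133737 : act 1 n40490 = n48619 := d15_0 (iv0 F76471) D87150 F133735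
theorem F133738 : act 0 n40489 = n47741 := d20_10 (iv4 D47741) (iv1 F64575) F64573 F31620 (iv1 F31625) D23704 D48619 (iv1 F133737) (iv4 D40490) D40489
def n87152 : Q := act 1 n40486
theorem D87152 : act 1 n40486 = n87152 := rfl
theorem F133739 : act 1 n87152 = n40491 := d15_1 D87152 (iv7 F133727) F133726
def n87161 : Q := act 1 n40489
theorem D87161 : act 1 n40489 = n87161 := rfl
def n87162 : Q := act 2 n40489
theorem D87162 : act 2 n40489 = n87162 := rfl
def n87163 : Q := act 4 n40489
theorem D87163 : act 4 n40489 = n87163 := rfl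
theorem F133744 : act 0 n42048 = n87163 := d20_1 D42048 (iv4 D87163) (iv3 D40489) (iv1 D19132) (iv3 D8978) (iv4 D4005) (iv1 F3054) D4207 D9327 D19828
theorem F133745 : act 5 n40489 = n48570 := d18_4 D19828 D42048 F133744 (iv4 D87163) (iv4 F76458) (iv0 D48600) (iv4 D23700) (iv0 D11096) (iv5 F14513)
theorem E14370 : n48572 = n19132 := (c6_3 F133745 (iv3 D48570) D48572 D40489)
theorem E14371 : n40491 = n23689 := ((D40491).symm.trans (sb E14370 (iv5 D48572)))
theorem E14372 : n87152 = n11092 := ((((iv1 D23689)).symm.trans (sb E14371 (iv1 F133739)))).symm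
theorem F133746 : act 5 n23689 = n19132 := (sb E14371 (iv5 D40491))
theorem E14376 : n40486 = n23688 := (((D23688).symm.trans (sb E14372 (iv1 D87152)))).symm
theorem E14377 : n87143 = n42686 := (((F66905).symm.trans (sb E14376 (iv3 F133730)))).symm
theorem E14379 : n48567 = n19131 := ((D48567).symm.trans (sb E14376 (iv5 D40486)))
theorem F133749 : act 5 n42686 = n40484 := (sb E14377 (iv5 D87143))
theorem F133750 : act 5 n19131 = n23688 := (sb E14379 (iv5 D48567))
theorem E14381 : n43036 = n42996 := ((c18_5 (iv1 F36839) (iv4 F61575) F67361 (iv4 D42995) D42996 F67384 F76406 F76403 F36843 F133750)).symm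
theorem E14382 : n20313 = n20305 := (((F67362).symm.trans (sb E14381 (iv3 D43036)))).symm
theorem F133751 : act 4 n42996 = n40476 := (sb E14381 F67384)
theorem E14383 : n43005 = n9606 := ((D43005).symm.trans (sb E14382 (iv1 D20313)))
theorem E14384 : n43006 = n9608 := ((D43006).symm.trans (sb E14382 F32232))
theorem E14390 : n20312 = n20310 := ((D20312).symm.trans (sb E14383 (iv1 F67374)))
theorem F133753 : act 0 n9608 = n20305 := (sb E14384 (iv1 D43006))
theorem F133754 : act 0 n20310 = n9608 := (sb E14390 (iv1 F32231))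
theorem F133755 : act 1 n20310 = n9606 := (sb E14390 (iv0 D20312))
theorem E14395 : n43635 = n42687 := (c17_7 (iv1 F32228) D20310 F133754 F14970 (iv4 F15251) D20638 D43635 (iv5 D42687) F66902 F66900)
theorem F133756 : act 0 n42687 = n20638 := (sb E14395 (iv1 D43635))
theorem F133758 : act 5 n87113 = n48616 := d18_4 (iv1 D19132) (iv4 F30737) D40475 D87113 F76469 (iv0 D48546) F36835 D23689 F133746
def n87165 : Q := act 3 n40490
theorem D87165 : act 3 n40490 = n87165 := rfl
theorem F133760 : act 0 n44559 = n87165 := d20_4 (iv4 F31685) (iv1 F32894) (iv4 F33434) D44559 (iv3 D87165) (iv4 D40490) (iv1 D19132) (iv4 F30737) (iv3 D19129) D19127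
def n87172 : Q := act 5 n40493
theorem D87172 : act 5 n40493 = n87172 := rfl
theorem F133765 : act 0 n46227 = n87172 := d21_10 (iv5 D87172) (iv1 F61587) F56752 (iv6 F33752) (iv1 F33754) D44500 (iv5 F124537) (iv1 F124538) (iv5 D46226) D46227
def n87173 : Q := act 6 n40493
theorem D87173 : act 6 n40493 = n87173 := rfl
theorem F133766 : act 2 n87173 = n79106 := d3_1 D87173 (iv6 D79106) (iv2 F115903)
theorem F133767 : act 3 n87173 = n77419 := d7_1 D87173 (iv6 D77419) F91404
theorem F133768 : act 0 n87173 = n81733 := d21_4 F131323 F133765 (iv5 D87172) D87173 (iv6 D81733) F88170 (iv1 F125465) (iv5 F121424) (iv6 F121423) (iv1 F131324)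
theorem F133769 : act 5 n87173 = n44979 := d21_6 F16143 (iv1 D8980) D8981 D19135 D40493 D87173 (iv1 D44979) (iv5 D21474) (iv6 D10249) (iv1 F16141)
theorem F133770 : act 2 n44979 = n44502 := d2_1 F133769 (iv5 F120371) (iv2 F133766)
theorem F133771 : act 7 n44501 = n44979 := d15_2 F70719 F70720 F133770
theorem F133772 : act 7 n44978 = n44502 := d15_2 F70712 F70718 (iv2 F133770)
theorem F133773 : act 2 n44501 = n44978 := d4_3 F133772 (iv2 F133770) (iv7 F133771)
theorem F133774 : act 3 n78059 = n44978 := d8_3 F133772 F120372 (iv7 F119312)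
theorem F133775 : act 3 n44501 = n77967 := d0_2 F133774 (iv2 F133773) (iv2 F123643) (iv3 D78131) (iv2 F119311)
theorem F133776 : act 4 n81497 = n44978 := d20_2 D37213 D81497 (iv3 F133774) (iv1 F119255) F56301 (iv4 F56307) (iv1 F56309) (iv4 D27906) D27905 (iv1 F116795)
def n87174 : Q := act 6 n40496
theorem D87174 : act 6 n40496 = n87174 := rfl
def n87175 : Q := act 0 n40497
theorem D87175 : act 0 n40497 = n87175 := rfl
theorem F133781 : act 1 n45045 = n87175 := d15_0 (iv0 D87175) F61608 D45045
def n87176 : Q := act 1 n40497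
theorem D87176 : act 1 n40497 = n87176 := rfl
def n87177 : Q := act 2 n40497
theorem D87177 : act 2 n40497 = n87177 := rfl
theorem F133782 : act 3 n87177 = n87049 := d0_2 D40497 D87177 (iv2 D87049) (iv3 D40446) (iv2 F30752)
theorem F133783 : act 7 n87177 = n45045 := d4_2 (iv7 F61608) D87177 (iv2 D45045)
theorem F133784 : act 1 n87177 = n45043 := d15_0 (iv0 D45043) (iv7 F61608) D87177
theorem F133785 : act 1 n87176 = n45045 := d15_1 D87176 (iv7 F133783) (iv2 D87177)
theorem F133786 : act 1 n45044 = n87177 := d15_1 D45044 F133783 (iv2 D45045)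
def n87178 : Q := act 5 n40497
theorem D87178 : act 5 n40497 = n87178 := rfl
theorem F133787 : act 3 n87178 = n40498 := d6_1 D87178 (iv5 D40498) D40497
theorem F133788 : act 7 n87178 = n45046 := d13_2 (iv7 F61608) D87178 (iv5 D45046)
def n87179 : Q := act 6 n40498
theorem D87179 : act 6 n40498 = n87179 := rfl
def n87180 : Q := act 0 n40499
theorem D87180 : act 0 n40499 = n87180 := rfl
def n87181 : Q := act 1 n40499
theorem D87181 : act 1 n40499 = n87181 := rfl
def n87182 : Q := act 2 n40499
theorem D87182 : act 2 n40499 = n87182 := rfl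
def n87183 : Q := act 5 n40499
theorem D87183 : act 5 n40499 = n87183 := rfl
theorem F133792 : act 3 n87183 = n40500 := d6_1 D87183 (iv5 D40500) D40499
def n87184 : Q := act 6 n40500
theorem D87184 : act 6 n40500 = n87184 := rfl
theorem F133793 : act 2 n87184 = n40527 := d3_1 D87184 (iv6 D40527) (iv2 F61612)
def n87185 : Q := act 3 n40501
theorem D87185 : act 3 n40501 = n87185 := rfl
theorem F133794 : act 4 n87185 = n41269 := d5_2 (iv4 F61613) D87185 (iv3 D41269) (iv4 D19413) (iv3 F31071)
theorem F133795 : act 7 n87185 = n86882 := d8_2 F61616 D87185 (iv3 D86882)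
def n87187 : Q := act 3 n40502
theorem D87187 : act 3 n40502 = n87187 := rfl
theorem F133798 : act 4 n87187 = n43119 := d5_2 (iv4 F61619) D87187 (iv3 D43119) F32283 (iv3 F31690)
theorem F133799 : act 7 n87187 = n87064 := d8_2 (iv7 F61618) D87187 (iv3 D87064)
def n87188 : Q := act 0 n40503
theorem D87188 : act 0 n40503 = n87188 := rfl
theorem F133800 : act 1 n87068 = n87188 := d15_0 (iv0 D87188) F61621 D87068
def n87189 : Q := act 1 n40503
theorem D87189 : act 1 n40503 = n87189 := rfl
def n87190 : Q := act 2 n40503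
theorem D87190 : act 2 n40503 = n87190 := rfl
theorem F133801 : act 3 n87190 = n87086 := d0_2 D40503 D87190 (iv2 D87086) (iv3 D40463) (iv2 F30755)
theorem F133802 : act 7 n87190 = n87068 := d4_2 (iv7 F61621) D87190 (iv2 D87068)
theorem F133804 : act 1 n87189 = n87068 := d15_1 D87189 (iv7 F133802) (iv2 D87190)
def n87191 : Q := act 5 n40503
theorem D87191 : act 5 n40503 = n87191 := rfl
theorem F133806 : act 3 n87191 = n40504 := d6_1 D87191 (iv5 D40504) D40503
theorem F133807 : act 7 n87191 = n87069 := d13_2 (iv7 F61621) D87191 (iv5 D87069)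
def n87192 : Q := act 6 n40503
theorem D87192 : act 6 n40503 = n87192 := rfl
def n87193 : Q := act 6 n40504
theorem D87193 : act 6 n40504 = n87193 := rfl
theorem F133809 : act 2 n87193 = n87089 := d3_1 D87193 (iv6 D87089) (iv2 F61622)
def n87194 : Q := act 0 n40505
theorem D87194 : act 0 n40505 = n87194 := rfl
theorem F133810 : act 4 n87194 = n43571 := d20_2 (iv4 F61625) D87194 (iv3 F68479) F64666 F32186 (iv4 F32207) (iv1 F32210) (iv4 F32202) D20380 F63354
def n87195 : Q := act 1 n40505
theorem D87195 : act 1 n40505 = n87195 := rfl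
theorem F133811 : act 1 n87195 = n87093 := d15_1 D87195 (iv7 D87093) (iv2 F61624)
def n87197 : Q := act 7 n40505
theorem D87197 : act 7 n40505 = n87197 := rfl
theorem F133813 : act 2 n87197 = n87093 := d4_1 D87197 (iv7 D87093) (iv2 F61624)
theorem F133814 : act 4 n87197 = n40508 := d11_1 D87197 (iv7 D40508) (iv4 F61625)
theorem F133816 : act 1 n87093 = n87194 := d15_0 (iv0 D87194) D87197 F133813
theorem F133817 : act 1 n87091 = n87197 := d15_1 D87091 (iv7 D87197) F61624
theorem F133818 : act 4 n87091 = n42953 := d20_2 (iv4 F133814) (iv1 F133817) (iv3 D42953) (iv1 D20286) F14954 (iv4 F14959) D20292 (iv4 F32199) D20378 F63266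
theorem F133819 : act 7 n87194 = n87091 := d11_0 F133818 F68480 (iv4 F133810)
theorem F133820 : act 2 n87091 = n87195 := d15_3 F133811 F133816 F133819
theorem F133821 : act 2 n87194 = n87090 := d15_3 (iv0 D87090) D87091 (iv7 F133819)
theorem F133822 : act 7 n87090 = n87195 := d4_2 (iv7 F133819) F133821 (iv2 F133820)
theorem F133823 : act 1 n87197 = n87090 := d15_1 F133817 F133822 (iv2 F133820)
theorem F133824 : act 4 n87195 = n43572 := d1_2 (iv4 F133818) F133820 F133582
def n87198 : Q := act 4 n40506
theorem D87198 : act 4 n40506 = n87198 := rfl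
theorem F133826 : act 2 n87198 = n43213 := d1_1 D87198 (iv4 D43213) (iv2 F63352)
def n87199 : Q := act 0 n40509
theorem D87199 : act 0 n40509 = n87199 := rfl
def n87200 : Q := act 1 n40509
theorem D87200 : act 1 n40509 = n87200 := rfl
def n87202 : Q := act 0 n40510
theorem D87202 : act 0 n40510 = n87202 := rfl
def n87205 : Q := act 5 n40510
theorem D87205 : act 5 n40510 = n87205 := rfl
theorem F133839 : act 3 n87205 = n40511 := d6_1 D87205 (iv5 D40511) D40510
theorem F133840 : act 7 n87205 = n87087 := d13_2 (iv7 F61636) D87205 (iv5 D87087)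
def n87206 : Q := act 6 n40510
theorem D87206 : act 6 n40510 = n87206 := rfl
theorem F133841 : act 3 n87206 = n40512 := d7_1 D87206 (iv6 D40512) D40510
def n87207 : Q := act 6 n40511
theorem D87207 : act 6 n40511 = n87207 := rfl
def n87208 : Q := act 0 n40512
theorem D87208 : act 0 n40512 = n87208 := rfl
def n87209 : Q := act 1 n40512
theorem D87209 : act 1 n40512 = n87209 := rfl
theorem F133843 : act 1 n87209 = n87075 := d15_1 D87209 (iv7 D87075) (iv2 F61639)
theorem F133844 : act 4 n87209 = n42893 := d20_2 (iv4 F133671) (iv1 F133843) (iv3 D42893) (iv1 D20260) F14935 (iv4 F14938) D20266 (iv4 F32134) D20356 F66735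
theorem F133845 : act 7 n87072 = n87209 := d11_0 F133844 F67199 (iv4 F133669)
theorem F133846 : act 1 n42893 = n42591 := d18_8 (iv1 F76095) (iv4 F71881) (iv1 D45590) F34210 (iv5 F30764) (iv4 F61640) D87209 F133844 (iv5 F69515)
theorem F133847 : act 3 n87199 = n42595 := d20_5 (iv4 F133844) (iv1 D87209) F61640 (iv3 F61634) D87199 (iv4 F73133) (iv1 F68540) F66439 (iv3 F66425) (iv1 F133846)
theorem F133848 : act 2 n43134 = n87199 := d0_5 F133847 (iv2 F74904) F74905 F66858 D43134
theorem F133849 : act 4 n42886 = n87199 := d20_2 (iv4 F32127) D42886 F133847 (iv1 F133656) F133651 (iv4 F133671) (iv1 F133843) F133844 (iv3 D42893) (iv1 D20260)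
theorem F133850 : act 7 n87200 = n43134 := d15_2 (iv0 D87199) D87200 F133848
theorem F133851 : act 3 n41403 = n87200 := d8_3 F133850 (iv3 D43134) (iv7 F66860)
theorem F133854 : act 2 n87072 = n87208 := d15_3 (iv0 D87208) D87209 (iv7 F133845)
theorem F133855 : act 7 n87073 = n87208 := d15_2 (iv0 D87072) D87073 (iv2 F133854)
theorem F133856 : act 2 n87209 = n87073 := d4_3 F133855 (iv2 F133854) F133845
def n87211 : Q := act 7 n40512
theorem D87211 : act 7 n40512 = n87211 := rfl
theorem F133860 : act 4 n87211 = n40515 := d11_1 D87211 (iv7 D40515) (iv4 F61640)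
theorem F133862 : act 1 n87073 = n87211 := d15_1 D87073 (iv7 D87211) F61639
theorem F133863 : act 1 n87211 = n87072 := d15_1 F133862 F133845 F133856
theorem F133864 : act 4 n44176 = n45570 := d18_1 D44176 (iv1 F71888) F71884 (iv5 F61644) (iv4 F133860) F133863 F133669 (iv0 D42589) (iv5 F33173)
theorem F133865 : act 7 n44364 = n44176 := d11_0 F133864 F127462 F71881
def n87213 : Q := act 0 n40516
theorem D87213 : act 0 n40516 = n87213 := rfl
def n87214 : Q := act 1 n40516
theorem D87214 : act 1 n40516 = n87214 := rfl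
def n87215 : Q := act 2 n40516
theorem D87215 : act 2 n40516 = n87215 := rfl
def n87216 : Q := act 5 n40516
theorem D87216 : act 5 n40516 = n87216 := rfl
theorem F133870 : act 3 n87216 = n40517 := d6_1 D87216 (iv5 D40517) D40516
theorem F133871 : act 7 n87216 = n87125 := d13_2 F76357 D87216 F133718
def n87217 : Q := act 6 n40516
theorem D87217 : act 6 n40516 = n87217 := rfl
theorem F133872 : act 3 n87217 = n40518 := d7_1 D87217 (iv6 D40518) D40516
def n87218 : Q := act 6 n40517
theorem D87218 : act 6 n40517 = n87218 := rfl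
theorem F133873 : act 2 n87218 = n87128 := d3_1 D87218 (iv6 D87128) (iv2 F61649)
def n87219 : Q := act 0 n40518
theorem D87219 : act 0 n40518 = n87219 := rfl
def n87220 : Q := act 1 n40518
theorem D87220 : act 1 n40518 = n87220 := rfl
def n87221 : Q := act 5 n40518
theorem D87221 : act 5 n40518 = n87221 := rfl
def n87222 : Q := act 7 n40518
theorem D87222 : act 7 n40518 = n87222 := rfl
def n87223 : Q := act 0 n40519
theorem D87223 : act 0 n40519 = n87223 := rfl
def n87224 : Q := act 1 n40519
theorem D87224 : act 1 n40519 = n87224 := rfl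
def n87225 : Q := act 2 n40519
theorem D87225 : act 2 n40519 = n87225 := rfl
theorem F133876 : act 4 n87225 = n42603 := d1_2 (iv4 F61653) D87225 (iv2 D42603)
def n87226 : Q := act 5 n40519
theorem D87226 : act 5 n40519 = n87226 := rfl
theorem F133877 : act 3 n87226 = n40520 := d6_1 D87226 (iv5 D40520) D40519
theorem F133878 : act 7 n87226 = n87127 := d13_2 F68474 D87226 F133719
def n87228 : Q := act 6 n40520
theorem D87228 : act 6 n40520 = n87228 := rfl
def n87231 : Q := act 2 n40522
theorem D87231 : act 2 n40522 = n87231 := rfl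
theorem F133885 : act 7 n40523 = n87231 := d15_2 (iv0 D40522) D40523 (iv2 D87231)
def n87232 : Q := act 3 n40522
theorem D87232 : act 3 n40522 = n87232 := rfl
def n87233 : Q := act 4 n40522
theorem D87233 : act 4 n40522 = n87233 := rfl
theorem F133886 : act 1 n87233 = n48620 := d18_8 D48616 F76469 (iv1 F76402) F61575 (iv5 F36822) (iv4 F76362) F76364 D87233 (iv5 D48620)
def n87234 : Q := act 5 n40522
theorem D87234 : act 5 n40522 = n87234 := rfl
def n87236 : Q := act 7 n40522
theorem D87236 : act 7 n40522 = n87236 := rfl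
theorem F133887 : act 2 n87236 = n40523 := d4_1 D87236 F133885 (iv2 D87231)
def n87242 : Q := act 4 n40525
theorem D87242 : act 4 n40525 = n87242 := rfl
def n87243 : Q := act 6 n40525
theorem D87243 : act 6 n40525 = n87243 := rfl
theorem F133889 : act 3 n87243 = n40527 := d7_1 D87243 (iv6 D40527) (iv3 F61660)
def n87244 : Q := act 3 n40526
theorem D87244 : act 3 n40526 = n87244 := rfl
def n87245 : Q := act 6 n40526
theorem D87245 : act 6 n40526 = n87245 := rfl
theorem F133890 : act 4 n87245 = n40527 := d10_1 D87245 (iv6 D40527) D40526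
def n87246 : Q := act 0 n40527
theorem D87246 : act 0 n40527 = n87246 := rfl
def n87247 : Q := act 1 n40527
theorem D87247 : act 1 n40527 = n87247 := rfl
def n87248 : Q := act 7 n40527
theorem D87248 : act 7 n40527 = n87248 := rfl
def n87250 : Q := act 1 n40528
theorem D87250 : act 1 n40528 = n87250 := rfl
theorem F133892 : act 1 n87250 = n40533 := d15_1 D87250 (iv7 D40533) D40528
def n87251 : Q := act 3 n40528
theorem D87251 : act 3 n40528 = n87251 := rfl
theorem F133893 : act 7 n87251 = n40534 := d8_2 F61661 D87251 (iv3 D40534)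
def n87252 : Q := act 4 n40528
theorem D87252 : act 4 n40528 = n87252 := rfl
theorem F133894 : act 2 n87252 = n40530 := d1_1 D87252 (iv4 D40530) D40528
theorem F133895 : act 7 n87252 = n40535 := d11_2 F61661 D87252 (iv4 D40535)
def n87253 : Q := act 5 n40528
theorem D87253 : act 5 n40528 = n87253 := rfl
theorem F133896 : act 2 n87253 = n40531 := d2_1 D87253 (iv5 D40531) D40528
theorem F133897 : act 7 n87253 = n40536 := d13_2 F61661 D87253 (iv5 D40536)
def n87255 : Q := act 0 n40529
theorem D87255 : act 0 n40529 = n87255 := rfl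
def n87256 : Q := act 1 n40529
theorem D87256 : act 1 n40529 = n87256 := rfl
def n87257 : Q := act 2 n40529
theorem D87257 : act 2 n40529 = n87257 := rfl
def n87258 : Q := act 5 n40529
theorem D87258 : act 5 n40529 = n87258 := rfl
theorem F133899 : act 3 n87258 = n40531 := d6_1 D87258 (iv5 D40531) D40529
def n87260 : Q := act 7 n40529
theorem D87260 : act 7 n40529 = n87260 := rfl
theorem F133901 : act 3 n87260 = n40533 := d8_1 D87260 (iv7 D40533) D40529
def n87261 : Q := act 0 n40530
theorem D87261 : act 0 n40530 = n87261 := rfl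
theorem F133902 : act 4 n87261 = n43147 := d20_2 D40530 D87261 (iv3 D43147) (iv1 D20351) (iv3 D9634) (iv4 D4338) F3119 D4019 D8997 D19148
def n87262 : Q := act 1 n40530
theorem D87262 : act 1 n40530 = n87262 := rfl
def n87263 : Q := act 3 n40530
theorem D87263 : act 3 n40530 = n87263 := rfl
def n87266 : Q := act 7 n40530
theorem D87266 : act 7 n40530 = n87266 := rfl
theorem F133905 : act 2 n87266 = n40535 := d4_1 D87266 (iv7 F133895) F133894
theorem F133907 : act 1 n40535 = n87261 := d15_0 (iv0 D87261) D87266 F133905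
def n87268 : Q := act 1 n40531
theorem D87268 : act 1 n40531 = n87268 := rfl
theorem F133908 : act 1 n87268 = n40536 := d15_1 D87268 (iv7 F133897) F133896
def n87277 : Q := act 0 n40534
theorem D87277 : act 0 n40534 = n87277 := rfl
theorem F133913 : act 4 n87277 = n43123 := d20_0 (iv1 F67629) F67627 F32340 (iv1 F32345) D43147 (iv4 F133902) (iv1 F133907) (iv4 D40535) D40534 D87277
theorem F133914 : act 5 n40534 = n40534 := d18_9 D87277 F133913 (iv1 F67629) F67627 F32341 (iv4 F67627) F67629 (iv4 F133913) (iv0 D87277)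
theorem E14396 : n40536 = n19149 := (c6_3 F133914 (iv3 D40534) D40536 D40534)
theorem E14397 : n87268 = n8997 := ((((iv1 D19149)).symm.trans (sb E14396 (iv1 F133908)))).symm
theorem F133915 : act 5 n19149 = n19149 := (sb E14396 (iv5 D40536))
theorem E14401 : n40531 = n19148 := (((D19148).symm.trans (sb E14397 (iv1 D87268)))).symm
theorem E14402 : n87258 = n40529 := (((D40529).symm.trans (sb E14401 (iv3 F133899)))).symm
theorem F133918 : act 5 n19148 = n19148 := (sb E14401 (iv5 D40531))
theorem F133919 : act 5 n40529 = n40529 := (sb E14402 (iv5 D87258))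
theorem E14405 : n43045 = n20315 := (c18_10 (iv1 F32238) (iv4 F32752) (iv1 F67395) (iv4 F67396) F133919 F67396 F67395 F32752 F32238 D43045)
theorem F133923 : act 5 n20315 = n20315 := (sb E14405 (iv5 D43045))
theorem F133926 : act 5 n43047 = n43047 := d13_3 (iv7 D43047) F133923 D43047
theorem E14406 : n43050 = n20316 := (c2_3 F133926 F67393 D43050 (iv2 F67393))
theorem F133927 : act 5 n20316 = n20316 := (sb E14406 (iv5 D43050))
theorem F133929 : act 5 n42693 = n43053 := d17_7 (iv1 F32239) F133927 (iv1 D20316) (iv5 D9607) (iv4 F14759) D20145 D42693 F67395 F32752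
theorem F133931 : act 1 n87120 = n87234 := d17_6 D19148 F133918 (iv1 F36824) F36822 (iv4 F61575) D87120 (iv5 D87234) (iv0 D40522) F30766
theorem F133932 : act 1 n87234 = n48548 := d15_1 F133931 F76408 (iv2 F133715)
theorem F133934 : act 5 n87233 = n87233 := d18_4 (iv1 D19149) (iv4 F30766) D40522 D87233 (iv4 D87233) (iv0 D40522) F30766 D19149 F133915
theorem E14407 : n42992 = n23704 := (c17_1 D42992 D48620 (iv1 F133886) F133934 (iv4 D87233) D87234 F133932 (iv5 D48548) (iv0 F67360) (iv4 D42995))
theorem E14408 : n48617 = n20303 := ((D48617).symm.trans (sb E14407 (iv0 D42992)))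
theorem F133935 : act 0 n20303 = n23704 := (sb E14408 (iv1 D48617))
theorem F133936 : act 4 n87141 = n43000 := d20_6 D48619 (iv1 F133737) (iv4 D40490) D40489 F133738 F133729 (iv1 D43000) (iv4 D20304) D20303 F133935
theorem F133937 : act 7 n42993 = n48618 := d15_2 (iv0 F133935) D42993 (iv2 D48618)
theorem F133938 : act 2 n42998 = n48616 := d15_3 (iv0 D48616) (iv0 F133935) D42998
theorem E14409 : n48595 = n43017 := (c0_3 (iv3 F67364) F133938 F76470 (iv2 D43017) (iv3 D20308) (iv2 F32230))
theorem F133939 : act 0 n43017 = n23699 := (sb E14409 (iv1 D48595))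
theorem F133940 : act 3 n43017 = n48616 := (sb E14409 (iv3 F76470))
theorem F133941 : act 7 n48616 = n42994 := d4_2 D42998 F133938 (iv2 D42994)
theorem F133942 : act 1 n42993 = n48616 := d15_1 D42993 F133941 (iv2 D42994)
theorem F133943 : act 2 n48590 = n42993 := d15_3 F133942 (iv0 D48616) (iv7 F76449)
theorem E14410 : n48596 = n43015 := ((c0_3 D48590 F133943 (iv3 F67377) (iv2 D48596) (iv3 D23699) D23698)).symm
theorem F133944 : act 2 n43015 = n23699 := (sb E14410 (iv2 D48596))
theorem F133945 : act 2 n42081 = n41286 := d1_3 (iv4 F67376) F133944 F64986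
theorem E14411 : n48599 = n43016 := ((c15_2 (iv0 D43015) D43016 (iv7 D48599) (iv2 F133944))).symm
theorem F133946 : act 3 n43016 = n23703 := (sb E14411 F76457)
theorem F133947 : act 7 n43016 = n23699 := (sb E14411 (iv7 D48599))
theorem F133948 : act 7 n41287 = n42081 := d15_2 (iv0 D41286) D41287 F133945
theorem F133949 : act 7 n42080 = n41286 := d15_2 F64990 F64985 (iv2 F133945)
theorem F133950 : act 2 n41287 = n42080 := d4_3 F133949 (iv2 F133945) (iv7 F133948)
theorem E14412 : n43016 = n42047 := (c11_3 F133948 (iv4 F64986) (iv7 F133947) F64927)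
theorem F133951 : act 0 n42047 = n20308 := (sb E14412 (iv1 D43016))
theorem E14413 : n23703 = n19828 := ((((iv3 D42047)).symm.trans (sb E14412 F133946))).symm
theorem F133952 : act 7 n42047 = n23699 := (sb E14412 F133947)
theorem E14414 : n48589 = n11098 := ((((iv1 F31619)).symm.trans (sb E14413 (iv1 F76448)))).symm
theorem E14416 : n42046 = n11097 := ((D42046).symm.trans (sb E14413 F36854))
theorem E14417 : n48605 = n42048 := (((D42048).symm.trans (sb E14413 (iv4 F76462)))).symm
theorem E14418 : n48610 = n42049 := (((D42049).symm.trans (sb E14413 (iv5 F76466)))).symm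
theorem E14421 : n23698 = n19829 := ((((iv1 F31624)).symm.trans (sb E14414 (iv1 D48589)))).symm
theorem F133953 : act 2 n11097 = n19828 := (sb E14416 (iv2 D42046))
theorem F133954 : act 2 n42048 = n23705 := (sb E14417 F76461)
theorem F133955 : act 7 n42048 = n23700 := (sb E14417 (iv7 D48605))
theorem F133956 : act 2 n42049 = n23706 := (sb E14418 F76465)
theorem F133957 : act 7 n42049 = n23701 := (sb E14418 (iv7 D48610))
theorem E14422 : n48590 = n42052 := (((D42052).symm.trans (sb E14421 D48590))).symm
theorem E14423 : n48591 = n42053 := (((D42053).symm.trans (sb E14421 D48591))).symm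
theorem E14424 : n48592 = n42054 := (((D42054).symm.trans (sb E14421 D48592))).symm
theorem F133961 : act 7 n19829 = n11097 := (sb E14421 (iv7 F36853))
theorem F133962 : act 2 n42052 = n42993 := (sb E14422 F133943)
theorem F133963 : act 7 n42052 = n23704 := (sb E14422 F76449)
theorem F133964 : act 2 n42053 = n23700 := (sb E14423 F76450)
theorem F133965 : act 7 n42053 = n23705 := (sb E14423 F76451)
theorem F133966 : act 2 n42054 = n23701 := (sb E14424 F76452)
theorem F133967 : act 7 n42054 = n23706 := (sb E14424 F76453)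
theorem F133969 : act 1 n42053 = n87163 := d15_0 (iv0 F133744) F133955 (iv2 F133964)
theorem F133970 : act 0 n42052 = n87113 := d20_10 (iv4 D87113) (iv1 F76405) F76403 F36840 (iv1 F36845) D40489 D87163 (iv1 F133969) (iv4 D42053) D42052
theorem F133971 : act 1 n48618 = n87113 := d15_0 (iv0 F133970) F133963 D48618
theorem F133972 : act 3 n43000 = n43306 := d5_1 F133936 (iv4 F75013) (iv3 D47740) D47741 F133729
theorem F133973 : act 3 n87277 = n87256 := d20_3 (iv4 F32285) D43123 (iv4 F133913) (iv1 D87256) (iv3 D40529) D40530 D87261 F133902 (iv3 D43147) (iv1 D20351)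
def n87278 : Q := act 1 n40534
theorem D87278 : act 1 n40534 = n87278 := rfl
def n87279 : Q := act 2 n40534
theorem D87279 : act 2 n40534 = n87279 := rfl
theorem F133974 : act 5 n87279 = n87279 := d2_2 F133914 D87279 (iv2 D87279)
def n87280 : Q := act 4 n40534
theorem D87280 : act 4 n40534 = n87280 := rfl
theorem F133975 : act 0 n87280 = n48625 := d20_7 (iv4 D87233) (iv1 F76364) F76362 F36821 (iv1 F36826) D40534 D87280 (iv4 D48625) (iv3 F76472) (iv1 F133886)
theorem F133976 : act 0 n43196 = n87280 := d20_1 D43196 (iv4 D87280) (iv3 D40534) (iv1 D19149) (iv3 D8997) (iv4 D4019) (iv1 F3124) D4344 D9654 D20372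
def n87282 : Q := act 3 n40535
theorem D87282 : act 3 n40535 = n87282 := rfl
theorem F133978 : act 0 n87064 = n87282 := d20_4 F32696 (iv1 F32695) (iv4 F61551) D87064 (iv3 D87282) (iv4 D40535) (iv1 D19149) (iv4 F30766) (iv3 D19146) D19144
def n87289 : Q := act 0 n40538
theorem D87289 : act 0 n40538 = n87289 := rfl
def n87290 : Q := act 1 n40538
theorem D87290 : act 1 n40538 = n87290 := rfl
def n87291 : Q := act 2 n40538
theorem D87291 : act 2 n40538 = n87291 := rfl
theorem F133981 : act 3 n87291 = n41288 := d0_2 D40538 D87291 (iv2 D41288) (iv3 D19420) (iv2 F30768)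
theorem F133982 : act 4 n87291 = n87291 := d1_2 F61663 D87291 (iv2 D87291)
def n87292 : Q := act 5 n40538
theorem D87292 : act 5 n40538 = n87292 := rfl
theorem F133983 : act 3 n87292 = n40539 := d6_1 D87292 (iv5 D40539) D40538
def n87293 : Q := act 6 n40539
theorem D87293 : act 6 n40539 = n87293 := rfl
theorem F133984 : act 2 n87293 = n41293 := d3_1 D87293 (iv6 D41293) (iv2 F61664)
theorem F133985 : act 4 n87293 = n79962 := d10_1 D87293 (iv6 D79962) (iv4 F61665)
def n87294 : Q := act 5 n40541
theorem D87294 : act 5 n40541 = n87294 := rfl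
theorem F133986 : act 2 n87294 = n43259 := d2_1 D87294 (iv5 D43259) (iv2 F63478)
theorem F133987 : act 3 n87294 = n42103 := d6_1 D87294 (iv5 D42103) F63474
theorem F133988 : act 7 n87294 = n43257 := d13_2 F63479 D87294 (iv5 D43257)
theorem F133989 : act 6 n42624 = n87294 := d21_5 F31644 (iv1 D9489) D9492 D20119 D42624 (iv5 D87294) (iv1 D40541) D40542 F61668 F32426
theorem F133990 : act 1 n87294 = n42525 := d15_0 (iv0 F66359) (iv7 F67817) (iv2 F133986)
def n87295 : Q := act 6 n40541
theorem D87295 : act 6 n40541 = n87295 := rfl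
theorem F133992 : act 3 n87295 = n42104 := d7_1 D87295 (iv6 D42104) F63474
theorem F133993 : act 4 n87295 = n44869 := d10_1 D87295 F73007 (iv4 F63715)
theorem F133995 : act 0 n87295 = n82492 := d21_4 D42525 (iv1 F133990) (iv5 D87294) D87295 F133534 F133533 (iv1 D48228) (iv5 D23385) D23386 F73907
theorem F133996 : act 0 n44632 = n45347 := d20_7 F127131 (iv1 F74126) F64475 (iv3 F64446) F70664 F65881 (iv4 F70180) F71461 (iv3 F133992) F133995
theorem F133997 : act 0 n40548 = n87295 := d18_0 F133993 (iv1 F72705) F72702 (iv5 F35543) D46477 (iv0 F73406) F67528 (iv0 F66302) F66301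
def n87296 : Q := act 0 n40542
theorem D87296 : act 0 n40542 = n87296 := rfl
def n87297 : Q := act 1 n40542
theorem D87297 : act 1 n40542 = n87297 := rfl
theorem F133998 : act 1 n87297 = n43263 := d15_1 D87297 (iv7 D43263) (iv2 F61667)
theorem F133999 : act 3 n42106 = n87297 := d20_3 (iv4 F70282) (iv1 F71495) (iv4 F125248) (iv1 D87297) (iv3 F61795) (iv4 F61797) (iv1 F71488) (iv4 D45355) F66793 (iv1 F34046)
theorem F134000 : act 5 n43372 = n87297 := d21_6 (iv5 D4030) (iv1 F6470) (iv5 F7060) D9730 D20494 D43372 (iv1 D87297) (iv5 D40542) (iv6 D19153) (iv1 D9001)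
theorem F134001 : act 2 n87297 = n43262 := d2_1 F134000 (iv5 F67822) (iv2 F68131)
theorem F134002 : act 7 n87297 = n43261 := d13_2 (iv7 F73904) F134000 F73906
theorem F134003 : act 0 n42526 = n43372 := d21_10 F134000 (iv1 D87297) (iv5 D40542) (iv6 D19153) (iv1 D9001) D9002 F14002 D19154 D40547 F66297
theorem F134004 : act 1 n42526 = n42776 := d15_1 (iv0 F134003) F67036 (iv2 F68131)
theorem F134005 : act 1 n40875 = n43372 := d15_0 (iv0 F134003) (iv7 D42526) (iv2 F66070)
theorem F134006 : act 1 n42776 = n40875 := d15_0 F134005 F73904 F73905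
theorem E14426 : n46794 = n46756 := ((c20_2 F66071 D46756 (iv4 D46794) F73742 (iv1 F73740) F72345 (iv4 F75222) (iv1 F75224) (iv4 F125245) F125244 (iv1 F134005))).symm
theorem F134007 : act 4 n46756 = n22458 := (sb E14426 (iv4 D46794))
theorem F134008 : act 5 n46756 = n46020 := (sb E14426 F73920)
theorem F134009 : act 7 n46756 = n22912 := (sb E14426 F73919)
theorem F134010 : act 0 n48297 = n43371 := d21_1 (iv5 F75910) (iv5 D43371) D43372 (iv1 F134005) (iv6 D40875) D40874 F75287 (iv5 F127414) (iv6 F127412) (iv1 F69221)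
theorem F134011 : act 1 n48297 = n43373 := d15_1 (iv0 F134010) F68134 (iv2 F68130)
theorem F134012 : act 0 n40915 = n42777 := d20_1 (iv4 F66351) (iv4 D42777) D42776 (iv1 F134004) F66006 (iv4 F66010) F68163 (iv4 F68880) (iv3 F70673) (iv1 F72348)
theorem E14427 : n87296 = n41915 := (c21_11 (iv5 F67035) (iv1 F134004) (iv5 F68437) (iv6 D43543) F66302 (iv6 D38855) (iv5 D18463) F15127 D20414 (iv6 F61668) D87296)
theorem F134013 : act 1 n41915 = n40542 := (sb E14427 (iv0 D87296))
def n87298 : Q := act 4 n40542
theorem D87298 : act 4 n40542 = n87298 := rfl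
theorem F134016 : act 2 n87298 = n41407 := d1_1 D87298 F63854 (iv2 F61667)
theorem F134017 : act 6 n87298 = n41360 := d10_2 (iv6 F61668) D87298 F63763
theorem F134019 : act 1 n87298 = n41863 := d18_6 (iv1 F31137) D19704 F63705 (iv4 F30773) D40542 D87298 (iv4 D41863) F63759 F63756
def n87299 : Q := act 7 n40542
theorem D87299 : act 7 n40542 = n87299 := rfl
theorem F134021 : act 5 n87299 = n40543 := d13_1 D87299 (iv7 D40543) D40542
theorem F134022 : act 6 n87299 = n82479 := d14_1 D87299 (iv7 D82479) F58683 (iv7 F32425) (iv6 F61668)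
theorem F134023 : act 1 n43262 = n87299 := d15_1 D43262 (iv7 D87299) F61667
theorem F134024 : act 1 n87299 = n43261 := d15_1 F134023 (iv7 F134002) F134001
def n87300 : Q := act 7 n40548
theorem D87300 : act 7 n40548 = n87300 := rfl
theorem F134025 : act 2 n87300 = n82492 := d4_1 D87300 (iv7 D82492) (iv2 F66303)
theorem F134027 : act 4 n87300 = n46086 := d11_1 D87300 (iv7 D46086) (iv4 F66299)
theorem F134028 : act 5 n87300 = n43336 := d13_1 D87300 F68032 F66301
theorem F134029 : act 6 n87300 = n43957 := d14_1 D87300 (iv7 D43957) (iv6 D20839) F66241 D40548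
theorem F134030 : act 1 n82491 = n87300 := d15_1 D82491 (iv7 D87300) F66303
def n87301 : Q := act 5 n40553
theorem D87301 : act 5 n40553 = n87301 := rfl
theorem F134032 : act 2 n87301 = n43956 := d2_1 D87301 (iv5 D43956) F66298
theorem F134033 : act 6 n87301 = n47025 := d12_2 D40553 D87301 (iv5 D47025) F61677 (iv5 D40552)
theorem F134034 : act 7 n87301 = n48228 := d13_2 F133531 D87301 (iv5 F133533)
def n87302 : Q := act 6 n40554
theorem D87302 : act 6 n40554 = n87302 := rfl
theorem F134037 : act 2 n87302 = n79387 := d3_1 D87302 (iv6 D79387) (iv2 F61678)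
theorem F134038 : act 4 n87302 = n40615 := d10_1 D87302 (iv6 D40615) (iv4 F61679)
def n87303 : Q := act 5 n40555
theorem D87303 : act 5 n40555 = n87303 := rfl
theorem F134039 : act 2 n87303 = n86480 := d2_1 D87303 (iv5 D86480) (iv2 F61683)
def n87304 : Q := act 7 n40555
theorem D87304 : act 7 n40555 = n87304 := rfl
theorem F134041 : act 4 n87304 = n40559 := d11_1 D87304 (iv7 D40559) (iv4 F61684)
theorem F134042 : act 6 n87304 = n86470 := d14_1 D87304 F132606 (iv6 D40066) (iv7 F30783) D40555
theorem F134043 : act 1 n86369 = n87304 := d15_1 (iv0 F132381) (iv7 D87304) F61683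
theorem F134044 : act 1 n87304 = n86368 := d15_1 F134043 F132375 (iv2 F132377)
def n87305 : Q := act 5 n40557
theorem D87305 : act 5 n40557 = n87305 := rfl
theorem F134045 : act 0 n81784 = n87305 := d21_10 (iv5 D87305) (iv1 D40557) D40558 F61685 (iv1 F31632) (iv6 F44369) (iv5 D27451) D27449 D57333 (iv6 F125716)
def n87306 : Q := act 6 n40557
theorem D87306 : act 6 n40557 = n87306 := rfl
theorem F134046 : act 4 n87306 = n79731 := d10_1 D87306 F132484 (iv4 F132364)
def n87307 : Q := act 0 n40558
theorem D87307 : act 0 n40558 = n87307 := rfl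
def n87308 : Q := act 1 n40558
theorem D87308 : act 1 n40558 = n87308 := rfl
def n87309 : Q := act 4 n40558
theorem D87309 : act 4 n40558 = n87309 := rfl
theorem F134047 : act 6 n87309 = n40560 := d10_2 (iv6 F61685) D87309 (iv4 D40560)
theorem F134048 : act 1 n87309 = n78622 := d18_6 (iv1 F60852) D40211 F126115 F61684 D40558 D87309 (iv4 D78622) F119772 F119771
theorem F134049 : act 0 n87309 = n78619 := d20_7 (iv4 F129297) (iv1 F129298) (iv4 D38847) D38846 F117115 F89002 D87309 (iv4 D78619) (iv3 F121900) (iv1 F121916)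
def n87310 : Q := act 7 n40558
theorem D87310 : act 7 n40558 = n87310 := rfl
theorem F134050 : act 5 n87310 = n40559 := d13_1 D87310 (iv7 D40559) D40558
def n87311 : Q := act 3 n40560
theorem D87311 : act 3 n40560 = n87311 := rfl
theorem F134051 : act 4 n87311 = n77520 := d5_2 D40560 D87311 (iv3 D77520) F56116 F43831
def n87312 : Q := act 5 n40560
theorem D87312 : act 5 n40560 = n87312 := rfl
theorem F134053 : act 4 n87312 = n86896 := d16_2 D40560 D87312 F133320 F64935 (iv5 D19859) (iv4 F30169) D39974 F60832 F33907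
def n87314 : Q := act 7 n40564
theorem D87314 : act 7 n40564 = n87314 := rfl
theorem F134060 : act 4 n87314 = n40567 := d11_1 D87314 (iv7 D40567) (iv4 F61692)
theorem F134062 : act 1 n77276 = n87314 := d15_1 F116681 (iv7 D87314) F61691
def n87315 : Q := act 6 n40566
theorem D87315 : act 6 n40566 = n87315 := rfl
theorem F134064 : act 3 n87315 = n77429 := d7_1 D87315 (iv6 D77429) (iv3 F117340)
def n87316 : Q := act 4 n40568
theorem D87316 : act 4 n40568 = n87316 := rfl
def n87318 : Q := act 3 n40569
theorem D87318 : act 3 n40569 = n87318 := rfl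
theorem F134067 : act 5 n87318 = n80672 := d6_2 F116078 D87318 F124095
def n87320 : Q := act 6 n40570
theorem D87320 : act 6 n40570 = n87320 := rfl
theorem F134068 : act 2 n87320 = n40571 := d3_1 D87320 (iv6 D40571) D40570
theorem F134069 : act 3 n87320 = n71370 := d7_1 D87320 (iv6 D71370) (iv3 F61696)
def n87325 : Q := act 0 n40574
theorem D87325 : act 0 n40574 = n87325 := rfl
theorem F134073 : act 5 n87325 = n86391 := d17_3 (iv1 F121294) D40574 D87325 (iv4 D86391) (iv5 D39992) (iv0 D18911) F13827 F118838 D17725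
theorem F134074 : act 1 n80564 = n87325 := d17_6 (iv1 F125707) (iv5 D40579) (iv1 F44214) F44210 (iv4 F121230) D80564 F134073 F132430 (iv4 F125710)
def n87326 : Q := act 4 n40574
theorem D87326 : act 4 n40574 = n87326 := rfl
def n87328 : Q := act 5 n40578
theorem D87328 : act 5 n40578 = n87328 := rfl
def n87329 : Q := act 6 n40578
theorem D87329 : act 6 n40578 = n87329 := rfl
theorem F134079 : act 2 n87329 = n86380 := d3_1 D87329 (iv6 D86380) (iv2 F121281)
theorem F134080 : act 4 n87329 = n40580 := d10_1 D87329 (iv6 D40580) D40578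
def n87330 : Q := act 6 n40579
theorem D87330 : act 6 n40579 = n87330 := rfl
theorem F134081 : act 2 n87330 = n84497 := d3_1 D87330 F129624 F121483
theorem F134082 : act 3 n87330 = n84139 := d7_1 D87330 (iv6 D84139) F123053
theorem F134083 : act 7 n87330 = n57338 := d14_2 (iv7 F121477) D87330 (iv6 D57338) (iv7 F121172) F89994
theorem F134084 : act 0 n87330 = n57880 := d21_4 F14058 D19165 D40579 D87330 (iv6 D57880) D57879 F126122 (iv5 D81784) (iv6 D37394) (iv1 F121277)
theorem E14428 : n84495 = n57880 := (c15_1 D84495 (iv0 F134084) F134083 F121534)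
theorem F134085 : act 0 n57880 = n38974 := (sb E14428 (iv1 D84495))
theorem F134086 : act 1 n87330 = n84494 := d15_0 (iv0 D84494) D84497 (iv2 F134081)
def n87331 : Q := act 1 n40580
theorem D87331 : act 1 n40580 = n87331 := rfl
def n87332 : Q := act 7 n40580
theorem D87332 : act 7 n40580 = n87332 := rfl
theorem F134087 : act 3 n87332 = n83343 := d8_1 D87332 F128446 (iv3 F121488)
theorem F134088 : act 5 n87332 = n83341 := d13_1 D87332 (iv7 F133308) F133305
def n87333 : Q := act 5 n40586
theorem D87333 : act 5 n40586 = n87333 := rfl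
theorem F134090 : act 3 n87333 = n82632 := d6_1 D87333 F127298 (iv3 F61704)
theorem F134093 : act 4 n87333 = n81111 := d18_5 F118054 D17805 D36996 F120725 D87333 (iv0 D81111) (iv4 D37063) (iv0 F118082) (iv5 D18922)
theorem F134094 : act 0 n87333 = n40737 := d21_1 D87333 (iv5 F128437) (iv6 D83333) F120684 F61368 (iv5 F90525) F121035 F121034 (iv6 D40730) (iv1 F61707)
theorem F134095 : act 0 n40736 = n87333 := d21_10 (iv5 D87333) (iv1 F61706) D40734 (iv6 F127351) (iv1 F127358) F61844 F61843 (iv1 F120688) D45276 (iv6 F121003)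
def n87334 : Q := act 6 n40590
theorem D87334 : act 6 n40590 = n87334 := rfl
def n87335 : Q := act 6 n40591
theorem D87335 : act 6 n40591 = n87335 := rfl
def n87336 : Q := act 6 n40592
theorem D87336 : act 6 n40592 = n87336 := rfl
theorem F134096 : act 3 n87336 = n40594 := d7_1 D87336 (iv6 D40594) (iv3 F61713)
def n87337 : Q := act 0 n40593
theorem D87337 : act 0 n40593 = n87337 := rfl
def n87338 : Q := act 1 n40593
theorem D87338 : act 1 n40593 = n87338 := rfl
def n87339 : Q := act 5 n40593
theorem D87339 : act 5 n40593 = n87339 := rfl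
theorem F134097 : act 3 n87339 = n40597 := d6_1 D87339 (iv5 D40597) (iv3 F61714)
def n87340 : Q := act 0 n40594
theorem D87340 : act 0 n40594 = n87340 := rfl
def n87341 : Q := act 1 n40594
theorem D87341 : act 1 n40594 = n87341 := rfl
def n87342 : Q := act 5 n40594
theorem D87342 : act 5 n40594 = n87342 := rfl
theorem F134098 : act 6 n87342 = n40597 := d12_2 D40594 D87342 (iv5 D40597) (iv6 D19172) D19171
def n87343 : Q := act 7 n40594
theorem D87343 : act 7 n40594 = n87343 := rfl
def n87344 : Q := act 0 n40597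
theorem D87344 : act 0 n40597 = n87344 := rfl
theorem F134099 : act 5 n87344 = n40864 := d17_3 F63561 D40597 D87344 (iv4 D40864) (iv5 D19262) (iv0 D9057) (iv5 F13911) D19061 D40326
theorem F134100 : act 2 n41232 = n87344 := d15_3 (iv0 D87344) F63563 (iv7 F62455)
theorem F134101 : act 7 n87344 = n41258 := d4_2 (iv7 F62455) F134100 F63570
def n87345 : Q := act 4 n40597
theorem D87345 : act 4 n40597 = n87345 := rfl
theorem F134102 : act 0 n87345 = n86992 := d18_2 (iv1 F63563) D87345 (iv4 D86992) (iv5 F63559) F62378 F35406 (iv4 F63249) F63248 D41223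
theorem F134103 : act 1 n87345 = n86995 := d18_6 (iv1 F61383) (iv4 F31273) F63558 (iv4 F30803) D40597 D87345 (iv4 D86995) F133352 F133351
def n87346 : Q := act 0 n40599
theorem D87346 : act 0 n40599 = n87346 := rfl
def n87347 : Q := act 1 n40599
theorem D87347 : act 1 n40599 = n87347 := rfl
def n87348 : Q := act 5 n40599
theorem D87348 : act 5 n40599 = n87348 := rfl
theorem F134104 : act 6 n87348 = n40602 := d12_2 D40599 D87348 (iv5 D40602) (iv6 D19174) D19173
def n87349 : Q := act 7 n40599
theorem D87349 : act 7 n40599 = n87349 := rfl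
def n87350 : Q := act 0 n40602
theorem D87350 : act 0 n40602 = n87350 := rfl
theorem F134105 : act 5 n87350 = n42777 := d17_3 F63711 D40602 D87350 (iv4 D42777) F66104 (iv0 D19732) (iv5 D9257) D9256 D19729
theorem F134106 : act 7 n48243 = n87350 := d13_0 F134105 F67037 D48243
def n87351 : Q := act 1 n40602
theorem D87351 : act 1 n40602 = n87351 := rfl
theorem F134107 : act 5 n42779 = n87351 := d21_6 D9014 D19180 F30822 D19271 (iv1 F66875) (iv6 F67044) (iv1 D87351) (iv5 D40602) (iv6 D19174) (iv1 D9012)
theorem F134108 : act 2 n87351 = n48243 := d2_1 F134107 (iv5 D48243) (iv2 F67043)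
def n87352 : Q := act 4 n40602
theorem D87352 : act 4 n40602 = n87352 := rfl
def n87353 : Q := act 7 n40602
theorem D87353 : act 7 n40602 = n87353 := rfl
theorem F134109 : act 5 n87353 = n40603 := d13_1 D87353 (iv7 D40603) D40602
theorem F134110 : act 1 n48243 = n87353 := d15_1 (iv0 F75841) (iv7 D87353) (iv2 F70215)
def n87354 : Q := act 0 n40604
theorem D87354 : act 0 n40604 = n87354 := rfl
def n87355 : Q := act 1 n40604
theorem D87355 : act 1 n40604 = n87355 := rfl
def n87356 : Q := act 5 n40604
theorem D87356 : act 5 n40604 = n87356 := rfl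
theorem F134111 : act 3 n87356 = n56723 := d6_1 D87356 (iv5 D56723) (iv3 F61718)
theorem F134112 : act 6 n87356 = n54448 := d12_2 D40604 D87356 (iv5 D54448) (iv6 D26333) (iv5 F30807)
def n87357 : Q := act 7 n40604
theorem D87357 : act 7 n40604 = n87357 := rfl
theorem F134113 : act 3 n87357 = n56724 := d8_1 D87357 (iv7 D56724) (iv3 F61718)
theorem F134114 : act 6 n87357 = n70666 := d14_1 D87357 (iv7 D70666) (iv6 D32772) F30809 D40604
def n87358 : Q := act 6 n40605
theorem D87358 : act 6 n40605 = n87358 := rfl
theorem F134115 : act 2 n87358 = n81924 := d3_1 D87358 (iv6 D81924) (iv2 F61719)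
theorem F134116 : act 3 n87358 = n40606 := d7_1 D87358 (iv6 D40606) D40605
theorem F134117 : act 4 n87358 = n81924 := d10_1 D87358 (iv6 D81924) (iv4 F61720)
def n87359 : Q := act 0 n40606
theorem D87359 : act 0 n40606 = n87359 := rfl
def n87360 : Q := act 1 n40606
theorem D87360 : act 1 n40606 = n87360 := rfl
theorem F134118 : act 1 n87360 = n70666 := d15_1 D87360 (iv7 D70666) (iv2 F61722)
def n87361 : Q := act 5 n40606
theorem D87361 : act 5 n40606 = n87361 := rfl
theorem F134119 : act 2 n87361 = n70665 := d2_1 D87361 (iv5 D70665) (iv2 F61722)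
theorem F134120 : act 6 n87361 = n70602 := d12_2 D40606 D87361 (iv5 D70602) (iv6 D32750) (iv5 F30811)
def n87362 : Q := act 7 n40606
theorem D87362 : act 7 n40606 = n87362 := rfl
theorem F134121 : act 2 n87362 = n70666 := d4_1 D87362 (iv7 D70666) (iv2 F61722)
theorem F134122 : act 4 n87362 = n87357 := d11_1 D87362 (iv7 D87357) (iv4 F61723)
theorem F134123 : act 1 n70666 = n87359 := d15_0 (iv0 D87359) D87362 F134121
theorem F134124 : act 1 n70664 = n87362 := d15_1 D70664 (iv7 D87362) F61722
theorem F134125 : act 1 n87362 = n70663 := d15_0 (iv0 D70663) D70666 (iv2 F134121)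
def n87363 : Q := act 0 n40607
theorem D87363 : act 0 n40607 = n87363 := rfl
def n87364 : Q := act 1 n40607
theorem D87364 : act 1 n40607 = n87364 := rfl
theorem F134126 : act 1 n87364 = n40612 := d15_1 D87364 (iv7 D40612) (iv2 F61724)
theorem F134127 : act 3 n87364 = n46042 := d20_5 (iv4 D9896) F66166 (iv4 F30826) (iv3 F61729) (iv1 F134126) (iv4 D46042) (iv1 D21997) (iv4 F34392) F34391 (iv1 F65811)
theorem F134128 : act 4 n87364 = n86918 := d20_0 (iv1 D86918) F61396 F58833 (iv1 F62616) F16553 (iv4 D9896) F66166 (iv4 F30826) (iv3 F61729) (iv1 F134126)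
def n87365 : Q := act 5 n40607
theorem D87365 : act 5 n40607 = n87365 := rfl
theorem F134129 : act 2 n87365 = n40611 := d2_1 D87365 (iv5 D40611) (iv2 F61724)
theorem F134130 : act 6 n87365 = n69966 := d12_2 D40607 D87365 (iv5 D69966) (iv6 D32483) F30814
def n87366 : Q := act 7 n40607
theorem D87366 : act 7 n40607 = n87366 := rfl
theorem F134131 : act 2 n87366 = n40612 := d4_1 D87366 (iv7 D40612) (iv2 F61724)
theorem F134132 : act 1 n40612 = n87363 := d15_0 (iv0 D87363) D87366 F134131
theorem F134133 : act 1 n40610 = n87366 := d15_1 D40610 (iv7 D87366) F61724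
theorem F134134 : act 4 n46036 = n87363 := d20_0 (iv1 F134132) (iv4 F64282) F64281 (iv1 F66221) F16037 (iv4 D10027) (iv1 F62531) (iv4 F30609) (iv3 F61395) F72625
theorem F134135 : act 1 n87366 = n40609 := d15_0 (iv0 D40609) D40612 (iv2 F134131)
def n87367 : Q := act 0 n40608
theorem D87367 : act 0 n40608 = n87367 := rfl
def n87368 : Q := act 1 n40608
theorem D87368 : act 1 n40608 = n87368 := rfl
theorem F134136 : act 1 n87368 = n69967 := d15_1 D87368 (iv7 D69967) (iv2 F61725)
def n87369 : Q := act 5 n40608
theorem D87369 : act 5 n40608 = n87369 := rfl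
theorem F134137 : act 2 n87369 = n69966 := d2_1 D87369 (iv5 D69966) (iv2 F61725)
theorem F134138 : act 3 n87369 = n40618 := d6_1 D87369 (iv5 D40618) (iv3 F61726)
theorem F134139 : act 6 n87369 = n40611 := d12_2 D40608 D87369 (iv5 D40611) (iv6 D19179) D19178
def n87370 : Q := act 7 n40608
theorem D87370 : act 7 n40608 = n87370 := rfl
theorem F134140 : act 2 n87370 = n69967 := d4_1 D87370 (iv7 D69967) (iv2 F61725)
theorem F134143 : act 6 n87370 = n69971 := d14_1 D87370 (iv7 D69971) (iv6 D32484) (iv7 F30817) D40608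
theorem F134144 : act 1 n69967 = n87367 := d15_0 (iv0 D87367) D87370 F134140
def n87371 : Q := act 2 n40609
theorem D87371 : act 2 n40609 = n87371 := rfl
theorem F134147 : act 7 n40610 = n87371 := d15_2 (iv0 D40609) D40610 (iv2 D87371)
def n87372 : Q := act 4 n40609
theorem D87372 : act 4 n40609 = n87372 := rfl
theorem F134148 : act 0 n87372 = n44251 := d20_1 D87372 (iv4 F71979) (iv3 D45650) (iv1 D21823) F16571 (iv4 D9904) (iv1 F66169) (iv4 F14074) (iv3 F30821) D40609
def n87373 : Q := act 5 n40609
theorem D87373 : act 5 n40609 = n87373 := rfl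
def n87374 : Q := act 6 n40609
theorem D87374 : act 6 n40609 = n87374 := rfl
def n87375 : Q := act 7 n40609
theorem D87375 : act 7 n40609 = n87375 := rfl
theorem F134149 : act 2 n87375 = n40610 := d4_1 D87375 F134147 (iv2 D87371)
def n87376 : Q := act 3 n40610
theorem D87376 : act 3 n40610 = n87376 := rfl
def n87377 : Q := act 4 n40610
theorem D87377 : act 4 n40610 = n87377 := rfl
theorem F134150 : act 0 n44251 = n87377 := d20_10 (iv4 D87377) (iv1 D40610) (iv4 F31386) F31385 (iv1 F66224) F16017 (iv4 D10016) D10013 D21036 D44251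
theorem F134151 : act 3 n46032 = n87377 := d20_5 (iv4 D10194) (iv1 F65750) (iv4 F16702) (iv3 F34497) (iv1 F72614) (iv4 D87377) (iv1 D40610) (iv4 F31386) F31385 (iv1 F66224)
theorem F134152 : act 1 n86917 = n87377 := d15_0 (iv0 F134150) F69619 (iv2 F133370)
def n87378 : Q := act 5 n40610
theorem D87378 : act 5 n40610 = n87378 := rfl
def n87379 : Q := act 6 n40610
theorem D87379 : act 6 n40610 = n87379 := rfl
def n87380 : Q := act 0 n40611
theorem D87380 : act 0 n40611 = n87380 := rfl
def n87381 : Q := act 1 n40611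
theorem D87381 : act 1 n40611 = n87381 := rfl
def n87382 : Q := act 4 n40611
theorem D87382 : act 4 n40611 = n87382 := rfl
def n87383 : Q := act 7 n40611
theorem D87383 : act 7 n40611 = n87383 := rfl
theorem F134153 : act 3 n87383 = n40633 := d8_1 D87383 (iv7 D40633) (iv3 F61728)
theorem F134154 : act 5 n87383 = n40612 := d13_1 D87383 (iv7 D40612) D40611
def n87384 : Q := act 6 n40613
theorem D87384 : act 6 n40613 = n87384 := rfl
theorem F134155 : act 3 n87384 = n40614 := d7_1 D87384 (iv6 D40614) D40613
def n87385 : Q := act 0 n40614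
theorem D87385 : act 0 n40614 = n87385 := rfl
def n87386 : Q := act 1 n40614
theorem D87386 : act 1 n40614 = n87386 := rfl
def n87387 : Q := act 5 n40614
theorem D87387 : act 5 n40614 = n87387 := rfl
theorem F134156 : act 6 n87387 = n40885 := d12_2 D40614 D87387 (iv5 D40885) (iv6 D19271) (iv5 F30822)
def n87388 : Q := act 7 n40614
theorem D87388 : act 7 n40614 = n87388 := rfl
def n87389 : Q := act 0 n40615
theorem D87389 : act 0 n40615 = n87389 := rfl
def n87390 : Q := act 1 n40615
theorem D87390 : act 1 n40615 = n87390 := rfl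
def n87391 : Q := act 5 n40615
theorem D87391 : act 5 n40615 = n87391 := rfl
def n87392 : Q := act 7 n40615
theorem D87392 : act 7 n40615 = n87392 := rfl
def n87393 : Q := act 2 n40616
theorem D87393 : act 2 n40616 = n87393 := rfl
theorem F134158 : act 7 n40617 = n87393 := d15_2 (iv0 D40616) D40617 (iv2 D87393)
def n87394 : Q := act 3 n40616
theorem D87394 : act 3 n40616 = n87394 := rfl
def n87395 : Q := act 4 n40616
theorem D87395 : act 4 n40616 = n87395 := rfl
def n87396 : Q := act 5 n40616
theorem D87396 : act 5 n40616 = n87396 := rfl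
def n87397 : Q := act 6 n40616
theorem D87397 : act 6 n40616 = n87397 := rfl
def n87398 : Q := act 7 n40616
theorem D87398 : act 7 n40616 = n87398 := rfl
theorem F134159 : act 2 n87398 = n40617 := d4_1 D87398 F134158 (iv2 D87393)
def n87399 : Q := act 3 n40617
theorem D87399 : act 3 n40617 = n87399 := rfl
def n87400 : Q := act 4 n40617
theorem D87400 : act 4 n40617 = n87400 := rfl
def n87401 : Q := act 5 n40617
theorem D87401 : act 5 n40617 = n87401 := rfl
def n87402 : Q := act 6 n40617
theorem D87402 : act 6 n40617 = n87402 := rfl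
def n87403 : Q := act 0 n40618
theorem D87403 : act 0 n40618 = n87403 := rfl
def n87404 : Q := act 1 n40618
theorem D87404 : act 1 n40618 = n87404 := rfl
def n87405 : Q := act 4 n40618
theorem D87405 : act 4 n40618 = n87405 := rfl
theorem F134160 : act 6 n87405 = n40632 := d10_2 (iv6 F61731) D87405 (iv4 D40632)
def n87406 : Q := act 7 n40618
theorem D87406 : act 7 n40618 = n87406 := rfl
theorem F134161 : act 5 n87406 = n40619 := d13_1 D87406 (iv7 D40619) D40618
def n87407 : Q := act 0 n40621
theorem D87407 : act 0 n40621 = n87407 := rfl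
def n87408 : Q := act 1 n40621
theorem D87408 : act 1 n40621 = n87408 := rfl
def n87409 : Q := act 5 n40621
theorem D87409 : act 5 n40621 = n87409 := rfl
theorem F134162 : act 3 n87409 = n40623 := d6_1 D87409 (iv5 D40623) D40621
def n87410 : Q := act 6 n40621
theorem D87410 : act 6 n40621 = n87410 := rfl
theorem F134163 : act 3 n87410 = n40624 := d7_1 D87410 (iv6 D40624) D40621
def n87411 : Q := act 1 n40623
theorem D87411 : act 1 n40623 = n87411 := rfl
theorem F134164 : act 1 n87411 = n40628 := d15_1 D87411 (iv7 F133437) F133436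
theorem F134165 : act 5 n87411 = n41233 := d17_7 F72228 F35404 F64031 (iv5 D21910) F66226 D40623 D87411 F63568 (iv4 F72229)
def n87412 : Q := act 4 n40623
theorem D87412 : act 4 n40623 = n87412 := rfl
def n87413 : Q := act 6 n40623
theorem D87413 : act 6 n40623 = n87413 := rfl
def n87414 : Q := act 7 n40624
theorem D87414 : act 7 n40624 = n87414 := rfl
theorem F134166 : act 4 n87414 = n45814 := d11_1 D87414 (iv7 D45814) (iv4 F66310)
theorem F134167 : act 5 n87414 = n48195 := d13_1 D87414 F133445 (iv5 F62143)
theorem F134168 : act 1 n43986 = n87414 := d15_1 (iv0 F133442) (iv7 D87414) (iv2 F133438)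
theorem F134169 : act 1 n87414 = n43984 := d15_1 F134168 (iv7 F133566) F133564
def n87415 : Q := act 4 n40628
theorem D87415 : act 4 n40628 = n87415 := rfl
def n87416 : Q := act 6 n40628
theorem D87416 : act 6 n40628 = n87416 := rfl
def n87417 : Q := act 1 n40629
theorem D87417 : act 1 n40629 = n87417 := rfl
def n87418 : Q := act 5 n40629
theorem D87418 : act 5 n40629 = n87418 := rfl
theorem F134170 : act 2 n87418 = n48238 := d2_1 D87418 F75831 F70441
theorem F134171 : act 1 n87418 = n48217 := d17_6 D21464 D44951 F72361 (iv5 D45817) (iv4 F66305) D87418 (iv5 D48217) F66875 F30927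
theorem F134172 : act 1 n48220 = n87418 := d15_0 F134171 F75785 (iv2 F75794)
theorem E14429 : n87417 = n44005 := (c17_9 (iv1 D20889) (iv5 F32001) F66137 (iv5 D23370) D23369 D48220 F134172 (iv5 D87418) D87417 (iv4 D44005))
theorem F134173 : act 0 n44005 = n40629 := (sb E14429 (iv1 D87417))
theorem F134174 : act 7 n48239 = n87418 := d15_2 (iv0 D48238) D48239 F134170
theorem F134175 : act 5 n87016 = n48239 := d13_3 F134174 (iv5 D87418) (iv7 F133550)
def n87419 : Q := act 3 n40630
theorem D87419 : act 3 n40630 = n87419 := rfl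
def n87420 : Q := act 4 n40630
theorem D87420 : act 4 n40630 = n87420 := rfl
theorem F134176 : act 5 n87420 = n87415 := d16_1 D87420 (iv4 D87415) (iv5 D40628) (iv4 F66230) D21915 D45816 F72357 F133450 (iv2 F133449)
theorem F134177 : act 1 n87420 = n45810 := d18_6 F66259 (iv4 F34883) F64031 D45812 F72342 D87420 (iv4 D45810) D45809 (iv5 F72320)
def n87421 : Q := act 6 n40630
theorem D87421 : act 6 n40630 = n87421 := rfl
def n87422 : Q := act 3 n40631
theorem D87422 : act 3 n40631 = n87422 := rfl
def n87423 : Q := act 4 n40631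
theorem D87423 : act 4 n40631 = n87423 := rfl
theorem F134178 : act 5 n87423 = n87412 := d9_2 F72357 D87423 (iv4 D87412) (iv5 D40623) (iv4 F66226) D21910 D45812 F72342 D87420 F134176 (iv4 D87415) (iv5 D40628) (iv4 F66230) D21915 D45816
theorem F134179 : act 0 n87423 = n45810 := d18_2 (iv1 F69183) D87423 (iv4 D45810) (iv5 D21905) F16643 D10449 F66230 F66223 D43989
def n87424 : Q := act 6 n40631
theorem D87424 : act 6 n40631 = n87424 := rfl
def n87425 : Q := act 0 n40632
theorem D87425 : act 0 n40632 = n87425 := rfl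
def n87426 : Q := act 1 n40632
theorem D87426 : act 1 n40632 = n87426 := rfl
theorem F134180 : act 4 n87426 = n42725 := d18_7 (iv1 D20885) (iv4 D9904) (iv1 F66169) (iv4 F14074) D19185 D40632 D87426 (iv0 F69208) (iv5 D43996)
def n87427 : Q := act 3 n40632
theorem D87427 : act 3 n40632 = n87427 := rfl
def n87428 : Q := act 5 n40632
theorem D87428 : act 5 n40632 = n87428 := rfl
theorem F134181 : act 4 n87428 = n43989 := d16_2 D40632 D87428 (iv5 D43989) (iv4 D20879) F33542 D20879 D43989 F69182 F61440
theorem F134182 : act 7 n87428 = n86946 := d16_8 (iv4 D40632) (iv5 D19185) F14074 F7214 (iv4 F14074) D19185 D40632 D87428 F133455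
theorem F134183 : act 1 n87426 = n87428 := d15_1 D87426 F134182 F133455
def n87429 : Q := act 7 n40632
theorem D87429 : act 7 n40632 = n87429 := rfl
theorem F134184 : act 2 n87429 = n87428 := d4_1 D87429 F134182 F133455
theorem F134185 : act 4 n87429 = n40633 := d11_1 D87429 (iv7 D40633) D40632
theorem F134186 : act 5 n87429 = n86946 := d13_1 D87429 (iv7 F134182) (iv5 D87428)
theorem F134187 : act 1 n87428 = n87425 := d15_0 (iv0 D87425) D87429 F134184
def n87430 : Q := act 6 n40633
theorem D87430 : act 6 n40633 = n87430 := rfl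
def n87431 : Q := act 5 n40649
theorem D87431 : act 5 n40649 = n87431 := rfl
theorem F134188 : act 3 n87431 = n40650 := d6_1 D87431 (iv5 D40650) D40649
def n87432 : Q := act 6 n40649
theorem D87432 : act 6 n40649 = n87432 := rfl
theorem F134189 : act 3 n87432 = n40651 := d7_1 D87432 (iv6 D40651) D40649
theorem F134190 : act 4 n87432 = n87432 := d10_1 D87432 (iv6 D87432) F66326
def n87433 : Q := act 4 n40650
theorem D87433 : act 4 n40650 = n87433 := rfl
theorem F134191 : act 2 n87433 = n43976 := d1_1 D87433 (iv4 D43976) (iv2 F66324)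
theorem F134192 : act 5 n87433 = n87426 := d16_1 D87433 F134180 (iv5 D42725) F31999 (iv5 F14774) D9904 D20886 F33032 (iv2 F66324)
def n87434 : Q := act 6 n40650
theorem D87434 : act 6 n40650 = n87434 := rfl
theorem F134193 : act 2 n87434 = n43977 := d3_1 D87434 (iv6 D43977) (iv2 F66324)
def n87435 : Q := act 1 n40651
theorem D87435 : act 1 n40651 = n87435 := rfl
theorem F134194 : act 1 n87435 = n43723 := d15_1 D87435 F68735 (iv2 F66325)
theorem F134195 : act 7 n87435 = n43978 := d15_2 F68685 D87435 (iv2 F69139)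
theorem F134196 : act 6 n41187 = n87435 := d21_3 D9092 D19365 D41187 (iv1 D87435) (iv6 D40651) D40650 F66322 (iv5 D41182) (iv6 D19364) (iv1 D9091)
theorem F134197 : act 2 n87435 = n43979 := d3_1 F134196 (iv6 F69146) F64441
theorem F134198 : act 5 n87435 = n43698 := d21_6 F69709 (iv1 D44293) (iv5 D21081) D21082 F63070 F134196 (iv1 F68682) (iv5 D43655) D43656 F69711
def n87436 : Q := act 7 n40651
theorem D87436 : act 7 n40651 = n87436 := rfl
theorem F134199 : act 2 n87436 = n43723 := d4_1 D87436 F68735 (iv2 F66325)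
theorem F134200 : act 4 n87436 = n40657 := d11_1 D87436 (iv7 D40657) (iv4 F61747)
theorem F134201 : act 5 n87436 = n47138 := d13_1 D87436 F74389 (iv5 F66321)
theorem F134202 : act 1 n43979 = n87436 := d15_1 D43979 (iv7 D87436) F66325
theorem F134203 : act 1 n87436 = n43978 := d15_1 F134202 (iv7 F134195) F134197
def n87437 : Q := act 3 n40653
theorem D87437 : act 3 n40653 = n87437 := rfl
theorem F134204 : act 4 n87437 = n87437 := d5_2 D40653 D87437 (iv3 D87437) (iv4 D40653) F66148
def n87438 : Q := act 5 n40653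
theorem D87438 : act 5 n40653 = n87438 := rfl
theorem F134205 : act 2 n87438 = n43983 := d2_1 D87438 (iv5 D43983) F66162
theorem F134206 : act 7 n87438 = n45809 := d13_2 F62296 D87438 (iv5 F72320)
theorem F134207 : act 0 n87438 = n43996 := d17_2 (iv1 F66334) D87438 (iv5 D43996) F65808 F16645 F34356 D45768 (iv0 F72230) F70444
theorem F134208 : act 1 n87438 = n41680 := d17_6 (iv1 F66169) F7214 D9016 D19190 D40653 D87438 (iv5 D41680) F65821 (iv4 D9904)
theorem F134209 : act 4 n87438 = n87425 := d18_5 F72358 F61978 (iv1 F31068) D40653 D87438 (iv0 D87425) (iv4 D40632) D40631 (iv5 F72357)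
theorem F134210 : act 5 n43998 = n87425 := d9_14 (iv5 D87438) (iv4 D40653) (iv5 D19190) D19189 D40650 D87433 F134192 F134180 (iv5 D42725) F31999 (iv5 F14774) D9904 D20886 D43998 (iv4 F134209)
def n87439 : Q := act 6 n40653
theorem D87439 : act 6 n40653 = n87439 := rfl
theorem F134211 : act 2 n87439 = n42764 := d3_1 D87439 F67008 F66162
theorem F134213 : act 7 n87439 = n42752 := d14_2 F62296 D87439 (iv6 D42752) F66084 D40937
theorem F134214 : act 0 n87439 = n42762 := d21_4 D41680 (iv1 F134208) (iv5 D87438) D87439 F67003 D47145 F74404 (iv5 D44001) (iv6 D20887) (iv1 F65821)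
theorem F134215 : act 1 n87439 = n42761 := d15_1 (iv0 F134214) F75203 F67004
def n87440 : Q := act 0 n40672
theorem D87440 : act 0 n40672 = n87440 := rfl
def n87441 : Q := act 1 n40672
theorem D87441 : act 1 n40672 = n87441 := rfl
def n87443 : Q := act 5 n40672
theorem D87443 : act 5 n40672 = n87443 := rfl
theorem F134221 : act 3 n87443 = n40673 := d6_1 D87443 (iv5 D40673) D40672
def n87445 : Q := act 7 n40676
theorem D87445 : act 7 n40676 = n87445 := rfl
theorem F134226 : act 5 n87445 = n40677 := d13_1 D87445 (iv7 D40677) D40676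
def n87446 : Q := act 6 n40678
theorem D87446 : act 6 n40678 = n87446 := rfl
theorem F134230 : act 3 n87446 = n40680 := d7_1 D87446 (iv6 D40680) D40678
theorem F134231 : act 4 n87446 = n55427 := d10_1 D87446 (iv6 D55427) (iv4 F61779)
def n87447 : Q := act 6 n40679
theorem D87447 : act 6 n40679 = n87447 := rfl
theorem F134232 : act 2 n87447 = n81443 := d3_1 D87447 (iv6 D81443) (iv2 F61782)
theorem F134233 : act 4 n87447 = n44529 := d10_1 D87447 (iv6 D44529) (iv4 F61784)
def n87448 : Q := act 5 n40680
theorem D87448 : act 5 n40680 = n87448 := rfl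
def n87449 : Q := act 7 n40680
theorem D87449 : act 7 n40680 = n87449 := rfl
theorem F134237 : act 6 n87449 = n81562 := d14_1 D87449 F125456 (iv6 D37267) (iv7 F30842) D40680
def n87450 : Q := act 4 n40683
theorem D87450 : act 4 n40683 = n87450 := rfl
theorem F134241 : act 1 n87450 = n45291 := d18_6 (iv1 F33846) D21593 (iv1 F120757) F61788 D40683 D87450 (iv4 D45291) F70946 F70943
theorem F134242 : act 0 n87450 = n45287 := d20_1 D87450 (iv4 D45287) D45286 (iv1 F127258) F58817 (iv4 F58903) (iv1 F118474) (iv4 D46241) D46240 F122066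
def n87451 : Q := act 7 n40683
theorem D87451 : act 7 n40683 = n87451 := rfl
theorem F134244 : act 5 n87451 = n40684 := d13_1 D87451 (iv7 D40684) D40683
theorem F134246 : act 1 n79488 = n87451 := d15_1 (iv0 F122080) (iv7 D87451) (iv2 F70531)
theorem F134247 : act 1 n87451 = n80871 := d15_1 F134246 F124591 (iv2 F122078)
def n87452 : Q := act 3 n40685
theorem D87452 : act 3 n40685 = n87452 := rfl
theorem F134248 : act 4 n87452 = n81400 := d5_2 D40685 D87452 (iv3 D81400) F58113 F44232
def n87453 : Q := act 5 n40685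
theorem D87453 : act 5 n40685 = n87453 := rfl
theorem F134251 : act 4 n87453 = n45563 := d16_2 D40685 D87453 (iv5 D45563) F34190 (iv5 D19200) (iv4 F16135) D21428 F33651 F33649
def n87454 : Q := act 5 n40686
theorem D87454 : act 5 n40686 = n87454 := rfl
theorem F134254 : act 2 n87454 = n42102 := d2_1 D87454 (iv5 D42102) (iv2 F63699)
theorem F134256 : act 7 n87454 = n42103 := d13_2 (iv7 F63700) D87454 (iv5 D42103)
def n87455 : Q := act 0 n40688
theorem D87455 : act 0 n40688 = n87455 := rfl
theorem F134258 : act 2 n42105 = n87455 := d15_3 (iv0 D87455) (iv0 F66624) F71506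
theorem F134259 : act 3 n87455 = n43261 := d0_2 (iv3 F71505) F134258 (iv2 F67825) (iv3 D41915) (iv2 F66595)
theorem F134260 : act 7 n87455 = n42106 := d4_2 F71506 F134258 F125247
theorem F134261 : act 1 n42108 = n87455 := d15_1 F66625 F134260 F125247
def n87456 : Q := act 7 n40688
theorem D87456 : act 7 n40688 = n87456 := rfl
theorem F134264 : act 4 n87456 = n87103 := d11_1 D87456 (iv7 D87103) F61797
theorem F134265 : act 5 n87456 = n40689 := d13_1 D87456 (iv7 D40689) D40688
theorem F134267 : act 1 n42106 = n87456 := d15_1 D42106 (iv7 D87456) F61794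
theorem F134268 : act 1 n87456 = n42105 := d15_1 F134267 (iv7 F71506) (iv2 F125247)
def n87457 : Q := act 5 n40690
theorem D87457 : act 5 n40690 = n87457 := rfl
theorem F134269 : act 3 n87457 = n61672 := d6_1 D87457 F96256 F70133
theorem F134270 : act 7 n87457 = n70062 := d13_2 (iv7 F71393) D87457 F106460
theorem F134271 : act 1 n87457 = n44644 := d17_6 F72100 (iv5 F126378) (iv1 F126380) F74223 (iv4 F64234) D87457 F70193 D44916 (iv4 F70580)
def n87458 : Q := act 6 n40690
theorem D87458 : act 6 n40690 = n87458 := rfl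
def n87459 : Q := act 5 n40691
theorem D87459 : act 5 n40691 = n87459 := rfl
theorem F134272 : act 2 n87459 = n70062 := d2_1 D87459 F106460 F71401
theorem F134273 : act 4 n87459 = n79371 := d16_2 F72299 D87459 (iv5 D79371) (iv4 D36142) D36143 (iv4 F74222) F74223 (iv7 F127116) F127113
theorem F134274 : act 0 n87459 = n44644 := d17_2 (iv1 F71403) D87459 F70193 F33672 D23342 (iv0 F36470) (iv5 D21986) D21984 (iv4 F71395)
def n87460 : Q := act 6 n40691
theorem D87460 : act 6 n40691 = n87460 := rfl
def n87461 : Q := act 5 n40692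
theorem D87461 : act 5 n40692 = n87461 := rfl
theorem F134275 : act 2 n87461 = n40693 := d2_1 D87461 (iv5 D40693) D40692
theorem F134276 : act 3 n87461 = n44594 := d6_1 D87461 F70121 (iv3 F61806)
def n87462 : Q := act 6 n40692
theorem D87462 : act 6 n40692 = n87462 := rfl
theorem F134277 : act 2 n87462 = n40694 := d3_1 D87462 (iv6 D40694) D40692
theorem F134278 : act 3 n87462 = n44673 := d7_1 D87462 (iv6 D44673) (iv3 F61806)
theorem F134279 : act 4 n87462 = n40747 := d10_1 D87462 (iv6 D40747) (iv4 F61807)
def n87463 : Q := act 1 n40693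
theorem D87463 : act 1 n40693 = n87463 := rfl
theorem F134280 : act 5 n87463 = n40975 := d17_7 (iv1 D22385) (iv5 F34499) F34500 (iv5 D19226) (iv4 F30851) D40693 D87463 F70586 F70583
def n87464 : Q := act 4 n40693
theorem D87464 : act 4 n40693 = n87464 := rfl
theorem F134281 : act 5 n87464 = n79363 := d16_3 (iv4 F30851) D40693 D87464 (iv4 D79363) (iv5 F106384) (iv4 D69962) F51566 F34482 (iv2 D19225)
theorem F134282 : act 1 n87464 = n45419 := d18_6 (iv1 D21657) (iv4 F16694) F16695 (iv4 F30851) D40693 D87464 (iv4 D45419) (iv0 F71582) (iv5 D45385)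
def n87465 : Q := act 6 n40693
theorem D87465 : act 6 n40693 = n87465 := rfl
theorem F134283 : act 3 n87465 = n40696 := d7_1 D87465 (iv6 D40696) (iv3 F61808)
def n87466 : Q := act 0 n40694
theorem D87466 : act 0 n40694 = n87466 := rfl
def n87467 : Q := act 1 n40694
theorem D87467 : act 1 n40694 = n87467 := rfl
def n87468 : Q := act 5 n40694
theorem D87468 : act 5 n40694 = n87468 := rfl
theorem F134284 : act 3 n87468 = n40699 := d6_1 D87468 (iv5 D40699) (iv3 F61809)
def n87469 : Q := act 3 n40695
theorem D87469 : act 3 n40695 = n87469 := rfl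
theorem F134285 : act 5 n87469 = n44474 := d6_2 (iv5 F61812) D87469 (iv3 D44474)
theorem F134286 : act 7 n87469 = n81442 := d8_2 (iv7 F61813) D87469 (iv3 D81442)
def n87470 : Q := act 6 n40695
theorem D87470 : act 6 n40695 = n87470 := rfl
theorem F134287 : act 2 n87470 = n81444 := d3_1 D87470 (iv6 D81444) (iv2 F61811)
theorem F134288 : act 4 n87470 = n40696 := d10_1 D87470 (iv6 D40696) D40695
def n87471 : Q := act 0 n40696
theorem D87471 : act 0 n40696 = n87471 := rfl
def n87472 : Q := act 1 n40696
theorem D87472 : act 1 n40696 = n87472 := rfl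
def n87473 : Q := act 5 n40696
theorem D87473 : act 5 n40696 = n87473 := rfl
theorem F134289 : act 6 n87473 = n40699 := d12_2 D40696 D87473 (iv5 D40699) (iv6 D19207) D19206
def n87474 : Q := act 7 n40696
theorem D87474 : act 7 n40696 = n87474 := rfl
def n87475 : Q := act 0 n40699
theorem D87475 : act 0 n40699 = n87475 := rfl
theorem F134290 : act 5 n87475 = n48423 := d17_3 F63063 D40699 D87475 F76145 (iv5 F63298) (iv0 D21536) (iv5 D10282) D10281 D21533
def n87476 : Q := act 4 n40699
theorem D87476 : act 4 n40699 = n87476 := rfl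
theorem F134291 : act 0 n87476 = n45472 := d18_2 F75563 D87476 (iv4 D45472) D45473 F75860 (iv0 D48255) (iv4 F70784) (iv0 F70785) D48092
theorem F134292 : act 1 n87476 = n45476 := d18_6 (iv1 F33864) F62902 (iv1 D19209) (iv4 F30854) D40699 D87476 (iv4 D45476) F71002 F71000
def n87477 : Q := act 0 n40704
theorem D87477 : act 0 n40704 = n87477 := rfl
theorem F134293 : act 5 n87477 = n42269 := d21_2 D40704 D87477 (iv6 D42269) (iv1 D19949) (iv6 D9416) F7255 (iv1 F6457) D4053 D9028 D19208
theorem F134295 : act 1 n40709 = n87477 := d15_0 (iv0 D87477) (iv7 F127422) F127420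
theorem F134297 : act 0 n43671 = n40987 := d21_7 (iv5 F134293) (iv1 F134295) (iv5 D40709) D40710 (iv1 F67682) (iv6 F69167) F69166 (iv5 D40987) D40988 F76088
theorem F134298 : act 1 n43671 = n40992 := d15_1 (iv0 F134297) (iv7 F62978) (iv2 F62980)
def n87480 : Q := act 5 n40705
theorem D87480 : act 5 n40705 = n87480 := rfl
theorem F134308 : act 7 n87480 = n42546 := d13_2 F133578 D87480 (iv5 F133580)
theorem F134310 : act 4 n87480 = n47785 := d18_5 (iv1 F64828) (iv4 F64860) F71716 (iv4 F62908) D87480 F75075 F36130 F36059 (iv5 F64819)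
theorem F134311 : act 0 n87480 = n42100 := d18_0 (iv4 F70887) F73259 (iv4 D23069) (iv5 F63318) D42024 (iv0 F74005) F70206 F74004 D87480
def n87484 : Q := act 5 n40713
theorem D87484 : act 5 n40713 = n87484 := rfl
def n87485 : Q := act 0 n40715
theorem D87485 : act 0 n40715 = n87485 := rfl
theorem F134324 : act 3 n87485 = n44198 := d20_5 D44469 F73123 (iv4 F58848) (iv3 F61825) D87485 F73065 (iv1 F73064) F73058 F34652 (iv1 F34655)
theorem F134326 : act 2 n44176 = n87485 := d15_3 (iv0 D87485) (iv0 F76094) F133865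
theorem F134328 : act 7 n87485 = n44177 := d4_2 F133865 F134326 F75863
theorem F134329 : act 7 n82704 = n44198 := d8_2 F134328 (iv3 F127455) (iv3 F134324)
theorem F134332 : act 2 n82704 = n44199 := d15_3 F127469 F127471 (iv7 F134329)
theorem F134333 : act 3 n44199 = n40829 := d0_2 (iv3 F127455) F134332 F66602 D44364 (iv2 F75863)
theorem F134336 : act 4 n44199 = n44461 := d20_6 F33343 (iv1 F33339) F33337 (iv3 F33322) (iv1 F61911) (iv3 F134333) (iv1 D44461) F33374 F15932 D10079
def n87493 : Q := act 3 n40718
theorem D87493 : act 3 n40718 = n87493 := rfl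
theorem F134358 : act 4 n87493 = n81970 := d5_2 F112541 D87493 (iv3 F126383) (iv4 F115029) (iv3 F115031)
theorem F134359 : act 5 n87493 = n60118 := d6_2 (iv5 F61832) D87493 (iv3 D60118)
theorem F134360 : act 0 n46721 = n87493 := d19_0 F134359 F94679 (iv3 D28580) (iv1 F46108) D60071 F94613 F94616 (iv1 D57479) (iv5 D27494) (iv4 F44400) (iv3 D27484) F21931 D26888 F43371 (iv3 F56157) F56158 (iv5 F57430) D80251 F123317
def n87494 : Q := act 6 n40718
theorem D87494 : act 6 n40718 = n87494 := rfl
def n87495 : Q := act 6 n40719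
theorem D87495 : act 6 n40719 = n87495 := rfl
def n87496 : Q := act 6 n40720
theorem D87496 : act 6 n40720 = n87496 := rfl
theorem F134361 : act 2 n87496 = n40721 := d3_1 D87496 (iv6 D40721) D40720
def n87499 : Q := act 5 n40721
theorem D87499 : act 5 n40721 = n87499 := rfl
theorem F134363 : act 6 n87499 = n71333 := d12_2 D40721 D87499 (iv5 D71333) (iv6 D33007) (iv5 F30867)
def n87500 : Q := act 7 n40721
theorem D87500 : act 7 n40721 = n87500 := rfl
theorem F134364 : act 3 n87500 = n40725 := d8_1 D87500 (iv7 D40725) (iv3 F61838)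
theorem F134365 : act 6 n87500 = n80563 := d14_1 D87500 F123865 (iv6 D56917) F44204 D40721
def n87501 : Q := act 0 n40724
theorem D87501 : act 0 n40724 = n87501 := rfl
theorem F134366 : act 5 n87501 = n79734 := d17_3 F120705 D40724 D87501 F122424 F57040 (iv0 F118082) (iv5 D18922) D18921 D40021
theorem F134367 : act 7 n79733 = n87501 := d13_0 F134366 (iv7 D79734) D79733
def n87502 : Q := act 1 n40724
theorem D87502 : act 1 n40724 = n87502 := rfl
theorem F134368 : act 1 n87502 = n80981 := d15_1 D87502 F124736 F116082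
theorem F134369 : act 5 n79716 = n87502 := d21_6 D17682 (iv1 F36469) F36466 D40044 F120732 D79716 (iv1 D87502) (iv5 D40724) (iv6 D19215) F14113
theorem F134370 : act 2 n87502 = n79733 := d2_1 F134369 (iv5 D79733) (iv2 F122385)
theorem F134371 : act 1 n80981 = n87501 := d15_1 F134368 (iv7 F134367) (iv2 F134370)
def n87507 : Q := act 6 n40728
theorem D87507 : act 6 n40728 = n87507 := rfl
theorem F134379 : act 4 n87507 = n40730 := d10_1 D87507 (iv6 D40730) D40728
def n87508 : Q := act 0 n40729
theorem D87508 : act 0 n40729 = n87508 := rfl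
theorem F134380 : act 5 n87508 = n87306 := d17_3 D19216 D40729 D87508 F134046 (iv5 F132483) (iv0 D80986) (iv5 D36999) F120704 F30868
theorem F134382 : act 1 n40734 = n87508 := d15_0 (iv0 D87508) F121030 (iv2 F121032)
theorem F134383 : act 0 n40735 = n55483 := d21_10 (iv5 D55483) (iv1 F116672) (iv5 F116736) (iv6 F116782) (iv1 F71117) D87306 (iv5 F134380) (iv1 F134382) (iv5 D40734) D40735
def n87509 : Q := act 4 n40729
theorem D87509 : act 4 n40729 = n87509 := rfl
def n87511 : Q := act 0 n40730
theorem D87511 : act 0 n40730 = n87511 := rfl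
def n87512 : Q := act 1 n40730
theorem D87512 : act 1 n40730 = n87512 := rfl
theorem F134386 : act 4 n87512 = n80991 := d17_9 (iv1 D80991) D80992 F124751 (iv5 D40126) (iv4 F30573) D40299 (iv0 F121036) F121034 D87512
theorem F134387 : act 3 n84577 = n87512 := d20_5 (iv4 F43091) (iv1 F53214) F53213 (iv3 F60057) D84577 F134386 (iv1 D80991) F57918 F28944 (iv1 F43463)
def n87514 : Q := act 3 n40733
theorem D87514 : act 3 n40733 = n87514 := rfl
def n87516 : Q := act 6 n40733
theorem D87516 : act 6 n40733 = n87516 := rfl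
theorem F134394 : act 2 n87516 = n86414 := d3_1 D87516 (iv6 D86414) (iv2 F120702)
theorem F134395 : act 4 n87516 = n40735 := d10_1 D87516 (iv6 D40735) D40733
def n87517 : Q := act 4 n40734
theorem D87517 : act 4 n40734 = n87517 := rfl
def n87518 : Q := act 7 n40735
theorem D87518 : act 7 n40735 = n87518 := rfl
theorem F134399 : act 2 n87518 = n85633 := d4_1 D87518 F131307 F121025
theorem F134400 : act 3 n87518 = n84134 := d8_1 D87518 F129166 (iv3 F121024)
theorem F134401 : act 5 n87518 = n57800 := d13_1 D87518 F121027 F117105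
theorem F134402 : act 1 n76856 = n87518 := d18_8 (iv1 D57800) D57801 (iv1 F132879) F132881 F118075 (iv4 F89481) (iv0 F132905) F132897 F134401
theorem F134403 : act 1 n45277 = n76856 := d15_0 F134402 (iv7 D87518) (iv2 F121025)
def n87519 : Q := act 4 n40736
theorem D87519 : act 4 n40736 = n87519 := rfl
theorem F134406 : act 0 n87519 = n86429 := d18_2 D40736 D87519 F132511 F60883 (iv4 F60879) (iv0 F120693) (iv4 D40728) (iv0 D19216) D19218
theorem F134407 : act 0 n46179 = n87519 := d20_1 D46179 (iv4 D87519) (iv3 F121004) (iv1 F70945) F33988 (iv4 F44171) (iv1 F44173) F30460 D27215 F118091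
def n87520 : Q := act 4 n40737
theorem D87520 : act 4 n40737 = n87520 := rfl
theorem F134410 : act 0 n87520 = n46179 := d18_2 F134094 D87520 (iv4 D46179) (iv5 D22097) (iv4 F34565) (iv0 F120700) (iv4 D40733) F61706 D87333
def n87521 : Q := act 6 n40737
theorem D87521 : act 6 n40737 = n87521 := rfl
def n87524 : Q := act 7 n40738
theorem D87524 : act 7 n40738 = n87524 := rfl
theorem F134415 : act 4 n87524 = n40739 := d11_1 D87524 (iv7 D40739) D40738
theorem F134417 : act 1 n56594 = n87524 := d15_1 (iv0 F124973) (iv7 D87524) (iv2 F124971)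
theorem E14430 : n82670 = n56504 := ((c20_8 (iv4 F134415) (iv1 F134417) (iv4 D56594) (iv3 D27215) (iv1 D13038) (iv3 F21662) D27184 D56504 (iv4 D82670) D82669 (iv1 F127358))).symm
theorem F134419 : act 4 n56504 = n37990 := (sb E14430 (iv4 D82670))
def n87525 : Q := act 0 n40740
theorem D87525 : act 0 n40740 = n87525 := rfl
def n87526 : Q := act 1 n40740
theorem D87526 : act 1 n40740 = n87526 := rfl
def n87527 : Q := act 7 n40740
theorem D87527 : act 7 n40740 = n87527 := rfl
theorem F134420 : act 3 n87527 = n45310 := d8_1 D87527 (iv7 D45310) (iv3 F61845)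
def n87528 : Q := act 0 n40741
theorem D87528 : act 0 n40741 = n87528 := rfl
def n87529 : Q := act 1 n40741
theorem D87529 : act 1 n40741 = n87529 := rfl
theorem F134422 : act 1 n87529 = n87527 := d15_1 D87529 (iv7 D87527) (iv2 F61846)
def n87530 : Q := act 7 n40741
theorem D87530 : act 7 n40741 = n87530 := rfl
theorem F134423 : act 2 n87530 = n87527 := d4_1 D87530 (iv7 D87527) (iv2 F61846)
theorem F134424 : act 3 n87530 = n80899 := d8_1 D87530 (iv7 D80899) (iv3 F61847)
theorem F134426 : act 1 n87527 = n87528 := d15_0 (iv0 D87528) D87530 F134423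
theorem F134427 : act 1 n87526 = n87530 := d15_1 D87526 (iv7 D87530) F61846
theorem F134428 : act 1 n87530 = n87525 := d15_0 (iv0 D87525) D87527 (iv2 F134423)
def n87533 : Q := act 2 n40742
theorem D87533 : act 2 n40742 = n87533 := rfl
def n87534 : Q := act 5 n40742
theorem D87534 : act 5 n40742 = n87534 := rfl
theorem F134432 : act 3 n87534 = n40743 := d6_1 D87534 (iv5 D40743) D40742
theorem F134433 : act 7 n87534 = n87534 := d13_2 F61848 D87534 (iv5 D87534)
def n87536 : Q := act 4 n40744
theorem D87536 : act 4 n40744 = n87536 := rfl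
theorem F134435 : act 2 n87536 = n46721 := d1_1 D87536 (iv4 D46721) (iv2 F61852)
theorem F134436 : act 3 n87536 = n80454 := d19_3 D19224 D40744 D87536 (iv1 D80454) (iv5 F61456) F61455 F54715 (iv1 F28670) (iv5 F28669) (iv4 F13847) (iv3 D8879) (iv1 F13819) (iv5 D8864) F5909 F3008 (iv1 F3010) D1754 D4057 D9037
def n87537 : Q := act 6 n40744
theorem D87537 : act 6 n40744 = n87537 := rfl
theorem F134437 : act 2 n87537 = n46722 := d3_1 D87537 (iv6 D46722) (iv2 F61852)
def n87538 : Q := act 0 n40745
theorem D87538 : act 0 n40745 = n87538 := rfl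
def n87539 : Q := act 1 n40745
theorem D87539 : act 1 n40745 = n87539 := rfl
def n87540 : Q := act 5 n40745
theorem D87540 : act 5 n40745 = n87540 := rfl
def n87541 : Q := act 7 n40745
theorem D87541 : act 7 n40745 = n87541 := rfl
def n87542 : Q := act 6 n40746
theorem D87542 : act 6 n40746 = n87542 := rfl
theorem F134438 : act 2 n87542 = n40750 := d3_1 D87542 (iv6 D40750) (iv2 F61855)
theorem F134439 : act 3 n87542 = n54399 := d7_1 D87542 (iv6 D54399) (iv3 F61856)
theorem F134440 : act 4 n87542 = n86515 := d10_1 D87542 (iv6 D86515) (iv4 F61858)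
def n87543 : Q := act 5 n40747
theorem D87543 : act 5 n40747 = n87543 := rfl
theorem F134441 : act 2 n87543 = n40753 := d2_1 D87543 (iv5 D40753) (iv2 F61859)
def n87544 : Q := act 6 n40748
theorem D87544 : act 6 n40748 = n87544 := rfl
def n87545 : Q := act 6 n40749
theorem D87545 : act 6 n40749 = n87545 := rfl
theorem F134442 : act 2 n87545 = n86515 := d3_1 D87545 (iv6 D86515) (iv2 F61861)
theorem F134443 : act 4 n87545 = n40750 := d10_1 D87545 (iv6 D40750) D40749
def n87546 : Q := act 0 n40750
theorem D87546 : act 0 n40750 = n87546 := rfl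
def n87547 : Q := act 1 n40750
theorem D87547 : act 1 n40750 = n87547 := rfl
def n87548 : Q := act 5 n40750
theorem D87548 : act 5 n40750 = n87548 := rfl
theorem F134444 : act 3 n87548 = n40757 := d6_1 D87548 (iv5 D40757) (iv3 F61865)
theorem F134445 : act 6 n87548 = n40753 := d12_2 D40750 D87548 (iv5 D40753) (iv6 D19227) D19226
def n87549 : Q := act 7 n40750
theorem D87549 : act 7 n40750 = n87549 := rfl
theorem F134446 : act 3 n87549 = n40758 := d8_1 D87549 (iv7 D40758) (iv3 F61865)
def n87550 : Q := act 5 n40751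
theorem D87550 : act 5 n40751 = n87550 := rfl
def n87551 : Q := act 6 n40751
theorem D87551 : act 6 n40751 = n87551 := rfl
def n87552 : Q := act 0 n40753
theorem D87552 : act 0 n40753 = n87552 := rfl
def n87553 : Q := act 1 n40753
theorem D87553 : act 1 n40753 = n87553 := rfl
def n87554 : Q := act 4 n40753
theorem D87554 : act 4 n40753 = n87554 := rfl
def n87555 : Q := act 7 n40753
theorem D87555 : act 7 n40753 = n87555 := rfl
theorem F134447 : act 3 n87555 = n40772 := d8_1 D87555 (iv7 D40772) (iv3 F61866)
theorem F134448 : act 5 n87555 = n40754 := d13_1 D87555 (iv7 D40754) D40753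
def n87556 : Q := act 2 n40755
theorem D87556 : act 2 n40755 = n87556 := rfl
theorem F134449 : act 7 n40756 = n87556 := d15_2 (iv0 D40755) D40756 (iv2 D87556)
def n87557 : Q := act 3 n40755
theorem D87557 : act 3 n40755 = n87557 := rfl
def n87558 : Q := act 4 n40755
theorem D87558 : act 4 n40755 = n87558 := rfl
def n87559 : Q := act 5 n40755
theorem D87559 : act 5 n40755 = n87559 := rfl
def n87560 : Q := act 6 n40755
theorem D87560 : act 6 n40755 = n87560 := rfl
def n87561 : Q := act 7 n40755
theorem D87561 : act 7 n40755 = n87561 := rfl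
theorem F134450 : act 2 n87561 = n40756 := d4_1 D87561 F134449 (iv2 D87556)
def n87562 : Q := act 3 n40756
theorem D87562 : act 3 n40756 = n87562 := rfl
def n87563 : Q := act 4 n40756
theorem D87563 : act 4 n40756 = n87563 := rfl
def n87565 : Q := act 6 n40756
theorem D87565 : act 6 n40756 = n87565 := rfl
def n87566 : Q := act 0 n40757
theorem D87566 : act 0 n40757 = n87566 := rfl
def n87567 : Q := act 1 n40757
theorem D87567 : act 1 n40757 = n87567 := rfl
def n87568 : Q := act 4 n40757
theorem D87568 : act 4 n40757 = n87568 := rfl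
theorem F134451 : act 6 n87568 = n40771 := d10_2 (iv6 F61868) D87568 (iv4 D40771)
def n87569 : Q := act 7 n40757
theorem D87569 : act 7 n40757 = n87569 := rfl
theorem F134452 : act 5 n87569 = n40758 := d13_1 D87569 (iv7 D40758) D40757
def n87570 : Q := act 1 n40760
theorem D87570 : act 1 n40760 = n87570 := rfl
def n87571 : Q := act 5 n40760
theorem D87571 : act 5 n40760 = n87571 := rfl
theorem F134453 : act 3 n87571 = n40762 := d6_1 D87571 (iv5 D40762) D40760
def n87572 : Q := act 6 n40760
theorem D87572 : act 6 n40760 = n87572 := rfl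
theorem F134454 : act 3 n87572 = n40763 := d7_1 D87572 (iv6 D40763) D40760
theorem F134455 : act 4 n87572 = n44080 := d10_1 D87572 (iv6 D44080) F62855
def n87573 : Q := act 0 n40762
theorem D87573 : act 0 n40762 = n87573 := rfl
theorem F134456 : act 5 n87573 = n43679 := d17_3 D19229 D40762 D87573 (iv4 D43679) (iv5 F62593) (iv0 D21051) (iv5 D10017) (iv0 F62564) (iv4 F14117)
theorem F134457 : act 1 n40767 = n87573 := d15_0 (iv0 D87573) (iv7 F133398) F133397
theorem F134458 : act 2 n48263 = n87573 := d2_3 F134456 F68639 D48263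
def n87574 : Q := act 1 n40762
theorem D87574 : act 1 n40762 = n87574 := rfl
theorem F134459 : act 1 n87574 = n40767 := d15_1 D87574 (iv7 F133388) F133387
theorem F134460 : act 7 n87574 = n48263 := d15_2 (iv0 D87573) D87574 F134458
theorem F134461 : act 5 n43681 = n87574 := d13_3 F134460 (iv5 D48263) (iv7 F68642)
def n87575 : Q := act 4 n40762
theorem D87575 : act 4 n40762 = n87575 := rfl
def n87576 : Q := act 6 n40762
theorem D87576 : act 6 n40762 = n87576 := rfl
def n87577 : Q := act 0 n40765
theorem D87577 : act 0 n40765 = n87577 := rfl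
def n87578 : Q := act 1 n40765
theorem D87578 : act 1 n40765 = n87578 := rfl
def n87579 : Q := act 2 n40765
theorem D87579 : act 2 n40765 = n87579 := rfl
theorem F134462 : act 4 n87579 = n45519 := d1_2 (iv4 F63048) D87579 (iv2 D45519)
def n87580 : Q := act 5 n40765
theorem D87580 : act 5 n40765 = n87580 := rfl
theorem F134463 : act 3 n87580 = n40767 := d6_1 D87580 (iv5 D40767) D40765
def n87581 : Q := act 6 n40765
theorem D87581 : act 6 n40765 = n87581 := rfl
theorem F134464 : act 3 n87581 = n40768 := d7_1 D87581 (iv6 D40768) D40765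
theorem F134465 : act 4 n87581 = n45521 := d10_1 D87581 (iv6 D45521) (iv4 F63048)
def n87582 : Q := act 4 n40767
theorem D87582 : act 4 n40767 = n87582 := rfl
def n87583 : Q := act 6 n40767
theorem D87583 : act 6 n40767 = n87583 := rfl
def n87584 : Q := act 3 n40769
theorem D87584 : act 3 n40769 = n87584 := rfl
def n87585 : Q := act 4 n40769
theorem D87585 : act 4 n40769 = n87585 := rfl
def n87586 : Q := act 6 n40769
theorem D87586 : act 6 n40769 = n87586 := rfl
def n87587 : Q := act 3 n40770
theorem D87587 : act 3 n40770 = n87587 := rfl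
def n87588 : Q := act 4 n40770
theorem D87588 : act 4 n40770 = n87588 := rfl
theorem F134466 : act 0 n87588 = n86953 := d18_2 (iv1 F69622) D87588 (iv4 D86953) (iv5 D40373) (iv4 F31277) F62628 F62621 F62615 D44252
def n87589 : Q := act 6 n40770
theorem D87589 : act 6 n40770 = n87589 := rfl
def n87590 : Q := act 0 n40771
theorem D87590 : act 0 n40771 = n87590 := rfl
def n87591 : Q := act 1 n40771
theorem D87591 : act 1 n40771 = n87591 := rfl
def n87592 : Q := act 3 n40771
theorem D87592 : act 3 n40771 = n87592 := rfl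
def n87593 : Q := act 5 n40771
theorem D87593 : act 5 n40771 = n87593 := rfl
def n87594 : Q := act 7 n40771
theorem D87594 : act 7 n40771 = n87594 := rfl
theorem F134467 : act 4 n87594 = n40772 := d11_1 D87594 (iv7 D40772) D40771
def n87596 : Q := act 5 n40807
theorem D87596 : act 5 n40807 = n87596 := rfl
theorem F134468 : act 3 n87596 = n40808 := d6_1 D87596 (iv5 D40808) D40807
def n87597 : Q := act 6 n40807
theorem D87597 : act 6 n40807 = n87597 := rfl
theorem F134469 : act 3 n87597 = n40809 := d7_1 D87597 (iv6 D40809) D40807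
theorem F134470 : act 4 n87597 = n87597 := d10_1 D87597 (iv6 D87597) F62204
def n87598 : Q := act 4 n40808
theorem D87598 : act 4 n40808 = n87598 := rfl
theorem F134471 : act 2 n87598 = n44294 := d1_1 D87598 (iv4 D44294) F63061
def n87599 : Q := act 6 n40808
theorem D87599 : act 6 n40808 = n87599 := rfl
theorem F134472 : act 2 n87599 = n44295 := d3_1 D87599 (iv6 D44295) F63061
def n87606 : Q := act 5 n40820
theorem D87606 : act 5 n40820 = n87606 := rfl
def n87609 : Q := act 5 n40821
theorem D87609 : act 5 n40821 = n87609 := rfl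
def n87627 : Q := act 0 n40827
theorem D87627 : act 0 n40827 = n87627 := rfl
theorem F134504 : act 4 n87627 = n44464 := d20_2 (iv4 F61910) D87627 (iv3 D44464) (iv1 F34656) F34652 (iv4 F73058) (iv1 F73061) (iv4 F134336) F134333 (iv1 D40829)
theorem F134505 : act 2 n44358 = n87627 := d1_3 F134504 F76098 (iv4 F76099)
theorem F134506 : act 7 n44359 = n87627 := d11_0 F134504 (iv7 F76103) F76101
def n87628 : Q := act 1 n40827
theorem D87628 : act 1 n40827 = n87628 := rfl
theorem F134509 : act 7 n87628 = n44358 := d15_2 (iv0 D87627) D87628 F134505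
theorem F134510 : act 2 n44359 = n87628 := d4_3 F134509 F134505 (iv7 F134506)
theorem F134511 : act 6 n87628 = n44300 := d3_2 (iv6 F73080) F134510 (iv2 F72001)
def n87646 : Q := act 6 n40835
theorem D87646 : act 6 n40835 = n87646 := rfl
def n87647 : Q := act 5 n40836
theorem D87647 : act 5 n40836 = n87647 := rfl
def n87666 : Q := act 5 n40843
theorem D87666 : act 5 n40843 = n87666 := rfl
theorem F134576 : act 2 n87666 = n52923 := d2_1 D87666 F83632 (iv2 F61940)
theorem F134577 : act 3 n87666 = n52950 := d6_1 D87666 (iv5 F83678) F77350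
theorem F134578 : act 4 n87666 = n46558 := d16_2 D40843 D87666 (iv5 D46558) (iv4 D22313) (iv5 D10626) F7029 D10626 (iv7 F29559) (iv2 F30908)
def n87667 : Q := act 6 n40843
theorem D87667 : act 6 n40843 = n87667 := rfl
theorem F134579 : act 2 n87667 = n83681 := d3_1 D87667 (iv6 D83681) (iv2 F61940)
def n87668 : Q := act 0 n40844
theorem D87668 : act 0 n40844 = n87668 := rfl
def n87669 : Q := act 1 n40844
theorem D87669 : act 1 n40844 = n87669 := rfl
def n87670 : Q := act 5 n40844
theorem D87670 : act 5 n40844 = n87670 := rfl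
theorem F134582 : act 2 n87670 = n83797 := d2_1 D87670 (iv5 D83797) (iv2 F61941)
theorem F134584 : act 6 n87670 = n40847 := d12_2 D40844 D87670 (iv5 D40847) (iv6 D19254) D19253
def n87671 : Q := act 7 n40844
theorem D87671 : act 7 n40844 = n87671 := rfl
theorem F134585 : act 2 n87671 = n83798 := d4_1 D87671 (iv7 D83798) (iv2 F61941)
theorem F134587 : act 1 n83798 = n87668 := d15_0 (iv0 D87668) D87671 F134585
def n87672 : Q := act 2 n40845
theorem D87672 : act 2 n40845 = n87672 := rfl
theorem F134590 : act 7 n40846 = n87672 := d15_2 (iv0 D40845) D40846 (iv2 D87672)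
def n87673 : Q := act 3 n40845
theorem D87673 : act 3 n40845 = n87673 := rfl
def n87674 : Q := act 4 n40845
theorem D87674 : act 4 n40845 = n87674 := rfl
theorem F134591 : act 3 n46672 = n87674 := d20_5 (iv4 F66643) (iv1 D20495) (iv4 F17195) (iv3 F34934) D46672 (iv4 D87674) (iv1 F72132) F72128 F72127 (iv1 F34321)
def n87675 : Q := act 5 n40845
theorem D87675 : act 5 n40845 = n87675 := rfl
def n87676 : Q := act 6 n40845
theorem D87676 : act 6 n40845 = n87676 := rfl
def n87677 : Q := act 7 n40845
theorem D87677 : act 7 n40845 = n87677 := rfl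
theorem F134592 : act 2 n87677 = n40846 := d4_1 D87677 F134590 (iv2 D87672)
def n87678 : Q := act 3 n40846
theorem D87678 : act 3 n40846 = n87678 := rfl
theorem F134593 : act 4 n87678 = n47794 := d20_6 (iv4 D10820) (iv1 F16610) (iv4 F34318) (iv3 F72127) (iv1 F72131) D87678 (iv1 D47794) (iv4 F73262) F73261 F66633
def n87679 : Q := act 4 n40846
theorem D87679 : act 4 n40846 = n87679 := rfl
def n87680 : Q := act 5 n40846
theorem D87680 : act 5 n40846 = n87680 := rfl
def n87681 : Q := act 6 n40846
theorem D87681 : act 6 n40846 = n87681 := rfl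
def n87682 : Q := act 0 n40847
theorem D87682 : act 0 n40847 = n87682 := rfl
def n87683 : Q := act 1 n40847
theorem D87683 : act 1 n40847 = n87683 := rfl
def n87684 : Q := act 4 n40847
theorem D87684 : act 4 n40847 = n87684 := rfl
def n87685 : Q := act 7 n40847
theorem D87685 : act 7 n40847 = n87685 := rfl
theorem F134594 : act 3 n87685 = n40859 := d8_1 D87685 (iv7 D40859) (iv3 F61943)
theorem F134595 : act 5 n87685 = n40848 := d13_1 D87685 (iv7 D40848) D40847
def n87686 : Q := act 2 n40849
theorem D87686 : act 2 n40849 = n87686 := rfl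
theorem F134596 : act 7 n40850 = n87686 := d15_2 (iv0 D40849) D40850 (iv2 D87686)
def n87687 : Q := act 3 n40849
theorem D87687 : act 3 n40849 = n87687 := rfl
def n87688 : Q := act 4 n40849
theorem D87688 : act 4 n40849 = n87688 := rfl
def n87689 : Q := act 5 n40849
theorem D87689 : act 5 n40849 = n87689 := rfl
def n87690 : Q := act 6 n40849
theorem D87690 : act 6 n40849 = n87690 := rfl
def n87691 : Q := act 7 n40849
theorem D87691 : act 7 n40849 = n87691 := rfl
theorem F134597 : act 2 n87691 = n40850 := d4_1 D87691 F134596 (iv2 D87686)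
def n87692 : Q := act 3 n40850
theorem D87692 : act 3 n40850 = n87692 := rfl
def n87693 : Q := act 4 n40850
theorem D87693 : act 4 n40850 = n87693 := rfl
def n87694 : Q := act 5 n40850
theorem D87694 : act 5 n40850 = n87694 := rfl
def n87695 : Q := act 6 n40850
theorem D87695 : act 6 n40850 = n87695 := rfl
def n87696 : Q := act 0 n40851
theorem D87696 : act 0 n40851 = n87696 := rfl
def n87697 : Q := act 1 n40851
theorem D87697 : act 1 n40851 = n87697 := rfl
theorem F134599 : act 5 n86965 = n87697 := d21_6 (iv5 D10446) F6912 D8939 D19081 D40377 D86965 (iv1 D87697) (iv5 D40851) (iv6 D19255) (iv1 F16642)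
def n87698 : Q := act 4 n40851
theorem D87698 : act 4 n40851 = n87698 := rfl
theorem F134600 : act 2 n87698 = n41157 := d1_1 D87698 (iv4 D41157) (iv2 F61947)
theorem F134601 : act 6 n87698 = n40858 := d10_2 (iv6 F61948) D87698 (iv4 D40858)
def n87699 : Q := act 7 n40851
theorem D87699 : act 7 n40851 = n87699 := rfl
theorem F134602 : act 2 n87699 = n41158 := d4_1 D87699 (iv7 D41158) (iv2 F61947)
theorem F134603 : act 5 n87699 = n40852 := d13_1 D87699 (iv7 D40852) D40851
theorem F134604 : act 1 n41158 = n87696 := d15_0 (iv0 D87696) D87699 F134602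
theorem F134605 : act 1 n41156 = n87699 := d15_1 D41156 (iv7 D87699) F61947
theorem F134606 : act 1 n87699 = n41155 := d15_0 (iv0 D41155) D41158 (iv2 F134602)
def n87700 : Q := act 0 n40853
theorem D87700 : act 0 n40853 = n87700 := rfl
theorem F134607 : act 1 n41161 = n87700 := d15_0 (iv0 D87700) F61953 D41161
def n87701 : Q := act 1 n40853
theorem D87701 : act 1 n40853 = n87701 := rfl
def n87702 : Q := act 2 n40853
theorem D87702 : act 2 n40853 = n87702 := rfl
theorem F134608 : act 3 n87702 = n41175 := d0_2 D40853 D87702 (iv2 D41175) (iv3 D19362) F30915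
theorem F134609 : act 7 n87702 = n41161 := d4_2 (iv7 F61953) D87702 (iv2 D41161)
theorem F134610 : act 1 n87702 = n41159 := d15_0 (iv0 D41159) (iv7 F61953) D87702
theorem F134611 : act 1 n87701 = n41161 := d15_1 D87701 (iv7 F134609) (iv2 D87702)
theorem F134612 : act 1 n41160 = n87702 := d15_1 D41160 F134609 (iv2 D41161)
def n87703 : Q := act 5 n40853
theorem D87703 : act 5 n40853 = n87703 := rfl
theorem F134613 : act 3 n87703 = n40854 := d6_1 D87703 (iv5 D40854) D40853
theorem F134614 : act 7 n87703 = n41163 := d13_2 (iv7 F61953) D87703 (iv5 D41163)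
def n87704 : Q := act 6 n40853
theorem D87704 : act 6 n40853 = n87704 := rfl
theorem F134615 : act 3 n87704 = n40855 := d7_1 D87704 (iv6 D40855) D40853
def n87705 : Q := act 4 n40854
theorem D87705 : act 4 n40854 = n87705 := rfl
theorem F134616 : act 2 n87705 = n41178 := d1_1 D87705 (iv4 D41178) (iv2 F61954)
theorem F134617 : act 7 n87705 = n41167 := d11_2 (iv7 F61955) D87705 (iv4 D41167)
def n87706 : Q := act 6 n40854
theorem D87706 : act 6 n40854 = n87706 := rfl
theorem F134618 : act 2 n87706 = n41179 := d3_1 D87706 (iv6 D41179) (iv2 F61954)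
def n87707 : Q := act 3 n40856
theorem D87707 : act 3 n40856 = n87707 := rfl
theorem F134619 : act 7 n87707 = n41190 := d8_2 (iv7 F64348) D87707 (iv3 D41190)
def n87708 : Q := act 4 n40856
theorem D87708 : act 4 n40856 = n87708 := rfl
theorem F134620 : act 2 n87708 = n41186 := d1_1 D87708 (iv4 D41186) (iv2 F64347)
theorem F134621 : act 7 n87708 = n41191 := d11_2 (iv7 F64348) D87708 (iv4 D41191)
def n87709 : Q := act 6 n40856
theorem D87709 : act 6 n40856 = n87709 := rfl
theorem F134622 : act 2 n87709 = n41188 := d3_1 D87709 (iv6 D41188) (iv2 F64347)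
def n87710 : Q := act 3 n40857
theorem D87710 : act 3 n40857 = n87710 := rfl
theorem F134623 : act 7 n87710 = n41185 := d8_2 (iv7 F64345) D87710 (iv3 D41185)
def n87711 : Q := act 4 n40857
theorem D87711 : act 4 n40857 = n87711 := rfl
theorem F134624 : act 2 n87711 = n41191 := d1_1 D87711 (iv4 D41191) (iv2 F64344)
theorem F134625 : act 7 n87711 = n41186 := d11_2 (iv7 F64345) D87711 (iv4 D41186)
def n87712 : Q := act 6 n40857
theorem D87712 : act 6 n40857 = n87712 := rfl
theorem F134626 : act 2 n87712 = n41193 := d3_1 D87712 (iv6 D41193) (iv2 F64344)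
def n87713 : Q := act 0 n40858
theorem D87713 : act 0 n40858 = n87713 := rfl
theorem F134627 : act 1 n41198 = n87713 := d15_0 (iv0 D87713) (iv7 F133517) F133515
def n87714 : Q := act 1 n40858
theorem D87714 : act 1 n40858 = n87714 := rfl
theorem F134628 : act 1 n87714 = n41198 := d15_1 D87714 (iv7 D41198) (iv2 F61958)
def n87715 : Q := act 3 n40858
theorem D87715 : act 3 n40858 = n87715 := rfl
def n87716 : Q := act 6 n40859
theorem D87716 : act 6 n40859 = n87716 := rfl
theorem F134629 : act 2 n87716 = n41199 := d3_1 D87716 (iv6 D41199) (iv2 F61959)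
def n87717 : Q := act 5 n40861
theorem D87717 : act 5 n40861 = n87717 := rfl
theorem F134630 : act 2 n87717 = n41207 := d2_1 D87717 (iv5 D41207) F61967
theorem F134631 : act 7 n87717 = n40889 := d13_2 (iv7 F63098) D87717 (iv5 D40889)
def n87718 : Q := act 0 n40862
theorem D87718 : act 0 n40862 = n87718 := rfl
theorem F134632 : act 2 n41247 = n87718 := d15_3 (iv0 D87718) (iv0 F73263) (iv7 F73264)
theorem F134633 : act 1 n41248 = n87718 := d15_0 (iv0 D87718) F61970 D41248
theorem F134634 : act 7 n87718 = n40999 := d4_2 (iv7 F73264) F134632 (iv2 F73260)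
theorem F134635 : act 1 n46423 = n41248 := d15_0 F134633 F134634 (iv2 F73260)
def n87719 : Q := act 2 n40862
theorem D87719 : act 2 n40862 = n87719 := rfl
theorem F134636 : act 3 n87719 = n41214 := d0_2 D40862 D87719 (iv2 D41214) (iv3 D19383) (iv2 F31055)
theorem F134637 : act 7 n87719 = n41248 := d4_2 (iv7 F61970) D87719 (iv2 D41248)
theorem F134638 : act 1 n87719 = n40999 := d15_0 F73265 (iv7 F61970) D87719
theorem F134639 : act 1 n41247 = n87719 := d15_0 F134638 (iv7 F134634) (iv2 F134632)
theorem E14431 : n47481 = n47398 := (c20_11 (iv4 D47398) (iv1 F73581) F73579 (iv3 F134636) (iv1 F134639) (iv3 F72170) F72165 (iv1 F58688) F66643 D22807 D47481)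
theorem F134640 : act 1 n47398 = n22807 := (sb E14431 (iv0 D47481))
def n87720 : Q := act 5 n40862
theorem D87720 : act 5 n40862 = n87720 := rfl
theorem F134641 : act 3 n87720 = n40863 := d6_1 D87720 (iv5 D40863) D40862
theorem F134642 : act 7 n87720 = n41249 := d13_2 (iv7 F61970) D87720 (iv5 D41249)
def n87721 : Q := act 0 n40863
theorem D87721 : act 0 n40863 = n87721 := rfl
theorem F134643 : act 5 n87721 = n86928 := d17_3 F63095 D40863 D87721 F133401 (iv5 F64030) F35407 (iv5 D22819) F63108 (iv4 F33446)
theorem F134644 : act 1 n40865 = n87721 := d15_0 (iv0 D87721) F61972 (iv2 F61975)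
theorem F134645 : act 2 n41217 = n87721 := d2_3 F134643 F133400 F63431
theorem F134646 : act 7 n41218 = n87721 := d15_2 (iv0 D41217) D41218 (iv2 F134645)
def n87722 : Q := act 1 n40863
theorem D87722 : act 1 n40863 = n87722 := rfl
theorem F134647 : act 1 n87722 = n40865 := d15_1 D87722 F61976 (iv2 F61971)
theorem F134648 : act 7 n87722 = n41217 := d15_2 (iv0 D87721) D87722 F134645
theorem F134649 : act 5 n87722 = n87019 := d17_7 D40410 F61492 F62075 (iv5 D19262) D19261 D40863 D87722 (iv0 D87019) (iv4 D40412)
theorem F134650 : act 2 n41218 = n87722 := d4_3 F134648 F134645 (iv7 F134646)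
def n87723 : Q := act 4 n40863
theorem D87723 : act 4 n40863 = n87723 := rfl
theorem F134651 : act 2 n87723 = n41219 := d1_1 D87723 (iv4 D41219) (iv2 F61971)
theorem F134652 : act 7 n87723 = n41251 := d11_2 (iv7 F61972) D87723 (iv4 D41251)
def n87724 : Q := act 6 n40863
theorem D87724 : act 6 n40863 = n87724 := rfl
theorem F134653 : act 2 n87724 = n41220 := d3_1 D87724 (iv6 D41220) (iv2 F61971)
def n87725 : Q := act 3 n40864
theorem D87725 : act 3 n40864 = n87725 := rfl
theorem F134654 : act 7 n87725 = n41257 := d8_2 (iv7 F61974) D87725 (iv3 D41257)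
theorem F134655 : act 0 n46753 = n87725 := d20_4 (iv4 F68132) (iv1 F134005) F66071 (iv3 F73872) (iv3 D87725) (iv4 D40864) (iv1 F31022) (iv4 F62373) (iv3 F70490) F74653
def n87726 : Q := act 4 n40865
theorem D87726 : act 4 n40865 = n87726 := rfl
theorem F134656 : act 2 n87726 = n41251 := d1_1 D87726 (iv4 D41251) (iv2 F61975)
theorem F134657 : act 7 n87726 = n41219 := d11_2 (iv7 F61976) D87726 (iv4 D41219)
def n87727 : Q := act 6 n40865
theorem D87727 : act 6 n40865 = n87727 := rfl
theorem F134658 : act 2 n87727 = n41252 := d3_1 D87727 (iv6 D41252) (iv2 F61975)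
def n87728 : Q := act 5 n40866
theorem D87728 : act 5 n40866 = n87728 := rfl
theorem F134659 : act 2 n87728 = n41255 := d2_1 D87728 (iv5 D41255) (iv2 F61977)
theorem F134660 : act 7 n87728 = n87411 := d13_2 F62457 D87728 F134165
theorem F134661 : act 0 n87728 = n44844 := d17_2 F72358 D87728 (iv5 D44844) (iv4 D21370) D21371 F65766 F35404 F65975 D45816
theorem F134662 : act 1 n87728 = n86942 := d17_6 (iv1 F66167) D9897 F66143 F31015 (iv4 F61978) D87728 (iv5 D86942) (iv0 D40356) F30627
def n87729 : Q := act 0 n40870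
theorem D87729 : act 0 n40870 = n87729 := rfl
theorem F134663 : act 5 n87729 = n82481 := d17_3 D19266 D40870 D87729 F127104 (iv5 F75251) (iv0 D47932) (iv5 D23096) F66083 F17155
theorem F134664 : act 4 n87729 = n47939 := d18_1 D87729 (iv1 F75282) (iv4 D46446) (iv5 D22251) D22250 F66081 (iv4 F35149) F35152 D40870
def n87730 : Q := act 4 n40870
theorem D87730 : act 4 n40870 = n87730 := rfl
theorem F134669 : act 6 n87730 = n47623 := d10_2 F69106 D87730 F74886
theorem F134670 : act 7 n87730 = n42521 := d11_2 (iv7 F66075) D87730 (iv4 D42521)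
theorem F134671 : act 5 n87730 = n46812 := d17_5 (iv1 D40877) (iv5 D19268) D19266 D40870 D87730 (iv0 D46812) (iv5 D22473) D22471 F73341
theorem F134672 : act 0 n87730 = n41841 := d18_2 (iv1 F75288) D87730 (iv4 D41841) (iv5 D19695) (iv4 F31444) (iv0 F73880) F64090 D82694 F127414
theorem F134673 : act 1 n87730 = n46780 := d18_6 (iv1 D4886) (iv4 F7239) D10660 F66073 D40870 D87730 (iv4 D46780) F34985 (iv5 D10672)
def n87731 : Q := act 5 n40872
theorem D87731 : act 5 n40872 = n87731 := rfl
theorem F134674 : act 2 n87731 = n42234 := d2_1 D87731 (iv5 D42234) (iv2 F66065)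
theorem F134675 : act 3 n87731 = n40874 := d6_1 D87731 (iv5 D40874) D40872
theorem F134676 : act 7 n87731 = n42474 := d13_2 (iv7 F66067) D87731 (iv5 D42474)
theorem F134677 : act 0 n87731 = n42479 := d17_2 (iv1 F66064) D87731 (iv5 F69455) (iv4 F71754) F75146 F75145 (iv5 D23059) F36093 (iv4 F65545)
theorem F134678 : act 1 n87731 = n42478 := d17_6 (iv1 D42015) D42016 (iv1 F75036) (iv5 D47772) (iv4 F66066) D87731 F66367 F71757 F64855
def n87732 : Q := act 6 n40872
theorem D87732 : act 6 n40872 = n87732 := rfl
theorem F134680 : act 3 n87732 = n40875 := d7_1 D87732 (iv6 D40875) D40872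
theorem F134681 : act 4 n87732 = n47773 := d10_1 D87732 (iv6 D47773) (iv4 F66066)
theorem F134682 : act 0 n42264 = n87732 := d18_0 F134681 (iv1 F76122) F76119 (iv5 F66794) D45355 F71488 F61797 (iv0 F66624) F66623
def n87733 : Q := act 4 n40874
theorem D87733 : act 4 n40874 = n87733 := rfl
theorem F134683 : act 2 n87733 = n42521 := d1_1 D87733 (iv4 D42521) (iv2 F66069)
theorem F134684 : act 1 n87733 = n41841 := d18_6 (iv1 F17127) (iv4 F34707) (iv1 F34710) F66068 D40874 D87733 (iv4 D41841) (iv0 F31445) (iv5 D10667)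
theorem F134686 : act 5 n46813 = n87733 := d17_7 (iv1 F34992) (iv5 D10672) (iv1 D4886) D4887 D10676 D22473 D46813 F134684 (iv4 D41841)
theorem F134687 : act 6 n47695 = n87733 := d21_5 D41406 F63852 (iv5 D22956) D22957 D47695 (iv5 F134686) (iv1 D46813) (iv5 D22473) F17219 D19503
def n87734 : Q := act 6 n40874
theorem D87734 : act 6 n40874 = n87734 := rfl
theorem F134688 : act 2 n87734 = n42522 := d3_1 D87734 (iv6 D42522) (iv2 F66069)
theorem F134689 : act 4 n87734 = n47695 := d10_1 D87734 F134687 (iv4 D87733)
theorem F134690 : act 7 n87734 = n84265 := d14_2 F74261 D87734 (iv6 F133536) (iv7 F134034) F134033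
theorem F134691 : act 0 n87734 = n84266 := d21_4 F74271 (iv1 F35151) D40874 D87734 F129341 (iv5 D43511) (iv1 D20581) D20584 (iv6 F63051) (iv1 F74273)
theorem F134692 : act 0 n42620 = n87734 := d21_4 (iv5 D9698) D9697 (iv5 F31937) D42620 (iv6 D87734) (iv5 D40874) (iv1 D19267) D19268 F30924 F30555
def n87735 : Q := act 5 n40875
theorem D87735 : act 5 n40875 = n87735 := rfl
theorem F134695 : act 0 n43257 = n87735 := d21_1 D43257 (iv5 D87735) (iv6 D40875) (iv1 D19267) (iv6 D9060) (iv5 F7007) F12193 D4375 D9696 D20415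
def n87737 : Q := act 3 n40878
theorem D87737 : act 3 n40878 = n87737 := rfl
theorem F134699 : act 6 n87737 = n41880 := d7_2 (iv6 F61982) D87737 (iv3 D41880)
def n87738 : Q := act 5 n40878
theorem D87738 : act 5 n40878 = n87738 := rfl
theorem F134701 : act 0 n87738 = n47942 := d17_2 F73330 D87738 (iv5 D47942) (iv4 D23099) (iv5 D10882) (iv0 F65658) D10607 D22254 D46447
def n87739 : Q := act 6 n40879
theorem D87739 : act 6 n40879 = n87739 := rfl
theorem F134702 : act 3 n87739 = n40969 := d7_1 D87739 (iv6 D40969) (iv3 F61983)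
theorem F134703 : act 4 n87739 = n47738 := d10_1 D87739 F75011 F73921
theorem F134704 : act 5 n87739 = n84266 := d12_1 D87739 F129341 (iv5 D43511) F62773 (iv5 F61984)
theorem F134705 : act 7 n87739 = n42071 := d14_2 D40879 D87739 (iv6 D42071) F31645 (iv6 F30924)
def n87740 : Q := act 6 n40880
theorem D87740 : act 6 n40880 = n87740 := rfl
theorem F134706 : act 3 n87740 = n46524 := d7_1 D87740 (iv6 D46524) (iv3 F61985)
def n87741 : Q := act 6 n40881
theorem D87741 : act 6 n40881 = n87741 := rfl
def n87742 : Q := act 0 n40882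
theorem D87742 : act 0 n40882 = n87742 := rfl
theorem F134707 : act 3 n87742 = n46566 := d20_5 (iv4 F66813) (iv1 D21465) (iv4 F30927) (iv3 F61986) D87742 (iv4 D46566) (iv1 F73547) F73543 F73542 (iv1 F35257)
def n87743 : Q := act 1 n40882
theorem D87743 : act 1 n40882 = n87743 := rfl
def n87744 : Q := act 5 n40882
theorem D87744 : act 5 n40882 = n87744 := rfl
theorem F134708 : act 3 n87744 = n40885 := d6_1 D87744 (iv5 D40885) (iv3 F61986)
def n87745 : Q := act 0 n40885
theorem D87745 : act 0 n40885 = n87745 := rfl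
def n87746 : Q := act 4 n40885
theorem D87746 : act 4 n40885 = n87746 := rfl
theorem F134709 : act 0 n87746 = n47202 := d18_2 F133552 D87746 (iv4 D47202) (iv5 F72338) F72337 (iv0 D44847) (iv4 F70442) (iv0 F70443) D87017
theorem F134710 : act 1 n87746 = n47205 := d18_6 (iv1 F35257) (iv4 F66813) (iv1 D21465) (iv4 F30927) D40885 D87746 (iv4 D47205) F74420 F74419
def n87747 : Q := act 4 n40889
theorem D87747 : act 4 n40889 = n87747 := rfl
theorem F134711 : act 0 n87747 = n87708 := d18_2 F133591 D87747 (iv4 D87708) (iv5 F64443) (iv4 D41788) (iv0 F68710) (iv4 F133401) (iv0 F133402) D87034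
theorem F134712 : act 1 n87747 = n87711 := d18_6 (iv1 F30913) (iv4 F63102) (iv1 D21881) (iv4 F30928) D40889 D87747 (iv4 D87711) F61957 F30992
def n87748 : Q := act 0 n40891
theorem D87748 : act 0 n40891 = n87748 := rfl
def n87749 : Q := act 1 n40891
theorem D87749 : act 1 n40891 = n87749 := rfl
def n87750 : Q := act 5 n40891
theorem D87750 : act 5 n40891 = n87750 := rfl
theorem F134713 : act 3 n87750 = n57975 := d6_1 D87750 (iv5 D57975) (iv3 F61990)
theorem F134714 : act 6 n87750 = n54402 := d12_2 D40891 D87750 (iv5 D54402) (iv6 D26312) (iv5 F30929)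
def n87751 : Q := act 7 n40891
theorem D87751 : act 7 n40891 = n87751 := rfl
theorem F134716 : act 6 n87751 = n69975 := d14_1 D87751 (iv7 D69975) (iv6 D32485) F30931 D40891
def n87752 : Q := act 6 n40892
theorem D87752 : act 6 n40892 = n87752 := rfl
theorem F134717 : act 2 n87752 = n84627 := d3_1 D87752 (iv6 D84627) (iv2 F61991)
theorem F134718 : act 3 n87752 = n40893 := d7_1 D87752 (iv6 D40893) D40892
theorem F134719 : act 4 n87752 = n84627 := d10_1 D87752 (iv6 D84627) (iv4 F61992)
def n87753 : Q := act 0 n40893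
theorem D87753 : act 0 n40893 = n87753 := rfl
def n87754 : Q := act 1 n40893
theorem D87754 : act 1 n40893 = n87754 := rfl
def n87755 : Q := act 5 n40893
theorem D87755 : act 5 n40893 = n87755 := rfl
theorem F134721 : act 2 n87755 = n69974 := d2_1 D87755 (iv5 D69974) (iv2 F61996)
theorem F134722 : act 6 n87755 = n69909 := d12_2 D40893 D87755 (iv5 D69909) (iv6 D32464) F30934
def n87756 : Q := act 7 n40893
theorem D87756 : act 7 n40893 = n87756 := rfl
def n87757 : Q := act 0 n40894
theorem D87757 : act 0 n40894 = n87757 := rfl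
def n87758 : Q := act 1 n40894
theorem D87758 : act 1 n40894 = n87758 := rfl
theorem F134728 : act 1 n87758 = n40898 := d15_1 D87758 (iv7 D40898) (iv2 F61998)
theorem F134729 : act 3 n87758 = n46707 := d20_5 (iv4 D9517) F66047 (iv4 F30945) (iv3 F62000) (iv1 F134728) (iv4 D46707) (iv1 D22397) (iv4 F34915) F34914 (iv1 F65775)
theorem F134730 : act 4 n87758 = n47079 := d20_0 (iv1 D47079) F35207 F17255 (iv1 F62718) (iv3 F62720) (iv4 D9517) F66047 (iv4 F30945) (iv3 F62000) (iv1 F134728)
def n87759 : Q := act 5 n40894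
theorem D87759 : act 5 n40894 = n87759 := rfl
theorem F134731 : act 2 n87759 = n40897 := d2_1 D87759 (iv5 D40897) (iv2 F61998)
def n87760 : Q := act 7 n40894
theorem D87760 : act 7 n40894 = n87760 := rfl
theorem F134732 : act 2 n87760 = n40898 := d4_1 D87760 (iv7 D40898) (iv2 F61998)
theorem F134733 : act 1 n40898 = n87757 := d15_0 (iv0 D87757) D87760 F134732
theorem F134734 : act 1 n40896 = n87760 := d15_1 D40896 (iv7 D87760) F61998
theorem F134735 : act 4 n46701 = n87757 := d20_0 (iv1 F134733) (iv4 F73442) F73441 F66078 (iv3 F65704) (iv4 D9808) (iv1 F62485) (iv4 F17808) (iv3 F35206) F73820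
theorem F134736 : act 1 n87760 = n40895 := d15_0 (iv0 D40895) D40898 (iv2 F134732)
def n87761 : Q := act 2 n40895
theorem D87761 : act 2 n40895 = n87761 := rfl
theorem F134737 : act 7 n40896 = n87761 := d15_2 (iv0 D40895) D40896 (iv2 D87761)
def n87762 : Q := act 4 n40895
theorem D87762 : act 4 n40895 = n87762 := rfl
theorem F134738 : act 0 n87762 = n43651 := d20_1 D87762 F68581 F35219 (iv1 F62576) F17774 (iv4 D9537) (iv1 F66043) (iv4 F14146) (iv3 F30936) D40895
def n87763 : Q := act 5 n40895
theorem D87763 : act 5 n40895 = n87763 := rfl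
def n87764 : Q := act 6 n40895
theorem D87764 : act 6 n40895 = n87764 := rfl
def n87765 : Q := act 7 n40895
theorem D87765 : act 7 n40895 = n87765 := rfl
theorem F134739 : act 2 n87765 = n40896 := d4_1 D87765 F134737 (iv2 D87761)
def n87766 : Q := act 3 n40896
theorem D87766 : act 3 n40896 = n87766 := rfl
def n87767 : Q := act 4 n40896
theorem D87767 : act 4 n40896 = n87767 := rfl
theorem F134740 : act 0 n43651 = n87767 := d20_10 (iv4 D87767) (iv1 D40896) (iv4 F34771) F34770 (iv1 F66083) F17663 (iv4 D9792) D9789 D20647 D43651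
theorem F134741 : act 3 n46693 = n87767 := d20_5 (iv4 D10881) F65657 (iv4 F17214) (iv3 F34953) (iv1 F73797) (iv4 D87767) (iv1 D40896) (iv4 F34771) F34770 (iv1 F66083)
theorem F134742 : act 1 n47072 = n87767 := d15_0 (iv0 F134740) F68583 (iv2 F74320)
def n87768 : Q := act 5 n40896
theorem D87768 : act 5 n40896 = n87768 := rfl
def n87769 : Q := act 6 n40896
theorem D87769 : act 6 n40896 = n87769 := rfl
def n87770 : Q := act 0 n40897
theorem D87770 : act 0 n40897 = n87770 := rfl
def n87771 : Q := act 1 n40897
theorem D87771 : act 1 n40897 = n87771 := rfl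
def n87772 : Q := act 4 n40897
theorem D87772 : act 4 n40897 = n87772 := rfl
def n87773 : Q := act 7 n40897
theorem D87773 : act 7 n40897 = n87773 := rfl
theorem F134743 : act 3 n87773 = n40919 := d8_1 D87773 (iv7 D40919) (iv3 F61999)
theorem F134744 : act 5 n87773 = n40898 := d13_1 D87773 (iv7 D40898) D40897
def n87774 : Q := act 4 n40899
theorem D87774 : act 4 n40899 = n87774 := rfl
theorem F134745 : act 2 n87774 = n47004 := d1_1 D87774 (iv4 F74248) F74063
theorem F134746 : act 3 n87774 = n45888 := d5_1 D87774 (iv4 F124257) (iv3 D80755) F57817 D40899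
theorem F134747 : act 7 n87774 = n47003 := d11_2 (iv7 F62002) D87774 F74247
theorem F134748 : act 0 n87774 = n46989 := d17_0 (iv5 F130114) F130116 (iv5 F128474) (iv4 F129890) F129888 F70101 F72915 F72501 D87774
theorem F134749 : act 1 n87774 = n46506 := d18_6 (iv1 D37851) (iv4 F33470) F33472 (iv4 F33492) (iv5 F62001) D87774 (iv4 D46506) F72418 F72415
def n87775 : Q := act 6 n40899
theorem D87775 : act 6 n40899 = n87775 := rfl
theorem F134750 : act 3 n87775 = n40900 := d7_1 D87775 (iv6 D40900) D40899
def n87776 : Q := act 0 n40900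
theorem D87776 : act 0 n40900 = n87776 := rfl
def n87777 : Q := act 1 n40900
theorem D87777 : act 1 n40900 = n87777 := rfl
theorem F134751 : act 1 n87777 = n87349 := d15_1 D87777 (iv7 D87349) (iv2 F62003)
def n87779 : Q := act 7 n40900
theorem D87779 : act 7 n40900 = n87779 := rfl
theorem F134754 : act 2 n87779 = n87349 := d4_1 D87779 (iv7 D87349) (iv2 F62003)
theorem F134755 : act 6 n87779 = n87343 := d14_1 D87779 (iv7 D87343) (iv6 D40594) F30940 D40900
theorem F134756 : act 1 n87349 = n87776 := d15_0 (iv0 D87776) D87779 F134754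
theorem F134757 : act 1 n87347 = n87779 := d15_1 D87347 (iv7 D87779) F62003
theorem F134758 : act 1 n87779 = n87346 := d15_0 (iv0 D87346) D87349 (iv2 F134754)
def n87780 : Q := act 0 n40901
theorem D87780 : act 0 n40901 = n87780 := rfl
def n87781 : Q := act 1 n40901
theorem D87781 : act 1 n40901 = n87781 := rfl
theorem F134759 : act 1 n87781 = n87343 := d15_1 D87781 (iv7 D87343) (iv2 F62004)
def n87782 : Q := act 5 n40901
theorem D87782 : act 5 n40901 = n87782 := rfl
theorem F134760 : act 2 n87782 = n87342 := d2_1 D87782 (iv5 D87342) (iv2 F62004)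
theorem F134761 : act 6 n87782 = n86916 := d12_2 D40901 D87782 (iv5 D86916) (iv6 D40328) (iv5 F30943)
def n87783 : Q := act 7 n40901
theorem D87783 : act 7 n40901 = n87783 := rfl
theorem F134762 : act 2 n87783 = n87343 := d4_1 D87783 (iv7 D87343) (iv2 F62004)
theorem F134763 : act 6 n87783 = n87349 := d14_1 D87783 (iv7 D87349) (iv6 D40599) (iv7 F30942) D40901
theorem F134764 : act 1 n87343 = n87780 := d15_0 (iv0 D87780) D87783 F134762
theorem F134765 : act 1 n87341 = n87783 := d15_1 D87341 (iv7 D87783) F62004
theorem F134766 : act 1 n87783 = n87340 := d15_0 (iv0 D87340) D87343 (iv2 F134762)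
def n87784 : Q := act 2 n40902
theorem D87784 : act 2 n40902 = n87784 := rfl
theorem F134767 : act 7 n40903 = n87784 := d15_2 (iv0 D40902) D40903 (iv2 D87784)
def n87785 : Q := act 3 n40902
theorem D87785 : act 3 n40902 = n87785 := rfl
def n87786 : Q := act 4 n40902
theorem D87786 : act 4 n40902 = n87786 := rfl
def n87787 : Q := act 5 n40902
theorem D87787 : act 5 n40902 = n87787 := rfl
def n87788 : Q := act 6 n40902
theorem D87788 : act 6 n40902 = n87788 := rfl
theorem F134768 : act 5 n87788 = n87567 := d21_6 F30825 (iv1 D9062) D9064 D19279 D40902 D87788 (iv1 D87567) (iv5 D40757) (iv6 D19228) (iv1 F30824)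
def n87789 : Q := act 7 n40902
theorem D87789 : act 7 n40902 = n87789 := rfl
def n87790 : Q := act 3 n40903
theorem D87790 : act 3 n40903 = n87790 := rfl
def n87791 : Q := act 4 n40903
theorem D87791 : act 4 n40903 = n87791 := rfl
def n87792 : Q := act 5 n40903
theorem D87792 : act 5 n40903 = n87792 := rfl
def n87793 : Q := act 6 n40903
theorem D87793 : act 6 n40903 = n87793 := rfl
def n87794 : Q := act 0 n40904
theorem D87794 : act 0 n40904 = n87794 := rfl
def n87795 : Q := act 1 n40904
theorem D87795 : act 1 n40904 = n87795 := rfl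
def n87796 : Q := act 4 n40904
theorem D87796 : act 4 n40904 = n87796 := rfl
theorem F134770 : act 6 n87796 = n40918 := d10_2 (iv6 F62005) D87796 (iv4 D40918)
def n87797 : Q := act 7 n40904
theorem D87797 : act 7 n40904 = n87797 := rfl
theorem F134771 : act 5 n87797 = n40905 := d13_1 D87797 (iv7 D40905) D40904
def n87798 : Q := act 0 n40907
theorem D87798 : act 0 n40907 = n87798 := rfl
def n87799 : Q := act 1 n40907
theorem D87799 : act 1 n40907 = n87799 := rfl
def n87800 : Q := act 5 n40907
theorem D87800 : act 5 n40907 = n87800 := rfl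
theorem F134772 : act 3 n87800 = n40909 := d6_1 D87800 (iv5 D40909) D40907
def n87801 : Q := act 6 n40907
theorem D87801 : act 6 n40907 = n87801 := rfl
theorem F134773 : act 3 n87801 = n40910 := d7_1 D87801 (iv6 D40910) D40907
theorem F134774 : act 4 n87801 = n44860 := d10_1 D87801 (iv6 F75049) F75048
def n87802 : Q := act 1 n40909
theorem D87802 : act 1 n40909 = n87802 := rfl
theorem F134775 : act 1 n87802 = n40914 := d15_1 D87802 (iv7 F75774) F75773
def n87803 : Q := act 4 n40909
theorem D87803 : act 4 n40909 = n87803 := rfl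
def n87804 : Q := act 6 n40909
theorem D87804 : act 6 n40909 = n87804 := rfl
def n87805 : Q := act 4 n40914
theorem D87805 : act 4 n40914 = n87805 := rfl
def n87806 : Q := act 6 n40914
theorem D87806 : act 6 n40914 = n87806 := rfl
def n87807 : Q := act 1 n40915
theorem D87807 : act 1 n40915 = n87807 := rfl
def n87808 : Q := act 5 n40915
theorem D87808 : act 5 n40915 = n87808 := rfl
def n87809 : Q := act 3 n40916
theorem D87809 : act 3 n40916 = n87809 := rfl
def n87810 : Q := act 4 n40916
theorem D87810 : act 4 n40916 = n87810 := rfl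
def n87811 : Q := act 5 n40916
theorem D87811 : act 5 n40916 = n87811 := rfl
theorem F134776 : act 2 n87811 = n87030 := d2_1 D87811 F133586 (iv2 F133396)
theorem F134777 : act 7 n87811 = n86926 := d13_2 (iv7 F133394) D87811 F133392
theorem F134778 : act 4 n87811 = n46662 := d17_4 (iv1 D19281) D19282 D40916 D87811 (iv5 D46662) (iv0 D22373) (iv5 D10647) D10646 F66124
theorem F134779 : act 1 n87811 = n44277 := d17_8 F62524 (iv5 D40960) (iv1 F66035) (iv5 D20194) D20193 D42748 F66964 D87811 (iv4 D44277)
theorem F134780 : act 0 n46651 = n87810 := d18_2 (iv1 D46650) D46651 (iv4 D87810) D87811 F134778 F73749 F63986 F69639 F73715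
theorem F134781 : act 6 n87811 = n87019 := d21_9 D87034 F133591 (iv5 D40889) (iv6 D19272) (iv1 D9062) D9065 D19282 D40916 D87811 (iv1 F133559)
theorem F134782 : act 1 n44279 = n87811 := d18_6 (iv1 D47886) D47887 (iv1 F75191) (iv4 D42728) (iv5 F66337) D44279 F134778 F73749 (iv5 F75179)
theorem E14432 : n87031 = n86926 := (c15_2 (iv0 D87030) D87031 (iv7 F134777) F134776)
theorem F134783 : act 0 n86926 = n40424 := (sb E14432 (iv1 D87031))
def n87812 : Q := act 6 n40916
theorem D87812 : act 6 n40916 = n87812 := rfl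
def n87813 : Q := act 3 n40917
theorem D87813 : act 3 n40917 = n87813 := rfl
theorem F134784 : act 5 n87813 = n87572 := d6_2 F62008 D87813 F134454
def n87814 : Q := act 4 n40917
theorem D87814 : act 4 n40917 = n87814 := rfl
theorem F134785 : act 0 n87814 = n46651 := d18_2 (iv1 F66963) D87814 (iv4 D46651) (iv5 D22361) F17190 D10646 F66124 F66053 D42748
def n87815 : Q := act 6 n40917
theorem D87815 : act 6 n40917 = n87815 := rfl
theorem F134786 : act 5 n87815 = n87576 := d12_1 D87815 (iv6 D87576) (iv5 D40762) D40763 F62008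
def n87816 : Q := act 0 n40918
theorem D87816 : act 0 n40918 = n87816 := rfl
def n87817 : Q := act 1 n40918
theorem D87817 : act 1 n40918 = n87817 := rfl
theorem F134787 : act 4 n87817 = n41098 := d18_7 (iv1 D20200) (iv4 D9537) (iv1 F66043) (iv4 F14146) D19282 D40918 D87817 (iv0 F66996) (iv5 D42756)
def n87818 : Q := act 3 n40918
theorem D87818 : act 3 n40918 = n87818 := rfl
def n87819 : Q := act 5 n40918
theorem D87819 : act 5 n40918 = n87819 := rfl
def n87820 : Q := act 7 n40918
theorem D87820 : act 7 n40918 = n87820 := rfl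
theorem F134788 : act 4 n87820 = n40919 := d11_1 D87820 (iv7 D40919) D40918
def n87821 : Q := act 6 n40919
theorem D87821 : act 6 n40919 = n87821 := rfl
def n87822 : Q := act 5 n40935
theorem D87822 : act 5 n40935 = n87822 := rfl
theorem F134789 : act 3 n87822 = n40936 := d6_1 D87822 (iv5 D40936) D40935
def n87823 : Q := act 6 n40935
theorem D87823 : act 6 n40935 = n87823 := rfl
theorem F134790 : act 3 n87823 = n40937 := d7_1 D87823 (iv6 D40937) D40935
theorem F134792 : act 7 n87437 = n87823 := d8_0 F134790 F62296 D87437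
def n87824 : Q := act 4 n40936
theorem D87824 : act 4 n40936 = n87824 := rfl
theorem F134793 : act 2 n87824 = n42723 := d1_1 D87824 (iv4 D42723) (iv2 F66117)
def n87825 : Q := act 6 n40936
theorem D87825 : act 6 n40936 = n87825 := rfl
theorem F134794 : act 2 n87825 = n42724 := d3_1 D87825 (iv6 D42724) (iv2 F66117)
def n87826 : Q := act 3 n40940
theorem D87826 : act 3 n40940 = n87826 := rfl
theorem F134795 : act 4 n87826 = n87826 := d5_2 D40940 D87826 (iv3 D87826) (iv4 D40940) F66114
def n87827 : Q := act 5 n40940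
theorem D87827 : act 5 n40940 = n87827 := rfl
theorem F134796 : act 2 n87827 = n42732 := d2_1 D87827 (iv5 D42732) (iv2 F66352)
def n87830 : Q := act 4 n40960
theorem D87830 : act 4 n40960 = n87830 := rfl
theorem F134799 : act 2 n87830 = n42793 := d1_1 D87830 (iv4 D42793) F62483
theorem F134800 : act 6 n87830 = n87018 := d10_2 (iv6 F62045) D87830 (iv4 D87018)
theorem F134801 : act 7 n87830 = n44256 := d11_2 F62528 D87830 F69638
theorem F134802 : act 5 n87830 = n41097 := d17_5 (iv1 F66043) D9068 D19294 D40960 D87830 (iv0 D41097) (iv5 D19339) (iv0 F65648) (iv4 D9537)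
theorem F134803 : act 0 n87830 = n44266 := d17_0 (iv5 F69666) (iv1 D42722) (iv5 D20170) (iv4 D9517) D9518 D20173 (iv5 F66337) F62526 D87830
theorem F134804 : act 4 n41097 = n87816 := d18_5 (iv1 F69689) (iv4 D44277) F62524 D87830 F134802 (iv0 D87816) (iv4 D40918) D40917 (iv5 F62008)
theorem F134805 : act 0 n44265 = n87830 := d21_10 F134802 (iv1 F66997) (iv5 D42756) F65652 (iv1 F62725) D20695 D43702 (iv1 F133345) (iv5 D86909) (iv6 F69659)
def n87832 : Q := act 5 n40964
theorem D87832 : act 5 n40964 = n87832 := rfl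
def n87834 : Q := act 5 n40965
theorem D87834 : act 5 n40965 = n87834 := rfl
def n87838 : Q := act 2 n40966
theorem D87838 : act 2 n40966 = n87838 := rfl
theorem F134807 : act 6 n87838 = n86877 := d3_2 (iv6 F62111) D87838 (iv2 D86877)
def n87839 : Q := act 5 n40966
theorem D87839 : act 5 n40966 = n87839 := rfl
theorem F134808 : act 3 n87839 = n40967 := d6_1 D87839 (iv5 D40967) D40966
def n87841 : Q := act 0 n40967
theorem D87841 : act 0 n40967 = n87841 := rfl
theorem F134810 : act 5 n87841 = n46654 := d17_3 (iv1 D40965) D40967 D87841 (iv4 D46654) (iv5 D22366) (iv0 D10645) D10647 D22374 F72768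
def n87842 : Q := act 1 n40967
theorem D87842 : act 1 n40967 = n87842 := rfl
theorem F134811 : act 5 n87842 = n46657 := d17_7 (iv1 D20204) (iv5 D9538) (iv1 F66043) D9068 D19296 D40967 D87842 F73734 (iv4 D42769)
def n87843 : Q := act 4 n40967
theorem D87843 : act 4 n40967 = n87843 := rfl
def n87844 : Q := act 6 n40967
theorem D87844 : act 6 n40967 = n87844 := rfl
theorem F134812 : act 5 n87844 = n86881 := d12_1 D87844 (iv6 D86881) (iv5 D40305) (iv6 F30950) D40967
def n87845 : Q := act 7 n40967
theorem D87845 : act 7 n40967 = n87845 := rfl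
theorem F134813 : act 5 n87845 = n40968 := d13_1 D87845 (iv7 D40968) D40967
def n87846 : Q := act 6 n40968
theorem D87846 : act 6 n40968 = n87846 := rfl
theorem F134815 : act 7 n87846 = n42074 := d14_2 D40968 D87846 (iv6 D42074) F31649 (iv6 F30950)
def n87847 : Q := act 5 n40971
theorem D87847 : act 5 n40971 = n87847 := rfl
theorem F134816 : act 2 n87847 = n40992 := d2_1 D87847 (iv5 D40992) F62967
theorem F134817 : act 3 n87847 = n43512 := d6_1 D87847 (iv5 D43512) F62952
theorem F134818 : act 7 n87847 = n40987 := d13_2 (iv7 F62966) D87847 (iv5 D40987)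
theorem F134819 : act 0 n87847 = n43481 := d17_2 (iv1 F62114) D87847 (iv5 F75632) (iv4 F70414) F75558 F75557 (iv5 D23227) F36312 F62533
theorem F134820 : act 0 n43480 = n87847 := d21_1 (iv5 F68341) (iv5 D87847) F63020 (iv1 F74576) F74573 F66275 (iv1 F66290) (iv5 D20816) D20817 (iv1 F71466)
theorem F134821 : act 6 n42546 = n87847 := d21_5 F16955 (iv1 F30732) D19832 (iv6 F36459) (iv1 F66013) (iv5 D87847) (iv1 D40971) D40972 F62117 F31691
theorem F134822 : act 4 n87847 = n47917 := d10_1 F134821 (iv6 D47917) F66371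
def n87848 : Q := act 1 n40972
theorem D87848 : act 1 n40972 = n87848 := rfl
theorem F134824 : act 1 n87848 = n40997 := d15_1 D87848 (iv7 D40997) (iv2 F62115)
theorem F134825 : act 7 n87848 = n40994 := d15_2 (iv0 F68408) D87848 (iv2 F66319)
theorem F134826 : act 5 n87848 = n43927 := d18_9 (iv1 F69171) (iv4 F71461) F73957 F70415 F63418 D23235 D48114 (iv4 F75598) D87848
theorem F134827 : act 3 n43542 = n87848 := d20_3 (iv4 F35127) (iv1 F73415) F73418 (iv1 D87848) F62116 (iv4 F67528) F73406 (iv4 D46477) F65728 (iv1 F34756)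
theorem F134828 : act 2 n87848 = n40995 := d0_1 F134827 F66316 F35775 D20599 D43542
theorem F134829 : act 4 n47999 = n87848 := d20_2 (iv4 F36335) (iv1 F75401) (iv3 F134827) F68435 F35220 D23336 D48198 F75747 F74017 (iv1 F36243)
def n87849 : Q := act 7 n40972
theorem D87849 : act 7 n40972 = n87849 := rfl
theorem F134830 : act 2 n87849 = n40997 := d4_1 D87849 (iv7 D40997) (iv2 F62115)
theorem F134831 : act 3 n87849 = n84249 := d8_1 D87849 (iv7 D84249) (iv3 F62116)
theorem F134832 : act 5 n87849 = n40973 := d13_1 D87849 (iv7 D40973) D40972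
theorem F134833 : act 1 n40995 = n87849 := d15_1 D40995 (iv7 D87849) F62115
theorem F134834 : act 1 n87849 = n40994 := d15_1 F134833 (iv7 F134825) F134828
def n87850 : Q := act 6 n40974
theorem D87850 : act 6 n40974 = n87850 := rfl
def n87851 : Q := act 6 n40975
theorem D87851 : act 6 n40975 = n87851 := rfl
def n87852 : Q := act 5 n40976
theorem D87852 : act 5 n40976 = n87852 := rfl
theorem F134835 : act 2 n87852 = n40977 := d2_1 D87852 (iv5 D40977) D40976
theorem F134836 : act 3 n87852 = n44590 := d6_1 D87852 (iv5 D44590) (iv3 F62122)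
theorem F134837 : act 0 n87852 = n87459 := d17_2 (iv1 F70579) D87852 (iv5 D87459) (iv4 F72299) F72298 D81970 F126382 F73517 (iv4 F70578)
theorem F134838 : act 1 n87852 = n87457 := d17_6 D19224 D40744 (iv1 F61854) F51885 (iv4 F62123) D87852 (iv5 D87457) (iv0 D40690) F30851
def n87853 : Q := act 6 n40976
theorem D87853 : act 6 n40976 = n87853 := rfl
theorem F134839 : act 2 n87853 = n40978 := d3_1 D87853 (iv6 D40978) D40976
theorem F134840 : act 3 n87853 = n44591 := d7_1 D87853 (iv6 D44591) (iv3 F62122)
theorem F134841 : act 4 n87853 = n41000 := d10_1 D87853 (iv6 D41000) (iv4 F62123)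
def n87854 : Q := act 1 n40977
theorem D87854 : act 1 n40977 = n87854 := rfl
theorem F134842 : act 7 n87854 = n87459 := d15_2 (iv0 F106461) D87854 F134272
theorem F134843 : act 5 n87854 = n45323 := d17_7 (iv1 F34484) (iv5 F34957) F34959 (iv5 D19308) (iv4 F30953) D40977 D87854 F71398 F61807
theorem F134844 : act 3 n87459 = n87854 := d19_19 (iv1 D87854) (iv5 D40977) F30953 (iv3 D9073) (iv1 F14144) (iv5 F30825) (iv4 F61679) (iv3 F116537) (iv1 F116540) (iv5 F106242) (iv4 F108457) (iv3 D71959) (iv1 F52483) D33254 (iv4 F94755) F121962 (iv1 D79370) D79371 (iv4 F134273)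
theorem F134845 : act 2 n87854 = n87457 := d0_1 F134844 F134269 F96254 D70062 (iv2 F134272)
def n87855 : Q := act 4 n40977
theorem D87855 : act 4 n40977 = n87855 := rfl
theorem F134846 : act 1 n87855 = n44718 := d18_6 (iv1 D23165) F17721 F17196 (iv4 F30953) D40977 D87855 (iv4 D44718) D44717 F71597
def n87856 : Q := act 6 n40977
theorem D87856 : act 6 n40977 = n87856 := rfl
theorem F134847 : act 3 n87856 = n40979 := d7_1 D87856 (iv6 D40979) (iv3 F62124)
def n87857 : Q := act 0 n40978
theorem D87857 : act 0 n40978 = n87857 := rfl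
def n87858 : Q := act 1 n40978
theorem D87858 : act 1 n40978 = n87858 := rfl
def n87859 : Q := act 5 n40978
theorem D87859 : act 5 n40978 = n87859 := rfl
theorem F134848 : act 3 n87859 = n40982 := d6_1 D87859 (iv5 D40982) (iv3 F62125)
def n87860 : Q := act 0 n40979
theorem D87860 : act 0 n40979 = n87860 := rfl
def n87861 : Q := act 1 n40979
theorem D87861 : act 1 n40979 = n87861 := rfl
def n87862 : Q := act 5 n40979
theorem D87862 : act 5 n40979 = n87862 := rfl
theorem F134849 : act 6 n87862 = n40982 := d12_2 D40979 D87862 (iv5 D40982) (iv6 D19301) D19300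
def n87863 : Q := act 7 n40979
theorem D87863 : act 7 n40979 = n87863 := rfl
def n87864 : Q := act 0 n40982
theorem D87864 : act 0 n40982 = n87864 := rfl
def n87865 : Q := act 4 n40982
theorem D87865 : act 4 n40982 = n87865 := rfl
theorem F134850 : act 1 n87865 = n48067 := d18_6 (iv1 F36234) F62970 (iv1 D19303) (iv4 F30956) D40982 D87865 (iv4 D48067) F75380 F75378
def n87866 : Q := act 0 n40987
theorem D87866 : act 0 n40987 = n87866 := rfl
theorem F134851 : act 5 n87866 = n42104 := d21_2 D40987 D87866 (iv6 D42104) (iv1 D19854) (iv6 D9342) (iv5 D4232) (iv1 F12245) F7026 D9072 D19302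
theorem F134853 : act 1 n40992 = n87866 := d15_0 (iv0 D87866) (iv7 F134818) F134816
theorem F134854 : act 7 n87866 = n43481 := d15_2 F134298 F134853 F75633
def n87867 : Q := act 4 n40987
theorem D87867 : act 4 n40987 = n87867 := rfl
theorem F134856 : act 7 n87867 = n47917 := d11_2 F134818 D87867 (iv4 F134822)
theorem F134857 : act 5 n87867 = n48135 := d17_5 (iv1 D40995) (iv5 D19304) D19302 D40987 D87867 (iv0 D48135) (iv5 D23245) D23243 (iv4 F66318)
theorem F134858 : act 0 n87867 = n48093 := d18_2 F134297 D87867 (iv4 D48093) F36313 (iv4 F70273) F70367 (iv4 F69052) (iv0 F69169) F69166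
def n87869 : Q := act 4 n40992
theorem D87869 : act 4 n40992 = n87869 := rfl
theorem F134861 : act 2 n87869 = n47917 := d1_1 D87869 (iv4 F134822) F134816
theorem F134862 : act 6 n87869 = n42547 := d10_2 F62977 D87869 (iv4 D42547)
theorem F134864 : act 1 n87869 = n48093 := d18_6 (iv1 F17720) (iv4 F36232) (iv1 F36234) F62970 D40992 D87869 (iv4 D48093) (iv0 D23211) (iv5 D10921)
theorem F134865 : act 0 n87869 = n48095 := d20_7 D10940 (iv1 F32779) (iv4 D20670) D20669 (iv1 F35935) (iv3 F62972) D87869 (iv4 D48095) F63303 (iv1 D10939)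
theorem F134866 : act 5 n48136 = n87869 := d17_7 (iv1 F36317) (iv5 D10926) (iv1 D4976) D4977 D10930 D23245 D48136 F134864 (iv4 D48093)
def n87870 : Q := act 5 n40994
theorem D87870 : act 5 n40994 = n87870 := rfl
theorem F134868 : act 3 n87870 = n82492 := d6_1 D87870 F127132 (iv3 F74174)
theorem F134870 : act 4 n87870 = n44795 := d17_4 (iv1 D19303) D19304 D40994 D87870 F75384 (iv0 D23189) (iv5 D10916) D10915 F62970
theorem F134871 : act 0 n87870 = n43934 := d21_1 D87870 F75632 (iv6 F125256) (iv1 D42271) F31787 (iv5 D9832) (iv1 F16870) D19053 (iv6 F30958) D40994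
theorem F134872 : act 1 n87870 = n41907 := d15_1 (iv0 F134871) (iv7 F69168) (iv2 F71464)
theorem F134873 : act 0 n87865 = n48064 := d18_2 F70413 D87865 (iv4 D48064) (iv5 F75384) (iv4 F134870) F134872 (iv4 F70265) (iv0 F70266) D44834
def n87871 : Q := act 6 n40994
theorem D87871 : act 6 n40994 = n87871 := rfl
theorem F134875 : act 4 n87871 = n48126 := d10_1 D87871 (iv6 D48126) F68411
def n87872 : Q := act 6 n40995
theorem D87872 : act 6 n40995 = n87872 := rfl
theorem F134877 : act 4 n87872 = n48129 := d10_1 D87872 (iv6 D48129) (iv4 F66318)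
theorem F134878 : act 5 n87872 = n43932 := d12_1 D87872 (iv6 D43932) (iv5 D20816) D20817 F66315
theorem F134879 : act 0 n87872 = n42102 := d21_4 (iv5 F75632) (iv1 D43934) F66315 D87872 F66369 F66367 D87024 F133580 F134821 F134819
theorem F134880 : act 1 n87872 = n42103 := d15_1 (iv0 F134879) (iv7 F134256) F134254
theorem F134881 : act 1 n41991 = n48129 := d18_6 (iv1 D19854) (iv4 F16010) (iv1 F35802) F31548 D19786 D41991 (iv4 F134877) F134880 (iv5 D42103)
theorem F134882 : act 1 n48129 = n44699 := d15_1 F134881 (iv7 F71485) F71484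
def n87873 : Q := act 3 n40996
theorem D87873 : act 3 n40996 = n87873 := rfl
theorem F134883 : act 4 n87873 = n41062 := d5_2 D40996 D87873 (iv3 D41062) (iv4 D19327) (iv3 F30957)
theorem F134884 : act 6 n87873 = n86882 := d7_2 (iv6 F62130) D87873 (iv3 D86882)
def n87874 : Q := act 5 n40996
theorem D87874 : act 5 n40996 = n87874 := rfl
def n87875 : Q := act 6 n40997
theorem D87875 : act 6 n40997 = n87875 := rfl
theorem F134885 : act 3 n87875 = n41065 := d7_1 D87875 (iv6 D41065) (iv3 F62131)
theorem F134886 : act 7 n87875 = n41266 := d14_2 D40997 D87875 (iv6 D41266) F31072 (iv6 F30958)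
def n87876 : Q := act 5 n40999
theorem D87876 : act 5 n40999 = n87876 := rfl
def n87877 : Q := act 5 n41000
theorem D87877 : act 5 n41000 = n87877 := rfl
theorem F134887 : act 2 n87877 = n41005 := d2_1 D87877 (iv5 D41005) (iv2 F62133)
def n87878 : Q := act 4 n41001
theorem D87878 : act 4 n41001 = n87878 := rfl
theorem F134888 : act 2 n87878 = n46010 := d1_1 D87878 (iv4 D46010) F62135
theorem F134889 : act 7 n87878 = n87536 := d11_2 (iv7 F62136) D87878 (iv4 D87536)
theorem F134890 : act 1 n87878 = n87493 := d18_6 F70285 (iv4 D44707) (iv1 F34081) (iv4 F34487) (iv5 F62134) D87878 F134358 (iv0 F126384) F74223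
theorem F134891 : act 3 n87878 = n77268 := d19_3 (iv1 F34489) (iv5 F62134) D87878 (iv1 D77268) (iv5 F64334) F64333 (iv3 D19629) F14426 (iv5 D8648) (iv4 F7224) F13842 (iv1 D8876) (iv5 D3961) F2927 F1747 F6412 (iv5 F7015) D8936 D19072
def n87879 : Q := act 6 n41001
theorem D87879 : act 6 n41001 = n87879 := rfl
theorem F134892 : act 2 n87879 = n46011 := d3_1 D87879 (iv6 D46011) F62135
def n87880 : Q := act 0 n41002
theorem D87880 : act 0 n41002 = n87880 := rfl
def n87881 : Q := act 1 n41002
theorem D87881 : act 1 n41002 = n87881 := rfl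
def n87882 : Q := act 5 n41002
theorem D87882 : act 5 n41002 = n87882 := rfl
theorem F134893 : act 3 n87882 = n41009 := d6_1 D87882 (iv5 D41009) (iv3 F62137)
theorem F134894 : act 6 n87882 = n41005 := d12_2 D41002 D87882 (iv5 D41005) (iv6 D19309) D19308
def n87883 : Q := act 7 n41002
theorem D87883 : act 7 n41002 = n87883 := rfl
theorem F134895 : act 3 n87883 = n41010 := d8_1 D87883 (iv7 D41010) (iv3 F62137)
def n87884 : Q := act 5 n41003
theorem D87884 : act 5 n41003 = n87884 := rfl
def n87885 : Q := act 6 n41003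
theorem D87885 : act 6 n41003 = n87885 := rfl
def n87886 : Q := act 0 n41005
theorem D87886 : act 0 n41005 = n87886 := rfl
def n87887 : Q := act 1 n41005
theorem D87887 : act 1 n41005 = n87887 := rfl
def n87888 : Q := act 4 n41005
theorem D87888 : act 4 n41005 = n87888 := rfl
def n87889 : Q := act 7 n41005
theorem D87889 : act 7 n41005 = n87889 := rfl
theorem F134896 : act 3 n87889 = n41024 := d8_1 D87889 (iv7 D41024) (iv3 F62138)
theorem F134897 : act 5 n87889 = n41006 := d13_1 D87889 (iv7 D41006) D41005
def n87890 : Q := act 2 n41007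
theorem D87890 : act 2 n41007 = n87890 := rfl
theorem F134898 : act 7 n41008 = n87890 := d15_2 (iv0 D41007) D41008 (iv2 D87890)
def n87891 : Q := act 3 n41007
theorem D87891 : act 3 n41007 = n87891 := rfl
def n87892 : Q := act 4 n41007
theorem D87892 : act 4 n41007 = n87892 := rfl
def n87893 : Q := act 5 n41007
theorem D87893 : act 5 n41007 = n87893 := rfl
def n87894 : Q := act 6 n41007
theorem D87894 : act 6 n41007 = n87894 := rfl
theorem F134899 : act 5 n87894 = n87404 := d21_6 F30822 (iv1 F14141) D9074 D19310 D41007 D87894 (iv1 D87404) (iv5 D40618) (iv6 D19182) D19180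
def n87895 : Q := act 7 n41007
theorem D87895 : act 7 n41007 = n87895 := rfl
theorem F134900 : act 2 n87895 = n41008 := d4_1 D87895 F134898 (iv2 D87890)
def n87896 : Q := act 3 n41008
theorem D87896 : act 3 n41008 = n87896 := rfl
def n87897 : Q := act 4 n41008
theorem D87897 : act 4 n41008 = n87897 := rfl
def n87898 : Q := act 5 n41008
theorem D87898 : act 5 n41008 = n87898 := rfl
def n87899 : Q := act 6 n41008
theorem D87899 : act 6 n41008 = n87899 := rfl
def n87900 : Q := act 0 n41009
theorem D87900 : act 0 n41009 = n87900 := rfl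
def n87901 : Q := act 1 n41009
theorem D87901 : act 1 n41009 = n87901 := rfl
def n87902 : Q := act 4 n41009
theorem D87902 : act 4 n41009 = n87902 := rfl
theorem F134901 : act 6 n87902 = n41023 := d10_2 (iv6 F62140) D87902 (iv4 D41023)
def n87903 : Q := act 7 n41009
theorem D87903 : act 7 n41009 = n87903 := rfl
theorem F134902 : act 5 n87903 = n41010 := d13_1 D87903 (iv7 D41010) D41009
def n87904 : Q := act 1 n41012
theorem D87904 : act 1 n41012 = n87904 := rfl
def n87905 : Q := act 5 n41012
theorem D87905 : act 5 n41012 = n87905 := rfl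
theorem F134903 : act 3 n87905 = n41014 := d6_1 D87905 (iv5 D41014) D41012
def n87906 : Q := act 0 n41014
theorem D87906 : act 0 n41014 = n87906 := rfl
theorem F134904 : act 5 n87906 = n43984 := d17_3 D19311 D41014 D87906 (iv4 D43984) F66180 (iv0 D20662) (iv5 D9793) (iv0 F62490) (iv4 F14154)
theorem F134905 : act 1 n41019 = n87906 := d15_0 (iv0 D87906) (iv7 F75743) F75742
def n87907 : Q := act 1 n41014
theorem D87907 : act 1 n41014 = n87907 := rfl
theorem F134906 : act 1 n87907 = n41019 := d15_1 D87907 (iv7 F75738) F75737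
theorem F134907 : act 5 n43986 = n87907 := d21_6 (iv5 F134456) (iv1 F134457) (iv5 D40767) D40768 (iv1 F133364) F133362 (iv1 D87907) (iv5 D41014) D41015 (iv1 F76104)
def n87908 : Q := act 4 n41014
theorem D87908 : act 4 n41014 = n87908 := rfl
def n87909 : Q := act 6 n41014
theorem D87909 : act 6 n41014 = n87909 := rfl
def n87910 : Q := act 0 n41017
theorem D87910 : act 0 n41017 = n87910 := rfl
def n87911 : Q := act 1 n41017
theorem D87911 : act 1 n41017 = n87911 := rfl
def n87912 : Q := act 2 n41017
theorem D87912 : act 2 n41017 = n87912 := rfl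
theorem F134908 : act 4 n87912 = n48103 := d1_2 (iv4 F63055) D87912 (iv2 D48103)
def n87913 : Q := act 5 n41017
theorem D87913 : act 5 n41017 = n87913 := rfl
theorem F134909 : act 3 n87913 = n41019 := d6_1 D87913 (iv5 D41019) D41017
def n87914 : Q := act 6 n41017
theorem D87914 : act 6 n41017 = n87914 := rfl
theorem F134910 : act 3 n87914 = n41020 := d7_1 D87914 (iv6 D41020) D41017
theorem F134911 : act 4 n87914 = n48105 := d10_1 D87914 (iv6 D48105) (iv4 F63055)
def n87915 : Q := act 4 n41019
theorem D87915 : act 4 n41019 = n87915 := rfl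
def n87916 : Q := act 6 n41019
theorem D87916 : act 6 n41019 = n87916 := rfl
def n87917 : Q := act 3 n41021
theorem D87917 : act 3 n41021 = n87917 := rfl
def n87918 : Q := act 4 n41021
theorem D87918 : act 4 n41021 = n87918 := rfl
def n87919 : Q := act 5 n41021
theorem D87919 : act 5 n41021 = n87919 := rfl
theorem F134913 : act 7 n87919 = n86943 := d13_2 (iv7 F133444) D87919 F133440
theorem F134914 : act 1 n87919 = n41910 := d17_8 (iv1 F66176) (iv5 D20708) F66156 (iv5 D20648) D20647 D43652 F68587 D87919 F64653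
theorem F134915 : act 6 n87919 = n87016 := d21_3 D19313 D41021 D87919 (iv1 D87016) (iv6 D40408) D40407 D87012 F133545 (iv6 D41020) (iv1 D19312)
theorem F134916 : act 0 n87919 = n87022 := d21_4 D23411 (iv1 F75833) (iv5 F134175) (iv6 F134915) (iv6 D87022) D87021 F133561 (iv5 D41207) (iv6 F66740) (iv1 F36520)
def n87920 : Q := act 6 n41021
theorem D87920 : act 6 n41021 = n87920 := rfl
def n87921 : Q := act 3 n41022
theorem D87921 : act 3 n41022 = n87921 := rfl
theorem F134917 : act 5 n87921 = n87410 := d6_2 F62143 D87921 F134163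
def n87922 : Q := act 4 n41022
theorem D87922 : act 4 n41022 = n87922 := rfl
theorem F134918 : act 0 n87922 = n47139 := d18_2 (iv1 F68586) D87922 (iv4 D47139) (iv5 D22681) (iv4 F33733) F62735 F62578 F62547 D43652
def n87923 : Q := act 6 n41022
theorem D87923 : act 6 n41022 = n87923 := rfl
theorem F134919 : act 5 n87923 = n87413 := d12_1 D87923 (iv6 D87413) (iv5 D40623) D40624 F62143
def n87924 : Q := act 0 n41023
theorem D87924 : act 0 n41023 = n87924 := rfl
theorem F134920 : act 4 n87924 = n41123 := d18_3 (iv1 D41022) D41023 D87924 (iv5 F68736) (iv4 D43723) F66176 (iv4 F64653) F133568 F62143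
theorem E14433 : n87887 = n46764 := ((c20_4 (iv4 F74302) (iv1 F74303) (iv4 D46765) D46764 (iv1 D87887) F62138 D41023 D87924 F134920 F73453 F73455)).symm
theorem F134921 : act 0 n46764 = n41005 := (sb E14433 (iv1 D87887))
theorem E14434 : n46306 = n46008 := ((c21_4 (iv5 F64075) (iv1 F61860) F51566 D46008 (iv1 D46306) D46309 (iv5 F73881) F134921 (iv5 D41005) (iv6 D19309) D19306)).symm
theorem F134922 : act 0 n46008 = n22144 := (sb E14434 (iv1 D46306))
def n87925 : Q := act 1 n41023
theorem D87925 : act 1 n41023 = n87925 := rfl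
theorem F134923 : act 4 n87925 = n41124 := d18_7 F62514 (iv4 D19322) (iv1 D9077) (iv4 F14154) D19313 D41023 D87925 (iv0 F68619) (iv5 D43661)
def n87926 : Q := act 3 n41023
theorem D87926 : act 3 n41023 = n87926 := rfl
def n87927 : Q := act 5 n41023
theorem D87927 : act 5 n41023 = n87927 := rfl
def n87928 : Q := act 7 n41023
theorem D87928 : act 7 n41023 = n87928 := rfl
theorem F134924 : act 4 n87928 = n41024 := d11_1 D87928 (iv7 D41024) D41023
def n87929 : Q := act 6 n41024
theorem D87929 : act 6 n41024 = n87929 := rfl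
def n87930 : Q := act 5 n41048
theorem D87930 : act 5 n41048 = n87930 := rfl
theorem F134925 : act 3 n87930 = n41049 := d6_1 D87930 (iv5 D41049) D41048
def n87931 : Q := act 6 n41048
theorem D87931 : act 6 n41048 = n87931 := rfl
theorem F134926 : act 3 n87931 = n41050 := d7_1 D87931 (iv6 D41050) D41048
theorem F134927 : act 4 n87931 = n87931 := d10_1 D87931 (iv6 D87931) F62205
def n87932 : Q := act 4 n41049
theorem D87932 : act 4 n41049 = n87932 := rfl
theorem F134928 : act 2 n87932 = n43700 := d1_1 D87932 (iv4 D43700) F63074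
def n87933 : Q := act 6 n41049
theorem D87933 : act 6 n41049 = n87933 := rfl
theorem F134929 : act 2 n87933 = n43701 := d3_1 D87933 (iv6 D43701) F63074
def n87935 : Q := act 5 n41051
theorem D87935 : act 5 n41051 = n87935 := rfl
theorem F134932 : act 2 n87935 = n43710 := d2_1 D87935 (iv5 D43710) (iv2 F63069)
def n87936 : Q := act 3 n41058
theorem D87936 : act 3 n41058 = n87936 := rfl
theorem F134933 : act 4 n87936 = n87936 := d5_2 D41058 D87936 (iv3 D87936) (iv4 D41058) F66174
def n87937 : Q := act 5 n41058
theorem D87937 : act 5 n41058 = n87937 := rfl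
theorem F134934 : act 2 n87937 = n43736 := d2_1 D87937 (iv5 D43736) F66335
def n87938 : Q := act 6 n41058
theorem D87938 : act 6 n41058 = n87938 := rfl
theorem F134936 : act 4 n87938 = n41059 := d10_1 D87938 (iv6 D41059) D41058
def n87939 : Q := act 3 n41060
theorem D87939 : act 3 n41060 = n87939 := rfl
theorem F134937 : act 4 n87939 = n43548 := d5_2 F74014 D87939 (iv3 D43548) F68056 D46842
def n87940 : Q := act 5 n41060
theorem D87940 : act 5 n41060 = n87940 := rfl
def n87942 : Q := act 3 n41061
theorem D87942 : act 3 n41061 = n87942 := rfl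
theorem F134938 : act 4 n87942 = n48121 := d5_2 (iv4 F68591) D87942 (iv3 D48121) (iv4 D23240) D23239
def n87943 : Q := act 5 n41061
theorem D87943 : act 5 n41061 = n87943 := rfl
def n87944 : Q := act 6 n41061
theorem D87944 : act 6 n41061 = n87944 := rfl
theorem F134939 : act 4 n87944 = n48120 := d10_1 D87944 (iv6 D48120) (iv4 F68591)
def n87945 : Q := act 0 n41062
theorem D87945 : act 0 n41062 = n87945 := rfl
def n87946 : Q := act 1 n41062
theorem D87946 : act 1 n41062 = n87946 := rfl
def n87947 : Q := act 2 n41062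
theorem D87947 : act 2 n41062 = n87947 := rfl
theorem F134940 : act 6 n87947 = n86894 := d3_2 (iv6 F62300) D87947 (iv2 D86894)
def n87948 : Q := act 5 n41062
theorem D87948 : act 5 n41062 = n87948 := rfl
theorem F134941 : act 3 n87948 = n41063 := d6_1 D87948 (iv5 D41063) D41062
def n87949 : Q := act 7 n41062
theorem D87949 : act 7 n41062 = n87949 := rfl
theorem F134942 : act 3 n87949 = n41064 := d8_1 D87949 (iv7 D41064) D41062
def n87950 : Q := act 0 n41063
theorem D87950 : act 0 n41063 = n87950 := rfl
def n87951 : Q := act 1 n41063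
theorem D87951 : act 1 n41063 = n87951 := rfl
theorem F134943 : act 5 n87951 = n48102 := d17_7 F62517 (iv5 D19323) (iv1 D9077) D9078 D19327 D41063 D87951 F75577 (iv4 D43670)
def n87952 : Q := act 4 n41063
theorem D87952 : act 4 n41063 = n87952 := rfl
def n87953 : Q := act 6 n41063
theorem D87953 : act 6 n41063 = n87953 := rfl
theorem F134944 : act 5 n87953 = n86897 := d12_1 D87953 (iv6 D86897) (iv5 D40314) (iv6 F30967) D41063
def n87954 : Q := act 7 n41063
theorem D87954 : act 7 n41063 = n87954 := rfl
theorem F134945 : act 5 n87954 = n41064 := d13_1 D87954 (iv7 D41064) D41063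
def n87955 : Q := act 6 n41064
theorem D87955 : act 6 n41064 = n87955 := rfl
theorem F134946 : act 4 n87955 = n41065 := d10_1 D87955 (iv6 D41065) (iv4 F62301)
theorem F134947 : act 7 n87955 = n41271 := d14_2 D41064 D87955 (iv6 D41271) F31075 (iv6 F30967)
def n87956 : Q := act 6 n41066
theorem D87956 : act 6 n41066 = n87956 := rfl
theorem F134948 : act 4 n87956 = n41067 := d10_1 D87956 (iv6 D41067) D41066
def n87957 : Q := act 0 n41067
theorem D87957 : act 0 n41067 = n87957 := rfl
def n87958 : Q := act 1 n41067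
theorem D87958 : act 1 n41067 = n87958 := rfl
def n87959 : Q := act 5 n41067
theorem D87959 : act 5 n41067 = n87959 := rfl
def n87960 : Q := act 7 n41067
theorem D87960 : act 7 n41067 = n87960 := rfl
def n87961 : Q := act 6 n41068
theorem D87961 : act 6 n41068 = n87961 := rfl
theorem F134949 : act 3 n87961 = n41070 := d7_1 D87961 (iv6 D41070) D41068
def n87962 : Q := act 6 n41069
theorem D87962 : act 6 n41069 = n87962 := rfl
theorem F134950 : act 3 n87962 = n43312 := d7_1 D87962 (iv6 D43312) (iv3 F62304)
theorem F134951 : act 4 n87962 = n41070 := d10_1 D87962 (iv6 D41070) D41069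
def n87963 : Q := act 0 n41070
theorem D87963 : act 0 n41070 = n87963 := rfl
def n87964 : Q := act 1 n41070
theorem D87964 : act 1 n41070 = n87964 := rfl
def n87965 : Q := act 5 n41070
theorem D87965 : act 5 n41070 = n87965 := rfl
def n87966 : Q := act 7 n41070
theorem D87966 : act 7 n41070 = n87966 := rfl
def n87967 : Q := act 0 n41071
theorem D87967 : act 0 n41071 = n87967 := rfl
def n87968 : Q := act 1 n41071
theorem D87968 : act 1 n41071 = n87968 := rfl
theorem F134952 : act 1 n87968 = n41080 := d15_1 D87968 (iv7 D41080) (iv2 F62306)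
def n87969 : Q := act 5 n41071
theorem D87969 : act 5 n41071 = n87969 := rfl
theorem F134953 : act 2 n87969 = n41079 := d2_1 D87969 (iv5 D41079) (iv2 F62306)
theorem F134954 : act 3 n87969 = n82008 := d6_1 D87969 (iv5 D82008) (iv3 F62307)
theorem F134955 : act 6 n87969 = n82005 := d12_2 D41071 D87969 (iv5 D82005) (iv6 D37568) F30970
def n87970 : Q := act 7 n41071
theorem D87970 : act 7 n41071 = n87970 := rfl
theorem F134956 : act 2 n87970 = n41080 := d4_1 D87970 (iv7 D41080) (iv2 F62306)
theorem F134957 : act 3 n87970 = n82009 := d8_1 D87970 (iv7 D82009) (iv3 F62307)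
theorem F134958 : act 1 n41080 = n87967 := d15_0 (iv0 D87967) D87970 F134956
theorem F134959 : act 1 n41078 = n87970 := d15_1 D41078 (iv7 D87970) F62306
theorem F134960 : act 1 n87970 = n41077 := d15_0 (iv0 D41077) D41080 (iv2 F134956)
def n87971 : Q := act 1 n41072
theorem D87971 : act 1 n41072 = n87971 := rfl
def n87972 : Q := act 5 n41072
theorem D87972 : act 5 n41072 = n87972 := rfl
theorem F134961 : act 2 n87972 = n71952 := d2_1 D87972 F108453 F68138
theorem F134962 : act 3 n87972 = n42275 := d6_1 D87972 (iv5 D42275) (iv3 F62308)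
theorem F134963 : act 6 n87972 = n71846 := d12_2 D41072 D87972 F108302 F82821 (iv5 F40414)
def n87973 : Q := act 6 n41073
theorem D87973 : act 6 n41073 = n87973 := rfl
theorem F134964 : act 2 n87973 = n82001 := d3_1 D87973 (iv6 D82001) (iv2 F62315)
theorem F134965 : act 3 n87973 = n70618 := d7_1 D87973 (iv6 D70618) (iv3 F62310)
def n87974 : Q := act 4 n41074
theorem D87974 : act 4 n41074 = n87974 := rfl
theorem F134967 : act 2 n87974 = n70723 := d1_1 D87974 F107184 F62318
theorem F134968 : act 3 n87974 = n72623 := d5_1 D87974 F109153 (iv3 F108947) (iv4 F109123) F109122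
theorem F134969 : act 5 n87974 = n76685 := d9_2 (iv5 F64305) D87974 F115041 (iv5 D74172) F53360 D69679 F106031 (iv5 F62312) (iv4 F62313) (iv5 F94822) (iv4 F114721) (iv5 D76528) F55338 (iv5 F68901) F68902
theorem F134970 : act 7 n87974 = n72381 := d11_2 (iv7 F62317) D87974 F108879
theorem F134971 : act 0 n87974 = n70296 := d17_0 (iv5 D70296) D70293 F108407 F94733 F58369 (iv0 D19329) D19333 D41074 D87974
theorem F134972 : act 1 n87974 = n72380 := d18_6 (iv1 F64047) (iv4 F69380) F69379 F68902 (iv5 F64305) D87974 F108876 F73764 (iv5 D45993)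
def n87975 : Q := act 6 n41074
theorem D87975 : act 6 n41074 = n87975 := rfl
theorem F134973 : act 2 n87975 = n82002 := d3_1 D87975 (iv6 D82002) F62318
def n87976 : Q := act 1 n41075
theorem D87976 : act 1 n41075 = n87976 := rfl
theorem F134974 : act 1 n87976 = n56692 := d15_1 D87976 F89655 (iv2 F62319)
theorem F134975 : act 7 n87976 = n81996 := d15_2 F72577 D87976 (iv2 F126415)
theorem F134976 : act 4 n87976 = n46714 := d18_7 (iv1 F65380) F34933 (iv1 F32580) (iv4 D19332) D19333 D41075 D87976 F73829 F72573
theorem F134977 : act 5 n87976 = n55305 := d18_9 (iv1 F87991) (iv4 F96230) (iv1 F114723) F114721 F94822 F62313 (iv0 D41073) D41075 D87976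
theorem F134978 : act 2 n46715 = n87976 := d2_3 F134977 (iv2 F87994) F87996
def n87977 : Q := act 5 n41075
theorem D87977 : act 5 n41075 = n87977 := rfl
theorem F134979 : act 2 n87977 = n68904 := d2_1 D87977 F105081 (iv2 F62319)
theorem F134980 : act 7 n87977 = n68905 := d13_2 F74373 D87977 F105084
theorem F134981 : act 4 n87977 = n69923 := d16_2 D41075 D87977 (iv5 D69923) F51553 F40421 (iv4 F35230) (iv5 F44096) F44097 (iv2 F30973)
theorem F134982 : act 0 n87977 = n54138 := d17_2 (iv1 D87976) D87977 (iv5 F125807) (iv4 F125806) F64066 D42342 (iv5 F72574) F73830 (iv4 F134976)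
theorem F134983 : act 1 n87977 = n68840 := d17_6 D37480 F62305 (iv1 D19330) D19333 D41075 D87977 (iv5 F125801) (iv0 D81846) F58357
def n87978 : Q := act 6 n41075
theorem D87978 : act 6 n41075 = n87978 := rfl
theorem F134984 : act 2 n87978 = n81997 := d3_1 D87978 (iv6 D81997) (iv2 F62319)
theorem F134985 : act 4 n87978 = n41076 := d10_1 D87978 (iv6 D41076) D41075
def n87979 : Q := act 0 n41076
theorem D87979 : act 0 n41076 = n87979 := rfl
def n87980 : Q := act 1 n41076
theorem D87980 : act 1 n41076 = n87980 := rfl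
theorem F134986 : act 1 n87980 = n76069 := d15_1 D87980 (iv7 F117621) (iv2 F62320)
def n87981 : Q := act 5 n41076
theorem D87981 : act 5 n41076 = n87981 := rfl
theorem F134987 : act 2 n87981 = n82005 := d2_1 D87981 (iv5 D82005) (iv2 F62320)
theorem F134988 : act 3 n87981 = n41085 := d6_1 D87981 (iv5 D41085) (iv3 F62321)
theorem F134989 : act 6 n87981 = n41079 := d12_2 D41076 D87981 (iv5 D41079) (iv6 D19334) D19333
def n87982 : Q := act 7 n41076
theorem D87982 : act 7 n41076 = n87982 := rfl
theorem F134990 : act 2 n87982 = n76069 := d4_1 D87982 (iv7 F117621) (iv2 F62320)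
theorem F134991 : act 3 n87982 = n41086 := d8_1 D87982 (iv7 D41086) (iv3 F62321)
theorem F134992 : act 1 n76069 = n87979 := d15_0 (iv0 D87979) D87982 F134990
theorem F134993 : act 1 n82004 = n87982 := d15_1 D82004 (iv7 D87982) F62320
theorem F134994 : act 1 n87982 = n82003 := d15_0 (iv0 D82003) F117621 (iv2 F134990)
def n87983 : Q := act 2 n41077
theorem D87983 : act 2 n41077 = n87983 := rfl
theorem F134995 : act 7 n41078 = n87983 := d15_2 (iv0 D41077) D41078 (iv2 D87983)
def n87984 : Q := act 3 n41077
theorem D87984 : act 3 n41077 = n87984 := rfl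
def n87985 : Q := act 4 n41077
theorem D87985 : act 4 n41077 = n87985 := rfl
def n87986 : Q := act 5 n41077
theorem D87986 : act 5 n41077 = n87986 := rfl
def n87987 : Q := act 6 n41077
theorem D87987 : act 6 n41077 = n87987 := rfl
def n87988 : Q := act 7 n41077
theorem D87988 : act 7 n41077 = n87988 := rfl
theorem F134996 : act 2 n87988 = n41078 := d4_1 D87988 F134995 (iv2 D87983)
def n87989 : Q := act 3 n41078
theorem D87989 : act 3 n41078 = n87989 := rfl
def n87990 : Q := act 4 n41078
theorem D87990 : act 4 n41078 = n87990 := rfl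
theorem F134997 : act 3 n43314 = n87990 := d20_5 (iv4 D9450) (iv1 F14626) (iv4 F31757) (iv3 F65148) (iv1 F67976) (iv4 D87990) (iv1 D41078) (iv4 F62309) F62308 F65637
def n87991 : Q := act 5 n41078
theorem D87991 : act 5 n41078 = n87991 := rfl
def n87992 : Q := act 6 n41078
theorem D87992 : act 6 n41078 = n87992 := rfl
def n87993 : Q := act 0 n41079
theorem D87993 : act 0 n41079 = n87993 := rfl
def n87994 : Q := act 1 n41079
theorem D87994 : act 1 n41079 = n87994 := rfl
def n87995 : Q := act 4 n41079
theorem D87995 : act 4 n41079 = n87995 := rfl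
def n87996 : Q := act 7 n41079
theorem D87996 : act 7 n41079 = n87996 := rfl
theorem F134998 : act 3 n87996 = n41100 := d8_1 D87996 (iv7 D41100) (iv3 F62322)
theorem F134999 : act 5 n87996 = n41080 := d13_1 D87996 (iv7 D41080) D41079
def n87997 : Q := act 4 n41081
theorem D87997 : act 4 n41081 = n87997 := rfl
theorem F135000 : act 2 n87997 = n41467 := d1_1 D87997 (iv4 D41467) (iv2 F62324)
theorem F135001 : act 3 n87997 = n70357 := d5_1 D87997 F106840 F51939 (iv4 F30977) D41081
theorem F135002 : act 7 n87997 = n86898 := d11_2 (iv7 F62326) D87997 (iv4 D86898)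
def n87998 : Q := act 6 n41081
theorem D87998 : act 6 n41081 = n87998 := rfl
theorem F135003 : act 2 n87998 = n41468 := d3_1 D87998 (iv6 D41468) (iv2 F62324)
theorem F135004 : act 3 n87998 = n41082 := d7_1 D87998 (iv6 D41082) D41081
def n87999 : Q := act 0 n41082
theorem D87999 : act 0 n41082 = n87999 := rfl
def n88000 : Q := act 1 n41082
theorem D88000 : act 1 n41082 = n88000 := rfl
theorem F135005 : act 1 n88000 = n41691 := d15_1 D88000 (iv7 D41691) (iv2 F62327)
def n88001 : Q := act 5 n41082
theorem D88001 : act 5 n41082 = n88001 := rfl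
theorem F135006 : act 2 n88001 = n41690 := d2_1 D88001 (iv5 D41690) (iv2 F62327)
theorem F135007 : act 6 n88001 = n41684 := d12_2 D41082 D88001 (iv5 D41684) (iv6 D19622) (iv5 F30976)
def n88002 : Q := act 7 n41082
theorem D88002 : act 7 n41082 = n88002 := rfl
theorem F135008 : act 2 n88002 = n41691 := d4_1 D88002 (iv7 D41691) (iv2 F62327)
theorem F135009 : act 4 n88002 = n77289 := d11_1 D88002 (iv7 D77289) (iv4 F62328)
theorem F135010 : act 6 n88002 = n86907 := d14_1 D88002 (iv7 D86907) (iv6 D40317) (iv7 F30980) D41082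
theorem F135011 : act 1 n41691 = n87999 := d15_0 (iv0 D87999) D88002 F135008
theorem F135012 : act 1 n41689 = n88002 := d15_1 D41689 (iv7 D88002) F62327
theorem F135013 : act 1 n88002 = n41688 := d15_0 (iv0 D41688) D41691 (iv2 F135008)
def n88003 : Q := act 2 n41083
theorem D88003 : act 2 n41083 = n88003 := rfl
theorem F135014 : act 7 n41084 = n88003 := d15_2 (iv0 D41083) D41084 (iv2 D88003)
def n88004 : Q := act 3 n41083
theorem D88004 : act 3 n41083 = n88004 := rfl
def n88005 : Q := act 4 n41083
theorem D88005 : act 4 n41083 = n88005 := rfl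
theorem F135015 : act 3 n79121 = n88005 := d20_5 (iv4 D35303) (iv1 F59788) (iv4 F28436) (iv3 F56771) D79121 (iv4 D88005) (iv1 F73707) (iv4 F124262) F124261 (iv1 F117310)
def n88006 : Q := act 5 n41083
theorem D88006 : act 5 n41083 = n88006 := rfl
def n88007 : Q := act 6 n41083
theorem D88007 : act 6 n41083 = n88007 := rfl
def n88008 : Q := act 7 n41083
theorem D88008 : act 7 n41083 = n88008 := rfl
theorem F135016 : act 2 n88008 = n41084 := d4_1 D88008 F135014 (iv2 D88003)
def n88009 : Q := act 3 n41084
theorem D88009 : act 3 n41084 = n88009 := rfl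
theorem F135017 : act 4 n88009 = n80168 := d20_6 (iv4 D26824) D26821 D55555 F117218 (iv1 F73706) D88009 (iv1 D80168) F57350 F34738 F91443
def n88010 : Q := act 4 n41084
theorem D88010 : act 4 n41084 = n88010 := rfl
def n88011 : Q := act 5 n41084
theorem D88011 : act 5 n41084 = n88011 := rfl
def n88012 : Q := act 6 n41084
theorem D88012 : act 6 n41084 = n88012 := rfl
def n88013 : Q := act 0 n41085
theorem D88013 : act 0 n41085 = n88013 := rfl
def n88014 : Q := act 1 n41085
theorem D88014 : act 1 n41085 = n88014 := rfl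
def n88015 : Q := act 4 n41085
theorem D88015 : act 4 n41085 = n88015 := rfl
theorem F135018 : act 6 n88015 = n41099 := d10_2 (iv6 F62329) D88015 (iv4 D41099)
def n88016 : Q := act 7 n41085
theorem D88016 : act 7 n41085 = n88016 := rfl
theorem F135019 : act 5 n88016 = n41086 := d13_1 D88016 (iv7 D41086) D41085
def n88017 : Q := act 3 n41097
theorem D88017 : act 3 n41097 = n88017 := rfl
def n88018 : Q := act 6 n41097
theorem D88018 : act 6 n41097 = n88018 := rfl
def n88020 : Q := act 0 n41099
theorem D88020 : act 0 n41099 = n88020 := rfl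
def n88021 : Q := act 1 n41099
theorem D88021 : act 1 n41099 = n88021 := rfl
theorem F135021 : act 4 n88021 = n48212 := d18_7 (iv1 F66120) (iv4 D23055) F65646 F17183 D19339 D41099 D88021 F75776 F62009
theorem F135022 : act 2 n87814 = n88021 := d1_3 F135021 F133393 D87814
theorem F135023 : act 7 n87810 = n88021 := d11_0 F135021 (iv7 F133394) D87810
theorem F135024 : act 2 n87810 = n88020 := d15_3 (iv0 D88020) D88021 (iv7 F135023)
theorem F135025 : act 4 n88020 = n48211 := d1_2 D87810 F135024 (iv2 F133396)
theorem F135026 : act 7 n88020 = n87814 := d4_2 (iv7 F135023) F135024 F135022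
def n88022 : Q := act 3 n41099
theorem D88022 : act 3 n41099 = n88022 := rfl
def n88023 : Q := act 5 n41099
theorem D88023 : act 5 n41099 = n88023 := rfl
def n88024 : Q := act 7 n41099
theorem D88024 : act 7 n41099 = n88024 := rfl
theorem F135027 : act 4 n88024 = n41100 := d11_1 D88024 (iv7 D41100) D41099
theorem F135028 : act 1 n87814 = n88024 := d15_1 (iv0 F134785) (iv7 D88024) (iv2 F73717)
theorem F135029 : act 1 n88024 = n87810 := d15_1 F135028 F135023 (iv2 F135022)
theorem E14435 : n87813 = n46877 := (c20_4 (iv4 F135027) (iv1 F135028) (iv4 D87814) D87813 (iv1 D46877) F35078 D22534 D46919 F74130 F73710 (iv1 F73709))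
theorem F135030 : act 3 n46877 = n40917 := (sb E14435 (iv3 D87813))
theorem F135031 : act 5 n46877 = n87572 := (sb E14435 F134784)
theorem E14436 : n87570 = n41582 := ((c21_4 (iv5 F34602) (iv1 F44596) F44590 D41582 (iv1 D87570) D87572 (iv5 F135031) (iv1 D46877) (iv5 D22516) (iv6 D10690) D10686)).symm
theorem F135032 : act 0 n41582 = n40760 := (sb E14436 (iv1 D87570))
theorem F135033 : act 0 n87571 = n47591 := d21_1 D87571 (iv5 D47591) (iv6 D22884) (iv1 F66885) (iv6 D22505) (iv5 F34602) (iv1 F44596) F44590 D41582 F135032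
def n88025 : Q := act 6 n41100
theorem D88025 : act 6 n41100 = n88025 := rfl
def n88026 : Q := act 6 n41101
theorem D88026 : act 6 n41101 = n88026 := rfl
theorem F135034 : act 3 n88026 = n41102 := d7_1 D88026 (iv6 D41102) D41101
def n88027 : Q := act 0 n41102
theorem D88027 : act 0 n41102 = n88027 := rfl
def n88028 : Q := act 1 n41102
theorem D88028 : act 1 n41102 = n88028 := rfl
def n88029 : Q := act 5 n41102
theorem D88029 : act 5 n41102 = n88029 := rfl
theorem F135035 : act 6 n88029 = n86510 := d12_2 D41102 D88029 (iv5 D86510) (iv6 D40089) (iv5 F30981)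
def n88030 : Q := act 7 n41102
theorem D88030 : act 7 n41102 = n88030 := rfl
def n88031 : Q := act 0 n41103
theorem D88031 : act 0 n41103 = n88031 := rfl
def n88032 : Q := act 1 n41103
theorem D88032 : act 1 n41103 = n88032 := rfl
def n88033 : Q := act 5 n41103
theorem D88033 : act 5 n41103 = n88033 := rfl
def n88034 : Q := act 7 n41103
theorem D88034 : act 7 n41103 = n88034 := rfl
def n88035 : Q := act 1 n41104
theorem D88035 : act 1 n41104 = n88035 := rfl
theorem F135036 : act 1 n88035 = n41108 := d15_1 D88035 (iv7 D41108) (iv2 F62334)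
theorem F135037 : act 4 n82007 = n88035 := d20_0 (iv1 D88035) F62335 F60129 F73966 (iv3 F66347) F66348 (iv1 F34896) (iv4 F65651) D42755 (iv1 F126426)
theorem E14437 : n87904 = n46426 := ((c20_4 (iv4 F135037) (iv1 D82007) F58455 (iv3 F73270) (iv1 D87904) (iv3 D41012) (iv4 F62778) (iv1 F62962) F34733 (iv3 F62338) (iv1 F135036))).symm
theorem F135038 : act 0 n46426 = n41012 := (sb E14437 (iv1 D87904))
def n88036 : Q := act 5 n41104
theorem D88036 : act 5 n41104 = n88036 := rfl
theorem F135039 : act 2 n88036 = n41107 := d2_1 D88036 (iv5 D41107) (iv2 F62334)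
theorem F135040 : act 6 n88036 = n56702 := d12_2 D41104 D88036 (iv5 D56702) (iv6 D27252) (iv5 F30984)
def n88037 : Q := act 7 n41104
theorem D88037 : act 7 n41104 = n88037 := rfl
theorem F135041 : act 2 n88037 = n41108 := d4_1 D88037 (iv7 D41108) (iv2 F62334)
theorem F135042 : act 4 n88037 = n84677 := d11_1 D88037 (iv7 D84677) (iv4 F62335)
theorem F135043 : act 6 n88037 = n82009 := d14_1 D88037 (iv7 D82009) (iv6 D37569) (iv7 F30985) D41104
theorem F135044 : act 1 n41106 = n88037 := d15_1 D41106 (iv7 D88037) F62334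
theorem F135045 : act 1 n88037 = n41105 := d15_0 (iv0 D41105) D41108 (iv2 F135041)
theorem F135046 : act 4 n46642 = n41105 := d20_0 (iv1 F135045) F135042 F129913 (iv1 F74061) F66123 (iv4 F66124) (iv1 D10646) (iv4 F17190) (iv3 F34914) D46642
def n88038 : Q := act 2 n41105
theorem D88038 : act 2 n41105 = n88038 := rfl
theorem F135047 : act 7 n41106 = n88038 := d15_2 (iv0 D41105) D41106 (iv2 D88038)
def n88039 : Q := act 3 n41105
theorem D88039 : act 3 n41105 = n88039 := rfl
def n88040 : Q := act 5 n41105
theorem D88040 : act 5 n41105 = n88040 := rfl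
def n88041 : Q := act 6 n41105
theorem D88041 : act 6 n41105 = n88041 := rfl
def n88042 : Q := act 7 n41105
theorem D88042 : act 7 n41105 = n88042 := rfl
theorem F135048 : act 2 n88042 = n41106 := d4_1 D88042 F135047 (iv2 D88038)
def n88043 : Q := act 3 n41106
theorem D88043 : act 3 n41106 = n88043 := rfl
def n88044 : Q := act 4 n41106
theorem D88044 : act 4 n41106 = n88044 := rfl
def n88045 : Q := act 5 n41106
theorem D88045 : act 5 n41106 = n88045 := rfl
def n88046 : Q := act 6 n41106
theorem D88046 : act 6 n41106 = n88046 := rfl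
def n88047 : Q := act 0 n41107
theorem D88047 : act 0 n41107 = n88047 := rfl
def n88048 : Q := act 1 n41107
theorem D88048 : act 1 n41107 = n88048 := rfl
def n88049 : Q := act 4 n41107
theorem D88049 : act 4 n41107 = n88049 := rfl
theorem F135049 : act 6 n88049 = n81983 := d10_2 (iv6 F62337) D88049 (iv4 D81983)
def n88050 : Q := act 7 n41107
theorem D88050 : act 7 n41107 = n88050 := rfl
theorem F135050 : act 3 n88050 = n41126 := d8_1 D88050 (iv7 D41126) (iv3 F62336)
theorem F135051 : act 5 n88050 = n41108 := d13_1 D88050 (iv7 D41108) D41107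
def n88051 : Q := act 2 n41109
theorem D88051 : act 2 n41109 = n88051 := rfl
theorem F135052 : act 7 n41110 = n88051 := d15_2 (iv0 D41109) D41110 (iv2 D88051)
def n88052 : Q := act 3 n41109
theorem D88052 : act 3 n41109 = n88052 := rfl
theorem F135053 : act 4 n88052 = n82964 := d20_6 (iv4 D34794) F117286 (iv4 F29190) (iv3 F30988) D41109 D88052 (iv1 F127873) F59365 (iv3 F73812) (iv1 F91498)
def n88053 : Q := act 4 n41109
theorem D88053 : act 4 n41109 = n88053 := rfl
def n88054 : Q := act 5 n41109
theorem D88054 : act 5 n41109 = n88054 := rfl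
def n88055 : Q := act 6 n41109
theorem D88055 : act 6 n41109 = n88055 := rfl
def n88056 : Q := act 7 n41109
theorem D88056 : act 7 n41109 = n88056 := rfl
theorem F135054 : act 2 n88056 = n41110 := d4_1 D88056 F135052 (iv2 D88051)
def n88057 : Q := act 3 n41110
theorem D88057 : act 3 n41110 = n88057 := rfl
def n88058 : Q := act 4 n41110
theorem D88058 : act 4 n41110 = n88058 := rfl
def n88059 : Q := act 5 n41110
theorem D88059 : act 5 n41110 = n88059 := rfl
def n88060 : Q := act 6 n41110
theorem D88060 : act 6 n41110 = n88060 := rfl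
def n88061 : Q := act 0 n41111
theorem D88061 : act 0 n41111 = n88061 := rfl
def n88062 : Q := act 1 n41111
theorem D88062 : act 1 n41111 = n88062 := rfl
def n88063 : Q := act 4 n41111
theorem D88063 : act 4 n41111 = n88063 := rfl
theorem F135055 : act 6 n88063 = n41125 := d10_2 (iv6 F62340) D88063 (iv4 D41125)
def n88064 : Q := act 7 n41111
theorem D88064 : act 7 n41111 = n88064 := rfl
theorem F135056 : act 3 n88064 = n81984 := d8_1 D88064 (iv7 D81984) (iv3 F62339)
theorem F135057 : act 5 n88064 = n41112 := d13_1 D88064 (iv7 D41112) D41111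
def n88065 : Q := act 6 n41123
theorem D88065 : act 6 n41123 = n88065 := rfl
def n88066 : Q := act 3 n41124
theorem D88066 : act 3 n41124 = n88066 := rfl
theorem F135058 : act 5 n88066 = n87432 := d6_2 F66321 D88066 F134189
def n88067 : Q := act 6 n41124
theorem D88067 : act 6 n41124 = n88067 := rfl
theorem F135059 : act 5 n88067 = n87434 := d12_1 D88067 (iv6 D87434) (iv5 D40650) D40651 F66321
def n88068 : Q := act 0 n41125
theorem D88068 : act 0 n41125 = n88068 := rfl
theorem F135060 : act 4 n88068 = n48195 := d18_3 (iv1 D41124) D41125 D88068 (iv5 F134167) F134166 (iv0 F76155) F70230 F68685 F66321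
theorem F135061 : act 2 n87918 = n88068 := d1_3 F135060 (iv2 F133446) D87918
theorem F135062 : act 7 n87922 = n88068 := d11_0 F135060 F133445 D87922
theorem F135063 : act 1 n87918 = n47139 := d15_0 (iv0 F134918) F135062 (iv2 F135061)
def n88069 : Q := act 1 n41125
theorem D88069 : act 1 n41125 = n88069 := rfl
theorem F135064 : act 7 n88069 = n87918 := d15_2 (iv0 D88068) D88069 F135061
theorem F135065 : act 4 n88069 = n48196 := d18_7 (iv1 F36439) (iv4 F62758) (iv1 D22258) F17129 D19348 D41125 D88069 F75745 F62144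
theorem F135066 : act 2 n87922 = n88069 := d1_3 F135065 F133441 D87922
def n88070 : Q := act 3 n41125
theorem D88070 : act 3 n41125 = n88070 := rfl
def n88071 : Q := act 5 n41125
theorem D88071 : act 5 n41125 = n88071 := rfl
def n88072 : Q := act 7 n41125
theorem D88072 : act 7 n41125 = n88072 := rfl
theorem F135067 : act 4 n88072 = n41126 := d11_1 D88072 (iv7 D41126) D41125
theorem F135068 : act 1 n87922 = n88072 := d15_1 (iv0 F134918) (iv7 D88072) (iv2 F74390)
theorem F135069 : act 1 n88072 = n87918 := d15_1 F135068 (iv7 F135064) (iv2 F135066)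
def n88073 : Q := act 6 n41126
theorem D88073 : act 6 n41126 = n88073 := rfl
def n88074 : Q := act 6 n41127
theorem D88074 : act 6 n41127 = n88074 := rfl
theorem F135070 : act 4 n88074 = n41128 := d10_1 D88074 (iv6 D41128) D41127
def n88075 : Q := act 5 n41128
theorem D88075 : act 5 n41128 = n88075 := rfl
theorem F135071 : act 3 n88075 = n41131 := d6_1 D88075 (iv5 D41131) (iv3 F62345)
def n88076 : Q := act 2 n41129
theorem D88076 : act 2 n41129 = n88076 := rfl
theorem F135072 : act 7 n41130 = n88076 := d15_2 (iv0 D41129) D41130 (iv2 D88076)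
def n88077 : Q := act 3 n41129
theorem D88077 : act 3 n41129 = n88077 := rfl
def n88078 : Q := act 4 n41129
theorem D88078 : act 4 n41129 = n88078 := rfl
theorem F135073 : act 0 n85343 = n88078 := d20_10 (iv4 D88078) (iv1 F72318) (iv4 F133181) (iv3 D86846) (iv1 D40275) F30539 (iv4 D18692) D18689 D39431 D85343
theorem F135074 : act 3 n79287 = n88078 := d20_5 (iv4 D19033) (iv1 F59697) (iv4 F28463) (iv3 F56839) D79287 (iv4 D88078) (iv1 F72318) (iv4 F133181) (iv3 D86846) (iv1 D40275)
def n88079 : Q := act 5 n41129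
theorem D88079 : act 5 n41129 = n88079 := rfl
def n88080 : Q := act 6 n41129
theorem D88080 : act 6 n41129 = n88080 := rfl
def n88081 : Q := act 7 n41129
theorem D88081 : act 7 n41129 = n88081 := rfl
theorem F135075 : act 2 n88081 = n41130 := d4_1 D88081 F135072 (iv2 D88076)
def n88082 : Q := act 3 n41130
theorem D88082 : act 3 n41130 = n88082 := rfl
theorem F135076 : act 4 n88082 = n75560 := d20_6 (iv4 D13280) D13277 D27829 (iv3 F117215) (iv1 F72317) D88082 (iv1 D75560) F54838 (iv3 F44600) F91429
def n88083 : Q := act 4 n41130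
theorem D88083 : act 4 n41130 = n88083 := rfl
def n88084 : Q := act 5 n41130
theorem D88084 : act 5 n41130 = n88084 := rfl
def n88085 : Q := act 6 n41130
theorem D88085 : act 6 n41130 = n88085 := rfl
def n88086 : Q := act 0 n41131
theorem D88086 : act 0 n41131 = n88086 := rfl
def n88087 : Q := act 1 n41131
theorem D88087 : act 1 n41131 = n88087 := rfl
theorem F135077 : act 5 n88055 = n88087 := d21_6 (iv5 D10738) (iv1 F7334) D9084 D19345 D41109 D88055 (iv1 D88087) (iv5 D41131) (iv6 D19351) (iv1 F17267)
def n88088 : Q := act 4 n41131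
theorem D88088 : act 4 n41131 = n88088 := rfl
def n88089 : Q := act 7 n41131
theorem D88089 : act 7 n41131 = n88089 := rfl
theorem F135078 : act 5 n88089 = n41132 := d13_1 D88089 (iv7 D41132) D41131
def n88090 : Q := act 2 n41133
theorem D88090 : act 2 n41133 = n88090 := rfl
theorem F135079 : act 7 n41134 = n88090 := d15_2 (iv0 D41133) D41134 (iv2 D88090)
def n88091 : Q := act 3 n41133
theorem D88091 : act 3 n41133 = n88091 := rfl
theorem F135080 : act 4 n88091 = n75535 := d20_6 (iv4 D18842) F124283 (iv4 F44038) F44037 D41133 D88091 (iv1 F113385) F59422 (iv3 F60126) F125959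
def n88092 : Q := act 4 n41133
theorem D88092 : act 4 n41133 = n88092 := rfl
def n88093 : Q := act 5 n41133
theorem D88093 : act 5 n41133 = n88093 := rfl
def n88094 : Q := act 6 n41133
theorem D88094 : act 6 n41133 = n88094 := rfl
def n88095 : Q := act 7 n41133
theorem D88095 : act 7 n41133 = n88095 := rfl
def n88096 : Q := act 3 n41134
theorem D88096 : act 3 n41134 = n88096 := rfl
def n88097 : Q := act 4 n41134
theorem D88097 : act 4 n41134 = n88097 := rfl
theorem F135082 : act 0 n73737 = n88097 := d20_10 (iv4 D88097) (iv1 D41134) (iv4 F56889) F56888 (iv1 F124278) (iv3 D33894) (iv4 D16386) D16383 D33881 D73737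
def n88098 : Q := act 5 n41134
theorem D88098 : act 5 n41134 = n88098 := rfl
def n88100 : Q := act 0 n41135
theorem D88100 : act 0 n41135 = n88100 := rfl
def n88101 : Q := act 1 n41135
theorem D88101 : act 1 n41135 = n88101 := rfl
theorem F135083 : act 5 n88007 = n88101 := d21_6 (iv5 D4085) D4083 D9081 D19336 D41083 D88007 (iv1 D88101) (iv5 D41135) (iv6 D19352) (iv1 D9087)
def n88102 : Q := act 4 n41135
theorem D88102 : act 4 n41135 = n88102 := rfl
def n88103 : Q := act 7 n41135
theorem D88103 : act 7 n41135 = n88103 := rfl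
theorem F135084 : act 5 n88103 = n41136 := d13_1 D88103 (iv7 D41136) D41135
def n88104 : Q := act 6 n41137
theorem D88104 : act 6 n41137 = n88104 := rfl
theorem F135085 : act 4 n88104 = n77461 := d10_1 D88104 (iv6 D77461) (iv4 F62346)
def n88105 : Q := act 3 n41138
theorem D88105 : act 3 n41138 = n88105 := rfl
theorem F135086 : act 5 n88105 = n87878 := d6_2 F116039 D88105 F134891
theorem F135087 : act 0 n88105 = n79325 := d20_4 F43320 D35370 F62347 D88105 (iv3 D79325) F86937 (iv1 F86930) D83592 F128670 F74511
theorem F135088 : act 0 n60223 = n88105 := d20_4 (iv4 F42677) (iv1 F46129) D28623 D60223 (iv3 D88105) (iv4 F62347) F87048 F87044 (iv3 D33760) (iv1 F42676)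
def n88106 : Q := act 6 n41138
theorem D88106 : act 6 n41138 = n88106 := rfl
def n88107 : Q := act 6 n41139
theorem D88107 : act 6 n41139 = n88107 := rfl
theorem F135090 : act 2 n88107 = n41140 := d3_1 D88107 (iv6 D41140) D41139
theorem F135092 : act 4 n88107 = n82992 := d10_1 D88107 (iv6 D82992) (iv4 F62349)
def n88108 : Q := act 0 n41140
theorem D88108 : act 0 n41140 = n88108 := rfl
def n88109 : Q := act 1 n41140
theorem D88109 : act 1 n41140 = n88109 := rfl
def n88110 : Q := act 5 n41140
theorem D88110 : act 5 n41140 = n88110 := rfl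
theorem F135093 : act 3 n88110 = n41143 := d6_1 D88110 (iv5 D41143) (iv3 F62350)
def n88111 : Q := act 7 n41140
theorem D88111 : act 7 n41140 = n88111 := rfl
def n88112 : Q := act 2 n41141
theorem D88112 : act 2 n41141 = n88112 := rfl
theorem F135096 : act 7 n41142 = n88112 := d15_2 (iv0 D41141) D41142 (iv2 D88112)
def n88113 : Q := act 3 n41141
theorem D88113 : act 3 n41141 = n88113 := rfl
def n88115 : Q := act 5 n41141
theorem D88115 : act 5 n41141 = n88115 := rfl
def n88116 : Q := act 6 n41141
theorem D88116 : act 6 n41141 = n88116 := rfl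
def n88117 : Q := act 7 n41141
theorem D88117 : act 7 n41141 = n88117 := rfl
theorem F135097 : act 2 n88117 = n41142 := d4_1 D88117 F135096 (iv2 D88112)
def n88118 : Q := act 3 n41142
theorem D88118 : act 3 n41142 = n88118 := rfl
def n88119 : Q := act 4 n41142
theorem D88119 : act 4 n41142 = n88119 := rfl
def n88120 : Q := act 5 n41142
theorem D88120 : act 5 n41142 = n88120 := rfl
def n88121 : Q := act 6 n41142
theorem D88121 : act 6 n41142 = n88121 := rfl
def n88122 : Q := act 0 n41143
theorem D88122 : act 0 n41143 = n88122 := rfl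
def n88123 : Q := act 1 n41143
theorem D88123 : act 1 n41143 = n88123 := rfl
def n88124 : Q := act 4 n41143
theorem D88124 : act 4 n41143 = n88124 := rfl
def n88125 : Q := act 7 n41143
theorem D88125 : act 7 n41143 = n88125 := rfl
def n88128 : Q := act 3 n41145
theorem D88128 : act 3 n41145 = n88128 := rfl
theorem F135101 : act 7 n88128 = n41151 := d8_2 F62353 D88128 (iv3 D41151)
def n88129 : Q := act 4 n41145
theorem D88129 : act 4 n41145 = n88129 := rfl
theorem F135102 : act 2 n88129 = n41147 := d1_1 D88129 (iv4 D41147) D41145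
theorem F135103 : act 7 n88129 = n41152 := d11_2 F62353 D88129 (iv4 D41152)
def n88130 : Q := act 5 n41145
theorem D88130 : act 5 n41145 = n88130 := rfl
theorem F135104 : act 2 n88130 = n41148 := d2_1 D88130 (iv5 D41148) D41145
theorem F135105 : act 7 n88130 = n41153 := d13_2 F62353 D88130 (iv5 D41153)
def n88131 : Q := act 6 n41145
theorem D88131 : act 6 n41145 = n88131 := rfl
theorem F135106 : act 2 n88131 = n41149 := d3_1 D88131 (iv6 D41149) D41145
def n88134 : Q := act 2 n41146
theorem D88134 : act 2 n41146 = n88134 := rfl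
def n88135 : Q := act 4 n41146
theorem D88135 : act 4 n41146 = n88135 := rfl
def n88138 : Q := act 7 n41146
theorem D88138 : act 7 n41146 = n88138 := rfl
def n88139 : Q := act 0 n41147
theorem D88139 : act 0 n41147 = n88139 := rfl
def n88142 : Q := act 5 n41147
theorem D88142 : act 5 n41147 = n88142 := rfl
def n88144 : Q := act 7 n41147
theorem D88144 : act 7 n41147 = n88144 := rfl
theorem F135112 : act 2 n88144 = n41152 := d4_1 D88144 (iv7 F135103) F135102
theorem F135114 : act 1 n41152 = n88139 := d15_0 (iv0 D88139) D88144 F135112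
def n88145 : Q := act 0 n41148
theorem D88145 : act 0 n41148 = n88145 := rfl
theorem F135115 : act 5 n88145 = n88060 := d21_2 D41148 D88145 (iv6 D88060) (iv1 D41110) (iv6 D19345) (iv5 D9084) (iv1 D4084) D4085 D9089 D19355
def n88146 : Q := act 1 n41148
theorem D88146 : act 1 n41148 = n88146 := rfl
def n88148 : Q := act 6 n41148
theorem D88148 : act 6 n41148 = n88148 := rfl
def n88149 : Q := act 7 n41148
theorem D88149 : act 7 n41148 = n88149 := rfl
theorem F135117 : act 2 n88149 = n41153 := d4_1 D88149 (iv7 F135105) F135104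
theorem F135119 : act 1 n41153 = n88145 := d15_0 (iv0 D88145) D88149 F135117
def n88151 : Q := act 1 n41149
theorem D88151 : act 1 n41149 = n88151 := rfl
def n88152 : Q := act 5 n41149
theorem D88152 : act 5 n41149 = n88152 := rfl
theorem F135120 : act 0 n88152 = n88001 := d21_7 (iv5 D9084) (iv1 D4084) D4085 D9089 D19355 D41149 D88152 (iv5 D88001) (iv6 D41082) (iv1 F30979)
def n88153 : Q := act 7 n41149
theorem D88153 : act 7 n41149 = n88153 := rfl
def n88154 : Q := act 6 n41150
theorem D88154 : act 6 n41150 = n88154 := rfl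
theorem F135121 : act 2 n88154 = n41154 := d3_1 D88154 (iv6 D41154) (iv2 F62354)
def n88156 : Q := act 1 n41151
theorem D88156 : act 1 n41151 = n88156 := rfl
def n88157 : Q := act 2 n41151
theorem D88157 : act 2 n41151 = n88157 := rfl
def n88162 : Q := act 5 n41152
theorem D88162 : act 5 n41152 = n88162 := rfl
def n88163 : Q := act 6 n41152
theorem D88163 : act 6 n41152 = n88163 := rfl
theorem F135124 : act 4 n88163 = n41154 := d10_1 D88163 (iv6 D41154) D41152
def n88165 : Q := act 6 n41153
theorem D88165 : act 6 n41153 = n88165 := rfl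
def n88166 : Q := act 0 n41154
theorem D88166 : act 0 n41154 = n88166 := rfl
def n88167 : Q := act 1 n41154
theorem D88167 : act 1 n41154 = n88167 := rfl
def n88168 : Q := act 5 n41154
theorem D88168 : act 5 n41154 = n88168 := rfl
theorem F135125 : act 0 n88006 = n88168 := d21_1 D88006 (iv5 D88168) (iv6 D41154) (iv1 D19356) (iv6 D9089) (iv5 D4085) D4083 D9081 D19336 D41083
def n88169 : Q := act 7 n41154
theorem D88169 : act 7 n41154 = n88169 := rfl
def n88170 : Q := act 2 n41155
theorem D88170 : act 2 n41155 = n88170 := rfl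
theorem F135126 : act 7 n41156 = n88170 := d15_2 (iv0 D41155) D41156 (iv2 D88170)
def n88171 : Q := act 3 n41155
theorem D88171 : act 3 n41155 = n88171 := rfl
def n88172 : Q := act 4 n41155
theorem D88172 : act 4 n41155 = n88172 := rfl
def n88173 : Q := act 5 n41155
theorem D88173 : act 5 n41155 = n88173 := rfl
def n88174 : Q := act 6 n41155
theorem D88174 : act 6 n41155 = n88174 := rfl
def n88175 : Q := act 7 n41155
theorem D88175 : act 7 n41155 = n88175 := rfl
def n88176 : Q := act 3 n41156
theorem D88176 : act 3 n41156 = n88176 := rfl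
def n88177 : Q := act 4 n41156
theorem D88177 : act 4 n41156 = n88177 := rfl
def n88178 : Q := act 5 n41156
theorem D88178 : act 5 n41156 = n88178 := rfl
theorem F135128 : act 6 n86904 = n88178 := d21_5 F14417 (iv1 F14415) D19058 D40317 D86904 (iv5 D88178) (iv1 D41156) (iv5 D19357) (iv6 D9089) D9086
def n88179 : Q := act 6 n41156
theorem D88179 : act 6 n41156 = n88179 := rfl
def n88180 : Q := act 0 n41157
theorem D88180 : act 0 n41157 = n88180 := rfl
def n88181 : Q := act 1 n41157
theorem D88181 : act 1 n41157 = n88181 := rfl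
def n88182 : Q := act 3 n41157
theorem D88182 : act 3 n41157 = n88182 := rfl
theorem F135129 : act 6 n88182 = n41196 := d7_2 (iv6 F62355) D88182 (iv3 D41196)
def n88183 : Q := act 5 n41157
theorem D88183 : act 5 n41157 = n88183 := rfl
def n88184 : Q := act 7 n41157
theorem D88184 : act 7 n41157 = n88184 := rfl
def n88185 : Q := act 6 n41158
theorem D88185 : act 6 n41158 = n88185 := rfl
theorem F135131 : act 7 n88185 = n41199 := d14_2 D41158 D88185 (iv6 D41199) (iv7 D19368) (iv6 F30991)
def n88186 : Q := act 2 n41159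
theorem D88186 : act 2 n41159 = n88186 := rfl
theorem F135132 : act 7 n41160 = n88186 := d15_2 (iv0 D41159) D41160 (iv2 D88186)
def n88187 : Q := act 4 n41159
theorem D88187 : act 4 n41159 = n88187 := rfl
def n88188 : Q := act 5 n41159
theorem D88188 : act 5 n41159 = n88188 := rfl
def n88189 : Q := act 6 n41159
theorem D88189 : act 6 n41159 = n88189 := rfl
def n88190 : Q := act 7 n41159
theorem D88190 : act 7 n41159 = n88190 := rfl
theorem F135133 : act 2 n88190 = n41160 := d4_1 D88190 F135132 (iv2 D88186)
def n88191 : Q := act 3 n41160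
theorem D88191 : act 3 n41160 = n88191 := rfl
def n88192 : Q := act 4 n41160
theorem D88192 : act 4 n41160 = n88192 := rfl
def n88193 : Q := act 5 n41160
theorem D88193 : act 5 n41160 = n88193 := rfl
def n88195 : Q := act 5 n41161
theorem D88195 : act 5 n41161 = n88195 := rfl
theorem F135134 : act 2 n88195 = n41163 := d2_1 D88195 (iv5 D41163) D41161
def n88196 : Q := act 6 n41161
theorem D88196 : act 6 n41161 = n88196 := rfl
theorem F135135 : act 2 n88196 = n41164 := d3_1 D88196 (iv6 D41164) D41161
def n88197 : Q := act 5 n41162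
theorem D88197 : act 5 n41162 = n88197 := rfl
theorem F135136 : act 3 n88197 = n42356 := d6_1 D88197 (iv5 D42356) (iv3 F62357)
def n88198 : Q := act 6 n41162
theorem D88198 : act 6 n41162 = n88198 := rfl
theorem F135137 : act 3 n88198 = n42357 := d7_1 D88198 (iv6 D42357) (iv3 F62357)
theorem F135138 : act 4 n88198 = n41164 := d10_1 D88198 (iv6 D41164) D41162
theorem F135139 : act 0 n88198 = n42531 := d20_4 (iv4 F73621) (iv1 F73625) (iv4 F65430) (iv3 F135137) F66008 F31898 F66514 (iv4 F63637) (iv3 D41311) D41310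
def n88199 : Q := act 0 n41163
theorem D88199 : act 0 n41163 = n88199 := rfl
def n88200 : Q := act 1 n41163
theorem D88200 : act 1 n41163 = n88200 := rfl
def n88201 : Q := act 4 n41163
theorem D88201 : act 4 n41163 = n88201 := rfl
def n88202 : Q := act 6 n41163
theorem D88202 : act 6 n41163 = n88202 := rfl
theorem F135140 : act 3 n88202 = n41168 := d7_1 D88202 (iv6 D41168) (iv3 F62358)
def n88203 : Q := act 0 n41164
theorem D88203 : act 0 n41164 = n88203 := rfl
def n88204 : Q := act 1 n41164
theorem D88204 : act 1 n41164 = n88204 := rfl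
def n88205 : Q := act 5 n41164
theorem D88205 : act 5 n41164 = n88205 := rfl
theorem F135141 : act 3 n88205 = n41171 := d6_1 D88205 (iv5 D41171) (iv3 F62359)
theorem F135142 : act 7 n86991 = n88205 := d8_0 F135141 (iv7 F63560) D86991
def n88206 : Q := act 7 n41164
theorem D88206 : act 7 n41164 = n88206 := rfl
theorem F135143 : act 3 n88206 = n41172 := d8_1 D88206 (iv7 D41172) (iv3 F62359)
theorem F135144 : act 5 n88206 = n86991 := d13_1 D88206 F135142 (iv5 D88205)
def n88207 : Q := act 3 n41165
theorem D88207 : act 3 n41165 = n88207 := rfl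
theorem F135145 : act 5 n88207 = n87597 := d6_2 (iv5 F62360) D88207 F134469
def n88208 : Q := act 4 n41165
theorem D88208 : act 4 n41165 = n88208 := rfl
theorem F135146 : act 0 n88208 = n41251 := d17_0 F133510 (iv1 F133511) (iv5 D41197) (iv4 D19367) (iv5 D9092) D9091 D19363 F62363 D88208
theorem F135147 : act 1 n88208 = n41219 := d18_8 (iv1 D86998) (iv4 D40392) D40390 D86992 F133505 (iv4 D41178) F62363 D88208 (iv5 F133514)
def n88209 : Q := act 6 n41165
theorem D88209 : act 6 n41165 = n88209 := rfl
theorem F135148 : act 5 n88209 = n87599 := d12_1 D88209 (iv6 D87599) (iv5 D40808) D40809 (iv5 F62360)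
def n88210 : Q := act 4 n41166
theorem D88210 : act 4 n41166 = n88210 := rfl
theorem F135149 : act 0 n88210 = n41219 := d17_0 (iv5 F133514) (iv1 D86998) D87000 F133516 F61960 F30920 D19360 D41166 D88210
theorem F135150 : act 1 n88210 = n41251 := d18_6 (iv1 F133364) (iv4 D86914) (iv1 F62477) D43711 F68707 D88210 (iv4 D41251) F62413 (iv5 F63431)
def n88211 : Q := act 6 n41166
theorem D88211 : act 6 n41166 = n88211 := rfl
def n88212 : Q := act 0 n41167
theorem D88212 : act 0 n41167 = n88212 := rfl
theorem F135151 : act 4 n88212 = n87721 := d18_3 (iv1 D41166) D41167 D88212 F134643 F133401 F70223 F70220 (iv0 F68708) F68707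
theorem F135152 : act 1 n41178 = n88212 := d15_0 (iv0 D88212) (iv7 F134617) F134616
def n88213 : Q := act 1 n41167
theorem D88213 : act 1 n41167 = n88213 := rfl
theorem F135153 : act 1 n88213 = n41178 := d15_1 D88213 (iv7 F74692) F74691
theorem F135154 : act 4 n88213 = n87722 := d18_7 (iv1 F63096) F33446 (iv1 F63108) (iv4 F17365) D19360 D41167 D88213 F134647 (iv5 D40865)
def n88214 : Q := act 3 n41167
theorem D88214 : act 3 n41167 = n88214 := rfl
def n88215 : Q := act 6 n41167
theorem D88215 : act 6 n41167 = n88215 := rfl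
theorem F135155 : act 4 n88215 = n41168 := d10_1 D88215 (iv6 D41168) D41167
def n88216 : Q := act 0 n41168
theorem D88216 : act 0 n41168 = n88216 := rfl
def n88217 : Q := act 1 n41168
theorem D88217 : act 1 n41168 = n88217 := rfl
def n88218 : Q := act 5 n41168
theorem D88218 : act 5 n41168 = n88218 := rfl
theorem F135156 : act 2 n88218 = n86996 := d2_1 D88218 F133508 F74693
theorem F135157 : act 6 n88218 = n41171 := d12_2 D41168 D88218 (iv5 D41171) (iv6 D19361) D19360
def n88219 : Q := act 7 n41168
theorem D88219 : act 7 n41168 = n88219 := rfl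
def n88220 : Q := act 4 n41171
theorem D88220 : act 4 n41171 = n88220 := rfl
theorem F135158 : act 2 n88220 = n86995 := d1_1 D88220 (iv4 D86995) (iv2 F62374)
theorem F135159 : act 7 n88220 = n86992 := d11_2 F63560 D88220 (iv4 D86992)
theorem F135160 : act 5 n88220 = n47505 := d16_1 D88220 (iv4 D47505) (iv5 D22822) (iv4 D10785) D10786 D22826 D47510 F74705 (iv2 F62374)
def n88221 : Q := act 2 n41173
theorem D88221 : act 2 n41173 = n88221 := rfl
theorem F135161 : act 7 n41174 = n88221 := d15_2 (iv0 D41173) D41174 (iv2 D88221)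
def n88222 : Q := act 3 n41173
theorem D88222 : act 3 n41173 = n88222 := rfl
def n88223 : Q := act 5 n41173
theorem D88223 : act 5 n41173 = n88223 := rfl
def n88225 : Q := act 7 n41173
theorem D88225 : act 7 n41173 = n88225 := rfl
theorem F135162 : act 2 n88225 = n41174 := d4_1 D88225 F135161 (iv2 D88221)
def n88226 : Q := act 5 n41174
theorem D88226 : act 5 n41174 = n88226 := rfl
def n88227 : Q := act 6 n41174
theorem D88227 : act 6 n41174 = n88227 := rfl
def n88228 : Q := act 5 n41175
theorem D88228 : act 5 n41175 = n88228 := rfl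
theorem F135163 : act 2 n88228 = n41176 := d2_1 D88228 (iv5 D41176) D41175
def n88229 : Q := act 6 n41175
theorem D88229 : act 6 n41175 = n88229 := rfl
theorem F135164 : act 2 n88229 = n41177 := d3_1 D88229 (iv6 D41177) D41175
def n88230 : Q := act 0 n41176
theorem D88230 : act 0 n41176 = n88230 := rfl
def n88231 : Q := act 1 n41176
theorem D88231 : act 1 n41176 = n88231 := rfl
def n88232 : Q := act 4 n41176
theorem D88232 : act 4 n41176 = n88232 := rfl
def n88233 : Q := act 6 n41176
theorem D88233 : act 6 n41176 = n88233 := rfl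
theorem F135165 : act 3 n88233 = n41179 := d7_1 D88233 (iv6 D41179) (iv3 F62380)
def n88234 : Q := act 0 n41177
theorem D88234 : act 0 n41177 = n88234 := rfl
def n88235 : Q := act 1 n41177
theorem D88235 : act 1 n41177 = n88235 := rfl
def n88236 : Q := act 5 n41177
theorem D88236 : act 5 n41177 = n88236 := rfl
theorem F135166 : act 3 n88236 = n41182 := d6_1 D88236 (iv5 D41182) (iv3 F62381)
def n88237 : Q := act 7 n41177
theorem D88237 : act 7 n41177 = n88237 := rfl
theorem F135167 : act 3 n88237 = n41183 := d8_1 D88237 (iv7 D41183) (iv3 F62381)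
theorem F135168 : act 4 n88237 = n47566 := d11_1 D88237 F74802 F73671
theorem F135169 : act 6 n88237 = n47509 := d14_1 D88237 F74703 (iv6 D47503) F35395 D41177
def n88238 : Q := act 3 n41178
theorem D88238 : act 3 n41178 = n88238 := rfl
def n88239 : Q := act 6 n41178
theorem D88239 : act 6 n41178 = n88239 := rfl
theorem F135170 : act 4 n88239 = n41179 := d10_1 D88239 (iv6 D41179) D41178
def n88240 : Q := act 0 n41179
theorem D88240 : act 0 n41179 = n88240 := rfl
def n88241 : Q := act 1 n41179
theorem D88241 : act 1 n41179 = n88241 := rfl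
def n88242 : Q := act 5 n41179
theorem D88242 : act 5 n41179 = n88242 := rfl
theorem F135171 : act 6 n88242 = n41182 := d12_2 D41179 D88242 (iv5 D41182) (iv6 D19364) D19363
def n88243 : Q := act 7 n41179
theorem D88243 : act 7 n41179 = n88243 := rfl
def n88244 : Q := act 4 n41182
theorem D88244 : act 4 n41182 = n88244 := rfl
def n88245 : Q := act 0 n41185
theorem D88245 : act 0 n41185 = n88245 := rfl
def n88246 : Q := act 1 n41185
theorem D88246 : act 1 n41185 = n88246 := rfl
def n88247 : Q := act 2 n41185
theorem D88247 : act 2 n41185 = n88247 := rfl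
def n88248 : Q := act 4 n41185
theorem D88248 : act 4 n41185 = n88248 := rfl
def n88249 : Q := act 5 n41185
theorem D88249 : act 5 n41185 = n88249 := rfl
theorem F135172 : act 3 n88249 = n41187 := d6_1 D88249 (iv5 D41187) D41185
def n88250 : Q := act 6 n41185
theorem D88250 : act 6 n41185 = n88250 := rfl
theorem F135173 : act 3 n88250 = n41188 := d7_1 D88250 (iv6 D41188) D41185
def n88251 : Q := act 0 n41186
theorem D88251 : act 0 n41186 = n88251 := rfl
theorem F135174 : act 5 n88251 = n87345 := d17_1 D88251 F134102 F133505 (iv4 D41178) (iv5 D19363) F30919 (iv5 F61960) F61963 D41186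
theorem F135175 : act 4 n88251 = n87717 := d18_3 D19365 D41186 D88251 (iv5 D87717) (iv4 F63106) (iv0 F63107) (iv4 F17365) (iv0 D9090) D9092
theorem F135176 : act 1 n41191 = n88251 := d15_0 (iv0 D88251) (iv7 F134625) F134624
theorem F135177 : act 7 n87747 = n88251 := d11_0 F135175 F134631 D87747
def n88252 : Q := act 1 n41186
theorem D88252 : act 1 n41186 = n88252 := rfl
theorem F135178 : act 1 n88252 = n41191 := d15_1 D88252 (iv7 F134621) F134620
theorem F135179 : act 2 n87747 = n88252 := d15_3 F135178 F135176 (iv7 F135177)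
theorem F135180 : act 4 n44579 = n88252 := d18_5 (iv1 F30919) (iv4 F17181) F63109 (iv4 F33446) D44579 F135178 (iv4 D41191) F61962 F61960
def n88253 : Q := act 3 n41186
theorem D88253 : act 3 n41186 = n88253 := rfl
def n88254 : Q := act 6 n41186
theorem D88254 : act 6 n41186 = n88254 := rfl
theorem F135181 : act 4 n88254 = n41188 := d10_1 D88254 (iv6 D41188) D41186
def n88255 : Q := act 0 n41188
theorem D88255 : act 0 n41188 = n88255 := rfl
def n88256 : Q := act 1 n41188
theorem D88256 : act 1 n41188 = n88256 := rfl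
def n88257 : Q := act 5 n41188
theorem D88257 : act 5 n41188 = n88257 := rfl
theorem F135182 : act 6 n88257 = n43698 := d12_2 D41188 D88257 (iv5 F134198) (iv6 F134196) (iv5 D41187)
def n88258 : Q := act 7 n41188
theorem D88258 : act 7 n41188 = n88258 := rfl
def n88259 : Q := act 0 n41190
theorem D88259 : act 0 n41190 = n88259 := rfl
def n88260 : Q := act 1 n41190
theorem D88260 : act 1 n41190 = n88260 := rfl
def n88261 : Q := act 2 n41190
theorem D88261 : act 2 n41190 = n88261 := rfl
def n88262 : Q := act 4 n41190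
theorem D88262 : act 4 n41190 = n88262 := rfl
def n88263 : Q := act 5 n41190
theorem D88263 : act 5 n41190 = n88263 := rfl
theorem F135183 : act 3 n88263 = n41192 := d6_1 D88263 (iv5 D41192) D41190
def n88264 : Q := act 6 n41190
theorem D88264 : act 6 n41190 = n88264 := rfl
theorem F135184 : act 3 n88264 = n41193 := d7_1 D88264 (iv6 D41193) D41190
def n88265 : Q := act 3 n41191
theorem D88265 : act 3 n41191 = n88265 := rfl
def n88266 : Q := act 6 n41191
theorem D88266 : act 6 n41191 = n88266 := rfl
theorem F135185 : act 4 n88266 = n41193 := d10_1 D88266 (iv6 D41193) D41191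
def n88268 : Q := act 1 n41193
theorem D88268 : act 1 n41193 = n88268 := rfl
def n88269 : Q := act 5 n41193
theorem D88269 : act 5 n41193 = n88269 := rfl
def n88270 : Q := act 7 n41193
theorem D88270 : act 7 n41193 = n88270 := rfl
def n88271 : Q := act 2 n41194
theorem D88271 : act 2 n41194 = n88271 := rfl
theorem F135186 : act 7 n41195 = n88271 := d15_2 (iv0 D41194) D41195 (iv2 D88271)
def n88272 : Q := act 3 n41194
theorem D88272 : act 3 n41194 = n88272 := rfl
def n88273 : Q := act 6 n41194
theorem D88273 : act 6 n41194 = n88273 := rfl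
def n88274 : Q := act 7 n41194
theorem D88274 : act 7 n41194 = n88274 := rfl
theorem F135187 : act 2 n88274 = n41195 := d4_1 D88274 F135186 (iv2 D88271)
def n88275 : Q := act 3 n41195
theorem D88275 : act 3 n41195 = n88275 := rfl
def n88276 : Q := act 6 n41195
theorem D88276 : act 6 n41195 = n88276 := rfl
def n88277 : Q := act 0 n41196
theorem D88277 : act 0 n41196 = n88277 := rfl
def n88278 : Q := act 1 n41196
theorem D88278 : act 1 n41196 = n88278 := rfl
def n88279 : Q := act 2 n41196
theorem D88279 : act 2 n41196 = n88279 := rfl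
def n88280 : Q := act 5 n41196
theorem D88280 : act 5 n41196 = n88280 := rfl
theorem F135188 : act 3 n88280 = n41197 := d6_1 D88280 (iv5 D41197) D41196
def n88281 : Q := act 7 n41196
theorem D88281 : act 7 n41196 = n88281 := rfl
theorem F135189 : act 3 n88281 = n41198 := d8_1 D88281 (iv7 D41198) D41196
def n88282 : Q := act 6 n41197
theorem D88282 : act 6 n41197 = n88282 := rfl
def n88283 : Q := act 6 n41198
theorem D88283 : act 6 n41198 = n88283 := rfl
theorem F135190 : act 4 n88283 = n41199 := d10_1 D88283 (iv6 D41199) (iv4 F62386)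
def n88284 : Q := act 0 n41199
theorem D88284 : act 0 n41199 = n88284 := rfl
def n88285 : Q := act 1 n41199
theorem D88285 : act 1 n41199 = n88285 := rfl
def n88286 : Q := act 3 n41202
theorem D88286 : act 3 n41202 = n88286 := rfl
theorem F135191 : act 4 n88286 = n41231 := d5_2 D41202 D88286 (iv3 D41231) (iv4 D19389) (iv3 F31003)
theorem F135192 : act 6 n88286 = n47420 := d7_2 F62395 D88286 F74625
theorem F135193 : act 7 n88286 = n46596 := d8_2 (iv7 F62392) D88286 F73586
def n88287 : Q := act 6 n41205
theorem D88287 : act 6 n41205 = n88287 := rfl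
theorem F135196 : act 4 n88287 = n46327 := d10_1 D88287 F72979 (iv4 F62405)
theorem F135199 : act 0 n82477 = n88287 := d21_4 D43956 (iv1 F127074) (iv5 D82476) D82477 (iv6 D88287) F62406 F64474 (iv5 D40401) D40402 F74584
theorem F135200 : act 1 n46326 = n41645 := d18_6 (iv1 F72150) (iv4 F127083) F135199 F135196 (iv5 D46327) D46326 (iv4 D41645) D41644 (iv5 F64268)
def n88288 : Q := act 0 n41206
theorem D88288 : act 0 n41206 = n88288 := rfl
theorem F135201 : act 3 n88288 = n87679 := d20_5 (iv4 D10785) D10782 F35319 D41206 D88288 (iv4 D87679) (iv1 D40846) F30911 F30910 F17307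
def n88289 : Q := act 1 n41206
theorem D88289 : act 1 n41206 = n88289 := rfl
def n88290 : Q := act 2 n41206
theorem D88290 : act 2 n41206 = n88290 := rfl
theorem F135202 : act 4 n88290 = n48437 := d1_2 (iv4 F62408) D88290 (iv2 D48437)
def n88291 : Q := act 5 n41206
theorem D88291 : act 5 n41206 = n88291 := rfl
theorem F135203 : act 3 n88291 = n41207 := d6_1 D88291 (iv5 D41207) D41206
def n88292 : Q := act 4 n41207
theorem D88292 : act 4 n41207 = n88292 := rfl
theorem F135204 : act 2 n88292 = n88251 := d1_1 D88292 F135175 F134630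
theorem F135205 : act 7 n88292 = n88252 := d11_2 F70111 D88292 (iv4 F135180)
theorem F135206 : act 0 n88292 = n87711 := d18_2 F133561 D88292 (iv4 D87711) (iv5 F64343) (iv4 F70220) F70224 (iv4 F133558) (iv0 D87019) D87021
theorem F135207 : act 1 n88292 = n87708 := d18_6 F17307 (iv4 D10785) D10782 F35319 D41207 D88292 (iv4 D87708) (iv0 D40856) (iv5 D19257)
def n88293 : Q := act 6 n41207
theorem D88293 : act 6 n41207 = n88293 := rfl
def n88294 : Q := act 2 n41212
theorem D88294 : act 2 n41212 = n88294 := rfl
theorem F135208 : act 7 n41213 = n88294 := d15_2 (iv0 D41212) D41213 (iv2 D88294)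
def n88295 : Q := act 4 n41212
theorem D88295 : act 4 n41212 = n88295 := rfl
theorem F135209 : act 0 n88295 = n47484 := d20_1 D88295 (iv4 D47484) (iv3 D22807) (iv1 D10774) F7345 F6006 D4087 D9096 D19383 D41212
def n88296 : Q := act 5 n41212
theorem D88296 : act 5 n41212 = n88296 := rfl
def n88297 : Q := act 6 n41212
theorem D88297 : act 6 n41212 = n88297 := rfl
def n88298 : Q := act 7 n41212
theorem D88298 : act 7 n41212 = n88298 := rfl
def n88299 : Q := act 3 n41213
theorem D88299 : act 3 n41213 = n88299 := rfl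
def n88300 : Q := act 4 n41213
theorem D88300 : act 4 n41213 = n88300 := rfl
theorem F135211 : act 3 n88300 = n46629 := d20_9 (iv4 F74676) (iv1 F74680) (iv4 F74682) F74681 (iv1 F73600) F73598 D47406 (iv1 F74612) D88300 (iv1 F73661)
theorem F135212 : act 0 n47484 = n88300 := d20_10 (iv4 D88300) (iv1 D41213) (iv4 F34823) (iv3 D22323) (iv1 F17175) (iv3 F17279) F17280 (iv1 F17831) D23369 (iv3 F74665)
theorem F135213 : act 0 n88299 = n87674 := d20_10 (iv4 D87674) (iv1 F72132) F72128 F72127 (iv1 F34321) D22807 D47484 F135212 (iv4 D88300) D88299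
theorem F135214 : act 1 n48235 = n88300 := d15_0 (iv0 F135212) F74666 D48235
def n88301 : Q := act 5 n41213
theorem D88301 : act 5 n41213 = n88301 := rfl
def n88302 : Q := act 6 n41213
theorem D88302 : act 6 n41213 = n88302 := rfl
def n88303 : Q := act 5 n41214
theorem D88303 : act 5 n41214 = n88303 := rfl
theorem F135215 : act 2 n88303 = n41215 := d2_1 D88303 (iv5 D41215) D41214
def n88304 : Q := act 6 n41214
theorem D88304 : act 6 n41214 = n88304 := rfl
theorem F135216 : act 2 n88304 = n41216 := d3_1 D88304 (iv6 D41216) D41214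
def n88305 : Q := act 0 n41215
theorem D88305 : act 0 n41215 = n88305 := rfl
def n88306 : Q := act 1 n41215
theorem D88306 : act 1 n41215 = n88306 := rfl
def n88307 : Q := act 4 n41215
theorem D88307 : act 4 n41215 = n88307 := rfl
def n88308 : Q := act 6 n41215
theorem D88308 : act 6 n41215 = n88308 := rfl
theorem F135217 : act 3 n88308 = n41220 := d7_1 D88308 (iv6 D41220) (iv3 F62411)
def n88309 : Q := act 0 n41216
theorem D88309 : act 0 n41216 = n88309 := rfl
def n88310 : Q := act 1 n41216
theorem D88310 : act 1 n41216 = n88310 := rfl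
def n88311 : Q := act 5 n41216
theorem D88311 : act 5 n41216 = n88311 := rfl
theorem F135218 : act 3 n88311 = n41223 := d6_1 D88311 (iv5 D41223) (iv3 F62412)
def n88312 : Q := act 3 n41217
theorem D88312 : act 3 n41217 = n88312 := rfl
theorem F135219 : act 5 n88312 = n87581 := d6_2 F63431 D88312 F134464
def n88313 : Q := act 4 n41217
theorem D88313 : act 4 n41217 = n88313 := rfl
theorem F135220 : act 2 n88313 = n88212 := d1_1 D88313 F135151 (iv2 F134645)
theorem F135221 : act 7 n88313 = n88213 := d11_2 F134648 D88313 F135154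
theorem F135222 : act 0 n88313 = n87705 := d18_2 D41217 D88313 (iv4 D87705) (iv5 D40854) (iv4 F63102) (iv0 F63111) F35319 (iv0 D19381) D19384
theorem F135223 : act 1 n88313 = n47505 := d18_6 F133556 (iv4 F63982) F69721 (iv4 F63049) F63431 D88313 (iv4 D47505) D47504 (iv5 F133555)
def n88314 : Q := act 6 n41217
theorem D88314 : act 6 n41217 = n88314 := rfl
theorem F135224 : act 5 n88314 = n87583 := d12_1 D88314 (iv6 D87583) (iv5 D40767) D40768 F63431
def n88315 : Q := act 3 n41218
theorem D88315 : act 3 n41218 = n88315 := rfl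
def n88316 : Q := act 4 n41218
theorem D88316 : act 4 n41218 = n88316 := rfl
theorem F135225 : act 2 n88316 = n88213 := d1_1 D88316 F135154 (iv2 F134650)
theorem F135226 : act 7 n88316 = n88212 := d11_2 (iv7 F134646) D88316 F135151
theorem F135227 : act 0 n88316 = n47505 := d18_2 (iv1 F62414) D88316 (iv4 D47505) (iv5 D22822) (iv4 D10785) F63099 (iv4 F30928) (iv0 F63094) D19403
theorem F135228 : act 1 n88316 = n87705 := d15_1 (iv0 F135227) F134617 (iv2 F74691)
def n88317 : Q := act 5 n41218
theorem D88317 : act 5 n41218 = n88317 := rfl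
theorem F135229 : act 2 n88317 = n87019 := d2_1 D88317 (iv5 F134649) (iv2 F134650)
theorem F135230 : act 7 n88317 = n86928 := d13_2 (iv7 F134646) D88317 (iv5 F134643)
theorem F135231 : act 4 n88317 = n47508 := d17_4 (iv1 F31012) D19403 (iv1 F62414) D88317 (iv5 D47508) F35401 (iv5 F63103) (iv0 F63111) F35319
theorem F135232 : act 1 n88317 = n86914 := d17_8 (iv1 F62477) (iv5 D20701) F62469 (iv5 D9097) D9096 D19384 D41218 D88317 (iv4 D86914)
theorem F135233 : act 0 n88317 = n41901 := d18_0 F64634 F62443 (iv4 F61898) (iv5 F62360) D88208 F135147 (iv4 D41219) D41218 D88317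
theorem F135234 : act 6 n87030 = n88317 := d21_5 (iv5 F133545) (iv1 F133546) (iv5 D40423) D40424 D87030 (iv5 D88317) (iv1 D41218) (iv5 D19384) D19385 (iv1 F63248)
def n88318 : Q := act 6 n41218
theorem D88318 : act 6 n41218 = n88318 := rfl
def n88319 : Q := act 3 n41219
theorem D88319 : act 3 n41219 = n88319 := rfl
def n88320 : Q := act 6 n41219
theorem D88320 : act 6 n41219 = n88320 := rfl
theorem F135235 : act 4 n88320 = n41220 := d10_1 D88320 (iv6 D41220) D41219
def n88321 : Q := act 0 n41220
theorem D88321 : act 0 n41220 = n88321 := rfl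
def n88323 : Q := act 5 n41220
theorem D88323 : act 5 n41220 = n88323 := rfl
theorem F135236 : act 6 n88323 = n41223 := d12_2 D41220 D88323 (iv5 D41223) (iv6 D19385) D19384
def n88324 : Q := act 7 n41220
theorem D88324 : act 7 n41220 = n88324 := rfl
def n88325 : Q := act 3 n41222
theorem D88325 : act 3 n41222 = n88325 := rfl
def n88326 : Q := act 1 n41223
theorem D88326 : act 1 n41223 = n88326 := rfl
theorem F135237 : act 1 n88326 = n87344 := d15_1 D88326 F134101 F63570
theorem F135238 : act 7 n88326 = n86916 := d15_2 F63563 D88326 F133367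
theorem F135239 : act 5 n88326 = n86912 := d17_7 (iv1 F30594) F13925 (iv1 F14133) (iv5 F14162) (iv4 F31009) D41223 D88326 (iv0 D86912) (iv4 D40323)
theorem F135240 : act 2 n87006 = n88326 := d2_3 F135239 (iv2 F133355) D87006
def n88327 : Q := act 4 n41223
theorem D88327 : act 4 n41223 = n88327 := rfl
theorem F135241 : act 2 n88327 = n86998 := d1_1 D88327 (iv4 F133513) F63570
theorem F135242 : act 7 n88327 = n86997 := d11_2 F62455 D88327 F133509
theorem F135243 : act 5 n88327 = n87723 := d16_1 D88327 (iv4 D87723) (iv5 D40863) (iv4 D19261) D19262 D40864 (iv5 F134099) F134101 F63570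
theorem F135244 : act 0 n88327 = n86910 := d18_2 (iv1 D88326) D88327 (iv4 D86910) (iv5 D40319) F30589 D19061 D40326 F133356 (iv5 F135239)
theorem F135245 : act 1 n88327 = n87001 := d18_6 (iv1 F62372) F62373 (iv1 D19393) (iv4 F31009) D41223 D88327 F133521 (iv0 F74706) (iv5 D47510)
def n88328 : Q := act 3 n41224
theorem D88328 : act 3 n41224 = n88328 := rfl
theorem F135246 : act 4 n88328 = n88328 := d5_2 D41224 D88328 (iv3 D88328) (iv4 D41224) F62182
theorem F135247 : act 7 n88328 = n87931 := d8_2 (iv7 F62420) D88328 F134926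
def n88329 : Q := act 5 n41224
theorem D88329 : act 5 n41224 = n88329 := rfl
theorem F135248 : act 2 n88329 = n86981 := d2_1 D88329 F133500 (iv2 F62419)
theorem F135249 : act 7 n88329 = n86980 := d13_2 (iv7 F62420) D88329 F133495
theorem F135250 : act 0 n88329 = n41784 := d17_2 (iv1 F62422) D88329 (iv5 D41784) (iv4 D19663) D19664 (iv0 F68710) (iv5 F64030) F35407 (iv4 F62378)
theorem F135251 : act 1 n88329 = n86909 := d17_6 (iv1 F30590) (iv5 F31488) F62443 (iv5 F31013) D41224 D88329 (iv5 D86909) F61379 F30639
def n88330 : Q := act 6 n41224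
theorem D88330 : act 6 n41224 = n88330 := rfl
theorem F135252 : act 2 n88330 = n43669 := d3_1 D88330 F68626 (iv2 F62419)
theorem F135255 : act 5 n88330 = n86952 := d21_6 D20886 D43997 F69212 (iv6 F69156) (iv1 F62422) D88330 (iv1 F133458) (iv5 D44291) (iv6 F65809) (iv1 D20885)
theorem F135256 : act 0 n88330 = n43667 := d21_10 F69715 (iv1 D44262) (iv5 D21049) D21050 D44265 F69659 D86909 (iv1 F135251) (iv5 D88329) D88330
theorem F135257 : act 0 n43666 = n88330 := d21_4 D44001 (iv1 F74409) (iv5 D47147) F69654 (iv6 D88330) D88329 F135250 (iv5 D41784) D41785 F65938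
def n88331 : Q := act 3 n41229
theorem D88331 : act 3 n41229 = n88331 := rfl
theorem F135258 : act 4 n88331 = n48421 := d5_2 (iv4 F62450) D88331 (iv3 D48421) (iv4 D23561) (iv3 F62468)
theorem F135259 : act 7 n88331 = n87914 := d8_2 F63336 D88331 F134910
def n88332 : Q := act 5 n41229
theorem D88332 : act 5 n41229 = n88332 := rfl
theorem F135260 : act 2 n88332 = n87013 := d2_1 D88332 F133548 F63339
theorem F135261 : act 7 n88332 = n87012 := d13_2 F63336 D88332 F133545
theorem F135262 : act 0 n88332 = n86913 := d17_2 D41229 D88332 (iv5 D86913) (iv4 D40323) D40324 (iv0 F61893) (iv5 F31013) (iv0 D19387) D19389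
theorem F135263 : act 1 n88332 = n86915 := d17_6 (iv1 F63779) D41496 F69721 (iv5 F63430) (iv4 F62450) D88332 (iv5 D86915) F133356 F133354
def n88333 : Q := act 6 n41229
theorem D88333 : act 6 n41229 = n88333 := rfl
theorem F135264 : act 2 n88333 = n48261 := d3_1 D88333 (iv6 F75868) F63339
theorem F135265 : act 4 n88333 = n47507 := d10_1 D88333 (iv6 D47507) (iv4 F62450)
theorem F135266 : act 7 n88333 = n48193 := d14_2 F63336 D88333 (iv6 D48193) F62946 D41020
theorem F135267 : act 5 n88333 = n86929 := d21_6 D40628 (iv1 F134164) F134165 (iv6 D41233) D41229 D88333 (iv1 F133404) F61871 (iv6 F66205) (iv1 F66223)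
theorem F135268 : act 0 n88333 = n43681 := d21_10 F134461 (iv1 D87574) (iv5 D40762) D40763 (iv1 F69689) F69684 D86915 (iv1 F135263) (iv5 D88332) D88333
theorem E14438 : n48262 = n48193 := (c15_2 (iv0 D48261) D48262 (iv7 F135266) F135264)
theorem F135270 : act 0 n48193 = n23412 := (sb E14438 (iv1 D48262))
def n88334 : Q := act 3 n41230
theorem D88334 : act 3 n41230 = n88334 := rfl
theorem F135271 : act 6 n88334 = n46430 := d7_2 (iv6 F63343) D88334 (iv3 F73278)
theorem F135272 : act 7 n88334 = n88325 := d8_2 (iv7 F63341) D88334 (iv3 D88325)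
def n88335 : Q := act 5 n41230
theorem D88335 : act 5 n41230 = n88335 := rfl
theorem F135273 : act 2 n88335 = n87012 := d2_1 D88335 F133545 F63342
theorem F135274 : act 7 n88335 = n87013 := d13_2 (iv7 F63341) D88335 F133548
theorem F135275 : act 0 n88335 = n86915 := d17_2 (iv1 F62451) D88335 (iv5 D86915) (iv4 D40326) (iv5 F31488) (iv0 F62476) (iv5 D20701) (iv0 F62470) D19405
theorem F135276 : act 1 n88335 = n86913 := d17_6 (iv1 F63497) D41781 F74701 (iv5 D47508) (iv4 F62452) D88335 (iv5 D86913) F63562 F30803
def n88336 : Q := act 0 n41231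
theorem D88336 : act 0 n41231 = n88336 := rfl
theorem F135277 : act 1 n88304 = n88336 := d15_0 (iv0 D88336) F62454 (iv2 F135216)
def n88337 : Q := act 1 n41231
theorem D88337 : act 1 n41231 = n88337 := rfl
def n88338 : Q := act 2 n41231
theorem D88338 : act 2 n41231 = n88338 := rfl
theorem F135278 : act 7 n88338 = n88304 := d4_2 (iv7 F62454) D88338 F135216
theorem F135279 : act 1 n88338 = n88309 := d15_0 (iv0 D88309) (iv7 F62454) D88338
theorem F135280 : act 1 n88337 = n88304 := d15_1 D88337 (iv7 F135278) (iv2 D88338)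
theorem F135281 : act 1 n88310 = n88338 := d15_1 D88310 F135278 F135216
def n88339 : Q := act 5 n41231
theorem D88339 : act 5 n41231 = n88339 := rfl
theorem F135282 : act 3 n88339 = n41232 := d6_1 D88339 (iv5 D41232) D41231
theorem F135283 : act 7 n88339 = n88311 := d13_2 (iv7 F62454) D88339 (iv5 D88311)
def n88340 : Q := act 6 n41231
theorem D88340 : act 6 n41231 = n88340 := rfl
theorem F135284 : act 3 n88340 = n41233 := d7_1 D88340 (iv6 D41233) D41231
theorem F135285 : act 4 n88340 = n47420 := d10_1 D88340 (iv6 F135192) F135191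
theorem F135286 : act 7 n88340 = n47412 := d14_2 (iv7 F62454) D88340 (iv6 D47412) F35339 D41216
def n88341 : Q := act 6 n41232
theorem D88341 : act 6 n41232 = n88341 := rfl
def n88342 : Q := act 0 n41237
theorem D88342 : act 0 n41237 = n88342 := rfl
def n88343 : Q := act 1 n41237
theorem D88343 : act 1 n41237 = n88343 := rfl
def n88344 : Q := act 2 n41237
theorem D88344 : act 2 n41237 = n88344 := rfl
theorem F135287 : act 4 n88344 = n41248 := d1_2 (iv4 F62464) D88344 (iv2 D41248)
def n88345 : Q := act 5 n41237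
theorem D88345 : act 5 n41237 = n88345 := rfl
theorem F135288 : act 3 n88345 = n41238 := d6_1 D88345 (iv5 D41238) D41237
def n88346 : Q := act 6 n41237
theorem D88346 : act 6 n41237 = n88346 := rfl
theorem F135289 : act 3 n88346 = n41239 := d7_1 D88346 (iv6 D41239) D41237
theorem F135290 : act 4 n88346 = n41250 := d10_1 D88346 (iv6 D41250) (iv4 F62464)
theorem F135291 : act 0 n46897 = n41250 := d20_7 (iv4 D44633) F63189 (iv4 F36662) (iv3 F75516) (iv1 D48055) (iv3 F75505) F75506 (iv4 F135290) F135289 (iv1 F70183)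
def n88347 : Q := act 0 n41238
theorem D88347 : act 0 n41238 = n88347 := rfl
theorem F135292 : act 5 n88347 = n42019 := d17_3 F31029 D41238 D88347 (iv4 D42019) F63242 (iv0 F63228) (iv5 F17898) F7485 D11021
theorem F135293 : act 4 n88347 = n48398 := d18_1 D88347 (iv1 D48398) (iv4 D23532) (iv5 D11035) (iv4 D5028) F63122 (iv4 F15976) (iv0 F63149) D41238
theorem F135294 : act 1 n44603 = n88347 := d15_0 (iv0 D88347) (iv7 F70649) F70648
theorem F135295 : act 7 n45525 = n88347 := d13_0 F135292 F64866 D45525
theorem F135296 : act 7 n48398 = n48464 := d11_2 F135295 F135293 F76230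
theorem F135297 : act 2 n48464 = n48397 := d15_3 (iv0 D48397) D48398 F135296
theorem F135298 : act 2 n48398 = n48463 := d15_3 (iv0 D48463) D48464 (iv7 F135296)
theorem F135299 : act 7 n48463 = n48397 := d4_2 (iv7 F135296) F135298 (iv2 F135297)
def n88348 : Q := act 1 n41238
theorem D88348 : act 1 n41238 = n88348 := rfl
theorem F135300 : act 1 n88348 = n44603 := d15_1 D88348 (iv7 F70654) F70653
theorem F135301 : act 5 n88348 = n42018 := d17_7 F67688 (iv5 F63081) (iv1 D41241) (iv5 D19400) D19399 D41238 D88348 F70263 F70261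
theorem F135302 : act 2 n45525 = n88348 := d2_3 F135301 F64862 D45525
theorem F135303 : act 4 n48397 = n88348 := d18_3 (iv1 D23531) D23532 D48397 F135301 (iv4 D42018) (iv0 D19808) D19810 D42021 (iv5 F64880)
def n88349 : Q := act 4 n41238
theorem D88349 : act 4 n41238 = n88349 := rfl
theorem F135304 : act 1 n88349 = n48461 := d18_6 (iv1 F17932) (iv4 F35314) (iv1 D19397) D19399 D41238 D88349 (iv4 D48461) F36754 (iv5 D23518)
theorem F135305 : act 1 n48458 = n88349 := d15_0 F135304 F76225 (iv2 F76218)
def n88350 : Q := act 6 n41238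
theorem D88350 : act 6 n41238 = n88350 := rfl
def n88351 : Q := act 5 n41240
theorem D88351 : act 5 n41240 = n88351 := rfl
theorem F135306 : act 2 n88351 = n87023 := d2_1 D88351 F133570 (iv2 F63014)
theorem F135307 : act 3 n88351 = n82698 := d6_1 D88351 F127435 (iv3 F62467)
theorem F135308 : act 6 n88351 = n87024 := d12_2 F63020 D88351 F133580 F134821 (iv5 D87847)
theorem F135309 : act 7 n88351 = n82697 := d13_2 F76111 D88351 F127431
theorem F135310 : act 0 n88351 = n43219 := d17_2 D41240 D88351 (iv5 D43219) (iv4 F63438) D44656 F75587 (iv5 D48109) F63232 (iv4 D41242)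
theorem F135311 : act 4 n88351 = n41981 := d17_4 (iv1 D19397) D19400 D41240 D88351 F64767 (iv0 D23619) (iv5 D11068) D11066 (iv4 F35314)
theorem F135312 : act 1 n88351 = n43217 := d17_6 F35862 D19774 D41971 F64760 (iv4 F62466) D88351 (iv5 D43217) (iv0 D20382) (iv4 F16464)
def n88352 : Q := act 3 n41242
theorem D88352 : act 3 n41242 = n88352 := rfl
theorem F135313 : act 4 n88352 = n41257 := d5_2 D41242 D88352 (iv3 D41257) (iv4 D19405) (iv3 F31030)
theorem F135314 : act 6 n88352 = n44943 := d7_2 F63175 D88352 (iv3 D44943)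
def n88353 : Q := act 6 n41243
theorem D88353 : act 6 n41243 = n88353 := rfl
theorem F135315 : act 2 n88353 = n43932 := d3_1 D88353 (iv6 D43932) (iv2 F66249)
theorem F135316 : act 3 n88353 = n48231 := d7_1 D88353 (iv6 F75822) (iv3 F66250)
theorem F135317 : act 4 n88353 = n48414 := d10_1 D88353 F76115 (iv4 F66251)
theorem F135319 : act 0 n88353 = n81424 := d21_4 F30622 (iv1 F66247) F66248 D88353 (iv6 D81424) D81423 F125240 (iv5 F68950) (iv6 D43856) F66236
def n88354 : Q := act 5 n41247
theorem D88354 : act 5 n41247 = n88354 := rfl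
def n88355 : Q := act 5 n41248
theorem D88355 : act 5 n41248 = n88355 := rfl
theorem F135320 : act 2 n88355 = n41249 := d2_1 D88355 (iv5 D41249) D41248
def n88356 : Q := act 6 n41248
theorem D88356 : act 6 n41248 = n88356 := rfl
theorem F135321 : act 2 n88356 = n41250 := d3_1 D88356 (iv6 D41250) D41248
def n88357 : Q := act 0 n41249
theorem D88357 : act 0 n41249 = n88357 := rfl
def n88358 : Q := act 1 n41249
theorem D88358 : act 1 n41249 = n88358 := rfl
def n88359 : Q := act 4 n41249
theorem D88359 : act 4 n41249 = n88359 := rfl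
def n88360 : Q := act 6 n41249
theorem D88360 : act 6 n41249 = n88360 := rfl
theorem F135322 : act 3 n88360 = n41252 := d7_1 D88360 (iv6 D41252) (iv3 F63089)
def n88361 : Q := act 0 n41250
theorem D88361 : act 0 n41250 = n88361 := rfl
def n88362 : Q := act 5 n41250
theorem D88362 : act 5 n41250 = n88362 := rfl
theorem F135323 : act 3 n88362 = n41255 := d6_1 D88362 (iv5 D41255) (iv3 F63090)
theorem F135324 : act 0 n46308 = n88362 := d21_1 D46308 (iv5 D88362) (iv6 D41250) (iv1 F73265) (iv6 D40999) (iv5 F64075) (iv1 F61860) F51566 D46008 F134922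
def n88363 : Q := act 7 n41250
theorem D88363 : act 7 n41250 = n88363 := rfl
theorem F135325 : act 3 n88363 = n41256 := d8_1 D88363 (iv7 D41256) (iv3 F63090)
theorem F135326 : act 6 n88363 = n87725 := d14_1 D88363 F134654 F63569 F61970 D41250
def n88364 : Q := act 3 n41251
theorem D88364 : act 3 n41251 = n88364 := rfl
def n88365 : Q := act 6 n41251
theorem D88365 : act 6 n41251 = n88365 := rfl
theorem F135327 : act 4 n88365 = n41252 := d10_1 D88365 (iv6 D41252) D41251
def n88366 : Q := act 0 n41252
theorem D88366 : act 0 n41252 = n88366 := rfl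
def n88367 : Q := act 1 n41252
theorem D88367 : act 1 n41252 = n88367 := rfl
def n88368 : Q := act 5 n41252
theorem D88368 : act 5 n41252 = n88368 := rfl
theorem F135328 : act 6 n88368 = n41255 := d12_2 D41252 D88368 (iv5 D41255) (iv6 D19404) D19403
def n88369 : Q := act 7 n41252
theorem D88369 : act 7 n41252 = n88369 := rfl
def n88370 : Q := act 3 n41253
theorem D88370 : act 3 n41253 = n88370 := rfl
theorem F135329 : act 6 n88370 = n47603 := d7_2 (iv6 F75836) D88370 (iv3 F75837)
def n88371 : Q := act 4 n41255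
theorem D88371 : act 4 n41255 = n88371 := rfl
theorem F135330 : act 0 n88371 = n43998 := d17_0 F134210 (iv1 F134187) (iv5 D87428) (iv4 D40632) (iv5 D19185) D19184 D40628 F70440 D88371
theorem F135331 : act 1 n88371 = n87433 := d18_6 (iv1 F69154) F62028 F31067 (iv4 F31033) D41255 D88371 (iv4 D87433) F69210 F69212
def n88372 : Q := act 7 n41255
theorem D88372 : act 7 n41255 = n88372 := rfl
theorem F135332 : act 2 n88372 = n87411 := d4_1 D88372 (iv7 F134660) F134659
theorem F135333 : act 5 n88372 = n41256 := d13_1 D88372 (iv7 D41256) D41255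
theorem F135334 : act 1 n86942 = n88372 := d15_1 F134662 (iv7 D88372) (iv2 F134659)
theorem F135335 : act 1 n88372 = n44844 := d15_1 F135334 F70439 (iv2 F133436)
def n88373 : Q := act 0 n41257
theorem D88373 : act 0 n41257 = n88373 := rfl
def n88374 : Q := act 1 n41257
theorem D88374 : act 1 n41257 = n88374 := rfl
theorem F135336 : act 3 n46759 = n88374 := d20_3 (iv4 F73903) (iv1 F75819) F75821 (iv1 D88374) (iv3 D41257) (iv4 D19405) F62470 (iv4 F32820) (iv3 F65707) D46788
theorem F135337 : act 6 n88374 = n47599 := d7_2 (iv6 F73873) F135336 (iv3 D47599)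
theorem F135338 : act 7 n88374 = n46753 := d8_2 D46759 F135336 F73872
theorem F135339 : act 2 n46753 = n88373 := d15_3 (iv0 D88373) D88374 F135338
theorem F135340 : act 6 n88373 = n46750 := d3_2 D46753 F135339 (iv2 D46750)
def n88375 : Q := act 2 n41257
theorem D88375 : act 2 n41257 = n88375 := rfl
theorem F135341 : act 3 n88375 = n88304 := d0_2 D41257 D88375 F135216 F62412 F31059
theorem F135342 : act 6 n88375 = n87719 := d3_2 (iv6 F63569) D88375 (iv2 D87719)
def n88376 : Q := act 5 n41257
theorem D88376 : act 5 n41257 = n88376 := rfl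
theorem F135343 : act 3 n88376 = n41258 := d6_1 D88376 (iv5 D41258) D41257
def n88378 : Q := act 3 n41261
theorem D88378 : act 3 n41261 = n88378 := rfl
theorem F135346 : act 4 n88378 = n79630 := d5_2 D41261 D88378 (iv3 D79630) F57011 F54703
theorem F135347 : act 7 n88378 = n78545 := d8_2 (iv7 F63576) D88378 (iv3 D78545)
def n88379 : Q := act 6 n41261
theorem D88379 : act 6 n41261 = n88379 := rfl
theorem F135348 : act 2 n88379 = n78550 := d3_1 D88379 (iv6 D78550) (iv2 F63575)
theorem F135349 : act 4 n88379 = n41262 := d10_1 D88379 (iv6 D41262) D41261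
theorem F135350 : act 0 n56243 = n88379 := d18_2 F118831 D56243 F135349 F63580 (iv4 F60926) F120733 (iv4 D27093) (iv0 F118079) (iv5 F61006)
theorem F135351 : act 1 n79861 = n88379 := d15_0 (iv0 F135350) F88959 (iv2 F122609)
theorem F135352 : act 7 n79864 = n88379 := d15_2 (iv0 F132760) F132761 F135348
def n88380 : Q := act 7 n41262
theorem D88380 : act 7 n41262 = n88380 := rfl
theorem F135354 : act 4 n88380 = n79864 := d11_1 D88380 F135352 F135349
theorem F135355 : act 5 n88380 = n42058 := d13_1 D88380 (iv7 D42058) (iv5 F63580)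
theorem F135356 : act 1 n86887 = n88380 := d15_1 D86887 (iv7 D88380) F63579
theorem F135357 : act 1 n88380 = n86886 := d15_1 F135356 (iv7 F133310) F133306
def n88381 : Q := act 3 n41263
theorem D88381 : act 3 n41263 = n88381 := rfl
theorem F135358 : act 4 n88381 = n42593 := d5_2 (iv4 F63583) D88381 (iv3 D42593) (iv4 D20106) (iv3 F31919)
theorem F135359 : act 7 n88381 = n43607 := d8_2 (iv7 F63582) D88381 F68552
def n88382 : Q := act 5 n41263
theorem D88382 : act 5 n41263 = n88382 := rfl
theorem F135361 : act 7 n88382 = n86880 := d13_2 (iv7 F63582) D88382 F133290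
theorem F135362 : act 0 n88382 = n42073 := d17_2 (iv1 F63581) D88382 (iv5 D42073) (iv4 D19840) F17526 (iv0 D4315) D4319 (iv0 F17550) D19413
theorem F135363 : act 1 n88382 = n42061 := d17_6 (iv1 F31157) (iv5 D19479) (iv1 F17588) D20105 (iv4 F63583) D88382 (iv5 D42061) (iv0 F33743) (iv4 D21469)
def n88383 : Q := act 6 n41263
theorem D88383 : act 6 n41263 = n88383 := rfl
theorem F135365 : act 4 n88383 = n42592 := d10_1 D88383 (iv6 D42592) (iv4 F63583)
def n88384 : Q := act 0 n41264
theorem D88384 : act 0 n41264 = n88384 := rfl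
def n88385 : Q := act 1 n41264
theorem D88385 : act 1 n41264 = n88385 := rfl
def n88386 : Q := act 2 n41264
theorem D88386 : act 2 n41264 = n88386 := rfl
theorem F135368 : act 3 n88386 = n86894 := d0_2 D41264 D88386 (iv2 D86894) (iv3 D40313) (iv2 F31070)
def n88387 : Q := act 5 n41264
theorem D88387 : act 5 n41264 = n88387 := rfl
theorem F135369 : act 3 n88387 = n41265 := d6_1 D88387 (iv5 D41265) D41264
def n88388 : Q := act 6 n41265
theorem D88388 : act 6 n41265 = n88388 := rfl
theorem F135370 : act 2 n88388 = n86897 := d3_1 D88388 (iv6 D86897) (iv2 F63585)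
def n88389 : Q := act 0 n41266
theorem D88389 : act 0 n41266 = n88389 := rfl
theorem F135371 : act 6 n88389 = n87731 := d21_5 (iv5 D9345) (iv1 F16923) D19411 D41266 D88389 (iv5 D87731) F66063 D42100 F65011 F31675
theorem F135373 : act 3 n87734 = n88389 := d7_3 F135371 F134675 D87734
def n88390 : Q := act 1 n41266
theorem D88390 : act 1 n41266 = n88390 := rfl
theorem F135375 : act 5 n43533 = n88390 := d21_6 (iv5 D17883) (iv1 F16927) D19857 (iv6 F62117) F68408 D43533 (iv1 D88390) (iv5 F63596) (iv6 D41273) (iv1 F31077)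
theorem F135376 : act 3 n88390 = n42157 := d6_1 F135375 (iv5 F65075) (iv3 F68414)
theorem F135378 : act 4 n88390 = n48528 := d20_6 F32246 (iv1 F32253) F32251 (iv3 F32684) (iv1 F65073) (iv3 F135376) (iv1 D48528) F36818 F17965 F17685
def n88391 : Q := act 3 n41267
theorem D88391 : act 3 n41267 = n88391 := rfl
theorem F135380 : act 4 n88391 = n76893 := d5_2 D41267 D88391 (iv3 D76893) (iv4 D35136) (iv3 F31073)
theorem F135381 : act 7 n88391 = n78548 := d8_2 (iv7 F63588) D88391 (iv3 D78548)
def n88392 : Q := act 6 n41267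
theorem D88392 : act 6 n41267 = n88392 := rfl
theorem F135382 : act 2 n88392 = n78547 := d3_1 D88392 (iv6 D78547) (iv2 F63587)
theorem F135383 : act 4 n88392 = n41268 := d10_1 D88392 (iv6 D41268) D41267
theorem F135384 : act 0 n88392 = n78315 := d20_7 (iv4 F88505) (iv1 F88507) F88492 D39891 F121133 (iv3 F63591) (iv4 F135383) F119524 F56372 F43820
def n88393 : Q := act 1 n41268
theorem D88393 : act 1 n41268 = n88393 := rfl
def n88394 : Q := act 7 n41268
theorem D88394 : act 7 n41268 = n88394 := rfl
theorem F135385 : act 3 n88394 = n76898 := d8_1 D88394 (iv7 D76898) (iv3 F63591)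
theorem F135386 : act 6 n88394 = n86888 := d14_1 D88394 (iv7 D86888) F61365 (iv7 F31074) D41268
def n88395 : Q := act 0 n41269
theorem D88395 : act 0 n41269 = n88395 := rfl
theorem F135387 : act 1 n86894 = n88395 := d15_0 (iv0 D88395) F63592 D86894
def n88396 : Q := act 1 n41269
theorem D88396 : act 1 n41269 = n88396 := rfl
theorem F135388 : act 4 n87232 = n88396 := d20_6 (iv4 D19142) (iv1 D8995) D8996 D19146 D40522 D87232 (iv1 D88396) (iv4 F133794) (iv3 D87185) (iv1 F61614)
def n88397 : Q := act 2 n41269
theorem D88397 : act 2 n41269 = n88397 := rfl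
theorem F135389 : act 7 n88397 = n86894 := d4_2 (iv7 F63592) D88397 (iv2 D86894)
def n88398 : Q := act 5 n41269
theorem D88398 : act 5 n41269 = n88398 := rfl
theorem F135393 : act 3 n88398 = n41270 := d6_1 D88398 (iv5 D41270) D41269
theorem F135394 : act 7 n88398 = n86895 := d13_2 (iv7 F63592) D88398 (iv5 D86895)
def n88399 : Q := act 6 n41269
theorem D88399 : act 6 n41269 = n88399 := rfl
theorem F135395 : act 3 n88399 = n41271 := d7_1 D88399 (iv6 D41271) D41269
def n88400 : Q := act 6 n41270
theorem D88400 : act 6 n41270 = n88400 := rfl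
def n88401 : Q := act 0 n41271
theorem D88401 : act 0 n41271 = n88401 := rfl
theorem F135396 : act 6 n88401 = n46657 := d21_5 D86872 F133279 (iv5 D41270) D41271 D88401 (iv5 F134811) (iv1 D87842) (iv5 D40967) F30950 D40302
theorem F135397 : act 4 n46658 = n88401 := d10_3 F135396 (iv4 D46657) D46658
def n88402 : Q := act 1 n41271
theorem D88402 : act 1 n41271 = n88402 := rfl
def n88404 : Q := act 4 n41272
theorem D88404 : act 4 n41272 = n88404 := rfl
def n88407 : Q := act 7 n41273
theorem D88407 : act 7 n41273 = n88407 := rfl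
theorem F135399 : act 3 n88407 = n41279 := d8_1 D88407 (iv7 D41279) (iv3 F63595)
theorem F135400 : act 5 n88407 = n87875 := d13_1 D88407 F134886 (iv5 F63596)
def n88408 : Q := act 0 n41274
theorem D88408 : act 0 n41274 = n88408 := rfl
def n88409 : Q := act 1 n41274
theorem D88409 : act 1 n41274 = n88409 := rfl
theorem F135402 : act 4 n87112 = n88409 := d20_6 (iv4 D10272) F7299 D8977 D19129 D40475 D87112 (iv1 D88409) (iv4 F70889) (iv3 D45040) (iv1 D21510)
def n88410 : Q := act 2 n41274
theorem D88410 : act 2 n41274 = n88410 := rfl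
def n88411 : Q := act 5 n41274
theorem D88411 : act 5 n41274 = n88411 := rfl
theorem F135403 : act 3 n88411 = n41275 := d6_1 D88411 (iv5 D41275) D41274
def n88412 : Q := act 6 n41274
theorem D88412 : act 6 n41274 = n88412 := rfl
def n88413 : Q := act 6 n41275
theorem D88413 : act 6 n41275 = n88413 := rfl
def n88416 : Q := act 5 n41276
theorem D88416 : act 5 n41276 = n88416 := rfl
def n88417 : Q := act 7 n41276
theorem D88417 : act 7 n41276 = n88417 := rfl
theorem F135406 : act 2 n88417 = n87846 := d4_1 D88417 F134815 F64976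
theorem F135407 : act 4 n88417 = n41279 := d11_1 D88417 (iv7 D41279) (iv4 F63597)
def n88418 : Q := act 2 n41277
theorem D88418 : act 2 n41277 = n88418 := rfl
theorem F135410 : act 7 n41278 = n88418 := d15_2 (iv0 D41277) D41278 (iv2 D88418)
def n88421 : Q := act 5 n41277
theorem D88421 : act 5 n41277 = n88421 := rfl
theorem F135411 : act 6 n88421 = n48274 := d21_3 (iv5 F31079) D41277 D88421 (iv1 D48274) (iv6 D23423) (iv5 F66192) (iv1 F69203) F75788 F75791 (iv1 D41272)
def n88422 : Q := act 6 n41277
theorem D88422 : act 6 n41277 = n88422 := rfl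
theorem F135413 : act 5 n88422 = n42076 := d21_6 (iv5 D9571) (iv1 F6213) (iv5 F17522) D19417 D41277 D88422 (iv1 D42076) F31651 (iv6 D19838) F17546
def n88423 : Q := act 7 n41277
theorem D88423 : act 7 n41277 = n88423 := rfl
theorem F135415 : act 2 n88423 = n41278 := d4_1 D88423 F135410 (iv2 D88418)
def n88425 : Q := act 4 n41278
theorem D88425 : act 4 n41278 = n88425 := rfl
def n88427 : Q := act 0 n41280
theorem D88427 : act 0 n41280 = n88427 := rfl
def n88428 : Q := act 1 n41280
theorem D88428 : act 1 n41280 = n88428 := rfl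
def n88429 : Q := act 2 n41280
theorem D88429 : act 2 n41280 = n88429 := rfl
def n88430 : Q := act 5 n41280
theorem D88430 : act 5 n41280 = n88430 := rfl
theorem F135419 : act 3 n88430 = n41281 := d6_1 D88430 (iv5 D41281) D41280
def n88431 : Q := act 6 n41280
theorem D88431 : act 6 n41280 = n88431 := rfl
def n88432 : Q := act 6 n41281
theorem D88432 : act 6 n41281 = n88432 := rfl
def n88433 : Q := act 5 n41282
theorem D88433 : act 5 n41282 = n88433 := rfl
theorem F135422 : act 0 n88433 = n87827 := d17_2 F66363 D88433 (iv5 D87827) (iv4 D40940) (iv5 D19287) (iv0 D9066) D9068 F62552 D20226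
theorem F135423 : act 1 n88433 = n42773 := d17_6 (iv1 D47886) (iv5 D23056) F65646 D22353 (iv4 F63605) D88433 (iv5 D42773) D42771 F75180
def n88434 : Q := act 0 n41283
theorem D88434 : act 0 n41283 = n88434 := rfl
def n88435 : Q := act 1 n41283
theorem D88435 : act 1 n41283 = n88435 := rfl
def n88436 : Q := act 2 n41283
theorem D88436 : act 2 n41283 = n88436 := rfl
def n88437 : Q := act 5 n41283
theorem D88437 : act 5 n41283 = n88437 := rfl
theorem F135424 : act 3 n88437 = n41284 := d6_1 D88437 (iv5 D41284) D41283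
def n88438 : Q := act 6 n41283
theorem D88438 : act 6 n41283 = n88438 := rfl
def n88439 : Q := act 6 n41284
theorem D88439 : act 6 n41284 = n88439 := rfl
def n88440 : Q := act 0 n41285
theorem D88440 : act 0 n41285 = n88440 := rfl
def n88441 : Q := act 1 n41285
theorem D88441 : act 1 n41285 = n88441 := rfl
def n88442 : Q := act 5 n41285
theorem D88442 : act 5 n41285 = n88442 := rfl
def n88443 : Q := act 7 n41285
theorem D88443 : act 7 n41285 = n88443 := rfl
def n88444 : Q := act 3 n41286
theorem D88444 : act 3 n41286 = n88444 := rfl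
theorem F135428 : act 4 n88444 = n87176 := d20_6 (iv4 D19416) (iv1 D9110) D9111 D19420 D41286 D88444 (iv1 D87176) (iv4 F133276) (iv3 D86871) (iv1 F61357)
def n88445 : Q := act 5 n41286
theorem D88445 : act 5 n41286 = n88445 := rfl
def n88447 : Q := act 3 n41287
theorem D88447 : act 3 n41287 = n88447 := rfl
def n88448 : Q := act 5 n41287
theorem D88448 : act 5 n41287 = n88448 := rfl
def n88449 : Q := act 6 n41287
theorem D88449 : act 6 n41287 = n88449 := rfl
def n88450 : Q := act 5 n41288
theorem D88450 : act 5 n41288 = n88450 := rfl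
theorem F135429 : act 2 n88450 = n41289 := d2_1 D88450 (iv5 D41289) D41288
def n88451 : Q := act 0 n41289
theorem D88451 : act 0 n41289 = n88451 := rfl
def n88452 : Q := act 1 n41289
theorem D88452 : act 1 n41289 = n88452 := rfl
def n88453 : Q := act 4 n41289
theorem D88453 : act 4 n41289 = n88453 := rfl
def n88454 : Q := act 6 n41289
theorem D88454 : act 6 n41289 = n88454 := rfl
theorem F135430 : act 3 n88454 = n41293 := d7_1 D88454 (iv6 D41293) (iv3 F63608)
def n88455 : Q := act 3 n41290
theorem D88455 : act 3 n41290 = n88455 := rfl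
theorem F135431 : act 5 n88455 = n42875 := d6_2 (iv5 F63609) D88455 (iv3 D42875)
def n88456 : Q := act 6 n41290
theorem D88456 : act 6 n41290 = n88456 := rfl
def n88457 : Q := act 3 n41291
theorem D88457 : act 3 n41291 = n88457 := rfl
theorem F135432 : act 5 n88457 = n42877 := d6_2 (iv5 F63610) D88457 (iv3 D42877)
def n88458 : Q := act 6 n41291
theorem D88458 : act 6 n41291 = n88458 := rfl
def n88459 : Q := act 3 n41292
theorem D88459 : act 3 n41292 = n88459 := rfl
theorem F135433 : act 5 n88459 = n79937 := d6_2 (iv5 F63612) D88459 (iv3 D79937)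
def n88460 : Q := act 6 n41292
theorem D88460 : act 6 n41292 = n88460 := rfl
theorem F135434 : act 2 n88460 = n79962 := d3_1 D88460 (iv6 D79962) (iv2 F63611)
theorem F135435 : act 4 n88460 = n41293 := d10_1 D88460 (iv6 D41293) D41292
def n88461 : Q := act 0 n41293
theorem D88461 : act 0 n41293 = n88461 := rfl
def n88462 : Q := act 1 n41293
theorem D88462 : act 1 n41293 = n88462 := rfl
def n88463 : Q := act 7 n41293
theorem D88463 : act 7 n41293 = n88463 := rfl
def n88464 : Q := act 0 n41294
theorem D88464 : act 0 n41294 = n88464 := rfl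
theorem F135436 : act 4 n88464 = n44525 := d20_0 (iv1 D44525) F33423 F32626 (iv1 F66709) F17847 (iv4 D9121) D9118 D19424 D41294 D88464
theorem F135437 : act 1 n43360 = n88464 := d15_0 (iv0 D88464) F63614 (iv2 F68105)
def n88465 : Q := act 1 n41294
theorem D88465 : act 1 n41294 = n88465 := rfl
theorem F135438 : act 4 n44524 = n88465 := d20_0 (iv1 D88465) F63613 (iv3 D23612) (iv1 D11066) D11067 F17933 F66708 (iv4 F15951) (iv3 F33422) D44524
theorem F135439 : act 3 n44931 = n44524 := d20_5 (iv4 D5045) F63143 (iv4 F16172) (iv3 F33698) D44931 F135438 (iv1 D88465) F63613 (iv3 D23612) (iv1 D11066)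
def n88466 : Q := act 2 n41294
theorem D88466 : act 2 n41294 = n88466 := rfl
theorem F135440 : act 4 n88466 = n48449 := d1_2 (iv4 F63613) D88466 (iv2 D48449)
theorem F135441 : act 5 n88466 = n59842 := d2_2 F82937 D88466 F94263
theorem F135442 : act 7 n88466 = n43360 := d4_2 (iv7 F63614) D88466 F68105
theorem F135443 : act 1 n88466 = n43361 := d15_0 (iv0 D43361) (iv7 F63614) D88466
theorem F135444 : act 1 n88465 = n43360 := d15_1 D88465 (iv7 F135442) (iv2 D88466)
theorem F135445 : act 1 n43362 = n88466 := d15_1 D43362 F135442 F68105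
def n88467 : Q := act 4 n41295
theorem D88467 : act 4 n41295 = n88467 := rfl
theorem F135446 : act 7 n88467 = n43370 := d11_2 (iv7 F63615) D88467 (iv4 D43370)
theorem F135447 : act 5 n88467 = n42188 := d16_1 D88467 (iv4 D42188) (iv5 D19912) F14602 (iv5 F16782) (iv4 F14657) D19989 (iv7 F63664) F63663
def n88468 : Q := act 6 n41295
theorem D88468 : act 6 n41295 = n88468 := rfl
def n88469 : Q := act 0 n41296
theorem D88469 : act 0 n41296 = n88469 := rfl
theorem F135448 : act 1 n43392 = n88469 := d15_0 (iv0 D88469) (iv7 F63666) (iv2 F68188)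
def n88470 : Q := act 1 n41296
theorem D88470 : act 1 n41296 = n88470 := rfl
theorem F135449 : act 1 n88470 = n43392 := d15_1 D88470 F68190 (iv2 F66685)
def n88471 : Q := act 5 n41296
theorem D88471 : act 5 n41296 = n88471 := rfl
theorem F135450 : act 3 n88471 = n41297 := d6_1 D88471 (iv5 D41297) D41296
def n88472 : Q := act 6 n41296
theorem D88472 : act 6 n41296 = n88472 := rfl
theorem F135451 : act 3 n88472 = n41298 := d7_1 D88472 (iv6 D41298) D41296
theorem F135452 : act 4 n88472 = n88472 := d10_1 D88472 (iv6 D88472) F63616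
def n88473 : Q := act 4 n41297
theorem D88473 : act 4 n41297 = n88473 := rfl
theorem F135453 : act 2 n88473 = n41304 := d1_1 D88473 (iv4 D41304) (iv2 F63617)
def n88474 : Q := act 6 n41297
theorem D88474 : act 6 n41297 = n88474 := rfl
theorem F135454 : act 2 n88474 = n41305 := d3_1 D88474 (iv6 D41305) (iv2 F63617)
def n88475 : Q := act 3 n41299
theorem D88475 : act 3 n41299 = n88475 := rfl
theorem F135455 : act 4 n88475 = n88475 := d5_2 D41299 D88475 (iv3 D88475) (iv4 D41299) F31087
theorem F135456 : act 7 n88475 = n88472 := d8_2 (iv7 F63622) D88475 F135451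
def n88476 : Q := act 0 n41300
theorem D88476 : act 0 n41300 = n88476 := rfl
theorem F135457 : act 1 n43402 = n88476 := d15_0 (iv0 D88476) F63623 (iv2 F68227)
def n88477 : Q := act 1 n41300
theorem D88477 : act 1 n41300 = n88477 := rfl
theorem F135458 : act 4 n87673 = n88477 := d20_6 (iv4 D19264) (iv1 D9058) (iv4 F14132) (iv3 F30910) D40845 D87673 (iv1 D88477) (iv4 F74044) F74043 (iv1 F61968)
theorem F135459 : act 0 n43402 = n88477 := d20_1 F73268 (iv4 F135458) (iv3 D87673) (iv1 F72132) F72127 F34318 (iv1 F16609) D10825 D22927 (iv1 F74047)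
def n88478 : Q := act 2 n41300
theorem D88478 : act 2 n41300 = n88478 := rfl
theorem F135460 : act 7 n88478 = n43402 := d4_2 (iv7 F63623) D88478 F68227
theorem F135461 : act 1 n88478 = n43405 := d15_0 (iv0 D43405) (iv7 F63623) D88478
theorem F135462 : act 1 n43406 = n88478 := d15_1 D43406 F135460 F68227
def n88479 : Q := act 5 n41300
theorem D88479 : act 5 n41300 = n88479 := rfl
theorem F135463 : act 3 n88479 = n41301 := d6_1 D88479 (iv5 D41301) D41300
theorem F135464 : act 7 n88479 = n43407 := d13_2 (iv7 F63623) D88479 (iv5 D43407)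
def n88480 : Q := act 4 n41301
theorem D88480 : act 4 n41301 = n88480 := rfl
theorem F135465 : act 7 n88480 = n43414 := d11_2 (iv7 F63624) D88480 (iv4 D43414)
theorem F135466 : act 5 n88480 = n44065 := d16_1 D88480 (iv4 D44065) (iv5 D20931) F15687 F17014 F15491 D20019 (iv7 F63676) F63675
theorem F135467 : act 3 n78916 = n88480 := d6_3 F135466 F69398 D78916
def n88481 : Q := act 6 n41301
theorem D88481 : act 6 n41301 = n88481 := rfl
def n88482 : Q := act 3 n41302
theorem D88482 : act 3 n41302 = n88482 := rfl
def n88483 : Q := act 4 n41302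
theorem D88483 : act 4 n41302 = n88483 := rfl
def n88484 : Q := act 6 n41302
theorem D88484 : act 6 n41302 = n88484 := rfl
def n88485 : Q := act 3 n41303
theorem D88485 : act 3 n41303 = n88485 := rfl
def n88486 : Q := act 4 n41303
theorem D88486 : act 4 n41303 = n88486 := rfl
def n88487 : Q := act 6 n41303
theorem D88487 : act 6 n41303 = n88487 := rfl
def n88488 : Q := act 0 n41304
theorem D88488 : act 0 n41304 = n88488 := rfl
theorem F135468 : act 4 n88488 = n47575 := d18_3 (iv1 D41303) D41304 D88488 F74819 F69309 (iv0 F35790) D40440 F69442 F69441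
def n88489 : Q := act 1 n41304
theorem D88489 : act 1 n41304 = n88489 := rfl
theorem F135469 : act 4 n88489 = n47574 := d18_7 (iv1 F35613) F14657 F35605 D9121 D19437 D41304 D88489 (iv0 D47574) (iv5 D22872)
def n88490 : Q := act 3 n41304
theorem D88490 : act 3 n41304 = n88490 := rfl
def n88491 : Q := act 5 n41304
theorem D88491 : act 5 n41304 = n88491 := rfl
theorem F135470 : act 4 n88491 = n44064 := d16_2 D41304 D88491 (iv5 F69395) F63619 (iv5 F31090) D19457 D41323 F63668 F63617
theorem F135471 : act 0 n88491 = n42188 := d17_2 (iv1 D88489) D88491 (iv5 F135447) (iv4 D88467) (iv5 D41295) F35598 D42356 F74816 (iv4 F135469)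
def n88492 : Q := act 6 n41304
theorem D88492 : act 6 n41304 = n88492 := rfl
theorem F135472 : act 4 n88492 = n41305 := d10_1 D88492 (iv6 D41305) D41304
def n88493 : Q := act 0 n41305
theorem D88493 : act 0 n41305 = n88493 := rfl
def n88494 : Q := act 1 n41305
theorem D88494 : act 1 n41305 = n88494 := rfl
def n88495 : Q := act 5 n41305
theorem D88495 : act 5 n41305 = n88495 := rfl
theorem F135473 : act 6 n88495 = n41308 := d12_2 D41305 D88495 (iv5 D41308) (iv6 D19438) D19437
def n88496 : Q := act 7 n41305
theorem D88496 : act 7 n41305 = n88496 := rfl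
def n88497 : Q := act 3 n41306
theorem D88497 : act 3 n41306 = n88497 := rfl
theorem F135474 : act 4 n88497 = n88334 := d5_2 (iv4 F63625) D88497 (iv3 D88334) F62452 (iv3 F62453)
theorem F135475 : act 6 n88497 = n43320 := d7_2 F63628 D88497 (iv3 D43320)
def n88498 : Q := act 3 n41307
theorem D88498 : act 3 n41307 = n88498 := rfl
theorem F135476 : act 4 n88498 = n48410 := d5_2 F63631 D88498 (iv3 D48410) (iv4 D23539) (iv3 F63347)
theorem F135477 : act 7 n88498 = n43457 := d8_2 (iv7 F63630) D88498 F68314
def n88499 : Q := act 6 n41307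
theorem D88499 : act 6 n41307 = n88499 := rfl
theorem F135481 : act 0 n88499 = n43449 := d21_4 D42191 (iv1 F133596) F133598 D88499 (iv6 F68305) (iv5 F68978) (iv1 F69376) F69374 F33099 (iv1 F63212)
theorem F135482 : act 5 n44023 = n88499 := d21_2 D20902 D44023 (iv6 D88499) (iv1 D41307) (iv6 D19438) D19437 D41302 F69275 (iv6 D44022) (iv1 D20901)
def n88500 : Q := act 4 n41308
theorem D88500 : act 4 n41308 = n88500 := rfl
theorem F135484 : act 2 n88500 = n88491 := d1_1 D88500 F135470 F69396
theorem F135485 : act 5 n88500 = n88473 := d16_1 D88500 (iv4 D88473) (iv5 D41297) (iv4 D19432) D19433 D41299 (iv5 F68970) (iv7 F69394) F69396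
theorem F135486 : act 0 n88500 = n43248 := d18_2 (iv1 F69403) D88500 (iv4 D43248) (iv5 D20401) F15077 F35661 D19110 (iv0 F63213) (iv5 F69402)
def n88501 : Q := act 3 n41309
theorem D88501 : act 3 n41309 = n88501 := rfl
theorem F135487 : act 4 n88501 = n48407 := d5_2 D41309 D88501 (iv3 D48407) (iv4 F63079) (iv3 F63080)
def n88502 : Q := act 5 n41309
theorem D88502 : act 5 n41309 = n88502 := rfl
theorem F135488 : act 0 n88502 = n43241 := d17_2 (iv1 F68399) D88502 (iv5 D43241) F35864 D41486 (iv0 F65477) (iv5 F63348) (iv0 F69228) F69229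
theorem F135489 : act 1 n88502 = n43244 := d17_6 F35662 D19111 F35790 (iv5 F35654) D41309 D88502 (iv5 D43244) F32408 F31745
theorem E14439 : n43966 = n43242 := ((c21_4 D88502 F135488 (iv5 D43241) D43242 (iv1 D43966) (iv6 D20842) D20841 (iv1 F69076) F69077 F68401 (iv1 F68399))).symm
theorem F135490 : act 0 n43242 = n20842 := (sb E14439 (iv1 D43966))
def n88503 : Q := act 3 n41310
theorem D88503 : act 3 n41310 = n88503 := rfl
theorem F135491 : act 4 n88503 = n88325 := d5_2 F73621 D88503 (iv3 D88325) F62418 (iv3 F73622)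
theorem F135492 : act 7 n88503 = n88497 := d8_2 (iv7 F63636) D88503 (iv3 D88497)
def n88504 : Q := act 0 n41311
theorem D88504 : act 0 n41311 = n88504 := rfl
theorem F135493 : act 4 n88504 = n47580 := d20_2 (iv4 F63637) D88504 F74830 F73744 F35976 (iv4 F35979) F66675 F66003 F31897 F66514
theorem F135494 : act 6 n88504 = n41331 := d21_5 D20945 (iv1 F69426) (iv5 F69427) (iv6 F68305) D88504 F65920 (iv1 F68936) F68934 (iv6 F33062) (iv1 F33064)
theorem F135495 : act 2 n42451 = n88504 := d15_3 (iv0 D88504) F66870 D42451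
theorem F135496 : act 1 n42318 = n88504 := d15_0 (iv0 D88504) F63638 F66682
theorem F135497 : act 7 n88504 = n42215 := d15_2 (iv0 F67897) F135496 F65173
def n88505 : Q := act 2 n41311
theorem D88505 : act 2 n41311 = n88505 := rfl
theorem F135498 : act 4 n88505 = n41319 := d1_2 (iv4 F63637) D88505 (iv2 D41319)
theorem F135499 : act 5 n88505 = n44054 := d2_2 F68978 D88505 (iv2 F69369)
theorem F135500 : act 7 n88505 = n42318 := d4_2 (iv7 F63638) D88505 (iv2 F66682)
theorem F135501 : act 1 n88505 = n42215 := d15_0 F70396 (iv7 F63638) D88505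
theorem F135502 : act 1 n42451 = n88505 := d15_0 F135501 (iv7 F135497) (iv2 F135495)
def n88506 : Q := act 4 n41312
theorem D88506 : act 4 n41312 = n88506 := rfl
theorem F135503 : act 7 n88506 = n88500 := d11_2 (iv7 F63639) D88506 (iv4 D88500)
theorem F135504 : act 1 n88506 = n42188 := d18_6 F62999 F32676 F35610 D19441 D41312 D88506 (iv4 D42188) D42187 F65117
def n88507 : Q := act 6 n41312
theorem D88507 : act 6 n41312 = n88507 := rfl
def n88508 : Q := act 3 n41314
theorem D88508 : act 3 n41314 = n88508 := rfl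
theorem F135505 : act 4 n88508 = n48060 := d5_2 D41314 D88508 F75520 (iv4 F62971) F62973
theorem F135506 : act 6 n88508 = n43334 := d7_2 (iv6 F63644) D88508 (iv3 D43334)
theorem F135507 : act 7 n88508 = n88501 := d8_2 (iv7 F63645) D88508 (iv3 D88501)
def n88509 : Q := act 5 n41314
theorem D88509 : act 5 n41314 = n88509 := rfl
theorem F135508 : act 2 n88509 = n43525 := d2_1 D88509 (iv5 D43525) (iv2 F63643)
theorem F135509 : act 7 n88509 = n88502 := d13_2 (iv7 F63645) D88509 (iv5 D88502)
theorem F135510 : act 0 n88509 = n41819 := d17_2 (iv1 F65432) D88509 (iv5 D41819) (iv4 D19686) D19687 D41822 F67697 (iv0 F63332) (iv4 F65430)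
theorem F135511 : act 1 n88509 = n42184 := d17_6 F35685 D19105 D40434 F61512 D41314 D88509 (iv5 D42184) (iv0 D19910) F14602
def n88510 : Q := act 3 n41315
theorem D88510 : act 3 n41315 = n88510 := rfl
theorem F135512 : act 4 n88510 = n47557 := d5_2 D41315 D88510 (iv3 D47557) (iv4 F62387) F63008
theorem F135513 : act 7 n88510 = n43521 := d8_2 (iv7 F63647) D88510 F68397
def n88511 : Q := act 5 n41315
theorem D88511 : act 5 n41315 = n88511 := rfl
theorem F135514 : act 2 n88511 = n88502 := d2_1 D88511 (iv5 D88502) (iv2 F63646)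
theorem F135516 : act 0 n88511 = n42184 := d17_2 F73631 D88511 (iv5 D42184) (iv4 F63433) D43222 F67710 (iv5 F73620) (iv0 D46617) D46618
theorem F135517 : act 1 n88511 = n41819 := d17_6 (iv1 F15084) (iv5 F31721) F35809 (iv5 F35630) D41315 D88511 (iv5 D41819) F35823 F32411
def n88512 : Q := act 6 n41315
theorem D88512 : act 6 n41315 = n88512 := rfl
theorem F135519 : act 4 n88512 = n41316 := d10_1 D88512 (iv6 D41316) D41315
theorem F135521 : act 0 n88512 = n43498 := d21_4 D41819 (iv1 F135517) (iv5 D88511) D88512 (iv6 F68357) (iv5 F67889) (iv1 F67887) F65053 (iv6 F32412) (iv1 F35823)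
theorem F135522 : act 5 n46141 = n88512 := d21_2 D22075 D46141 (iv6 D88512) F65431 (iv6 D42357) D42356 (iv1 F74818) F74819 (iv6 D44032) F62904
theorem F135524 : act 0 n43387 = n88512 := d18_2 (iv1 F74902) (iv4 F68174) F135519 F63649 D44034 F69317 (iv4 D22089) D22088 (iv5 F62988)
def n88513 : Q := act 0 n41320
theorem D88513 : act 0 n41320 = n88513 := rfl
theorem F135525 : act 2 n42294 = n88513 := d15_3 (iv0 D88513) (iv0 F68156) F68155
theorem F135526 : act 1 n42347 = n88513 := d15_0 (iv0 D88513) F63662 (iv2 F65397)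
theorem F135527 : act 7 n88513 = n42349 := d4_2 F68155 F135525 (iv2 F68157)
theorem F135528 : act 1 n43382 = n42347 := d15_0 F135526 F135527 (iv2 F68157)
def n88514 : Q := act 2 n41320
theorem D88514 : act 2 n41320 = n88514 := rfl
theorem F135529 : act 3 n88514 = n88466 := d0_2 D41320 D88514 (iv2 D88466) (iv3 D41294) (iv2 F35624)
theorem F135530 : act 4 n88514 = n47514 := d1_2 (iv4 F63661) D88514 (iv2 D47514)
theorem F135531 : act 7 n88514 = n42347 := d4_2 (iv7 F63662) D88514 F65397
theorem F135532 : act 1 n88514 = n42349 := d15_0 (iv0 D42349) (iv7 F63662) D88514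
theorem F135533 : act 1 n42294 = n88514 := d15_0 F135532 (iv7 F135527) (iv2 F135525)
theorem F135534 : act 4 n43416 = n47803 := d20_0 (iv1 F76198) (iv4 F135440) (iv3 F135529) (iv1 F135533) (iv3 D42294) (iv4 F66845) (iv1 D20896) F15636 (iv3 F32626) D43416
theorem F135535 : act 5 n68859 = n88514 := d13_3 F135531 F65398 D68859
def n88515 : Q := act 5 n41320
theorem D88515 : act 5 n41320 = n88515 := rfl
theorem F135536 : act 2 n88515 = n68859 := d2_1 D88515 F135535 (iv2 D88514)
theorem F135537 : act 3 n88515 = n41321 := d6_1 D88515 (iv5 D41321) D41320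
theorem F135538 : act 7 n88515 = n42351 := d13_2 (iv7 F63662) D88515 (iv5 D42351)
theorem F135539 : act 1 n68858 = n88515 := d15_1 D68858 F135538 F65405
theorem F135540 : act 1 n88515 = n68857 := d15_0 (iv0 D68857) D68859 (iv2 F135536)
def n88516 : Q := act 4 n41321
theorem D88516 : act 4 n41321 = n88516 := rfl
theorem F135541 : act 2 n88516 = n88467 := d1_1 D88516 (iv4 D88467) (iv2 F63663)
theorem F135542 : act 7 n88516 = n42360 := d11_2 (iv7 F63664) D88516 (iv4 D42360)
theorem F135543 : act 5 n88516 = n43248 := d16_1 D88516 (iv4 D43248) (iv5 D20401) F15077 (iv5 F16837) (iv4 F15186) D20484 (iv7 F63615) (iv2 F63663)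
def n88517 : Q := act 6 n41321
theorem D88517 : act 6 n41321 = n88517 := rfl
def n88518 : Q := act 0 n41322
theorem D88518 : act 0 n41322 = n88518 := rfl
theorem F135545 : act 3 n88518 = n88192 := d20_5 (iv4 D19424) (iv1 F14227) D19457 D41322 D88518 (iv4 D88192) (iv1 D41160) D41162 F62357 (iv1 F35598)
theorem F135546 : act 1 n42316 = n88518 := d15_0 (iv0 D88518) F63666 F66685
def n88519 : Q := act 1 n41322
theorem D88519 : act 1 n41322 = n88519 := rfl
theorem F135547 : act 1 n88519 = n42316 := d15_1 D88519 (iv7 F68190) F68188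
def n88520 : Q := act 5 n41322
theorem D88520 : act 5 n41322 = n88520 := rfl
theorem F135548 : act 3 n88520 = n41323 := d6_1 D88520 (iv5 D41323) D41322
theorem F135549 : act 7 n88520 = n88471 := d13_2 (iv7 F63666) D88520 (iv5 D88471)
def n88521 : Q := act 6 n41322
theorem D88521 : act 6 n41322 = n88521 := rfl
theorem F135550 : act 3 n88521 = n41324 := d7_1 D88521 (iv6 D41324) D41322
theorem F135551 : act 4 n88521 = n88521 := d10_1 D88521 (iv6 D88521) F63665
def n88522 : Q := act 4 n41323
theorem D88522 : act 4 n41323 = n88522 := rfl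
theorem F135552 : act 2 n88522 = n41329 := d1_1 D88522 (iv4 D41329) (iv2 F63667)
theorem F135553 : act 5 n88522 = n88506 := d9_2 D41323 D88522 (iv4 D88506) (iv5 D41312) (iv4 D19441) (iv5 D9122) D9121 D19437 D41304 D88491 F135470 (iv5 F69395) F63619 (iv5 F31090) D19457
theorem F135554 : act 7 n88522 = n88473 := d11_2 (iv7 F63668) D88522 (iv4 D88473)
theorem F135555 : act 0 n88522 = n88489 := d18_2 (iv1 F63670) D88522 F135469 F74815 (iv4 D43528) (iv0 F32677) D43253 F69278 (iv5 F69275)
theorem F135556 : act 1 n88522 = n88488 := d18_6 (iv1 F35598) (iv4 D19424) (iv1 F14227) D19457 D41323 D88522 F135468 F74818 (iv5 D42356)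
def n88523 : Q := act 6 n41323
theorem D88523 : act 6 n41323 = n88523 := rfl
theorem F135557 : act 2 n88523 = n41330 := d3_1 D88523 (iv6 D41330) (iv2 F63667)
def n88524 : Q := act 0 n41325
theorem D88524 : act 0 n41325 = n88524 := rfl
theorem F135558 : act 1 n42389 = n88524 := d15_0 (iv0 D88524) F63674 (iv2 F65460)
def n88525 : Q := act 1 n41325
theorem D88525 : act 1 n41325 = n88525 := rfl
def n88526 : Q := act 2 n41325
theorem D88526 : act 2 n41325 = n88526 := rfl
theorem F135559 : act 3 n88526 = n88478 := d0_2 D41325 D88526 (iv2 D88478) (iv3 D41300) F35365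
theorem F135560 : act 4 n88526 = n48370 := d1_2 (iv4 F63673) D88526 (iv2 D48370)
theorem F135561 : act 7 n88526 = n42389 := d4_2 (iv7 F63674) D88526 F65460
theorem F135562 : act 1 n88526 = n42390 := d15_0 (iv0 D42390) (iv7 F63674) D88526
theorem F135563 : act 1 n88525 = n42389 := d15_1 D88525 (iv7 F135561) (iv2 D88526)
theorem F135564 : act 6 n88525 = n76316 := d21_5 (iv5 F40323) (iv1 F56710) F56708 D42389 (iv1 F135563) (iv5 D76316) (iv1 D34864) (iv5 F33112) (iv6 D20928) D20926
theorem F135565 : act 4 n48016 = n42390 := d20_0 (iv1 F135562) F135560 (iv3 F76172) (iv1 F76175) (iv3 D44537) F66743 (iv1 D19949) (iv4 F17727) (iv3 F36275) D48016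
theorem F135566 : act 6 n76465 = n48016 := d10_0 F135565 F65461 D76465
theorem F135567 : act 1 n42391 = n88526 := d15_1 D42391 F135561 F65460
def n88527 : Q := act 5 n41325
theorem D88527 : act 5 n41325 = n88527 := rfl
theorem F135568 : act 3 n88527 = n41326 := d6_1 D88527 (iv5 D41326) D41325
theorem F135569 : act 7 n88527 = n42392 := d13_2 (iv7 F63674) D88527 (iv5 D42392)
def n88528 : Q := act 4 n41326
theorem D88528 : act 4 n41326 = n88528 := rfl
theorem F135570 : act 2 n88528 = n88480 := d1_1 D88528 (iv4 D88480) (iv2 F63675)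
theorem F135571 : act 7 n88528 = n42399 := d11_2 (iv7 F63676) D88528 (iv4 D42399)
theorem F135572 : act 5 n88528 = n43869 := d16_1 D88528 (iv4 D43869) (iv5 D20779) F15527 (iv5 F17015) F15572 D20524 (iv7 F63624) (iv2 F63675)
def n88529 : Q := act 6 n41326
theorem D88529 : act 6 n41326 = n88529 := rfl
def n88530 : Q := act 3 n41327
theorem D88530 : act 3 n41327 = n88530 := rfl
theorem F135574 : act 7 n88530 = n88482 := d8_2 (iv7 F69280) D88530 (iv3 D88482)
def n88531 : Q := act 4 n41327
theorem D88531 : act 4 n41327 = n88531 := rfl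
theorem F135575 : act 2 n88531 = n88486 := d1_1 D88531 (iv4 D88486) F69281
theorem F135576 : act 7 n88531 = n88483 := d11_2 (iv7 F69280) D88531 (iv4 D88483)
def n88532 : Q := act 6 n41327
theorem D88532 : act 6 n41327 = n88532 := rfl
theorem F135577 : act 2 n88532 = n88487 := d3_1 D88532 (iv6 D88487) F69281
theorem F135578 : act 5 n88532 = n42456 := d12_1 D88532 (iv6 D42456) D42455 (iv6 F133606) F133604
def n88533 : Q := act 3 n41328
theorem D88533 : act 3 n41328 = n88533 := rfl
theorem F135579 : act 5 n88533 = n44091 := d6_2 (iv5 F63679) D88533 F69439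
theorem F135580 : act 7 n88533 = n88485 := d8_2 F69279 D88533 (iv3 D88485)
def n88534 : Q := act 4 n41328
theorem D88534 : act 4 n41328 = n88534 := rfl
theorem F135581 : act 2 n88534 = n88483 := d1_1 D88534 (iv4 D88483) (iv2 F69276)
theorem F135582 : act 7 n88534 = n88486 := d11_2 F69279 D88534 (iv4 D88486)
theorem F135583 : act 0 n88534 = n47576 := d18_2 (iv1 F63678) D88534 (iv4 D47576) (iv5 D22872) (iv4 D10807) D10805 F34857 F31118 D41297
theorem F135584 : act 1 n88531 = n47576 := d15_0 (iv0 F135583) F135582 (iv2 F135575)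
def n88535 : Q := act 6 n41328
theorem D88535 : act 6 n41328 = n88535 := rfl
theorem F135585 : act 2 n88535 = n88484 := d3_1 D88535 (iv6 D88484) (iv2 F69276)
theorem F135586 : act 5 n88535 = n44093 := d12_1 D88535 (iv6 D44093) (iv5 D20945) D20946 (iv5 F63679)
def n88536 : Q := act 0 n41329
theorem D88536 : act 0 n41329 = n88536 := rfl
theorem F135587 : act 1 n88473 = n88536 := d15_0 (iv0 D88536) F63680 (iv2 F135453)
def n88537 : Q := act 1 n41329
theorem D88537 : act 1 n41329 = n88537 := rfl
theorem F135588 : act 1 n88537 = n88473 := d15_1 D88537 (iv7 F135554) F135552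
theorem F135589 : act 4 n88537 = n44146 := d18_7 F35634 (iv4 D19454) (iv1 D9136) D9138 D19461 D41329 D88537 F69488 (iv5 D43364)
theorem F135590 : act 2 n88488 = n88537 := d1_3 F135589 F74820 (iv4 F135468)
theorem F135591 : act 7 n88489 = n88537 := d11_0 F135589 F74817 (iv4 F135469)
theorem F135592 : act 2 n88489 = n88536 := d15_3 (iv0 D88536) D88537 (iv7 F135591)
theorem F135593 : act 7 n88536 = n88488 := d4_2 (iv7 F135591) F135592 F135590
def n88538 : Q := act 3 n41329
theorem D88538 : act 3 n41329 = n88538 := rfl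
theorem F135594 : act 7 n88538 = n88490 := d8_2 (iv7 F63680) D88538 (iv3 D88490)
def n88539 : Q := act 5 n41329
theorem D88539 : act 5 n41329 = n88539 := rfl
theorem F135595 : act 2 n88539 = n88506 := d2_1 D88539 (iv5 F135553) F135552
theorem F135596 : act 4 n88539 = n43868 := d9_1 D88539 F68970 (iv4 D41299) (iv5 D19433) D19432 D41297 D88473 (iv5 F135485) (iv4 D88500) (iv5 D41308) F31093 (iv5 F14190) D9138 D19461 D41329
theorem F135597 : act 7 n88539 = n88491 := d13_2 (iv7 F63680) D88539 (iv5 D88491)
theorem F135598 : act 0 n43248 = n88539 := d18_2 (iv1 D43247) D43248 F135596 F68970 (iv4 D41299) F31100 D41314 F65432 (iv5 F67772)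
def n88540 : Q := act 6 n41329
theorem D88540 : act 6 n41329 = n88540 := rfl
theorem F135599 : act 4 n88540 = n41330 := d10_1 D88540 (iv6 D41330) D41329
def n88541 : Q := act 0 n41330
theorem D88541 : act 0 n41330 = n88541 := rfl
def n88542 : Q := act 1 n41330
theorem D88542 : act 1 n41330 = n88542 := rfl
def n88543 : Q := act 5 n41330
theorem D88543 : act 5 n41330 = n88543 := rfl
theorem F135600 : act 6 n88543 = n41333 := d12_2 D41330 D88543 (iv5 D41333) (iv6 D19462) D19461
def n88544 : Q := act 7 n41330
theorem D88544 : act 7 n41330 = n88544 := rfl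
theorem F135601 : act 6 n88544 = n88496 := d14_1 D88544 (iv7 D88496) (iv6 D41305) (iv7 F31120) D41330
def n88545 : Q := act 3 n41331
theorem D88545 : act 3 n41331 = n88545 := rfl
theorem F135602 : act 4 n88545 = n88370 := d5_2 F65919 D88545 (iv3 D88370) (iv4 F72229) F72226
theorem F135603 : act 5 n88545 = n43915 := d6_2 (iv5 F65920) D88545 (iv3 D43915)
theorem F135604 : act 7 n88545 = n42426 := d8_2 (iv7 F65923) D88545 F65532
def n88546 : Q := act 3 n41332
theorem D88546 : act 3 n41332 = n88546 := rfl
theorem F135605 : act 4 n88546 = n47868 := d5_2 F65928 D88546 F75141 F36090 (iv3 F65927)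
theorem F135606 : act 5 n88546 = n43918 := d6_2 (iv5 F63684) D88546 (iv3 D43918)
theorem F135607 : act 6 n88546 = n42210 := d7_2 (iv6 F63682) D88546 (iv3 D42210)
def n88547 : Q := act 4 n41333
theorem D88547 : act 4 n41333 = n88547 := rfl
def n88549 : Q := act 1 n41334
theorem D88549 : act 1 n41334 = n88549 := rfl
theorem F135609 : act 1 n88549 = n41339 := d15_1 D88549 (iv7 D41339) D41334
def n88550 : Q := act 3 n41334
theorem D88550 : act 3 n41334 = n88550 := rfl
theorem F135610 : act 7 n88550 = n41340 := d8_2 F63685 D88550 (iv3 D41340)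
def n88551 : Q := act 4 n41334
theorem D88551 : act 4 n41334 = n88551 := rfl
theorem F135611 : act 2 n88551 = n41336 := d1_1 D88551 (iv4 D41336) D41334
theorem F135612 : act 7 n88551 = n41341 := d11_2 F63685 D88551 (iv4 D41341)
def n88552 : Q := act 5 n41334
theorem D88552 : act 5 n41334 = n88552 := rfl
theorem F135613 : act 2 n88552 = n41337 := d2_1 D88552 (iv5 D41337) D41334
theorem F135614 : act 7 n88552 = n41342 := d13_2 F63685 D88552 (iv5 D41342)
def n88554 : Q := act 0 n41335
theorem D88554 : act 0 n41335 = n88554 := rfl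
def n88555 : Q := act 1 n41335
theorem D88555 : act 1 n41335 = n88555 := rfl
def n88556 : Q := act 2 n41335
theorem D88556 : act 2 n41335 = n88556 := rfl
def n88557 : Q := act 5 n41335
theorem D88557 : act 5 n41335 = n88557 := rfl
theorem F135616 : act 3 n88557 = n41337 := d6_1 D88557 (iv5 D41337) D41335
def n88559 : Q := act 7 n41335
theorem D88559 : act 7 n41335 = n88559 := rfl
theorem F135618 : act 3 n88559 = n41339 := d8_1 D88559 (iv7 D41339) D41335
def n88560 : Q := act 0 n41336
theorem D88560 : act 0 n41336 = n88560 := rfl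
theorem F135619 : act 4 n88560 = n43019 := d18_3 D19465 D41336 D88560 (iv5 D43019) D43018 (iv0 F67378) (iv4 D42090) (iv0 D19845) F14540
def n88561 : Q := act 1 n41336
theorem D88561 : act 1 n41336 = n88561 := rfl
theorem F135620 : act 1 n88561 = n41341 := d15_1 D88561 (iv7 F135612) F135611
theorem F135621 : act 4 n88561 = n43017 := d20_2 D41341 (iv1 F135620) F133940 (iv1 F133942) (iv3 F67377) F67376 (iv1 F64989) F64987 F31659 (iv1 F31664)
theorem F135622 : act 2 n43018 = n88561 := d1_3 F135621 (iv2 D43017) D43018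
theorem E14440 : n88554 = n48570 := (c20_11 (iv4 F76458) (iv1 F76463) (iv4 D23705) D23704 D48616 (iv3 F133940) (iv4 F135621) (iv1 D88561) (iv4 D41336) D41335 D88554)
theorem F135623 : act 1 n48570 = n41335 := (sb E14440 (iv0 D88554))
theorem E14441 : n88557 = n87278 := (c18_10 (iv1 D87278) D87280 F133975 (iv4 D48625) (iv5 D23706) D23705 F76463 F76458 F135623 D88557)
theorem F135624 : act 3 n87278 = n41337 := (sb E14441 F135616)
theorem F135625 : act 5 n87278 = n41335 := (sb E14441 (iv5 D88557))
def n88562 : Q := act 3 n41336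
theorem D88562 : act 3 n41336 = n88562 := rfl
def n88563 : Q := act 5 n41336
theorem D88563 : act 5 n41336 = n88563 := rfl
def n88565 : Q := act 7 n41336
theorem D88565 : act 7 n41336 = n88565 := rfl
theorem F135627 : act 2 n88565 = n41341 := d4_1 D88565 (iv7 F135612) F135611
theorem F135628 : act 4 n88565 = n41339 := d11_1 D88565 (iv7 D41339) D41336
theorem F135629 : act 1 n41341 = n88560 := d15_0 (iv0 D88560) D88565 F135627
theorem F135630 : act 7 n88560 = n43018 := d15_2 F135620 F135629 F135622
theorem E14442 : n43019 = n42988 := ((c11_3 F135630 (iv4 D43018) (iv7 F67354) (iv4 F135619))).symm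
theorem E14443 : n20310 = n20302 := ((((iv3 D42988)).symm.trans (sb E14442 F67379))).symm
theorem F135631 : act 4 n42988 = n88560 := (sb E14442 (iv4 F135619))
theorem F135632 : act 5 n42988 = n20308 := (sb E14442 (iv5 D43019))
theorem E14444 : n42986 = n9608 := ((D42986).symm.trans (sb E14443 F133754))
theorem E14445 : n42987 = n9606 := ((D42987).symm.trans (sb E14443 F133755))
theorem E14448 : n42990 = n9605 := ((D42990).symm.trans (sb E14443 (iv5 D20310)))
theorem E14450 : n20307 = n20305 := (((F133753).symm.trans (sb E14444 (iv1 F67352)))).symm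
theorem F135633 : act 1 n9608 = n20302 := (sb E14444 (iv0 D42986))
theorem F135634 : act 0 n9606 = n20302 := (sb E14445 (iv1 D42987))
theorem F135635 : act 5 n9605 = n20302 := (sb E14448 (iv5 D42990))
theorem E14451 : n42998 = n42996 := ((((iv3 F67362)).symm.trans (sb E14450 (iv3 F67364)))).symm
theorem E14452 : n43007 = n43004 := ((D43007).symm.trans (sb E14450 (iv4 F67369)))
theorem F135639 : act 7 n42996 = n20303 := (sb E14451 (iv7 D42998))
theorem F135640 : act 4 n43004 = n20305 := (sb E14452 (iv4 D43007))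
theorem E14454 : n87111 = n42995 := ((c11_2 F135639 D42995 (iv7 F133713) (iv4 F133751))).symm
theorem F135643 : act 7 n42995 = n40476 := (sb E14454 (iv7 F133713))
theorem E14455 : n87116 = n48546 := (c15_4 (iv0 D48546) (iv0 F67360) F135643 (iv2 F133714))
theorem F135644 : act 2 n48546 = n40476 := (sb E14455 F133714)
theorem F135645 : act 7 n48546 = n40475 := (sb E14455 (iv7 D87116))
theorem E14456 : n87113 = n42994 := (c11_2 F135645 D87113 (iv7 F133941) F76469)
theorem F135646 : act 0 n42994 = n48618 := (sb E14456 (iv1 F133971))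
theorem F135647 : act 1 n42994 = n42052 := (sb E14456 (iv0 F133970))
theorem F135648 : act 4 n42994 = n40475 := (sb E14456 (iv4 D87113))
theorem F135649 : act 5 n42994 = n48616 := (sb E14456 F133758)
theorem F135650 : act 1 n42052 = n42996 := d15_1 F135647 F135639 D42994
theorem F135651 : act 1 n42996 = n48618 := d15_1 F135650 (iv7 F133937) (iv2 F133962)
def n88566 : Q := act 0 n41337
theorem D88566 : act 0 n41337 = n88566 := rfl
def n88570 : Q := act 7 n41337
theorem D88570 : act 7 n41337 = n88570 := rfl
theorem F135655 : act 2 n88570 = n41342 := d4_1 D88570 (iv7 F135614) F135613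
theorem F135656 : act 5 n88570 = n41339 := d13_1 D88570 (iv7 D41339) D41337
theorem F135657 : act 1 n41342 = n88566 := d15_0 (iv0 D88566) D88570 F135655
def n88576 : Q := act 0 n41340
theorem D88576 : act 0 n41340 = n88576 := rfl
theorem F135659 : act 4 n88576 = n42690 := d20_0 (iv1 D42690) F31975 F14966 F135634 D42988 F135631 (iv1 F135629) (iv4 D41341) D41340 D88576
theorem F135660 : act 5 n42681 = n88576 := d18_4 (iv1 D9605) (iv4 F14759) D20142 D42681 F135659 F66908 F31978 F135633 (iv5 F135635)
theorem F135661 : act 0 n88576 = n87141 := d20_1 (iv4 F135659) F133936 F133972 (iv1 D43306) (iv3 D20448) (iv4 D9710) (iv1 F16830) (iv4 F14760) (iv3 F31977) (iv1 F66908)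
theorem F135662 : act 3 n88576 = n88555 := d20_3 (iv4 F31978) (iv1 F66908) (iv4 F135659) (iv1 D88555) (iv3 D41335) D41336 D88560 (iv4 F135631) (iv3 D42988) (iv1 F135633)
theorem F135663 : act 4 n48601 = n88555 := d20_2 D23705 (iv1 F76459) (iv3 F135662) F135661 (iv3 F133729) (iv4 D47741) (iv1 F64575) F64573 F31620 (iv1 F31625)
theorem E14457 : n48594 = n42988 := (c20_11 F135631 (iv1 F135629) (iv4 D41341) D41340 D88576 F135662 (iv4 F135663) (iv1 D48601) (iv4 D23700) D23699 D48594)
theorem F135664 : act 1 n42988 = n23699 := (sb E14457 (iv0 D48594))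
theorem F135665 : act 2 n88550 = n87141 := d15_3 (iv0 F135661) (iv0 D88576) (iv7 F135610)
theorem F135666 : act 7 n88576 = n87142 := d15_2 D87141 (iv0 F135661) (iv2 D87142)
theorem F135667 : act 2 n87145 = n88576 := d4_3 F135666 (iv2 D87142) D87145
theorem E14458 : n88555 = n87162 := (c0_3 (iv3 F133732) F135667 F135662 (iv2 D87162) (iv3 D40489) (iv2 F61580))
theorem F135668 : act 0 n87162 = n41335 := (sb E14458 (iv1 D88555))
theorem F135669 : act 3 n87162 = n88576 := (sb E14458 (iv3 F135662))
theorem F135670 : act 4 n87162 = n48601 := (sb E14458 (iv4 F135663))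
theorem E14459 : n87140 = n41340 := ((c15_1 (iv0 D88576) (iv0 D87140) D87145 F135667)).symm
theorem F135671 : act 1 n41340 = n40484 := (sb E14459 (iv0 D87140))
theorem F135672 : act 4 n42993 = n87146 := d20_0 (iv1 D87146) (iv4 D40485) D40484 (iv1 F135671) (iv3 D41340) D41341 (iv1 F135620) F135621 F133940 (iv1 F133942)
theorem F135673 : act 3 n87146 = n87176 := d5_1 F135672 (iv4 F135428) (iv3 D88444) (iv4 F67376) F67377
theorem F135674 : act 2 n48601 = n87163 := d1_1 F135670 (iv4 D87163) D87162
theorem F135675 : act 7 n48600 = n87163 := d15_2 F76459 F76463 (iv2 F135674)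
theorem E14460 : n87136 = n48570 := (c11_3 F135675 (iv4 D87163) (iv7 F133723) (iv4 F76458))
theorem E14461 : n40483 = n23689 := ((((iv3 D48570)).symm.trans (sb E14460 (iv3 D87136)))).symm
theorem F135676 : act 7 n48570 = n40489 := (sb E14460 F133723)
theorem E14462 : n87134 = n11092 := ((((iv1 D23689)).symm.trans (sb E14461 D87134))).symm
theorem E14465 : n87137 = n48571 := (((D48571).symm.trans (sb E14461 D87137))).symm
theorem E14468 : n40488 = n23688 := (((D23688).symm.trans (sb E14462 (iv1 F133721)))).symm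
theorem F135678 : act 2 n48571 = n40485 := (sb E14465 F133724)
theorem F135679 : act 7 n48571 = n40490 := (sb E14465 F133725)
theorem E14469 : n87145 = n42686 := (((F66905).symm.trans (sb E14468 (iv3 F133732)))).symm
theorem F135684 : act 2 n42686 = n88576 := (sb E14469 F135667)
theorem F135685 : act 7 n42686 = n40484 := (sb E14469 (iv7 D87145))
theorem E14472 : n42689 = n42679 := (c11_2 F135685 F66907 (iv7 F66903) D42686)
theorem F135689 : act 0 n42679 = n20146 := (sb E14472 (iv1 F66906))
theorem F135690 : act 1 n42679 = n20144 := (sb E14472 (iv0 D42689))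
theorem F135691 : act 4 n42679 = n40484 := (sb E14472 (iv4 F66907))
theorem E14473 : n87142 = n42681 := (c1_2 F135691 D87142 (iv4 D42681) D42679)
theorem F135692 : act 2 n42681 = n40484 := (sb E14473 (iv2 D87142))
theorem F135693 : act 7 n42681 = n88576 := (sb E14473 (iv7 F135666))
theorem E14474 : n42690 = n42684 := (c11_2 F135693 F135659 (iv7 D42684) D42681)
theorem F135694 : act 0 n42684 = n20144 := (sb E14474 (iv1 D42690))
theorem F135695 : act 1 n42684 = n20146 := (sb E14474 F66908)
theorem F135696 : act 4 n42684 = n88576 := (sb E14474 (iv4 F135659))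
theorem E14475 : n88556 = n47741 := ((c0_3 D88550 F135665 (iv3 F133729) (iv2 D88556) (iv3 D41335) D41334)).symm
theorem F135697 : act 2 n47741 = n41335 := (sb E14475 (iv2 D88556))
theorem E14476 : n47739 = n41883 := ((c1_3 D47741 F135697 F64572 (iv2 D47739))).symm
theorem F135698 : act 2 n41883 = n22972 := (sb E14476 (iv2 D47739))
theorem F135699 : act 7 n41883 = n22973 := (sb E14476 (iv7 F75012))
theorem E14477 : n88559 = n87161 := ((c15_2 (iv0 F133738) D87161 (iv7 D88559) (iv2 F135697))).symm
theorem F135700 : act 3 n87161 = n41339 := (sb E14477 F135618)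
theorem F135701 : act 7 n87161 = n41335 := (sb E14477 (iv7 D88559))
theorem E14478 : n87161 = n42089 := ((c11_4 F135701 F64572 F135699 (iv4 F65006))).symm
theorem F135702 : act 0 n42089 = n40489 := (sb E14478 (iv1 D87161))
theorem E14479 : n41339 = n19845 := ((((iv3 D42089)).symm.trans (sb E14478 F135700))).symm
theorem F135703 : act 7 n42089 = n41335 := (sb E14478 F135701)
theorem E14480 : n88549 = n19467 := ((((iv1 F31658)).symm.trans (sb E14479 (iv1 F135609)))).symm
theorem E14483 : n88565 = n42090 := (((D42090).symm.trans (sb E14479 (iv4 F135628)))).symm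
theorem E14484 : n88570 = n42091 := (((D42091).symm.trans (sb E14479 (iv5 F135656)))).symm
theorem E14487 : n41334 = n19846 := ((((iv1 F31663)).symm.trans (sb E14480 (iv1 D88549)))).symm
theorem F135706 : act 7 n42090 = n41336 := (sb E14483 (iv7 D88565))
theorem F135707 : act 2 n42091 = n41342 := (sb E14484 F135655)
theorem F135708 : act 7 n42091 = n41337 := (sb E14484 (iv7 D88570))
theorem E14488 : n88550 = n42094 := (((D42094).symm.trans (sb E14487 D88550))).symm
theorem E14489 : n88551 = n42095 := (((D42095).symm.trans (sb E14487 D88551))).symm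
theorem E14490 : n88552 = n42096 := (((D42096).symm.trans (sb E14487 D88552))).symm
theorem F135713 : act 2 n42094 = n87141 := (sb E14488 F135665)
theorem F135714 : act 7 n42094 = n41340 := (sb E14488 F135610)
theorem F135715 : act 2 n42095 = n41336 := (sb E14489 F135611)
theorem F135716 : act 7 n42095 = n41341 := (sb E14489 F135612)
theorem F135717 : act 2 n42096 = n41337 := (sb E14490 F135613)
theorem F135718 : act 7 n42096 = n41342 := (sb E14490 F135614)
theorem F135720 : act 1 n42095 = n43018 := d15_0 (iv0 F67378) F135706 (iv2 F135715)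
theorem F135721 : act 0 n42094 = n42681 := d20_10 (iv4 D42681) D42678 F66900 F32225 (iv1 F32228) D20308 D43018 (iv1 F135720) (iv4 D42095) D42094
theorem F135722 : act 1 n42094 = n42686 := d15_1 (iv0 F135721) F135685 (iv2 F135692)
theorem E14492 : n47744 = n41882 := (c15_4 (iv0 D41882) D41883 F135699 (iv2 F75014))
theorem F135723 : act 2 n41882 = n22973 := (sb E14492 F75014)
theorem F135724 : act 7 n41882 = n22972 := (sb E14492 (iv7 D47744))
def n88577 : Q := act 2 n41340
theorem D88577 : act 2 n41340 = n88577 := rfl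
theorem F135726 : act 1 n88577 = n42681 := d15_0 (iv0 F135721) F135714 D88577
theorem F135727 : act 1 n42686 = n88577 := d15_0 F135726 F135693 (iv2 F135684)
theorem F135728 : act 5 n88577 = n87256 := d18_9 (iv1 D87256) F67396 (iv1 D43053) (iv4 D20317) (iv5 D9607) (iv4 F14759) D20143 D42686 F135727
def n88578 : Q := act 5 n41340
theorem D88578 : act 5 n41340 = n88578 := rfl
theorem F135729 : act 2 n88578 = n87256 := d2_1 D88578 (iv5 F135728) (iv2 D88577)
theorem F135730 : act 3 n88578 = n41342 := d6_1 D88578 (iv5 D41342) D41340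
theorem F135731 : act 0 n88578 = n43625 := d17_2 (iv1 F135671) D88578 F68857 (iv4 D43625) D43626 F68855 F66912 (iv0 F135689) F135691
def n88580 : Q := act 3 n41341
theorem D88580 : act 3 n41341 = n88580 := rfl
theorem F135733 : act 0 n42664 = n88580 := d20_4 (iv4 F31158) F31700 (iv4 F64935) (iv3 F66888) (iv3 D88580) (iv4 D41341) (iv1 D19466) (iv4 F31080) (iv3 D19420) D19418
def n88581 : Q := act 5 n41341
theorem D88581 : act 5 n41341 = n88581 := rfl
def n88582 : Q := act 6 n41341
theorem D88582 : act 6 n41341 = n88582 := rfl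
def n88583 : Q := act 4 n41342
theorem D88583 : act 4 n41342 = n88583 := rfl
theorem F135735 : act 0 n43811 = n88583 := d20_7 (iv4 D43625) (iv1 F67388) (iv4 D43040) F32234 (iv1 F32236) D20740 D43811 (iv4 D88583) (iv3 F135730) F135731
theorem E14493 : n48597 = n43809 := (c18_10 (iv1 D43809) D43811 F135735 (iv4 D88583) (iv5 D41342) D41341 F135629 (iv4 F135631) F135664 D48597)
theorem F135736 : act 3 n43809 = n23701 := (sb E14493 F76455)
theorem F135737 : act 5 n43809 = n23699 := (sb E14493 (iv5 D48597))
def n88589 : Q := act 6 n41344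
theorem D88589 : act 6 n41344 = n88589 := rfl
theorem F135738 : act 2 n88589 = n41463 := d3_1 D88589 (iv6 D41463) (iv2 F68967)
def n88590 : Q := act 6 n41345
theorem D88590 : act 6 n41345 = n88590 := rfl
theorem F135739 : act 2 n88590 = n41458 := d3_1 D88590 (iv6 D41458) (iv2 F68965)
def n88591 : Q := act 0 n41346
theorem D88591 : act 0 n41346 = n88591 := rfl
def n88592 : Q := act 1 n41346
theorem D88592 : act 1 n41346 = n88592 := rfl
theorem F135740 : act 1 n88592 = n86903 := d15_1 D88592 (iv7 D86903) (iv2 F63689)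
def n88593 : Q := act 5 n41346
theorem D88593 : act 5 n41346 = n88593 := rfl
theorem F135741 : act 2 n88593 = n86902 := d2_1 D88593 (iv5 D86902) (iv2 F63689)
theorem F135742 : act 3 n88593 = n41349 := d6_1 D88593 (iv5 D41349) (iv3 F63690)
def n88594 : Q := act 7 n41346
theorem D88594 : act 7 n41346 = n88594 := rfl
theorem F135743 : act 2 n88594 = n86903 := d4_1 D88594 (iv7 D86903) (iv2 F63689)
theorem F135744 : act 3 n88594 = n41350 := d8_1 D88594 (iv7 D41350) (iv3 F63690)
theorem F135745 : act 4 n88594 = n88594 := d11_1 D88594 (iv7 D88594) F63691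
theorem F135746 : act 6 n88594 = n41472 := d14_1 D88594 (iv7 D41472) (iv6 D19525) (iv7 F31125) D41346
theorem F135747 : act 1 n86903 = n88591 := d15_0 (iv0 D88591) D88594 F135743
theorem F135748 : act 1 n86901 = n88594 := d15_1 D86901 (iv7 D88594) F63689
theorem F135749 : act 1 n88594 = n86900 := d15_0 (iv0 D86900) D86903 (iv2 F135743)
def n88595 : Q := act 3 n41347
theorem D88595 : act 3 n41347 = n88595 := rfl
theorem F135750 : act 4 n88595 = n41899 := d5_2 F63694 D88595 (iv3 D41899) (iv4 D19724) D19723
theorem F135751 : act 6 n88595 = n47446 := d7_2 (iv6 F63692) D88595 F74638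
theorem F135752 : act 7 n88595 = n41775 := d8_2 (iv7 F63695) D88595 (iv3 D41775)
def n88596 : Q := act 5 n41347
theorem D88596 : act 5 n41347 = n88596 := rfl
theorem F135753 : act 2 n88596 = n41773 := d2_1 D88596 (iv5 D41773) (iv2 F63696)
theorem F135754 : act 6 n88596 = n47452 := d12_2 (iv6 F63692) D88596 (iv5 D47452) (iv6 D22793) D22792
theorem F135755 : act 7 n88596 = n41776 := d13_2 (iv7 F63695) D88596 (iv5 D41776)
theorem F135756 : act 0 n88596 = n46789 := d17_2 D41347 D88596 (iv5 D46789) F34998 D22460 (iv0 F63731) (iv5 D41352) (iv0 D19470) (iv4 F31127)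
def n88597 : Q := act 3 n41348
theorem D88597 : act 3 n41348 = n88597 := rfl
theorem F135757 : act 4 n88597 = n45345 := d5_2 F63715 D88597 (iv3 D45345) F63473 F63474
theorem F135758 : act 7 n88597 = n41772 := d8_2 (iv7 F63714) D88597 (iv3 D41772)
def n88598 : Q := act 5 n41348
theorem D88598 : act 5 n41348 = n88598 := rfl
theorem F135759 : act 2 n88598 = n41776 := d2_1 D88598 (iv5 D41776) (iv2 F63716)
theorem F135760 : act 7 n88598 = n41773 := d13_2 (iv7 F63714) D88598 (iv5 D41773)
theorem F135761 : act 1 n88598 = n46789 := d17_6 F73907 D42525 (iv1 F133990) (iv5 D87294) F63715 D88598 (iv5 D46789) (iv0 F72141) F72139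
def n88599 : Q := act 0 n41349
theorem D88599 : act 0 n41349 = n88599 := rfl
theorem F135762 : act 2 n41778 = n88599 := d15_3 (iv0 D88599) (iv0 F74663) F74662
theorem F135763 : act 7 n88599 = n41779 := d4_2 F74662 F135762 (iv2 F74661)
theorem F135764 : act 1 n41771 = n88599 := d15_1 (iv0 F74664) F135763 (iv2 F74661)
def n88600 : Q := act 4 n41349
theorem D88600 : act 4 n41349 = n88600 := rfl
theorem F135765 : act 2 n88600 = n41780 := d1_1 D88600 (iv4 D41780) (iv2 F63717)
def n88601 : Q := act 7 n41349
theorem D88601 : act 7 n41349 = n88601 := rfl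
theorem F135766 : act 2 n88601 = n41771 := d4_1 D88601 F64419 (iv2 F63717)
theorem F135767 : act 5 n88601 = n41350 := d13_1 D88601 (iv7 D41350) D41349
theorem F135768 : act 1 n41779 = n88601 := d15_1 D41779 (iv7 D88601) F63717
theorem F135769 : act 1 n88601 = n41778 := d15_1 F135768 (iv7 F74662) F74661
def n88602 : Q := act 3 n41351
theorem D88602 : act 3 n41351 = n88602 := rfl
theorem F135770 : act 4 n88602 = n42128 := d5_2 D41351 D88602 (iv3 D42128) (iv4 F63475) F63476
theorem F135771 : act 6 n88602 = n41839 := d7_2 (iv6 F63724) D88602 (iv3 D41839)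
theorem F135772 : act 7 n88602 = n41852 := d8_2 (iv7 F63725) D88602 (iv3 D41852)
theorem F135773 : act 0 n41581 = n88602 := d20_4 F63774 (iv1 D41363) (iv4 F61388) (iv3 F64176) (iv3 D88602) (iv4 D41351) F31129 (iv4 F31411) F31410 (iv1 F61379)
def n88603 : Q := act 5 n41351
theorem D88603 : act 5 n41351 = n88603 := rfl
theorem F135774 : act 2 n88603 = n41846 := d2_1 D88603 (iv5 D41846) (iv2 F63723)
theorem F135775 : act 7 n88603 = n41853 := d13_2 (iv7 F63725) D88603 (iv5 D41853)
theorem F135776 : act 0 n88603 = n46758 := d17_2 F63727 D88603 (iv5 D46758) (iv4 F66071) D87735 (iv0 F134695) (iv5 D43257) (iv0 D20415) (iv4 F31291)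
def n88604 : Q := act 4 n41352
theorem D88604 : act 4 n41352 = n88604 := rfl
theorem F135777 : act 2 n88604 = n41849 := d1_1 D88604 (iv4 D41849) (iv2 F63728)
theorem F135778 : act 6 n88604 = n41841 := d10_2 (iv6 F63729) D88604 (iv4 D41841)
theorem F135779 : act 7 n88604 = n41855 := d11_2 (iv7 F63730) D88604 (iv4 D41855)
def n88605 : Q := act 3 n41353
theorem D88605 : act 3 n41353 = n88605 := rfl
theorem F135781 : act 4 n88605 = n41695 := d5_2 D41353 D88605 (iv3 D41695) (iv4 F63426) (iv3 F63427)
theorem F135782 : act 7 n88605 = n41845 := d8_2 (iv7 F63734) D88605 (iv3 D41845)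
def n88606 : Q := act 5 n41353
theorem D88606 : act 5 n41353 = n88606 := rfl
theorem F135783 : act 2 n88606 = n41853 := d2_1 D88606 (iv5 D41853) (iv2 F63733)
theorem F135784 : act 7 n88606 = n41846 := d13_2 (iv7 F63734) D88606 (iv5 D41846)
theorem F135785 : act 0 n46758 = n88606 := d21_7 (iv5 F73393) (iv1 F73390) F35084 (iv6 F34708) (iv1 F34710) D22417 D46758 (iv5 D88606) (iv6 F70499) (iv1 F73386)
theorem E14494 : n46757 = n45740 := ((c17_10 (iv1 D46757) D46758 F135785 (iv5 D88606) (iv4 D41353) D41354 F63741 (iv5 D22460) (iv0 F35546) (iv4 F72177))).symm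
theorem F135786 : act 0 n45740 = n22417 := (sb E14494 (iv1 D46757))
def n88607 : Q := act 4 n41354
theorem D88607 : act 4 n41354 = n88607 := rfl
theorem F135787 : act 2 n88607 = n41855 := d1_1 D88607 (iv4 D41855) (iv2 F63737)
theorem F135788 : act 6 n88607 = n43189 := d10_2 F63740 D88607 (iv4 D43189)
theorem F135789 : act 7 n88607 = n41849 := d11_2 (iv7 F63738) D88607 (iv4 D41849)
def n88608 : Q := act 4 n41356
theorem D88608 : act 4 n41356 = n88608 := rfl
theorem F135793 : act 0 n41407 = n88608 := d20_7 (iv4 F66892) (iv1 F67910) (iv4 D43292) F66517 (iv1 D20443) (iv3 F32428) (iv4 F63854) (iv4 D88608) (iv3 F67930) (iv1 F67846)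
def n88612 : Q := act 5 n41357
theorem D88612 : act 5 n41357 = n88612 := rfl
def n88613 : Q := act 7 n41357
theorem D88613 : act 7 n41357 = n88613 := rfl
theorem F135806 : act 4 n88613 = n41358 := d11_1 D88613 (iv7 D41358) D41357
theorem F135807 : act 6 n88613 = n45753 := d14_1 D88613 (iv7 D45753) F34330 (iv7 F31140) (iv6 F63753)
theorem F135808 : act 1 n41866 = n88613 := d15_1 D41866 (iv7 D88613) F63752
def n88614 : Q := act 0 n41359
theorem D88614 : act 0 n41359 = n88614 := rfl
theorem F135810 : act 1 n45756 = n88614 := d15_0 (iv0 D88614) F63762 D45756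
def n88615 : Q := act 1 n41359
theorem D88615 : act 1 n41359 = n88615 := rfl
def n88616 : Q := act 2 n41359
theorem D88616 : act 2 n41359 = n88616 := rfl
theorem F135811 : act 3 n88616 = n41884 := d0_2 D41359 D88616 (iv2 D41884) (iv3 D19716) (iv2 F31139)
theorem F135812 : act 4 n88616 = n88616 := d1_2 F63761 D88616 (iv2 D88616)
theorem F135813 : act 7 n88616 = n45756 := d4_2 (iv7 F63762) D88616 (iv2 D45756)
theorem F135814 : act 1 n88616 = n45754 := d15_0 (iv0 D45754) (iv7 F63762) D88616
theorem F135815 : act 1 n88615 = n45756 := d15_1 D88615 (iv7 F135813) (iv2 D88616)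
theorem F135816 : act 1 n45755 = n88616 := d15_1 D45755 F135813 (iv2 D45756)
def n88617 : Q := act 0 n41361
theorem D88617 : act 0 n41361 = n88617 := rfl
theorem F135817 : act 1 n47704 = n88617 := d15_0 (iv0 D88617) F63767 D47704
def n88618 : Q := act 1 n41361
theorem D88618 : act 1 n41361 = n88618 := rfl
def n88619 : Q := act 2 n41361
theorem D88619 : act 2 n41361 = n88619 := rfl
theorem F135818 : act 3 n88619 = n41413 := d0_2 D41361 D88619 (iv2 D41413) (iv3 D19505) (iv2 F31151)
theorem F135819 : act 7 n88619 = n47704 := d4_2 (iv7 F63767) D88619 (iv2 D47704)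
theorem F135820 : act 1 n88619 = n47702 := d15_0 (iv0 D47702) (iv7 F63767) D88619
theorem F135821 : act 1 n88618 = n47704 := d15_1 D88618 (iv7 F135819) (iv2 D88619)
theorem F135822 : act 1 n47703 = n88619 := d15_1 D47703 F135819 (iv2 D47704)
def n88620 : Q := act 5 n41361
theorem D88620 : act 5 n41361 = n88620 := rfl
theorem F135823 : act 3 n88620 = n41362 := d6_1 D88620 (iv5 D41362) D41361
theorem F135824 : act 7 n88620 = n47705 := d13_2 (iv7 F63767) D88620 (iv5 D47705)
def n88621 : Q := act 6 n41362
theorem D88621 : act 6 n41362 = n88621 := rfl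
theorem F135825 : act 2 n88621 = n41418 := d3_1 D88621 (iv6 D41418) (iv2 F63768)
def n88622 : Q := act 6 n41363
theorem D88622 : act 6 n41363 = n88622 := rfl
theorem F135826 : act 2 n88622 = n41497 := d3_1 D88622 (iv6 D41497) (iv2 F63773)
theorem F135827 : act 3 n88622 = n41817 := d7_1 D88622 (iv6 D41817) F63772
theorem F135828 : act 4 n88622 = n44265 := d10_1 D88622 F69659 F63774
theorem F135829 : act 5 n88622 = n46652 := d12_1 D88622 (iv6 F73720) (iv5 D44665) D44666 F70221
theorem F135830 : act 0 n41509 = n88622 := d17_0 F135829 (iv1 F73719) (iv5 D22371) F66124 D40914 F133589 (iv5 D87032) (iv0 F134783) F133391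
def n88623 : Q := act 1 n41365
theorem D88623 : act 1 n41365 = n88623 := rfl
theorem F135831 : act 1 n88623 = n87083 := d15_1 D88623 (iv7 D87083) (iv2 F63781)
theorem F135832 : act 7 n88623 = n87081 := d15_2 (iv0 F70228) D88623 (iv2 F133687)
theorem F135834 : act 6 n47885 = n88623 := d14_5 F135832 F133686 F72278 F73720 F75187
theorem F135835 : act 3 n88623 = n42630 := d7_1 F135834 (iv6 F75134) (iv3 F75173)
theorem E14495 : n43611 = n43587 := (c20_8 (iv4 F66471) (iv1 F68501) (iv4 F75274) (iv3 F135835) (iv1 D88623) (iv3 F63872) F63873 D43611 (iv4 D43587) F35674 (iv1 F32721))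
theorem F135836 : act 1 n43587 = n20631 := (sb E14495 (iv0 D43611))
theorem E14496 : n43612 = n42982 := (c15_2 F135836 D43612 F67345 (iv2 F68514))
theorem F135837 : act 0 n42982 = n20631 := (sb E14496 (iv1 D43612))
def n88624 : Q := act 7 n41365
theorem D88624 : act 7 n41365 = n88624 := rfl
theorem F135840 : act 5 n88624 = n88624 := d13_1 D88624 (iv7 D88624) F63782
theorem F135841 : act 1 n87082 = n88624 := d15_1 D87082 (iv7 D88624) F63781
def n88625 : Q := act 1 n41366
theorem D88625 : act 1 n41366 = n88625 := rfl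
theorem F135843 : act 1 n88625 = n44957 := d15_1 D88625 (iv7 D44957) (iv2 F63783)
theorem F135844 : act 7 n88625 = n44955 := d15_2 (iv0 F74929) D88625 (iv2 F70684)
theorem F135845 : act 5 n88625 = n41782 := d18_9 F69723 (iv4 F66305) F69724 (iv4 D44004) F66192 D23421 D48269 (iv4 F75885) D88625
theorem F135846 : act 3 n43566 = n88625 := d20_3 (iv4 F66701) (iv1 F66703) F68463 (iv1 D88625) F63784 (iv4 F65273) (iv1 F66867) (iv4 D42333) F35700 (iv1 F31969)
theorem F135847 : act 2 n88625 = n41792 := d0_1 F135846 F64447 F63521 D22939 (iv2 F68462)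
theorem F135848 : act 6 n88625 = n48101 := d7_2 F75535 F135846 F75574
def n88626 : Q := act 7 n41366
theorem D88626 : act 7 n41366 = n88626 := rfl
theorem F135850 : act 2 n88626 = n44957 := d4_1 D88626 (iv7 D44957) (iv2 F63783)
theorem F135852 : act 5 n88626 = n43824 := d13_1 D88626 (iv7 D43824) (iv5 F63785)
theorem F135854 : act 1 n41792 = n88626 := d15_1 (iv0 F64448) (iv7 D88626) F63783
theorem F135855 : act 1 n88626 = n44955 := d15_1 F135854 (iv7 F135844) F135847
def n88627 : Q := act 0 n41367
theorem D88627 : act 0 n41367 = n88627 := rfl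
theorem F135856 : act 1 n88436 = n88627 := d15_0 (iv0 D88627) F63787 D88436
def n88628 : Q := act 1 n41367
theorem D88628 : act 1 n41367 = n88628 := rfl
def n88629 : Q := act 2 n41367
theorem D88629 : act 2 n41367 = n88629 := rfl
theorem F135857 : act 3 n88629 = n88429 := d0_2 D41367 D88629 (iv2 D88429) (iv3 D41280) (iv2 F31175)
theorem F135858 : act 4 n88629 = n41413 := d1_2 (iv4 F63786) D88629 (iv2 D41413)
theorem F135859 : act 7 n88629 = n88436 := d4_2 (iv7 F63787) D88629 (iv2 D88436)
theorem F135860 : act 1 n88629 = n88434 := d15_0 (iv0 D88434) (iv7 F63787) D88629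
theorem F135861 : act 1 n88628 = n88436 := d15_1 D88628 (iv7 F135859) (iv2 D88629)
theorem F135862 : act 1 n88435 = n88629 := d15_1 D88435 F135859 (iv2 D88436)
def n88630 : Q := act 5 n41367
theorem D88630 : act 5 n41367 = n88630 := rfl
theorem F135863 : act 3 n88630 = n41368 := d6_1 D88630 (iv5 D41368) D41367
theorem F135864 : act 7 n88630 = n88437 := d13_2 (iv7 F63787) D88630 (iv5 D88437)
def n88631 : Q := act 6 n41368
theorem D88631 : act 6 n41368 = n88631 := rfl
theorem F135865 : act 2 n88631 = n88432 := d3_1 D88631 (iv6 D88432) (iv2 F63788)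
def n88632 : Q := act 0 n41369
theorem D88632 : act 0 n41369 = n88632 := rfl
def n88633 : Q := act 1 n41369
theorem D88633 : act 1 n41369 = n88633 := rfl
def n88634 : Q := act 5 n41371
theorem D88634 : act 5 n41371 = n88634 := rfl
theorem F135866 : act 2 n88634 = n45900 := d2_1 D88634 (iv5 D45900) (iv2 F114039)
theorem F135867 : act 3 n88634 = n77338 := d6_1 D88634 (iv5 D77338) (iv3 F114040)
theorem F135868 : act 7 n88634 = n45898 := d13_2 (iv7 F114042) D88634 (iv5 D45898)
def n88635 : Q := act 6 n41371
theorem D88635 : act 6 n41371 = n88635 := rfl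
theorem F135869 : act 2 n88635 = n45901 := d3_1 D88635 (iv6 D45901) (iv2 F114039)
theorem F135870 : act 3 n88635 = n77339 := d7_1 D88635 (iv6 D77339) (iv3 F114040)
theorem F135871 : act 7 n88635 = n45956 := d14_2 (iv7 F114042) D88635 (iv6 F113489) (iv7 F114009) F72470
theorem F135872 : act 7 n80357 = n77339 := d8_2 F135871 F128569 (iv3 F135870)
theorem E14497 : n80482 = n80356 := (c15_4 (iv0 D80356) D80357 F135872 (iv2 F123709))
theorem F135873 : act 2 n80356 = n77339 := (sb E14497 F123709)
theorem F135874 : act 3 n80356 = n36699 := (sb E14497 F123710)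
theorem F135875 : act 6 n80356 = n36696 := (sb E14497 (iv6 D80482))
def n88636 : Q := act 0 n41372
theorem D88636 : act 0 n41372 = n88636 := rfl
def n88637 : Q := act 1 n41372
theorem D88637 : act 1 n41372 = n88637 := rfl
theorem F135876 : act 1 n88637 = n45905 := d15_1 D88637 (iv7 D45905) (iv2 F63794)
theorem F135877 : act 5 n79315 = n88637 := d21_6 (iv5 D4728) F6545 (iv5 F13338) D17467 D36111 D79315 (iv1 D88637) (iv5 D41372) (iv6 D19486) F14278
theorem F135878 : act 2 n88637 = n45903 := d2_1 F135877 (iv5 F72492) (iv2 F124495)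
theorem F135879 : act 7 n45902 = n88637 := d4_0 F135878 (iv7 F124475) F124493
theorem F135880 : act 1 n45905 = n79968 := d15_1 F135876 F124475 (iv2 F135878)
theorem E14498 : n88636 = n79968 := ((c15_4 (iv0 D88636) D88637 (iv7 F135879) (iv2 F124493))).symm
theorem F135881 : act 1 n79968 = n41372 := (sb E14498 (iv0 D88636))
def n88638 : Q := act 4 n41372
theorem D88638 : act 4 n41372 = n88638 := rfl
theorem F135883 : act 6 n88638 = n41374 := d10_2 (iv6 F63796) D88638 (iv4 D41374)
theorem F135884 : act 1 n88638 = n75797 := d18_6 (iv1 F54660) D34658 F113038 (iv4 F31185) D41372 D88638 (iv4 D75797) F112836 F112833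
def n88639 : Q := act 7 n41372
theorem D88639 : act 7 n41372 = n88639 := rfl
theorem F135887 : act 5 n88639 = n41373 := d13_1 D88639 (iv7 D41373) D41372
theorem F135888 : act 6 n88639 = n45839 := d14_1 D88639 (iv7 D45839) F34413 (iv7 F31188) (iv6 F63796)
theorem F135889 : act 1 n45903 = n88639 := d15_1 D45903 (iv7 D88639) F63794
theorem F135890 : act 1 n88639 = n45902 := d15_1 F135889 F135879 F135878
def n88640 : Q := act 3 n41374
theorem D88640 : act 3 n41374 = n88640 := rfl
theorem F135891 : act 4 n88640 = n75179 := d5_2 D41374 D88640 (iv3 D75179) F54628 (iv3 F31187)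
theorem F135892 : act 7 n88640 = n45840 := d8_2 (iv7 F63805) D88640 (iv3 D45840)
theorem F135893 : act 0 n88640 = n86306 := d20_4 F29655 (iv1 F31189) D41374 D88640 (iv3 D86306) (iv4 D39932) (iv1 D18883) (iv4 F29656) (iv3 D18474) D18472
def n88641 : Q := act 5 n41375
theorem D88641 : act 5 n41375 = n88641 := rfl
theorem F135894 : act 2 n88641 = n81834 := d2_1 D88641 (iv5 D81834) (iv2 F63808)
theorem F135895 : act 3 n88641 = n83502 := d6_1 D88641 (iv5 D83502) (iv3 F63809)
theorem F135896 : act 6 n88641 = n88033 := d12_2 D41375 D88641 (iv5 D88033) (iv6 D41103) (iv5 F31193)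
def n88642 : Q := act 7 n41375
theorem D88642 : act 7 n41375 = n88642 := rfl
theorem F135897 : act 2 n88642 = n57999 := d4_1 D88642 (iv7 F119058) (iv2 F63808)
theorem F135898 : act 3 n88642 = n83503 := d8_1 D88642 (iv7 D83503) (iv3 F63809)
theorem F135899 : act 4 n88642 = n41379 := d11_1 D88642 (iv7 D41379) (iv4 F63810)
theorem F135900 : act 6 n88642 = n81836 := d14_1 D88642 (iv7 D81836) (iv6 D37457) (iv7 F31192) D41375
theorem F135901 : act 1 n57962 = n88642 := d15_1 F119078 (iv7 D88642) F63808
theorem F135902 : act 1 n88642 = n57959 := d15_1 F135901 F117389 (iv2 F117400)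
def n88643 : Q := act 5 n41377
theorem D88643 : act 5 n41377 = n88643 := rfl
theorem F135903 : act 2 n88643 = n77498 := d2_1 D88643 (iv5 D77498) (iv2 F118762)
theorem F135904 : act 3 n88643 = n77828 := d6_1 D88643 (iv5 D77828) (iv3 F118763)
theorem F135905 : act 7 n88643 = n77783 := d13_2 (iv7 F118765) D88643 (iv5 D77783)
theorem F135906 : act 0 n77787 = n88643 := d21_10 (iv5 D88643) (iv1 D41377) D41378 F63812 F31208 (iv6 F56019) (iv5 D35307) D35305 D77336 F119081
theorem F135907 : act 1 n77788 = n88643 := d15_1 D77788 F135905 F117145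
def n88644 : Q := act 6 n41377
theorem D88644 : act 6 n41377 = n88644 := rfl
theorem F135908 : act 2 n88644 = n77499 := d3_1 D88644 (iv6 D77499) (iv2 F118762)
theorem F135910 : act 1 n88644 = n77532 := d15_0 (iv0 F126137) F123462 (iv2 F135908)
def n88645 : Q := act 1 n41378
theorem D88645 : act 1 n41378 = n88645 := rfl
theorem F135911 : act 1 n88645 = n77777 := d15_1 D88645 F122713 F122710
theorem F135912 : act 7 n88645 = n77862 := d15_2 (iv0 F118759) D88645 (iv2 D77862)
theorem F135913 : act 5 n82051 = n88645 := d21_6 F13442 (iv1 F6872) D8868 D18915 (iv1 F118213) D82051 (iv1 D88645) (iv5 D41378) (iv6 D19489) F14290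
theorem F135914 : act 2 n88645 = n77507 := d2_1 F135913 F116376 (iv2 F126465)
theorem F135915 : act 3 n77875 = n88645 := d0_0 F135914 (iv3 D77507) F91528 D35537 D77875
theorem F135916 : act 4 n77875 = n57437 := d20_6 (iv4 F132690) (iv1 F132692) (iv4 D78274) (iv3 F118686) (iv1 F135911) (iv3 F135915) (iv1 D57437) (iv4 D27481) (iv3 F44368) D57339
theorem F135917 : act 2 n57437 = n77876 := d1_1 F135916 (iv4 D77876) D77875
def n88646 : Q := act 7 n41378
theorem D88646 : act 7 n41378 = n88646 := rfl
theorem F135919 : act 3 n88646 = n41393 := d8_1 D88646 (iv7 D41393) (iv3 F63811)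
theorem F135920 : act 5 n88646 = n41379 := d13_1 D88646 (iv7 D41379) D41378
theorem F135921 : act 1 n77507 = n88646 := d15_1 (iv0 F122714) (iv7 D88646) (iv2 F122710)
theorem F135922 : act 1 n88646 = n77862 := d15_1 F135921 (iv7 F135912) F135914
def n88647 : Q := act 6 n41380
theorem D88647 : act 6 n41380 = n88647 := rfl
theorem F135923 : act 2 n88647 = n56149 := d3_1 D88647 (iv6 D56149) (iv2 F63814)
theorem F135924 : act 3 n88647 = n77939 := d7_1 D88647 (iv6 D77939) (iv3 F63815)
theorem F135925 : act 4 n88647 = n75225 := d10_1 D88647 (iv6 D75225) (iv4 F63819)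
theorem F135926 : act 5 n88647 = n88647 := d12_1 D88647 (iv6 D88647) (iv5 D41380) F31202 D41380
def n88648 : Q := act 0 n41384
theorem D88648 : act 0 n41384 = n88648 := rfl
theorem F135927 : act 5 n88648 = n75665 := d17_3 D19493 D41384 D88648 F113527 D75670 (iv0 F118804) (iv5 D38333) F118787 (iv4 F14308)
theorem F135928 : act 4 n88648 = n83262 := d18_1 D88648 (iv1 F128335) (iv4 D38351) (iv5 D18303) D18302 (iv0 F118798) (iv4 F60954) F60958 D41384
theorem F135929 : act 1 n41389 = n88648 := d15_0 (iv0 D88648) (iv7 F128309) F128308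
theorem F135930 : act 6 n80475 = n88648 := d21_9 (iv5 D41389) (iv1 D19494) D19495 F31215 (iv1 F31189) (iv6 F63796) (iv5 D41372) (iv1 F112797) D80475 (iv1 F135929)
theorem F135931 : act 3 n88648 = n55825 := d7_1 F135930 (iv6 F119061) (iv3 F123697)
theorem F135932 : act 7 n78305 = n88648 := d8_0 F135931 (iv7 F119063) D78305
def n88649 : Q := act 1 n41384
theorem D88649 : act 1 n41384 = n88649 := rfl
theorem F135933 : act 1 n88649 = n41389 := d15_1 D88649 (iv7 F128299) F128296
theorem F135934 : act 2 n78305 = n88649 := d15_3 F135933 F135929 (iv7 F135932)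
theorem F135935 : act 4 n83263 = n88649 := d18_7 (iv1 D19494) F14308 (iv1 F118787) (iv4 D18297) D18298 D38337 D83263 F135933 (iv5 D41389)
theorem F135936 : act 3 n88649 = n77788 := d20_3 D38351 (iv1 F128336) F135935 (iv1 D77788) F56184 D35509 D77816 F117867 F113613 (iv1 F59200)
def n88650 : Q := act 4 n41384
theorem D88650 : act 4 n41384 = n88650 := rfl
def n88651 : Q := act 6 n41384
theorem D88651 : act 6 n41384 = n88651 := rfl
theorem F135937 : act 2 n88651 = n45971 := d3_1 D88651 (iv6 F128298) F128296
theorem F135938 : act 5 n88651 = n45767 := d12_1 D88651 (iv6 D45767) (iv5 F63821) (iv6 D41385) D41384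
theorem F135939 : act 0 n88651 = n79319 := d21_10 (iv5 D79319) (iv1 D36112) D36113 F56858 F28509 (iv6 F31215) (iv5 D19495) D19493 D41384 D88651
theorem F135940 : act 1 n88651 = n79314 := d15_1 (iv0 F135939) (iv7 F124496) (iv2 F124497)
def n88652 : Q := act 4 n41389
theorem D88652 : act 4 n41389 = n88652 := rfl
def n88653 : Q := act 0 n41390
theorem D88653 : act 0 n41390 = n88653 := rfl
theorem F135941 : act 5 n88653 = n45902 := d21_0 (iv1 F135890) F135887 F63800 (iv1 F59759) D75665 (iv5 F135927) (iv1 F135929) (iv5 D41389) D41390 D88653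
theorem F135942 : act 2 n78319 = n88653 := d15_3 (iv0 D88653) F128313 F124492
theorem F135943 : act 7 n88653 = n79315 := d4_2 F124492 F135942 F124495
theorem F135944 : act 4 n83269 = n88653 := d11_3 F135943 (iv4 F121885) (iv7 F128343)
theorem F135945 : act 1 n45953 = n88653 := d15_1 (iv0 F72538) F135943 F124495
theorem F135946 : act 5 n75693 = n83269 := d17_3 (iv1 D34606) D34607 D75693 F135944 F135941 (iv0 D45902) (iv5 D21949) D21948 F71266
theorem F135947 : act 4 n45902 = n75799 := d18_5 F59651 (iv4 F59206) D83269 F135944 F135941 (iv0 D75799) (iv4 D34663) D34662 (iv5 F58646)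
theorem F135948 : act 7 n84016 = n75693 := d13_0 F135946 F128343 D84016
def n88654 : Q := act 5 n41390
theorem D88654 : act 5 n41390 = n88654 := rfl
theorem F135949 : act 3 n88654 = n55761 := d6_1 D88654 (iv5 D55761) (iv3 F118784)
theorem F135950 : act 0 n80475 = n88654 := d21_1 D80475 (iv5 D88654) (iv6 D41390) (iv1 D19494) (iv6 D9166) (iv5 D4121) D4118 D9160 D19486 (iv1 F112797)
theorem F135951 : act 1 n88634 = n88654 := d15_0 (iv0 F135950) F123698 (iv2 F135866)
theorem F135952 : act 0 n88635 = n45957 := d21_10 F118984 (iv1 F74951) F63883 (iv6 F60955) (iv1 F60957) D41390 D88654 (iv1 F135951) (iv5 D88634) D88635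
theorem F135953 : act 0 n84790 = n81980 := d20_7 (iv4 F128529) (iv1 F128533) F113593 (iv3 F113564) F118662 (iv3 F118658) D84790 F126394 (iv3 F135870) F135952
theorem F135954 : act 7 n79552 = n88654 := d8_0 F135949 F89043 (iv3 F122190)
def n88655 : Q := act 7 n41390
theorem D88655 : act 7 n41390 = n88655 := rfl
theorem F135956 : act 3 n88655 = n55762 := d8_1 D88655 (iv7 D55762) (iv3 F118784)
theorem F135957 : act 5 n88655 = n79552 := d13_1 D88655 F135954 (iv5 D88654)
theorem F135958 : act 6 n88655 = n45762 := d14_1 D88655 F118964 (iv6 F118920) F118786 D41390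
theorem F135960 : act 0 n88655 = n79315 := d21_4 F16614 D21877 D45762 (iv6 F135958) (iv6 D79315) D79314 (iv1 F135940) F135938 (iv6 D45767) (iv1 D21878)
theorem F135961 : act 0 n79552 = n45898 := d21_7 D46233 (iv1 F72887) (iv5 D38666) D38667 F72888 (iv6 F135958) F135957 (iv5 D45898) (iv6 F72470) F113070
theorem F135962 : act 1 n88655 = n78319 := d15_1 (iv0 F135960) (iv7 F124492) (iv2 F124495)
theorem F135963 : act 1 n83233 = n79315 := d15_0 (iv0 F135960) (iv7 D88655) (iv2 F128310)
theorem F135964 : act 1 n78319 = n83233 := d15_0 F135963 (iv7 F135943) (iv2 F135942)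
def n88656 : Q := act 5 n41391
theorem D88656 : act 5 n41391 = n88656 := rfl
theorem F135967 : act 7 n88656 = n45978 := d13_2 F128364 D88656 (iv5 F128365)
theorem F135968 : act 4 n88656 = n75760 := d17_4 (iv1 D19494) D19495 D41391 D88656 (iv5 F127711) (iv0 D82901) (iv5 D38136) D38135 F118782
theorem F135969 : act 1 n88656 = n45886 := d17_8 (iv1 F128360) F128358 (iv1 F127852) F127850 (iv4 F60954) (iv5 F132621) F132623 D88656 (iv4 F112958)
theorem F135970 : act 0 n88656 = n46219 := d18_0 (iv4 F123903) (iv1 F123905) F58574 (iv5 F117883) D38363 F128353 (iv4 F132620) F132623 D88656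
def n88657 : Q := act 6 n41392
theorem D88657 : act 6 n41392 = n88657 := rfl
theorem F135971 : act 3 n88657 = n55770 := d7_1 D88657 (iv6 D55770) (iv3 F118316)
theorem F135972 : act 5 n88657 = n46216 := d12_1 D88657 (iv6 D46216) (iv5 D22110) D22111 F63823
def n88658 : Q := act 6 n41393
theorem D88658 : act 6 n41393 = n88658 := rfl
theorem F135973 : act 7 n88658 = n41399 := d14_2 D41393 D88658 (iv6 D41399) (iv7 D19500) (iv6 F31215)
def n88659 : Q := act 0 n41397
theorem D88659 : act 0 n41397 = n88659 := rfl
theorem F135974 : act 6 n88659 = n79319 := d21_5 (iv5 D9170) D9168 D19498 D41397 D88659 (iv5 D79319) (iv1 D36112) D36113 F56858 F28509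
theorem F135975 : act 2 n79642 = n88659 := d3_3 F135974 F124497 (iv6 F122349)
theorem F135976 : act 3 n42872 = n88659 := d7_3 F135974 F123912 (iv6 F123913)
theorem F135977 : act 7 n79643 = n88659 := d15_2 (iv0 D79642) D79643 (iv2 F135975)
def n88660 : Q := act 1 n41397
theorem D88660 : act 1 n41397 = n88660 := rfl
theorem F135978 : act 1 n88660 = n79644 := d15_1 D88660 (iv7 D79644) (iv2 F63832)
theorem F135979 : act 7 n88660 = n79642 := d15_2 (iv0 D88659) D88660 F135975
theorem F135980 : act 2 n79643 = n88660 := d4_3 F135979 F135975 (iv7 F135977)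
theorem F135981 : act 1 n79644 = n88659 := d15_1 F135978 (iv7 F135977) F135980
def n88661 : Q := act 7 n41397
theorem D88661 : act 7 n41397 = n88661 := rfl
theorem F135984 : act 5 n88661 = n46253 := d13_1 D88661 (iv7 D46253) (iv5 F63834)
theorem F135985 : act 1 n79643 = n88661 := d15_1 D79643 (iv7 D88661) F63832
def n88662 : Q := act 0 n41398
theorem D88662 : act 0 n41398 = n88662 := rfl
theorem F135987 : act 6 n88662 = n88634 := d21_5 (iv5 D20361) (iv1 F17589) D19499 D41398 D88662 (iv5 D88634) (iv1 D41371) D41372 F63796 (iv1 F32314)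
theorem F135988 : act 2 n78563 = n88662 := d3_3 F135987 F135866 (iv6 F119749)
def n88663 : Q := act 1 n41398
theorem D88663 : act 1 n41398 = n88663 := rfl
theorem F135989 : act 7 n88663 = n78563 := d15_2 (iv0 D88662) D88663 F135988
theorem F135990 : act 6 n78305 = n88663 := d21_3 D88656 F135970 (iv5 F123907) (iv1 D88663) (iv6 D41398) (iv5 D19499) (iv1 D9169) D9170 (iv6 F31215) D41391
theorem F135991 : act 3 n88663 = n78308 := d7_1 F135990 (iv6 D78308) D78305
theorem F135992 : act 4 n88663 = n78839 := d20_6 D35903 F115642 F56460 (iv3 F56457) (iv1 F119517) (iv3 F135991) (iv1 D78839) F56553 F28331 D17380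
def n88664 : Q := act 7 n41398
theorem D88664 : act 7 n41398 = n88664 := rfl
theorem F135993 : act 3 n88664 = n55793 := d8_1 D88664 (iv7 D55793) (iv3 F63835)
theorem F135994 : act 5 n88664 = n88664 := d13_1 D88664 (iv7 D88664) F63836
theorem F135995 : act 6 n88664 = n79644 := d14_1 D88664 (iv7 D79644) (iv6 D36270) (iv7 F31223) D41398
def n88665 : Q := act 0 n41399
theorem D88665 : act 0 n41399 = n88665 := rfl
def n88666 : Q := act 1 n41399
theorem D88666 : act 1 n41399 = n88666 := rfl
def n88667 : Q := act 0 n41400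
theorem D88667 : act 0 n41400 = n88667 := rfl
def n88668 : Q := act 1 n41400
theorem D88668 : act 1 n41400 = n88668 := rfl
def n88669 : Q := act 2 n41400
theorem D88669 : act 2 n41400 = n88669 := rfl
def n88670 : Q := act 5 n41400
theorem D88670 : act 5 n41400 = n88670 := rfl
theorem F135998 : act 3 n88670 = n41401 := d6_1 D88670 (iv5 D41401) D41400
def n88672 : Q := act 6 n41401
theorem D88672 : act 6 n41401 = n88672 := rfl
theorem F136002 : act 4 n88672 = n78837 := d10_1 D88672 (iv6 D78837) (iv4 F63839)
def n88673 : Q := act 0 n41402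
theorem D88673 : act 0 n41402 = n88673 := rfl
def n88674 : Q := act 1 n41402
theorem D88674 : act 1 n41402 = n88674 := rfl
theorem F136003 : act 1 n88674 = n43133 := d15_1 D88674 (iv7 D43133) (iv2 F63842)
def n88676 : Q := act 7 n41402
theorem D88676 : act 7 n41402 = n88676 := rfl
theorem F136005 : act 2 n88676 = n43133 := d4_1 D88676 (iv7 D43133) (iv2 F63842)
theorem F136006 : act 4 n88676 = n41404 := d11_1 D88676 (iv7 D41404) (iv4 F63843)
theorem F136007 : act 1 n43133 = n88673 := d15_0 (iv0 D88673) D88676 F136005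
theorem F136008 : act 1 n43131 = n88676 := d15_1 D43131 (iv7 D88676) F63842
theorem F136009 : act 4 n88673 = n42890 := d18_7 F73063 F73062 (iv1 F73060) F69971 F33376 (iv4 F67539) F136007 (iv0 F68521) F68520
theorem F136010 : act 7 n43131 = n88673 := d11_0 F136009 (iv7 F127078) F127080
theorem F136011 : act 2 n88673 = n43130 := d15_3 (iv0 D43130) D43131 F136010
theorem F136012 : act 2 n43131 = n88674 := d15_3 F136003 F136007 (iv7 F136010)
theorem F136013 : act 7 n88674 = n43130 := d4_2 (iv7 F136010) F136012 (iv2 F136011)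
theorem F136014 : act 1 n88676 = n43130 := d15_1 F136008 (iv7 F136013) (iv2 F136012)
theorem F136015 : act 4 n43130 = n43589 := d18_7 D44198 F73065 (iv1 F73064) F73058 (iv5 F63847) (iv4 F136006) F136014 (iv0 D43589) (iv5 F33190)
def n88677 : Q := act 4 n41403
theorem D88677 : act 4 n41403 = n88677 := rfl
theorem F136017 : act 7 n88677 = n43135 := d11_2 (iv7 F66860) D88677 (iv4 D43135)
theorem F136018 : act 0 n88677 = n41445 := d18_2 (iv1 F63844) D88677 F63890 (iv5 F33190) (iv4 F34669) (iv0 F73084) (iv4 D46384) F34650 F33376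
theorem F136019 : act 1 n47642 = n41445 := d15_0 (iv0 F136018) F136017 (iv2 F74923)
def n88678 : Q := act 0 n41405
theorem D88678 : act 0 n41405 = n88678 := rfl
def n88679 : Q := act 1 n41405
theorem D88679 : act 1 n41405 = n88679 := rfl
def n88680 : Q := act 2 n41405
theorem D88680 : act 2 n41405 = n88680 := rfl
theorem F136020 : act 4 n88680 = n43307 := d1_2 (iv4 F63851) D88680 (iv2 D43307)
def n88681 : Q := act 5 n41405
theorem D88681 : act 5 n41405 = n88681 := rfl
theorem F136021 : act 3 n88681 = n41406 := d6_1 D88681 (iv5 D41406) D41405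
def n88682 : Q := act 6 n41405
theorem D88682 : act 6 n41405 = n88682 := rfl
def n88683 : Q := act 6 n41406
theorem D88683 : act 6 n41406 = n88683 := rfl
def n88684 : Q := act 5 n41407
theorem D88684 : act 5 n41407 = n88684 := rfl
def n88685 : Q := act 7 n41407
theorem D88685 : act 7 n41407 = n88685 := rfl
theorem F136025 : act 6 n88685 = n47646 := d14_1 D88685 F74934 (iv6 D42646) F31957 D41407
def n88686 : Q := act 0 n41408
theorem D88686 : act 0 n41408 = n88686 := rfl
theorem F136028 : act 3 n88686 = n42053 := d20_5 (iv4 F32433) (iv1 F32435) F31235 D41408 D88686 (iv4 D42053) (iv1 D19829) (iv4 F31473) (iv3 D19716) D19714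
theorem F136029 : act 7 n48622 = n88686 := d8_0 F136028 F133965 D48622
def n88687 : Q := act 1 n41408
theorem D88687 : act 1 n41408 = n88687 := rfl
def n88688 : Q := act 2 n41408
theorem D88688 : act 2 n41408 = n88688 := rfl
theorem F136030 : act 1 n88688 = n48622 := d15_0 (iv0 F133702) F133701 D88688
def n88689 : Q := act 5 n41408
theorem D88689 : act 5 n41408 = n88689 := rfl
theorem F136031 : act 3 n88689 = n41409 := d6_1 D88689 (iv5 D41409) D41408
def n88690 : Q := act 6 n41408
theorem D88690 : act 6 n41408 = n88690 := rfl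
theorem F136032 : act 3 n88690 = n41410 := d7_1 D88690 (iv6 D41410) D41408
def n88691 : Q := act 6 n41409
theorem D88691 : act 6 n41409 = n88691 := rfl
def n88692 : Q := act 5 n41410
theorem D88692 : act 5 n41410 = n88692 := rfl
theorem F136033 : act 0 n88692 = n47626 := d17_2 F66635 D88692 (iv5 D47626) (iv4 D22915) (iv5 D10821) (iv0 D4934) D4936 D10829 D22940
theorem F136034 : act 1 n88692 = n47641 := d17_6 (iv1 F127074) (iv5 D82476) (iv1 D37842) D37843 (iv4 F63857) D88692 (iv5 D47641) F74887 F74886
def n88693 : Q := act 7 n41410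
theorem D88693 : act 7 n41410 = n88693 := rfl
theorem F136035 : act 2 n88693 = n47646 := d4_1 D88693 F74934 F66479
theorem F136036 : act 4 n88693 = n82479 := d11_1 D88693 (iv7 D82479) (iv4 F63857)
theorem F136037 : act 1 n41815 = n88693 := d15_1 (iv0 F66481) (iv7 D88693) (iv2 F66479)
def n88694 : Q := act 0 n41411
theorem D88694 : act 0 n41411 = n88694 := rfl
theorem F136039 : act 2 n41415 = n88694 := d15_3 (iv0 D88694) (iv0 D41411) D41415
theorem F136040 : act 3 n88694 = n47704 := d0_2 (iv3 F63859) F136039 (iv2 D47704) (iv3 D22960) (iv2 F31236)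
theorem F136041 : act 4 n88694 = n88436 := d1_2 (iv4 F63860) F136039 (iv2 D88436)
theorem F136042 : act 7 n88694 = n41413 := d4_2 D41415 F136039 (iv2 D41413)
theorem F136043 : act 1 n41412 = n88694 := d15_1 D41412 F136042 (iv2 D41413)
def n88695 : Q := act 2 n41411
theorem D88695 : act 2 n41411 = n88695 := rfl
theorem F136044 : act 7 n41412 = n88695 := d15_2 (iv0 D41411) D41412 (iv2 D88695)
def n88696 : Q := act 3 n41411
theorem D88696 : act 3 n41411 = n88696 := rfl
def n88697 : Q := act 4 n41411
theorem D88697 : act 4 n41411 = n88697 := rfl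
def n88698 : Q := act 5 n41411
theorem D88698 : act 5 n41411 = n88698 := rfl
theorem F136045 : act 4 n88698 = n88457 := d19_2 D41411 D88698 (iv3 D88457) (iv1 D41291) (iv5 D19421) (iv4 D9111) F6008 F3025 (iv5 D954) F1146 F980 D625 F1147 D961 D1834 (iv1 F17458) D4131 D9180 D19505
def n88699 : Q := act 6 n41411
theorem D88699 : act 6 n41411 = n88699 := rfl
def n88700 : Q := act 7 n41411
theorem D88700 : act 7 n41411 = n88700 := rfl
theorem F136046 : act 2 n88700 = n41412 := d4_1 D88700 F136044 (iv2 D88695)
def n88701 : Q := act 3 n41412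
theorem D88701 : act 3 n41412 = n88701 := rfl
def n88702 : Q := act 4 n41412
theorem D88702 : act 4 n41412 = n88702 := rfl
def n88703 : Q := act 5 n41412
theorem D88703 : act 5 n41412 = n88703 := rfl
def n88704 : Q := act 6 n41412
theorem D88704 : act 6 n41412 = n88704 := rfl
def n88705 : Q := act 0 n41413
theorem D88705 : act 0 n41413 = n88705 := rfl
theorem F136047 : act 1 n41415 = n88705 := d15_0 (iv0 D88705) (iv7 F136042) (iv2 F136039)
def n88706 : Q := act 1 n41413
theorem D88706 : act 1 n41413 = n88706 := rfl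
theorem F136048 : act 1 n88706 = n41415 := d15_1 D88706 (iv7 D41415) D41413
def n88707 : Q := act 5 n41413
theorem D88707 : act 5 n41413 = n88707 := rfl
theorem F136049 : act 2 n88707 = n41414 := d2_1 D88707 (iv5 D41414) D41413
def n88708 : Q := act 0 n41414
theorem D88708 : act 0 n41414 = n88708 := rfl
def n88709 : Q := act 1 n41414
theorem D88709 : act 1 n41414 = n88709 := rfl
def n88710 : Q := act 4 n41414
theorem D88710 : act 4 n41414 = n88710 := rfl
def n88711 : Q := act 6 n41414
theorem D88711 : act 6 n41414 = n88711 := rfl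
theorem F136050 : act 3 n88711 = n41418 := d7_1 D88711 (iv6 D41418) (iv3 F63858)
def n88712 : Q := act 7 n41414
theorem D88712 : act 7 n41414 = n88712 := rfl
theorem F136051 : act 3 n88712 = n41419 := d8_1 D88712 (iv7 D41419) (iv3 F63858)
theorem F136052 : act 5 n88712 = n41415 := d13_1 D88712 (iv7 D41415) D41414
def n88713 : Q := act 6 n41415
theorem D88713 : act 6 n41415 = n88713 := rfl
def n88716 : Q := act 3 n41417
theorem D88716 : act 3 n41417 = n88716 := rfl
theorem F136056 : act 5 n88716 = n41442 := d6_2 (iv5 F63864) D88716 (iv3 D41442)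
def n88717 : Q := act 6 n41417
theorem D88717 : act 6 n41417 = n88717 := rfl
def n88718 : Q := act 0 n41418
theorem D88718 : act 0 n41418 = n88718 := rfl
def n88719 : Q := act 1 n41418
theorem D88719 : act 1 n41418 = n88719 := rfl
def n88720 : Q := act 7 n41418
theorem D88720 : act 7 n41418 = n88720 := rfl
def n88721 : Q := act 6 n41419
theorem D88721 : act 6 n41419 = n88721 := rfl
theorem F136057 : act 2 n88721 = n47707 := d3_1 D88721 (iv6 D47707) (iv2 F63865)
def n88722 : Q := act 0 n41420
theorem D88722 : act 0 n41420 = n88722 := rfl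
theorem F136058 : act 1 n47711 = n88722 := d15_0 (iv0 D88722) (iv7 F73939) (iv2 F74988)
def n88723 : Q := act 1 n41420
theorem D88723 : act 1 n41420 = n88723 := rfl
theorem F136059 : act 1 n88723 = n47711 := d15_1 D88723 (iv7 D47711) (iv2 F63867)
def n88724 : Q := act 5 n41420
theorem D88724 : act 5 n41420 = n88724 := rfl
theorem F136060 : act 2 n88724 = n47710 := d2_1 D88724 (iv5 D47710) (iv2 F63867)
def n88726 : Q := act 3 n41421
theorem D88726 : act 3 n41421 = n88726 := rfl
def n88727 : Q := act 4 n41421
theorem D88727 : act 4 n41421 = n88727 := rfl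
def n88732 : Q := act 6 n41422
theorem D88732 : act 6 n41422 = n88732 := rfl
theorem F136064 : act 5 n88732 = n47651 := d12_1 D88732 (iv6 F74993) (iv5 D47715) D47716 F74995
theorem F136065 : act 0 n43193 = n88732 := d21_4 F34986 (iv1 F63979) F63976 (iv6 F67647) (iv6 D88732) (iv5 F74995) F74996 (iv5 D47628) (iv6 D22916) F34989
def n88734 : Q := act 7 n41423
theorem D88734 : act 7 n41423 = n88734 := rfl
theorem F136077 : act 4 n88734 = n43614 := d11_1 D88734 (iv7 D43614) (iv4 F63873)
theorem F136078 : act 5 n88734 = n88734 := d13_1 D88734 (iv7 D88734) F63874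
theorem F136080 : act 1 n42630 = n88734 := d15_1 D42630 (iv7 D88734) F63871
theorem F136081 : act 1 n88734 = n42629 := d15_1 F136080 (iv7 F67645) F75271
def n88735 : Q := act 0 n41424
theorem D88735 : act 0 n41424 = n88735 := rfl
def n88736 : Q := act 1 n41424
theorem D88736 : act 1 n41424 = n88736 := rfl
def n88737 : Q := act 2 n41424
theorem D88737 : act 2 n41424 = n88737 := rfl
theorem F136082 : act 4 n88737 = n41448 := d1_2 (iv4 F63875) D88737 (iv2 D41448)
def n88738 : Q := act 5 n41424
theorem D88738 : act 5 n41424 = n88738 := rfl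
theorem F136083 : act 3 n88738 = n41425 := d6_1 D88738 (iv5 D41425) D41424
def n88739 : Q := act 6 n41425
theorem D88739 : act 6 n41425 = n88739 := rfl
def n88740 : Q := act 0 n41429
theorem D88740 : act 0 n41429 = n88740 := rfl
theorem F136084 : act 4 n88740 = n83441 := d18_1 D88740 (iv1 F128546) (iv4 D38468) (iv5 D18336) D18335 (iv0 F113497) (iv4 F63826) F63829 D41429
theorem F136085 : act 5 n88740 = n88635 := d21_2 D41429 D88740 (iv6 D88635) (iv1 D41371) (iv6 D19486) (iv5 D9160) F6040 D4140 D9186 D19512
theorem F136086 : act 1 n41434 = n88740 := d15_0 (iv0 D88740) (iv7 F118479) F118480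
theorem F136087 : act 0 n45763 = n88635 := d21_10 (iv5 F136085) (iv1 F136086) (iv5 D41434) D41435 (iv1 F118348) F72530 F72528 F72888 (iv5 D45762) D45763
theorem F136088 : act 2 n79518 = n88740 := d2_3 F136085 F135869 F122125
theorem F136089 : act 7 n79517 = n88740 := d13_0 F136085 F135871 (iv5 F122123)
def n88741 : Q := act 1 n41429
theorem D88741 : act 1 n41429 = n88741 := rfl
theorem F136090 : act 1 n88741 = n41434 := d15_1 D88741 (iv7 F128515) F128513
theorem F136091 : act 7 n88741 = n79518 := d15_2 (iv0 D88740) D88741 F136088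
theorem F136092 : act 2 n79517 = n88741 := d4_3 F136091 F136088 (iv7 F136089)
theorem F136093 : act 3 n56228 = n88741 := d8_3 F136091 F122126 (iv7 F119042)
theorem F136094 : act 6 n88741 = n79322 := d7_2 F118544 F136093 F121711
theorem F136095 : act 4 n88741 = n83442 := d20_6 D39215 F60181 (iv4 D27096) (iv3 F43779) D56228 F136093 (iv1 D83442) (iv4 D38453) (iv3 F117936) D18601
theorem E14499 : n84238 = n83442 := ((c10_2 (iv6 F136094) F136095 (iv6 D84238) (iv4 F121713))).symm
theorem F136096 : act 6 n83442 = n38850 := (sb E14499 (iv6 D84238))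
def n88742 : Q := act 4 n41429
theorem D88742 : act 4 n41429 = n88742 := rfl
theorem F136097 : act 7 n88742 = n79519 := d11_2 F118479 D88742 (iv4 D79519)
def n88743 : Q := act 6 n41429
theorem D88743 : act 6 n41429 = n88743 := rfl
theorem F136098 : act 3 n88743 = n79243 := d7_1 D88743 (iv6 D79243) (iv3 F118460)
theorem F136099 : act 5 n88743 = n80877 := d12_1 D88743 (iv6 D80877) F118465 (iv6 D41430) D41429
def n88744 : Q := act 1 n41430
theorem D88744 : act 1 n41430 = n88744 := rfl
theorem F136102 : act 4 n88744 = n83436 := d17_9 (iv1 D83436) F113499 (iv1 D75550) (iv5 D34564) F27523 D21972 (iv0 F118462) F118465 D88744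
theorem F136103 : act 5 n88744 = n46214 := d18_9 (iv1 D46214) D46215 (iv1 F129289) (iv4 D84220) (iv5 D38839) (iv4 F59855) F129123 F127532 D88744
theorem F136104 : act 6 n78319 = n88744 := d21_3 D41372 (iv1 F135881) F122754 (iv1 D88744) (iv6 D41430) D41429 D88740 F136085 (iv6 D88635) (iv1 D41371)
theorem F136105 : act 3 n88744 = n78322 := d7_1 F136104 (iv6 D78322) D78319
def n88745 : Q := act 5 n41432
theorem D88745 : act 5 n41432 = n88745 := rfl
theorem F136106 : act 2 n88745 = n79249 := d2_1 D88745 (iv5 D79249) F118369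
theorem F136107 : act 3 n88745 = n41434 := d6_1 D88745 (iv5 D41434) D41432
theorem F136108 : act 7 n88745 = n79477 := d13_2 (iv7 F118368) D88745 (iv5 D79477)
theorem F136109 : act 6 n84532 = n88745 := d21_5 F28514 F28030 (iv5 F33761) (iv6 F70005) (iv1 F129707) (iv5 D88745) F120799 D44483 F69999 F33399
theorem F136110 : act 0 n79482 = n88745 := d21_7 (iv5 D44910) (iv1 F33669) (iv5 F56752) (iv6 F57735) (iv1 F115867) D77160 (iv5 F122075) (iv5 D88745) F131259 F131260
theorem F136111 : act 4 n88745 = n84534 := d10_1 F136109 (iv6 D84534) D84532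
theorem F136112 : act 1 n84534 = n84809 := d18_6 (iv1 F44719) (iv4 F44725) (iv1 F91907) F118370 D88745 F136111 (iv4 D84809) F117026 (iv5 D58113)
theorem F136113 : act 1 n79483 = n88745 := d15_1 D79483 F136108 F122061
def n88746 : Q := act 4 n41434
theorem D88746 : act 4 n41434 = n88746 := rfl
theorem F136114 : act 2 n88746 = n79519 := d1_1 D88746 (iv4 D79519) F118480
theorem F136115 : act 6 n88746 = n82911 := d10_2 F63880 D88746 F127738
def n88747 : Q := act 5 n41436
theorem D88747 : act 5 n41436 = n88747 := rfl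
theorem F136119 : act 4 n88747 = n82582 := d17_4 (iv1 D19513) D19514 D41436 D88747 F127810 (iv0 D82938) (iv5 D38161) D38160 F118373
theorem F136120 : act 1 n88747 = n45901 := d17_8 F128565 F128563 (iv1 F127888) F127886 (iv4 F63826) (iv5 F74950) F74953 D88747 (iv4 F113554)
theorem F136121 : act 0 n88747 = n45956 := d18_0 (iv4 F127238) (iv1 D82614) F58769 F29526 D38478 F128557 F128556 F74953 D88747
def n88748 : Q := act 6 n41436
theorem D88748 : act 6 n41436 = n88748 := rfl
theorem F136123 : act 3 n88748 = n79258 := d7_1 D88748 (iv6 D79258) F118953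
theorem F136124 : act 5 n79709 = n88748 := d6_0 F136123 F121609 D79709
theorem F136125 : act 0 n79709 = n41870 := d21_7 (iv5 D10458) (iv1 F16821) D9188 (iv6 F31249) D41436 D88748 (iv5 F136124) F64538 (iv6 D41399) (iv1 F31226)
theorem F136126 : act 1 n79709 = n47688 := d15_1 (iv0 F136125) (iv7 D47688) (iv2 F64537)
def n88749 : Q := act 3 n41437
theorem D88749 : act 3 n41437 = n88749 := rfl
theorem F136127 : act 2 n88749 = n79259 := d0_1 D88749 (iv3 D79259) F89186 D36229 (iv2 F118951)
theorem F136128 : act 5 n88749 = n45942 := d6_2 F63881 D88749 F72521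
theorem F136129 : act 7 n88749 = n79540 := d8_2 F118982 D88749 F122168
theorem F136130 : act 1 n44483 = n88749 := d15_1 (iv0 F122172) F136129 (iv2 D79540)
theorem F136131 : act 1 n88749 = n79476 := d15_1 F136130 F122060 F70551
theorem F136132 : act 0 n80524 = n45942 := d21_10 (iv5 F136128) (iv1 F136130) (iv5 D44483) (iv6 D21157) (iv1 F15943) D10118 (iv5 F28423) D36000 D79105 (iv6 F123796)
theorem F136133 : act 1 n80524 = n79542 := d15_1 (iv0 F136132) F122177 F118949
theorem F136134 : act 1 n80669 = n45942 := d15_0 (iv0 F136132) F123797 (iv2 F124093)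
theorem E14500 : n79538 = n79476 := ((c15_1 F136131 (iv0 D79538) (iv7 F121611) (iv2 F136127))).symm
theorem F136135 : act 1 n79476 = n36224 := (sb E14500 (iv0 D79538))
def n88750 : Q := act 6 n41437
theorem D88750 : act 6 n41437 = n88750 := rfl
theorem F136137 : act 5 n88750 = n45953 := d12_1 D88750 (iv6 D45953) (iv5 D21962) D21963 F63881
theorem F136138 : act 0 n88750 = n80475 := d21_4 F122123 (iv1 D45956) F63881 D88750 F135930 F135927 F122140 (iv5 F122133) (iv6 D79520) D79517
theorem F136139 : act 1 n88750 = n88634 := d15_1 (iv0 F136138) F135868 (iv2 F123696)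
def n88751 : Q := act 3 n41438
theorem D88751 : act 3 n41438 = n88751 := rfl
theorem F136140 : act 6 n88751 = n41440 := d7_2 (iv6 F63882) D88751 (iv3 D41440)
def n88752 : Q := act 5 n41438
theorem D88752 : act 5 n41438 = n88752 := rfl
theorem F136141 : act 0 n88752 = n83444 := d17_2 (iv1 F113509) D88752 (iv5 D83444) (iv4 D38453) (iv5 D18331) (iv0 D8638) D8640 D18339 D38478
theorem F136142 : act 1 n88752 = n83455 := d17_6 (iv1 F136086) (iv5 D41434) (iv1 D19513) D19514 D41438 D88752 (iv5 D83455) F128546 (iv4 F136084)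
def n88753 : Q := act 7 n41438
theorem D88753 : act 7 n41438 = n88753 := rfl
theorem F136143 : act 2 n88753 = n83456 := d4_1 D88753 F128558 F74945
theorem F136144 : act 4 n88753 = n41439 := d11_1 D88753 (iv7 D41439) D41438
theorem F136145 : act 1 n58246 = n88753 := d15_1 (iv0 F118514) (iv7 D88753) (iv2 F74945)
theorem F136146 : act 1 n88753 = n82945 := d15_1 F136145 F127820 (iv2 F118742)
def n88754 : Q := act 0 n41440
theorem D88754 : act 0 n41440 = n88754 := rfl
def n88755 : Q := act 1 n41440
theorem D88755 : act 1 n41440 = n88755 := rfl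
def n88756 : Q := act 2 n41440
theorem D88756 : act 2 n41440 = n88756 := rfl
def n88757 : Q := act 5 n41440
theorem D88757 : act 5 n41440 = n88757 := rfl
theorem F136147 : act 3 n88757 = n41441 := d6_1 D88757 (iv5 D41441) D41440
theorem F136148 : act 7 n88757 = n84333 := d13_2 F74968 D88757 F129393
def n88758 : Q := act 6 n41441
theorem D88758 : act 6 n41441 = n88758 := rfl
theorem F136149 : act 2 n88758 = n84332 := d3_1 D88758 (iv6 D84332) (iv2 F63884)
def n88759 : Q := act 0 n41442
theorem D88759 : act 0 n41442 = n88759 := rfl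
theorem F136150 : act 3 n88759 = n43148 := d20_5 F32283 (iv1 F31931) F31932 D41442 D88759 (iv4 D43148) (iv1 D20351) (iv4 F32285) (iv3 D20344) D20342
def n88760 : Q := act 1 n41442
theorem D88760 : act 1 n41442 = n88760 := rfl
def n88761 : Q := act 2 n41442
theorem D88761 : act 2 n41442 = n88761 := rfl
theorem F136151 : act 4 n88761 = n87215 := d1_2 (iv4 F63888) D88761 (iv2 D87215)
def n88762 : Q := act 6 n41442
theorem D88762 : act 6 n41442 = n88762 := rfl
theorem F136152 : act 3 n88762 = n41443 := d7_1 D88762 (iv6 D41443) D41442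
theorem F136153 : act 4 n88762 = n87217 := d10_1 D88762 (iv6 D87217) (iv4 F63888)
def n88763 : Q := act 0 n41443
theorem D88763 : act 0 n41443 = n88763 := rfl
def n88764 : Q := act 1 n41443
theorem D88764 : act 1 n41443 = n88764 := rfl
def n88765 : Q := act 5 n41443
theorem D88765 : act 5 n41443 = n88765 := rfl
def n88766 : Q := act 7 n41443
theorem D88766 : act 7 n41443 = n88766 := rfl
def n88767 : Q := act 0 n41444
theorem D88767 : act 0 n41444 = n88767 := rfl
def n88768 : Q := act 1 n41444
theorem D88768 : act 1 n41444 = n88768 := rfl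
def n88769 : Q := act 2 n41444
theorem D88769 : act 2 n41444 = n88769 := rfl
theorem F136154 : act 4 n88769 = n43594 := d1_2 (iv4 F63889) D88769 (iv2 D43594)
def n88770 : Q := act 6 n41444
theorem D88770 : act 6 n41444 = n88770 := rfl
theorem F136155 : act 3 n88770 = n41445 := d7_1 D88770 (iv6 D41445) D41444
theorem F136156 : act 4 n88770 = n43596 := d10_1 D88770 (iv6 D43596) (iv4 F63889)
def n88773 : Q := act 2 n41446
theorem D88773 : act 2 n41446 = n88773 := rfl
theorem F136161 : act 7 n41447 = n88773 := d15_2 (iv0 D41446) D41447 (iv2 D88773)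
def n88774 : Q := act 3 n41446
theorem D88774 : act 3 n41446 = n88774 := rfl
def n88775 : Q := act 4 n41446
theorem D88775 : act 4 n41446 = n88775 := rfl
def n88776 : Q := act 5 n41446
theorem D88776 : act 5 n41446 = n88776 := rfl
def n88777 : Q := act 6 n41446
theorem D88777 : act 6 n41446 = n88777 := rfl
def n88778 : Q := act 7 n41446
theorem D88778 : act 7 n41446 = n88778 := rfl
theorem F136162 : act 2 n88778 = n41447 := d4_1 D88778 F136161 (iv2 D88773)
def n88779 : Q := act 3 n41447
theorem D88779 : act 3 n41447 = n88779 := rfl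
def n88780 : Q := act 4 n41447
theorem D88780 : act 4 n41447 = n88780 := rfl
theorem F136163 : act 3 n43052 = n88780 := d20_5 (iv4 D9494) (iv1 F16840) (iv4 F15252) (iv3 F32240) D43052 (iv4 D88780) (iv1 D41447) (iv4 F63875) (iv3 D41424) F31247
def n88781 : Q := act 5 n41447
theorem D88781 : act 5 n41447 = n88781 := rfl
def n88782 : Q := act 6 n41447
theorem D88782 : act 6 n41447 = n88782 := rfl
def n88783 : Q := act 5 n41448
theorem D88783 : act 5 n41448 = n88783 := rfl
theorem F136164 : act 2 n88783 = n41449 := d2_1 D88783 (iv5 D41449) D41448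
def n88784 : Q := act 0 n41449
theorem D88784 : act 0 n41449 = n88784 := rfl
def n88785 : Q := act 1 n41449
theorem D88785 : act 1 n41449 = n88785 := rfl
def n88786 : Q := act 4 n41449
theorem D88786 : act 4 n41449 = n88786 := rfl
def n88787 : Q := act 6 n41449
theorem D88787 : act 6 n41449 = n88787 := rfl
theorem F136165 : act 3 n88787 = n41453 := d7_1 D88787 (iv6 D41453) (iv3 F63891)
def n88788 : Q := act 3 n41450
theorem D88788 : act 3 n41450 = n88788 := rfl
theorem F136166 : act 5 n88788 = n87098 := d6_2 (iv5 F63892) D88788 F133700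
theorem F136167 : act 7 n88788 = n88689 := d8_2 F63894 D88788 F136031
def n88789 : Q := act 6 n41450
theorem D88789 : act 6 n41450 = n88789 := rfl
theorem F136168 : act 2 n88789 = n88683 := d3_1 D88789 (iv6 D88683) F63893
def n88790 : Q := act 3 n41451
theorem D88790 : act 3 n41451 = n88790 := rfl
theorem F136169 : act 5 n88790 = n42645 := d6_2 (iv5 F63896) D88790 (iv3 D42645)
theorem F136170 : act 7 n88790 = n88681 := d8_2 (iv7 F63895) D88790 F136021
def n88791 : Q := act 6 n41451
theorem D88791 : act 6 n41451 = n88791 := rfl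
theorem F136171 : act 2 n88791 = n88691 := d3_1 D88791 (iv6 D88691) F63897
def n88792 : Q := act 3 n41452
theorem D88792 : act 3 n41452 = n88792 := rfl
theorem F136172 : act 5 n88792 = n78830 := d6_2 (iv5 F63900) D88792 (iv3 D78830)
theorem F136173 : act 7 n88792 = n84331 := d8_2 (iv7 F63899) D88792 (iv3 D84331)
def n88793 : Q := act 6 n41452
theorem D88793 : act 6 n41452 = n88793 := rfl
theorem F136174 : act 2 n88793 = n84334 := d3_1 D88793 (iv6 D84334) (iv2 F63898)
theorem F136175 : act 4 n88793 = n41453 := d10_1 D88793 (iv6 D41453) D41452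
def n88794 : Q := act 0 n41453
theorem D88794 : act 0 n41453 = n88794 := rfl
def n88795 : Q := act 1 n41453
theorem D88795 : act 1 n41453 = n88795 := rfl
def n88796 : Q := act 7 n41453
theorem D88796 : act 7 n41453 = n88796 := rfl
def n88797 : Q := act 6 n41455
theorem D88797 : act 6 n41455 = n88797 := rfl
theorem F136176 : act 3 n88797 = n41458 := d7_1 D88797 (iv6 D41458) D41455
theorem F136177 : act 4 n88797 = n45386 := d10_1 D88797 (iv6 D45386) (iv4 F63904)
def n88798 : Q := act 6 n41456
theorem D88798 : act 6 n41456 = n88798 := rfl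
theorem F136178 : act 4 n88798 = n41458 := d10_1 D88798 (iv6 D41458) D41456
def n88799 : Q := act 0 n41458
theorem D88799 : act 0 n41458 = n88799 := rfl
def n88800 : Q := act 1 n41458
theorem D88800 : act 1 n41458 = n88800 := rfl
def n88801 : Q := act 5 n41458
theorem D88801 : act 5 n41458 = n88801 := rfl
def n88802 : Q := act 7 n41458
theorem D88802 : act 7 n41458 = n88802 := rfl
def n88803 : Q := act 0 n41460
theorem D88803 : act 0 n41460 = n88803 := rfl
theorem F136179 : act 5 n88803 = n82000 := d17_1 D88803 (iv1 F126422) F109121 (iv4 D42361) F31825 F31852 F31848 D20919 (iv4 F63907)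
theorem F136180 : act 4 n88803 = n41560 := d18_1 D88803 (iv1 F64146) F34541 (iv5 F29810) (iv4 F44373) D57351 (iv4 F125882) F125886 F109447
theorem F136181 : act 3 n88803 = n41675 := d20_5 (iv4 F72610) (iv1 F72611) (iv4 D41461) D41460 D88803 (iv4 F69245) (iv1 F69247) F68961 D45988 F72564
theorem F136182 : act 2 n41647 = n88803 := d15_3 (iv0 D88803) F109130 F109127
theorem F136183 : act 1 n44045 = n88803 := d15_0 (iv0 D88803) (iv7 F68962) (iv2 F69343)
theorem F136184 : act 7 n88803 = n46131 := d15_2 F109129 F136183 (iv2 F109125)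
def n88804 : Q := act 6 n41460
theorem D88804 : act 6 n41460 = n88804 := rfl
theorem F136185 : act 3 n88804 = n41463 := d7_1 D88804 (iv6 D41463) D41460
theorem F136186 : act 4 n88804 = n44048 := d10_1 D88804 (iv6 D44048) (iv4 F63907)
def n88805 : Q := act 6 n41461
theorem D88805 : act 6 n41461 = n88805 := rfl
theorem F136187 : act 4 n88805 = n41463 := d10_1 D88805 (iv6 D41463) D41461
def n88806 : Q := act 0 n41463
theorem D88806 : act 0 n41463 = n88806 := rfl
def n88807 : Q := act 1 n41463
theorem D88807 : act 1 n41463 = n88807 := rfl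
def n88808 : Q := act 5 n41463
theorem D88808 : act 5 n41463 = n88808 := rfl
def n88809 : Q := act 7 n41463
theorem D88809 : act 7 n41463 = n88809 := rfl
def n88810 : Q := act 0 n41464
theorem D88810 : act 0 n41464 = n88810 := rfl
def n88811 : Q := act 1 n41464
theorem D88811 : act 1 n41464 = n88811 := rfl
theorem F136188 : act 1 n88811 = n41472 := d15_1 D88811 (iv7 D41472) (iv2 F63909)
def n88812 : Q := act 5 n41464
theorem D88812 : act 5 n41464 = n88812 := rfl
theorem F136189 : act 2 n88812 = n41471 := d2_1 D88812 (iv5 D41471) (iv2 F63909)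
theorem F136190 : act 3 n88812 = n41684 := d6_1 D88812 (iv5 D41684) (iv3 F63910)
def n88813 : Q := act 7 n41464
theorem D88813 : act 7 n41464 = n88813 := rfl
theorem F136191 : act 2 n88813 = n41472 := d4_1 D88813 (iv7 D41472) (iv2 F63909)
theorem F136192 : act 3 n88813 = n41685 := d8_1 D88813 (iv7 D41685) (iv3 F63910)
theorem F136193 : act 4 n88813 = n88813 := d11_1 D88813 (iv7 D88813) F63911
theorem F136194 : act 6 n88813 = n86903 := d14_1 D88813 (iv7 D86903) (iv6 D40316) (iv7 F31256) D41464
theorem F136195 : act 1 n41472 = n88810 := d15_0 (iv0 D88810) D88813 F136191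
theorem F136196 : act 1 n41470 = n88813 := d15_1 D41470 (iv7 D88813) F63909
theorem F136197 : act 1 n88813 = n41469 := d15_0 (iv0 D41469) D41472 (iv2 F136191)
def n88814 : Q := act 5 n41467
theorem D88814 : act 5 n41467 = n88814 := rfl
theorem F136198 : act 3 n88814 = n69680 := d6_1 D88814 F106034 (iv3 F71175)
def n88815 : Q := act 6 n41467
theorem D88815 : act 6 n41467 = n88815 := rfl
theorem F136199 : act 4 n88815 = n41468 := d10_1 D88815 (iv6 D41468) D41467
def n88816 : Q := act 0 n41468
theorem D88816 : act 0 n41468 = n88816 := rfl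
def n88817 : Q := act 1 n41468
theorem D88817 : act 1 n41468 = n88817 := rfl
def n88818 : Q := act 5 n41468
theorem D88818 : act 5 n41468 = n88818 := rfl
theorem F136200 : act 3 n88818 = n41475 := d6_1 D88818 (iv5 D41475) (iv3 F63915)
theorem F136201 : act 6 n88818 = n41471 := d12_2 D41468 D88818 (iv5 D41471) (iv6 D19525) D19524
def n88819 : Q := act 7 n41468
theorem D88819 : act 7 n41468 = n88819 := rfl
theorem F136202 : act 3 n88819 = n41476 := d8_1 D88819 (iv7 D41476) (iv3 F63915)
def n88820 : Q := act 2 n41469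
theorem D88820 : act 2 n41469 = n88820 := rfl
theorem F136203 : act 7 n41470 = n88820 := d15_2 (iv0 D41469) D41470 (iv2 D88820)
def n88821 : Q := act 3 n41469
theorem D88821 : act 3 n41469 = n88821 := rfl
def n88822 : Q := act 4 n41469
theorem D88822 : act 4 n41469 = n88822 := rfl
def n88823 : Q := act 5 n41469
theorem D88823 : act 5 n41469 = n88823 := rfl
def n88824 : Q := act 6 n41469
theorem D88824 : act 6 n41469 = n88824 := rfl
theorem F136204 : act 5 n88824 = n87683 := d21_6 D22307 F72920 (iv5 D19524) D19525 D41469 D88824 (iv1 D87683) (iv5 D40847) (iv6 D19254) (iv1 F17166)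
def n88825 : Q := act 7 n41469
theorem D88825 : act 7 n41469 = n88825 := rfl
theorem F136205 : act 2 n88825 = n41470 := d4_1 D88825 F136203 (iv2 D88820)
def n88826 : Q := act 3 n41470
theorem D88826 : act 3 n41470 = n88826 := rfl
theorem F136206 : act 4 n88826 = n44051 := d20_6 (iv4 D19724) (iv1 F31486) (iv4 F64329) (iv3 F136192) (iv1 F136196) D88826 (iv1 D44051) (iv4 F34600) F34599 (iv1 F63552)
def n88827 : Q := act 4 n41470
theorem D88827 : act 4 n41470 = n88827 := rfl
def n88828 : Q := act 5 n41470
theorem D88828 : act 5 n41470 = n88828 := rfl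
def n88829 : Q := act 6 n41470
theorem D88829 : act 6 n41470 = n88829 := rfl
def n88830 : Q := act 0 n41471
theorem D88830 : act 0 n41471 = n88830 := rfl
def n88831 : Q := act 1 n41471
theorem D88831 : act 1 n41471 = n88831 := rfl
def n88832 : Q := act 4 n41471
theorem D88832 : act 4 n41471 = n88832 := rfl
def n88833 : Q := act 7 n41471
theorem D88833 : act 7 n41471 = n88833 := rfl
theorem F136207 : act 3 n88833 = n41485 := d8_1 D88833 (iv7 D41485) (iv3 F63916)
theorem F136208 : act 5 n88833 = n41472 := d13_1 D88833 (iv7 D41472) D41471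
def n88834 : Q := act 2 n41473
theorem D88834 : act 2 n41473 = n88834 := rfl
theorem F136209 : act 7 n41474 = n88834 := d15_2 (iv0 D41473) D41474 (iv2 D88834)
def n88835 : Q := act 3 n41473
theorem D88835 : act 3 n41473 = n88835 := rfl
def n88836 : Q := act 4 n41473
theorem D88836 : act 4 n41473 = n88836 := rfl
def n88837 : Q := act 5 n41473
theorem D88837 : act 5 n41473 = n88837 := rfl
def n88838 : Q := act 7 n41473
theorem D88838 : act 7 n41473 = n88838 := rfl
theorem F136210 : act 2 n88838 = n41474 := d4_1 D88838 F136209 (iv2 D88834)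
def n88839 : Q := act 3 n41474
theorem D88839 : act 3 n41474 = n88839 := rfl
def n88840 : Q := act 4 n41474
theorem D88840 : act 4 n41474 = n88840 := rfl
def n88841 : Q := act 5 n41474
theorem D88841 : act 5 n41474 = n88841 := rfl
def n88842 : Q := act 6 n41474
theorem D88842 : act 6 n41474 = n88842 := rfl
def n88843 : Q := act 0 n41475
theorem D88843 : act 0 n41475 = n88843 := rfl
def n88844 : Q := act 1 n41475
theorem D88844 : act 1 n41475 = n88844 := rfl
theorem F136211 : act 1 n88844 = n41723 := d15_1 D88844 (iv7 D41723) (iv2 F63920)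
theorem F136212 : act 5 n47349 = n88844 := d21_6 (iv5 D10618) (iv1 F7005) (iv5 F7343) D10757 D22749 D47349 (iv1 D88844) (iv5 D41475) (iv6 D19526) (iv1 F17153)
def n88845 : Q := act 4 n41475
theorem D88845 : act 4 n41475 = n88845 := rfl
theorem F136213 : act 2 n88845 = n41722 := d1_1 D88845 (iv4 D41722) (iv2 F63920)
theorem F136214 : act 6 n88845 = n41484 := d10_2 (iv6 F63921) D88845 (iv4 D41484)
def n88846 : Q := act 7 n41475
theorem D88846 : act 7 n41475 = n88846 := rfl
theorem F136215 : act 2 n88846 = n41723 := d4_1 D88846 (iv7 D41723) (iv2 F63920)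
theorem F136216 : act 5 n88846 = n41476 := d13_1 D88846 (iv7 D41476) D41475
theorem F136217 : act 1 n41723 = n88843 := d15_0 (iv0 D88843) D88846 F136215
theorem F136218 : act 1 n41721 = n88846 := d15_1 D41721 (iv7 D88846) F63920
theorem F136219 : act 1 n88846 = n41720 := d15_0 (iv0 D41720) D41723 (iv2 F136215)
def n88847 : Q := act 0 n41477
theorem D88847 : act 0 n41477 = n88847 := rfl
theorem F136220 : act 1 n41747 = n88847 := d15_0 (iv0 D88847) F63927 D41747
def n88848 : Q := act 1 n41477
theorem D88848 : act 1 n41477 = n88848 := rfl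
def n88849 : Q := act 2 n41477
theorem D88849 : act 2 n41477 = n88849 := rfl
theorem F136221 : act 3 n88849 = n41730 := d0_2 D41477 D88849 (iv2 D41730) (iv3 D19637) (iv2 F63482)
theorem F136222 : act 4 n88849 = n87009 := d1_2 (iv4 F63926) D88849 (iv2 D87009)
theorem F136223 : act 7 n88849 = n41747 := d4_2 (iv7 F63927) D88849 (iv2 D41747)
theorem F136224 : act 1 n88849 = n41745 := d15_0 (iv0 D41745) (iv7 F63927) D88849
theorem F136225 : act 1 n88848 = n41747 := d15_1 D88848 (iv7 F136223) (iv2 D88849)
theorem F136226 : act 1 n41746 = n88849 := d15_1 D41746 F136223 (iv2 D41747)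
def n88850 : Q := act 5 n41477
theorem D88850 : act 5 n41477 = n88850 := rfl
theorem F136227 : act 3 n88850 = n41478 := d6_1 D88850 (iv5 D41478) D41477
theorem F136228 : act 7 n88850 = n41749 := d13_2 (iv7 F63927) D88850 (iv5 D41749)
def n88851 : Q := act 6 n41477
theorem D88851 : act 6 n41477 = n88851 := rfl
theorem F136229 : act 3 n88851 = n41479 := d7_1 D88851 (iv6 D41479) D41477
theorem F136230 : act 4 n88851 = n87011 := d10_1 D88851 (iv6 D87011) (iv4 F63926)
theorem F136231 : act 5 n47492 = n88851 := d6_0 F136229 F63932 D47492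
def n88852 : Q := act 4 n41478
theorem D88852 : act 4 n41478 = n88852 := rfl
theorem F136232 : act 2 n88852 = n41739 := d1_1 D88852 (iv4 D41739) (iv2 F63928)
theorem F136233 : act 7 n88852 = n41753 := d11_2 (iv7 F63929) D88852 (iv4 D41753)
theorem F136234 : act 5 n88852 = n46611 := d16_1 D88852 (iv4 D46611) (iv5 F64421) (iv4 F67812) F67813 (iv4 F58693) D41481 F63935 (iv2 F63928)
def n88853 : Q := act 6 n41478
theorem D88853 : act 6 n41478 = n88853 := rfl
theorem F136235 : act 2 n88853 = n41740 := d3_1 D88853 (iv6 D41740) (iv2 F63928)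
theorem F136236 : act 5 n88853 = n47494 := d12_1 D88853 (iv6 D47494) (iv5 F63932) (iv6 D41479) D41478
def n88854 : Q := act 1 n41479
theorem D88854 : act 1 n41479 = n88854 := rfl
theorem F136237 : act 1 n88854 = n41744 := d15_1 D88854 (iv7 D41744) (iv2 F63930)
theorem F136238 : act 7 n88854 = n41623 := d15_2 (iv0 F66327) D88854 (iv2 F65756)
theorem F136239 : act 4 n88854 = n41494 := d17_9 (iv1 D41494) F31271 (iv1 D10829) (iv5 D4936) (iv4 F7346) D10775 D22812 (iv5 F63932) D88854
theorem F136240 : act 6 n46119 = n88854 := d21_3 D22297 D46516 F73499 (iv1 D88854) (iv6 D41479) D41478 (iv1 F74776) (iv5 D47556) (iv6 F62707) (iv1 F62610)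
theorem F136241 : act 2 n88854 = n41742 := d3_1 F136240 (iv6 F70481) (iv2 F72701)
def n88855 : Q := act 7 n41479
theorem D88855 : act 7 n41479 = n88855 := rfl
theorem F136243 : act 4 n88855 = n44003 := d11_1 D88855 F69220 (iv4 F63931)
theorem F136244 : act 5 n88855 = n45734 := d13_1 D88855 F72159 (iv5 F63932)
theorem F136245 : act 6 n88855 = n41758 := d14_1 D88855 (iv7 D41758) (iv6 D19645) (iv7 F63483) D41479
theorem F136246 : act 1 n41742 = n88855 := d15_1 D41742 (iv7 D88855) F63930
theorem F136247 : act 1 n88855 = n41623 := d15_1 F136246 (iv7 F136238) F136241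
def n88856 : Q := act 0 n41480
theorem D88856 : act 0 n41480 = n88856 := rfl
theorem F136248 : act 1 n41730 = n88856 := d15_0 (iv0 D88856) F63933 D41730
def n88857 : Q := act 1 n41480
theorem D88857 : act 1 n41480 = n88857 := rfl
def n88858 : Q := act 2 n41480
theorem D88858 : act 2 n41480 = n88858 := rfl
theorem F136249 : act 3 n88858 = n41747 := d0_2 D41480 D88858 (iv2 D41747) (iv3 D19642) (iv2 F63486)
theorem F136250 : act 7 n88858 = n41730 := d4_2 (iv7 F63933) D88858 (iv2 D41730)
theorem F136251 : act 1 n88858 = n41728 := d15_0 (iv0 D41728) (iv7 F63933) D88858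
theorem F136252 : act 1 n88857 = n41730 := d15_1 D88857 (iv7 F136250) (iv2 D88858)
theorem F136253 : act 1 n41729 = n88858 := d15_1 D41729 F136250 (iv2 D41730)
def n88859 : Q := act 5 n41480
theorem D88859 : act 5 n41480 = n88859 := rfl
theorem F136254 : act 3 n88859 = n41481 := d6_1 D88859 (iv5 D41481) D41480
theorem F136255 : act 7 n88859 = n41732 := d13_2 (iv7 F63933) D88859 (iv5 D41732)
def n88860 : Q := act 6 n41480
theorem D88860 : act 6 n41480 = n88860 := rfl
theorem F136256 : act 3 n88860 = n41482 := d7_1 D88860 (iv6 D41482) D41480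
def n88861 : Q := act 4 n41481
theorem D88861 : act 4 n41481 = n88861 := rfl
theorem F136257 : act 2 n88861 = n41753 := d1_1 D88861 (iv4 D41753) (iv2 F63934)
theorem F136258 : act 5 n88861 = n46608 := d9_2 D41481 D88861 (iv4 D46608) (iv5 F72997) F72998 (iv5 D40401) F31268 D41478 D88852 F136234 (iv4 D46611) (iv5 F64421) (iv4 F67812) F67813 (iv4 F58693)
theorem F136259 : act 7 n88861 = n41739 := d11_2 (iv7 F63935) D88861 (iv4 D41739)
def n88862 : Q := act 6 n41481
theorem D88862 : act 6 n41481 = n88862 := rfl
theorem F136260 : act 2 n88862 = n41754 := d3_1 D88862 (iv6 D41754) (iv2 F63934)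
def n88863 : Q := act 7 n41482
theorem D88863 : act 7 n41482 = n88863 := rfl
theorem F136262 : act 5 n88863 = n46777 := d13_1 D88863 F75254 F75251
theorem F136263 : act 6 n88863 = n41744 := d14_1 D88863 (iv7 D41744) (iv6 D19640) (iv7 F63487) D41482
theorem F136264 : act 1 n41548 = n88863 := d15_1 (iv0 F73322) (iv7 D88863) F63936
theorem F136265 : act 1 n88863 = n41755 := d15_1 F136264 (iv7 F64400) (iv2 F64110)
def n88864 : Q := act 3 n41483
theorem D88864 : act 3 n41483 = n88864 := rfl
theorem F136266 : act 5 n88864 = n88286 := d6_2 (iv5 F63937) D88864 (iv3 D88286)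
theorem F136267 : act 7 n88864 = n41762 := d8_2 (iv7 F63939) D88864 (iv3 D41762)
def n88865 : Q := act 4 n41483
theorem D88865 : act 4 n41483 = n88865 := rfl
theorem F136268 : act 2 n88865 = n41760 := d1_1 D88865 (iv4 D41760) F63938
theorem F136269 : act 5 n88865 = n46605 := d9_2 (iv5 F63937) D88865 (iv4 D46605) (iv5 D22328) D22327 F35323 F35322 D22769 D47395 F74606 (iv4 D46598) (iv5 D22324) (iv4 F17177) D19378 D41202
theorem F136270 : act 7 n88865 = n41763 := d11_2 (iv7 F63939) D88865 (iv4 D41763)
def n88866 : Q := act 6 n41483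
theorem D88866 : act 6 n41483 = n88866 := rfl
theorem F136271 : act 2 n88866 = n41761 := d3_1 D88866 (iv6 D41761) F63938
def n88867 : Q := act 0 n41484
theorem D88867 : act 0 n41484 = n88867 := rfl
theorem F136272 : act 4 n88867 = n46006 := d18_3 F35335 D41484 D88867 F72581 (iv4 D22343) F35466 (iv4 F35110) F35555 D22769
theorem F136273 : act 2 n41765 = n88867 := d15_3 (iv0 D88867) (iv0 F74754) F74752
theorem F136274 : act 1 n41769 = n88867 := d15_0 (iv0 D88867) (iv7 F63943) (iv2 F64415)
theorem F136275 : act 7 n88867 = n41766 := d15_2 F74755 F136274 (iv2 F74751)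
theorem F136276 : act 5 n46634 = n88867 := d13_3 F136275 F64409 (iv7 F73673)
def n88868 : Q := act 3 n41484
theorem D88868 : act 3 n41484 = n88868 := rfl
theorem F136277 : act 5 n88868 = n47464 := d6_2 (iv5 F63942) D88868 F74644
theorem F136278 : act 7 n88868 = n47463 := d8_2 F63943 D88868 F74643
def n88869 : Q := act 6 n41485
theorem D88869 : act 6 n41485 = n88869 := rfl
theorem F136279 : act 2 n88869 = n41770 := d3_1 D88869 (iv6 D41770) (iv2 F63944)
theorem F136280 : act 4 n88869 = n47465 := d10_1 D88869 (iv6 D47465) (iv4 F63945)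
def n88870 : Q := act 4 n41486
theorem D88870 : act 4 n41486 = n88870 := rfl
theorem F136281 : act 2 n88870 = n44145 := d1_1 D88870 F69484 F67706
theorem F136282 : act 7 n88870 = n41823 := d11_2 (iv7 F63950) D88870 (iv4 D41823)
theorem F136283 : act 5 n88870 = n43368 := d17_5 F63131 (iv5 F17014) (iv1 F63164) D41486 D88870 (iv0 D43368) (iv5 D20484) D20483 F35633
theorem F136284 : act 0 n88870 = n43528 := d17_0 (iv5 F74815) (iv1 F74816) (iv5 D42356) (iv4 F63116) D44006 (iv0 F69230) D47578 (iv0 F74826) D88870
theorem F136285 : act 1 n88870 = n44032 := d18_6 (iv1 F35661) (iv4 F15077) D20399 F35864 D41486 D88870 F69309 (iv0 F35790) (iv5 D19111)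
def n88871 : Q := act 1 n41487
theorem D88871 : act 1 n41487 = n88871 := rfl
theorem F136286 : act 7 n88871 = n41578 := d15_2 (iv0 F74808) D88871 (iv2 F72351)
theorem F136287 : act 4 n88871 = n43914 := d17_9 (iv1 F75904) F65457 (iv1 D42385) (iv5 D20010) (iv4 F15469) D20750 (iv0 F63953) F63952 D88871
theorem F136288 : act 6 n44821 = n88871 := d21_3 D22478 F68053 (iv5 F70406) (iv1 D88871) (iv6 D41487) D41486 F74826 (iv5 D47578) F63345 (iv1 D22477)
theorem F136289 : act 3 n88871 = n41965 := d7_1 F136288 (iv6 F64743) (iv3 F70405)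
theorem F136290 : act 5 n88871 = n48475 := d12_1 F136288 F76246 (iv5 F75590) (iv6 D48112) (iv5 F70406)
def n88872 : Q := act 7 n41487
theorem D88872 : act 7 n41487 = n88872 := rfl
theorem F136291 : act 3 n88872 = n41495 := d8_1 D88872 (iv7 D41495) (iv3 F63951)
theorem F136292 : act 5 n88872 = n43565 := d13_1 D88872 (iv7 F68456) F63952
theorem F136293 : act 6 n88872 = n41827 := d14_1 D88872 (iv7 D41827) (iv6 D19688) (iv7 F63513) D41487
theorem F136294 : act 0 n41578 = n88872 := d21_4 D47568 F74806 F65929 D41578 F136293 (iv5 F75268) F75276 (iv5 D42430) D42431 (iv1 F65874)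
def n88873 : Q := act 3 n41488
theorem D88873 : act 3 n41488 = n88873 := rfl
theorem F136295 : act 4 n88873 = n41967 := d5_2 (iv4 F63954) D88873 (iv3 D41967) D41968 F64755
theorem F136296 : act 6 n88873 = n46015 := d7_2 F63958 D88873 F72595
theorem F136297 : act 7 n88873 = n41522 := d8_2 (iv7 F63957) D88873 F64058
theorem F136298 : act 0 n88873 = n41908 := d20_4 D19638 (iv1 F58702) (iv4 F63954) D88873 (iv3 D41908) (iv4 D19729) (iv1 D9256) (iv4 F14425) F14424 D9231
theorem E14501 : n87539 = n41908 := (c15_1 D87539 (iv0 F136298) F136297 F64057)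
theorem F136299 : act 0 n41908 = n40745 := (sb E14501 (iv1 D87539))
theorem F136300 : act 0 n42178 = n43277 := d20_7 F64329 (iv1 F31485) D19729 D41908 F136299 (iv3 F72571) F72572 F67866 (iv3 D41692) (iv1 F64332)
theorem F136301 : act 2 n87541 = n88873 := d4_3 F136297 F64057 D87541
theorem F136302 : act 1 n88873 = n87538 := d15_0 (iv0 D87538) D87541 F136301
def n88874 : Q := act 0 n41489
theorem D88874 : act 0 n41489 = n88874 := rfl
theorem F136303 : act 2 n41829 = n88874 := d15_3 (iv0 D88874) (iv0 F64326) (iv7 F64492)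
theorem F136304 : act 1 n41830 = n88874 := d15_0 (iv0 D88874) F63959 D41830
theorem F136305 : act 7 n88874 = n41580 := d4_2 (iv7 F64492) F136303 F64174
theorem F136306 : act 6 n46266 = n88874 := d14_5 F136305 (iv6 D41580) (iv7 F31353) D22127 D46266
theorem E14502 : n46268 = n41830 := (c15_1 D46268 F136304 F136305 F64174)
theorem F136307 : act 0 n41830 = n22129 := (sb E14502 (iv1 D46268))
def n88875 : Q := act 2 n41489
theorem D88875 : act 2 n41489 = n88875 := rfl
theorem F136308 : act 3 n88875 = n41798 := d0_2 D41489 D88875 (iv2 D41798) (iv3 D19669) (iv2 F63514)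
theorem F136309 : act 7 n88875 = n41830 := d4_2 (iv7 F63959) D88875 (iv2 D41830)
theorem F136310 : act 1 n88875 = n41580 := d15_0 F64493 (iv7 F63959) D88875
theorem F136311 : act 1 n41829 = n88875 := d15_0 F136310 (iv7 F136305) (iv2 F136303)
def n88876 : Q := act 5 n41489
theorem D88876 : act 5 n41489 = n88876 := rfl
theorem F136312 : act 3 n88876 = n41490 := d6_1 D88876 (iv5 D41490) D41489
theorem F136313 : act 7 n88876 = n41831 := d13_2 (iv7 F63959) D88876 (iv5 D41831)
def n88877 : Q := act 6 n41489
theorem D88877 : act 6 n41489 = n88877 := rfl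
theorem F136314 : act 3 n88877 = n41491 := d7_1 D88877 (iv6 D41491) D41489
def n88878 : Q := act 4 n41490
theorem D88878 : act 4 n41490 = n88878 := rfl
theorem F136315 : act 2 n88878 = n41803 := d1_1 D88878 (iv4 D41803) (iv2 F63960)
theorem F136316 : act 7 n88878 = n41833 := d11_2 (iv7 F63961) D88878 (iv4 D41833)
theorem F136317 : act 5 n88878 = n46614 := d17_5 F35954 (iv5 D21982) (iv1 F63435) D41490 D88878 F73618 (iv5 F63942) (iv0 F74754) (iv4 D47552)
theorem E14503 : n47457 = n46614 := ((c2_1 F136317 F74642 (iv5 F64463) (iv2 F136315))).symm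
theorem F136318 : act 2 n46614 = n22795 := (sb E14503 F74642)
theorem F136319 : act 7 n46614 = n22794 := (sb E14503 (iv7 D47457))
theorem E14504 : n47454 = n46613 := (c15_4 (iv0 D46613) D46614 F136319 D47454)
theorem F136320 : act 2 n46613 = n22794 := (sb E14504 (iv2 D47454))
theorem F136321 : act 7 n46613 = n22795 := (sb E14504 (iv7 F74641))
def n88879 : Q := act 6 n41490
theorem D88879 : act 6 n41490 = n88879 := rfl
theorem F136322 : act 2 n88879 = n41804 := d3_1 D88879 (iv6 D41804) (iv2 F63960)
def n88880 : Q := act 1 n41491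
theorem D88880 : act 1 n41491 = n88880 := rfl
theorem F136323 : act 1 n88880 = n41808 := d15_1 D88880 (iv7 D41808) (iv2 F63962)
theorem F136324 : act 7 n88880 = n41601 := d15_2 (iv0 F72662) D88880 F65848
theorem F136325 : act 4 n88880 = n43957 := d18_7 F74589 (iv4 F74932) (iv1 F74933) (iv4 D22940) (iv5 F31271) (iv4 F63963) D88880 F69221 F69219
theorem F136326 : act 6 n46086 = n88880 := d21_3 D22265 D46470 F73393 (iv1 D88880) (iv6 D41491) D41490 F74793 (iv5 D47561) (iv6 F63021) (iv1 D22264)
theorem F136327 : act 2 n88880 = n41806 := d3_1 F136326 (iv6 F74125) F74122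
def n88881 : Q := act 5 n41491
theorem D88881 : act 5 n41491 = n88881 := rfl
theorem F136328 : act 2 n88881 = n41807 := d2_1 D88881 (iv5 D41807) (iv2 F63962)
theorem F136329 : act 0 n88881 = n46424 := d17_2 (iv1 D88880) D88881 (iv5 D46424) F34687 D37843 D82478 (iv5 F127088) F69109 (iv4 F136325)
theorem F136330 : act 1 n88881 = n46678 := d17_6 (iv1 F16610) (iv5 F34333) (iv1 F34335) (iv5 F31271) (iv4 F63963) D88881 F73773 F66540 (iv4 D10820)
theorem F136331 : act 4 n47496 = n88881 := d18_7 F66539 (iv4 D10825) (iv1 D4935) (iv4 F7346) D10775 D22813 D47496 F136330 F73773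
def n88882 : Q := act 7 n41491
theorem D88882 : act 7 n41491 = n88882 := rfl
theorem F136332 : act 2 n88882 = n41808 := d4_1 D88882 (iv7 D41808) (iv2 F63962)
theorem F136333 : act 4 n88882 = n41495 := d11_1 D88882 (iv7 D41495) (iv4 F63963)
theorem F136334 : act 6 n88882 = n41838 := d14_1 D88882 (iv7 D41838) (iv6 D19691) (iv7 F63515) D41491
theorem F136335 : act 1 n41806 = n88882 := d15_1 D41806 (iv7 D88882) F63962
theorem F136336 : act 1 n88882 = n41601 := d15_1 F136335 (iv7 F136324) F136327
theorem F136337 : act 5 n46676 = n88882 := d21_2 D22383 D46676 F136334 (iv1 F64499) (iv6 D22147) D22146 D46312 F72970 (iv6 D45746) F66482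
theorem F136338 : act 7 n88881 = n46676 := d13_0 F136337 (iv7 D88882) D88881
def n88883 : Q := act 3 n41492
theorem D88883 : act 3 n41492 = n88883 := rfl
theorem F136339 : act 7 n88883 = n41839 := d8_2 (iv7 F63965) D88883 (iv3 D41839)
theorem F136340 : act 0 n46287 = n88883 := d20_4 (iv4 F64430) F69723 (iv4 F66305) (iv3 F72946) (iv3 D88883) (iv4 D41492) (iv1 F62658) D41993 (iv3 F69214) F69217
def n88884 : Q := act 5 n41492
theorem D88884 : act 5 n41492 = n88884 := rfl
theorem F136341 : act 2 n88884 = n41812 := d2_1 D88884 (iv5 D41812) (iv2 F63964)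
theorem F136342 : act 7 n88884 = n41840 := d13_2 (iv7 F63965) D88884 (iv5 D41840)
theorem F136343 : act 0 n88884 = n46620 := d17_2 (iv1 F63997) D88884 (iv5 D46620) F35952 (iv5 F58696) F58702 D41735 F64378 (iv4 F63027)
theorem F136344 : act 1 n88884 = n42345 := d17_6 (iv1 D4865) (iv5 F6067) D9194 D19534 D41492 D88884 (iv5 D42345) F35615 (iv4 D10639)
theorem F136345 : act 4 n88884 = n46613 := d18_5 (iv1 F64795) F34636 F34631 D41492 D88884 (iv0 D46613) (iv4 D22332) D22331 (iv5 F64421)
def n88885 : Q := act 7 n41497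
theorem D88885 : act 7 n41497 = n88885 := rfl
theorem F136346 : act 3 n88885 = n41503 := d8_1 D88885 (iv7 D41503) (iv3 F63985)
theorem F136347 : act 4 n88885 = n44266 := d11_1 D88885 F69665 (iv4 F63986)
theorem F136348 : act 5 n88885 = n46653 := d13_1 D88885 (iv7 F75185) F75179
theorem F136349 : act 6 n88885 = n41793 := d14_1 D88885 (iv7 D41793) (iv6 D19665) (iv7 F63502) D41497
theorem F136350 : act 1 n41509 = n88885 := d15_1 (iv0 F135830) (iv7 D88885) (iv2 F135826)
def n88886 : Q := act 0 n41498
theorem D88886 : act 0 n41498 = n88886 := rfl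
theorem F136351 : act 1 n41798 = n88886 := d15_0 (iv0 D88886) F63988 D41798
def n88887 : Q := act 1 n41498
theorem D88887 : act 1 n41498 = n88887 := rfl
def n88888 : Q := act 2 n41498
theorem D88888 : act 2 n41498 = n88888 := rfl
theorem F136352 : act 3 n88888 = n41830 := d0_2 D41498 D88888 (iv2 D41830) (iv3 D19689) (iv2 F63504)
theorem F136353 : act 4 n88888 = n86986 := d1_2 (iv4 F63987) D88888 (iv2 D86986)
theorem F136354 : act 7 n88888 = n41798 := d4_2 (iv7 F63988) D88888 (iv2 D41798)
theorem F136355 : act 1 n88888 = n41796 := d15_0 (iv0 D41796) (iv7 F63988) D88888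
theorem F136356 : act 1 n88887 = n41798 := d15_1 D88887 (iv7 F136354) (iv2 D88888)
def n88889 : Q := act 5 n41498
theorem D88889 : act 5 n41498 = n88889 := rfl
theorem F136359 : act 7 n88889 = n41799 := d13_2 (iv7 F63988) D88889 (iv5 D41799)
def n88890 : Q := act 6 n41498
theorem D88890 : act 6 n41498 = n88890 := rfl
theorem F136360 : act 3 n88890 = n41500 := d7_1 D88890 (iv6 D41500) D41498
theorem F136361 : act 4 n88890 = n86988 := d10_1 D88890 (iv6 D86988) (iv4 F63987)
def n88891 : Q := act 4 n41499
theorem D88891 : act 4 n41499 = n88891 := rfl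
theorem F136362 : act 2 n88891 = n41833 := d1_1 D88891 (iv4 D41833) (iv2 F63989)
theorem F136363 : act 7 n88891 = n41803 := d11_2 (iv7 F63990) D88891 (iv4 D41803)
theorem F136364 : act 5 n88891 = n46613 := d16_1 D88891 (iv4 F136345) (iv5 D88884) (iv4 D41492) (iv5 D19534) D19533 D41490 F63961 (iv2 F63989)
def n88892 : Q := act 6 n41499
theorem D88892 : act 6 n41499 = n88892 := rfl
theorem F136365 : act 2 n88892 = n41834 := d3_1 D88892 (iv6 D41834) (iv2 F63989)
def n88893 : Q := act 5 n41500
theorem D88893 : act 5 n41500 = n88893 := rfl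
theorem F136366 : act 2 n88893 = n41837 := d2_1 D88893 (iv5 D41837) (iv2 F63991)
theorem F136367 : act 0 n88893 = n42517 := d17_2 (iv1 F64500) D88893 (iv5 D42517) (iv4 D20074) D20075 D42520 F66362 F72969 F72966
theorem F136368 : act 1 n88893 = n46438 := d17_6 F65658 D10882 D23097 F65680 (iv4 F63992) D88893 (iv5 D46438) (iv0 D22240) F17118
theorem F136369 : act 7 n46746 = n88893 := d15_2 F64497 D46746 F136366
def n88894 : Q := act 7 n41500
theorem D88894 : act 7 n41500 = n88894 := rfl
theorem F136371 : act 4 n88894 = n41503 := d11_1 D88894 (iv7 D41503) (iv4 F63992)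
theorem F136372 : act 5 n88894 = n46746 := d13_1 D88894 F136369 (iv5 D88893)
theorem F136373 : act 6 n88894 = n41808 := d14_1 D88894 (iv7 D41808) (iv6 D19671) (iv7 F63505) D41500
theorem F136374 : act 1 n41538 = n88894 := d15_1 (iv0 F73880) (iv7 D88894) F63991
theorem F136375 : act 1 n88894 = n41835 := d15_1 F136374 F73312 (iv2 F64089)
def n88895 : Q := act 3 n41501
theorem D88895 : act 3 n41501 = n88895 := rfl
theorem F136376 : act 4 n88895 = n88263 := d5_2 D41501 D88895 F135183 (iv4 F63982) F63980
theorem F136377 : act 6 n88895 = n41845 := d7_2 (iv6 F63994) D88895 (iv3 D41845)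
theorem F136378 : act 7 n88895 = n41811 := d8_2 (iv7 F63995) D88895 (iv3 D41811)
def n88896 : Q := act 5 n41501
theorem D88896 : act 5 n41501 = n88896 := rfl
theorem F136379 : act 2 n88896 = n41840 := d2_1 D88896 (iv5 D41840) (iv2 F63993)
theorem F136380 : act 4 n88896 = n46614 := d9_1 D88896 (iv5 F136317) (iv4 D88878) (iv5 D41490) (iv4 D19533) D19534 D41492 D88884 F136345 (iv5 F136364) (iv4 D88891) (iv5 D41499) (iv4 D19538) D19539 D41501
theorem F136381 : act 7 n88896 = n41812 := d13_2 (iv7 F63995) D88896 (iv5 D41812)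
theorem F136382 : act 0 n88896 = n42345 := d17_2 F74743 D88896 (iv5 D42345) F31809 (iv5 F17013) (iv0 F58698) D41751 F127436 F127434
theorem F136383 : act 1 n88896 = n46620 := d17_6 (iv1 F7036) (iv5 F6076) (iv1 F14341) D19539 D41501 D88896 (iv5 D46620) (iv0 D22339) (iv4 D10635)
def n88898 : Q := act 0 n41506
theorem D88898 : act 0 n41506 = n88898 := rfl
theorem F136391 : act 1 n81874 = n88898 := d15_0 (iv0 D88898) (iv7 F69703) (iv2 F125897)
theorem F136392 : act 4 n45801 = n88898 := d20_0 (iv1 F136391) (iv4 F126453) F126452 (iv1 F72933) F66229 (iv4 F66230) (iv1 D10449) (iv4 F16643) (iv3 F34391) D45801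
def n88899 : Q := act 1 n41506
theorem D88899 : act 1 n41506 = n88899 := rfl
theorem F136393 : act 1 n88899 = n81874 := d15_1 D88899 (iv7 D81874) (iv2 F64017)
def n88900 : Q := act 5 n41506
theorem D88900 : act 5 n41506 = n88900 := rfl
theorem F136394 : act 2 n88900 = n81873 := d2_1 D88900 (iv5 D81873) (iv2 F64017)
theorem F136395 : act 3 n88900 = n41507 := d6_1 D88900 (iv5 D41507) (iv3 F64018)
theorem F136396 : act 6 n88900 = n56626 := d12_2 D41506 D88900 (iv5 D56626) (iv6 D27227) (iv5 F31279)
def n88901 : Q := act 0 n41507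
theorem D88901 : act 0 n41507 = n88901 := rfl
theorem F136397 : act 5 n88901 = n43669 := d17_3 (iv1 F62362) D41507 D88901 F68625 F32774 (iv0 F62544) (iv5 D9042) D9041 D19240
theorem F136399 : act 2 n86952 = n88901 := d2_3 F136397 (iv2 F135252) F135255
theorem F136400 : act 3 n41671 = n88901 := d6_3 F136397 F68624 (iv5 F66311)
theorem F136402 : act 4 n87590 = n88901 := d18_3 (iv1 D40770) D40771 D87590 F136397 F68625 F62487 (iv4 F36532) (iv0 F135270) F75741
def n88902 : Q := act 1 n41507
theorem D88902 : act 1 n41507 = n88902 := rfl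
theorem F136403 : act 1 n88902 = n44260 := d15_1 D88902 F69651 (iv2 F64020)
theorem F136405 : act 5 n43656 = n88902 := d21_6 D9226 (iv1 F17261) (iv5 D10736) D10737 F62730 D43656 (iv1 D88902) (iv5 D41507) (iv6 D19543) F14356
theorem F136407 : act 4 n87591 = n88902 := d18_7 F62581 (iv4 D19240) (iv1 D9041) (iv4 F14117) D19231 D40771 D87591 F136403 (iv5 D44260)
def n88903 : Q := act 4 n41507
theorem D88903 : act 4 n41507 = n88903 := rfl
theorem F136409 : act 6 n88903 = n88102 := d10_2 (iv6 F64021) D88903 (iv4 D88102)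
def n88908 : Q := act 3 n41514
theorem D88908 : act 3 n41514 = n88908 := rfl
theorem F136423 : act 6 n88908 = n44349 := d7_2 (iv6 F64035) D88908 (iv3 D44349)
def n88910 : Q := act 6 n41516
theorem D88910 : act 6 n41516 = n88910 := rfl
theorem F136426 : act 2 n88910 = n45992 := d3_1 D88910 (iv6 D45992) (iv2 F69351)
theorem F136427 : act 3 n88910 = n88805 := d7_1 D88910 (iv6 D88805) (iv3 F64041)
def n88911 : Q := act 5 n41517
theorem D88911 : act 5 n41517 = n88911 := rfl
theorem F136428 : act 2 n88911 = n45989 := d2_1 D88911 (iv5 D45989) F69352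
theorem F136429 : act 3 n88911 = n82956 := d6_1 D88911 F127855 (iv3 F70307)
theorem F136430 : act 7 n88911 = n45991 := d13_2 (iv7 F69353) D88911 (iv5 D45991)
theorem F136431 : act 0 n88911 = n41528 := d17_2 (iv1 F64047) D88911 F64066 F31806 D19984 (iv0 F65289) F65287 F32450 (iv4 F34477)
theorem F136432 : act 1 n88911 = n46050 := d17_6 (iv1 F74310) F74311 F82943 F82940 F69380 D88911 F72632 F65380 (iv4 F68207)
theorem F136433 : act 4 n88911 = n60250 := d18_5 D40368 (iv4 F106031) F106030 F69380 D88911 (iv0 D60250) (iv4 F74316) F74317 F35261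
def n88912 : Q := act 6 n41517
theorem D88912 : act 6 n41517 = n88912 := rfl
theorem F136434 : act 2 n88912 = n45990 := d3_1 D88912 (iv6 D45990) F69352
theorem F136435 : act 3 n88912 = n87335 := d7_1 D88912 (iv6 D87335) (iv3 F70307)
def n88913 : Q := act 6 n41518
theorem D88913 : act 6 n41518 = n88913 := rfl
theorem F136436 : act 2 n88913 = n41519 := d3_1 D88913 (iv6 D41519) D41518
theorem F136437 : act 3 n88913 = n46009 := d7_1 D88913 (iv6 D46009) (iv3 F64043)
theorem F136438 : act 4 n88913 = n43272 := d10_1 D88913 (iv6 D43272) (iv4 F64044)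
theorem F136439 : act 0 n43272 = n42183 := d20_7 F61382 (iv1 F30595) D19093 D40422 (iv1 F72598) (iv3 F136437) F136438 F65116 (iv3 D40382) (iv1 F61384)
theorem F136440 : act 0 n76477 = n44734 := d20_1 D76477 F70320 (iv3 F67851) F136439 (iv3 D42183) (iv4 F63433) (iv1 F63165) (iv4 F63215) (iv3 F69386) (iv1 F69391)
theorem E14505 : n52996 = n16940 := (c18_8 (iv1 F69391) D76477 F136440 F70320 (iv5 D25558) (iv4 F20211) D25722 D52996 F55140 (iv5 F69388))
theorem E14506 : n34929 = n25722 := ((D34929).symm.trans (sb E14505 (iv4 D52996)))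
theorem E14507 : n76441 = n12214 := ((((iv1 D25722)).symm.trans (sb E14506 (iv1 F114593)))).symm
theorem E14509 : n76445 = n52994 := ((((iv2 F83719)).symm.trans (sb E14506 (iv2 F114595)))).symm
theorem F136441 : act 4 n25722 = n16940 := (sb E14506 (iv4 D34929))
theorem E14512 : n76464 = n52998 := (((D52998).symm.trans (sb E14506 D76464))).symm
theorem E14513 : n76430 = n52989 := (((F83718).symm.trans (sb E14506 (iv7 F114586)))).symm
theorem E14514 : n34924 = n25721 := (((D25721).symm.trans (sb E14507 (iv1 D76441)))).symm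
theorem F136442 : act 4 n52994 = n34927 := (sb E14509 F114596)
theorem F136443 : act 4 n52998 = n34931 := (sb E14512 F114608)
theorem F136444 : act 4 n52989 = n34922 := (sb E14513 (iv4 D76430))
theorem E14516 : n52991 = n16939 := ((D52991).symm.trans (sb E14514 (iv4 D34924)))
theorem E14518 : n76444 = n52993 := (((D52993).symm.trans (sb E14514 D76444))).symm
theorem F136445 : act 4 n16939 = n25721 := (sb E14516 (iv4 D52991))
theorem F136446 : act 4 n52993 = n34926 := (sb E14518 F114594)
theorem F136447 : act 1 n76477 = n44741 := d15_1 (iv0 F136440) (iv7 D44741) (iv2 F70319)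
theorem F136448 : act 0 n45364 = n44686 := d20_4 (iv4 D76477) (iv1 D34933) D34934 (iv3 F71519) (iv3 D44686) F63701 (iv1 F61801) (iv4 F33520) (iv3 F70333) (iv1 F136447)
theorem E14519 : n46264 = n41852 := ((c20_4 F63719 (iv1 F31137) D19704 D41852 (iv1 D46264) (iv3 F72924) F72925 F136448 F70259 (iv3 D41772) (iv1 F63722))).symm
theorem F136449 : act 0 n41852 = n22127 := (sb E14519 (iv1 D46264))
theorem F136450 : act 0 n76472 = n44741 := d20_1 D76472 F70334 F65051 (iv1 F32468) D43280 F67874 F136449 F55274 F55272 D34932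
theorem F136451 : act 2 n88602 = n46263 := d15_3 (iv0 D46263) (iv0 F136449) (iv7 F135772)
theorem E14520 : n76471 = n44050 := ((c20_5 F35855 F63702 (iv4 F15684) (iv3 F33094) D44050 (iv3 D76471) D76472 F136450 F70334 F65051 (iv1 F32468))).symm
theorem F136452 : act 3 n44050 = n34932 := (sb E14520 (iv3 D76471))
theorem E14521 : n75146 = n48734 := ((c17_9 (iv1 F54602) (iv5 F83502) (iv1 F112693) (iv5 F112694) F136446 D76453 (iv0 F114604) F83399 F76743 (iv4 D75146))).symm
theorem F136453 : act 4 n48734 = n34412 := (sb E14521 (iv4 D75146))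
theorem F136454 : act 4 n52793 = n52848 := d17_4 (iv1 F43583) (iv5 F88592) (iv1 F88594) (iv5 F83720) F83499 F69391 F69388 F55141 F136445
theorem E14522 : n52846 = n25624 := (c10_4 D52793 F136454 (iv6 D52848) D52846)
theorem E14523 : n52791 = n25650 := ((D52791).symm.trans (sb E14522 (iv4 D52846)))
theorem F136455 : act 4 n25650 = n25624 := (sb E14523 (iv4 D52791))
theorem F136456 : act 4 n52789 = n52844 := d1_2 F136455 D52789 (iv2 D52844)
theorem F136457 : act 4 n52794 = n52849 := d11_3 (iv7 D52849) F136455 D52794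
theorem E14524 : n52851 = n25625 := (c1_3 F136457 F83500 D52851 (iv2 F83397))
theorem E14525 : n52796 = n25651 := ((D52796).symm.trans (sb E14524 (iv4 D52851)))
theorem F136458 : act 4 n25651 = n25625 := (sb E14525 (iv4 D52796))
theorem F136459 : act 4 n52798 = n52853 := d10_3 (iv6 D52853) F136458 D52798
def n88914 : Q := act 0 n41519
theorem D88914 : act 0 n41519 = n88914 := rfl
def n88915 : Q := act 1 n41519
theorem D88915 : act 1 n41519 = n88915 := rfl
def n88916 : Q := act 5 n41519
theorem D88916 : act 5 n41519 = n88916 := rfl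
theorem F136460 : act 3 n88916 = n41520 := d6_1 D88916 (iv5 D41520) (iv3 F64049)
def n88917 : Q := act 7 n41519
theorem D88917 : act 7 n41519 = n88917 := rfl
theorem F136461 : act 3 n88917 = n41521 := d8_1 D88917 (iv7 D41521) (iv3 F64049)
theorem F136462 : act 4 n88917 = n43275 := d11_1 D88917 (iv7 D43275) (iv4 F64050)
theorem F136463 : act 6 n88917 = n41794 := d14_1 D88917 F64453 (iv6 D21978) (iv7 F31289) D41519
def n88918 : Q := act 0 n41520
theorem D88918 : act 0 n41520 = n88918 := rfl
theorem F136464 : act 2 n46020 = n88918 := d15_3 (iv0 D88918) (iv0 F74884) F74882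
theorem F136465 : act 7 n88918 = n46021 := d4_2 F74882 F136464 (iv2 F74881)
def n88919 : Q := act 4 n41520
theorem D88919 : act 4 n41520 = n88919 := rfl
theorem F136467 : act 2 n88919 = n46022 := d1_1 D88919 (iv4 D46022) (iv2 F64051)
def n88920 : Q := act 7 n41520
theorem D88920 : act 7 n41520 = n88920 := rfl
theorem F136468 : act 2 n88920 = n46023 := d4_1 D88920 (iv7 D46023) (iv2 F64051)
theorem F136469 : act 5 n88920 = n41521 := d13_1 D88920 (iv7 D41521) D41520
theorem F136470 : act 1 n46021 = n88920 := d15_1 D46021 (iv7 D88920) F64051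
theorem F136471 : act 1 n88920 = n46020 := d15_1 F136470 (iv7 F74882) F74881
def n88921 : Q := act 0 n41522
theorem D88921 : act 0 n41522 = n88921 := rfl
theorem F136472 : act 3 n88921 = n41889 := d20_5 F58693 (iv1 D37848) (iv4 F31297) (iv3 F64058) D88921 (iv4 D41889) F31477 (iv4 F31401) F31400 (iv1 F31262)
theorem F136473 : act 4 n88921 = n45342 := d20_8 F33503 (iv1 F63239) (iv4 F31576) (iv3 D19805) (iv1 F35816) (iv3 F33511) (iv4 F64059) D88921 (iv3 D45342) (iv1 F34033)
theorem F136474 : act 1 n87541 = n88921 := d15_0 (iv0 D88921) (iv7 F136297) (iv2 F136301)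
theorem F136475 : act 7 n41908 = n88921 := d11_0 F136473 F71444 F70264
theorem F136476 : act 2 n88921 = n87538 := d15_3 (iv0 D87538) (iv0 F136299) F136475
theorem F136477 : act 6 n87033 = n88921 := d7_0 F136472 F64590 D87033
def n88922 : Q := act 1 n41522
theorem D88922 : act 1 n41522 = n88922 := rfl
theorem F136478 : act 1 n88922 = n87541 := d15_1 D88922 (iv7 D87541) (iv2 F64057)
theorem F136479 : act 7 n88922 = n87538 := d15_2 (iv0 D88921) D88922 (iv2 F136476)
theorem F136480 : act 2 n41908 = n88922 := d4_3 F136479 (iv2 F136476) (iv7 F136475)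
def n88923 : Q := act 5 n41522
theorem D88923 : act 5 n41522 = n88923 := rfl
theorem F136481 : act 2 n88923 = n87540 := d2_1 D88923 (iv5 D87540) (iv2 F64057)
theorem F136482 : act 3 n88923 = n41523 := d6_1 D88923 (iv5 D41523) (iv3 F64058)
def n88924 : Q := act 4 n41523
theorem D88924 : act 4 n41523 = n88924 := rfl
theorem F136483 : act 2 n88924 = n46007 := d1_1 D88924 (iv4 D46007) (iv2 F64060)
theorem F136484 : act 5 n88924 = n47516 := d16_1 D88924 (iv4 D47516) (iv5 D22832) (iv4 F34854) F35621 (iv4 F35657) D41795 F64454 (iv2 F64060)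
theorem F136485 : act 0 n88924 = n88865 := d18_2 (iv1 F64062) D88924 (iv4 D88865) F63937 (iv4 D41202) D41201 (iv4 F62390) F35557 D22892
theorem F136486 : act 1 n88924 = n47395 := d18_6 (iv1 F31262) F58693 (iv1 D37848) (iv4 F31297) D41523 D88924 (iv4 D47395) F35336 F31409
def n88925 : Q := act 2 n41524
theorem D88925 : act 2 n41524 = n88925 := rfl
theorem F136487 : act 7 n41525 = n88925 := d15_2 (iv0 D41524) D41525 (iv2 D88925)
def n88926 : Q := act 5 n41524
theorem D88926 : act 5 n41524 = n88926 := rfl
theorem F136488 : act 3 n88926 = n87373 := d6_1 D88926 (iv5 D87373) F72621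
def n88927 : Q := act 6 n41524
theorem D88927 : act 6 n41524 = n88927 := rfl
theorem F136489 : act 3 n88927 = n87374 := d7_1 D88927 (iv6 D87374) F72621
def n88928 : Q := act 7 n41524
theorem D88928 : act 7 n41524 = n88928 := rfl
theorem F136490 : act 2 n88928 = n41525 := d4_1 D88928 F136487 (iv2 D88925)
theorem F136491 : act 3 n88928 = n87375 := d8_1 D88928 (iv7 D87375) F72621
def n88929 : Q := act 3 n41525
theorem D88929 : act 3 n41525 = n88929 := rfl
theorem F136492 : act 2 n88929 = n87376 := d0_1 D88929 (iv3 D87376) (iv2 F134149) (iv3 F136491) F136490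
theorem F136493 : act 4 n88929 = n87376 := d5_2 F72615 D88929 (iv3 D87376) D87377 (iv3 F134151)
def n88930 : Q := act 5 n41525
theorem D88930 : act 5 n41525 = n88930 := rfl
def n88931 : Q := act 6 n41525
theorem D88931 : act 6 n41525 = n88931 := rfl
def n88932 : Q := act 0 n41526
theorem D88932 : act 0 n41526 = n88932 := rfl
def n88933 : Q := act 1 n41526
theorem D88933 : act 1 n41526 = n88933 := rfl
def n88934 : Q := act 4 n41526
theorem D88934 : act 4 n41526 = n88934 := rfl
def n88935 : Q := act 7 n41526
theorem D88935 : act 7 n41526 = n88935 := rfl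
theorem F136495 : act 5 n88935 = n41527 := d13_1 D88935 (iv7 D41527) D41526
def n88936 : Q := act 2 n41528
theorem D88936 : act 2 n41528 = n88936 := rfl
theorem F136496 : act 3 n88936 = n46057 := d0_2 D41528 D88936 (iv2 D46057) (iv3 D22002) F31302
theorem F136497 : act 5 n88936 = n42343 := d2_2 (iv5 F64066) D88936 (iv2 D42343)
theorem F136498 : act 7 n88936 = n46050 := d4_2 (iv7 F64067) D88936 (iv2 D46050)
theorem F136499 : act 1 n88936 = n45989 := d15_0 F83054 (iv7 F64067) D88936
theorem F136500 : act 1 n45991 = n88936 := d15_0 F136499 (iv7 F129798) F129796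
def n88937 : Q := act 6 n41528
theorem D88937 : act 6 n41528 = n88937 := rfl
theorem F136501 : act 3 n88937 = n41529 := d7_1 D88937 (iv6 D41529) D41528
def n88938 : Q := act 0 n41529
theorem D88938 : act 0 n41529 = n88938 := rfl
def n88939 : Q := act 1 n41529
theorem D88939 : act 1 n41529 = n88939 := rfl
theorem F136502 : act 1 n88939 = n46063 := d15_1 D88939 (iv7 D46063) (iv2 F64068)
def n88940 : Q := act 5 n41529
theorem D88940 : act 5 n41529 = n88940 := rfl
theorem F136503 : act 2 n88940 = n46062 := d2_1 D88940 (iv5 D46062) (iv2 F64068)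
theorem F136504 : act 6 n88940 = n42345 := d12_2 D41529 D88940 (iv5 D42345) (iv6 D19978) (iv5 F31299)
def n88941 : Q := act 7 n41529
theorem D88941 : act 7 n41529 = n88941 := rfl
theorem F136505 : act 2 n88941 = n46063 := d4_1 D88941 (iv7 D46063) (iv2 F64068)
theorem F136506 : act 4 n88941 = n82553 := d11_1 D88941 (iv7 D82553) (iv4 F64069)
theorem F136507 : act 6 n88941 = n46056 := d14_1 D88941 (iv7 D46056) (iv6 D22001) F31303 D41529
theorem F136508 : act 1 n46063 = n88938 := d15_0 (iv0 D88938) D88941 F136505
theorem F136509 : act 1 n46061 = n88941 := d15_1 D46061 (iv7 D88941) F64068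
theorem F136510 : act 1 n88941 = n46060 := d15_0 (iv0 D46060) D46063 (iv2 F136505)
def n88942 : Q := act 4 n41530
theorem D88942 : act 4 n41530 = n88942 := rfl
theorem F136511 : act 2 n88942 = n86455 := d1_1 D88942 F132575 (iv2 F64074)
theorem F136512 : act 3 n88942 = n77629 := d5_1 D88942 (iv4 D77629) F56155 (iv4 F31307) D41530
theorem F136513 : act 7 n88942 = n46058 := d11_2 (iv7 F64071) D88942 (iv4 D46058)
theorem F136514 : act 0 n88942 = n86565 := d17_0 F132808 F135088 F135086 (iv4 D87878) F62134 F34489 D40353 (iv0 F64072) D88942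
def n88943 : Q := act 6 n41530
theorem D88943 : act 6 n41530 = n88943 := rfl
theorem F136515 : act 2 n88943 = n87544 := d3_1 D88943 (iv6 D87544) (iv2 F64074)
theorem F136516 : act 3 n88943 = n41531 := d7_1 D88943 (iv6 D41531) D41530
def n88944 : Q := act 0 n41531
theorem D88944 : act 0 n41531 = n88944 := rfl
def n88945 : Q := act 1 n41531
theorem D88945 : act 1 n41531 = n88945 := rfl
theorem F136517 : act 1 n88945 = n46056 := d15_1 D88945 (iv7 D46056) (iv2 F64076)
def n88946 : Q := act 5 n41531
theorem D88946 : act 5 n41531 = n88946 := rfl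
theorem F136518 : act 2 n88946 = n46055 := d2_1 D88946 (iv5 D46055) (iv2 F64076)
theorem F136519 : act 6 n88946 = n46424 := d12_2 D41531 D88946 (iv5 D46424) (iv6 D22234) (iv5 F31306)
def n88947 : Q := act 7 n41531
theorem D88947 : act 7 n41531 = n88947 := rfl
theorem F136520 : act 2 n88947 = n46056 := d4_1 D88947 (iv7 D46056) (iv2 F64076)
theorem F136521 : act 4 n88947 = n82557 := d11_1 D88947 (iv7 D82557) (iv4 F64077)
theorem F136522 : act 6 n88947 = n46063 := d14_1 D88947 (iv7 D46063) (iv6 D22003) (iv7 F31305) D41531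
theorem F136523 : act 1 n46056 = n88944 := d15_0 (iv0 D88944) D88947 F136520
theorem F136525 : act 1 n88947 = n46053 := d15_0 (iv0 D46053) D46056 (iv2 F136520)
def n88948 : Q := act 2 n41532
theorem D88948 : act 2 n41532 = n88948 := rfl
theorem F136526 : act 7 n41533 = n88948 := d15_2 (iv0 D41532) D41533 (iv2 D88948)
def n88949 : Q := act 3 n41532
theorem D88949 : act 3 n41532 = n88949 := rfl
def n88950 : Q := act 4 n41532
theorem D88950 : act 4 n41532 = n88950 := rfl
def n88951 : Q := act 5 n41532
theorem D88951 : act 5 n41532 = n88951 := rfl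
def n88952 : Q := act 6 n41532
theorem D88952 : act 6 n41532 = n88952 := rfl
theorem F136527 : act 5 n88952 = n46891 := d21_6 F17212 (iv1 D9201) D9203 D19555 D41532 D88952 (iv1 D46891) (iv5 D22520) (iv6 D10691) (iv1 F17210)
def n88953 : Q := act 7 n41532
theorem D88953 : act 7 n41532 = n88953 := rfl
theorem F136528 : act 2 n88953 = n41533 := d4_1 D88953 F136526 (iv2 D88948)
def n88954 : Q := act 3 n41533
theorem D88954 : act 3 n41533 = n88954 := rfl
def n88955 : Q := act 4 n41533
theorem D88955 : act 4 n41533 = n88955 := rfl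
def n88956 : Q := act 5 n41533
theorem D88956 : act 5 n41533 = n88956 := rfl
def n88957 : Q := act 6 n41533
theorem D88957 : act 6 n41533 = n88957 := rfl
def n88958 : Q := act 0 n41534
theorem D88958 : act 0 n41534 = n88958 := rfl
theorem F136529 : act 1 n46305 = n88958 := d15_0 (iv0 D88958) (iv7 F131706) F131704
def n88959 : Q := act 1 n41534
theorem D88959 : act 1 n41534 = n88959 := rfl
theorem F136530 : act 1 n88959 = n46305 := d15_1 D88959 (iv7 D46305) (iv2 F64079)
def n88960 : Q := act 4 n41534
theorem D88960 : act 4 n41534 = n88960 := rfl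
def n88961 : Q := act 0 n41536
theorem D88961 : act 0 n41536 = n88961 := rfl
theorem F136533 : act 1 n46319 = n88961 := d15_0 (iv0 D88961) F64086 D46319
def n88962 : Q := act 1 n41536
theorem D88962 : act 1 n41536 = n88962 := rfl
def n88963 : Q := act 2 n41536
theorem D88963 : act 2 n41536 = n88963 := rfl
theorem F136535 : act 7 n88963 = n46319 := d4_2 (iv7 F64086) D88963 (iv2 D46319)
theorem F136536 : act 1 n88963 = n46317 := d15_0 (iv0 D46317) (iv7 F64086) D88963
theorem F136537 : act 1 n88962 = n46319 := d15_1 D88962 (iv7 F136535) (iv2 D88963)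
theorem F136538 : act 1 n46318 = n88963 := d15_1 D46318 F136535 (iv2 D46319)
def n88964 : Q := act 5 n41536
theorem D88964 : act 5 n41536 = n88964 := rfl
theorem F136540 : act 7 n88964 = n46320 := d13_2 (iv7 F64086) D88964 (iv5 D46320)
def n88965 : Q := act 6 n41536
theorem D88965 : act 6 n41536 = n88965 := rfl
theorem F136541 : act 3 n88965 = n41538 := d7_1 D88965 (iv6 D41538) D41536
def n88966 : Q := act 1 n41537
theorem D88966 : act 1 n41537 = n88966 := rfl
theorem F136542 : act 1 n88966 = n41540 := d15_1 D88966 F64093 (iv2 F64087)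
def n88968 : Q := act 6 n41537
theorem D88968 : act 6 n41537 = n88968 := rfl
def n88969 : Q := act 1 n41539
theorem D88969 : act 1 n41539 = n88969 := rfl
theorem F136548 : act 7 n88969 = n46008 := d15_2 (iv0 F66332) D88969 F72586
theorem F136549 : act 2 n43988 = n88969 := d4_3 F136548 F72586 (iv7 F69179)
theorem F136550 : act 3 n87366 = n88969 := d8_3 F136548 F72587 D87366
theorem F136551 : act 6 n46087 = n88969 := d14_5 F136548 (iv6 D46008) F34482 D40747 (iv7 F72651)
theorem F136552 : act 1 n88969 = n46307 := d15_0 F72954 (iv7 F69179) F136549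
def n88970 : Q := act 2 n41539
theorem D88970 : act 2 n41539 = n88970 := rfl
theorem F136553 : act 3 n88970 = n46319 := d0_2 D41539 D88970 (iv2 D46319) (iv3 D22149) (iv2 F62914)
theorem F136554 : act 7 n88970 = n46307 := d4_2 (iv7 F64091) D88970 (iv2 D46307)
theorem F136555 : act 1 n88970 = n43988 := d15_0 (iv0 F69180) (iv7 F64091) D88970
theorem F136556 : act 1 n46008 = n88970 := d15_0 F136555 F69179 (iv2 F72586)
theorem F136557 : act 0 n44140 = n43224 := d20_7 (iv4 D19189) (iv1 F66170) D20879 D43988 (iv1 F136555) F136553 F72973 F67716 F64307 F66208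
def n88971 : Q := act 5 n41539
theorem D88971 : act 5 n41539 = n88971 := rfl
theorem F136558 : act 3 n88971 = n41540 := d6_1 D88971 (iv5 D41540) D41539
theorem F136559 : act 7 n88971 = n46308 := d13_2 (iv7 F64091) D88971 (iv5 D46308)
def n88972 : Q := act 6 n41539
theorem D88972 : act 6 n41539 = n88972 := rfl
theorem F136560 : act 3 n88972 = n41541 := d7_1 D88972 (iv6 D41541) D41539
def n88973 : Q := act 4 n41540
theorem D88973 : act 4 n41540 = n88973 := rfl
def n88974 : Q := act 6 n41540
theorem D88974 : act 6 n41540 = n88974 := rfl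
theorem F136563 : act 2 n88974 = n46323 := d3_1 D88974 (iv6 D46323) (iv2 F64092)
def n88975 : Q := act 3 n41542
theorem D88975 : act 3 n41542 = n88975 := rfl
theorem F136564 : act 7 n88975 = n46329 := d8_2 (iv7 F72984) D88975 (iv3 D46329)
def n88976 : Q := act 4 n41542
theorem D88976 : act 4 n41542 = n88976 := rfl
theorem F136565 : act 2 n88976 = n46326 := d1_1 D88976 (iv4 D46326) (iv2 F72983)
theorem F136567 : act 1 n88976 = n82690 := d18_6 F73016 (iv4 F68137) (iv1 F127442) F127441 F74784 D88976 (iv4 D82690) D82689 (iv5 F127394)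
def n88977 : Q := act 6 n41542
theorem D88977 : act 6 n41542 = n88977 := rfl
theorem F136568 : act 2 n88977 = n46328 := d3_1 D88977 (iv6 D46328) (iv2 F72983)
def n88978 : Q := act 3 n41543
theorem D88978 : act 3 n41543 = n88978 := rfl
theorem F136569 : act 5 n88978 = n46897 := d6_2 F64099 D88978 F74099
theorem F136570 : act 7 n88978 = n46325 := d8_2 F72981 D88978 (iv3 D46325)
def n88980 : Q := act 6 n41543
theorem D88980 : act 6 n41543 = n88980 := rfl
theorem F136574 : act 2 n88980 = n46332 := d3_1 D88980 (iv6 D46332) (iv2 F72982)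
theorem F136575 : act 5 n88980 = n46903 := d12_1 D88980 (iv6 D46903) (iv5 D22525) D22526 F64099
def n88986 : Q := act 6 n41545
theorem D88986 : act 6 n41545 = n88986 := rfl
theorem F136593 : act 5 n88986 = n46110 := d12_1 D88986 (iv6 D46110) F34504 (iv6 F31314) (iv5 F64102)
def n88987 : Q := act 0 n41546
theorem D88987 : act 0 n41546 = n88987 := rfl
theorem F136594 : act 1 n43990 = n88987 := d15_0 (iv0 D88987) F64107 (iv2 F69185)
def n88988 : Q := act 1 n41546
theorem D88988 : act 1 n41546 = n88988 := rfl
theorem F136595 : act 1 n88988 = n43990 := d15_1 D88988 F69187 F66323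
def n88989 : Q := act 5 n41546
theorem D88989 : act 5 n41546 = n88989 := rfl
theorem F136596 : act 2 n88989 = n87431 := d2_1 D88989 (iv5 D87431) F66323
theorem F136598 : act 7 n88989 = n46341 := d13_2 (iv7 F64107) D88989 (iv5 D46341)
def n88990 : Q := act 6 n41546
theorem D88990 : act 6 n41546 = n88990 := rfl
theorem F136599 : act 2 n88990 = n87432 := d3_1 D88990 (iv6 D87432) F66323
theorem F136600 : act 3 n88990 = n41548 := d7_1 D88990 (iv6 D41548) D41546
def n89013 : Q := act 6 n41560
theorem D89013 : act 6 n41560 = n89013 := rfl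
theorem F136648 : act 2 n89013 = n46133 := d3_1 D89013 (iv6 D46133) F64148
theorem F136649 : act 5 n89013 = n76529 := d12_1 D89013 (iv6 D76529) (iv5 D34959) D34960 (iv5 F64147)
def n89014 : Q := act 6 n41561
theorem D89014 : act 6 n41561 = n89014 := rfl
theorem F136650 : act 2 n89014 = n46132 := d3_1 D89014 (iv6 D46132) F64152
theorem F136651 : act 3 n89014 = n46133 := d7_1 D89014 (iv6 D46133) F64153
def n89015 : Q := act 6 n41562
theorem D89015 : act 6 n41562 = n89015 := rfl
theorem F136652 : act 2 n89015 = n41564 := d3_1 D89015 (iv6 D41564) D41562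
theorem F136653 : act 3 n89015 = n42177 := d7_1 D89015 (iv6 D42177) (iv3 F64155)
theorem F136654 : act 4 n89015 = n41582 := d10_1 D89015 (iv6 D41582) (iv4 F64156)
def n89016 : Q := act 0 n41564
theorem D89016 : act 0 n41564 = n89016 := rfl
def n89017 : Q := act 1 n41564
theorem D89017 : act 1 n41564 = n89017 := rfl
def n89018 : Q := act 5 n41564
theorem D89018 : act 5 n41564 = n89018 := rfl
theorem F136655 : act 3 n89018 = n41568 := d6_1 D89018 (iv5 D41568) (iv3 F64162)
def n89019 : Q := act 5 n41565
theorem D89019 : act 5 n41565 = n89019 := rfl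
theorem F136656 : act 6 n89019 = n41568 := d12_2 D41565 D89019 (iv5 D41568) (iv6 D19577) D19576
theorem F136657 : act 1 n89019 = n49219 := d17_6 F82868 D62610 F97636 (iv5 D46140) (iv4 F64164) D89019 (iv5 D49219) D49217 (iv4 F82866)
def n89020 : Q := act 0 n41568
theorem D89020 : act 0 n41568 = n89020 := rfl
theorem F136658 : act 5 n89020 = n43855 := d17_3 F65958 D41568 D89020 (iv4 D43855) (iv5 D20769) (iv0 D9870) F6509 D9871 D20772
theorem F136659 : act 2 n43951 = n89020 := d15_3 (iv0 D89020) (iv0 F65984) (iv7 F69090)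
theorem F136660 : act 7 n89020 = n43970 := d4_2 (iv7 F69090) F136659 F69124
def n89021 : Q := act 4 n41568
theorem D89021 : act 4 n41568 = n89021 := rfl
theorem F136661 : act 0 n89021 = n43916 := d18_2 F65984 D89021 (iv4 D43916) (iv5 F65920) (iv4 F65919) (iv0 D22877) (iv4 F35574) (iv0 F65972) D42502
theorem F136662 : act 1 n89021 = n43919 := d18_6 (iv1 F32925) (iv4 F65907) (iv1 D19579) (iv4 F31342) D41568 D89021 (iv4 D43919) F68935 F68934
def n89022 : Q := act 6 n41579
theorem D89022 : act 6 n41579 = n89022 := rfl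
theorem F136663 : act 2 n89022 = n44663 := d3_1 D89022 (iv6 D44663) (iv2 F64169)
theorem F136664 : act 3 n89022 = n41580 := d7_1 D89022 (iv6 D41580) D41579
theorem F136665 : act 4 n89022 = n44675 := d10_1 D89022 (iv6 D44675) (iv4 F64170)
theorem F136666 : act 0 n44675 = n41731 := d20_7 F31265 (iv1 F14346) D9243 D19689 (iv1 F64493) (iv3 F136664) F136665 (iv4 D41731) (iv3 D19637) (iv1 F31269)
def n89023 : Q := act 5 n41580
theorem D89023 : act 5 n41580 = n89023 := rfl
theorem F136667 : act 2 n89023 = n46269 := d2_1 D89023 (iv5 D46269) (iv2 F64174)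
theorem F136668 : act 0 n47605 = n89023 := d21_7 (iv5 F29810) D39103 F60112 D42366 F68110 (iv6 F35960) D47605 (iv5 D89023) (iv6 D41580) (iv1 F31346)
def n89024 : Q := act 1 n41581
theorem D89024 : act 1 n41581 = n89024 := rfl
theorem F136669 : act 1 n89024 = n46266 := d15_1 D89024 (iv7 D46266) (iv2 F64175)
theorem F136670 : act 7 n89024 = n46263 := d15_2 (iv0 F135773) D89024 (iv2 F136451)
theorem F136671 : act 2 n41852 = n89024 := d4_3 F136670 (iv2 F136451) F135772
theorem F136672 : act 1 n46266 = n88602 := d15_1 F136669 F135772 F136671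
theorem F136673 : act 4 n44062 = n44739 := d20_0 (iv1 D44739) F33519 F31716 D19873 D42128 (iv4 F135770) (iv1 F136672) (iv4 F114567) F114566 (iv1 F69384)
theorem E14526 : n55978 = n34864 := (c18_8 (iv1 F69384) F136673 (iv1 D44739) F33519 (iv5 F37018) F37017 D26991 D55978 F55135 (iv5 F55293))
theorem E14527 : n76315 = n26991 := ((D76315).symm.trans (sb E14526 (iv4 D55978)))
theorem F136674 : act 4 n26991 = n34864 := (sb E14527 (iv4 D76315))
theorem F136675 : act 4 n76313 = n55976 := d1_2 F136674 (iv2 F114418) F88589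
theorem F136676 : act 4 n76317 = n55980 := d10_3 (iv6 D55980) F136674 D76317
theorem F136677 : act 4 n76308 = n55971 := d11_3 (iv7 F88587) F136674 F114416
theorem F136678 : act 4 n78977 = n55982 := d18_7 (iv1 F43576) F136674 (iv1 D34864) F27688 D17399 D35945 D78977 F88590 F83723
theorem E14528 : n55973 = n34863 := (c1_3 F136677 (iv2 D55971) D55973 D76308)
theorem E14529 : n76310 = n26990 := ((D76310).symm.trans (sb E14528 (iv4 D55973)))
theorem F136679 : act 4 n26990 = n34863 := (sb E14529 (iv4 D76310))
theorem F136680 : act 4 n76312 = n55975 := d10_3 (iv6 D55975) F136679 D76312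
def n89025 : Q := act 5 n41581
theorem D89025 : act 5 n41581 = n89025 := rfl
theorem F136681 : act 2 n89025 = n46265 := d2_1 D89025 (iv5 D46265) (iv2 F64175)
theorem F136682 : act 3 n89025 = n86916 := d6_1 D89025 (iv5 D86916) (iv3 F64176)
def n89026 : Q := act 7 n41581
theorem D89026 : act 7 n41581 = n89026 := rfl
theorem F136683 : act 2 n89026 = n46266 := d4_1 D89026 (iv7 D46266) (iv2 F64175)
theorem F136684 : act 3 n89026 = n86912 := d8_1 D89026 F133357 (iv3 F64176)
theorem F136685 : act 4 n89026 = n43867 := d11_1 D89026 (iv7 D43867) (iv4 F64177)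
theorem F136686 : act 6 n89026 = n41829 := d14_1 D89026 F64492 (iv6 D22129) (iv7 F31349) D41581
theorem F136687 : act 1 n41852 = n89026 := d15_1 (iv0 F136449) (iv7 D89026) F64175
theorem F136688 : act 1 n89026 = n46263 := d15_1 F136687 (iv7 F136670) (iv2 F136671)
def n89027 : Q := act 1 n41582
theorem D89027 : act 1 n41582 = n89027 := rfl
theorem F136689 : act 1 n89027 = n41587 := d15_1 D89027 (iv7 D41587) (iv2 F64178)
theorem F136690 : act 7 n89027 = n41584 := d15_2 (iv0 F135032) D89027 (iv2 F65961)
theorem F136691 : act 2 n41585 = n89027 := d4_3 F136690 (iv2 F65961) (iv7 F65960)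
theorem F136692 : act 3 n89027 = n87579 := d0_2 F65959 F136691 (iv2 D87579) (iv3 D40765) (iv2 F62845)
theorem F136693 : act 0 n45519 = n44635 := d20_7 (iv4 D10500) (iv1 F14402) (iv4 F31366) (iv3 F64182) (iv1 F136689) F136692 F134462 F70187 F58718 (iv1 F66219)
def n89028 : Q := act 5 n41582
theorem D89028 : act 5 n41582 = n89028 := rfl
theorem F136694 : act 2 n89028 = n41586 := d2_1 D89028 (iv5 D41586) (iv2 F64178)
theorem F136695 : act 3 n89028 = n46033 := d6_1 D89028 (iv5 D46033) (iv3 F64179)
def n89029 : Q := act 7 n41582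
theorem D89029 : act 7 n41582 = n89029 := rfl
theorem F136696 : act 2 n89029 = n41587 := d4_1 D89029 (iv7 D41587) (iv2 F64178)
theorem F136697 : act 3 n89029 = n46034 := d8_1 D89029 (iv7 D46034) (iv3 F64179)
theorem F136698 : act 6 n89029 = n46272 := d14_1 D89029 (iv7 D46272) (iv6 D22130) (iv7 F31356) D41582
theorem F136699 : act 1 n41585 = n89029 := d15_1 D41585 (iv7 D89029) F64178
theorem F136700 : act 1 n89029 = n41584 := d15_1 F136699 (iv7 F136690) (iv2 F136691)
def n89030 : Q := act 0 n41583
theorem D89030 : act 0 n41583 = n89030 := rfl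
def n89031 : Q := act 1 n41583
theorem D89031 : act 1 n41583 = n89031 := rfl
def n89032 : Q := act 5 n41583
theorem D89032 : act 5 n41583 = n89032 := rfl
theorem F136701 : act 3 n89032 = n41590 := d6_1 D89032 (iv5 D41590) (iv3 F64180)
theorem F136702 : act 6 n89032 = n41586 := d12_2 D41583 D89032 (iv5 D41586) (iv6 D19585) D19584
def n89033 : Q := act 7 n41583
theorem D89033 : act 7 n41583 = n89033 := rfl
theorem F136703 : act 3 n89033 = n41591 := d8_1 D89033 (iv7 D41591) (iv3 F64180)
theorem F136704 : act 6 n89033 = n46282 := d14_1 D89033 (iv7 D46282) (iv6 D22134) (iv7 F31360) D41583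
def n89034 : Q := act 3 n41584
theorem D89034 : act 3 n41584 = n89034 := rfl
theorem F136705 : act 2 n89034 = n86924 := d0_1 D89034 (iv3 D86924) F62842 D40760 F65961
theorem F136706 : act 7 n89034 = n87579 := d8_2 F136690 D89034 (iv3 F136692)
theorem F136707 : act 1 n87578 = n89034 := d15_1 D87578 F136706 (iv2 D87579)
theorem F136708 : act 1 n89034 = n87577 := d15_0 (iv0 D87577) (iv7 F133386) (iv2 F136705)
def n89035 : Q := act 5 n41584
theorem D89035 : act 5 n41584 = n89035 := rfl
theorem F136709 : act 2 n89035 = n87571 := d2_1 D89035 (iv5 D87571) F65961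
def n89036 : Q := act 6 n41584
theorem D89036 : act 6 n41584 = n89036 := rfl
theorem F136710 : act 2 n89036 = n87572 := d3_1 D89036 (iv6 D87572) F65961
def n89037 : Q := act 5 n41585
theorem D89037 : act 5 n41585 = n89037 := rfl
theorem F136712 : act 7 n89037 = n87571 := d13_2 (iv7 F65960) D89037 (iv5 D87571)
def n89038 : Q := act 6 n41585
theorem D89038 : act 6 n41585 = n89038 := rfl
theorem F136713 : act 3 n89038 = n86928 := d7_1 D89038 (iv6 D86928) F65959
def n89039 : Q := act 0 n41586
theorem D89039 : act 0 n41586 = n89039 := rfl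
def n89040 : Q := act 1 n41586
theorem D89040 : act 1 n41586 = n89040 := rfl
theorem F136714 : act 5 n47590 = n89040 := d21_6 (iv5 F35068) (iv1 F35069) F34697 D46426 F135038 (iv6 F74845) (iv1 D89040) (iv5 D41586) (iv6 D19585) D19581
theorem F136715 : act 3 n89040 = n86930 := d6_1 F136714 F133406 (iv3 F74844)
theorem F136716 : act 7 n87584 = n89040 := d8_0 F136715 (iv7 F133408) D87584
theorem F136717 : act 2 n87584 = n89039 := d15_3 (iv0 D89039) D89040 (iv7 F136716)
def n89041 : Q := act 4 n41586
theorem D89041 : act 4 n41586 = n89041 := rfl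
def n89042 : Q := act 7 n41586
theorem D89042 : act 7 n41586 = n89042 := rfl
theorem F136718 : act 3 n89042 = n41605 := d8_1 D89042 (iv7 D41605) (iv3 F64181)
theorem F136719 : act 5 n89042 = n41587 := d13_1 D89042 (iv7 D41587) D41586
def n89043 : Q := act 2 n41588
theorem D89043 : act 2 n41588 = n89043 := rfl
theorem F136720 : act 7 n41589 = n89043 := d15_2 (iv0 D41588) D41589 (iv2 D89043)
def n89044 : Q := act 3 n41588
theorem D89044 : act 3 n41588 = n89044 := rfl
def n89045 : Q := act 4 n41588
theorem D89045 : act 4 n41588 = n89045 := rfl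
theorem F136721 : act 3 n77640 = n89045 := d20_5 (iv4 D38831) (iv1 F126030) F43829 (iv3 F56159) D77640 (iv4 D89045) (iv1 F64189) (iv4 F59422) F59421 (iv1 F126032)
def n89046 : Q := act 5 n41588
theorem D89046 : act 5 n41588 = n89046 := rfl
def n89047 : Q := act 6 n41588
theorem D89047 : act 6 n41588 = n89047 := rfl
theorem F136722 : act 5 n89047 = n46738 := d21_6 F17206 (iv1 F14361) D9213 D19586 D41588 D89047 (iv1 D46738) (iv5 D22406) (iv6 D10659) D10657
def n89048 : Q := act 7 n41588
theorem D89048 : act 7 n41588 = n89048 := rfl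
theorem F136723 : act 2 n89048 = n41589 := d4_1 D89048 F136720 (iv2 D89043)
def n89049 : Q := act 3 n41589
theorem D89049 : act 3 n41589 = n89049 := rfl
def n89050 : Q := act 4 n41589
theorem D89050 : act 4 n41589 = n89050 := rfl
def n89051 : Q := act 5 n41589
theorem D89051 : act 5 n41589 = n89051 := rfl
def n89052 : Q := act 6 n41589
theorem D89052 : act 6 n41589 = n89052 := rfl
def n89053 : Q := act 0 n41590
theorem D89053 : act 0 n41590 = n89053 := rfl
def n89054 : Q := act 1 n41590
theorem D89054 : act 1 n41590 = n89054 := rfl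
theorem F136724 : act 1 n89054 = n46077 := d15_1 D89054 (iv7 D46077) (iv2 F64185)
def n89055 : Q := act 4 n41590
theorem D89055 : act 4 n41590 = n89055 := rfl
theorem F136725 : act 2 n89055 = n46076 := d1_1 D89055 (iv4 D46076) (iv2 F64185)
theorem F136726 : act 6 n89055 = n41604 := d10_2 (iv6 F64186) D89055 (iv4 D41604)
def n89056 : Q := act 7 n41590
theorem D89056 : act 7 n41590 = n89056 := rfl
theorem F136727 : act 2 n89056 = n46077 := d4_1 D89056 (iv7 D46077) (iv2 F64185)
theorem F136728 : act 5 n89056 = n41591 := d13_1 D89056 (iv7 D41591) D41590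
theorem F136729 : act 1 n46077 = n89053 := d15_0 (iv0 D89053) D89056 F136727
theorem F136730 : act 1 n46075 = n89056 := d15_1 D46075 (iv7 D89056) F64185
theorem F136731 : act 1 n89056 = n46074 := d15_0 (iv0 D46074) D46077 (iv2 F136727)
def n89057 : Q := act 5 n41593
theorem D89057 : act 5 n41593 = n89057 := rfl
theorem F136732 : act 2 n89057 = n87550 := d2_1 D89057 (iv5 D87550) (iv2 F66278)
theorem F136733 : act 3 n89057 = n41595 := d6_1 D89057 (iv5 D41595) D41593
theorem F136734 : act 7 n89057 = n46089 := d13_2 (iv7 F65845) D89057 (iv5 D46089)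
def n89058 : Q := act 6 n41593
theorem D89058 : act 6 n41593 = n89058 := rfl
theorem F136735 : act 2 n89058 = n87551 := d3_1 D89058 (iv6 D87551) (iv2 F66278)
theorem F136736 : act 3 n89058 = n41596 := d7_1 D89058 (iv6 D41596) D41593
theorem F136737 : act 4 n89058 = n44789 := d10_1 D89058 (iv6 D44789) F65900
theorem F136738 : act 0 n89058 = n87027 := d20_4 (iv4 F127127) (iv1 D82491) F66304 (iv3 F136736) F133584 F61505 (iv1 F62482) D42793 (iv3 F70479) (iv1 F72699)
def n89059 : Q := act 4 n41595
theorem D89059 : act 4 n41595 = n89059 := rfl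
theorem F136739 : act 2 n89059 = n46084 := d1_1 D89059 (iv4 D46084) (iv2 F65851)
theorem F136740 : act 7 n89059 = n46091 := d11_2 (iv7 F65846) D89059 (iv4 D46091)
theorem F136741 : act 0 n89059 = n47427 := d18_2 (iv1 F74855) D89059 (iv4 D47427) (iv5 D22782) (iv4 F35343) F66264 (iv4 F72678) F72680 (iv5 F74854)
def n89060 : Q := act 6 n41595
theorem D89060 : act 6 n41595 = n89060 := rfl
theorem F136742 : act 2 n89060 = n46085 := d3_1 D89060 (iv6 D46085) (iv2 F65851)
def n89061 : Q := act 0 n41598
theorem D89061 : act 0 n41598 = n89061 := rfl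
theorem F136743 : act 1 n46080 = n89061 := d15_0 (iv0 D89061) (iv7 F65849) D46080
def n89062 : Q := act 1 n41598
theorem D89062 : act 1 n41598 = n89062 := rfl
def n89063 : Q := act 2 n41598
theorem D89063 : act 2 n41598 = n89063 := rfl
theorem F136744 : act 3 n89063 = n46088 := d0_2 D41598 D89063 (iv2 D46088) (iv3 D22014) F65842
theorem F136745 : act 4 n89063 = n43960 := d1_2 (iv4 F65933) D89063 (iv2 D43960)
theorem F136746 : act 7 n89063 = n46080 := d4_2 F65849 D89063 (iv2 D46080)
theorem F136747 : act 1 n89063 = n46078 := d15_0 (iv0 D46078) F65849 D89063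
theorem F136748 : act 1 n89062 = n46080 := d15_1 D89062 (iv7 F136746) (iv2 D89063)
theorem F136749 : act 1 n46079 = n89063 := d15_1 D46079 F136746 (iv2 D46080)
theorem F136750 : act 0 n43960 = n42117 := d20_7 (iv4 D21044) F62560 (iv4 F30890) (iv3 F61867) (iv1 F72656) (iv3 F136744) F136745 F65039 F61454 (iv1 F62663)
def n89064 : Q := act 5 n41598
theorem D89064 : act 5 n41598 = n89064 := rfl
theorem F136751 : act 3 n89064 = n41600 := d6_1 D89064 (iv5 D41600) D41598
theorem F136752 : act 7 n89064 = n46081 := d13_2 F65849 D89064 (iv5 D46081)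
def n89065 : Q := act 6 n41598
theorem D89065 : act 6 n41598 = n89065 := rfl
theorem F136753 : act 3 n89065 = n41601 := d7_1 D89065 (iv6 D41601) D41598
theorem F136754 : act 4 n89065 = n43962 := d10_1 D89065 (iv6 D43962) (iv4 F65933)
def n89066 : Q := act 4 n41600
theorem D89066 : act 4 n41600 = n89066 := rfl
theorem F136755 : act 2 n89066 = n46091 := d1_1 D89066 (iv4 D46091) (iv2 F65847)
theorem F136756 : act 7 n89066 = n46084 := d11_2 F65850 D89066 (iv4 D46084)
theorem F136757 : act 1 n89066 = n47427 := d18_6 F66218 F31388 F66161 F65815 D41600 D89066 (iv4 D47427) F66266 (iv5 D22038)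
def n89067 : Q := act 6 n41600
theorem D89067 : act 6 n41600 = n89067 := rfl
theorem F136758 : act 2 n89067 = n46092 := d3_1 D89067 (iv6 D46092) (iv2 F65847)
def n89068 : Q := act 3 n41602
theorem D89068 : act 3 n41602 = n89068 := rfl
theorem F136759 : act 5 n89068 = n47599 := d6_2 (iv5 F64204) D89068 (iv3 D47599)
theorem F136760 : act 7 n89068 = n46101 := d8_2 (iv7 F72674) D89068 (iv3 D46101)
def n89069 : Q := act 4 n41602
theorem D89069 : act 4 n41602 = n89069 := rfl
theorem F136761 : act 2 n89069 = n46098 := d1_1 D89069 (iv4 D46098) (iv2 F72673)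
theorem F136762 : act 7 n89069 = n46102 := d11_2 (iv7 F72674) D89069 (iv4 D46102)
theorem F136763 : act 5 n89069 = n89066 := d16_1 D89069 (iv4 D89066) (iv5 D41600) (iv4 F65815) D20838 F65838 F64198 (iv7 F72671) (iv2 F72673)
theorem F136764 : act 1 n89069 = n82490 := d18_6 (iv1 F66256) (iv4 F69100) (iv1 F69102) F66270 (iv5 F64204) D89069 (iv4 D82490) (iv0 F70518) (iv5 D44884)
def n89070 : Q := act 6 n41602
theorem D89070 : act 6 n41602 = n89070 := rfl
theorem F136765 : act 2 n89070 = n46100 := d3_1 D89070 (iv6 D46100) (iv2 F72673)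
def n89071 : Q := act 3 n41603
theorem D89071 : act 3 n41603 = n89071 := rfl
theorem F136766 : act 5 n89071 = n46745 := d6_2 F64198 D89071 F73859
theorem F136767 : act 7 n89071 = n46097 := d8_2 F72671 D89071 (iv3 D46097)
def n89072 : Q := act 4 n41603
theorem D89072 : act 4 n41603 = n89072 := rfl
theorem F136768 : act 2 n89072 = n46102 := d1_1 D89072 (iv4 D46102) (iv2 F72672)
theorem F136769 : act 5 n89072 = n89059 := d9_2 F64198 D89072 (iv4 D89059) (iv5 D41595) F66214 D37861 F66270 (iv5 F64204) D89069 F136763 (iv4 D89066) (iv5 D41600) (iv4 F65815) D20838 F65838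
theorem F136770 : act 7 n89072 = n46098 := d11_2 F72671 D89072 (iv4 D46098)
theorem F136771 : act 0 n89072 = n82490 := d18_2 (iv1 F64194) D89072 (iv4 D82490) (iv5 D37856) F29320 F66160 F65815 F31363 (iv5 F34504)
def n89073 : Q := act 6 n41603
theorem D89073 : act 6 n41603 = n89073 := rfl
theorem F136772 : act 2 n89073 = n46104 := d3_1 D89073 (iv6 D46104) (iv2 F72672)
theorem F136773 : act 5 n89073 = n46748 := d12_1 D89073 (iv6 D46748) (iv5 D22411) D22412 F64198
def n89074 : Q := act 0 n41604
theorem D89074 : act 0 n41604 = n89074 := rfl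
theorem F136774 : act 4 n89074 = n41671 := d18_3 (iv1 D41603) D41604 D89074 F66311 (iv4 D21398) (iv0 F65716) (iv4 F17334) (iv0 F64196) F64198
theorem F136775 : act 1 n46109 = n89074 := d15_0 (iv0 D89074) (iv7 F72685) (iv2 F72687)
theorem F136776 : act 2 n46105 = n89074 := d1_3 F136774 (iv2 F72707) F72711
theorem F136777 : act 7 n46106 = n89074 := d11_0 F136774 (iv7 F70517) (iv4 F72683)
def n89075 : Q := act 1 n41604
theorem D89075 : act 1 n41604 = n89075 := rfl
theorem F136778 : act 1 n89075 = n46109 := d15_1 D89075 (iv7 D46109) (iv2 F64199)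
theorem F136779 : act 7 n89075 = n46105 := d15_2 (iv0 D89074) D89075 F136776
theorem F136780 : act 4 n89075 = n41672 := d18_7 F65783 (iv4 D19597) (iv1 D9216) (iv4 F14395) D19589 D41604 D89075 (iv0 F70466) (iv5 D44864)
theorem F136781 : act 5 n89075 = n44867 := d17_3 (iv1 D89075) (iv5 F72689) (iv1 F136778) (iv4 D44867) (iv5 D21394) F66224 D19618 D41672 (iv4 F136780)
theorem F136782 : act 2 n46106 = n89075 := d2_3 F136781 (iv2 F72696) F72697
def n89076 : Q := act 3 n41604
theorem D89076 : act 3 n41604 = n89076 := rfl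
def n89077 : Q := act 6 n41605
theorem D89077 : act 6 n41605 = n89077 := rfl
theorem F136784 : act 5 n89077 = n46338 := d12_1 D89077 (iv6 D46338) F34609 (iv6 F31367) (iv5 F64201)
def n89078 : Q := act 0 n41621
theorem D89078 : act 0 n41621 = n89078 := rfl
theorem F136785 : act 1 n44254 = n89078 := d15_0 (iv0 D89078) F64229 (iv2 F69632)
def n89079 : Q := act 1 n41621
theorem D89079 : act 1 n41621 = n89079 := rfl
theorem F136786 : act 1 n89079 = n44254 := d15_1 D89079 F69634 F65957
def n89080 : Q := act 5 n41621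
theorem D89080 : act 5 n41621 = n89080 := rfl
theorem F136787 : act 2 n89080 = n87596 := d2_1 D89080 (iv5 D87596) F65957
theorem F136788 : act 3 n89080 = n41622 := d6_1 D89080 (iv5 D41622) D41621
theorem F136789 : act 7 n89080 = n46113 := d13_2 (iv7 F64229) D89080 (iv5 D46113)
def n89081 : Q := act 6 n41621
theorem D89081 : act 6 n41621 = n89081 := rfl
theorem F136790 : act 2 n89081 = n87597 := d3_1 D89081 (iv6 D87597) F65957
theorem F136791 : act 3 n89081 = n41623 := d7_1 D89081 (iv6 D41623) D41621
theorem F136792 : act 4 n89081 = n89081 := d10_1 D89081 (iv6 D89081) F65941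
def n89082 : Q := act 4 n41622
theorem D89082 : act 4 n41622 = n89082 := rfl
theorem F136793 : act 2 n89082 = n44880 := d1_1 D89082 (iv4 D44880) F65759
theorem F136794 : act 5 n89082 = n89074 := d9_2 D41622 D89082 F136774 F66311 (iv4 D21398) (iv5 D10195) D10194 D21394 D44867 (iv5 F136781) F136780 (iv5 F66130) F34981 F17216 D19597
theorem F136795 : act 7 n89082 = n46115 := d11_2 (iv7 F64231) D89082 (iv4 D46115)
def n89083 : Q := act 6 n41622
theorem D89083 : act 6 n41622 = n89083 := rfl
theorem F136796 : act 2 n89083 = n44881 := d3_1 D89083 (iv6 D44881) F65759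
def n89084 : Q := act 5 n41624
theorem D89084 : act 5 n41624 = n89084 := rfl
theorem F136797 : act 2 n89084 = n70067 := d2_1 D89084 F106463 (iv2 F70952)
theorem F136798 : act 4 n89084 = n56989 := d16_2 D41624 D89084 F90069 F44371 F54809 (iv4 F54814) (iv5 F58716) F58714 (iv2 F58713)
theorem F136799 : act 0 n89084 = n78991 := d17_2 F71578 D89084 F120171 F74186 F72500 (iv0 F72914) (iv5 D46259) F70211 (iv4 F71569)
def n89085 : Q := act 6 n41624
theorem D89085 : act 6 n41624 = n89085 := rfl
theorem F136800 : act 4 n89085 = n41625 := d10_1 D89085 (iv6 D41625) D41624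
def n89086 : Q := act 0 n41625
theorem D89086 : act 0 n41625 = n89086 := rfl
def n89087 : Q := act 1 n41625
theorem D89087 : act 1 n41625 = n89087 := rfl
def n89088 : Q := act 5 n41625
theorem D89088 : act 5 n41625 = n89088 := rfl
def n89089 : Q := act 7 n41625
theorem D89089 : act 7 n41625 = n89089 := rfl
def n89090 : Q := act 6 n41626
theorem D89090 : act 6 n41626 = n89090 := rfl
theorem F136801 : act 3 n89090 = n41628 := d7_1 D89090 (iv6 D41628) D41626
theorem F136802 : act 4 n89090 = n87458 := d10_1 D89090 (iv6 D87458) F64234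
def n89091 : Q := act 5 n41627
theorem D89091 : act 5 n41627 = n89091 := rfl
theorem F136803 : act 3 n89091 = n44610 := d6_1 D89091 (iv5 D44610) (iv3 F64235)
theorem F136804 : act 4 n89091 = n76659 := d9_1 D89091 F114990 (iv4 D38596) F29554 (iv4 F34428) (iv5 F34430) D41624 D89084 F136798 F90069 F44371 F54809 (iv4 F54814) (iv5 F58716) D41627
theorem F136805 : act 7 n89091 = n70067 := d13_2 (iv7 F70953) D89091 F106463
theorem F136806 : act 1 n89091 = n78991 := d17_6 (iv1 F34787) (iv5 F51872) (iv1 F51875) (iv5 F58716) D41627 D89091 F120171 (iv0 D46971) (iv4 D22590)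
def n89092 : Q := act 6 n41627
theorem D89092 : act 6 n41627 = n89092 := rfl
theorem F136807 : act 3 n89092 = n44611 := d7_1 D89092 (iv6 D44611) (iv3 F64235)
theorem F136808 : act 4 n89092 = n41628 := d10_1 D89092 (iv6 D41628) D41627
def n89093 : Q := act 0 n41628
theorem D89093 : act 0 n41628 = n89093 := rfl
def n89094 : Q := act 1 n41628
theorem D89094 : act 1 n41628 = n89094 := rfl
def n89095 : Q := act 5 n41628
theorem D89095 : act 5 n41628 = n89095 := rfl
def n89096 : Q := act 7 n41628
theorem D89096 : act 7 n41628 = n89096 := rfl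
def n89097 : Q := act 6 n41629
theorem D89097 : act 6 n41629 = n89097 := rfl
theorem F136809 : act 2 n89097 = n41634 := d3_1 D89097 (iv6 D41634) (iv2 F64236)
theorem F136810 : act 3 n89097 = n47236 := d7_1 D89097 (iv6 D47236) (iv3 F64237)
def n89098 : Q := act 0 n41630
theorem D89098 : act 0 n41630 = n89098 := rfl
def n89099 : Q := act 1 n41630
theorem D89099 : act 1 n41630 = n89099 := rfl
theorem F136811 : act 1 n89099 = n41638 := d15_1 D89099 (iv7 D41638) (iv2 F64241)
def n89100 : Q := act 5 n41630
theorem D89100 : act 5 n41630 = n89100 := rfl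
theorem F136812 : act 2 n89100 = n41637 := d2_1 D89100 (iv5 D41637) (iv2 F64241)
def n89101 : Q := act 7 n41630
theorem D89101 : act 7 n41630 = n89101 := rfl
theorem F136813 : act 2 n89101 = n41638 := d4_1 D89101 (iv7 D41638) (iv2 F64241)
theorem F136814 : act 1 n41638 = n89098 := d15_0 (iv0 D89098) D89101 F136813
theorem F136815 : act 1 n41636 = n89101 := d15_1 D41636 (iv7 D89101) F64241
theorem F136816 : act 1 n89101 = n41635 := d15_0 (iv0 D41635) D41638 (iv2 F136813)
def n89102 : Q := act 4 n41631
theorem D89102 : act 4 n41631 = n89102 := rfl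
theorem F136817 : act 5 n89102 = n57344 := d16_1 D89102 (iv4 F116557) F116555 F60249 (iv5 F58709) F58708 (iv5 F70751) F70754 (iv2 F70122)
theorem F136818 : act 1 n89102 = n83504 := d18_8 (iv1 F123198) (iv4 F130117) F130116 F122980 F112537 (iv4 D44993) (iv0 F64243) D89102 (iv5 D83504)
theorem F136819 : act 1 n57367 = n89102 := d15_0 F136818 F128609 F114965
def n89103 : Q := act 6 n41631
theorem D89103 : act 6 n41631 = n89103 := rfl
theorem F136820 : act 3 n89103 = n44936 := d7_1 D89103 (iv6 D44936) (iv3 F64242)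
def n89104 : Q := act 1 n41632
theorem D89104 : act 1 n41632 = n89104 := rfl
def n89105 : Q := act 5 n41632
theorem D89105 : act 5 n41632 = n89105 := rfl
theorem F136821 : act 3 n89105 = n45327 := d6_1 D89105 (iv5 D45327) (iv3 F64244)
def n89106 : Q := act 6 n41633
theorem D89106 : act 6 n41633 = n89106 := rfl
theorem F136822 : act 2 n89106 = n46975 := d3_1 D89106 (iv6 D46975) F64249
theorem F136823 : act 4 n89106 = n80215 := d10_1 D89106 (iv6 D80215) (iv4 F64248)
def n89107 : Q := act 0 n41634
theorem D89107 : act 0 n41634 = n89107 := rfl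
def n89108 : Q := act 1 n41634
theorem D89108 : act 1 n41634 = n89108 := rfl
def n89109 : Q := act 5 n41634
theorem D89109 : act 5 n41634 = n89109 := rfl
theorem F136824 : act 3 n89109 = n41641 := d6_1 D89109 (iv5 D41641) (iv3 F64257)
theorem F136825 : act 6 n89109 = n41637 := d12_2 D41634 D89109 (iv5 D41637) (iv6 D19604) D19603
def n89110 : Q := act 7 n41634
theorem D89110 : act 7 n41634 = n89110 := rfl
theorem F136826 : act 3 n89110 = n41642 := d8_1 D89110 (iv7 D41642) (iv3 F64257)
theorem F136827 : act 6 n89110 = n47221 := d14_1 D89110 (iv7 D47221) (iv6 D22714) (iv7 F31376) D41634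
def n89111 : Q := act 2 n41635
theorem D89111 : act 2 n41635 = n89111 := rfl
theorem F136828 : act 7 n41636 = n89111 := d15_2 (iv0 D41635) D41636 (iv2 D89111)
def n89112 : Q := act 3 n41635
theorem D89112 : act 3 n41635 = n89112 := rfl
theorem F136829 : act 4 n89112 = n81871 := d20_6 (iv4 F62689) F62661 F29323 (iv3 F31377) D41635 D89112 (iv1 F125898) F69701 F64064 (iv1 F31316)
theorem F136830 : act 0 n89112 = n43995 := d20_1 (iv4 F136829) F69204 F34497 (iv1 F31363) D41598 F65933 (iv1 F69112) (iv4 F125891) F125890 D81871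
theorem F136831 : act 3 n82487 = n81871 := d20_5 (iv4 F65815) (iv1 F66160) (iv4 F29320) (iv3 F58718) D82487 (iv4 F136829) F136830 F69204 F34497 (iv1 F31363)
def n89113 : Q := act 4 n41635
theorem D89113 : act 4 n41635 = n89113 := rfl
def n89114 : Q := act 5 n41635
theorem D89114 : act 5 n41635 = n89114 := rfl
def n89115 : Q := act 6 n41635
theorem D89115 : act 6 n41635 = n89115 := rfl
def n89116 : Q := act 7 n41635
theorem D89116 : act 7 n41635 = n89116 := rfl
theorem F136832 : act 2 n89116 = n41636 := d4_1 D89116 F136828 (iv2 D89111)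
def n89117 : Q := act 3 n41636
theorem D89117 : act 3 n41636 = n89117 := rfl
def n89118 : Q := act 4 n41636
theorem D89118 : act 4 n41636 = n89118 := rfl
theorem F136833 : act 3 n44615 = n89118 := d20_5 (iv4 D10356) (iv1 F16289) (iv4 F33862) (iv3 F70976) (iv1 F70980) (iv4 D89118) (iv1 D41636) (iv4 F64245) F64244 F62910
def n89119 : Q := act 5 n41636
theorem D89119 : act 5 n41636 = n89119 := rfl
def n89120 : Q := act 6 n41636
theorem D89120 : act 6 n41636 = n89120 := rfl
def n89121 : Q := act 0 n41637
theorem D89121 : act 0 n41637 = n89121 := rfl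
def n89122 : Q := act 1 n41637
theorem D89122 : act 1 n41637 = n89122 := rfl
def n89123 : Q := act 4 n41637
theorem D89123 : act 4 n41637 = n89123 := rfl
def n89124 : Q := act 7 n41637
theorem D89124 : act 7 n41637 = n89124 := rfl
theorem F136835 : act 5 n89124 = n41638 := d13_1 D89124 (iv7 D41638) D41637
def n89125 : Q := act 2 n41639
theorem D89125 : act 2 n41639 = n89125 := rfl
theorem F136836 : act 7 n41640 = n89125 := d15_2 (iv0 D41639) D41640 (iv2 D89125)
def n89126 : Q := act 3 n41639
theorem D89126 : act 3 n41639 = n89126 := rfl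
def n89127 : Q := act 4 n41639
theorem D89127 : act 4 n41639 = n89127 := rfl
def n89128 : Q := act 5 n41639
theorem D89128 : act 5 n41639 = n89128 := rfl
def n89129 : Q := act 6 n41639
theorem D89129 : act 6 n41639 = n89129 := rfl
theorem F136837 : act 5 n89129 = n47113 := d21_6 (iv5 D4175) D4172 D9219 D19605 D41639 D89129 (iv1 D47113) (iv5 D22657) (iv6 D10730) F7327
def n89130 : Q := act 7 n41639
theorem D89130 : act 7 n41639 = n89130 := rfl
def n89131 : Q := act 3 n41640
theorem D89131 : act 3 n41640 = n89131 := rfl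
def n89132 : Q := act 4 n41640
theorem D89132 : act 4 n41640 = n89132 := rfl
def n89133 : Q := act 5 n41640
theorem D89133 : act 5 n41640 = n89133 := rfl
def n89134 : Q := act 6 n41640
theorem D89134 : act 6 n41640 = n89134 := rfl
def n89135 : Q := act 0 n41641
theorem D89135 : act 0 n41641 = n89135 := rfl
def n89136 : Q := act 1 n41641
theorem D89136 : act 1 n41641 = n89136 := rfl
theorem F136839 : act 1 n89136 = n47254 := d15_1 D89136 (iv7 D47254) (iv2 F64261)
def n89137 : Q := act 4 n41641
theorem D89137 : act 4 n41641 = n89137 := rfl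
theorem F136841 : act 6 n89137 = n41645 := d10_2 (iv6 F64262) D89137 (iv4 D41645)
def n89138 : Q := act 7 n41641
theorem D89138 : act 7 n41641 = n89138 := rfl
theorem F136842 : act 2 n89138 = n47254 := d4_1 D89138 (iv7 D47254) (iv2 F64261)
theorem F136843 : act 5 n89138 = n41642 := d13_1 D89138 (iv7 D41642) D41641
theorem F136844 : act 1 n47254 = n89135 := d15_0 (iv0 D89135) D89138 F136842
theorem F136845 : act 1 n47252 = n89138 := d15_1 D47252 (iv7 D89138) F64261
theorem F136846 : act 1 n89138 = n47251 := d15_0 (iv0 D47251) D47254 (iv2 F136842)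
def n89139 : Q := act 3 n41643
theorem D89139 : act 3 n41643 = n89139 := rfl
def n89146 : Q := act 6 n41647
theorem D89146 : act 6 n41647 = n89146 := rfl
theorem F136851 : act 3 n89146 = n41648 := d7_1 D89146 (iv6 D41648) D41647
theorem F136852 : act 4 n89146 = n46133 := d10_1 D89146 (iv6 D46133) (iv4 F64270)
def n89147 : Q := act 0 n41648
theorem D89147 : act 0 n41648 = n89147 := rfl
def n89148 : Q := act 1 n41648
theorem D89148 : act 1 n41648 = n89148 := rfl
def n89149 : Q := act 5 n41648
theorem D89149 : act 5 n41648 = n89149 := rfl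
def n89150 : Q := act 7 n41648
theorem D89150 : act 7 n41648 = n89150 := rfl
def n89151 : Q := act 6 n41649
theorem D89151 : act 6 n41649 = n89151 := rfl
theorem F136853 : act 2 n89151 = n86948 := d3_1 D89151 (iv6 D86948) (iv2 F64304)
theorem F136854 : act 3 n89151 = n41650 := d7_1 D89151 (iv6 D41650) D41649
def n89152 : Q := act 0 n41650
theorem D89152 : act 0 n41650 = n89152 := rfl
def n89153 : Q := act 1 n41650
theorem D89153 : act 1 n41650 = n89153 := rfl
def n89154 : Q := act 5 n41650
theorem D89154 : act 5 n41650 = n89154 := rfl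
def n89155 : Q := act 7 n41650
theorem D89155 : act 7 n41650 = n89155 := rfl
def n89156 : Q := act 0 n41651
theorem D89156 : act 0 n41651 = n89156 := rfl
def n89157 : Q := act 1 n41651
theorem D89157 : act 1 n41651 = n89157 := rfl
theorem F136855 : act 1 n89157 = n41656 := d15_1 D89157 (iv7 D41656) (iv2 F64275)
def n89158 : Q := act 5 n41651
theorem D89158 : act 5 n41651 = n89158 := rfl
theorem F136856 : act 2 n89158 = n41655 := d2_1 D89158 (iv5 D41655) (iv2 F64275)
theorem F136857 : act 6 n89158 = n69950 := d12_2 D41651 D89158 (iv5 D69950) (iv6 D32478) F31380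
def n89159 : Q := act 7 n41651
theorem D89159 : act 7 n41651 = n89159 := rfl
theorem F136858 : act 2 n89159 = n41656 := d4_1 D89159 (iv7 D41656) (iv2 F64275)
theorem F136859 : act 4 n89159 = n87366 := d11_1 D89159 (iv7 D87366) (iv4 F64276)
theorem F136860 : act 1 n41656 = n89156 := d15_0 (iv0 D89156) D89159 F136858
theorem F136861 : act 1 n41654 = n89159 := d15_1 D41654 (iv7 D89159) F64275
theorem F136862 : act 1 n89159 = n41653 := d15_0 (iv0 D41653) D41656 (iv2 F136858)
theorem F136863 : act 4 n82685 = n41653 := d20_0 (iv1 F136862) F136859 F136550 (iv1 D88969) (iv3 D41539) F62915 (iv1 D18195) (iv4 F29363) (iv3 F58833) D82685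
def n89160 : Q := act 0 n41652
theorem D89160 : act 0 n41652 = n89160 := rfl
def n89161 : Q := act 1 n41652
theorem D89161 : act 1 n41652 = n89161 := rfl
def n89162 : Q := act 5 n41652
theorem D89162 : act 5 n41652 = n89162 := rfl
theorem F136865 : act 2 n89162 = n69950 := d2_1 D89162 (iv5 D69950) (iv2 F64277)
theorem F136866 : act 3 n89162 = n41659 := d6_1 D89162 (iv5 D41659) (iv3 F64278)
theorem F136867 : act 6 n89162 = n41655 := d12_2 D41652 D89162 (iv5 D41655) (iv6 D19614) D19613
def n89163 : Q := act 7 n41652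
theorem D89163 : act 7 n41652 = n89163 := rfl
theorem F136868 : act 2 n89163 = n69951 := d4_1 D89163 (iv7 D69951) (iv2 F64277)
theorem F136869 : act 3 n89163 = n41660 := d8_1 D89163 (iv7 D41660) (iv3 F64278)
theorem F136870 : act 4 n89163 = n54393 := d11_1 D89163 (iv7 D54393) (iv4 F64279)
theorem F136871 : act 6 n89163 = n47240 := d14_1 D89163 (iv7 D47240) (iv6 D22721) (iv7 F31383) D41652
theorem F136873 : act 1 n69949 = n89163 := d15_1 D69949 (iv7 D89163) F64277
theorem F136874 : act 1 n89163 = n69948 := d15_0 (iv0 D69948) D69951 (iv2 F136868)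
def n89164 : Q := act 2 n41653
theorem D89164 : act 2 n41653 = n89164 := rfl
theorem F136875 : act 7 n41654 = n89164 := d15_2 (iv0 D41653) D41654 (iv2 D89164)
def n89165 : Q := act 3 n41653
theorem D89165 : act 3 n41653 = n89165 := rfl
def n89166 : Q := act 5 n41653
theorem D89166 : act 5 n41653 = n89166 := rfl
def n89167 : Q := act 6 n41653
theorem D89167 : act 6 n41653 = n89167 := rfl
def n89168 : Q := act 7 n41653
theorem D89168 : act 7 n41653 = n89168 := rfl
theorem F136876 : act 2 n89168 = n41654 := d4_1 D89168 F136875 (iv2 D89164)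
def n89169 : Q := act 3 n41654
theorem D89169 : act 3 n41654 = n89169 := rfl
def n89170 : Q := act 4 n41654
theorem D89170 : act 4 n41654 = n89170 := rfl
def n89171 : Q := act 5 n41654
theorem D89171 : act 5 n41654 = n89171 := rfl
def n89172 : Q := act 6 n41654
theorem D89172 : act 6 n41654 = n89172 := rfl
def n89173 : Q := act 0 n41655
theorem D89173 : act 0 n41655 = n89173 := rfl
def n89174 : Q := act 1 n41655
theorem D89174 : act 1 n41655 = n89174 := rfl
def n89175 : Q := act 4 n41655
theorem D89175 : act 4 n41655 = n89175 := rfl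
def n89176 : Q := act 7 n41655
theorem D89176 : act 7 n41655 = n89176 := rfl
theorem F136877 : act 3 n89176 = n41674 := d8_1 D89176 (iv7 D41674) (iv3 F64280)
theorem F136878 : act 5 n89176 = n41656 := d13_1 D89176 (iv7 D41656) D41655
def n89177 : Q := act 2 n41657
theorem D89177 : act 2 n41657 = n89177 := rfl
theorem F136879 : act 7 n41658 = n89177 := d15_2 (iv0 D41657) D41658 (iv2 D89177)
def n89178 : Q := act 3 n41657
theorem D89178 : act 3 n41657 = n89178 := rfl
def n89179 : Q := act 4 n41657
theorem D89179 : act 4 n41657 = n89179 := rfl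
def n89180 : Q := act 5 n41657
theorem D89180 : act 5 n41657 = n89180 := rfl
def n89181 : Q := act 6 n41657
theorem D89181 : act 6 n41657 = n89181 := rfl
theorem F136880 : act 5 n89181 = n47047 := d21_6 F17246 F14239 D9222 D19615 D41657 D89181 (iv1 D47047) (iv5 D22616) (iv6 D10718) D10717
def n89182 : Q := act 7 n41657
theorem D89182 : act 7 n41657 = n89182 := rfl
theorem F136881 : act 2 n89182 = n41658 := d4_1 D89182 F136879 (iv2 D89177)
def n89183 : Q := act 3 n41658
theorem D89183 : act 3 n41658 = n89183 := rfl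
def n89184 : Q := act 4 n41658
theorem D89184 : act 4 n41658 = n89184 := rfl
def n89185 : Q := act 5 n41658
theorem D89185 : act 5 n41658 = n89185 := rfl
def n89186 : Q := act 6 n41658
theorem D89186 : act 6 n41658 = n89186 := rfl
def n89187 : Q := act 0 n41659
theorem D89187 : act 0 n41659 = n89187 := rfl
def n89188 : Q := act 1 n41659
theorem D89188 : act 1 n41659 = n89188 := rfl
theorem F136882 : act 1 n89188 = n47235 := d15_1 D89188 (iv7 D47235) (iv2 F64284)
def n89189 : Q := act 4 n41659
theorem D89189 : act 4 n41659 = n89189 := rfl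
theorem F136883 : act 2 n89189 = n47234 := d1_1 D89189 (iv4 D47234) (iv2 F64284)
theorem F136884 : act 6 n89189 = n41673 := d10_2 (iv6 F64285) D89189 (iv4 D41673)
def n89190 : Q := act 7 n41659
theorem D89190 : act 7 n41659 = n89190 := rfl
theorem F136885 : act 2 n89190 = n47235 := d4_1 D89190 (iv7 D47235) (iv2 F64284)
theorem F136886 : act 5 n89190 = n41660 := d13_1 D89190 (iv7 D41660) D41659
theorem F136887 : act 1 n47235 = n89187 := d15_0 (iv0 D89187) D89190 F136885
theorem F136888 : act 1 n47233 = n89190 := d15_1 D47233 (iv7 D89190) F64284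
theorem F136889 : act 1 n89190 = n47232 := d15_0 (iv0 D47232) D47235 (iv2 F136885)
def n89191 : Q := act 6 n41671
theorem D89191 : act 6 n41671 = n89191 := rfl
def n89192 : Q := act 3 n41672
theorem D89192 : act 3 n41672 = n89192 := rfl
theorem F136890 : act 5 n89192 = n46776 := d6_2 F66130 D89192 F73889
def n89193 : Q := act 6 n41672
theorem D89193 : act 6 n41672 = n89193 := rfl
theorem F136891 : act 5 n89193 = n46779 := d12_1 D89193 (iv6 D46779) (iv5 D22438) D22439 F66130
def n89194 : Q := act 3 n41673
theorem D89194 : act 3 n41673 = n89194 := rfl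
def n89195 : Q := act 5 n41673
theorem D89195 : act 5 n41673 = n89195 := rfl
theorem F136892 : act 4 n89195 = n44864 := d16_2 D41673 D89195 (iv5 D44864) F66232 F29321 (iv4 F66232) D44864 F70465 F58720
theorem F136893 : act 7 n89195 = n82490 := d16_8 (iv4 D41673) (iv5 D19618) F14412 F14002 (iv4 F14412) D19618 D41673 D89195 F127125
theorem F136894 : act 0 n89195 = n46102 := d17_2 F72676 D89195 F72675 (iv4 D46084) (iv5 D22011) (iv0 D10494) D10496 D22019 D46102
theorem F136895 : act 1 n89195 = n46098 := d17_8 (iv1 F64205) F64201 (iv1 F31369) D22016 D46091 (iv5 F72667) (iv0 F72666) D89195 (iv4 D46098)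
theorem E14530 : n87553 = n46101 := ((c20_4 (iv4 F136892) F136894 (iv4 D46102) D46101 (iv1 D87553) F61866 D40771 D87590 F136402 (iv3 F136400) (iv1 F70467))).symm
theorem F136896 : act 0 n46101 = n40753 := (sb E14530 (iv1 D87553))
theorem F136897 : act 2 n89068 = n87552 := d15_3 (iv0 D87552) (iv0 F136896) (iv7 F136760)
def n89196 : Q := act 7 n41673
theorem D89196 : act 7 n41673 = n89196 := rfl
theorem F136898 : act 2 n89196 = n89195 := d4_1 D89196 F136893 F127125
theorem F136899 : act 4 n89196 = n41674 := d11_1 D89196 (iv7 D41674) D41673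
theorem F136900 : act 5 n89196 = n82490 := d13_1 D89196 (iv7 F136893) (iv5 D89195)
theorem F136901 : act 1 n89072 = n89196 := d15_1 (iv0 F136771) (iv7 D89196) (iv2 F127125)
theorem F136902 : act 1 n89196 = n89069 := d15_1 F136901 F136762 (iv2 F136768)
def n89197 : Q := act 6 n41674
theorem D89197 : act 6 n41674 = n89197 := rfl
def n89198 : Q := act 6 n41675
theorem D89198 : act 6 n41675 = n89198 := rfl
theorem F136903 : act 2 n89198 = n86947 := d3_1 D89198 (iv6 D86947) F64301
theorem F136904 : act 4 n89198 = n52935 := d10_1 D89198 F83652 F69245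
def n89199 : Q := act 6 n41676
theorem D89199 : act 6 n41676 = n89199 := rfl
theorem F136905 : act 2 n89199 = n41677 := d3_1 D89199 (iv6 D41677) D41676
theorem F136906 : act 3 n89199 = n45800 := d7_1 D89199 (iv6 D45800) (iv3 F64295)
theorem F136907 : act 4 n89199 = n42177 := d10_1 D89199 (iv6 D42177) (iv4 F64296)
theorem F136908 : act 0 n45800 = n89112 := d20_10 F136829 (iv1 F125898) F69701 F64064 (iv1 F31316) D22149 F63030 (iv1 F69480) (iv4 F136907) F136906
def n89200 : Q := act 0 n41677
theorem D89200 : act 0 n41677 = n89200 := rfl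
def n89201 : Q := act 1 n41677
theorem D89201 : act 1 n41677 = n89201 := rfl
def n89202 : Q := act 5 n41677
theorem D89202 : act 5 n41677 = n89202 := rfl
theorem F136909 : act 3 n89202 = n41680 := d6_1 D89202 (iv5 D41680) (iv3 F64307)
theorem F136910 : act 6 n89202 = n88075 := d12_2 D41677 D89202 (iv5 D88075) (iv6 D41128) (iv5 F31389)
def n89203 : Q := act 4 n41680
theorem D89203 : act 4 n41680 = n89203 := rfl
theorem F136911 : act 2 n89203 = n45810 := d1_1 D89203 (iv4 D45810) (iv2 F64309)
theorem F136912 : act 6 n89203 = n88088 := d10_2 (iv6 F64310) D89203 (iv4 D88088)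
def n89204 : Q := act 3 n41682
theorem D89204 : act 3 n41682 = n89204 := rfl
theorem F136913 : act 4 n89204 = n41845 := d5_2 (iv4 F64317) D89204 (iv3 D41845) (iv4 D19700) D19699
theorem F136914 : act 6 n89204 = n88263 := d7_2 (iv6 F64318) D89204 F135183
theorem F136915 : act 7 n89204 = n41695 := d8_2 F64321 D89204 (iv3 D41695)
def n89205 : Q := act 5 n41682
theorem D89205 : act 5 n41682 = n89205 := rfl
theorem F136916 : act 2 n89205 = n41693 := d2_1 D89205 (iv5 D41693) F64320
theorem F136917 : act 6 n89205 = n88269 := d12_2 (iv6 F64318) D89205 (iv5 D88269) (iv6 D41193) D41192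
theorem F136918 : act 7 n89205 = n41696 := d13_2 F64321 D89205 (iv5 D41696)
theorem F136919 : act 0 n89205 = n42763 := d17_2 D41682 D89205 (iv5 D42763) F32039 D20209 F66109 (iv5 D41890) (iv0 D19718) (iv4 F31394)
def n89206 : Q := act 3 n41683
theorem D89206 : act 3 n41683 = n89206 := rfl
theorem F136920 : act 4 n89206 = n42130 := d5_2 F64324 D89206 (iv3 D42130) F63550 F63551
theorem F136921 : act 7 n89206 = n41692 := d8_2 (iv7 F64323) D89206 (iv3 D41692)
def n89207 : Q := act 5 n41683
theorem D89207 : act 5 n41683 = n89207 := rfl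
theorem F136922 : act 2 n89207 = n41696 := d2_1 D89207 (iv5 D41696) (iv2 F64325)
theorem F136923 : act 7 n89207 = n41693 := d13_2 (iv7 F64323) D89207 (iv5 D41693)
theorem F136924 : act 1 n89207 = n42763 := d17_6 (iv1 F73745) D47890 (iv1 F75208) (iv5 D45791) F64324 D89207 (iv5 D42763) D42762 (iv4 F67002)
def n89208 : Q := act 0 n41684
theorem D89208 : act 0 n41684 = n89208 := rfl
theorem F136925 : act 2 n41698 = n89208 := d15_3 (iv0 D89208) (iv0 F74478) F75204
theorem F136926 : act 7 n89208 = n41699 := d4_2 F75204 F136925 (iv2 F74477)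
theorem F136927 : act 1 n41701 = n89208 := d15_1 F74479 F136926 (iv2 F74477)
def n89209 : Q := act 4 n41684
theorem D89209 : act 4 n41684 = n89209 := rfl
theorem F136928 : act 2 n89209 = n41700 := d1_1 D89209 (iv4 D41700) (iv2 F64327)
def n89210 : Q := act 7 n41684
theorem D89210 : act 7 n41684 = n89210 := rfl
theorem F136929 : act 2 n89210 = n41701 := d4_1 D89210 (iv7 D41701) (iv2 F64327)
theorem F136930 : act 5 n89210 = n41685 := d13_1 D89210 (iv7 D41685) D41684
theorem F136931 : act 1 n41699 = n89210 := d15_1 D41699 (iv7 D89210) F64327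
theorem F136932 : act 1 n89210 = n41698 := d15_1 F136931 (iv7 F75204) F74477
def n89211 : Q := act 6 n41686
theorem D89211 : act 6 n41686 = n89211 := rfl
def n89212 : Q := act 0 n41687
theorem D89212 : act 0 n41687 = n89212 := rfl
def n89214 : Q := act 5 n41687
theorem D89214 : act 5 n41687 = n89214 := rfl
def n89215 : Q := act 7 n41687
theorem D89215 : act 7 n41687 = n89215 := rfl
theorem F136938 : act 2 n89215 = n77289 := d4_1 D89215 (iv7 D77289) (iv2 F64336)
theorem F136939 : act 4 n89215 = n41691 := d11_1 D89215 (iv7 D41691) (iv4 F64337)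
theorem F136940 : act 6 n89215 = n86960 := d14_1 D89215 (iv7 D86960) (iv6 D40376) (iv7 F31397) D41687
theorem F136941 : act 1 n77289 = n89212 := d15_0 (iv0 D89212) D89215 F136938
theorem F136942 : act 1 n77287 = n89215 := d15_1 D77287 (iv7 D89215) F64336
theorem F136943 : act 1 n89215 = n77286 := d15_0 (iv0 D77286) D77289 (iv2 F136938)
def n89216 : Q := act 2 n41688
theorem D89216 : act 2 n41688 = n89216 := rfl
theorem F136944 : act 7 n41689 = n89216 := d15_2 (iv0 D41688) D41689 (iv2 D89216)
def n89219 : Q := act 5 n41688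
theorem D89219 : act 5 n41688 = n89219 := rfl
def n89220 : Q := act 6 n41688
theorem D89220 : act 6 n41688 = n89220 := rfl
def n89221 : Q := act 7 n41688
theorem D89221 : act 7 n41688 = n89221 := rfl
theorem F136945 : act 2 n89221 = n41689 := d4_1 D89221 F136944 (iv2 D89216)
def n89222 : Q := act 3 n41689
theorem D89222 : act 3 n41689 = n89222 := rfl
def n89224 : Q := act 5 n41689
theorem D89224 : act 5 n41689 = n89224 := rfl
def n89225 : Q := act 6 n41689
theorem D89225 : act 6 n41689 = n89225 := rfl
def n89226 : Q := act 0 n41690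
theorem D89226 : act 0 n41690 = n89226 := rfl
def n89227 : Q := act 1 n41690
theorem D89227 : act 1 n41690 = n89227 := rfl
theorem F136946 : act 5 n87690 = n89227 := d21_6 (iv5 D10736) (iv1 F7329) D9055 D19255 D40849 D87690 (iv1 D89227) (iv5 D41690) (iv6 D19624) (iv1 F17261)
def n89228 : Q := act 4 n41690
theorem D89228 : act 4 n41690 = n89228 := rfl
theorem F136947 : act 6 n89228 = n41700 := d10_2 (iv6 F64339) D89228 (iv4 D41700)
def n89229 : Q := act 7 n41690
theorem D89229 : act 7 n41690 = n89229 := rfl
theorem F136948 : act 3 n89229 = n41723 := d8_1 D89229 (iv7 D41723) (iv3 F64338)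
theorem F136949 : act 5 n89229 = n41691 := d13_1 D89229 (iv7 D41691) D41690
def n89230 : Q := act 0 n41692
theorem D89230 : act 0 n41692 = n89230 := rfl
def n89231 : Q := act 1 n41692
theorem D89231 : act 1 n41692 = n89231 := rfl
def n89232 : Q := act 2 n41692
theorem D89232 : act 2 n41692 = n89232 := rfl
theorem F136951 : act 4 n89232 = n42179 := d1_2 F67866 D89232 (iv2 F67869)
def n89233 : Q := act 5 n41692
theorem D89233 : act 5 n41692 = n89233 := rfl
theorem F136952 : act 3 n89233 = n41693 := d6_1 D89233 (iv5 D41693) D41692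
def n89234 : Q := act 6 n41692
theorem D89234 : act 6 n41692 = n89234 := rfl
theorem F136953 : act 3 n89234 = n41694 := d7_1 D89234 (iv6 D41694) D41692
theorem F136954 : act 5 n87710 = n89234 := d6_0 F136953 F64343 D87710
theorem F136955 : act 7 n88249 = n89234 := d8_0 F136953 (iv7 F64346) (iv3 F135172)
def n89235 : Q := act 0 n41693
theorem D89235 : act 0 n41693 = n89235 := rfl
theorem F136956 : act 5 n89235 = n42752 := d17_3 D19625 D41693 D89235 F66981 F66088 (iv0 D41902) (iv5 D19725) (iv0 D9255) (iv4 F14425)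
theorem F136957 : act 1 n41696 = n89235 := d15_0 (iv0 D89235) (iv7 F136923) F136922
theorem F136958 : act 2 n42763 = n89235 := d2_3 F136956 F66980 D42763
def n89236 : Q := act 1 n41693
theorem D89236 : act 1 n41693 = n89236 := rfl
theorem F136960 : act 7 n89236 = n42763 := d15_2 (iv0 D89235) D89236 F136958
theorem F136961 : act 5 n42764 = n89236 := d21_6 (iv5 F62360) (iv1 F62363) (iv5 D19363) D19364 (iv1 F65974) (iv6 F67008) (iv1 D89236) (iv5 D41693) D41694 (iv1 F64445)
theorem F136962 : act 3 n89236 = n41738 := d6_1 F136961 (iv5 F64377) (iv3 F67006)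
def n89237 : Q := act 4 n41693
theorem D89237 : act 4 n41693 = n89237 := rfl
def n89238 : Q := act 6 n41693
theorem D89238 : act 6 n41693 = n89238 := rfl
theorem F136963 : act 2 n89238 = n88269 := d3_1 D89238 (iv6 F136917) F136916
theorem F136964 : act 5 n89238 = n87712 := d12_1 D89238 (iv6 D87712) (iv5 F64343) (iv6 D41694) D41693
def n89239 : Q := act 0 n41695
theorem D89239 : act 0 n41695 = n89239 := rfl
def n89240 : Q := act 1 n41695
theorem D89240 : act 1 n41695 = n89240 := rfl
def n89241 : Q := act 2 n41695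
theorem D89241 : act 2 n41695 = n89241 := rfl

end Cfsg.Agent.Helper17.ONTC
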