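import Cfsg.Agent.Helper17.ONTC.Facts18

set_option autoImplicit false
set_option linter.all false

noncomputable section

namespace Cfsg.Agent.Helper17.ONTC

def n89242 : Q := act 5 n41695
theorem D89242 : act 5 n41695 = n89242 := rfl
theorem F136965 : act 3 n89242 = n41696 := d6_1 D89242 (iv5 D41696) D41695
def n89243 : Q := act 6 n41695
theorem D89243 : act 6 n41695 = n89243 := rfl
theorem F136966 : act 3 n89243 = n41697 := d7_1 D89243 (iv6 D41697) D41695
def n89244 : Q := act 4 n41696
theorem D89244 : act 4 n41696 = n89244 := rfl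
def n89245 : Q := act 6 n41696
theorem D89245 : act 6 n41696 = n89245 := rfl
def n89246 : Q := act 3 n41698
theorem D89246 : act 3 n41698 = n89246 := rfl
def n89247 : Q := act 4 n41698
theorem D89247 : act 4 n41698 = n89247 := rfl
def n89248 : Q := act 6 n41698
theorem D89248 : act 6 n41698 = n89248 := rfl
def n89249 : Q := act 3 n41699
theorem D89249 : act 3 n41699 = n89249 := rfl
def n89250 : Q := act 4 n41699
theorem D89250 : act 4 n41699 = n89250 := rfl
def n89251 : Q := act 6 n41699
theorem D89251 : act 6 n41699 = n89251 := rfl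
def n89252 : Q := act 0 n41700
theorem D89252 : act 0 n41700 = n89252 := rfl
theorem F136967 : act 4 n89252 = n87350 := d18_3 (iv1 D41699) D41700 D89252 F134105 (iv4 D42777) (iv0 D20207) (iv4 F32039) D42762 F67005
def n89253 : Q := act 1 n41700
theorem D89253 : act 1 n41700 = n89253 := rfl
def n89254 : Q := act 3 n41700
theorem D89254 : act 3 n41700 = n89254 := rfl
theorem F136968 : act 4 n89254 = n41767 := d5_2 D41700 D89254 (iv3 D41767) (iv4 D19648) (iv3 F31399)
def n89255 : Q := act 5 n41700
theorem D89255 : act 5 n41700 = n89255 := rfl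
def n89256 : Q := act 7 n41700
theorem D89256 : act 7 n41700 = n89256 := rfl
theorem F136969 : act 4 n89256 = n41701 := d11_1 D89256 (iv7 D41701) D41700
def n89257 : Q := act 6 n41701
theorem D89257 : act 6 n41701 = n89257 := rfl
theorem F136970 : act 3 n89257 = n41770 := d7_1 D89257 (iv6 D41770) (iv3 F64349)
theorem F136971 : act 5 n89257 = n87002 := d12_1 D89257 (iv6 D87002) F61464 (iv6 F31402) (iv5 F64350)
def n89258 : Q := act 3 n41702
theorem D89258 : act 3 n41702 = n89258 := rfl
theorem F136972 : act 4 n89258 = n87318 := d5_2 (iv4 F86435) D89258 (iv3 D87318) (iv4 F123970) (iv3 D80623)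
theorem F136973 : act 5 n89258 = n82384 := d6_2 F122975 D89258 (iv3 D82384)
theorem F136976 : act 0 n89258 = n80211 := d20_10 F123332 (iv1 D80258) (iv4 D36565) (iv3 D17640) (iv1 F21646) D27157 F43911 D36794 (iv4 F86435) D89258
theorem F136977 : act 0 n71959 = n89258 := d20_4 (iv4 F29483) (iv1 F51505) (iv4 F52482) D71959 (iv3 D89258) F86435 (iv1 F86434) F86430 (iv3 D33205) (iv1 F29482)
def n89259 : Q := act 6 n41702
theorem D89259 : act 6 n41702 = n89259 := rfl
theorem F136978 : act 2 n89259 = n82987 := d3_1 D89259 (iv6 D82987) F113269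
def n89260 : Q := act 6 n41703
theorem D89260 : act 6 n41703 = n89260 := rfl
theorem F136980 : act 2 n89260 = n82977 := d3_1 D89260 (iv6 D82977) (iv2 F113270)
def n89264 : Q := act 5 n41705
theorem D89264 : act 5 n41705 = n89264 := rfl
def n89265 : Q := act 7 n41705
theorem D89265 : act 7 n41705 = n89265 := rfl
theorem F136985 : act 3 n89265 = n41709 := d8_1 D89265 (iv7 D41709) (iv3 F64352)
def n89266 : Q := act 2 n41706
theorem D89266 : act 2 n41706 = n89266 := rfl
theorem F136986 : act 7 n41707 = n89266 := d15_2 (iv0 D41706) D41707 (iv2 D89266)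
def n89267 : Q := act 3 n41706
theorem D89267 : act 3 n41706 = n89267 := rfl
def n89268 : Q := act 4 n41706
theorem D89268 : act 4 n41706 = n89268 := rfl
def n89270 : Q := act 6 n41706
theorem D89270 : act 6 n41706 = n89270 := rfl
theorem F136987 : act 5 n89270 = n83885 := d21_6 (iv5 D16757) (iv1 F27397) F27394 D19630 D41706 D89270 (iv1 D83885) (iv5 D38630) (iv6 D18388) (iv1 F27521)
def n89271 : Q := act 7 n41706
theorem D89271 : act 7 n41706 = n89271 := rfl
theorem F136988 : act 2 n89271 = n41707 := d4_1 D89271 F136986 (iv2 D89266)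
def n89273 : Q := act 4 n41707
theorem D89273 : act 4 n41707 = n89273 := rfl
def n89275 : Q := act 6 n41707
theorem D89275 : act 6 n41707 = n89275 := rfl
def n89276 : Q := act 0 n41708
theorem D89276 : act 0 n41708 = n89276 := rfl
def n89277 : Q := act 4 n41708
theorem D89277 : act 4 n41708 = n89277 := rfl
def n89278 : Q := act 7 n41708
theorem D89278 : act 7 n41708 = n89278 := rfl
theorem F136989 : act 5 n89278 = n41709 := d13_1 D89278 (iv7 D41709) D41708
def n89280 : Q := act 1 n41710
theorem D89280 : act 1 n41710 = n89280 := rfl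
theorem F136991 : act 1 n89280 = n41715 := d15_1 D89280 (iv7 D41715) D41710
def n89281 : Q := act 3 n41710
theorem D89281 : act 3 n41710 = n89281 := rfl
theorem F136992 : act 7 n89281 = n41716 := d8_2 F64354 D89281 (iv3 D41716)
def n89282 : Q := act 4 n41710
theorem D89282 : act 4 n41710 = n89282 := rfl
theorem F136993 : act 2 n89282 = n41712 := d1_1 D89282 (iv4 D41712) D41710
theorem F136994 : act 7 n89282 = n41717 := d11_2 F64354 D89282 (iv4 D41717)
def n89283 : Q := act 5 n41710
theorem D89283 : act 5 n41710 = n89283 := rfl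
theorem F136995 : act 2 n89283 = n41713 := d2_1 D89283 (iv5 D41713) D41710
theorem F136996 : act 7 n89283 = n41718 := d13_2 F64354 D89283 (iv5 D41718)
def n89284 : Q := act 6 n41710
theorem D89284 : act 6 n41710 = n89284 := rfl
theorem F136997 : act 2 n89284 = n41714 := d3_1 D89284 (iv6 D41714) D41710
def n89285 : Q := act 0 n41711
theorem D89285 : act 0 n41711 = n89285 := rfl
def n89286 : Q := act 1 n41711
theorem D89286 : act 1 n41711 = n89286 := rfl
def n89287 : Q := act 2 n41711
theorem D89287 : act 2 n41711 = n89287 := rfl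
def n89288 : Q := act 4 n41711
theorem D89288 : act 4 n41711 = n89288 := rfl
def n89289 : Q := act 5 n41711
theorem D89289 : act 5 n41711 = n89289 := rfl
def n89290 : Q := act 6 n41711
theorem D89290 : act 6 n41711 = n89290 := rfl
theorem F136999 : act 3 n89290 = n41714 := d7_1 D89290 (iv6 D41714) D41711
def n89291 : Q := act 7 n41711
theorem D89291 : act 7 n41711 = n89291 := rfl
theorem F137000 : act 3 n89291 = n41715 := d8_1 D89291 (iv7 D41715) D41711
def n89292 : Q := act 0 n41712
theorem D89292 : act 0 n41712 = n89292 := rfl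
def n89293 : Q := act 1 n41712
theorem D89293 : act 1 n41712 = n89293 := rfl
def n89294 : Q := act 3 n41712
theorem D89294 : act 3 n41712 = n89294 := rfl
def n89295 : Q := act 5 n41712
theorem D89295 : act 5 n41712 = n89295 := rfl
def n89296 : Q := act 6 n41712
theorem D89296 : act 6 n41712 = n89296 := rfl
theorem F137002 : act 4 n89296 = n41714 := d10_1 D89296 (iv6 D41714) D41712
def n89297 : Q := act 7 n41712
theorem D89297 : act 7 n41712 = n89297 := rfl
theorem F137003 : act 2 n89297 = n41717 := d4_1 D89297 (iv7 F136994) F136993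
theorem F137004 : act 4 n89297 = n41715 := d11_1 D89297 (iv7 D41715) D41712
theorem F137005 : act 1 n41717 = n89292 := d15_0 (iv0 D89292) D89297 F137003
def n89298 : Q := act 0 n41713
theorem D89298 : act 0 n41713 = n89298 := rfl
theorem F137006 : act 5 n89298 = n89186 := d21_2 D41713 D89298 (iv6 D89186) (iv1 D41658) (iv6 D19615) (iv5 D9222) (iv1 D4173) D4175 D9229 D19631
def n89299 : Q := act 1 n41713
theorem D89299 : act 1 n41713 = n89299 := rfl
theorem F137007 : act 1 n89299 = n41718 := d15_1 D89299 (iv7 F136996) F136995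
def n89300 : Q := act 4 n41713
theorem D89300 : act 4 n41713 = n89300 := rfl
def n89301 : Q := act 6 n41713
theorem D89301 : act 6 n41713 = n89301 := rfl
def n89302 : Q := act 7 n41713
theorem D89302 : act 7 n41713 = n89302 := rfl
theorem F137008 : act 2 n89302 = n41718 := d4_1 D89302 (iv7 F136996) F136995
theorem F137009 : act 5 n89302 = n41715 := d13_1 D89302 (iv7 D41715) D41713
theorem F137010 : act 1 n41718 = n89298 := d15_0 (iv0 D89298) D89302 F137008
def n89303 : Q := act 0 n41714
theorem D89303 : act 0 n41714 = n89303 := rfl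
def n89304 : Q := act 1 n41714
theorem D89304 : act 1 n41714 = n89304 := rfl
def n89305 : Q := act 7 n41714
theorem D89305 : act 7 n41714 = n89305 := rfl
def n89306 : Q := act 6 n41715
theorem D89306 : act 6 n41715 = n89306 := rfl
theorem F137011 : act 2 n89306 = n41719 := d3_1 D89306 (iv6 D41719) (iv2 F64355)
def n89307 : Q := act 0 n41716
theorem D89307 : act 0 n41716 = n89307 := rfl
def n89308 : Q := act 1 n41716
theorem D89308 : act 1 n41716 = n89308 := rfl
def n89309 : Q := act 2 n41716
theorem D89309 : act 2 n41716 = n89309 := rfl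
def n89310 : Q := act 4 n41716
theorem D89310 : act 4 n41716 = n89310 := rfl
def n89311 : Q := act 5 n41716
theorem D89311 : act 5 n41716 = n89311 := rfl
theorem F137012 : act 3 n89311 = n41718 := d6_1 D89311 (iv5 D41718) D41716
def n89312 : Q := act 6 n41716
theorem D89312 : act 6 n41716 = n89312 := rfl
theorem F137013 : act 3 n89312 = n41719 := d7_1 D89312 (iv6 D41719) D41716
def n89313 : Q := act 3 n41717
theorem D89313 : act 3 n41717 = n89313 := rfl
def n89314 : Q := act 5 n41717
theorem D89314 : act 5 n41717 = n89314 := rfl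
def n89315 : Q := act 6 n41717
theorem D89315 : act 6 n41717 = n89315 := rfl
theorem F137014 : act 4 n89315 = n41719 := d10_1 D89315 (iv6 D41719) D41717
def n89316 : Q := act 4 n41718
theorem D89316 : act 4 n41718 = n89316 := rfl
def n89317 : Q := act 6 n41718
theorem D89317 : act 6 n41718 = n89317 := rfl
def n89318 : Q := act 0 n41719
theorem D89318 : act 0 n41719 = n89318 := rfl
theorem F137015 : act 5 n89318 = n47251 := d21_0 (iv1 F136846) F136843 F64264 (iv1 F64283) D89186 (iv5 F137006) (iv1 F137010) (iv5 D41718) D41719 D89318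
def n89319 : Q := act 1 n41719
theorem D89319 : act 1 n41719 = n89319 := rfl
def n89320 : Q := act 5 n41719
theorem D89320 : act 5 n41719 = n89320 := rfl
theorem F137016 : act 0 n89128 = n89320 := d21_1 D89128 (iv5 D89320) (iv6 D41719) (iv1 D19632) (iv6 D9229) (iv5 D4175) D4172 D9219 D19605 D41639
def n89321 : Q := act 7 n41719
theorem D89321 : act 7 n41719 = n89321 := rfl
def n89322 : Q := act 2 n41720
theorem D89322 : act 2 n41720 = n89322 := rfl
theorem F137017 : act 7 n41721 = n89322 := d15_2 (iv0 D41720) D41721 (iv2 D89322)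
def n89323 : Q := act 3 n41720
theorem D89323 : act 3 n41720 = n89323 := rfl
def n89325 : Q := act 5 n41720
theorem D89325 : act 5 n41720 = n89325 := rfl
def n89326 : Q := act 6 n41720
theorem D89326 : act 6 n41720 = n89326 := rfl
def n89327 : Q := act 7 n41720
theorem D89327 : act 7 n41720 = n89327 := rfl
theorem F137018 : act 2 n89327 = n41721 := d4_1 D89327 F137017 (iv2 D89322)
def n89328 : Q := act 3 n41721
theorem D89328 : act 3 n41721 = n89328 := rfl
def n89330 : Q := act 6 n41721
theorem D89330 : act 6 n41721 = n89330 := rfl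
def n89331 : Q := act 0 n41722
theorem D89331 : act 0 n41722 = n89331 := rfl
def n89332 : Q := act 1 n41722
theorem D89332 : act 1 n41722 = n89332 := rfl
def n89333 : Q := act 3 n41722
theorem D89333 : act 3 n41722 = n89333 := rfl
theorem F137019 : act 6 n89333 = n41767 := d7_2 (iv6 F64356) D89333 (iv3 D41767)
def n89334 : Q := act 5 n41722
theorem D89334 : act 5 n41722 = n89334 := rfl
def n89335 : Q := act 7 n41722
theorem D89335 : act 7 n41722 = n89335 := rfl
theorem F137020 : act 4 n89335 = n41723 := d11_1 D89335 (iv7 D41723) D41722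
def n89336 : Q := act 6 n41723
theorem D89336 : act 6 n41723 = n89336 := rfl
theorem F137021 : act 7 n89336 = n41770 := d14_2 D41723 D89336 (iv6 D41770) (iv7 D19649) (iv6 F31404)
def n89337 : Q := act 5 n41724
theorem D89337 : act 5 n41724 = n89337 := rfl
theorem F137022 : act 3 n89337 = n86974 := d6_1 D89337 F133491 (iv3 F64358)
theorem F137023 : act 7 n89337 = n41727 := d13_2 (iv7 F64359) D89337 (iv5 D41727)
theorem F137024 : act 0 n89337 = n47310 := d21_7 (iv5 F73573) (iv1 F73575) D47336 (iv6 F74549) (iv1 F63923) D41724 D89337 (iv5 D47310) (iv6 D22738) (iv1 F34822)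
def n89338 : Q := act 2 n41725
theorem D89338 : act 2 n41725 = n89338 := rfl
theorem F137025 : act 7 n41726 = n89338 := d15_2 (iv0 D41725) D41726 (iv2 D89338)
def n89339 : Q := act 3 n41725
theorem D89339 : act 3 n41725 = n89339 := rfl
def n89340 : Q := act 4 n41725
theorem D89340 : act 4 n41725 = n89340 := rfl
def n89341 : Q := act 5 n41725
theorem D89341 : act 5 n41725 = n89341 := rfl
def n89342 : Q := act 6 n41725
theorem D89342 : act 6 n41725 = n89342 := rfl
theorem F137026 : act 5 n89342 = n83810 := d21_6 F13493 F13491 (iv5 F14429) D19635 D41725 D89342 (iv1 D83810) (iv5 D38611) (iv6 D18383) F13566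
def n89343 : Q := act 7 n41725
theorem D89343 : act 7 n41725 = n89343 := rfl
theorem F137027 : act 2 n89343 = n41726 := d4_1 D89343 F137025 (iv2 D89338)
def n89344 : Q := act 3 n41726
theorem D89344 : act 3 n41726 = n89344 := rfl
def n89345 : Q := act 4 n41726
theorem D89345 : act 4 n41726 = n89345 := rfl
def n89346 : Q := act 5 n41726
theorem D89346 : act 5 n41726 = n89346 := rfl
def n89347 : Q := act 6 n41726
theorem D89347 : act 6 n41726 = n89347 := rfl
def n89348 : Q := act 0 n41727
theorem D89348 : act 0 n41727 = n89348 := rfl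
def n89349 : Q := act 1 n41727
theorem D89349 : act 1 n41727 = n89349 := rfl
theorem F137028 : act 5 n46582 = n89349 := d21_6 (iv5 D10621) (iv1 D4860) D4862 D10628 D22319 D46582 (iv1 D89349) (iv5 D41727) (iv6 D19635) (iv1 F17160)
def n89350 : Q := act 4 n41727
theorem D89350 : act 4 n41727 = n89350 := rfl
theorem F137029 : act 6 n89350 = n41780 := d10_2 (iv6 F64361) D89350 (iv4 D41780)
def n89352 : Q := act 3 n41728
theorem D89352 : act 3 n41728 = n89352 := rfl
theorem F137031 : act 4 n89352 = n86985 := d20_6 F16693 (iv1 F35826) (iv4 D19638) D19637 D41728 D89352 (iv1 D86985) (iv4 F63987) (iv3 D41498) F35815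
def n89353 : Q := act 4 n41728
theorem D89353 : act 4 n41728 = n89353 := rfl
def n89354 : Q := act 5 n41728
theorem D89354 : act 5 n41728 = n89354 := rfl
def n89355 : Q := act 6 n41728
theorem D89355 : act 6 n41728 = n89355 := rfl
def n89357 : Q := act 3 n41729
theorem D89357 : act 3 n41729 = n89357 := rfl
def n89358 : Q := act 4 n41729
theorem D89358 : act 4 n41729 = n89358 := rfl
def n89360 : Q := act 6 n41729
theorem D89360 : act 6 n41729 = n89360 := rfl
def n89361 : Q := act 5 n41730
theorem D89361 : act 5 n41730 = n89361 := rfl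
theorem F137033 : act 2 n89361 = n41732 := d2_1 D89361 (iv5 D41732) D41730
def n89362 : Q := act 6 n41730
theorem D89362 : act 6 n41730 = n89362 := rfl
theorem F137034 : act 2 n89362 = n41733 := d3_1 D89362 (iv6 D41733) D41730
def n89363 : Q := act 5 n41731
theorem D89363 : act 5 n41731 = n89363 := rfl
theorem F137035 : act 3 n89363 = n45373 := d6_1 D89363 (iv5 D45373) (iv3 F64368)
def n89364 : Q := act 6 n41731
theorem D89364 : act 6 n41731 = n89364 := rfl
theorem F137036 : act 3 n89364 = n45374 := d7_1 D89364 (iv6 D45374) (iv3 F64368)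
theorem F137037 : act 4 n89364 = n41733 := d10_1 D89364 (iv6 D41733) D41731
theorem F137038 : act 0 n89364 = n45521 := d20_7 (iv4 D86914) (iv1 F62477) D43711 F68704 (iv1 D41742) (iv3 F64363) (iv4 F137037) (iv4 F134465) F134464 (iv1 F133364)
def n89365 : Q := act 0 n41732
theorem D89365 : act 0 n41732 = n89365 := rfl
def n89366 : Q := act 1 n41732
theorem D89366 : act 1 n41732 = n89366 := rfl
def n89367 : Q := act 4 n41732
theorem D89367 : act 4 n41732 = n89367 := rfl
def n89368 : Q := act 6 n41732
theorem D89368 : act 6 n41732 = n89368 := rfl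
theorem F137039 : act 3 n89368 = n41740 := d7_1 D89368 (iv6 D41740) (iv3 F64362)
def n89369 : Q := act 0 n41733
theorem D89369 : act 0 n41733 = n89369 := rfl
def n89370 : Q := act 1 n41733
theorem D89370 : act 1 n41733 = n89370 := rfl
def n89371 : Q := act 5 n41733
theorem D89371 : act 5 n41733 = n89371 := rfl
theorem F137040 : act 3 n89371 = n41743 := d6_1 D89371 (iv5 D41743) (iv3 F64363)
theorem F137041 : act 7 n47489 = n89371 := d8_0 F137040 (iv7 F72161) D47489
def n89372 : Q := act 7 n41733
theorem D89372 : act 7 n41733 = n89372 := rfl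
theorem F137042 : act 3 n89372 = n41744 := d8_1 D89372 (iv7 D41744) (iv3 F64363)
theorem F137043 : act 5 n89372 = n47489 := d13_1 D89372 F137041 (iv5 D89371)
def n89373 : Q := act 5 n41734
theorem D89373 : act 5 n41734 = n89373 := rfl
theorem F137045 : act 3 n89373 = n41735 := d6_1 D89373 (iv5 D41735) D41734
theorem F137046 : act 7 n89373 = n43219 := d13_2 (iv7 F64365) D89373 (iv5 D43219)
theorem F137047 : act 0 n89373 = n87023 := d17_2 F64369 D89373 F133570 F62971 (iv5 F64851) F64849 (iv5 D41961) F35821 (iv4 F32361)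
theorem F137048 : act 4 n89373 = n45524 := d17_4 (iv1 F35590) (iv5 F32362) F64369 D89373 F71798 (iv0 D44605) (iv5 D21218) (iv0 F63149) (iv4 D19399)
theorem F137049 : act 1 n89373 = n82697 := d17_6 (iv1 F76129) D48422 (iv1 F76143) (iv5 D45373) (iv4 F64367) D89373 F127431 F76113 (iv4 F76127)
theorem F137050 : act 6 n89373 = n43934 := d21_3 (iv5 F32362) F64369 D89373 (iv1 D43934) (iv6 D20817) D20816 (iv1 F66288) (iv5 D41245) (iv6 D19401) (iv1 F35590)
def n89374 : Q := act 6 n41734
theorem D89374 : act 6 n41734 = n89374 := rfl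
theorem F137052 : act 3 n89374 = n41736 := d7_1 D89374 (iv6 D41736) D41734
theorem F137053 : act 4 n89374 = n45374 := d10_1 D89374 (iv6 D45374) (iv4 F64367)
theorem F137054 : act 5 n89374 = n42271 := d12_1 D89374 F125256 (iv5 F75632) (iv6 F137050) (iv5 D89373)
theorem F137055 : act 0 n89374 = n43856 := d21_4 (iv5 F127431) (iv1 F137049) (iv5 D89373) D89374 (iv6 D43856) F32942 (iv1 F66272) D41245 F63087 (iv1 F76113)
def n89375 : Q := act 3 n41737
theorem D89375 : act 3 n41737 = n89375 := rfl
theorem F137056 : act 5 n89375 = n46941 := d6_2 (iv5 F64374) D89375 F74159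
def n89376 : Q := act 4 n41737
theorem D89376 : act 4 n41737 = n89376 := rfl
theorem F137057 : act 0 n89376 = n41833 := d17_0 F64496 (iv1 F64414) (iv5 D41768) (iv4 D19648) (iv5 D9233) D9232 D19644 F64375 D89376
theorem F137058 : act 1 n89376 = n41803 := d18_6 (iv1 D22848) F17313 F35467 (iv4 F35110) (iv5 F64374) D89376 (iv4 D41803) D41802 F64462
def n89377 : Q := act 6 n41737
theorem D89377 : act 6 n41737 = n89377 := rfl
theorem F137059 : act 5 n89377 = n46943 := d12_1 D89377 (iv6 D46943) (iv5 D22570) D22571 (iv5 F64374)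
def n89378 : Q := act 4 n41738
theorem D89378 : act 4 n41738 = n89378 := rfl
theorem F137060 : act 0 n89378 = n41803 := d17_0 F64463 (iv1 D22795) D22797 (iv4 F63945) F63946 F31269 D19639 D41738 D89378
theorem F137061 : act 1 n89378 = n41833 := d18_6 F62995 (iv4 D22343) (iv1 F17326) (iv4 F35333) F64377 D89378 (iv4 D41833) F64460 F64459
def n89379 : Q := act 6 n41738
theorem D89379 : act 6 n41738 = n89379 := rfl
def n89380 : Q := act 0 n41739
theorem D89380 : act 0 n41739 = n89380 := rfl
theorem F137062 : act 5 n89380 = n47538 := d17_1 D89380 F74733 (iv5 F136269) (iv4 D88865) F63937 F62393 (iv5 F64374) (iv0 D41737) D41739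
theorem F137063 : act 4 n89380 = n47561 := d18_1 D89380 F74792 D88891 F136364 (iv4 F136345) F136344 F74636 F74634 F64379
theorem F137064 : act 1 n41753 = n89380 := d15_0 (iv0 D89380) (iv7 F136259) F136257
def n89381 : Q := act 1 n41739
theorem D89381 : act 1 n41739 = n89381 := rfl
theorem F137065 : act 1 n89381 = n41753 := d15_1 D89381 (iv7 F136233) F136232
theorem F137066 : act 5 n89381 = n47541 := d17_7 (iv1 F73589) (iv5 F73592) F64467 (iv5 D22792) D22791 F64379 D89381 F74739 (iv4 D46605)
theorem F137067 : act 4 n89381 = n47558 := d18_7 F35815 F16693 (iv1 F35826) (iv4 D19638) D19639 D41739 D89381 F74781 (iv5 D41499)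
def n89382 : Q := act 3 n41739
theorem D89382 : act 3 n41739 = n89382 := rfl
theorem F137068 : act 5 n89382 = n47448 := d6_2 F64379 D89382 (iv3 D47448)
def n89383 : Q := act 6 n41739
theorem D89383 : act 6 n41739 = n89383 := rfl
theorem F137069 : act 4 n89383 = n41740 := d10_1 D89383 (iv6 D41740) D41739
def n89384 : Q := act 0 n41740
theorem D89384 : act 0 n41740 = n89384 := rfl
def n89385 : Q := act 1 n41740
theorem D89385 : act 1 n41740 = n89385 := rfl
def n89386 : Q := act 5 n41740
theorem D89386 : act 5 n41740 = n89386 := rfl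
theorem F137070 : act 2 n89386 = n47494 := d2_1 D89386 (iv5 F136236) F136235
theorem F137071 : act 6 n89386 = n41743 := d12_2 D41740 D89386 (iv5 D41743) (iv6 D19640) D19639
def n89387 : Q := act 7 n41740
theorem D89387 : act 7 n41740 = n89387 := rfl
def n89388 : Q := act 4 n41743
theorem D89388 : act 4 n41743 = n89388 := rfl
theorem F137072 : act 2 n89388 = n47493 := d1_1 D89388 (iv4 D47493) (iv2 F64380)
theorem F137073 : act 7 n89388 = n47490 := d11_2 F72161 D89388 (iv4 D47490)
def n89390 : Q := act 3 n41745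
theorem D89390 : act 3 n41745 = n89390 := rfl
def n89391 : Q := act 4 n41745
theorem D89391 : act 4 n41745 = n89391 := rfl
def n89395 : Q := act 3 n41746
theorem D89395 : act 3 n41746 = n89395 := rfl
def n89396 : Q := act 4 n41746
theorem D89396 : act 4 n41746 = n89396 := rfl
theorem F137076 : act 3 n86975 = n89396 := d20_5 F30803 (iv1 F63497) F63499 D40382 D86975 (iv4 D89396) (iv1 D41746) D41748 F64386 F63561
def n89397 : Q := act 5 n41746
theorem D89397 : act 5 n41746 = n89397 := rfl
def n89398 : Q := act 6 n41746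
theorem D89398 : act 6 n41746 = n89398 := rfl
def n89399 : Q := act 4 n41747
theorem D89399 : act 4 n41747 = n89399 := rfl
theorem F137077 : act 2 n89399 = n41748 := d1_1 D89399 (iv4 D41748) D41747
theorem F137078 : act 7 n89399 = n87009 := d11_2 F136223 D89399 (iv4 F136222)
theorem F137079 : act 1 n87008 = n89399 := d15_1 D87008 F137078 (iv2 D87009)
theorem F137080 : act 3 n87025 = n89399 := d0_0 F137077 F64386 F63455 D40422 D87025
theorem F137081 : act 1 n89399 = n87007 := d15_0 (iv0 D87007) (iv7 F64387) (iv2 F137077)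
def n89400 : Q := act 5 n41747
theorem D89400 : act 5 n41747 = n89400 := rfl
theorem F137082 : act 2 n89400 = n41749 := d2_1 D89400 (iv5 D41749) D41747
def n89401 : Q := act 6 n41747
theorem D89401 : act 6 n41747 = n89401 := rfl
theorem F137083 : act 2 n89401 = n41750 := d3_1 D89401 (iv6 D41750) D41747
def n89402 : Q := act 0 n41748
theorem D89402 : act 0 n41748 = n89402 := rfl
theorem F137084 : act 1 n87009 = n89402 := d15_0 (iv0 D89402) F64387 D87009
def n89403 : Q := act 1 n41748
theorem D89403 : act 1 n41748 = n89403 := rfl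
theorem F137085 : act 1 n89403 = n87009 := d15_1 D89403 (iv7 F137078) F137077
def n89404 : Q := act 5 n41748
theorem D89404 : act 5 n41748 = n89404 := rfl
theorem F137086 : act 3 n89404 = n86915 := d6_1 D89404 (iv5 D86915) (iv3 F64386)
theorem F137087 : act 7 n89404 = n87010 := d13_2 (iv7 F64387) D89404 (iv5 D87010)
def n89405 : Q := act 6 n41748
theorem D89405 : act 6 n41748 = n89405 := rfl
theorem F137089 : act 4 n89405 = n41750 := d10_1 D89405 (iv6 D41750) D41748
def n89406 : Q := act 0 n41749
theorem D89406 : act 0 n41749 = n89406 := rfl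
def n89407 : Q := act 1 n41749
theorem D89407 : act 1 n41749 = n89407 := rfl
def n89408 : Q := act 4 n41749
theorem D89408 : act 4 n41749 = n89408 := rfl
def n89409 : Q := act 6 n41749
theorem D89409 : act 6 n41749 = n89409 := rfl
theorem F137090 : act 3 n89409 = n41754 := d7_1 D89409 (iv6 D41754) (iv3 F64388)
def n89410 : Q := act 0 n41750
theorem D89410 : act 0 n41750 = n89410 := rfl
def n89411 : Q := act 1 n41750
theorem D89411 : act 1 n41750 = n89411 := rfl
def n89412 : Q := act 5 n41750
theorem D89412 : act 5 n41750 = n89412 := rfl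
theorem F137091 : act 3 n89412 = n41757 := d6_1 D89412 (iv5 D41757) (iv3 F64389)
def n89413 : Q := act 7 n41750
theorem D89413 : act 7 n41750 = n89413 := rfl
theorem F137092 : act 3 n89413 = n41758 := d8_1 D89413 (iv7 D41758) (iv3 F64389)
def n89414 : Q := act 3 n41753
theorem D89414 : act 3 n41753 = n89414 := rfl
theorem F137093 : act 5 n89414 = n47436 := d6_2 (iv5 F64398) D89414 (iv3 D47436)
def n89415 : Q := act 6 n41753
theorem D89415 : act 6 n41753 = n89415 := rfl
theorem F137094 : act 4 n89415 = n41754 := d10_1 D89415 (iv6 D41754) D41753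
def n89416 : Q := act 0 n41754
theorem D89416 : act 0 n41754 = n89416 := rfl
def n89417 : Q := act 1 n41754
theorem D89417 : act 1 n41754 = n89417 := rfl
def n89418 : Q := act 5 n41754
theorem D89418 : act 5 n41754 = n89418 := rfl
theorem F137095 : act 6 n89418 = n41757 := d12_2 D41754 D89418 (iv5 D41757) (iv6 D19645) D19644
def n89419 : Q := act 7 n41754
theorem D89419 : act 7 n41754 = n89419 := rfl
def n89420 : Q := act 4 n41757
theorem D89420 : act 4 n41757 = n89420 := rfl
def n89421 : Q := act 0 n41759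
theorem D89421 : act 0 n41759 = n89421 := rfl
def n89422 : Q := act 1 n41759
theorem D89422 : act 1 n41759 = n89422 := rfl
def n89423 : Q := act 2 n41759
theorem D89423 : act 2 n41759 = n89423 := rfl
def n89424 : Q := act 4 n41759
theorem D89424 : act 4 n41759 = n89424 := rfl
def n89425 : Q := act 6 n41759
theorem D89425 : act 6 n41759 = n89425 := rfl
theorem F137096 : act 3 n89425 = n41761 := d7_1 D89425 (iv6 D41761) D41759
def n89426 : Q := act 0 n41760
theorem D89426 : act 0 n41760 = n89426 := rfl
theorem F137097 : act 5 n89426 = n47435 := d17_1 D89426 (iv1 D47435) (iv5 F64398) (iv4 D41753) (iv5 D19644) F31267 (iv5 F63946) F63948 D41760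
theorem F137098 : act 4 n89426 = n47551 := d18_1 D89426 (iv1 D47551) D47552 F74753 (iv4 D46626) D46625 (iv4 F74600) F74599 (iv5 F64402)
theorem F137099 : act 1 n41763 = n89426 := d15_0 (iv0 D89426) (iv7 F74605) F74604
theorem F137100 : act 7 n89426 = n88924 := d15_2 F72585 F137099 F136483
def n89427 : Q := act 3 n41760
theorem D89427 : act 3 n41760 = n89427 := rfl
theorem F137101 : act 5 n89427 = n47421 := d6_2 (iv5 F64402) D89427 (iv3 D47421)
def n89428 : Q := act 6 n41760
theorem D89428 : act 6 n41760 = n89428 := rfl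
theorem F137102 : act 4 n89428 = n41761 := d10_1 D89428 (iv6 D41761) D41760
def n89429 : Q := act 0 n41761
theorem D89429 : act 0 n41761 = n89429 := rfl
def n89430 : Q := act 1 n41761
theorem D89430 : act 1 n41761 = n89430 := rfl
def n89431 : Q := act 5 n41761
theorem D89431 : act 5 n41761 = n89431 := rfl
theorem F137103 : act 6 n89431 = n44879 := d12_2 D41761 D89431 F70511 (iv6 F70489) F58700
def n89432 : Q := act 7 n41761
theorem D89432 : act 7 n41761 = n89432 := rfl
def n89433 : Q := act 0 n41762
theorem D89433 : act 0 n41762 = n89433 := rfl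
def n89434 : Q := act 1 n41762
theorem D89434 : act 1 n41762 = n89434 := rfl
def n89435 : Q := act 2 n41762
theorem D89435 : act 2 n41762 = n89435 := rfl
def n89436 : Q := act 4 n41762
theorem D89436 : act 4 n41762 = n89436 := rfl
def n89437 : Q := act 6 n41762
theorem D89437 : act 6 n41762 = n89437 := rfl
theorem F137104 : act 3 n89437 = n41764 := d7_1 D89437 (iv6 D41764) D41762
def n89438 : Q := act 3 n41763
theorem D89438 : act 3 n41763 = n89438 := rfl
theorem F137105 : act 5 n89438 = n47389 := d6_2 (iv5 F64403) D89438 (iv3 D47389)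
def n89439 : Q := act 6 n41763
theorem D89439 : act 6 n41763 = n89439 := rfl
theorem F137106 : act 4 n89439 = n41764 := d10_1 D89439 (iv6 D41764) D41763
def n89440 : Q := act 0 n41764
theorem D89440 : act 0 n41764 = n89440 := rfl
def n89441 : Q := act 1 n41764
theorem D89441 : act 1 n41764 = n89441 := rfl
def n89442 : Q := act 7 n41764
theorem D89442 : act 7 n41764 = n89442 := rfl
def n89443 : Q := act 3 n41765
theorem D89443 : act 3 n41765 = n89443 := rfl
theorem F137107 : act 5 n89443 = n47593 := d6_2 F64405 D89443 (iv3 D47593)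
def n89444 : Q := act 6 n41765
theorem D89444 : act 6 n41765 = n89444 := rfl
theorem F137108 : act 4 n89444 = n47567 := d10_1 D89444 (iv6 D47567) (iv4 F64404)
def n89445 : Q := act 3 n41766
theorem D89445 : act 3 n41766 = n89445 := rfl
theorem F137109 : act 5 n89445 = n47544 := d6_2 (iv5 F64409) D89445 (iv3 D47544)
def n89446 : Q := act 6 n41766
theorem D89446 : act 6 n41766 = n89446 := rfl
theorem F137110 : act 4 n89446 = n47606 := d10_1 D89446 (iv6 D47606) F64408
def n89447 : Q := act 0 n41767
theorem D89447 : act 0 n41767 = n89447 := rfl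
def n89448 : Q := act 1 n41767
theorem D89448 : act 1 n41767 = n89448 := rfl
def n89449 : Q := act 2 n41767
theorem D89449 : act 2 n41767 = n89449 := rfl
def n89450 : Q := act 5 n41767
theorem D89450 : act 5 n41767 = n89450 := rfl
theorem F137111 : act 3 n89450 = n41768 := d6_1 D89450 (iv5 D41768) D41767
theorem F137112 : act 7 n46615 = n89450 := d8_0 F137111 F64412 D46615
def n89451 : Q := act 7 n41767
theorem D89451 : act 7 n41767 = n89451 := rfl
theorem F137113 : act 3 n89451 = n41769 := d8_1 D89451 (iv7 D41769) D41767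
theorem F137114 : act 5 n89451 = n46615 := d13_1 D89451 F137112 (iv5 D89450)
def n89452 : Q := act 6 n41768
theorem D89452 : act 6 n41768 = n89452 := rfl
theorem F137115 : act 2 n89452 = n47466 := d3_1 D89452 (iv6 D47466) (iv2 F64410)
theorem F137116 : act 4 n89452 = n46616 := d10_1 D89452 (iv6 D46616) (iv4 F64411)
def n89453 : Q := act 6 n41769
theorem D89453 : act 6 n41769 = n89453 := rfl
theorem F137117 : act 2 n89453 = n47465 := d3_1 D89453 (iv6 D47465) (iv2 F64415)
theorem F137118 : act 4 n89453 = n41770 := d10_1 D89453 (iv6 D41770) (iv4 F64416)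
def n89454 : Q := act 0 n41770
theorem D89454 : act 0 n41770 = n89454 := rfl
def n89455 : Q := act 1 n41770
theorem D89455 : act 1 n41770 = n89455 := rfl
def n89456 : Q := act 5 n41770
theorem D89456 : act 5 n41770 = n89456 := rfl
theorem F137119 : act 3 n89456 = n87002 := d6_1 D89456 (iv5 F136971) F136970
theorem F137120 : act 6 n89456 = n41771 := d12_2 D41770 D89456 (iv5 D41771) (iv6 D19650) (iv5 F31409)
def n89457 : Q := act 4 n41771
theorem D89457 : act 4 n41771 = n89457 := rfl
theorem F137121 : act 7 n89457 = n41780 := d11_2 (iv7 F64419) D89457 (iv4 D41780)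
def n89458 : Q := act 0 n41772
theorem D89458 : act 0 n41772 = n89458 := rfl
def n89459 : Q := act 1 n41772
theorem D89459 : act 1 n41772 = n89459 := rfl
def n89460 : Q := act 2 n41772
theorem D89460 : act 2 n41772 = n89460 := rfl
theorem F137122 : act 4 n89460 = n45367 := d1_2 F70259 D89460 (iv2 F71522)
def n89461 : Q := act 5 n41772
theorem D89461 : act 5 n41772 = n89461 := rfl
theorem F137123 : act 3 n89461 = n41773 := d6_1 D89461 (iv5 D41773) D41772
def n89462 : Q := act 6 n41772
theorem D89462 : act 6 n41772 = n89462 := rfl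
theorem F137124 : act 3 n89462 = n41774 := d7_1 D89462 (iv6 D41774) D41772
theorem F137125 : act 5 n46610 = n89462 := d6_0 F137124 F64421 D46610
theorem F137126 : act 7 n47432 = n89462 := d8_0 F137124 (iv7 F64424) (iv3 F74628)
def n89463 : Q := act 0 n41773
theorem D89463 : act 0 n41773 = n89463 := rfl
theorem F137127 : act 5 n89463 = n46445 := d17_3 D19651 D41773 D89463 F73324 (iv5 F64512) (iv0 D41847) (iv5 D19701) (iv0 D9247) (iv4 F14432)
theorem F137128 : act 1 n41776 = n89463 := d15_0 (iv0 D89463) (iv7 F135760) F135759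
theorem F137129 : act 2 n46789 = n89463 := d2_3 F137127 F73323 D46789
def n89464 : Q := act 1 n41773
theorem D89464 : act 1 n41773 = n89464 := rfl
theorem F137131 : act 7 n89464 = n46789 := d15_2 (iv0 D89463) D89464 F137129
theorem F137132 : act 5 n44874 = n89464 := d21_6 (iv5 F35325) (iv1 F35328) (iv5 D10766) D10767 (iv1 F66263) D44874 (iv1 D89464) (iv5 D41773) D41774 (iv1 F64795)
theorem F137133 : act 3 n89464 = n86981 := d6_1 F137132 F133500 (iv3 F70490)
def n89465 : Q := act 4 n41773
theorem D89465 : act 4 n41773 = n89465 := rfl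
def n89466 : Q := act 6 n41773
theorem D89466 : act 6 n41773 = n89466 := rfl
theorem F137134 : act 2 n89466 = n47452 := d3_1 D89466 (iv6 F135754) F135753
theorem F137135 : act 5 n89466 = n46612 := d12_1 D89466 (iv6 D46612) (iv5 F64421) (iv6 D41774) D41773
def n89467 : Q := act 0 n41775
theorem D89467 : act 0 n41775 = n89467 := rfl
def n89468 : Q := act 1 n41775
theorem D89468 : act 1 n41775 = n89468 := rfl
def n89469 : Q := act 2 n41775
theorem D89469 : act 2 n41775 = n89469 := rfl
def n89470 : Q := act 4 n41775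
theorem D89470 : act 4 n41775 = n89470 := rfl
theorem F137136 : act 3 n89470 = n41891 := d5_1 D89470 (iv4 D41891) F61804 F61803 D41775
theorem F137137 : act 7 n89470 = n41899 := d11_2 F135752 D89470 (iv4 F135750)
theorem E14531 : n89468 = n89396 := ((c20_1 D89396 (iv1 D89468) D89470 F137136 F64601 (iv3 F70213) F70214 D44679 F70253 (iv3 F136221) (iv1 F136226))).symm
theorem F137138 : act 0 n89396 = n41775 := (sb E14531 (iv1 D89468))
theorem E14532 : n89395 = n89230 := ((c20_5 F33495 D21270 (iv4 F63712) D41692 D89230 (iv3 D89395) D89396 F137138 D89470 F137136 F64601)).symm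
theorem F137139 : act 3 n89230 = n41746 := (sb E14532 (iv3 D89395))
def n89471 : Q := act 5 n41775
theorem D89471 : act 5 n41775 = n89471 := rfl
theorem F137140 : act 3 n89471 = n41776 := d6_1 D89471 (iv5 D41776) D41775
def n89472 : Q := act 6 n41775
theorem D89472 : act 6 n41775 = n89472 := rfl
theorem F137141 : act 3 n89472 = n41777 := d7_1 D89472 (iv6 D41777) D41775
def n89473 : Q := act 4 n41776
theorem D89473 : act 4 n41776 = n89473 := rfl
def n89474 : Q := act 6 n41776
theorem D89474 : act 6 n41776 = n89474 := rfl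
def n89475 : Q := act 3 n41778
theorem D89475 : act 3 n41778 = n89475 := rfl
def n89476 : Q := act 4 n41778
theorem D89476 : act 4 n41778 = n89476 := rfl
theorem F137142 : act 1 n89476 = n88919 := d18_6 F66675 F66003 D42523 F73903 F73908 D89476 (iv4 D88919) (iv0 F74884) (iv5 D47621)
def n89477 : Q := act 6 n41778
theorem D89477 : act 6 n41778 = n89477 := rfl
def n89478 : Q := act 3 n41779
theorem D89478 : act 3 n41779 = n89478 := rfl
def n89479 : Q := act 4 n41779
theorem D89479 : act 4 n41779 = n89479 := rfl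
theorem F137143 : act 0 n89479 = n88919 := d18_2 (iv1 F135768) D89479 (iv4 D88919) (iv5 D41520) F31291 D20416 F61803 F63721 (iv5 F135767)
def n89480 : Q := act 6 n41779
theorem D89480 : act 6 n41779 = n89480 := rfl
def n89481 : Q := act 0 n41780
theorem D89481 : act 0 n41780 = n89481 := rfl
theorem F137144 : act 4 n89481 = n46020 := d18_3 (iv1 D41779) D41780 D89481 (iv5 F134008) F134007 (iv0 D22458) (iv4 F34998) (iv0 F72141) F72140
def n89482 : Q := act 1 n41780
theorem D89482 : act 1 n41780 = n89482 := rfl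
theorem F137145 : act 4 n89482 = n46021 := d18_7 (iv1 F64055) (iv4 D19704) (iv1 D9248) (iv4 F14432) D19653 D41780 D89482 F136470 F136469
def n89483 : Q := act 3 n41780
theorem D89483 : act 3 n41780 = n89483 := rfl
theorem F137146 : act 4 n89483 = n86999 := d5_2 D41780 D89483 (iv3 D86999) (iv4 D40392) (iv3 F31413)
def n89484 : Q := act 5 n41780
theorem D89484 : act 5 n41780 = n89484 := rfl
def n89485 : Q := act 6 n41781
theorem D89485 : act 6 n41781 = n89485 := rfl
theorem F137147 : act 2 n89485 = n41789 := d3_1 D89485 (iv6 D41789) (iv2 F64427)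
theorem F137149 : act 4 n89485 = n87435 := d10_1 D89485 (iv6 F134196) (iv4 F64428)
theorem F137150 : act 5 n89485 = n48101 := d12_1 D89485 (iv6 F135848) F135845 (iv6 D41782) D41781
theorem F137151 : act 7 n89485 = n45792 := d14_2 (iv7 F70222) D89485 (iv6 D45792) (iv7 F63554) D44666
theorem F137152 : act 0 n89485 = n45769 := d21_4 (iv5 F16969) (iv1 F63497) D41781 D89485 (iv6 D45769) D45768 F72228 F35404 (iv6 D22347) F63109
theorem F137153 : act 0 n45814 = n89485 := d21_4 D44953 (iv1 F76154) F76150 (iv6 F72350) (iv6 D89485) (iv5 D41781) (iv1 F63780) F63777 (iv6 F68877) (iv1 F68878)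
def n89486 : Q := act 0 n41783
theorem D89486 : act 0 n41783 = n89486 := rfl
theorem F137154 : act 1 n86986 = n89486 := d15_0 (iv0 D89486) F64432 D86986
def n89487 : Q := act 1 n41783
theorem D89487 : act 1 n41783 = n89487 := rfl
def n89488 : Q := act 2 n41783
theorem D89488 : act 2 n41783 = n89488 := rfl
theorem F137155 : act 3 n89488 = n86977 := d0_2 D41783 D89488 (iv2 D86977) (iv3 D40382) (iv2 F63500)
theorem F137156 : act 4 n89488 = n41798 := d1_2 (iv4 F64431) D89488 (iv2 D41798)
theorem F137157 : act 7 n89488 = n86986 := d4_2 (iv7 F64432) D89488 (iv2 D86986)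
theorem F137158 : act 1 n89488 = n86984 := d15_0 (iv0 D86984) (iv7 F64432) D89488
theorem F137159 : act 1 n89487 = n86986 := d15_1 D89487 (iv7 F137157) (iv2 D89488)
theorem F137160 : act 4 n89239 = n86984 := d20_0 (iv1 F137158) F137156 (iv3 F136308) (iv1 F136311) (iv3 F64491) F61717 (iv1 F34382) F63426 D41695 D89239
theorem F137161 : act 1 n86985 = n89488 := d15_1 D86985 F137157 (iv2 D86986)
theorem E14533 : n89352 = n89240 := (c20_1 (iv4 F137031) (iv1 D89240) (iv4 F135781) (iv3 D88605) F63735 (iv3 F64049) F64050 D43273 (iv4 F133492) (iv3 F137155) (iv1 F137161))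
theorem F137162 : act 3 n89240 = n41728 := (sb E14533 (iv3 D89352))
theorem F137163 : act 4 n89240 = n86985 := (sb E14533 F137031)
theorem F137164 : act 3 n89458 = n86985 := d20_5 F31291 D20415 (iv4 F63697) D41772 D89458 (iv4 F137163) (iv1 D89240) (iv4 F135781) (iv3 D88605) F63735
def n89489 : Q := act 5 n41783
theorem D89489 : act 5 n41783 = n89489 := rfl
theorem F137165 : act 3 n89489 = n41784 := d6_1 D89489 (iv5 D41784) D41783
theorem F137166 : act 7 n89489 = n86987 := d13_2 (iv7 F64432) D89489 (iv5 D86987)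
def n89490 : Q := act 6 n41783
theorem D89490 : act 6 n41783 = n89490 := rfl
theorem F137167 : act 3 n89490 = n41785 := d7_1 D89490 (iv6 D41785) D41783
theorem F137168 : act 4 n89490 = n41800 := d10_1 D89490 (iv6 D41800) (iv4 F64431)
theorem F137169 : act 5 n47204 = n89490 := d6_0 F137167 F64437 D47204
def n89491 : Q := act 4 n41784
theorem D89491 : act 4 n41784 = n89491 := rfl
theorem F137170 : act 2 n89491 = n86982 := d1_1 D89491 (iv4 D86982) (iv2 F64433)
theorem F137171 : act 7 n89491 = n86989 := d11_2 (iv7 F64434) D89491 (iv4 D86989)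
theorem F137172 : act 5 n89491 = n87711 := d16_1 D89491 (iv4 D87711) (iv5 F64343) (iv4 F70220) F70221 (iv4 F63774) D86909 F133344 (iv2 F64433)
def n89492 : Q := act 6 n41784
theorem D89492 : act 6 n41784 = n89492 := rfl
theorem F137173 : act 2 n89492 = n86983 := d3_1 D89492 (iv6 D86983) (iv2 F64433)
theorem F137174 : act 5 n89492 = n47206 := d12_1 D89492 (iv6 D47206) (iv5 F64437) (iv6 D41785) D41784
def n89493 : Q := act 1 n41785
theorem D89493 : act 1 n41785 = n89493 := rfl
theorem F137175 : act 1 n89493 = n44000 := d15_1 D89493 (iv7 F72339) (iv2 F64435)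
theorem F137176 : act 7 n89493 = n43992 := d15_2 (iv0 F65938) D89493 F69192
theorem F137177 : act 4 n89493 = n43994 := d17_9 (iv1 F69202) F66195 (iv1 D10988) (iv5 D5003) (iv4 F7341) D10745 D22708 (iv5 F64437) D89493
theorem F137178 : act 6 n87436 = n89493 := d21_3 D22681 D47138 (iv5 F134201) (iv1 D89493) (iv6 D41785) D41784 (iv1 F68687) (iv5 D43702) (iv6 D20695) (iv1 F62731)
theorem F137179 : act 2 n89493 = n44002 := d3_1 F137178 F69216 (iv2 F134199)
def n89494 : Q := act 7 n41785
theorem D89494 : act 7 n41785 = n89494 := rfl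
theorem F137181 : act 4 n89494 = n41793 := d11_1 D89494 (iv7 D41793) (iv4 F64436)
theorem F137182 : act 5 n89494 = n47148 := d13_1 D89494 F74415 (iv5 F64437)
theorem F137183 : act 6 n89494 = n44266 := d14_1 D89494 F69665 (iv6 D40389) (iv7 F63501) D41785
theorem F137184 : act 1 n44002 = n89494 := d15_1 (iv0 F69217) (iv7 D89494) F64435
theorem F137185 : act 1 n89494 = n43992 := d15_1 F137184 (iv7 F137176) F137179
def n89495 : Q := act 3 n41788
theorem D89495 : act 3 n41788 = n89495 := rfl
theorem F137186 : act 4 n89495 = n41811 := d5_2 D41788 D89495 (iv3 D41811) (iv4 D19675) (iv3 F31425)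
theorem F137187 : act 5 n89495 = n87707 := d6_2 (iv5 F64443) D89495 (iv3 D87707)
theorem F137188 : act 7 n89495 = n88263 := d8_2 (iv7 F64442) D89495 F135183
def n89496 : Q := act 1 n41789
theorem D89496 : act 1 n41789 = n89496 := rfl
theorem F137189 : act 1 n89496 = n45792 := d15_1 D89496 (iv7 F137151) F137147
theorem F137190 : act 7 n89496 = n45769 := d15_2 (iv0 F70664) D89496 F72231
theorem F137191 : act 5 n89496 = n46842 := d18_9 F74013 F73354 (iv1 D43734) (iv4 D20716) F15542 (iv4 F33012) D43979 (iv4 F69145) D89496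
theorem F137192 : act 3 n46843 = n89496 := d20_3 (iv4 F64681) (iv1 F68318) (iv4 F74022) (iv1 D89496) F64446 (iv4 F64475) F64476 (iv4 F66299) F66300 F35942
theorem F137194 : act 4 n89496 = n87919 := d20_6 F66299 (iv1 F70501) F64523 (iv3 F64522) (iv1 F74024) F137192 F134916 F133565 (iv3 F133524) F133528
theorem F137195 : act 6 n41791 = n89496 := d10_0 F137194 F134915 (iv4 F133551)
theorem F137196 : act 0 n43547 = n42132 := d20_7 F137194 F134916 F133565 (iv3 F133524) F133528 F66300 D43547 (iv4 F67840) (iv3 F72280) (iv1 F137189)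
def n89497 : Q := act 3 n41791
theorem D89497 : act 3 n41791 = n89497 := rfl
theorem F137197 : act 2 n89497 = n88871 := d0_1 D89497 F136289 (iv2 F64744) D41987 (iv2 F72334)
theorem F137198 : act 5 n89497 = n47630 := d6_2 (iv5 F74866) D89497 F75949
theorem F137199 : act 6 n89497 = n46843 := d7_2 (iv6 F137195) D89497 F137192
theorem F137200 : act 7 n89497 = n45815 := d8_2 (iv7 F72329) D89497 F72352
theorem F137201 : act 0 n88872 = n89497 := d20_4 (iv4 F65934) (iv1 F136336) F136333 (iv3 F136291) (iv3 D89497) F133551 (iv1 D87016) F61482 (iv3 F61475) F74584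
theorem F137202 : act 1 n43223 = n89497 := d15_0 (iv0 F137201) (iv7 D88872) (iv2 F67711)
def n89498 : Q := act 0 n41794
theorem D89498 : act 0 n41794 = n89498 := rfl
theorem F137203 : act 3 n89498 = n88827 := d20_5 (iv4 F31268) (iv1 F35656) (iv4 F35657) D41794 D89498 (iv4 D88827) (iv1 D41470) F31260 F31259 D19527
theorem F137204 : act 1 n45994 = n89498 := d15_0 (iv0 D89498) F64453 (iv2 F72570)
def n89499 : Q := act 1 n41794
theorem D89499 : act 1 n41794 = n89499 := rfl
def n89500 : Q := act 2 n41794
theorem D89500 : act 2 n41794 = n89500 := rfl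
theorem F137205 : act 3 n89500 = n87541 := d0_2 D41794 D89500 F136301 (iv3 D88873) (iv2 F63955)
theorem F137206 : act 7 n89500 = n45994 := d4_2 (iv7 F64453) D89500 F72570
theorem F137207 : act 1 n89500 = n45999 := d15_0 (iv0 D45999) (iv7 F64453) D89500
theorem F137208 : act 1 n89499 = n45994 := d15_1 D89499 (iv7 F137206) (iv2 D89500)
theorem F137209 : act 1 n46000 = n89500 := d15_1 D46000 F137206 F72570
def n89501 : Q := act 5 n41794
theorem D89501 : act 5 n41794 = n89501 := rfl
theorem F137210 : act 3 n89501 = n41795 := d6_1 D89501 (iv5 D41795) D41794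
theorem F137211 : act 7 n89501 = n46001 := d13_2 (iv7 F64453) D89501 (iv5 D46001)
def n89502 : Q := act 4 n41795
theorem D89502 : act 4 n41795 = n89502 := rfl
theorem F137212 : act 2 n89502 = n89426 := d1_1 D89502 F137098 (iv2 F74750)
theorem F137213 : act 5 n89502 = n46685 := d9_2 D41795 D89502 (iv4 D46685) (iv5 D22390) (iv4 F30770) F30771 (iv4 F31297) D41523 D88924 F136484 (iv4 D47516) (iv5 D22832) (iv4 F34854) F35621 (iv4 F35657)
theorem F137214 : act 7 n89502 = n46007 := d11_2 (iv7 F64454) D89502 (iv4 D46007)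
theorem F137215 : act 0 n89502 = n47395 := d17_0 F74606 (iv1 F74734) (iv5 F137062) F137063 (iv5 D47561) F35557 D22892 (iv0 F64455) D89502
theorem F137216 : act 1 n89502 = n88865 := d18_6 D19527 (iv4 F31268) (iv1 F35656) (iv4 F35657) D41795 D89502 (iv4 D88865) (iv0 D41483) (iv5 D19529)
def n89503 : Q := act 6 n41795
theorem D89503 : act 6 n41795 = n89503 := rfl
def n89505 : Q := act 3 n41796
theorem D89505 : act 3 n41796 = n89505 := rfl
theorem F137218 : act 4 n89505 = n89403 := d20_6 F6072 D4178 D9238 D19669 D41796 D89505 (iv1 D89403) (iv4 D41748) (iv3 D19642) (iv1 D9232)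
theorem F137219 : act 0 n41899 = n89505 := d20_10 F137218 (iv1 D89403) (iv4 D41748) (iv3 D19642) (iv1 D9232) (iv3 F14424) F14425 D9255 D19724 D41899
def n89510 : Q := act 3 n41797
theorem D89510 : act 3 n41797 = n89510 := rfl
def n89511 : Q := act 4 n41797
theorem D89511 : act 4 n41797 = n89511 := rfl
theorem F137222 : act 0 n88605 = n89511 := d20_10 (iv4 D89511) (iv1 D41797) (iv4 F64431) (iv3 D41783) F31422 (iv3 F31410) F31411 (iv1 F31130) D41353 D88605
theorem F137223 : act 3 n89402 = n89511 := d20_5 F30639 (iv1 F30590) D40326 (iv3 F64386) D89402 (iv4 D89511) (iv1 D41797) (iv4 F64431) (iv3 D41783) F31422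
theorem F137224 : act 0 n89510 = n88822 := d20_10 (iv4 D88822) (iv1 F136197) F136193 F136192 (iv1 F64331) D41695 (iv4 F135781) F137222 (iv4 D89511) D89510
def n89514 : Q := act 5 n41798
theorem D89514 : act 5 n41798 = n89514 := rfl
theorem F137225 : act 2 n89514 = n41799 := d2_1 D89514 (iv5 D41799) D41798
def n89515 : Q := act 6 n41798
theorem D89515 : act 6 n41798 = n89515 := rfl
theorem F137226 : act 2 n89515 = n41800 := d3_1 D89515 (iv6 D41800) D41798
def n89516 : Q := act 0 n41799
theorem D89516 : act 0 n41799 = n89516 := rfl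
def n89517 : Q := act 1 n41799
theorem D89517 : act 1 n41799 = n89517 := rfl
def n89518 : Q := act 4 n41799
theorem D89518 : act 4 n41799 = n89518 := rfl
def n89519 : Q := act 6 n41799
theorem D89519 : act 6 n41799 = n89519 := rfl
theorem F137227 : act 3 n89519 = n41804 := d7_1 D89519 (iv6 D41804) (iv3 F64457)
def n89520 : Q := act 0 n41800
theorem D89520 : act 0 n41800 = n89520 := rfl
def n89521 : Q := act 1 n41800
theorem D89521 : act 1 n41800 = n89521 := rfl
def n89522 : Q := act 5 n41800
theorem D89522 : act 5 n41800 = n89522 := rfl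
theorem F137228 : act 3 n89522 = n41807 := d6_1 D89522 (iv5 D41807) (iv3 F64458)
def n89523 : Q := act 7 n41800
theorem D89523 : act 7 n41800 = n89523 := rfl
theorem F137229 : act 3 n89523 = n41808 := d8_1 D89523 (iv7 D41808) (iv3 F64458)
def n89524 : Q := act 3 n41801
theorem D89524 : act 3 n41801 = n89524 := rfl
theorem F137230 : act 5 n89524 = n46909 := d6_2 (iv5 F64459) D89524 F74120
def n89525 : Q := act 4 n41801
theorem D89525 : act 4 n41801 = n89525 := rfl
theorem F137231 : act 2 n89525 = n89380 := d1_1 D89525 F137063 F74790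
theorem F137232 : act 7 n89525 = n89381 := d11_2 F74779 D89525 F137067
theorem F137233 : act 5 n89525 = n47387 := d16_1 D89525 F74597 F73649 F64095 (iv5 F62406) F62405 (iv5 F64462) (iv7 F74791) F74790
theorem F137234 : act 0 n89525 = n88861 := d17_0 F136258 (iv1 F74717) (iv5 F136484) (iv4 D88924) (iv5 D41523) F35660 D19690 F64460 D89525
theorem F137235 : act 1 n89525 = n88852 := d18_6 F35424 F34828 (iv1 F62998) (iv4 F62994) (iv5 F64459) D89525 (iv4 D88852) (iv0 F74760) (iv5 D47554)
def n89526 : Q := act 6 n41801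
theorem D89526 : act 6 n41801 = n89526 := rfl
theorem F137236 : act 5 n89526 = n46911 := d12_1 D89526 (iv6 D46911) (iv5 D22530) D22531 (iv5 F64459)
def n89527 : Q := act 3 n41802
theorem D89527 : act 3 n41802 = n89527 := rfl
theorem F137237 : act 5 n89527 = n47550 := d6_2 (iv5 F64462) D89527 (iv3 D47550)
def n89528 : Q := act 4 n41802
theorem D89528 : act 4 n41802 = n89528 := rfl
theorem F137238 : act 2 n89528 = n89381 := d1_1 D89528 F137067 F74778
theorem F137239 : act 5 n89528 = n47388 := d9_2 (iv5 F64462) D89528 F74600 F73655 (iv4 F68389) (iv5 D43516) (iv4 F62994) (iv5 F64459) D89525 F137233 F74597 F73649 F64095 (iv5 F62406) F62405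
theorem F137240 : act 7 n89528 = n89380 := d11_2 F74791 D89528 F137063
theorem F137241 : act 0 n89528 = n88852 := d17_0 F136234 (iv1 F73789) (iv5 F137213) (iv4 D89502) (iv5 D41795) (iv0 D19667) D19670 D41802 D89528
theorem F137242 : act 1 n89528 = n88861 := d18_6 F35435 F35337 (iv1 F62404) F62405 (iv5 F64462) D89528 (iv4 D88861) (iv0 F74775) (iv5 D47556)
def n89529 : Q := act 6 n41802
theorem D89529 : act 6 n41802 = n89529 := rfl
theorem F137243 : act 5 n89529 = n46328 := d12_1 D89529 (iv6 D46328) D46327 F72979 (iv5 F64462)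
def n89530 : Q := act 3 n41803
theorem D89530 : act 3 n41803 = n89530 := rfl
theorem F137244 : act 5 n89530 = n47458 := d6_2 (iv5 F64463) D89530 (iv3 D47458)
def n89531 : Q := act 6 n41803
theorem D89531 : act 6 n41803 = n89531 := rfl
theorem F137245 : act 4 n89531 = n41804 := d10_1 D89531 (iv6 D41804) D41803
def n89532 : Q := act 0 n41804
theorem D89532 : act 0 n41804 = n89532 := rfl
def n89533 : Q := act 1 n41804
theorem D89533 : act 1 n41804 = n89533 := rfl
def n89534 : Q := act 5 n41804
theorem D89534 : act 5 n41804 = n89534 := rfl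
theorem F137246 : act 6 n89534 = n41807 := d12_2 D41804 D89534 (iv5 D41807) (iv6 D19671) D19670
def n89535 : Q := act 7 n41804
theorem D89535 : act 7 n41804 = n89535 := rfl
def n89536 : Q := act 3 n41806
theorem D89536 : act 3 n41806 = n89536 := rfl
theorem F137247 : act 7 n89536 = n46090 := d8_2 (iv7 F65936) D89536 F72659
theorem F137248 : act 0 n89536 = n87033 := d20_4 F74590 (iv1 F133530) F133532 D89536 (iv3 D87033) (iv4 D40425) F62498 (iv4 F33278) (iv3 F33631) (iv1 F72164)
def n89537 : Q := act 1 n41807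
theorem D89537 : act 1 n41807 = n89537 := rfl
theorem F137249 : act 1 n89537 = n46676 := d15_1 D89537 (iv7 F136338) F136328
theorem F137250 : act 7 n89537 = n46424 := d15_2 (iv0 F64464) D89537 F73266
theorem F137251 : act 5 n89537 = n45737 := d17_7 (iv1 F16608) D10817 F31440 (iv5 D19680) (iv4 F31429) D41807 D89537 (iv0 D45737) (iv4 D21864)
theorem F137252 : act 2 n46678 = n89537 := d2_3 F137251 (iv2 F72166) (iv5 F73773)
theorem F137253 : act 3 n88354 = n89537 := d6_3 F137251 F72170 D88354
def n89538 : Q := act 4 n41807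
theorem D89538 : act 4 n41807 = n89538 := rfl
theorem F137254 : act 2 n89538 = n47496 := d1_1 D89538 F136331 F136328
theorem F137255 : act 0 n89538 = n45735 := d18_2 (iv1 D89537) D89538 (iv4 D45735) (iv5 D21860) F16600 D10430 D21869 F72167 (iv5 F137251)
theorem F137256 : act 1 n89538 = n47470 := d18_6 (iv1 F136246) F64382 (iv1 D19679) (iv4 F31429) D41807 D89538 (iv4 D47470) F72157 (iv5 F136244)
def n89539 : Q := act 7 n41807
theorem D89539 : act 7 n41807 = n89539 := rfl
theorem F137257 : act 2 n89539 = n46676 := d4_1 D89539 (iv7 F136338) F136328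
theorem F137258 : act 5 n89539 = n41808 := d13_1 D89539 (iv7 D41808) D41807
theorem F137259 : act 1 n46678 = n89539 := d15_1 F136330 (iv7 D89539) (iv2 F136328)
theorem F137260 : act 1 n89539 = n46424 := d15_1 F137259 (iv7 F137250) (iv2 F137252)
theorem F137261 : act 4 n47495 = n89539 := d18_3 (iv1 D22812) D22813 D47495 F137258 F64465 F65754 (iv4 F33632) (iv0 F66327) F63932
theorem F137262 : act 7 n89538 = n47495 := d11_0 F137261 (iv7 D89539) D89538
def n89540 : Q := act 3 n41809
theorem D89540 : act 3 n41809 = n89540 := rfl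
theorem F137263 : act 4 n89540 = n89540 := d5_2 D41809 D89540 (iv3 D89540) (iv4 D41809) F62218
theorem F137264 : act 7 n89540 = n46342 := d8_2 (iv7 F64466) D89540 F72993
def n89541 : Q := act 3 n41810
theorem D89541 : act 3 n41810 = n89541 := rfl
theorem F137265 : act 7 n89541 = n46321 := d8_2 (iv7 F64470) D89541 F72975
def n89542 : Q := act 0 n41811
theorem D89542 : act 0 n41811 = n89542 := rfl
theorem F137266 : act 4 n89542 = n89521 := d20_0 (iv1 D89521) (iv4 F137168) F137167 F65938 (iv3 F34282) F34283 (iv1 F62654) D19675 D41811 D89542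
def n89543 : Q := act 1 n41811
theorem D89543 : act 1 n41811 = n89543 := rfl
theorem F137267 : act 4 n89520 = n89543 := d20_0 (iv1 D89543) (iv4 F137186) (iv3 D89495) F68709 F68704 F64382 (iv1 D19679) (iv4 F31429) (iv3 F64458) D89520
def n89544 : Q := act 2 n41811
theorem D89544 : act 2 n41811 = n89544 := rfl
def n89545 : Q := act 5 n41811
theorem D89545 : act 5 n41811 = n89545 := rfl
theorem F137268 : act 3 n89545 = n41812 := d6_1 D89545 (iv5 D41812) D41811
def n89546 : Q := act 6 n41811
theorem D89546 : act 6 n41811 = n89546 := rfl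
theorem F137269 : act 3 n89546 = n41813 := d7_1 D89546 (iv6 D41813) D41811
def n89547 : Q := act 6 n41812
theorem D89547 : act 6 n41812 = n89547 := rfl
theorem F137270 : act 4 n89547 = n47456 := d10_1 D89547 (iv6 D47456) (iv4 F64472)
def n89548 : Q := act 5 n41813
theorem D89548 : act 5 n41813 = n89548 := rfl
theorem F137271 : act 2 n89548 = n46901 := d2_1 D89548 (iv5 F74114) F70505
theorem F137272 : act 7 n89548 = n46900 := d13_2 F70500 D89548 F74111
theorem F137273 : act 0 n89548 = n46467 := d17_2 (iv1 F74126) D89548 (iv5 D46467) (iv4 F62751) D43326 F74152 (iv5 F133526) F133529 F127131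
theorem F137274 : act 1 n89548 = n46469 := d17_6 F62709 D10947 D23293 F63002 (iv4 F64475) D89548 (iv5 D46469) F34739 F17233
def n89549 : Q := act 3 n41815
theorem D89549 : act 3 n41815 = n89549 := rfl
theorem F137275 : act 4 n89549 = n48281 := d5_2 D41815 D89549 (iv3 D48281) (iv4 F64450) F64447
theorem F137276 : act 7 n89549 = n47647 := d8_2 (iv7 F64479) D89549 (iv3 D47647)
def n89550 : Q := act 5 n41815
theorem D89550 : act 5 n41815 = n89550 := rfl
theorem F137277 : act 2 n89550 = n47653 := d2_1 D89550 (iv5 D47653) (iv2 F64478)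
theorem F137278 : act 7 n89550 = n47648 := d13_2 (iv7 F64479) D89550 (iv5 D47648)
def n89551 : Q := act 5 n41817
theorem D89551 : act 5 n41817 = n89551 := rfl
theorem F137279 : act 2 n89551 = n41826 := d2_1 D89551 (iv5 D41826) (iv2 F64483)
theorem F137281 : act 6 n89551 = n42111 := d12_2 D41817 D89551 (iv5 D42111) (iv6 F64482) (iv5 D41816)
theorem F137282 : act 7 n89551 = n47860 := d13_2 (iv7 F71734) D89551 (iv5 F75133)
theorem F137283 : act 0 n89551 = n42444 := d17_2 (iv1 F73996) D89551 (iv5 D42444) (iv4 D20036) D20037 F65551 F65549 (iv0 F69429) (iv4 F62941)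
theorem F137284 : act 0 n42430 = n89551 := d21_1 D42430 (iv5 D89551) (iv6 D41817) F63530 (iv6 D9372) (iv5 D4255) (iv1 F6291) F6999 D10600 F65861
def n89552 : Q := act 0 n41818
theorem D89552 : act 0 n41818 = n89552 := rfl
def n89553 : Q := act 1 n41818
theorem D89553 : act 1 n41818 = n89553 := rfl
def n89554 : Q := act 2 n41818
theorem D89554 : act 2 n41818 = n89554 := rfl
theorem F137285 : act 4 n89554 = n41830 := d1_2 (iv4 F64484) D89554 (iv2 D41830)
def n89555 : Q := act 5 n41818
theorem D89555 : act 5 n41818 = n89555 := rfl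
theorem F137286 : act 3 n89555 = n41819 := d6_1 D89555 (iv5 D41819) D41818
def n89556 : Q := act 6 n41818
theorem D89556 : act 6 n41818 = n89556 := rfl
theorem F137287 : act 3 n89556 = n41820 := d7_1 D89556 (iv6 D41820) D41818
theorem F137288 : act 4 n89556 = n41832 := d10_1 D89556 (iv6 D41832) (iv4 F64484)
def n89557 : Q := act 4 n41819
theorem D89557 : act 4 n41819 = n89557 := rfl
def n89558 : Q := act 6 n41819
theorem D89558 : act 6 n41819 = n89558 := rfl
theorem F137289 : act 2 n89558 = n71926 := d3_1 D89558 F108438 F67767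
def n89559 : Q := act 0 n41820
theorem D89559 : act 0 n41820 = n89559 := rfl
theorem F137290 : act 4 n89559 = n42193 := d18_3 (iv1 F71736) (iv4 F64485) D89559 F65123 D42240 F67959 F67957 F66412 F66404
theorem F137291 : act 6 n89559 = n43528 := d21_5 D88509 F135510 (iv5 D41819) D41820 D89559 (iv5 F74815) (iv1 F74816) (iv5 D42356) D42357 (iv1 F65432)
theorem F137292 : act 2 n42554 = n89559 := d15_3 (iv0 D89559) (iv0 F64486) (iv7 F66379)
theorem F137293 : act 7 n89559 = n42562 := d4_2 (iv7 F66379) F137292 F66390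
theorem F137294 : act 1 n43245 = n42562 := d15_1 F73999 (iv7 F137293) (iv2 F137292)
theorem F137295 : act 1 n44126 = n89559 := d15_1 D44126 F137293 F66390
def n89560 : Q := act 7 n41820
theorem D89560 : act 7 n41820 = n89560 := rfl
theorem F137296 : act 2 n89560 = n44126 := d4_1 D89560 F69466 F67769
theorem F137297 : act 4 n89560 = n41827 := d11_1 D89560 (iv7 D41827) (iv4 F64485)
theorem F137298 : act 1 n42562 = n89560 := d15_1 F137294 (iv7 D89560) (iv2 F67769)
theorem F137299 : act 1 n89560 = n42554 := d15_1 F137298 F66379 (iv2 F66390)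
def n89561 : Q := act 3 n41823
theorem D89561 : act 3 n41823 = n89561 := rfl
theorem F137300 : act 4 n89561 = n41839 := d5_2 D41823 D89561 (iv3 D41839) (iv4 D19692) (iv3 F31442)
theorem F137301 : act 6 n89561 = n42128 := d7_2 (iv6 F64487) D89561 (iv3 D42128)
def n89562 : Q := act 3 n41824
theorem D89562 : act 3 n41824 = n89562 := rfl
theorem F137306 : act 0 n89562 = n88885 := d20_4 (iv4 F61526) (iv1 F65567) F71740 D89562 F136346 (iv4 F136371) (iv1 F136374) F64090 F62932 F65127
theorem F137307 : act 4 n87030 = n89562 := d20_8 F71733 (iv1 D44126) F33146 (iv3 F33143) (iv1 F71757) F61504 (iv4 F61505) D87030 (iv3 D89562) (iv1 F71741)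
theorem F137308 : act 1 n89562 = n88622 := d18_6 (iv1 D41098) D41099 D88020 F135025 (iv5 F133586) F137307 F135828 (iv0 D44265) F62529
def n89563 : Q := act 5 n41829
theorem D89563 : act 5 n41829 = n89563 := rfl
theorem F137309 : act 3 n89563 = n87353 := d6_1 D89563 F134109 F64491
theorem F137310 : act 7 n89563 = n46269 := d13_2 (iv7 F64492) D89563 (iv5 D46269)
theorem F137311 : act 1 n47605 = n89563 := d15_1 (iv0 F136668) F137310 (iv2 F136667)
def n89564 : Q := act 5 n41830
theorem D89564 : act 5 n41830 = n89564 := rfl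
theorem F137312 : act 2 n89564 = n41831 := d2_1 D89564 (iv5 D41831) D41830
def n89565 : Q := act 6 n41830
theorem D89565 : act 6 n41830 = n89565 := rfl
theorem F137313 : act 2 n89565 = n41832 := d3_1 D89565 (iv6 D41832) D41830
def n89566 : Q := act 0 n41831
theorem D89566 : act 0 n41831 = n89566 := rfl
def n89567 : Q := act 1 n41831
theorem D89567 : act 1 n41831 = n89567 := rfl
def n89568 : Q := act 4 n41831
theorem D89568 : act 4 n41831 = n89568 := rfl
def n89569 : Q := act 6 n41831
theorem D89569 : act 6 n41831 = n89569 := rfl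
theorem F137314 : act 3 n89569 = n41834 := d7_1 D89569 (iv6 D41834) (iv3 F64494)
def n89570 : Q := act 0 n41832
theorem D89570 : act 0 n41832 = n89570 := rfl
def n89571 : Q := act 1 n41832
theorem D89571 : act 1 n41832 = n89571 := rfl
theorem F137315 : act 3 n86943 = n89571 := d20_3 (iv4 F137149) F137152 (iv4 F133439) (iv1 D89571) F64495 F31444 D19693 (iv4 F64399) (iv3 F68734) (iv1 F134194)
theorem F137316 : act 4 n43897 = n89571 := d20_6 F137290 (iv1 F65129) (iv4 F69431) F69433 (iv1 D43902) (iv3 F69017) (iv1 D89571) (iv4 F137288) F137287 D89559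
theorem F137317 : act 6 n89571 = n43895 := d10_2 D43897 F137316 (iv4 D43895)
theorem F137318 : act 2 n46285 = n89571 := d3_3 F137317 F69013 D46285
def n89572 : Q := act 5 n41832
theorem D89572 : act 5 n41832 = n89572 := rfl
theorem F137319 : act 3 n89572 = n41837 := d6_1 D89572 (iv5 D41837) (iv3 F64495)
theorem F137320 : act 0 n87905 = n89572 := d21_1 D87905 (iv5 D89572) (iv6 D41832) (iv1 F64493) (iv6 D41580) (iv5 F35068) (iv1 F35069) F34697 D46426 F135038
def n89573 : Q := act 7 n41832
theorem D89573 : act 7 n41832 = n89573 := rfl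
theorem F137321 : act 3 n89573 = n41838 := d8_1 D89573 (iv7 D41838) (iv3 F64495)
def n89574 : Q := act 3 n41833
theorem D89574 : act 3 n41833 = n89574 := rfl
theorem F137322 : act 5 n89574 = n47455 := d6_2 (iv5 F64496) D89574 (iv3 D47455)
def n89575 : Q := act 6 n41833
theorem D89575 : act 6 n41833 = n89575 := rfl
theorem F137323 : act 4 n89575 = n41834 := d10_1 D89575 (iv6 D41834) D41833
def n89576 : Q := act 0 n41834
theorem D89576 : act 0 n41834 = n89576 := rfl
def n89577 : Q := act 1 n41834
theorem D89577 : act 1 n41834 = n89577 := rfl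
def n89578 : Q := act 5 n41834
theorem D89578 : act 5 n41834 = n89578 := rfl
theorem F137324 : act 6 n89578 = n41837 := d12_2 D41834 D89578 (iv5 D41837) (iv6 D19691) D19690
def n89579 : Q := act 7 n41834
theorem D89579 : act 7 n41834 = n89579 := rfl
def n89580 : Q := act 3 n41835
theorem D89580 : act 3 n41835 = n89580 := rfl
theorem F137325 : act 7 n89580 = n46309 := d8_2 (iv7 F73312) D89580 F72956
def n89581 : Q := act 4 n41835
theorem D89581 : act 4 n41835 = n89581 := rfl
theorem F137329 : act 5 n89581 = n47026 := d17_5 F65666 D22242 D46439 F73311 D89581 (iv0 D47026) (iv5 D22610) (iv0 F66041) D20074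
theorem F137330 : act 0 n89581 = n82694 := d17_0 F127414 (iv1 F75288) (iv5 D40870) (iv4 F66073) D22411 D46746 (iv5 F136372) F136375 D89581
theorem F137331 : act 1 n89581 = n82481 := d18_6 (iv1 D22629) D22630 D47053 F74299 F73311 D89581 F127104 F74769 F62623
theorem F137332 : act 3 n89581 = n87024 := d20_9 (iv4 F71754) (iv1 D45501) F34161 (iv3 F34157) (iv1 F71736) F31443 (iv4 F31444) D41835 D89581 (iv1 F133577)
theorem F137333 : act 0 n42025 = n44657 := d20_7 (iv4 D89581) (iv1 F136375) F136371 (iv3 F136346) (iv1 F136350) (iv3 F64824) D42025 F70206 (iv3 F127103) (iv1 F137331)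
def n89582 : Q := act 4 n41837
theorem D89582 : act 4 n41837 = n89582 := rfl
theorem F137334 : act 0 n89582 = n46786 := d18_2 (iv1 F64497) D89582 (iv4 D46786) (iv5 D22454) (iv4 D10671) F17126 (iv4 F34707) F34711 D22411
theorem F137335 : act 1 n89582 = n46778 := d18_6 (iv1 F136264) F64111 F35500 (iv4 F31444) D41837 D89582 (iv4 D46778) D46777 (iv5 F136262)
def n89583 : Q := act 7 n41837
theorem D89583 : act 7 n41837 = n89583 := rfl
theorem F137336 : act 2 n89583 = n46746 := d4_1 D89583 F136369 F136366
theorem F137337 : act 5 n89583 = n41838 := d13_1 D89583 (iv7 D41838) D41837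
theorem F137338 : act 1 n46438 = n89583 := d15_1 F136368 (iv7 D89583) (iv2 F136366)
theorem F137339 : act 1 n89583 = n42517 := d15_1 F137338 F66000 (iv2 F73300)
def n89584 : Q := act 0 n41839
theorem D89584 : act 0 n41839 = n89584 := rfl
def n89585 : Q := act 1 n41839
theorem D89585 : act 1 n41839 = n89585 := rfl
theorem F137340 : act 3 n87016 = n89585 := d20_3 F72337 (iv1 F72336) F133551 (iv1 D89585) (iv3 D41839) (iv4 D19692) F62655 (iv4 F34283) F34282 D44000
theorem F137341 : act 7 n89585 = n46287 := d8_2 (iv7 F133550) F137340 F72946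
theorem F137342 : act 2 n46287 = n89584 := d15_3 (iv0 D89584) D89585 F137341
theorem F137343 : act 6 n89584 = n46270 := d3_2 D46287 F137342 (iv2 F72930)
def n89586 : Q := act 2 n41839
theorem D89586 : act 2 n41839 = n89586 := rfl
theorem F137344 : act 6 n89586 = n46263 := d3_2 F135771 D89586 (iv2 F136451)
def n89587 : Q := act 5 n41839
theorem D89587 : act 5 n41839 = n89587 := rfl
theorem F137345 : act 3 n89587 = n41840 := d6_1 D89587 (iv5 D41840) D41839
theorem F137346 : act 0 n89587 = n46850 := d21_7 (iv5 F34697) (iv1 F35072) (iv5 F35076) D41581 F135773 F135771 D89587 (iv5 D46850) (iv6 D22505) (iv1 F34695)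
def n89588 : Q := act 6 n41840
theorem D89588 : act 6 n41840 = n89588 := rfl
theorem F137347 : act 4 n89588 = n47459 := d10_1 D89588 (iv6 D47459) (iv4 F64501)
def n89589 : Q := act 3 n41841
theorem D89589 : act 3 n41841 = n89589 := rfl
def n89590 : Q := act 5 n41841
theorem D89590 : act 5 n41841 = n89590 := rfl
def n89591 : Q := act 5 n41843
theorem D89591 : act 5 n41843 = n89591 := rfl
def n89592 : Q := act 1 n41844
theorem D89592 : act 1 n41844 = n89592 := rfl
theorem F137349 : act 1 n89592 = n45791 := d15_1 D89592 F72278 F70216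
theorem F137350 : act 7 n89592 = n46660 := d15_2 (iv0 F75207) D89592 (iv2 F75205)
theorem F137351 : act 6 n46456 = n89592 := d21_3 (iv5 F137150) F137152 (iv5 F73351) (iv1 D89592) F75176 F75179 (iv1 F73749) (iv5 D46662) (iv6 F66971) D48101
theorem F137352 : act 5 n46661 = n89592 := d21_6 (iv5 F63430) (iv1 F35400) (iv5 F63103) (iv6 F70447) F72230 (iv6 F73739) (iv1 D89592) (iv5 D41844) (iv6 F63983) F69721
theorem F137353 : act 2 n89592 = n48120 := d2_1 F137352 F75613 (iv2 F73738)
def n89593 : Q := act 4 n41844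
theorem D89593 : act 4 n41844 = n89593 := rfl
theorem F137354 : act 6 n89593 = n42771 := d10_2 (iv6 F75176) D89593 F75180
def n89594 : Q := act 0 n41845
theorem D89594 : act 0 n41845 = n89594 := rfl
theorem F137357 : act 4 n89594 = n88887 := d20_0 (iv1 D88887) F63987 (iv3 D40387) (iv1 D19083) (iv3 F14431) F14432 D9247 D19700 D41845 D89594
theorem F137358 : act 3 n87007 = n89594 := d20_5 F13923 D8941 D19088 D40406 D87007 F137357 (iv1 D88887) F63987 (iv3 D40387) (iv1 D19083)
def n89595 : Q := act 1 n41845
theorem D89595 : act 1 n41845 = n89595 := rfl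
theorem F137359 : act 4 n88886 = n89595 := d20_0 (iv1 D89595) (iv4 F136913) (iv3 D89204) F64319 F31400 F14430 (iv1 F14341) D19538 D41498 D88886
def n89596 : Q := act 2 n41845
theorem D89596 : act 2 n41845 = n89596 := rfl
theorem F137360 : act 3 n89596 = n46263 := d0_2 D41845 D89596 (iv2 F136451) (iv3 D88602) F63723
theorem F137361 : act 1 n89596 = n89511 := d15_0 (iv0 F137222) F135782 D89596
def n89597 : Q := act 5 n41845
theorem D89597 : act 5 n41845 = n89597 := rfl
theorem F137362 : act 3 n89597 = n41846 := d6_1 D89597 (iv5 D41846) D41845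
def n89598 : Q := act 0 n41846
theorem D89598 : act 0 n41846 = n89598 := rfl
theorem F137363 : act 5 n89598 = n42518 := d17_3 (iv1 F63557) D41846 D89598 F66003 D42525 (iv0 F66359) (iv5 D41897) F63481 F30773
theorem F137364 : act 1 n41853 = n89598 := d15_0 (iv0 D89598) (iv7 F135784) F135783
theorem F137365 : act 2 n46758 = n89598 := d2_3 F137363 F66002 D46758
def n89599 : Q := act 1 n41846
theorem D89599 : act 1 n41846 = n89599 := rfl
theorem F137366 : act 1 n89599 = n41853 := d15_1 D89599 (iv7 F135775) F135774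
theorem F137367 : act 7 n89599 = n46758 := d15_2 (iv0 D89598) D89599 F137365
theorem F137368 : act 5 n46759 = n89599 := d21_6 (iv5 F35955) (iv1 F35412) (iv5 D10811) D10812 D22887 (iv6 F73873) (iv1 D89599) (iv5 D41846) (iv6 F63994) F63996
def n89600 : Q := act 4 n41846
theorem D89600 : act 4 n41846 = n89600 := rfl
def n89601 : Q := act 6 n41846
theorem D89601 : act 6 n41846 = n89601 := rfl
def n89602 : Q := act 4 n41847
theorem D89602 : act 4 n41847 = n89602 := rfl
theorem F137370 : act 7 n89602 = n46952 := d11_2 F64515 D89602 F74170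
def n89603 : Q := act 6 n41847
theorem D89603 : act 6 n41847 = n89603 := rfl
theorem F137373 : act 5 n89603 = n41874 := d12_1 D89603 F64547 (iv5 D22251) D22252 (iv5 F64512)
theorem F137375 : act 0 n89603 = n45743 := d21_4 (iv5 D22918) (iv1 F35533) (iv5 F64512) D89603 (iv6 D45743) (iv5 D21865) (iv1 F16608) D10817 (iv6 F31447) F35989
def n89604 : Q := act 0 n41849
theorem D89604 : act 0 n41849 = n89604 := rfl
theorem F137377 : act 4 n89604 = n42525 := d18_3 F65743 D41849 D89604 (iv5 D42525) (iv4 F66003) (iv0 F66675) F35979 (iv0 F65711) (iv5 F36411)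
theorem F137378 : act 1 n41855 = n89604 := d15_0 (iv0 D89604) (iv7 F135789) F135787
def n89606 : Q := act 3 n41849
theorem D89606 : act 3 n41849 = n89606 := rfl
def n89607 : Q := act 5 n41849
theorem D89607 : act 5 n41849 = n89607 := rfl
def n89608 : Q := act 0 n41850
theorem D89608 : act 0 n41850 = n89608 := rfl
theorem F137383 : act 5 n89608 = n47580 := d21_2 D41850 D89608 (iv6 D47580) F74809 F74805 (iv5 D44006) (iv1 F63133) (iv5 F35825) F63167 (iv1 F63703)
theorem F137384 : act 1 n42111 = n89608 := d15_0 (iv0 D89608) (iv7 F67836) F67833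
theorem F137385 : act 6 n46819 = n89608 := d21_3 (iv5 F73984) F73952 F73948 (iv1 F137384) (iv6 F137281) (iv5 D89551) F73995 F64885 (iv6 F62982) (iv1 F73983)
theorem F137386 : act 2 n89608 = n46845 := d3_1 F137385 (iv6 D46845) (iv2 F73949)
def n89609 : Q := act 1 n41850
theorem D89609 : act 1 n41850 = n89609 := rfl
theorem F137388 : act 1 n89609 = n42111 := d15_1 D89609 (iv7 F67838) F67837
theorem F137389 : act 7 n89609 = n46845 := d15_2 (iv0 D89608) D89609 (iv2 F137386)
theorem F137390 : act 5 n42445 = n89609 := d21_0 (iv1 D89609) (iv5 D41850) D41851 (iv1 F74024) (iv6 F137199) F137198 (iv1 F74895) (iv5 D43825) D43826 (iv1 F68882)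
def n89610 : Q := act 4 n41850
theorem D89610 : act 4 n41850 = n89610 := rfl
theorem F137392 : act 6 n89610 = n43583 := d10_2 F66465 D89610 F68500
def n89611 : Q := act 5 n41852
theorem D89611 : act 5 n41852 = n89611 := rfl
theorem F137393 : act 3 n89611 = n41853 := d6_1 D89611 (iv5 D41853) D41852
def n89612 : Q := act 6 n41852
theorem D89612 : act 6 n41852 = n89612 := rfl
theorem F137394 : act 3 n89612 = n41854 := d7_1 D89612 (iv6 D41854) D41852
def n89613 : Q := act 4 n41853
theorem D89613 : act 4 n41853 = n89613 := rfl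
def n89614 : Q := act 6 n41853
theorem D89614 : act 6 n41853 = n89614 := rfl
def n89615 : Q := act 5 n41854
theorem D89615 : act 5 n41854 = n89615 := rfl
theorem F137395 : act 2 n89615 = n46900 := d2_1 D89615 F74111 F70498
theorem F137396 : act 7 n89615 = n46901 := d13_2 F70507 D89615 (iv5 F74114)
theorem F137397 : act 1 n89615 = n46467 := d17_6 D10613 D22270 F62701 F63005 (iv4 F64523) D89615 (iv5 D46467) (iv0 D22263) F17139
theorem F137398 : act 0 n89615 = n46469 := d21_1 D89615 (iv5 D46469) F63021 (iv1 D22858) D22861 (iv5 F72650) (iv1 D46083) (iv5 D22011) D22012 (iv1 F70501)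
def n89617 : Q := act 5 n41855
theorem D89617 : act 5 n41855 = n89617 := rfl
def n89618 : Q := act 6 n41855
theorem D89618 : act 6 n41855 = n89618 := rfl
theorem F137399 : act 2 n89618 = n43189 := d3_1 D89618 (iv6 F135788) F135787
theorem F137400 : act 4 n89618 = n41856 := d10_1 D89618 (iv6 D41856) D41855
theorem F137401 : act 7 n89618 = n43192 := d14_2 F135779 D89618 (iv6 F75279) F75280 (iv6 F135778)
theorem F137402 : act 0 n42623 = n89618 := d20_7 F136077 (iv1 F68558) (iv4 D42644) F35794 (iv1 D20126) (iv3 F31945) (iv4 F66458) F137400 F66466 (iv1 F136081)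
def n89619 : Q := act 4 n41858
theorem D89619 : act 4 n41858 = n89619 := rfl
theorem F137406 : act 0 n41895 = n89619 := d20_1 D41895 (iv4 D89619) (iv3 D41858) F63760 F63755 (iv4 F135806) (iv1 F135808) (iv4 F67826) F67823 F36526
def n89624 : Q := act 6 n41862
theorem D89624 : act 6 n41862 = n89624 := rfl
def n89642 : Q := act 6 n41868
theorem D89642 : act 6 n41868 = n89642 := rfl
theorem F137420 : act 5 n89642 = n41888 := d12_1 D89642 (iv6 D41888) (iv5 D19717) (iv6 F31451) D41868
def n89643 : Q := act 1 n41869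
theorem D89643 : act 1 n41869 = n89643 := rfl
theorem F137421 : act 7 n89643 = n46658 := d15_2 (iv0 F75194) D89643 (iv2 F75192)
theorem F137422 : act 6 n47609 = n89643 := d21_3 (iv5 F72331) (iv1 F72336) F74866 (iv1 D89643) (iv6 D41869) (iv5 D19710) F16934 D10246 (iv6 F33735) D44955
theorem F137423 : act 2 n89643 = n48532 := d3_1 F137422 F76385 (iv2 F76152)
def n89644 : Q := act 7 n41869
theorem D89644 : act 7 n41869 = n89644 := rfl
theorem F137424 : act 3 n89644 = n41876 := d8_1 D89644 (iv7 D41876) (iv3 F64535)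
theorem F137427 : act 1 n48532 = n89644 := d15_1 (iv0 F122675) (iv7 D89644) (iv2 F122671)
theorem F137428 : act 1 n89644 = n46658 := d15_1 F137427 (iv7 F137421) F137423
def n89645 : Q := act 0 n41870
theorem D89645 : act 0 n41870 = n89645 := rfl
theorem F137429 : act 6 n89645 = n83232 := d21_5 (iv5 D17440) (iv1 F14446) D19711 D41870 D89645 (iv5 D83232) F119010 D40061 F60951 F31150
theorem F137430 : act 2 n47686 = n89645 := d15_3 (iv0 D89645) (iv0 F136125) F122377
theorem F137431 : act 7 n47687 = n89645 := d15_2 (iv0 D47686) D47687 (iv2 F137430)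
theorem F137432 : act 2 n79709 = n47687 := d4_3 F137431 (iv2 F137430) (iv7 F122377)
theorem F137433 : act 1 n47688 = n89645 := d15_1 F136126 (iv7 F137431) (iv2 F137432)
def n89646 : Q := act 7 n41870
theorem D89646 : act 7 n41870 = n89646 := rfl
theorem F137435 : act 5 n89646 = n88658 := d13_1 D89646 F135973 (iv5 F64538)
theorem F137437 : act 1 n47687 = n89646 := d15_1 D47687 (iv7 D89646) F64537
theorem F137438 : act 1 n89646 = n47686 := d15_1 F137437 (iv7 F122377) F137432
def n89647 : Q := act 0 n41871
theorem D89647 : act 0 n41871 = n89647 := rfl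
def n89648 : Q := act 1 n41871
theorem D89648 : act 1 n41871 = n89648 := rfl
def n89649 : Q := act 2 n41871
theorem D89649 : act 2 n41871 = n89649 := rfl
theorem F137440 : act 3 n89649 = n47691 := d0_2 D41871 D89649 (iv2 D47691) (iv3 D22955) (iv2 F31460)
theorem F137441 : act 7 n89649 = n47679 := d4_2 (iv7 F64539) D89649 (iv2 D47679)
theorem F137442 : act 1 n89649 = n47677 := d15_0 (iv0 D47677) (iv7 F64539) D89649
theorem F137443 : act 1 n89648 = n47679 := d15_1 D89648 (iv7 F137441) (iv2 D89649)
theorem F137444 : act 1 n47678 = n89649 := d15_1 D47678 F137441 (iv2 D47679)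
def n89650 : Q := act 5 n41871
theorem D89650 : act 5 n41871 = n89650 := rfl
theorem F137445 : act 3 n89650 = n41872 := d6_1 D89650 (iv5 D41872) D41871
def n89651 : Q := act 6 n41871
theorem D89651 : act 6 n41871 = n89651 := rfl
theorem F137447 : act 3 n89651 = n41873 := d7_1 D89651 (iv6 D41873) D41871
def n89652 : Q := act 6 n41872
theorem D89652 : act 6 n41872 = n89652 := rfl
theorem F137449 : act 4 n89652 = n88758 := d10_1 D89652 (iv6 D88758) (iv4 F64541)
def n89653 : Q := act 0 n41873
theorem D89653 : act 0 n41873 = n89653 := rfl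
theorem F137450 : act 4 n89653 = n42522 := d20_2 (iv4 F64546) D89653 F66004 F32687 F32684 (iv4 F32251) (iv1 F32254) (iv4 F32249) D23681 F65737
theorem F137451 : act 2 n47695 = n89653 := d1_3 F137450 (iv2 F134688) F134689
theorem F137452 : act 6 n42521 = n89653 := d10_0 F137450 (iv6 D42522) D42521
theorem F137453 : act 7 n47696 = n89653 := d15_2 (iv0 D47695) D47696 (iv2 F137451)
theorem F137454 : act 4 n43649 = n47696 := d11_3 F137453 F137450 (iv7 F68579)
def n89654 : Q := act 1 n41873
theorem D89654 : act 1 n41873 = n89654 := rfl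
theorem F137455 : act 1 n89654 = n46970 := d15_1 D89654 F74185 (iv2 F64545)
theorem F137456 : act 7 n89654 = n47695 := d15_2 (iv0 D89653) D89654 F137451
theorem F137457 : act 2 n47696 = n89654 := d4_3 F137456 F137451 (iv7 F137453)
theorem F137458 : act 4 n84265 = n89654 := d11_3 F137456 (iv4 F134689) F134690
theorem F137459 : act 6 n89654 = n47624 := d10_2 F133536 F137458 (iv4 F76264)
theorem F137460 : act 1 n46970 = n89653 := d15_1 F137455 (iv7 F137453) F137457
def n89655 : Q := act 5 n41873
theorem D89655 : act 5 n41873 = n89655 := rfl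
def n89656 : Q := act 7 n41873
theorem D89656 : act 7 n41873 = n89656 := rfl
theorem F137463 : act 4 n89656 = n41876 := d11_1 D89656 (iv7 D41876) (iv4 F64546)
theorem F137464 : act 6 n89656 = n46483 := d14_1 D89656 (iv7 D46483) F34753 (iv7 F31461) D41873
theorem F137465 : act 1 n47696 = n89656 := d15_1 D47696 (iv7 D89656) F64545
theorem F137466 : act 1 n89656 = n47695 := d15_1 F137465 (iv7 F137456) (iv2 F137457)
theorem F137467 : act 4 n43644 = n47682 := d20_2 (iv4 F32761) D43644 (iv3 F74967) (iv1 F137428) F137424 (iv4 F137463) (iv1 F137465) (iv4 F137454) (iv3 D43649) (iv1 D20644)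
theorem F137468 : act 0 n48533 = n87065 := d20_7 F134689 (iv1 F137466) F137463 (iv3 F137424) (iv1 F137427) (iv3 D48532) D48533 F133664 (iv3 F66450) F134692
theorem F137469 : act 4 n48532 = n88402 := d20_0 (iv1 D88402) F63594 (iv3 F63586) D88389 (iv3 F135373) F134689 (iv1 F137466) F137463 (iv3 F137424) (iv1 F137427)
theorem F137471 : act 1 n48531 = n87065 := d15_0 (iv0 F137468) F76388 (iv2 F76383)
def n89657 : Q := act 4 n41874
theorem D89657 : act 4 n41874 = n89657 := rfl
theorem F137472 : act 2 n89657 = n46792 := d1_1 D89657 F73912 F64548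
theorem F137473 : act 6 n89657 = n46446 := d10_2 (iv6 F64547) D89657 (iv4 D46446)
def n89658 : Q := act 0 n41877
theorem D89658 : act 0 n41877 = n89658 := rfl
theorem F137477 : act 1 n47723 = n89658 := d15_0 (iv0 D89658) F64561 D47723
def n89659 : Q := act 1 n41877
theorem D89659 : act 1 n41877 = n89659 := rfl
def n89660 : Q := act 2 n41877
theorem D89660 : act 2 n41877 = n89660 := rfl
theorem F137478 : act 3 n89660 = n47731 := d0_2 D41877 D89660 (iv2 D47731) (iv3 D22969) (iv2 F31472)
theorem F137479 : act 7 n89660 = n47723 := d4_2 (iv7 F64561) D89660 (iv2 D47723)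
theorem F137480 : act 1 n89660 = n47721 := d15_0 (iv0 D47721) (iv7 F64561) D89660
theorem F137481 : act 1 n89659 = n47723 := d15_1 D89659 (iv7 F137479) (iv2 D89660)
theorem F137482 : act 1 n47722 = n89660 := d15_1 D47722 F137479 (iv2 D47723)
def n89661 : Q := act 5 n41877
theorem D89661 : act 5 n41877 = n89661 := rfl
def n89662 : Q := act 6 n41877
theorem D89662 : act 6 n41877 = n89662 := rfl
def n89664 : Q := act 0 n41879
theorem D89664 : act 0 n41879 = n89664 := rfl
def n89665 : Q := act 1 n41879
theorem D89665 : act 1 n41879 = n89665 := rfl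
theorem F137487 : act 1 n89665 = n47738 := d15_1 D89665 (iv7 D47738) (iv2 F64565)
def n89666 : Q := act 5 n41879
theorem D89666 : act 5 n41879 = n89666 := rfl
theorem F137488 : act 2 n89666 = n47737 := d2_1 D89666 (iv5 D47737) (iv2 F64565)
def n89667 : Q := act 7 n41879
theorem D89667 : act 7 n41879 = n89667 := rfl
theorem F137489 : act 2 n89667 = n47738 := d4_1 D89667 (iv7 D47738) (iv2 F64565)
theorem F137491 : act 1 n47738 = n89664 := d15_0 (iv0 D89664) D89667 F137489
def n89668 : Q := act 0 n41880
theorem D89668 : act 0 n41880 = n89668 := rfl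
theorem F137494 : act 1 n47731 = n89668 := d15_0 (iv0 D89668) F64567 D47731
def n89669 : Q := act 1 n41880
theorem D89669 : act 1 n41880 = n89669 := rfl
def n89670 : Q := act 2 n41880
theorem D89670 : act 2 n41880 = n89670 := rfl
theorem F137495 : act 3 n89670 = n47723 := d0_2 D41880 D89670 (iv2 D47723) (iv3 D22966) F31469
theorem F137496 : act 4 n89670 = n86877 := d1_2 (iv4 F64566) D89670 (iv2 D86877)
theorem F137497 : act 7 n89670 = n47731 := d4_2 (iv7 F64567) D89670 (iv2 D47731)
theorem F137498 : act 1 n89670 = n47729 := d15_0 (iv0 D47729) (iv7 F64567) D89670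
theorem F137499 : act 1 n89669 = n47731 := d15_1 D89669 (iv7 F137497) (iv2 D89670)
theorem F137500 : act 1 n47730 = n89670 := d15_1 D47730 F137497 (iv2 D47731)
def n89671 : Q := act 5 n41880
theorem D89671 : act 5 n41880 = n89671 := rfl
def n89673 : Q := act 3 n41882
theorem D89673 : act 3 n41882 = n89673 := rfl
theorem F137504 : act 7 n89673 = n47740 := d8_2 (iv7 F135724) D89673 (iv3 D47740)
theorem F137505 : act 4 n89673 = n42651 := d20_6 (iv4 D19477) F14255 D9253 D19716 D41882 D89673 (iv1 D42651) (iv4 F66477) (iv3 D42645) F31958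
theorem F137506 : act 7 n42651 = n43306 := d11_2 (iv7 F137504) F137505 (iv4 F75013)
theorem F137507 : act 2 n43306 = n42650 := d15_3 (iv0 D42650) D42651 F137506
theorem F137508 : act 2 n42651 = n43305 := d15_3 (iv0 D43305) D43306 (iv7 F137506)
theorem F137509 : act 7 n43305 = n42650 := d4_2 (iv7 F137506) F137508 (iv2 F137507)
def n89674 : Q := act 4 n41882
theorem D89674 : act 4 n41882 = n89674 := rfl
theorem F137512 : act 1 n89674 = n48570 := d18_8 F133738 (iv4 D47741) (iv1 F64575) F64573 F31621 (iv4 F36028) F64571 D89674 (iv5 F133745)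
theorem F137513 : act 3 n89674 = n88577 := d20_9 (iv4 D42686) (iv1 D20143) F14759 (iv3 D4328) (iv1 F6110) D9327 (iv4 F31473) D41882 D89674 (iv1 F135727)
theorem F137514 : act 5 n87277 = n89674 := d6_0 F137513 F135728 (iv3 F133973)
theorem F137515 : act 5 n47749 = n43123 := d17_3 (iv1 D22973) D22975 D47749 (iv4 F133913) F137514 F137512 (iv5 F133745) (iv0 F135702) F65006
theorem E14535 : n42054 = n20351 := (c18_10 (iv1 D20351) (iv4 F32285) D43123 (iv4 F133913) F137514 (iv4 D89674) (iv0 D41882) F31473 D19829 D42054)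
theorem E14536 : n43146 = n23701 := (((iv2 F67548)).symm.trans (sb E14535 F133966))
theorem E14537 : n43149 = n19829 := ((D43149).symm.trans (sb E14535 (iv5 D42054)))
theorem E14538 : n43141 = n23706 := ((F67546).symm.trans (sb E14535 F133967))
theorem E14539 : n42049 = n20350 := (((iv7 F133957)).symm.trans (sb E14536 (iv7 D43146)))
theorem F137517 : act 5 n19829 = n20351 := (sb E14537 (iv5 D43149))
theorem F137518 : act 7 n23706 = n20351 := (sb E14538 (iv7 F67546))
theorem F137519 : act 2 n20350 = n23706 := (sb E14539 F133956)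
theorem E14540 : n43144 = n19828 := ((D43144).symm.trans (sb E14539 (iv5 D42049)))
theorem F137521 : act 5 n19828 = n20350 := (sb E14540 (iv5 D43144))
theorem F137522 : act 5 n43142 = n42047 := d6_2 F137521 D43142 (iv3 D42047)
theorem E14541 : n87278 = n42957 := ((c18_4 (iv1 F32343) (iv4 F67627) (iv1 F67631) (iv4 F67532) F135625 F64572 F64576 F36028 F31619 F137521)).symm
theorem F137523 : act 0 n42957 = n40534 := (sb E14541 (iv1 D87278))
theorem E14542 : n41337 = n20288 := ((((iv3 D42957)).symm.trans (sb E14541 F135624))).symm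
theorem F137524 : act 5 n42957 = n41335 := (sb E14541 F135625)
theorem E14543 : n88566 = n20264 := ((((iv1 F32189)).symm.trans (sb E14542 D88566))).symm
theorem E14545 : n42956 = n42096 := ((D42956).symm.trans (sb E14542 (iv2 F135717)))
theorem E14547 : n42959 = n19465 := ((D42959).symm.trans (sb E14542 (iv5 D41337)))
theorem E14549 : n42961 = n42091 := ((D42961).symm.trans (sb E14542 (iv7 F135708)))
theorem E14550 : n41342 = n20289 := ((((iv1 F32194)).symm.trans (sb E14543 (iv1 F135657)))).symm
theorem F137525 : act 2 n42096 = n20288 := (sb E14545 (iv2 D42956))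
theorem F137526 : act 5 n19465 = n20288 := (sb E14547 (iv5 D42959))
theorem F137527 : act 7 n42091 = n20288 := (sb E14549 (iv7 D42961))
theorem F137528 : act 2 n20289 = n42091 := (sb E14550 (iv2 F135707))
theorem E14551 : n88578 = n42962 := (((D42962).symm.trans (sb E14550 (iv3 F135730)))).symm
theorem E14552 : n88583 = n42963 := (((D42963).symm.trans (sb E14550 D88583))).symm
theorem E14553 : n42964 = n19466 := ((D42964).symm.trans (sb E14550 (iv5 D41342)))
theorem F137529 : act 7 n20289 = n42096 := (sb E14550 (iv7 F135718))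
theorem F137530 : act 0 n42962 = n43625 := (sb E14551 F135731)
theorem F137531 : act 2 n42962 = n87256 := (sb E14551 F135729)
theorem F137532 : act 5 n42962 = n41340 := (sb E14551 (iv5 D88578))
theorem F137533 : act 1 n42963 = n43811 := (sb E14552 (iv0 F135735))
theorem F137534 : act 5 n19466 = n20289 := (sb E14553 (iv5 D42964))
theorem F137535 : act 1 n42942 = n88448 := d17_6 (iv1 F31664) F137534 (iv1 D20289) F14956 (iv4 F32182) D42942 (iv5 D88448) F64991 F64987
theorem F137537 : act 7 n43809 = n43142 := d13_0 F137522 F133952 (iv5 F135737)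
theorem F137538 : act 2 n43142 = n43808 := d15_3 (iv0 D43808) D43809 F137537
theorem F137539 : act 2 n42879 = n42940 := d1_3 (iv4 F67547) F137538 F68841
theorem F137540 : act 7 n42939 = n42879 := d15_2 F67295 F67291 F137539
theorem F137541 : act 7 n42880 = n42940 := d15_2 (iv0 D42879) D42880 (iv2 F137539)
theorem E14555 : n43809 = n43195 := (c11_3 F137541 (iv4 F67547) (iv7 F137537) F67649)
theorem F137543 : act 0 n43195 = n20740 := (sb E14555 (iv1 D43809))
theorem E14556 : n23701 = n20372 := ((((iv3 D43195)).symm.trans (sb E14555 F135736))).symm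
theorem F137544 : act 5 n43195 = n23699 := (sb E14555 F135737)
theorem E14557 : n48606 = n20352 := ((((iv1 F32339)).symm.trans (sb E14556 D48606))).symm
theorem E14561 : n43197 = n11096 := ((D43197).symm.trans (sb E14556 (iv5 D23701)))
theorem E14564 : n23706 = n20373 := ((((iv1 F32344)).symm.trans (sb E14557 (iv1 F76467)))).symm
theorem F137547 : act 5 n11096 = n20372 := (sb E14561 (iv5 D43197))
theorem F137549 : act 2 n20373 = n20350 := (sb E14564 (iv2 F137519))
theorem E14565 : n48620 = n43200 := (((D43200).symm.trans (sb E14564 (iv3 F76472)))).symm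
theorem E14566 : n48625 = n43201 := (((D43201).symm.trans (sb E14564 D48625))).symm
theorem E14567 : n43202 = n11097 := ((D43202).symm.trans (sb E14564 (iv5 D23706)))
theorem F137550 : act 7 n20373 = n20351 := (sb E14564 F137518)
theorem F137551 : act 0 n43200 = n87233 := (sb E14565 (iv1 F133886))
theorem F137553 : act 5 n43200 = n23704 := (sb E14565 (iv5 D48620))
theorem F137554 : act 1 n43201 = n87280 := (sb E14566 (iv0 F133975))
theorem F137555 : act 5 n11097 = n20373 := (sb E14567 (iv5 D43202))
theorem F137558 : act 7 n43147 = n43200 := d8_2 F137550 D43147 (iv3 D43200)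
theorem F137559 : act 7 n43148 = n43201 := d11_2 F137550 D43148 (iv4 D43201)
theorem F137560 : act 5 n42052 = n43147 := d13_3 F137558 F137553 (iv7 F133963)
theorem F137561 : act 2 n43143 = n43201 := d1_3 (iv4 D43201) F137549 D43143
theorem F137563 : act 7 n43196 = n43143 := d15_2 F137554 (iv0 F133976) F137561
theorem F137565 : act 5 n42898 = n42089 := d18_4 (iv1 F32339) (iv4 F67533) (iv1 F67630) (iv4 F67626) F65006 F64577 F64573 F31623 F137547
theorem E14569 : n42091 = n20262 := (c6_3 F137565 (iv3 D42089) D42091 D42898)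
theorem E14570 : n42897 = n20289 := ((D42897).symm.trans (sb E14569 (iv2 F137528)))
theorem E14572 : n42902 = n20288 := ((D42902).symm.trans (sb E14569 F137527))
theorem E14573 : n42096 = n20263 := ((F137529).symm.trans (sb E14570 (iv7 F67201)))
theorem F137569 : act 7 n20288 = n20262 := (sb E14572 (iv7 D42902))
theorem F137570 : act 2 n20263 = n20288 := (sb E14573 F137525)
theorem E14574 : n42905 = n19846 := ((D42905).symm.trans (sb E14573 (iv5 D42096)))
theorem F137571 : act 7 n20263 = n20289 := (sb E14573 (iv7 F137529))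
theorem F137572 : act 5 n19846 = n20263 := (sb E14574 (iv5 D42905))
theorem F137573 : act 7 n42957 = n42898 := d13_0 F137565 F135703 (iv5 F137524)
theorem F137574 : act 7 n43178 = n43124 := d11_2 F137573 F67626 (iv4 F67532)
theorem F137575 : act 2 n43124 = n43177 := d15_3 (iv0 D43177) D43178 F137574
theorem F137578 : act 5 n42903 = n42094 := d6_2 F137572 D42903 (iv3 D42094)
theorem F137580 : act 7 n42962 = n42903 := d13_0 F137578 F135714 (iv5 F137532)
theorem F137581 : act 7 n42963 = n42904 := d11_2 F137571 D42963 (iv4 D42904)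
theorem F137582 : act 2 n42958 = n42904 := d1_3 (iv4 D42904) F137570 D42958
theorem F137584 : act 7 n42899 = n42958 := d11_2 F137569 D42899 (iv4 D42958)
theorem F137585 : act 2 n42963 = n42899 := d4_3 F137584 F137582 (iv7 F137581)
theorem F137589 : act 1 n87162 = n89674 := d15_0 F137512 F135676 D87162
theorem F137590 : act 3 n48601 = n88618 := d20_3 D89674 (iv1 F137589) F135670 (iv1 D88618) (iv3 D41361) (iv4 D19477) F14255 D9253 D19716 D41882
def n89677 : Q := act 3 n41883
theorem D89677 : act 3 n41883 = n89677 := rfl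
theorem F137595 : act 4 n89677 = n88562 := d5_2 F64572 D89677 (iv3 D88562) (iv4 D41336) D41335
theorem F137596 : act 7 n89677 = n47745 := d8_2 (iv7 F135699) D89677 (iv3 D47745)
def n89680 : Q := act 5 n41884
theorem D89680 : act 5 n41884 = n89680 := rfl
theorem F137603 : act 2 n89680 = n41885 := d2_1 D89680 (iv5 D41885) D41884
theorem F137604 : act 7 n89680 = n47748 := d13_2 (iv7 F64574) D89680 (iv5 D47748)
def n89681 : Q := act 0 n41885
theorem D89681 : act 0 n41885 = n89681 := rfl
theorem F137607 : act 1 n47748 = n89681 := d15_0 (iv0 D89681) F64579 (iv2 F75015)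
def n89682 : Q := act 1 n41885
theorem D89682 : act 1 n41885 = n89682 := rfl
theorem F137611 : act 1 n89682 = n47748 := d15_1 D89682 (iv7 F137604) F137603
def n89683 : Q := act 4 n41885
theorem D89683 : act 4 n41885 = n89683 := rfl
theorem F137615 : act 7 n89683 = n47751 := d11_2 (iv7 F64579) D89683 (iv4 D47751)
def n89684 : Q := act 6 n41885
theorem D89684 : act 6 n41885 = n89684 := rfl
theorem F137616 : act 3 n89684 = n41888 := d7_1 D89684 (iv6 D41888) (iv3 F64578)
def n89685 : Q := act 3 n41886
theorem D89685 : act 3 n41886 = n89685 := rfl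
theorem F137617 : act 5 n89685 = n43173 := d6_2 (iv5 F64580) D89685 (iv3 D43173)
theorem F137618 : act 7 n89685 = n47753 := d8_2 F64584 D89685 (iv3 D47753)
def n89686 : Q := act 6 n41886
theorem D89686 : act 6 n41886 = n89686 := rfl
theorem F137619 : act 2 n89686 = n47756 := d3_1 D89686 (iv6 D47756) F64583
theorem F137620 : act 4 n89686 = n75311 := d10_1 D89686 (iv6 D75311) (iv4 F64581)
def n89687 : Q := act 3 n41887
theorem D89687 : act 3 n41887 = n89687 := rfl
theorem F137621 : act 5 n89687 = n43175 := d6_2 (iv5 F64587) D89687 (iv3 D43175)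
theorem F137622 : act 7 n89687 = n47755 := d8_2 (iv7 F64586) D89687 (iv3 D47755)
def n89688 : Q := act 6 n41887
theorem D89688 : act 6 n41887 = n89688 := rfl
theorem F137623 : act 2 n89688 = n47754 := d3_1 D89688 (iv6 D47754) F64588
def n89689 : Q := act 0 n41888
theorem D89689 : act 0 n41888 = n89689 := rfl
def n89690 : Q := act 1 n41888
theorem D89690 : act 1 n41888 = n89690 := rfl
def n89691 : Q := act 7 n41888
theorem D89691 : act 7 n41888 = n89691 := rfl
theorem F137624 : act 6 n89691 = n47761 := d14_1 D89691 (iv7 D47761) (iv6 D22979) (iv7 F31475) D41888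
def n89692 : Q := act 5 n41889
theorem D89692 : act 5 n41889 = n89692 := rfl
theorem F137625 : act 2 n89692 = n41900 := d2_1 D89692 (iv5 D41900) (iv2 F64589)
theorem F137626 : act 7 n89692 = n41909 := d13_2 (iv7 F64591) D89692 (iv5 D41909)
theorem F137627 : act 0 n89692 = n87808 := d17_2 F64593 D89692 (iv5 D87808) F66351 D46660 (iv0 F73736) (iv5 D44665) (iv0 D21270) (iv4 F33495)
def n89694 : Q := act 5 n41891
theorem D89694 : act 5 n41891 = n89694 := rfl
theorem F137632 : act 2 n89694 = n41909 := d2_1 D89694 (iv5 D41909) (iv2 F64599)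
theorem F137633 : act 7 n89694 = n41900 := d13_2 (iv7 F64600) D89694 (iv5 D41900)
theorem F137634 : act 0 n87808 = n89694 := d21_7 F134167 (iv1 F75744) F62144 (iv6 F66033) (iv1 F66053) D40915 D87808 (iv5 D89694) (iv6 F69165) (iv1 F134169)
theorem E14575 : n87807 = n42779 := ((c17_10 (iv1 D87807) D87808 F137634 (iv5 D89694) (iv4 D41891) D41892 (iv0 F66108) (iv5 D20209) D20208 D42779)).symm
theorem F137635 : act 0 n42779 = n40915 := (sb E14575 (iv1 D87807))
def n89695 : Q := act 4 n41892
theorem D89695 : act 4 n41892 = n89695 := rfl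
theorem F137636 : act 2 n89695 = n41911 := d1_1 D89695 (iv4 D41911) (iv2 F64603)
theorem F137637 : act 6 n89695 = n42951 := d10_2 F64606 D89695 (iv4 D42951)
theorem F137638 : act 7 n89695 = n41904 := d11_2 (iv7 F64604) D89695 (iv4 D41904)
theorem F137639 : act 0 n89695 = n87944 := d20_1 D89695 F134939 F75612 (iv1 F63281) F31554 D19787 (iv1 F32061) (iv4 D20215) (iv3 F32044) F66108
def n89698 : Q := act 3 n41895
theorem D89698 : act 3 n41895 = n89698 := rfl
theorem F137648 : act 6 n89698 = n42062 := d7_2 (iv6 F64619) D89698 (iv3 D42062)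
def n89700 : Q := act 7 n41895
theorem D89700 : act 7 n41895 = n89700 := rfl
theorem F137652 : act 6 n89700 = n48227 := d14_1 D89700 (iv7 D48227) F36498 (iv7 F31636) (iv6 F64619)
def n89701 : Q := act 1 n41897
theorem D89701 : act 1 n41897 = n89701 := rfl
theorem F137655 : act 1 n89701 = n87294 := d15_1 D89701 F133988 F67809
theorem F137657 : act 6 n43542 = n89701 := d21_3 (iv5 F127129) (iv1 D82491) (iv5 F68434) (iv1 D89701) F66358 F66362 F127419 F127417 F63051 D43513
theorem F137658 : act 5 n48231 = n89701 := d21_6 F63009 (iv1 F62388) (iv5 F35323) F69103 (iv1 F69102) F75822 (iv1 D89701) (iv5 D41897) (iv6 F64394) F64393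
theorem F137659 : act 2 n89701 = n43543 := d2_1 F137658 F68437 (iv2 F75823)
def n89702 : Q := act 4 n41897
theorem D89702 : act 4 n41897 = n89702 := rfl
theorem F137661 : act 6 n89702 = n46781 := d10_2 (iv6 F66358) D89702 F73893
theorem F137663 : act 1 n89702 = n46952 := d18_6 (iv1 D19471) (iv4 F31127) D41347 (iv4 F63694) D41897 D89702 F74170 (iv0 F63739) (iv5 D41354)
def n89703 : Q := act 3 n41898
theorem D89703 : act 3 n41898 = n89703 := rfl
theorem F137664 : act 4 n89703 = n44681 := d5_2 (iv4 F64628) D89703 F70255 F33503 (iv3 F33498)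
theorem F137665 : act 6 n89703 = n87005 := d7_2 F64632 D89703 (iv3 D87005)
theorem F137666 : act 7 n89703 = n44663 := d8_2 (iv7 F64631) D89703 F70213
def n89704 : Q := act 5 n41898
theorem D89704 : act 5 n41898 = n89704 := rfl
theorem F137667 : act 2 n89704 = n87353 := d2_1 D89704 F134109 F64629
theorem F137668 : act 7 n89704 = n44664 := d13_2 (iv7 F64631) D89704 (iv5 D44664)
theorem F137669 : act 0 n89704 = n87351 := d17_2 D41898 D89704 (iv5 F134107) (iv4 D42779) F66106 F64625 F64622 F31486 D19724
theorem F137670 : act 1 n89704 = n87350 := d17_6 D46659 (iv5 F73743) (iv1 F72288) F70241 (iv4 F64628) D89704 F134105 (iv0 F134012) F66351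
theorem F137671 : act 4 n87351 = n89253 := d18_1 F137669 (iv1 D89253) (iv4 D41700) (iv5 D19627) F14425 D9256 D19729 F64630 D89704
def n89706 : Q := act 2 n41899
theorem D89706 : act 2 n41899 = n89706 := rfl
theorem F137673 : act 3 n89706 = n87538 := d0_2 D41899 D89706 (iv2 F136476) F136472 F64589
def n89707 : Q := act 5 n41899
theorem D89707 : act 5 n41899 = n89707 := rfl
theorem F137674 : act 3 n89707 = n41900 := d6_1 D89707 (iv5 D41900) D41899
def n89708 : Q := act 6 n41899
theorem D89708 : act 6 n41899 = n89708 := rfl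
theorem F137675 : act 3 n89708 = n41901 := d7_1 D89708 (iv6 D41901) D41899
theorem F137676 : act 4 n89708 = n47446 := d10_1 D89708 (iv6 F135751) F135750
theorem F137677 : act 7 n87020 = n89708 := d8_0 F137675 (iv7 F64635) D87020
def n89709 : Q := act 0 n41900
theorem D89709 : act 0 n41900 = n89709 := rfl
theorem F137678 : act 5 n89709 = n47884 := d17_3 (iv1 F63552) D41900 D89709 F75170 D47890 (iv0 F75207) (iv5 D41844) F63556 (iv4 F30806)
theorem F137679 : act 1 n41909 = n89709 := d15_0 (iv0 D89709) (iv7 F137633) F137632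
theorem F137680 : act 2 n87808 = n89709 := d2_3 F137678 F75169 D87808
def n89710 : Q := act 1 n41900
theorem D89710 : act 1 n41900 = n89710 := rfl
theorem F137681 : act 1 n89710 = n41909 := d15_1 D89710 (iv7 F137626) F137625
theorem F137682 : act 7 n89710 = n87808 := d15_2 (iv0 D89709) D89710 F137680
theorem F137683 : act 5 n48242 = n89710 := d21_6 F63431 (iv1 F62413) (iv5 D19403) D19404 D41253 F75836 (iv1 D89710) (iv5 D41900) D41901 (iv1 F64636)
def n89711 : Q := act 4 n41900
theorem D89711 : act 4 n41900 = n89711 := rfl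
def n89712 : Q := act 6 n41900
theorem D89712 : act 6 n41900 = n89712 := rfl
def n89713 : Q := act 5 n41901
theorem D89713 : act 5 n41901 = n89713 := rfl
theorem F137684 : act 2 n89713 = n87034 := d2_1 D89713 (iv5 D87034) (iv2 F64633)
theorem F137685 : act 7 n89713 = n87021 := d13_2 F64635 D89713 (iv5 D87021)
theorem F137686 : act 0 n89713 = n44579 := d17_2 F135233 D89713 (iv5 D44579) F33446 (iv5 F16969) (iv0 F63558) D41496 (iv0 F74700) (iv4 F135231)
theorem F137687 : act 1 n89713 = n87717 := d17_6 (iv1 F14136) (iv5 F13925) (iv1 F30590) (iv5 F31488) (iv4 F64634) D89713 (iv5 D87717) (iv0 D40861) (iv4 D19261)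
theorem F137688 : act 4 n89713 = n87714 := d18_5 F68709 (iv4 D43711) F62476 (iv4 F64634) D89713 F134628 F62386 F61961 (iv5 F64443)
theorem E14576 : n88274 = n87714 := ((c1_1 F137688 F135187 (iv4 F133590) (iv2 F137684))).symm
theorem F137689 : act 2 n87714 = n41195 := (sb E14576 F135187)
theorem F137690 : act 7 n87714 = n41194 := (sb E14576 (iv7 D88274))
theorem E14577 : n88271 = n87713 := (c15_4 (iv0 D87713) D87714 F137690 D88271)
theorem F137691 : act 2 n87713 = n41194 := (sb E14577 (iv2 D88271))
theorem F137692 : act 7 n87713 = n41195 := (sb E14577 (iv7 F135186))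
def n89717 : Q := act 1 n41904
theorem D89717 : act 1 n41904 = n89717 := rfl
theorem F137705 : act 4 n89717 = n89592 := d18_7 (iv1 D21894) (iv4 F30806) (iv1 F63552) (iv4 D19724) D19725 D41904 D89717 F137349 (iv5 D45791)
theorem F137707 : act 6 n48199 = n89717 := d10_0 F137705 (iv6 F137351) F75753
def n89718 : Q := act 3 n41904
theorem D89718 : act 3 n41904 = n89718 := rfl
def n89719 : Q := act 5 n41904
theorem D89719 : act 5 n41904 = n89719 := rfl
def n89720 : Q := act 0 n41906
theorem D89720 : act 0 n41906 = n89720 := rfl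
theorem F137709 : act 5 n89720 = n88353 := d21_2 D41906 D89720 (iv6 D88353) (iv1 F66276) (iv6 F74573) (iv5 D47380) (iv1 F35312) F35594 F32364 (iv1 F63710)
theorem F137710 : act 1 n87454 = n89720 := d15_0 (iv0 D89720) (iv7 F65020) (iv2 F134254)
theorem F137711 : act 6 n87848 = n89720 := d21_9 (iv5 D87454) (iv1 F61801) (iv5 F65026) (iv6 F65282) F67685 (iv6 F68627) (iv5 F69166) F69169 (iv5 F134826) (iv1 F137710)
theorem F137712 : act 2 n89720 = n87872 := d3_1 F137711 (iv6 D87872) (iv2 F134828)
def n89722 : Q := act 4 n41906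
theorem D89722 : act 4 n41906 = n89722 := rfl
theorem F137717 : act 6 n89722 = n87194 := d10_2 F68478 D89722 F133810
def n89723 : Q := act 5 n41908
theorem D89723 : act 5 n41908 = n89723 := rfl
theorem F137718 : act 3 n89723 = n41909 := d6_1 D89723 (iv5 D41909) D41908
def n89724 : Q := act 6 n41908
theorem D89724 : act 6 n41908 = n89724 := rfl
theorem F137719 : act 3 n89724 = n41910 := d7_1 D89724 (iv6 D41910) D41908
def n89725 : Q := act 4 n41909
theorem D89725 : act 4 n41909 = n89725 := rfl
def n89726 : Q := act 6 n41909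
theorem D89726 : act 6 n41909 = n89726 := rfl
def n89727 : Q := act 5 n41910
theorem D89727 : act 5 n41910 = n89727 := rfl
theorem F137720 : act 2 n89727 = n87906 := d2_1 D89727 F134904 F69164
theorem F137721 : act 7 n89727 = n87907 := d13_2 F69172 D89727 (iv5 F134907)
theorem F137722 : act 1 n89727 = n48192 := d17_6 (iv1 F62495) D20656 (iv1 F32822) F63071 (iv4 F64653) D89727 (iv5 D48192) (iv0 D23320) F17808
theorem F137723 : act 0 n89727 = n48194 := d21_1 D89727 (iv5 D48194) (iv6 F63343) (iv1 D41230) D41233 (iv5 F134165) (iv1 D87411) (iv5 D40623) D40624 (iv1 F133568)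
def n89730 : Q := act 6 n41911
theorem D89730 : act 6 n41911 = n89730 := rfl
theorem F137724 : act 2 n89730 = n42951 := d3_1 D89730 (iv6 F137637) F137636
theorem F137725 : act 4 n89730 = n41912 := d10_1 D89730 (iv6 D41912) D41911
def n89736 : Q := act 6 n41919
theorem D89736 : act 6 n41919 = n89736 := rfl
def n89754 : Q := act 6 n41925
theorem D89754 : act 6 n41925 = n89754 := rfl
theorem F137745 : act 5 n89754 = n42087 := d12_1 D89754 (iv6 D42087) (iv5 D19844) (iv6 F31490) D41925
def n89755 : Q := act 7 n41925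
theorem D89755 : act 7 n41925 = n89755 := rfl
theorem F137746 : act 5 n89755 = n41926 := d13_1 D89755 (iv7 D41926) D41925
def n89756 : Q := act 0 n41927
theorem D89756 : act 0 n41927 = n89756 := rfl
theorem F137747 : act 5 n89756 = n42215 := d21_2 D41927 D89756 (iv6 D42215) (iv1 D19928) (iv6 D9399) D9398 (iv1 F15224) F15226 D9876 (iv1 F63425)
theorem F137748 : act 1 n43288 = n89756 := d15_0 (iv0 D89756) (iv7 F64679) (iv2 F67894)
theorem F137749 : act 2 n42450 = n89756 := d2_3 F137747 F65173 D42450
def n89757 : Q := act 1 n41927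
theorem D89757 : act 1 n41927 = n89757 := rfl
theorem F137750 : act 1 n89757 = n43288 := d15_1 D89757 F67895 F65055
theorem F137751 : act 7 n89757 = n42450 := d15_2 (iv0 D89756) D89757 F137749
theorem F137752 : act 5 n89757 = n42451 := d17_7 F66518 (iv5 F32934) (iv1 F35789) (iv5 D19740) D19739 D41927 D89757 F135502 F135498
def n89758 : Q := act 4 n41927
theorem D89758 : act 4 n41927 = n89758 := rfl
def n89759 : Q := act 6 n41927
theorem D89759 : act 6 n41927 = n89759 := rfl
theorem F137753 : act 3 n89759 = n87038 := d7_1 D89759 (iv6 D87038) (iv3 F64673)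
def n89760 : Q := act 4 n41928
theorem D89760 : act 4 n41928 = n89760 := rfl
theorem F137755 : act 0 n89760 = n89610 := d18_2 D41928 D89760 (iv4 D89610) (iv5 D41850) (iv4 F35855) F32468 F31719 F35666 D19740
def n89762 : Q := act 3 n41929
theorem D89762 : act 3 n41929 = n89762 := rfl
def n89763 : Q := act 5 n41929
theorem D89763 : act 5 n41929 = n89763 := rfl
def n89766 : Q := act 2 n41930
theorem D89766 : act 2 n41930 = n89766 := rfl
def n89767 : Q := act 0 n41931
theorem D89767 : act 0 n41931 = n89767 := rfl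
theorem F137760 : act 5 n89767 = n88504 := d17_3 (iv1 F63359) D41931 D89767 F135493 (iv5 F137383) (iv0 D89608) (iv5 D41850) F63703 (iv4 F32950)
theorem F137761 : act 2 n89757 = n89767 := d15_3 (iv0 D89767) F67896 (iv7 F137751)
theorem F137762 : act 1 n42138 = n89767 := d15_0 (iv0 D89767) F64679 (iv2 F65055)
theorem F137763 : act 7 n89767 = n89756 := d15_2 (iv0 F65565) F137762 (iv2 F137749)
def n89768 : Q := act 4 n41931
theorem D89768 : act 4 n41931 = n89768 := rfl
theorem F137764 : act 7 n89768 = n89758 := d11_2 (iv7 F64679) D89768 (iv4 D89758)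
def n89769 : Q := act 6 n41931
theorem D89769 : act 6 n41931 = n89769 := rfl
theorem F137765 : act 3 n89769 = n52834 := d7_1 D89769 F83486 (iv3 F64678)
def n89770 : Q := act 5 n41932
theorem D89770 : act 5 n41932 = n89770 := rfl
theorem F137766 : act 2 n89770 = n43444 := d2_1 D89770 F68297 F67898
theorem F137767 : act 3 n89770 = n87043 := d6_1 D89770 (iv5 D87043) (iv3 F64680)
theorem F137769 : act 0 n89770 = n43321 := d17_2 F68323 D89770 (iv5 D43321) (iv4 F62754) D46818 F75527 F75525 F70404 F68322
theorem F137770 : act 1 n89770 = n43318 := d17_6 D9713 D20459 F35803 F32776 (iv4 F64681) D89770 (iv5 D43318) (iv0 D20452) F15158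
def n89771 : Q := act 4 n41933
theorem D89771 : act 4 n41933 = n89771 := rfl
theorem F137771 : act 2 n89771 = n43546 := d1_1 D89771 F68441 F64683
theorem F137772 : act 6 n89771 = n43339 := d10_2 F64686 D89771 (iv4 D43339)
theorem F137773 : act 7 n89771 = n89760 := d11_2 (iv7 F64685) D89771 (iv4 D89760)
theorem F137774 : act 1 n43546 = n89610 := d15_0 (iv0 F137755) (iv7 F137773) F137771
def n89772 : Q := act 0 n41934
theorem D89772 : act 0 n41934 = n89772 := rfl
theorem F137775 : act 4 n89772 = n89608 := d18_3 (iv1 F35791) D41934 D89772 F137383 (iv4 F135493) (iv0 D88504) F63637 (iv0 F66514) D20084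
theorem F137776 : act 1 n42140 = n89772 := d15_0 (iv0 D89772) F64687 (iv2 F65059)
theorem F137777 : act 2 n43553 = n89772 := d1_3 F137775 F137386 F74028
theorem F137778 : act 6 n43341 = n89772 := d10_0 F137775 (iv6 F137385) F73951
def n89773 : Q := act 1 n41934
theorem D89773 : act 1 n41934 = n89773 := rfl
theorem F137780 : act 1 n89773 = n42140 := d15_1 D89773 (iv7 F67901) F67900
theorem F137781 : act 7 n89773 = n43553 := d15_2 (iv0 D89772) D89773 F137777
def n89778 : Q := act 2 n41935
theorem D89778 : act 2 n41935 = n89778 := rfl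
def n89781 : Q := act 6 n41939
theorem D89781 : act 6 n41939 = n89781 := rfl
theorem F137796 : act 4 n89781 = n41940 := d10_1 D89781 (iv6 D41940) D41939
def n89786 : Q := act 1 n41946
theorem D89786 : act 1 n41946 = n89786 := rfl
theorem F137802 : act 4 n43270 = n89786 := d20_0 (iv1 D89786) (iv4 D41946) (iv3 D19752) (iv1 D9269) (iv3 F14454) D19734 D41922 F71503 F70238 (iv1 F67848)
def n89790 : Q := act 7 n41947
theorem D89790 : act 7 n41947 = n89790 := rfl
theorem F137810 : act 5 n89790 = n42617 := d13_1 D89790 (iv7 F66656) (iv5 F64708)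
theorem F137812 : act 1 n42715 = n89790 := d15_1 (iv0 F67914) (iv7 D89790) (iv2 F67911)
def n89819 : Q := act 5 n41958
theorem D89819 : act 5 n41958 = n89819 := rfl
theorem F137856 : act 3 n89819 = n41959 := d6_1 D89819 (iv5 D41959) D41958
theorem F137857 : act 7 n89819 = n44643 := d13_2 (iv7 F64729) D89819 (iv5 D44643)
def n89820 : Q := act 4 n41959
theorem D89820 : act 4 n41959 = n89820 := rfl
theorem F137858 : act 5 n89820 = n44607 := d9_2 D41959 D89820 (iv4 D44607) (iv5 D21218) F15976 F16815 (iv4 F16444) D21645 D45380 (iv5 F76037) (iv4 D48372) (iv5 D23502) (iv4 D11021) F35868 D19760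
theorem F137859 : act 7 n89820 = n44660 := d11_2 (iv7 F64730) D89820 (iv4 D44660)
theorem F137860 : act 0 n89820 = n48400 := d18_2 (iv1 F71550) D89820 F76068 (iv5 F71658) F36630 F17902 D23539 F75584 F75581
theorem F137861 : act 1 n89820 = n48416 := d18_6 F35862 (iv4 D9281) D9278 D19760 D41959 D89820 (iv4 D48416) F36661 (iv5 D21673)
def n89821 : Q := act 6 n41959
theorem D89821 : act 6 n41959 = n89821 := rfl
def n89822 : Q := act 0 n41960
theorem D89822 : act 0 n41960 = n89822 := rfl
theorem F137862 : act 1 n44696 = n89822 := d15_0 (iv0 D89822) (iv7 F64807) (iv2 F70269)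
def n89823 : Q := act 1 n41960
theorem D89823 : act 1 n41960 = n89823 := rfl
theorem F137863 : act 1 n89823 = n44696 := d15_1 D89823 (iv7 F71481) F71479
def n89824 : Q := act 5 n41960
theorem D89824 : act 5 n41960 = n89824 := rfl
theorem F137864 : act 3 n89824 = n41961 := d6_1 D89824 (iv5 D41961) D41960
def n89825 : Q := act 6 n41960
theorem D89825 : act 6 n41960 = n89825 := rfl
theorem F137865 : act 3 n89825 = n41962 := d7_1 D89825 (iv6 D41962) D41960
theorem F137866 : act 4 n89825 = n89825 := d10_1 D89825 (iv6 D89825) F64731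
def n89826 : Q := act 4 n41961
theorem D89826 : act 4 n41961 = n89826 := rfl
theorem F137867 : act 2 n89826 = n41973 := d1_1 D89826 (iv4 D41973) (iv2 F64732)
def n89827 : Q := act 6 n41961
theorem D89827 : act 6 n41961 = n89827 := rfl
theorem F137868 : act 2 n89827 = n41974 := d3_1 D89827 (iv6 D41974) (iv2 F64732)
def n89828 : Q := act 1 n41962
theorem D89828 : act 1 n41962 = n89828 := rfl
theorem F137869 : act 1 n89828 = n41978 := d15_1 D89828 (iv7 D41978) (iv2 F64733)
theorem F137870 : act 7 n89828 = n41975 := d15_2 (iv0 F70372) D89828 F76059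
theorem F137871 : act 6 n44795 = n89828 := d21_3 D10916 D23189 (iv5 F75384) (iv1 D89828) (iv6 D41962) D41961 (iv1 F64849) F64851 (iv6 D23188) (iv1 D10915)
theorem F137872 : act 5 n89828 = n48453 := d21_6 D47846 (iv1 F75125) (iv5 D42008) D42009 (iv1 F75386) F137871 (iv1 F76208) (iv5 D44545) D44546 F75126
theorem F137873 : act 2 n41976 = n89828 := d2_3 F137872 (iv2 F76207) (iv5 F76066)
def n89829 : Q := act 7 n41962
theorem D89829 : act 7 n41962 = n89829 := rfl
theorem F137874 : act 2 n89829 = n41978 := d4_1 D89829 (iv7 D41978) (iv2 F64733)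
theorem F137875 : act 4 n89829 = n41966 := d11_1 D89829 (iv7 D41966) (iv4 F64734)
theorem F137876 : act 5 n89829 = n47797 := d13_1 D89829 (iv7 F75452) (iv5 F75453)
theorem F137877 : act 1 n41976 = n89829 := d15_1 D41976 (iv7 D89829) F64733
theorem F137878 : act 1 n89829 = n41975 := d15_1 F137877 (iv7 F137870) (iv2 F137873)
def n89830 : Q := act 3 n41963
theorem D89830 : act 3 n41963 = n89830 := rfl
theorem F137879 : act 4 n89830 = n89830 := d5_2 D41963 D89830 (iv3 D89830) (iv4 D41963) F31545
def n89831 : Q := act 6 n41963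
theorem D89831 : act 6 n41963 = n89831 := rfl
theorem F137882 : act 7 n89831 = n44698 := d14_2 F64816 D89831 (iv6 D44698) (iv7 F63257) (iv6 F64815)
theorem F137883 : act 0 n89831 = n43930 := d21_4 D23168 D48010 F75423 D89831 (iv6 D43930) D43929 F69057 (iv5 D23625) (iv6 D11069) (iv1 F35592)
theorem F137884 : act 0 n44795 = n89831 := d21_4 D23617 D48453 (iv5 F137872) (iv6 F137871) (iv6 D89831) (iv5 F75423) (iv1 F75425) (iv5 D23613) (iv6 F36281) (iv1 F66535)
def n89832 : Q := act 4 n41965
theorem D89832 : act 4 n41965 = n89832 := rfl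
theorem F137885 : act 2 n89832 = n41988 := d1_1 D89832 (iv4 D41988) F64744
theorem F137887 : act 7 n89832 = n41986 := d11_2 (iv7 F64742) D89832 (iv4 D41986)
theorem F137888 : act 0 n89832 = n44654 := d17_0 F70787 (iv1 D45009) (iv5 D21488) F16223 D10259 D21501 (iv5 F63222) D41965 D89832
theorem F137889 : act 1 n89832 = n44857 := d15_1 (iv0 F137888) (iv7 F71542) F71534
def n89833 : Q := act 0 n41967
theorem D89833 : act 0 n41967 = n89833 := rfl
theorem F137890 : act 3 n89833 = n44739 := d20_5 F63436 F64756 (iv4 D41968) D41967 D89833 (iv4 F136673) (iv1 D44062) (iv4 F33479) F33478 D21254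
theorem F137891 : act 1 n44715 = n89833 := d15_0 (iv0 D89833) F64750 (iv2 F70296)
def n89834 : Q := act 1 n41967
theorem D89834 : act 1 n41967 = n89834 := rfl
theorem F137892 : act 4 n88821 = n89834 := d20_6 (iv4 D19538) (iv1 D9195) (iv4 F14340) (iv3 F31259) D41469 D88821 (iv1 D89834) (iv4 F136295) (iv3 D88873) (iv1 F63956)
theorem F137893 : act 0 n44715 = n89834 := d20_1 (iv4 F70297) (iv4 F137892) (iv3 D88821) (iv1 F136197) F136192 F64329 (iv1 F31485) D19729 D41908 F136299
def n89835 : Q := act 2 n41967
theorem D89835 : act 2 n41967 = n89835 := rfl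
theorem F137894 : act 4 n89835 = n87541 := d1_2 F136295 D89835 F136301
theorem F137895 : act 7 n89835 = n44715 := d4_2 (iv7 F64750) D89835 F70296
theorem F137896 : act 1 n89835 = n44720 := d15_0 (iv0 D44720) (iv7 F64750) D89835
theorem F137897 : act 1 n44721 = n89835 := d15_1 D44721 F137895 F70296
def n89836 : Q := act 5 n41967
theorem D89836 : act 5 n41967 = n89836 := rfl
theorem F137898 : act 3 n89836 = n41969 := d6_1 D89836 (iv5 D41969) D41967
theorem F137899 : act 7 n89836 = n44722 := d13_2 (iv7 F64750) D89836 (iv5 D44722)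
def n89837 : Q := act 4 n41969
theorem D89837 : act 4 n41969 = n89837 := rfl
theorem F137900 : act 5 n89837 = n47807 := d9_2 D41969 D89837 (iv4 D47807) (iv5 D23009) F17654 (iv5 F16965) (iv4 F16464) D21673 D45417 (iv5 F76056) (iv4 D48385) (iv5 D23524) D23523 (iv5 F64754) (iv4 D41968)
theorem F137901 : act 7 n89837 = n44728 := d11_2 (iv7 F64758) D89837 (iv4 D44728)
def n89838 : Q := act 6 n41969
theorem D89838 : act 6 n41969 = n89838 := rfl
def n89839 : Q := act 0 n41970
theorem D89839 : act 0 n41970 = n89839 := rfl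
theorem F137902 : act 5 n89839 = n47773 := d21_2 D41970 D89839 (iv6 D47773) (iv1 D22983) (iv6 D10849) D10848 F17639 (iv5 D10171) D10172 (iv1 F35802)
theorem F137903 : act 1 n44697 = n89839 := d15_0 (iv0 D89839) (iv7 F64841) (iv2 F70271)
theorem F137904 : act 2 n47846 = n89839 := d2_3 F137902 F75037 D47846
def n89840 : Q := act 1 n41970
theorem D89840 : act 1 n41970 = n89840 := rfl
theorem F137905 : act 1 n89840 = n44697 := d15_1 D89840 (iv7 F71483) F71482
theorem F137906 : act 7 n89840 = n47846 := d15_2 (iv0 D89839) D89840 F137904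
theorem F137907 : act 5 n89840 = n47847 := d17_7 (iv1 F66785) (iv5 F36330) (iv1 F63281) (iv5 D19786) (iv4 F31548) D41970 D89840 F76123 F76119
def n89841 : Q := act 4 n41970
theorem D89841 : act 4 n41970 = n89841 := rfl
def n89842 : Q := act 6 n41970
theorem D89842 : act 6 n41970 = n89842 := rfl
theorem F137908 : act 3 n89842 = n41974 := d7_1 D89842 (iv6 D41974) (iv3 F64759)
def n89843 : Q := act 3 n41971
theorem D89843 : act 3 n41971 = n89843 := rfl
theorem F137909 : act 5 n89843 = n48406 := d6_2 (iv5 F64760) D89843 (iv3 D48406)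
def n89844 : Q := act 4 n41971
theorem D89844 : act 4 n41971 = n89844 := rfl
theorem F137910 : act 5 n89844 = n48461 := d16_1 D89844 (iv4 D48461) F36755 (iv4 F62927) (iv5 F63081) F63079 (iv5 F64761) (iv7 F64850) (iv2 F64852)
def n89845 : Q := act 6 n41971
theorem D89845 : act 6 n41971 = n89845 := rfl
def n89846 : Q := act 3 n41972
theorem D89846 : act 3 n41972 = n89846 := rfl
theorem F137911 : act 5 n89846 = n48407 := d6_2 (iv5 F64761) D89846 (iv3 D48407)
def n89847 : Q := act 4 n41972
theorem D89847 : act 4 n41972 = n89847 := rfl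
theorem F137912 : act 5 n89847 = n48458 := d9_2 (iv5 F64761) D89847 (iv4 D48458) (iv5 F64767) (iv4 F135311) (iv5 D88351) F62466 (iv5 F64760) D89844 F137910 (iv4 D48461) F36755 (iv4 F62927) (iv5 F63081) F63079
def n89848 : Q := act 6 n41972
theorem D89848 : act 6 n41972 = n89848 := rfl
def n89849 : Q := act 0 n41973
theorem D89849 : act 0 n41973 = n89849 := rfl
theorem F137913 : act 5 n89849 = n48464 := d17_1 D89849 (iv1 D48464) D48466 F76233 F70303 F36651 (iv5 F64760) (iv0 D41971) D41973
theorem F137914 : act 4 n89849 = n48420 := d18_3 (iv1 D41972) D41973 D89849 (iv5 D48420) (iv4 D23556) (iv0 D11041) (iv4 F17901) D23535 (iv5 F64761)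
def n89850 : Q := act 1 n41973
theorem D89850 : act 1 n41973 = n89850 := rfl
theorem F137915 : act 4 n89850 = n48422 := d18_7 (iv1 D21644) F16444 (iv1 F63153) D9281 D19774 D41973 D89850 F76142 (iv5 D45376)
theorem F137916 : act 5 n89850 = n48463 := d18_9 (iv1 F76228) (iv4 D48378) (iv1 F36754) D48461 (iv5 F137910) (iv4 D89844) (iv0 D41971) D41973 D89850
def n89851 : Q := act 3 n41973
theorem D89851 : act 3 n41973 = n89851 := rfl
def n89852 : Q := act 5 n41973
theorem D89852 : act 5 n41973 = n89852 := rfl
theorem F137917 : act 4 n89852 = n47806 := d16_2 D41973 D89852 (iv5 F75104) (iv4 D42003) (iv5 D19801) D19800 D42001 F64809 F64732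
theorem F137918 : act 0 n89852 = n44607 := d17_2 (iv1 D89850) D89852 (iv5 F137858) (iv4 D89820) (iv5 D41959) F63224 D45373 F76143 (iv4 F137915)
theorem F137919 : act 1 n89852 = n48372 := d17_6 (iv1 D45416) (iv5 D21673) F35862 D19774 D41973 D89852 F76037 F76069 F76068
def n89853 : Q := act 6 n41973
theorem D89853 : act 6 n41973 = n89853 := rfl
theorem F137920 : act 4 n89853 = n41974 := d10_1 D89853 (iv6 D41974) D41973
def n89854 : Q := act 0 n41974
theorem D89854 : act 0 n41974 = n89854 := rfl
def n89855 : Q := act 1 n41974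
theorem D89855 : act 1 n41974 = n89855 := rfl
def n89856 : Q := act 5 n41974
theorem D89856 : act 5 n41974 = n89856 := rfl
theorem F137921 : act 6 n89856 = n41977 := d12_2 D41974 D89856 (iv5 D41977) (iv6 D19775) D19774
def n89857 : Q := act 7 n41974
theorem D89857 : act 7 n41974 = n89857 := rfl
def n89858 : Q := act 3 n41975
theorem D89858 : act 3 n41975 = n89858 := rfl
theorem F137922 : act 4 n89858 = n46090 := d5_2 F127100 D89858 F72659 (iv4 F66279) (iv3 F127099)
theorem F137923 : act 6 n89858 = n44622 := d7_2 (iv6 F76061) D89858 (iv3 D44622)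
def n89859 : Q := act 3 n41976
theorem D89859 : act 3 n41976 = n89859 := rfl
theorem F137924 : act 7 n89859 = n44800 := d8_2 (iv7 F76063) D89859 F70377
def n89860 : Q := act 4 n41976
theorem D89860 : act 4 n41976 = n89860 := rfl
theorem F137926 : act 5 n89860 = n48315 := d17_5 (iv1 F66765) D45013 (iv1 F76064) (iv5 F76066) D89860 (iv0 F76160) (iv5 D42268) F58145 F58142
theorem F137927 : act 0 n89860 = n43218 := d17_0 (iv5 F67684) F67686 (iv5 D37185) F29057 D23003 (iv0 F64762) (iv5 D41977) D41976 D89860
theorem F137928 : act 3 n89860 = n43255 := d20_3 (iv4 F137875) (iv1 F137877) D89860 (iv1 D43255) F35722 (iv4 F67789) F69040 (iv4 F65912) F65911 (iv1 F64749)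
theorem F137929 : act 6 n43532 = n89860 := d7_0 F137928 (iv6 F67801) (iv3 F68412)
def n89861 : Q := act 6 n41976
theorem D89861 : act 6 n41976 = n89861 := rfl
theorem F137931 : act 4 n89861 = n43532 := d10_1 D89861 F137929 (iv4 D89860)
theorem F137933 : act 0 n89861 = n41983 := d21_4 D45013 (iv1 F76064) (iv5 F76066) D89861 (iv6 D41983) D41982 (iv1 F64769) (iv5 D23524) (iv6 F36065) (iv1 F66765)
theorem F137934 : act 5 n47991 = n89861 := d21_2 D23152 D47991 (iv6 D89861) (iv1 D41976) (iv6 D19775) D19774 D41971 F64760 F63022 (iv1 D23151)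
theorem F137935 : act 0 n44698 = n89861 := d21_4 (iv5 F137902) (iv1 F137903) (iv5 D44697) D44698 (iv6 D89861) F76066 (iv1 D48388) (iv5 D23528) D23529 (iv1 F75130)
def n89862 : Q := act 4 n41977
theorem D89862 : act 4 n41977 = n89862 := rfl
theorem F137936 : act 0 n89862 = n44542 := d18_2 (iv1 F75458) D89862 (iv4 D44542) (iv5 D21181) F15951 (iv0 F66708) (iv4 F17933) F66535 (iv5 F75457)
def n89863 : Q := act 3 n41980
theorem D89863 : act 3 n41980 = n89863 := rfl
def n89864 : Q := act 5 n41980
theorem D89864 : act 5 n41980 = n89864 := rfl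
theorem F137937 : act 2 n89864 = n88347 := d2_1 D89864 F135292 F64865
theorem F137938 : act 4 n89864 = n48463 := d9_1 D89864 (iv5 F137916) F137915 (iv5 D48422) (iv4 D23561) (iv5 F63241) (iv4 F34180) D45525 (iv4 F76230) (iv5 F137913) F137914 (iv5 D48420) (iv4 D23556) (iv5 F63313) D41980
theorem F137939 : act 7 n89864 = n88348 := d13_2 F64864 D89864 F135301
theorem F137940 : act 0 n89864 = n44944 := d17_2 (iv1 F71799) D89864 (iv5 D44944) F63174 D40860 (iv0 F64839) (iv5 F133570) (iv0 F137047) F137048
theorem F137941 : act 1 n89864 = n44946 := d17_6 (iv1 D5043) F7448 D11041 (iv5 F63313) D41980 D89864 (iv5 D44946) F63177 (iv4 D11060)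
def n89865 : Q := act 3 n41981
theorem D89865 : act 3 n41981 = n89865 := rfl
theorem F137942 : act 5 n89865 = n48457 := d6_2 (iv5 F64767) D89865 (iv3 D48457)
def n89866 : Q := act 4 n41982
theorem D89866 : act 4 n41982 = n89866 := rfl
theorem F137943 : act 0 n89866 = n48372 := d17_0 F76037 (iv1 F76125) (iv5 F76190) (iv4 D48445) (iv5 D23610) F17928 D23524 F64769 D89866
theorem F137944 : act 1 n89866 = n44607 := d18_6 (iv1 F71452) F34180 F63234 D19778 D41982 D89866 (iv4 D44607) D44606 (iv5 F71449)
def n89867 : Q := act 6 n41982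
theorem D89867 : act 6 n41982 = n89867 := rfl
def n89868 : Q := act 4 n41984
theorem D89868 : act 4 n41984 = n89868 := rfl
theorem F137946 : act 6 n89868 = n41988 := d10_2 (iv6 F64775) D89868 (iv4 D41988)
theorem F137947 : act 7 n89868 = n44632 := d11_2 (iv7 F64772) D89868 F70180
theorem F137948 : act 5 n89868 = n87864 := d17_5 (iv1 D10905) D10906 D23161 F64773 D89868 (iv0 D87864) (iv5 D40982) (iv0 F63075) (iv4 D23159)
theorem F137950 : act 1 n89868 = n44691 := d18_6 (iv1 D40995) D40996 (iv1 F75395) (iv4 D47997) F64773 D89868 F70265 F71466 F66315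
def n89869 : Q := act 0 n41986
theorem D89869 : act 0 n41986 = n89869 := rfl
theorem F137951 : act 5 n89869 = n44540 := d17_1 D89869 (iv1 F70794) F70790 F33788 (iv5 F33800) F33805 (iv5 F64747) F64749 D41986
theorem F137952 : act 2 n44857 = n89869 := d15_3 (iv0 D89869) F71538 F71542
theorem F137953 : act 1 n41988 = n89869 := d15_0 (iv0 D89869) (iv7 F137887) F137885
theorem F137954 : act 7 n89869 = n44654 := d15_2 (iv0 F71537) F137953 (iv2 F71534)
def n89870 : Q := act 3 n41986
theorem D89870 : act 3 n41986 = n89870 := rfl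
theorem F137955 : act 4 n89870 = n43908 := d5_2 D41986 D89870 F69032 (iv4 F65912) F65911
theorem F137956 : act 6 n89870 = n43906 := d7_2 (iv6 F64779) D89870 F69029
def n89871 : Q := act 5 n41986
theorem D89871 : act 5 n41986 = n89871 := rfl
theorem F137957 : act 2 n89871 = n44859 := d2_1 D89871 (iv5 D44859) (iv2 F64778)
theorem F137958 : act 0 n89871 = n45006 := d17_2 (iv1 F71538) D89871 (iv5 D45006) F66780 D23408 (iv0 F66638) (iv5 F68950) (iv0 F137055) F137053
theorem F137959 : act 1 n89871 = n45003 := d17_6 (iv1 F66773) D11046 F66778 (iv5 F63236) D41986 D89871 (iv5 D45003) (iv0 D21486) F16223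
def n89872 : Q := act 4 n41987
theorem D89872 : act 4 n41987 = n89872 := rfl
theorem F137960 : act 2 n89872 = n87016 := d1_1 D89872 (iv4 F133551) F72334
theorem F137961 : act 6 n89872 = n87414 := d10_2 F72350 D89872 F134166
theorem F137962 : act 7 n89872 = n44845 := d11_2 (iv7 F64780) D89872 F70442
theorem F137963 : act 0 n89872 = n44005 := d18_2 (iv1 F69726) D89872 (iv4 D44005) F66195 D23426 F75882 F75881 (iv0 F72335) (iv5 F64452)
theorem F137964 : act 0 n44004 = n89872 := d20_1 D44004 (iv4 D89872) (iv3 D41987) (iv1 D19781) F14477 F16071 (iv1 F14859) F14790 (iv3 F15559) D20888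
def n89873 : Q := act 3 n41988
theorem D89873 : act 3 n41988 = n89873 := rfl
theorem F137965 : act 7 n89873 = n44854 := d8_2 (iv7 F64781) D89873 F70455
def n89874 : Q := act 5 n41988
theorem D89874 : act 5 n41988 = n89874 := rfl
theorem F137966 : act 7 n89874 = n44859 := d13_2 (iv7 F64781) D89874 (iv5 D44859)
theorem F137967 : act 1 n89874 = n45006 := d17_6 (iv1 F16224) D21498 (iv1 F66774) F66775 D41988 D89874 (iv5 D45006) F33785 F33426
theorem F137968 : act 1 n45003 = n89874 := d15_0 F137967 F70781 (iv2 F70775)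
def n89875 : Q := act 4 n41990
theorem D89875 : act 4 n41990 = n89875 := rfl
theorem F137970 : act 0 n89875 = n89722 := d18_2 D41990 D89875 (iv4 D89722) (iv5 D41906) (iv4 F63429) F34034 F34031 (iv0 F63243) D19786
def n89876 : Q := act 0 n41991
theorem D89876 : act 0 n41991 = n89876 := rfl
theorem F137971 : act 1 n44699 = n89876 := d15_0 (iv0 D89876) (iv7 F64898) (iv2 F70274)
def n89877 : Q := act 3 n41991
theorem D89877 : act 3 n41991 = n89877 := rfl
def n89878 : Q := act 5 n41991
theorem D89878 : act 5 n41991 = n89878 := rfl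
def n89882 : Q := act 0 n41998
theorem D89882 : act 0 n41998 = n89882 := rfl
theorem F137975 : act 2 n45345 = n89882 := d15_3 (iv0 D89882) (iv0 F70260) (iv7 F71456)
theorem F137976 : act 1 n45364 = n89882 := d15_0 (iv0 D89882) F64803 (iv2 F71518)
theorem F137977 : act 7 n89882 = n45367 := d15_2 (iv0 F136448) F137976 (iv2 F71522)
def n89883 : Q := act 2 n41998
theorem D89883 : act 2 n41998 = n89883 := rfl
theorem F137978 : act 3 n89883 = n76482 := d0_2 D41998 D89883 F114621 (iv3 D41958) (iv2 F35883)
theorem F137979 : act 7 n89883 = n45364 := d4_2 (iv7 F64803) D89883 F71518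
theorem F137980 : act 1 n89883 = n45367 := d15_0 (iv0 D45367) (iv7 F64803) D89883
theorem F137981 : act 1 n45345 = n89883 := d15_0 F137980 (iv7 F137977) (iv2 F137975)
theorem F137982 : act 4 n44738 = n44061 := d20_0 (iv1 F69390) (iv4 F114622) (iv3 F137978) (iv1 F137981) (iv3 D45345) F63473 (iv1 D19854) (iv4 F16010) (iv3 F33518) D44738
def n89884 : Q := act 5 n41998
theorem D89884 : act 5 n41998 = n89884 := rfl
theorem F137983 : act 3 n89884 = n41999 := d6_1 D89884 (iv5 D41999) D41998
theorem F137984 : act 7 n89884 = n45368 := d13_2 (iv7 F64803) D89884 (iv5 D45368)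
def n89885 : Q := act 4 n41999
theorem D89885 : act 4 n41999 = n89885 := rfl
theorem F137985 : act 2 n89885 = n89820 := d1_1 D89885 (iv4 D89820) (iv2 F64804)
theorem F137986 : act 5 n89885 = n44949 := d9_2 D41999 D89885 (iv4 D44949) (iv5 D21452) F16172 F16768 (iv4 F15998) D21256 D44660 (iv5 F76180) (iv4 D48439) (iv5 D23603) (iv4 D11060) F35838 D19797
theorem F137987 : act 7 n89885 = n45380 := d11_2 (iv7 F64805) D89885 (iv4 D45380)
theorem F137988 : act 0 n89885 = n48409 := d17_0 F76082 (iv1 F76229) (iv5 F137913) F137914 (iv5 D48420) F70129 (iv5 F70209) F70208 D89885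
theorem F137989 : act 1 n89885 = n48466 := d18_6 (iv1 F35821) (iv4 D19768) (iv1 F16113) D19797 D41999 D89885 F76233 (iv0 D44727) (iv5 D21304)
def n89886 : Q := act 6 n41999
theorem D89886 : act 6 n41999 = n89886 := rfl
theorem F137990 : act 2 n89886 = n89821 := d3_1 D89886 (iv6 D89821) (iv2 F64804)
def n89887 : Q := act 0 n42000
theorem D89887 : act 0 n42000 = n89887 := rfl
theorem F137991 : act 3 n89887 = n89358 := d20_5 (iv4 D19760) (iv1 F16110) D19800 D42000 D89887 (iv4 D89358) (iv1 D41729) D41731 F64368 (iv1 F63224)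
theorem F137992 : act 1 n45352 = n89887 := d15_0 (iv0 D89887) F64807 (iv2 F71479)
def n89888 : Q := act 1 n42000
theorem D89888 : act 1 n42000 = n89888 := rfl
theorem F137993 : act 1 n89888 = n45352 := d15_1 D89888 F71481 F70269
def n89889 : Q := act 5 n42000
theorem D89889 : act 5 n42000 = n89889 := rfl
theorem F137994 : act 3 n89889 = n42001 := d6_1 D89889 (iv5 D42001) D42000
theorem F137995 : act 7 n89889 = n89824 := d13_2 (iv7 F64807) D89889 (iv5 D89824)
def n89890 : Q := act 6 n42000
theorem D89890 : act 6 n42000 = n89890 := rfl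
theorem F137996 : act 3 n89890 = n42002 := d7_1 D89890 (iv6 D42002) D42000
theorem F137997 : act 4 n89890 = n89890 := d10_1 D89890 (iv6 D89890) F64806
def n89891 : Q := act 4 n42001
theorem D89891 : act 4 n42001 = n89891 := rfl
theorem F137998 : act 2 n89891 = n42012 := d1_1 D89891 (iv4 D42012) (iv2 F64808)
theorem F137999 : act 5 n89891 = n89866 := d9_2 D42001 D89891 (iv4 D89866) (iv5 D41982) (iv4 D19778) (iv5 D9282) D9281 D19774 D41973 D89852 F137917 (iv5 F75104) (iv4 D42003) (iv5 D19801) D19800
theorem F138000 : act 7 n89891 = n89826 := d11_2 (iv7 F64809) D89891 (iv4 D89826)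
theorem F138001 : act 0 n89891 = n89850 := d17_0 F137916 (iv1 F76228) (iv5 F76082) (iv4 D48409) (iv5 D23536) D23535 (iv5 F64761) F64811 D89891
theorem F138002 : act 1 n89891 = n89849 := d18_6 (iv1 F63224) (iv4 D19760) (iv1 F16110) D19800 D42001 D89891 F137914 F76137 (iv5 D45373)
def n89892 : Q := act 6 n42001
theorem D89892 : act 6 n42001 = n89892 := rfl
theorem F138003 : act 2 n89892 = n42013 := d3_1 D89892 (iv6 D42013) (iv2 F64808)
def n89893 : Q := act 0 n42002
theorem D89893 : act 0 n42002 = n89893 := rfl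
theorem F138004 : act 5 n89893 = n47774 := d17_1 D89893 (iv1 F75041) F36073 F17655 (iv5 F17661) F36059 (iv5 F64819) (iv0 D42004) (iv4 F64813)
theorem F138006 : act 6 n89893 = n42021 := d21_5 (iv5 F64760) (iv1 F64810) (iv5 D42001) D42002 D89893 (iv5 F64880) (iv1 D23531) (iv5 D11035) D11036 D23534
theorem F138007 : act 2 n42014 = n89893 := d15_3 (iv0 D89893) F71718 F64874
theorem F138008 : act 7 n89893 = n42015 := d4_2 F64874 F138007 F64856
theorem F138009 : act 1 n42017 = n89893 := d15_1 (iv0 F71716) F138008 F64856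
def n89894 : Q := act 7 n42002
theorem D89894 : act 7 n42002 = n89894 := rfl
theorem F138013 : act 1 n42015 = n89894 := d15_1 D42015 (iv7 D89894) F64812
theorem F138014 : act 1 n89894 = n42014 := d15_1 F138013 (iv7 F64874) (iv2 F64856)
def n89895 : Q := act 3 n42003
theorem D89895 : act 3 n42003 = n89895 := rfl
theorem F138015 : act 2 n89895 = n89825 := d0_1 D89895 F137865 F64733 (iv3 F31582) (iv2 F64814)
theorem F138016 : act 4 n89895 = n89895 := d5_2 D42003 D89895 (iv3 D89895) (iv4 D42003) F31567
theorem F138017 : act 6 n89895 = n45352 := d7_2 (iv6 F64815) D89895 (iv3 D45352)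
theorem F138018 : act 7 n89895 = n89830 := d8_2 (iv7 F64816) D89895 (iv3 D89830)
def n89896 : Q := act 4 n42004
theorem D89896 : act 4 n42004 = n89896 := rfl
theorem F138020 : act 6 n89896 = n42019 := d10_2 (iv6 F64820) D89896 (iv4 D42019)
theorem F138022 : act 0 n89896 = n45501 := d17_0 F75146 (iv1 D47870) (iv5 D23041) (iv4 D10866) D10867 D23045 F63269 F64828 D89896
theorem F138023 : act 1 n89896 = n45377 := d18_6 F65241 (iv4 F70075) F75074 (iv4 D47784) (iv5 F64819) D89896 F71548 F71757 (iv5 F65238)
def n89897 : Q := act 0 n42006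
theorem D89897 : act 0 n42006 = n89897 := rfl
theorem F138024 : act 4 n89897 = n76506 := d20_0 (iv1 D76506) (iv4 F71429) F71428 F136666 F64368 (iv4 F64367) F64366 (iv4 F35818) D42006 D89897
theorem F138025 : act 1 n45408 = n89897 := d15_0 (iv0 D89897) F64834 (iv2 F71644)
def n89898 : Q := act 1 n42006
theorem D89898 : act 1 n42006 = n89898 := rfl
theorem F138026 : act 4 n76505 = n89898 := d20_0 (iv1 D89898) (iv4 F67736) F67735 (iv1 F35823) D41818 F64484 (iv1 F64493) (iv4 F69358) F69357 D76505
theorem F138027 : act 3 n43865 = n76505 := d20_5 (iv4 D19686) F63141 (iv4 F15527) (iv3 F32947) D43865 F138026 (iv1 D89898) (iv4 F67736) F67735 (iv1 F35823)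
theorem F138028 : act 0 n45408 = n89898 := d20_10 (iv4 F138026) (iv1 F114671) (iv4 F71434) F71433 (iv1 F34034) D44689 F70264 F136299 (iv4 F70297) (iv3 F71645)
theorem F138029 : act 3 n45393 = n89898 := d20_5 F63429 F63709 F30850 (iv3 F34086) D45393 (iv4 F138026) (iv1 F114671) (iv4 F71434) F71433 (iv1 F34034)
def n89899 : Q := act 2 n42006
theorem D89899 : act 2 n42006 = n89899 := rfl
theorem F138030 : act 3 n89899 = n89835 := d0_2 D42006 D89899 (iv2 D89835) (iv3 D41967) F35859
theorem F138031 : act 7 n89899 = n45408 := d4_2 (iv7 F64834) D89899 F71644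
theorem F138032 : act 1 n89899 = n45409 := d15_0 (iv0 D45409) (iv7 F64834) D89899
theorem F138033 : act 1 n45410 = n89899 := d15_1 D45410 F138031 F71644
theorem F138034 : act 4 n45410 = n43872 := d20_0 (iv1 D43872) (iv4 F34026) F34025 D21617 D45342 (iv4 F136473) (iv1 F136474) (iv4 F137894) (iv3 F138030) (iv1 F138033)
theorem F138035 : act 3 n76423 = n43872 := d20_5 F35864 F63163 (iv4 F32948) (iv3 F68969) (iv1 F114564) (iv4 F138034) (iv1 D45410) F34119 F32393 D20399
def n89900 : Q := act 5 n42006
theorem D89900 : act 5 n42006 = n89900 := rfl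
theorem F138036 : act 3 n89900 = n42007 := d6_1 D89900 (iv5 D42007) D42006
theorem F138037 : act 7 n89900 = n45411 := d13_2 (iv7 F64834) D89900 (iv5 D45411)
def n89901 : Q := act 4 n42007
theorem D89901 : act 4 n42007 = n89901 := rfl
theorem F138038 : act 2 n89901 = n89837 := d1_1 D89901 (iv4 D89837) (iv2 F64835)
theorem F138039 : act 5 n89901 = n48011 := d9_2 D42007 D89901 (iv4 D48011) (iv5 D23168) (iv4 F30834) (iv5 F32362) F32361 D21304 D44728 (iv5 F76205) (iv4 D48451) (iv5 D23613) (iv4 F35314) F35594 (iv4 F35818)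
theorem F138040 : act 7 n89901 = n45417 := d11_2 (iv7 F64836) D89901 (iv4 D45417)
def n89902 : Q := act 6 n42007
theorem D89902 : act 6 n42007 = n89902 := rfl
theorem F138041 : act 2 n89902 = n89838 := d3_1 D89902 (iv6 D89838) (iv2 F64835)
def n89903 : Q := act 0 n42008
theorem D89903 : act 0 n42008 = n89903 := rfl
theorem F138042 : act 5 n89903 = n48414 := d17_3 (iv1 F35854) D42008 D89903 (iv4 F135317) (iv5 F137709) (iv0 D89720) (iv5 D41906) F63710 (iv4 F33520)
theorem F138043 : act 2 n89840 = n89903 := d15_3 (iv0 D89903) F75125 (iv7 F137906)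
theorem F138044 : act 1 n45353 = n89903 := d15_0 (iv0 D89903) F64841 (iv2 F71482)
def n89904 : Q := act 4 n42008
theorem D89904 : act 4 n42008 = n89904 := rfl
theorem F138046 : act 7 n89904 = n89841 := d11_2 (iv7 F64841) D89904 (iv4 D89841)
def n89905 : Q := act 6 n42008
theorem D89905 : act 6 n42008 = n89905 := rfl
theorem F138047 : act 3 n89905 = n42013 := d7_1 D89905 (iv6 D42013) (iv3 F64840)
def n89906 : Q := act 5 n42009
theorem D89906 : act 5 n42009 = n89906 := rfl
theorem F138048 : act 2 n89906 = n48051 := d2_1 D89906 F75507 F70272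
theorem F138049 : act 3 n89906 = n42016 := d6_1 D89906 (iv5 D42016) (iv3 F64842)
theorem F138050 : act 7 n89906 = n48052 := d13_2 (iv7 F64844) D89906 (iv5 F75510)
theorem F138051 : act 0 n89906 = n47990 := d17_2 F69061 D89906 (iv5 D47990) (iv4 F62947) D87847 (iv0 F134820) F68341 F71466 (iv4 F69059)
theorem F138052 : act 1 n89906 = n43478 := d17_6 D10904 D23157 (iv1 F63327) F36357 (iv4 F64843) D89906 (iv5 D43478) (iv0 F32655) F17710
def n89907 : Q := act 3 n42010
theorem D89907 : act 3 n42010 = n89907 := rfl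
theorem F138053 : act 5 n89907 = n48412 := d6_2 (iv5 F64846) D89907 (iv3 D48412)
theorem F138054 : act 7 n89907 = n89843 := d8_2 F64848 D89907 (iv3 D89843)
def n89908 : Q := act 4 n42010
theorem D89908 : act 4 n42010 = n89908 := rfl
theorem F138055 : act 2 n89908 = n89847 := d1_1 D89908 (iv4 D89847) F64847
theorem F138056 : act 7 n89908 = n89844 := d11_2 F64848 D89908 (iv4 D89844)
theorem F138057 : act 5 n89908 = n48395 := d16_1 D89908 (iv4 D48395) F64880 (iv4 F133571) F133570 F62971 (iv5 F64851) F64850 F64847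
def n89909 : Q := act 6 n42010
theorem D89909 : act 6 n42010 = n89909 := rfl
theorem F138058 : act 2 n89909 = n89848 := d3_1 D89909 (iv6 D89848) F64847
theorem F138059 : act 5 n89909 = n45474 := d12_1 D89909 (iv6 D45474) D45473 F71723 (iv5 F64846)
def n89910 : Q := act 3 n42011
theorem D89910 : act 3 n42011 = n89910 := rfl
theorem F138060 : act 5 n89910 = n48060 := d6_2 (iv5 F64851) D89910 F75520
theorem F138061 : act 7 n89910 = n89846 := d8_2 (iv7 F64850) D89910 (iv3 D89846)
def n89911 : Q := act 4 n42011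
theorem D89911 : act 4 n42011 = n89911 := rfl
theorem F138062 : act 2 n89911 = n89844 := d1_1 D89911 (iv4 D89844) F64852
theorem F138063 : act 5 n89911 = n48392 := d9_2 (iv5 F64851) D89911 (iv4 D48392) (iv5 F64867) (iv4 F127430) F127431 (iv4 D48413) (iv5 F64846) D89908 F138057 (iv4 D48395) F64880 (iv4 F133571) F133570 F62971
theorem F138064 : act 7 n89911 = n89847 := d11_2 (iv7 F64850) D89911 (iv4 D89847)
def n89912 : Q := act 6 n42011
theorem D89912 : act 6 n42011 = n89912 := rfl
theorem F138065 : act 2 n89912 = n89845 := d3_1 D89912 (iv6 D89845) F64852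
theorem F138066 : act 5 n89912 = n48062 := d12_1 D89912 (iv6 D48062) (iv5 D23187) D23188 (iv5 F64851)
def n89913 : Q := act 0 n42012
theorem D89913 : act 0 n42012 = n89913 := rfl
theorem F138067 : act 5 n89913 = n48398 := d17_1 D89913 (iv1 D48398) D48400 F76068 (iv5 F71658) F36656 (iv5 F64846) (iv0 D42010) D42012
theorem F138068 : act 4 n89913 = n48411 := d18_3 (iv1 D42011) D42012 D89913 (iv5 D48411) (iv4 D23539) (iv0 D11037) D11039 (iv0 F62974) (iv5 F64851)
theorem F138069 : act 1 n89826 = n89913 := d15_0 (iv0 D89913) F64853 (iv2 F137867)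
theorem F138070 : act 2 n89850 = n89913 := d1_3 F138068 (iv2 F76140) (iv4 F137915)
theorem F138071 : act 7 n89849 = n89913 := d11_0 F138068 (iv7 F76136) (iv4 F137914)
def n89914 : Q := act 1 n42012
theorem D89914 : act 1 n42012 = n89914 := rfl
theorem F138072 : act 1 n89914 = n89826 := d15_1 D89914 (iv7 F138000) F137998
theorem F138073 : act 7 n89914 = n89850 := d15_2 (iv0 D89913) D89914 F138070
theorem F138074 : act 4 n89914 = n48109 := d18_7 (iv1 F63201) (iv4 D19797) (iv1 D9301) D9303 D19806 D42012 D89914 F75586 (iv5 D44653)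
theorem F138075 : act 5 n89914 = n48397 := d18_9 (iv1 F76193) (iv4 D48445) (iv1 F36735) D48395 (iv5 F138057) (iv4 D89908) (iv0 D42010) D42012 D89914
theorem F138076 : act 2 n89849 = n89914 := d2_3 F138075 (iv2 F135297) (iv5 F137913)
def n89915 : Q := act 3 n42012
theorem D89915 : act 3 n42012 = n89915 := rfl
theorem F138077 : act 7 n89915 = n89851 := d8_2 (iv7 F64853) D89915 (iv3 D89851)
def n89916 : Q := act 5 n42012
theorem D89916 : act 5 n42012 = n89916 := rfl
theorem F138078 : act 2 n89916 = n89866 := d2_1 D89916 (iv5 F137999) F137998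
theorem F138079 : act 7 n89916 = n89852 := d13_2 (iv7 F64853) D89916 (iv5 D89852)
theorem F138080 : act 4 n89916 = n48010 := d16_2 D42012 D89916 F75423 (iv4 D41963) (iv5 D19769) D19768 D41961 (iv7 F64809) F64808
theorem F138081 : act 0 n89916 = n48439 := d17_2 (iv1 D89914) D89916 F76180 (iv4 D44660) (iv5 D21256) D21255 D44656 F75587 (iv4 F138074)
theorem F138082 : act 1 n89916 = n44949 := d17_6 (iv1 F70305) (iv5 D42007) (iv1 D19804) D19806 D42012 D89916 (iv5 F137986) F137989 F76233
def n89917 : Q := act 6 n42012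
theorem D89917 : act 6 n42012 = n89917 := rfl
theorem F138083 : act 4 n89917 = n42013 := d10_1 D89917 (iv6 D42013) D42012
def n89918 : Q := act 0 n42013
theorem D89918 : act 0 n42013 = n89918 := rfl
def n89919 : Q := act 1 n42013
theorem D89919 : act 1 n42013 = n89919 := rfl
def n89920 : Q := act 5 n42013
theorem D89920 : act 5 n42013 = n89920 := rfl
theorem F138084 : act 6 n89920 = n42016 := d12_2 D42013 D89920 (iv5 D42016) (iv6 D19807) D19806
def n89921 : Q := act 7 n42013
theorem D89921 : act 7 n42013 = n89921 := rfl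
theorem F138085 : act 6 n89921 = n89857 := d14_1 D89921 (iv7 D89857) (iv6 D41974) (iv7 F31578) D42013
def n89922 : Q := act 3 n42014
theorem D89922 : act 3 n42014 = n89922 := rfl
theorem F138086 : act 4 n89922 = n89580 := d5_2 (iv4 F133579) D89922 (iv3 D89580) D89581 F137332
theorem F138087 : act 5 n89922 = n47848 := d6_2 (iv5 F75046) D89922 (iv3 D47848)
theorem F138088 : act 6 n89922 = n89865 := d7_2 (iv6 F64854) D89922 (iv3 D89865)
theorem F138089 : act 7 n89922 = n45456 := d8_2 F64874 D89922 F71710
def n89923 : Q := act 3 n42015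
theorem D89923 : act 3 n42015 = n89923 := rfl
theorem F138090 : act 4 n89923 = n44121 := d5_2 F64855 D89923 F69461 F33146 (iv3 F33143)
theorem F138091 : act 5 n89923 = n47851 := d6_2 (iv5 F64858) D89923 (iv3 D47851)
theorem F138092 : act 6 n89923 = n44107 := d7_2 (iv6 F64857) D89923 (iv3 D44107)
def n89924 : Q := act 4 n42016
theorem D89924 : act 4 n42016 = n89924 := rfl
def n89925 : Q := act 0 n42018
theorem D89925 : act 0 n42018 = n89925 := rfl
theorem F138093 : act 5 n89925 = n44947 := d17_1 D89925 (iv1 F70655) (iv5 D23603) (iv4 D11060) F35838 F16113 D19769 F31580 D42018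
theorem F138094 : act 4 n89925 = n43217 := d18_1 D89925 (iv1 F135312) F135311 F64767 D48458 F135305 (iv4 D88349) D88348 F135301
theorem F138095 : act 2 n45524 = n89925 := d15_3 (iv0 D89925) F70263 (iv7 F71800)
theorem F138096 : act 1 n42019 = n89925 := d15_0 (iv0 D89925) F64864 (iv2 F64865)
theorem F138097 : act 7 n89925 = n45344 := d15_2 (iv0 F70262) F138096 F71447
def n89926 : Q := act 3 n42018
theorem D89926 : act 3 n42018 = n89926 := rfl
theorem F138098 : act 4 n89926 = n44091 := d5_2 D42018 D89926 F69439 (iv4 F62871) (iv3 F63286)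
theorem F138099 : act 6 n89926 = n44089 := d7_2 (iv6 F64863) D89926 F69436
theorem F138100 : act 7 n89926 = n89863 := d8_2 (iv7 F64864) D89926 (iv3 D89863)
def n89927 : Q := act 3 n42019
theorem D89927 : act 3 n42019 = n89927 := rfl
theorem F138101 : act 7 n89927 = n45521 := d8_2 (iv7 F64866) D89927 F71797
def n89928 : Q := act 3 n42020
theorem D89928 : act 3 n42020 = n89928 := rfl
theorem F138102 : act 4 n89928 = n88972 := d5_2 F127430 D89928 F136560 F64095 (iv3 F127429)
theorem F138103 : act 5 n89928 = n48391 := d6_2 (iv5 F64867) D89928 (iv3 D48391)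
theorem F138104 : act 6 n89928 = n45086 := d7_2 (iv6 F64869) D89928 (iv3 D45086)
theorem F138105 : act 7 n89928 = n89865 := d8_2 F64872 D89928 (iv3 D89865)
def n89929 : Q := act 3 n42021
theorem D89929 : act 3 n42021 = n89929 := rfl
theorem F138106 : act 5 n89929 = n48394 := d6_2 F64880 D89929 (iv3 D48394)
theorem F138107 : act 7 n89929 = n45468 := d8_2 (iv7 F64878) D89929 F71720
def n89930 : Q := act 4 n42022
theorem D89930 : act 4 n42022 = n89930 := rfl
theorem F138108 : act 2 n89930 = n89852 := d1_1 D89930 F137917 F75105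
theorem F138109 : act 5 n89930 = n89826 := d9_2 D42022 D89930 (iv4 D89826) (iv5 D41961) (iv4 D19768) D19769 D41963 (iv5 F75423) (iv4 F138080) (iv5 D89916) (iv4 D42012) (iv5 D19806) (iv4 D9303) D9304 D19810
theorem F138110 : act 7 n89930 = n89866 := d11_2 (iv7 F64882) D89930 (iv4 D89866)
theorem F138111 : act 0 n89930 = n44949 := d17_0 (iv5 F137986) F137988 F76082 (iv4 D48378) (iv5 D23518) (iv0 F35591) D23168 (iv0 F64884) D89930
theorem F138112 : act 1 n89930 = n48439 := d18_6 (iv1 F138096) (iv4 D42019) (iv1 D19809) D19810 D42022 D89930 (iv4 D48439) F70655 (iv5 F138093)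
def n89931 : Q := act 6 n42022
theorem D89931 : act 6 n42022 = n89931 := rfl
theorem F138113 : act 3 n89931 = n89856 := d7_1 D89931 F137921 (iv3 F64881)
theorem F138114 : act 5 n89931 = n89842 := d12_1 D89931 (iv6 D89842) (iv5 D41970) (iv6 F31583) D42022
def n89932 : Q := act 4 n42023
theorem D89932 : act 4 n42023 = n89932 := rfl
theorem F138115 : act 2 n89932 = n42455 := d1_1 D89932 F71740 (iv2 F71737)
theorem F138116 : act 6 n89932 = n44094 := d10_2 F67698 D89932 F69440
theorem F138118 : act 5 n89932 = n42216 := d17_5 F65770 D43221 F67695 (iv5 F64885) D89932 (iv0 D42216) (iv5 D19929) D19928 (iv4 F65773)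
theorem F138119 : act 0 n89932 = n44085 := d17_0 F69434 (iv1 D42433) (iv5 D20032) D20031 D42430 (iv0 F75276) F75268 F73998 D89932
theorem F138120 : act 1 n89932 = n42192 := d18_6 (iv1 D19941) D19942 D42244 (iv4 F65255) (iv5 F64885) D89932 F65122 F35724 F31767
def n89933 : Q := act 0 n42024
theorem D89933 : act 0 n42024 = n89933 := rfl
theorem F138121 : act 4 n89933 = n44278 := d20_2 D42024 D89933 (iv3 D44278) (iv1 D21056) F15825 (iv4 F14802) F15412 F14493 (iv3 F14492) D19811
theorem F138122 : act 6 n89933 = n89869 := d21_5 D44946 (iv1 F137941) (iv5 D89864) (iv6 F64888) D89933 F137951 (iv1 F70794) F70790 F63187 (iv1 F63177)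
theorem F138123 : act 2 n45501 = n89933 := d15_3 (iv0 D89933) (iv0 F74005) (iv7 F71751)
theorem F138124 : act 1 n42025 = n89933 := d15_0 (iv0 D89933) F64889 (iv2 F64890)
theorem F138125 : act 7 n89933 = n45377 := d15_2 (iv0 F137333) F138124 F71547
def n89934 : Q := act 3 n42024
theorem D89934 : act 3 n42024 = n89934 := rfl
theorem F138126 : act 6 n89934 = n89863 := d7_2 (iv6 F64888) D89934 (iv3 D89863)
theorem F138127 : act 7 n89934 = n45496 := d8_2 (iv7 F64889) D89934 F71747
def n89935 : Q := act 5 n42024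
theorem D89935 : act 5 n42024 = n89935 := rfl
theorem F138128 : act 7 n89935 = n45502 := d13_2 (iv7 F64889) D89935 (iv5 D45502)
theorem F138129 : act 0 n89935 = n47863 := d17_2 F74005 D89935 (iv5 D47863) (iv4 F65545) D42469 F72791 D42548 F74002 (iv4 F70206)
theorem F138130 : act 1 n89935 = n44515 := d17_6 (iv1 D4953) D4954 D10874 (iv5 F63318) D42024 D89935 (iv5 D44515) F66026 (iv4 D10871)
theorem F138131 : act 4 n89935 = n47854 := d18_5 (iv1 D42015) F31579 D19811 D42024 D89935 (iv0 D47854) (iv4 D23024) D23023 (iv5 F64858)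
def n89936 : Q := act 3 n42025
theorem D89936 : act 3 n42025 = n89936 := rfl
theorem F138132 : act 6 n89936 = n45093 := d7_2 (iv6 F64891) D89936 (iv3 D45093)
def n89937 : Q := act 5 n42025
theorem D89937 : act 5 n42025 = n89937 := rfl
theorem F138133 : act 2 n89937 = n45502 := d2_1 D89937 (iv5 D45502) (iv2 F64890)
theorem F138134 : act 0 n89937 = n44515 := d17_2 (iv1 F138124) D89937 (iv5 D44515) F33417 D42100 (iv0 F134311) (iv5 D87480) F74003 (iv4 F138121)
theorem F138135 : act 1 n89937 = n47863 := d17_6 (iv1 F17652) (iv5 F36058) (iv1 F36060) (iv5 F64825) D42025 D89937 (iv5 D47863) (iv0 D23038) (iv4 D10866)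
theorem F138136 : act 4 n47855 = n89937 := d18_7 (iv1 F36093) (iv4 D10871) (iv1 D4953) (iv4 F7372) D10862 D23024 D47855 F138135 (iv5 D47863)
def n89938 : Q := act 0 n42026
theorem D89938 : act 0 n42026 = n89938 := rfl
theorem F138137 : act 4 n89938 = n87731 := d18_3 F63323 D42026 D89938 (iv5 D87731) F66066 F36036 F17655 F17650 D22989
def n89939 : Q := act 3 n42026
theorem D89939 : act 3 n42026 = n89939 := rfl
theorem F138139 : act 6 n89939 = n89877 := d7_2 (iv6 F64892) D89939 (iv3 D89877)
def n89940 : Q := act 5 n42026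
theorem D89940 : act 5 n42026 = n89940 := rfl
theorem F138140 : act 0 n89940 = n47916 := d17_2 F65628 D89940 (iv5 D47916) F66371 (iv5 F133580) (iv0 D87024) (iv5 F66367) (iv0 D42478) D42480
def n89941 : Q := act 4 n42027
theorem D89941 : act 4 n42027 = n89941 := rfl
theorem F138142 : act 2 n89941 = n48123 := d1_1 D89941 F75617 F64894
theorem F138143 : act 6 n89941 = n44842 := d10_2 F64897 D89941 (iv4 D44842)
theorem F138144 : act 7 n89941 = n89875 := d11_2 (iv7 F64896) D89941 (iv4 D89875)
theorem F138145 : act 1 n48123 = n89722 := d15_0 (iv0 F137970) (iv7 F138144) F138142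
def n89942 : Q := act 0 n42028
theorem D89942 : act 0 n42028 = n89942 := rfl
theorem F138146 : act 4 n89942 = n89720 := d18_3 (iv1 F63282) D42028 D89942 F137709 F135317 (iv0 D48414) F36658 F66745 D23065
theorem F138148 : act 2 n48129 = n89942 := d1_3 F138146 F137712 F134877
theorem F138149 : act 6 n47999 = n89942 := d10_0 F138146 (iv6 F137711) (iv4 F134829)
def n89943 : Q := act 1 n42028
theorem D89943 : act 1 n42028 = n89943 := rfl
theorem F138152 : act 7 n89943 = n48129 := d15_2 (iv0 D89942) D89943 F138148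
def n89944 : Q := act 3 n42028
theorem D89944 : act 3 n42028 = n89944 := rfl
theorem F138155 : act 4 n89944 = n42029 := d5_2 D42028 D89944 (iv3 D42029) (iv4 D19820) (iv3 F31595)
def n89955 : Q := act 1 n42040
theorem D89955 : act 1 n42040 = n89955 := rfl
theorem F138171 : act 7 n89955 = n42107 := d15_2 (iv0 F66868) D89955 F65023
theorem F138172 : act 4 n42108 = n89955 := d20_0 (iv1 D89955) (iv4 D42040) (iv3 D19825) (iv1 D9325) (iv3 F14437) D19709 D41865 F73909 (iv3 F134259) (iv1 F134261)
theorem F138174 : act 6 n89955 = n48496 := d10_2 F65282 F138172 (iv4 F76327)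
def n89969 : Q := act 1 n42047
theorem D89969 : act 1 n42047 = n89969 := rfl
theorem F138186 : act 3 n42994 = n89969 := d20_3 (iv4 F30737) D40475 (iv4 F135648) (iv1 D89969) (iv3 D42047) D42048 F133744 (iv4 D87163) (iv3 D40489) (iv1 D19132)
theorem F138188 : act 0 n43015 = n89969 := d20_4 D40490 (iv1 F133733) (iv4 F135672) (iv3 F67377) (iv3 F138186) F135648 (iv1 F76405) F76403 F36840 (iv1 F36845)
def n89970 : Q := act 2 n42047
theorem D89970 : act 2 n42047 = n89970 := rfl
theorem F138189 : act 3 n89970 = n48618 := d0_2 D42047 D89970 (iv2 D48618) (iv3 D23704) F133953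
theorem F138190 : act 4 n89970 = n42080 := d1_2 (iv4 F64927) D89970 (iv2 F133950)
theorem F138193 : act 1 n89970 = n42988 := d15_0 F135664 (iv7 F133952) D89970
theorem F138194 : act 1 n43017 = n89970 := d15_0 F138193 F67354 D43017
def n89972 : Q := act 1 n42048
theorem D89972 : act 1 n42048 = n89972 := rfl
theorem F138198 : act 1 n89972 = n42053 := d15_1 D89972 F133965 (iv2 F133954)
theorem F138199 : act 7 n89972 = n48601 := d15_2 (iv0 F133744) D89972 F135674
theorem F138200 : act 2 n48600 = n89972 := d4_3 F138199 F135674 (iv7 F135675)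
def n89973 : Q := act 3 n42048
theorem D89973 : act 3 n42048 = n89973 := rfl
theorem F138201 : act 4 n89973 = n88447 := d5_2 D42048 D89973 (iv3 D88447) (iv4 F64927) (iv3 D42047)
theorem F138202 : act 7 n89973 = n48602 := d8_2 (iv7 F133955) D89973 (iv3 D48602)
def n89974 : Q := act 5 n42048
theorem D89974 : act 5 n42048 = n89974 := rfl
theorem F138203 : act 2 n89974 = n48623 := d2_1 D89974 (iv5 D48623) (iv2 F133954)
theorem F138204 : act 7 n89974 = n48603 := d13_2 (iv7 F133955) D89974 (iv5 D48603)
def n89980 : Q := act 4 n42052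
theorem D89980 : act 4 n42052 = n89980 := rfl
theorem F138214 : act 2 n89980 = n87146 := d1_1 D89980 (iv4 F135672) (iv2 F133962)
theorem F138215 : act 7 n89980 = n48619 := d11_2 (iv7 F133963) D89980 (iv4 D48619)
theorem F138216 : act 0 n89980 = n48571 := d18_2 (iv1 F135650) D89980 (iv4 D48571) F133746 D40490 F133737 (iv4 D48619) (iv0 F133935) D42996
theorem F138217 : act 1 n89980 = n48566 := d18_6 D19148 D40530 D87261 F133902 (iv5 F137560) D89980 (iv4 D48566) (iv0 D23688) F17978
def n89982 : Q := act 5 n42053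
theorem D89982 : act 5 n42053 = n89982 := rfl
theorem F138219 : act 2 n89982 = n48603 := d2_1 D89982 (iv5 D48603) (iv2 F133964)
theorem F138220 : act 7 n89982 = n48623 := d13_2 (iv7 F133965) D89982 (iv5 D48623)
def n89988 : Q := act 0 n42060
theorem D89988 : act 0 n42060 = n89988 := rfl
theorem F138230 : act 1 n88410 = n89988 := d15_0 (iv0 D89988) F64939 D88410
def n89989 : Q := act 1 n42060
theorem D89989 : act 1 n42060 = n89989 := rfl
theorem F138231 : act 3 n88561 = n89989 := d20_3 (iv4 F138190) (iv1 F138194) (iv4 F135621) (iv1 D89989) (iv3 D42060) (iv4 D19834) F14524 D9337 D19843 D42080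
def n89990 : Q := act 2 n42060
theorem D89990 : act 2 n42060 = n89990 := rfl
theorem F138232 : act 3 n89990 = n86877 := d0_2 D42060 D89990 (iv2 D86877) (iv3 D40304) (iv2 F31633)
theorem F138233 : act 7 n89990 = n88410 := d4_2 (iv7 F64939) D89990 (iv2 D88410)
theorem F138234 : act 1 n89990 = n88408 := d15_0 (iv0 D88408) (iv7 F64939) D89990
theorem F138235 : act 1 n89989 = n88410 := d15_1 D89989 (iv7 F138233) (iv2 D89990)
theorem F138236 : act 1 n88409 = n89990 := d15_1 D88409 F138233 (iv2 D88410)
def n89991 : Q := act 5 n42060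
theorem D89991 : act 5 n42060 = n89991 := rfl
theorem F138237 : act 3 n89991 = n42061 := d6_1 D89991 (iv5 D42061) D42060
theorem F138238 : act 7 n89991 = n88411 := d13_2 (iv7 F64939) D89991 (iv5 D88411)
def n89992 : Q := act 6 n42061
theorem D89992 : act 6 n42061 = n89992 := rfl
theorem F138239 : act 2 n89992 = n86881 := d3_1 D89992 (iv6 D86881) (iv2 F64940)
def n89993 : Q := act 0 n42062
theorem D89993 : act 0 n42062 = n89993 := rfl
theorem F138240 : act 1 n87291 = n89993 := d15_0 (iv0 D89993) F64943 D87291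
def n89994 : Q := act 1 n42062
theorem D89994 : act 1 n42062 = n89994 := rfl
def n89995 : Q := act 2 n42062
theorem D89995 : act 2 n42062 = n89995 := rfl
theorem F138241 : act 3 n89995 = n42082 := d0_2 D42062 D89995 (iv2 D42082) (iv3 D19843) (iv2 F31635)
theorem F138242 : act 4 n89995 = n89995 := d1_2 F64942 D89995 (iv2 D89995)
theorem F138243 : act 7 n89995 = n87291 := d4_2 (iv7 F64943) D89995 (iv2 D87291)
theorem F138244 : act 1 n89995 = n87289 := d15_0 (iv0 D87289) (iv7 F64943) D89995
theorem F138245 : act 1 n89994 = n87291 := d15_1 D89994 (iv7 F138243) (iv2 D89995)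
theorem F138246 : act 1 n87290 = n89995 := d15_1 D87290 F138243 (iv2 D87291)
def n89996 : Q := act 5 n42062
theorem D89996 : act 5 n42062 = n89996 := rfl
theorem F138247 : act 3 n89996 = n42063 := d6_1 D89996 (iv5 D42063) D42062
theorem F138248 : act 7 n89996 = n87292 := d13_2 (iv7 F64943) D89996 (iv5 D87292)
def n89997 : Q := act 6 n42063
theorem D89997 : act 6 n42063 = n89997 := rfl
theorem F138249 : act 2 n89997 = n42087 := d3_1 D89997 (iv6 D42087) (iv2 F64944)
theorem F138250 : act 4 n89997 = n78613 := d10_1 D89997 (iv6 D78613) (iv4 F64945)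
def n89998 : Q := act 0 n42064
theorem D89998 : act 0 n42064 = n89998 := rfl
theorem F138251 : act 6 n89998 = n57337 := d21_5 (iv5 D39974) (iv1 F30172) D19836 D42064 D89998 (iv5 D57337) (iv1 D27450) D27451 F44369 (iv1 F60834)
theorem F138252 : act 2 n84493 = n89998 := d3_3 F138251 F121533 D84493
theorem F138253 : act 0 n89998 = n88394 := d21_4 F133270 (iv1 F61350) D57337 (iv6 F138251) F135386 F133313 (iv1 F120683) D58168 (iv6 F121013) (iv1 F133272)
theorem F138254 : act 7 n88393 = n89998 := d15_2 (iv0 F129620) D88393 (iv2 F138252)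
def n89999 : Q := act 1 n42064
theorem D89999 : act 1 n42064 = n89999 := rfl
theorem F138255 : act 1 n89999 = n88394 := d15_1 D89999 (iv7 D88394) (iv2 F64949)
theorem F138256 : act 7 n89999 = n84493 := d15_2 (iv0 D89998) D89999 F138252
theorem F138257 : act 2 n88393 = n89999 := d4_3 F138256 F138252 (iv7 F138254)
theorem F138258 : act 3 n48516 = n89999 := d8_3 F138256 F129619 (iv7 F117033)
theorem F138259 : act 6 n86027 = n89999 := d14_5 F138256 (iv6 D84493) (iv7 F121531) (iv6 F125716) (iv7 F131972)
def n90000 : Q := act 7 n42064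
theorem D90000 : act 7 n42064 = n90000 := rfl
theorem F138262 : act 1 n88393 = n90000 := d15_1 D88393 (iv7 D90000) F64949
theorem F138263 : act 1 n90000 = n84493 := d15_1 F138262 (iv7 F138256) (iv2 F138257)
def n90001 : Q := act 0 n42065
theorem D90001 : act 0 n42065 = n90001 := rfl
def n90002 : Q := act 1 n42065
theorem D90002 : act 1 n42065 = n90002 := rfl
def n90003 : Q := act 2 n42065
theorem D90003 : act 2 n42065 = n90003 := rfl
theorem F138265 : act 3 n90003 = n88397 := d0_2 D42065 D90003 (iv2 D88397) (iv3 D41269) (iv2 F31641)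
theorem F138266 : act 7 n90003 = n88386 := d4_2 (iv7 F64950) D90003 (iv2 D88386)
theorem F138268 : act 1 n90002 = n88386 := d15_1 D90002 (iv7 F138266) (iv2 D90003)
def n90004 : Q := act 5 n42065
theorem D90004 : act 5 n42065 = n90004 := rfl
theorem F138270 : act 3 n90004 = n42066 := d6_1 D90004 (iv5 D42066) D42065
def n90005 : Q := act 6 n42065
theorem D90005 : act 6 n42065 = n90005 := rfl
theorem F138272 : act 3 n90005 = n42067 := d7_1 D90005 (iv6 D42067) D42065
def n90006 : Q := act 6 n42066
theorem D90006 : act 6 n42066 = n90006 := rfl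
def n90007 : Q := act 0 n42067
theorem D90007 : act 0 n42067 = n90007 := rfl
theorem F138274 : act 4 n90007 = n47888 := d20_2 (iv4 F64954) D90007 F75193 F36339 F36336 (iv4 F36420) (iv1 F36424) (iv4 D20745) D20744 F66134
theorem F138275 : act 2 n88401 = n90007 := d1_3 F138274 F75192 F135397
theorem F138276 : act 6 n47887 = n90007 := d10_0 F138274 (iv6 D47888) D47887
theorem F138277 : act 7 n88402 = n90007 := d11_0 F138274 (iv7 F76386) F137469
def n90008 : Q := act 1 n42067
theorem D90008 : act 1 n42067 = n90008 := rfl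
theorem F138278 : act 1 n90008 = n87955 := d15_1 D90008 F134947 (iv2 F64953)
theorem F138279 : act 7 n90008 = n88401 := d15_2 (iv0 D90007) D90008 F138275
theorem F138280 : act 2 n88402 = n90008 := d4_3 F138279 F138275 (iv7 F138277)
theorem F138281 : act 4 n89643 = n90008 := d11_3 F138279 (iv4 F135397) (iv7 F137421)
theorem F138282 : act 6 n90008 = n48247 := d10_2 F137422 F138281 (iv4 F75950)
theorem F138283 : act 1 n87955 = n90007 := d15_1 F138278 (iv7 F138277) F138280
def n90010 : Q := act 7 n42067
theorem D90010 : act 7 n42067 = n90010 := rfl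
theorem F138286 : act 4 n90010 = n42070 := d11_1 D90010 (iv7 D42070) (iv4 F64954)
theorem F138287 : act 6 n90010 = n43653 := d14_1 D90010 F68589 F36452 (iv7 F31642) D42067
theorem F138288 : act 1 n88402 = n90010 := d15_1 D88402 (iv7 D90010) F64953
theorem F138289 : act 1 n90010 = n88401 := d15_1 F138288 (iv7 F138279) (iv2 F138280)
theorem F138292 : act 0 n43650 = n42600 := d20_7 F135397 (iv1 F138289) F138286 (iv3 F129340) (iv1 F129342) (iv3 D43649) D43650 F66436 (iv3 F122672) F122674
theorem F138293 : act 1 n43301 = n42718 := d18_6 (iv1 F65080) D43650 F138292 F66436 (iv5 F65037) (iv4 F67948) (iv4 D42718) F65092 F65089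
def n90011 : Q := act 4 n42068
theorem D90011 : act 4 n42068 = n90011 := rfl
theorem F138295 : act 2 n90011 = n42774 := d1_1 D90011 F67030 F66101
theorem F138297 : act 7 n90011 = n88404 := d11_2 F64958 D90011 (iv4 D88404)
theorem F138298 : act 1 n42878 = n88404 := d15_1 (iv0 F67189) (iv7 F138297) F138295
theorem E14578 : n88441 = n88425 := ((c18_2 (iv1 F63598) D88425 (iv1 D88441) (iv4 F63792) (iv5 F64536) (iv4 F67188) F138298 (iv4 D88404) F64967 F64965)).symm
theorem F138299 : act 0 n88425 = n41285 := (sb E14578 (iv1 D88441))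
theorem F138300 : act 4 n88726 = n89664 := d20_6 D88425 F138299 (iv4 F63792) F63791 D41421 D88726 (iv1 F137491) (iv4 F134703) F134702 (iv1 F63598)
def n90012 : Q := act 0 n42071
theorem D90012 : act 0 n42071 = n90012 := rfl
theorem F138301 : act 4 n90012 = n88722 := d18_1 D90012 (iv1 F136058) F74989 F36022 (iv4 F74184) F137460 F137450 (iv0 F66360) (iv5 F64971)
def n90013 : Q := act 1 n42071
theorem D90013 : act 1 n42071 = n90013 := rfl
def n90014 : Q := act 0 n42072
theorem D90014 : act 0 n42072 = n90014 := rfl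
theorem F138302 : act 3 n90014 = n88702 := d20_5 (iv4 D9337) D9336 D19840 D42072 D90014 (iv4 D88702) (iv1 D41412) (iv4 F63786) (iv3 D41367) F31176
theorem F138303 : act 1 n86877 = n90014 := d15_0 (iv0 D90014) F64973 D86877
def n90015 : Q := act 1 n42072
theorem D90015 : act 1 n42072 = n90015 := rfl
theorem F138304 : act 4 n88696 = n90015 := d20_6 (iv4 D4945) F6956 D9180 D19505 D41411 D88696 (iv1 D90015) F64972 (iv3 D22969) (iv1 D10844)
theorem F138305 : act 0 n48602 = n88696 := d20_10 F138304 (iv1 D90015) F64972 (iv3 D22969) (iv1 D10844) D10845 F17636 D11096 D23700 D48602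
def n90016 : Q := act 2 n42072
theorem D90016 : act 2 n42072 = n90016 := rfl
theorem F138306 : act 3 n90016 = n88410 := d0_2 D42072 D90016 (iv2 D88410) (iv3 D41274) (iv2 F31648)
theorem F138307 : act 4 n90016 = n47731 := d1_2 (iv4 F64972) D90016 (iv2 D47731)
theorem F138308 : act 7 n90016 = n86877 := d4_2 (iv7 F64973) D90016 (iv2 D86877)
theorem F138309 : act 1 n90016 = n86875 := d15_0 (iv0 D86875) (iv7 F64973) D90016
theorem F138310 : act 1 n90015 = n86877 := d15_1 D90015 (iv7 F138308) (iv2 D90016)
theorem F138311 : act 1 n86876 = n90016 := d15_1 D86876 F138308 (iv2 D86877)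
def n90017 : Q := act 5 n42072
theorem D90017 : act 5 n42072 = n90017 := rfl
theorem F138312 : act 3 n90017 = n42073 := d6_1 D90017 (iv5 D42073) D42072
theorem F138313 : act 7 n90017 = n86878 := d13_2 (iv7 F64973) D90017 (iv5 D86878)
def n90018 : Q := act 6 n42072
theorem D90018 : act 6 n42072 = n90018 := rfl
theorem F138315 : act 4 n90018 = n47733 := d10_1 D90018 (iv6 D47733) (iv4 F64972)
def n90019 : Q := act 6 n42073
theorem D90019 : act 6 n42073 = n90019 := rfl
theorem F138316 : act 2 n90019 = n88413 := d3_1 D90019 (iv6 D88413) (iv2 F64974)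
def n90020 : Q := act 0 n42074
theorem D90020 : act 0 n42074 = n90020 := rfl
theorem F138317 : act 1 n88417 = n90020 := d15_0 (iv0 D90020) (iv7 F134815) (iv2 F135406)
theorem F138318 : act 4 n90020 = n88632 := d18_7 F75194 (iv4 F138274) (iv1 F138283) F134946 (iv5 F63600) (iv4 F135407) F138317 (iv0 D88632) (iv5 F64536)
def n90021 : Q := act 1 n42074
theorem D90021 : act 1 n42074 = n90021 := rfl
theorem F138319 : act 1 n90021 = n88417 := d15_1 D90021 (iv7 D88417) (iv2 F64976)
def n90031 : Q := act 0 n42077
theorem D90031 : act 0 n42077 = n90031 := rfl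
theorem F138328 : act 1 n88429 = n90031 := d15_0 (iv0 D90031) F64980 D88429
def n90032 : Q := act 1 n42077
theorem D90032 : act 1 n42077 = n90032 := rfl
def n90033 : Q := act 2 n42077
theorem D90033 : act 2 n42077 = n90033 := rfl
theorem F138329 : act 3 n90033 = n88436 := d0_2 D42077 D90033 (iv2 D88436) (iv3 D41283) F31652
theorem F138330 : act 7 n90033 = n88429 := d4_2 (iv7 F64980) D90033 (iv2 D88429)
theorem F138331 : act 1 n90033 = n88427 := d15_0 (iv0 D88427) (iv7 F64980) D90033
theorem F138332 : act 1 n90032 = n88429 := d15_1 D90032 (iv7 F138330) (iv2 D90033)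
theorem F138333 : act 1 n88428 = n90033 := d15_1 D88428 F138330 (iv2 D88429)
def n90034 : Q := act 5 n42077
theorem D90034 : act 5 n42077 = n90034 := rfl
def n90035 : Q := act 6 n42077
theorem D90035 : act 6 n42077 = n90035 := rfl
def n90040 : Q := act 7 n42079
theorem D90040 : act 7 n42079 = n90040 := rfl
theorem F138340 : act 2 n90040 = n88443 := d4_1 D90040 (iv7 D88443) (iv2 F64984)
theorem F138343 : act 1 n88425 = n90040 := d15_1 (iv0 F138299) (iv7 D90040) F64984
theorem F138345 : act 1 n90040 = n88440 := d15_0 (iv0 D88440) D88443 (iv2 F138340)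
def n90041 : Q := act 3 n42080
theorem D90041 : act 3 n42080 = n90041 := rfl
theorem F138346 : act 7 n90041 = n88444 := d8_2 (iv7 F133949) D90041 (iv3 D88444)
theorem F138347 : act 4 n90041 = n45044 := d20_6 (iv4 D19834) F14524 D9337 D19843 D42080 D90041 (iv1 D45044) (iv4 F70691) (iv3 D44958) F33743
theorem F138348 : act 7 n45044 = n87176 := d11_2 (iv7 F138346) F138347 (iv4 F135428)
theorem F138349 : act 2 n87176 = n45043 := d15_3 (iv0 D45043) D45044 F138348
theorem F138350 : act 2 n45044 = n87175 := d15_3 (iv0 D87175) D87176 (iv7 F138348)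
theorem F138351 : act 7 n87175 = n45043 := d4_2 (iv7 F138348) F138350 (iv2 F138349)
def n90044 : Q := act 3 n42081
theorem D90044 : act 3 n42081 = n90044 := rfl
theorem F138356 : act 4 n90044 = n48602 := d5_2 F64986 D90044 (iv3 D48602) (iv4 D23700) D23699
theorem F138357 : act 7 n90044 = n88447 := d8_2 F133948 D90044 (iv3 D88447)
def n90045 : Q := act 5 n42081
theorem D90045 : act 5 n42081 = n90045 := rfl
theorem F138358 : act 2 n90045 = n88445 := d2_1 D90045 (iv5 D88445) (iv2 F133945)
theorem F138359 : act 7 n90045 = n88448 := d13_2 F133948 D90045 (iv5 D88448)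
theorem F138361 : act 1 n88445 = n42942 := d15_0 F137535 (iv7 F138359) F138358
def n90047 : Q := act 5 n42082
theorem D90047 : act 5 n42082 = n90047 := rfl
theorem F138364 : act 2 n90047 = n42083 := d2_1 D90047 (iv5 D42083) D42082
theorem F138365 : act 7 n90047 = n88450 := d13_2 (iv7 F64988) D90047 (iv5 D88450)
def n90048 : Q := act 0 n42083
theorem D90048 : act 0 n42083 = n90048 := rfl
theorem F138368 : act 1 n88450 = n90048 := d15_0 (iv0 D90048) F64993 (iv2 F135429)
theorem F138369 : act 5 n90048 = n42939 := d17_7 D20288 (iv5 F137526) (iv1 F31662) F31660 (iv4 F63607) D88450 F138368 (iv0 D42939) F32182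
def n90049 : Q := act 1 n42083
theorem D90049 : act 1 n42083 = n90049 := rfl
theorem F138372 : act 1 n90049 = n88450 := d15_1 D90049 (iv7 F138365) F138364
def n90050 : Q := act 4 n42083
theorem D90050 : act 4 n42083 = n90050 := rfl
theorem F138376 : act 7 n90050 = n88453 := d11_2 (iv7 F64993) D90050 (iv4 D88453)
def n90051 : Q := act 6 n42083
theorem D90051 : act 6 n42083 = n90051 := rfl
theorem F138377 : act 3 n90051 = n42087 := d7_1 D90051 (iv6 D42087) (iv3 F64992)
def n90052 : Q := act 3 n42084
theorem D90052 : act 3 n42084 = n90052 := rfl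
theorem F138378 : act 5 n90052 = n42935 := d6_2 (iv5 F64994) D90052 (iv3 D42935)
theorem F138379 : act 7 n90052 = n88455 := d8_2 F64997 D90052 (iv3 D88455)
def n90053 : Q := act 6 n42084
theorem D90053 : act 6 n42084 = n90053 := rfl
theorem F138380 : act 2 n90053 = n88458 := d3_1 D90053 (iv6 D88458) F64996
def n90054 : Q := act 3 n42085
theorem D90054 : act 3 n42085 = n90054 := rfl
theorem F138381 : act 5 n90054 = n42937 := d6_2 (iv5 F65000) D90054 (iv3 D42937)
theorem F138382 : act 7 n90054 = n88457 := d8_2 (iv7 F64999) D90054 (iv3 D88457)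
def n90055 : Q := act 6 n42085
theorem D90055 : act 6 n42085 = n90055 := rfl
theorem F138383 : act 2 n90055 = n88456 := d3_1 D90055 (iv6 D88456) F65001
def n90056 : Q := act 3 n42086
theorem D90056 : act 3 n42086 = n90056 := rfl
theorem F138384 : act 5 n90056 = n78598 := d6_2 (iv5 F65003) D90056 (iv3 D78598)
theorem F138385 : act 7 n90056 = n88459 := d8_2 (iv7 F65004) D90056 (iv3 D88459)
def n90057 : Q := act 6 n42086
theorem D90057 : act 6 n42086 = n90057 := rfl
theorem F138386 : act 2 n90057 = n78613 := d3_1 D90057 (iv6 D78613) (iv2 F65002)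
theorem F138387 : act 4 n90057 = n42087 := d10_1 D90057 (iv6 D42087) D42086
def n90058 : Q := act 0 n42087
theorem D90058 : act 0 n42087 = n90058 := rfl
def n90059 : Q := act 1 n42087
theorem D90059 : act 1 n42087 = n90059 := rfl
def n90060 : Q := act 7 n42087
theorem D90060 : act 7 n42087 = n90060 := rfl
theorem F138388 : act 6 n90060 = n88463 := d14_1 D90060 (iv7 D88463) (iv6 D41293) (iv7 F31657) D42087
def n90061 : Q := act 1 n42089
theorem D90061 : act 1 n42089 = n90061 := rfl
theorem F138392 : act 3 n42681 = n90061 := d20_3 (iv4 F14759) D20142 D42681 (iv1 D90061) (iv3 D42089) D42090 F67378 (iv4 D43018) (iv3 D20308) (iv1 D9605)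
theorem F138394 : act 4 n90061 = n89972 := d20_6 D43018 (iv1 F135720) (iv4 D42095) D42094 F135721 F138392 (iv1 D89972) (iv4 D42048) D42047 F133951
theorem F138395 : act 3 n47703 = n89972 := d5_5 (iv4 F138394) (iv3 F138392) (iv4 D42681) D42680 F74984
theorem F138396 : act 7 n88618 = n47703 := d8_0 F138395 F138199 F137590
theorem F138397 : act 2 n47703 = n88617 := d15_3 (iv0 D88617) D88618 F138396
theorem F138398 : act 2 n88618 = n47702 := d15_3 (iv0 D47702) D47703 (iv7 F138396)
theorem F138399 : act 7 n47702 = n88617 := d4_2 (iv7 F138396) F138398 (iv2 F138397)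
def n90063 : Q := act 1 n42090
theorem D90063 : act 1 n42090 = n90063 := rfl
theorem F138403 : act 7 n90063 = n88561 := d15_2 (iv0 F67378) D90063 (iv2 F135622)
theorem F138404 : act 4 n89969 = n90063 := d20_0 (iv1 D90063) (iv4 D42090) D42089 F135702 (iv3 D40489) D40490 (iv1 F133733) (iv4 F135672) (iv3 F67377) F138188
theorem F138406 : act 3 n90063 = n88409 := d5_1 F138404 (iv4 F135402) (iv3 D87112) (iv4 F135648) F138186
theorem F138407 : act 7 n88409 = n89989 := d8_2 (iv7 F138403) F138406 (iv3 F138231)
theorem F138408 : act 2 n89989 = n88408 := d15_3 (iv0 D88408) D88409 F138407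
theorem F138409 : act 2 n88409 = n89988 := d15_3 (iv0 D89988) D89989 (iv7 F138407)
theorem F138410 : act 7 n89988 = n88408 := d4_2 (iv7 F138407) F138409 (iv2 F138408)
def n90064 : Q := act 3 n42090
theorem D90064 : act 3 n42090 = n90064 := rfl
theorem F138411 : act 4 n90064 = n47745 := d5_2 D42090 D90064 (iv3 D47745) (iv4 F65006) (iv3 D42089)
theorem F138412 : act 7 n90064 = n88562 := d8_2 (iv7 F135706) D90064 (iv3 D88562)
theorem F138413 : act 0 n90064 = n88702 := d20_10 (iv4 D88702) (iv1 D41412) (iv4 F63786) (iv3 D41367) F31176 D19843 F31655 D19845 D42090 D90064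
theorem F138414 : act 0 n88697 = n90064 := d20_1 D88697 F138411 (iv3 D47745) (iv1 D22973) (iv3 D10845) (iv4 D4945) F6956 D9180 D19505 D41411
def n90071 : Q := act 4 n42094
theorem D90071 : act 4 n42094 = n90071 := rfl
theorem F138426 : act 2 n90071 = n43000 := d1_1 D90071 (iv4 F133936) (iv2 F135713)
theorem F138427 : act 7 n90071 = n42999 := d11_2 (iv7 F135714) D90071 F67365
theorem F138428 : act 0 n90071 = n42989 := d18_2 (iv1 F135722) D90071 (iv4 D42989) (iv5 F135635) D20309 F67370 F67365 F135671 (iv5 F133749)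
theorem F138429 : act 1 n90071 = n43004 := d18_6 D9826 D20736 D43792 F68830 F137578 D90071 F135640 (iv0 F133753) F14970
def n90073 : Q := act 3 n42095
theorem D90073 : act 3 n42095 = n90073 := rfl
theorem F138431 : act 7 n90073 = n88580 := d8_2 (iv7 F135716) D90073 (iv3 D88580)
theorem F138432 : act 0 n86873 = n90073 := d20_4 (iv4 F61603) (iv1 F61606) F61360 D86873 (iv3 D90073) (iv4 D42095) (iv1 D19846) (iv4 F31655) (iv3 D19843) D19842
def n90074 : Q := act 5 n42095
theorem D90074 : act 5 n42095 = n90074 := rfl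
theorem F138433 : act 2 n90074 = n88563 := d2_1 D90074 (iv5 D88563) (iv2 F135715)
theorem F138434 : act 7 n90074 = n88581 := d13_2 (iv7 F135716) D90074 (iv5 D88581)
def n90080 : Q := act 7 n42100
theorem D90080 : act 7 n42100 = n90080 := rfl
theorem F138446 : act 5 n90080 = n42101 := d13_1 D90080 (iv7 D42101) D42100
def n90081 : Q := act 0 n42102
theorem D90081 : act 0 n42102 = n90081 := rfl
theorem F138450 : act 5 n90081 = n87732 := d17_3 D19853 D42102 D90081 F134681 (iv5 F137902) (iv0 D89839) (iv5 D41970) F35802 F16010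
theorem F138451 : act 4 n90081 = n89876 := d18_1 D90081 (iv1 F137971) (iv4 D44699) (iv5 D21290) D21289 F63262 (iv4 F61800) F61805 D42102
def n90082 : Q := act 4 n42102
theorem D90082 : act 4 n42102 = n90082 := rfl
theorem F138456 : act 6 n90082 = n47877 := d10_2 (iv6 F66369) D90082 F75159
theorem F138457 : act 7 n90082 = n89722 := d11_2 (iv7 F65020) D90082 (iv4 D89722)
theorem F138458 : act 0 n90082 = n47905 := d18_2 F134879 D90082 (iv4 D47905) (iv5 D23065) (iv4 F36118) F75068 F70053 (iv0 F69068) (iv5 F134878)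
theorem F138459 : act 1 n90082 = n89941 := d18_6 (iv1 F63246) (iv4 F16430) D21617 F63428 D42102 D90082 (iv4 D89941) (iv0 D42027) (iv5 D19818)
def n90083 : Q := act 4 n42103
theorem D90083 : act 4 n42103 = n90083 := rfl
theorem F138460 : act 2 n90083 = n89722 := d1_1 D90083 (iv4 D89722) (iv2 F65021)
theorem F138461 : act 1 n90083 = n47905 := d18_6 (iv1 F16436) (iv4 F33503) (iv1 F34028) F63473 D42103 D90083 (iv4 D47905) (iv0 F36121) (iv5 D21624)
theorem F138463 : act 6 n87090 = n90083 := d3_0 F138460 F137717 F133821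
def n90084 : Q := act 6 n42103
theorem D90084 : act 6 n42103 = n90084 := rfl
theorem F138465 : act 3 n90084 = n42624 := d7_1 D90084 F133989 F133987
theorem F138466 : act 4 n90084 = n87090 := d10_1 D90084 F138463 (iv4 D90083)
theorem F138467 : act 0 n43568 = n90084 := d21_4 F31076 (iv1 F31667) (iv5 F32692) D43568 (iv6 D90084) (iv5 D42103) (iv1 D19854) D19855 F31687 F31078
theorem E14579 : n88764 = n43192 := ((c20_7 F138466 (iv1 F133823) F133814 (iv3 F66467) (iv1 F75273) (iv3 D43191) D43192 (iv1 D88764) (iv4 F66445) (iv3 F68470) F138467)).symm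
theorem F138468 : act 0 n43192 = n41443 := (sb E14579 (iv1 D88764))
theorem E14580 : n88763 = n43189 := ((c15_4 (iv0 D88763) (iv0 F138468) (iv7 F137401) F137399)).symm
theorem F138469 : act 1 n43189 = n41443 := (sb E14580 (iv0 D88763))
theorem F138470 : act 7 n43572 = n90084 := d11_0 F138466 F133822 F133824
theorem F138471 : act 1 n43573 = n90084 := d15_1 F74006 (iv7 F138470) F133582
theorem F138472 : act 4 n43184 = n42624 := d20_2 (iv4 F32335) D43184 (iv3 F138465) (iv1 F138471) F68481 (iv4 F68504) (iv1 F68507) F68508 (iv3 D43191) (iv1 D20370)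
def n90085 : Q := act 5 n42105
theorem D90085 : act 5 n42105 = n90085 := rfl
theorem F138474 : act 7 n90085 = n42264 := d13_2 F71506 D90085 (iv5 F66623)
theorem F138475 : act 1 n90085 = n42235 := d17_8 F66681 (iv5 F70337) (iv1 F71627) F71625 (iv4 F61800) (iv5 F134265) F134268 D90085 F65226
theorem F138476 : act 0 n90085 = n88353 := d18_0 F135317 (iv1 F76117) F70061 F33506 D44700 F133706 (iv4 F134264) F134268 D90085
def n90087 : Q := act 6 n42106
theorem D90087 : act 6 n42106 = n90087 := rfl
def n90088 : Q := act 3 n42107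
theorem D90088 : act 3 n42107 = n90088 := rfl
theorem F138483 : act 6 n90088 = n42109 := d7_2 (iv6 F65024) D90088 (iv3 D42109)
def n90090 : Q := act 0 n42109
theorem D90090 : act 0 n42109 = n90090 := rfl
theorem F138486 : act 1 n87106 = n90090 := d15_0 (iv0 D90090) F65028 D87106
def n90091 : Q := act 1 n42109
theorem D90091 : act 1 n42109 = n90091 := rfl
def n90092 : Q := act 2 n42109
theorem D90092 : act 2 n42109 = n90092 := rfl
theorem F138487 : act 3 n90092 = n87097 := d0_2 D42109 D90092 (iv2 D87097) (iv3 D40469) (iv2 F31692)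
theorem F138488 : act 4 n90092 = n42172 := d1_2 (iv4 F65027) D90092 (iv2 D42172)
theorem F138489 : act 7 n90092 = n87106 := d4_2 (iv7 F65028) D90092 (iv2 D87106)
theorem F138490 : act 1 n90092 = n87104 := d15_0 (iv0 D87104) (iv7 F65028) D90092
theorem F138491 : act 1 n90091 = n87106 := d15_1 D90091 (iv7 F138489) (iv2 D90092)
theorem F138492 : act 1 n87105 = n90092 := d15_1 D87105 F138489 (iv2 D87106)
def n90093 : Q := act 5 n42109
theorem D90093 : act 5 n42109 = n90093 := rfl
theorem F138493 : act 3 n90093 = n42110 := d6_1 D90093 (iv5 D42110) D42109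
theorem F138494 : act 7 n90093 = n87107 := d13_2 (iv7 F65028) D90093 (iv5 D87107)
def n90094 : Q := act 6 n42110
theorem D90094 : act 6 n42110 = n90094 := rfl
theorem F138495 : act 2 n90094 = n87101 := d3_1 D90094 (iv6 D87101) (iv2 F65029)
theorem F138496 : act 4 n90094 = n81515 := d10_1 D90094 (iv6 D81515) (iv4 F65031)
def n90095 : Q := act 4 n42111
theorem D90095 : act 4 n42111 = n90095 := rfl
theorem F138498 : act 1 n90095 = n43546 := d18_6 (iv1 D9705) (iv4 F15142) D20429 F63708 D42111 D90095 F68441 (iv0 F32935) (iv5 D20440)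
def n90096 : Q := act 5 n42112
theorem D90096 : act 5 n42112 = n90096 := rfl
theorem F138499 : act 3 n90096 = n47889 := d6_1 D90096 F75195 F70238
theorem F138501 : act 4 n90096 = n42534 := d17_4 F63702 D19862 D42112 D90096 (iv5 F67889) (iv0 D43283) (iv5 D20431) D20430 F35855
theorem F138502 : act 1 n90096 = n46656 := d17_8 (iv1 F135501) F135499 (iv1 F69371) F68981 F32950 (iv5 F67845) F67848 D90096 F73732
theorem F138503 : act 0 n90096 = n44818 := d18_0 F70398 F70395 F36551 (iv5 F31522) D41946 D89786 (iv4 F137802) F67848 D90096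
theorem F138504 : act 6 n90096 = n48079 := d21_3 D19862 D42112 D90096 (iv1 D48079) (iv6 D23203) D23202 D48075 F75525 (iv6 D41851) F63702
def n90097 : Q := act 6 n42112
theorem D90097 : act 6 n42112 = n90097 := rfl
theorem F138505 : act 5 n90097 = n44202 := d12_1 D90097 F73091 (iv5 F75547) (iv6 F138504) (iv5 D90096)
def n90098 : Q := act 1 n42115
theorem D90098 : act 1 n42115 = n90098 := rfl
theorem F138507 : act 1 n90098 = n46848 := d15_1 D90098 F74037 (iv2 F65035)
theorem F138508 : act 7 n90098 = n47682 := d15_2 (iv0 F76382) D90098 (iv2 F76379)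
theorem F138510 : act 6 n47630 = n90098 := d21_3 (iv5 F136292) F137201 F137198 (iv1 D90098) (iv6 D42115) (iv5 D19864) (iv1 F14567) D9766 D20609 D43565
theorem F138511 : act 5 n46844 = n90098 := d21_6 (iv5 D9766) F14335 D9185 (iv6 F17227) D22500 D46844 (iv1 D90098) (iv5 F65037) (iv6 D42116) (iv1 F31708)
theorem F138512 : act 2 n90098 = n47683 := d2_1 F138511 (iv5 F75590) F75588
def n90099 : Q := act 7 n42115
theorem D90099 : act 7 n42115 = n90099 := rfl
theorem F138518 : act 2 n90099 = n46848 := d4_1 D90099 F74037 (iv2 F65035)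
theorem F138519 : act 6 n90099 = n46820 := d14_1 D90099 (iv7 D46820) F35025 (iv7 F31703) D42115
theorem F138520 : act 1 n47683 = n90099 := d15_1 D47683 (iv7 D90099) F65035
def n90100 : Q := act 0 n42116
theorem D90100 : act 0 n42116 = n90100 := rfl
def n90101 : Q := act 1 n42116
theorem D90101 : act 1 n42116 = n90101 := rfl
theorem F138522 : act 1 n90101 = n47701 := d15_1 D90101 (iv7 D47701) (iv2 F65036)
def n90102 : Q := act 7 n42116
theorem D90102 : act 7 n42116 = n90102 := rfl
theorem F138524 : act 5 n90102 = n90099 := d13_1 D90102 (iv7 D90099) (iv5 F65037)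
theorem F138526 : act 1 n47700 = n90102 := d15_1 D47700 (iv7 D90102) F65036
theorem F138527 : act 4 n42709 = n47700 := d18_7 (iv1 F138520) F75592 (iv1 D43645) F32761 F15254 (iv4 F31990) D42709 F138526 F138524
theorem F138528 : act 3 n45035 = n47700 := d20_5 D20328 (iv1 F36423) F36213 (iv3 F36131) (iv1 F70872) (iv4 F138527) (iv1 D42709) F31990 F14761 D9611
def n90103 : Q := act 5 n42117
theorem D90103 : act 5 n42117 = n90103 := rfl
theorem F138530 : act 3 n90103 = n42119 := d6_1 D90103 (iv5 D42119) (iv3 F65038)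
theorem F138531 : act 6 n90103 = n74850 := d12_2 D42117 D90103 F112344 F78714 F50402
def n90104 : Q := act 5 n42118
theorem D90104 : act 5 n42118 = n90104 := rfl
theorem F138532 : act 2 n90104 = n46140 := d2_1 D90104 (iv5 D46140) (iv2 F65040)
theorem F138533 : act 3 n90104 = n74850 := d6_1 D90104 F112344 F78713
theorem F138534 : act 6 n90104 = n42119 := d12_2 D42118 D90104 (iv5 D42119) (iv6 D19868) D19867
theorem F138535 : act 7 n90104 = n52166 := d13_2 F65041 D90104 (iv5 D52166)
theorem F138536 : act 0 n90104 = n61277 := d17_2 (iv1 F65043) D90104 (iv5 D61277) (iv4 F46649) D61284 (iv0 F95763) (iv5 D43843) F65519 F52212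
theorem F138537 : act 1 n62610 = n52166 := d15_1 (iv0 F97636) (iv7 F138535) F138532
def n90105 : Q := act 0 n42119
theorem D90105 : act 0 n42119 = n90105 := rfl
theorem F138538 : act 5 n90105 = n43500 := d17_3 (iv1 F62851) D42119 D90105 F68359 F35891 (iv0 D9963) (iv5 D4544) D4543 D9960
theorem F138540 : act 7 n43499 = n90105 := d13_0 F138538 (iv7 D43500) D43499
theorem F138542 : act 4 n44101 = n90105 := d18_3 (iv1 D20948) D20949 D44101 F138538 F68359 F66530 (iv4 F36592) (iv0 F67993) F67992
def n90106 : Q := act 1 n42119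
theorem D90106 : act 1 n42119 = n90106 := rfl
theorem F138543 : act 1 n90106 = n44116 := d15_1 D90106 F69459 (iv2 F65046)
theorem F138545 : act 5 n43331 = n90106 := d21_6 D9354 (iv1 F17224) (iv5 D10680) D10681 (iv1 F63001) D43331 (iv1 D90106) (iv5 D42119) (iv6 D19868) (iv1 D9352)
theorem F138546 : act 2 n90106 = n43499 := d2_1 F138545 (iv5 D43499) (iv2 F68019)
theorem F138547 : act 4 n44102 = n90106 := d18_7 (iv1 F33149) (iv4 D9960) (iv1 D4543) (iv4 F6604) D9951 D20949 D44102 F138543 (iv5 D44116)
def n90107 : Q := act 4 n42119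
theorem D90107 : act 4 n42119 = n90107 := rfl
theorem F138548 : act 2 n90107 = n46142 := d1_1 D90107 (iv4 D46142) (iv2 F65046)
def n90108 : Q := act 7 n42119
theorem D90108 : act 7 n42119 = n90108 := rfl
theorem F138550 : act 5 n90108 = n42120 := d13_1 D90108 (iv7 D42120) D42119
theorem F138551 : act 1 n43499 = n90108 := d15_1 (iv0 F68358) (iv7 D90108) F65046
def n90109 : Q := act 0 n42121
theorem D90109 : act 0 n42121 = n90109 := rfl
def n90110 : Q := act 1 n42121
theorem D90110 : act 1 n42121 = n90110 := rfl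
def n90111 : Q := act 5 n42121
theorem D90111 : act 5 n42121 = n90111 := rfl
theorem F138553 : act 3 n90111 = n52162 := d6_1 D90111 F82471 F67724
theorem F138554 : act 6 n90111 = n49215 := d12_2 D42121 D90111 F77727 F40318 F40315
def n90112 : Q := act 7 n42121
theorem D90112 : act 7 n42121 = n90112 := rfl
def n90113 : Q := act 6 n42122
theorem D90113 : act 6 n42122 = n90113 := rfl
theorem F138555 : act 3 n90113 = n42123 := d7_1 D90113 (iv6 D42123) D42122
def n90115 : Q := act 1 n42123
theorem D90115 : act 1 n42123 = n90115 := rfl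
def n90116 : Q := act 7 n42123
theorem D90116 : act 7 n42123 = n90116 := rfl
def n90117 : Q := act 2 n42124
theorem D90117 : act 2 n42124 = n90117 := rfl
theorem F138556 : act 7 n42125 = n90117 := d15_2 (iv0 D42124) D42125 (iv2 D90117)
def n90118 : Q := act 5 n42124
theorem D90118 : act 5 n42124 = n90118 := rfl
def n90119 : Q := act 6 n42124
theorem D90119 : act 6 n42124 = n90119 := rfl
theorem F138557 : act 5 n90119 = n59841 := d21_6 (iv5 D16955) (iv1 F20118) (iv5 F26933) D19871 D42124 D90119 (iv1 D59841) (iv5 F68107) (iv6 D43360) (iv1 F32557)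
def n90120 : Q := act 7 n42124
theorem D90120 : act 7 n42124 = n90120 := rfl
theorem F138558 : act 2 n90120 = n42125 := d4_1 D90120 F138556 (iv2 D90117)
def n90121 : Q := act 3 n42125
theorem D90121 : act 3 n42125 = n90121 := rfl
def n90122 : Q := act 6 n42125
theorem D90122 : act 6 n42125 = n90122 := rfl
def n90123 : Q := act 1 n42127
theorem D90123 : act 1 n42127 = n90123 := rfl
theorem F138559 : act 7 n90123 = n43427 := d15_2 (iv0 F97641) D90123 (iv2 F97637)
theorem F138560 : act 2 n43432 = n90123 := d4_3 F138559 (iv2 F97637) F97640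
theorem F138561 : act 4 n42404 = n90123 := d11_3 F138559 (iv4 D43427) (iv7 F83006)
theorem F138562 : act 6 n76521 = n90123 := d14_5 F138559 F97633 F97630 F87478 (iv7 F114694)
def n90124 : Q := act 5 n42127
theorem D90124 : act 5 n42127 = n90124 := rfl
theorem F138563 : act 3 n90124 = n71846 := d6_1 D90124 F108302 (iv3 F82822)
theorem F138564 : act 6 n90124 = n42275 := d12_2 D42127 D90124 (iv5 D42275) (iv6 D19952) (iv5 F31718)
theorem F138565 : act 0 n90124 = n53102 := d17_2 (iv1 D90123) D90124 (iv5 D53102) F40684 D53085 (iv0 F83787) (iv5 D42405) D42404 F138561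
theorem F138566 : act 7 n71946 = n90124 := d8_0 F138563 F108301 D71946
def n90125 : Q := act 7 n42127
theorem D90125 : act 7 n42127 = n90125 := rfl
theorem F138567 : act 3 n90125 = n71948 := d8_1 D90125 F108450 (iv3 F82822)
theorem F138568 : act 5 n90125 = n71946 := d13_1 D90125 F138566 (iv5 D90124)
theorem F138569 : act 1 n43432 = n90125 := d15_1 (iv0 F94178) (iv7 D90125) (iv2 F67738)
theorem F138570 : act 1 n90125 = n43427 := d15_1 F138569 (iv7 F138559) (iv2 F138560)
def n90126 : Q := act 0 n42128
theorem D90126 : act 0 n42128 = n90126 := rfl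
def n90127 : Q := act 1 n42128
theorem D90127 : act 1 n42128 = n90127 := rfl
def n90128 : Q := act 2 n42128
theorem D90128 : act 2 n42128 = n90128 := rfl
theorem F138571 : act 3 n90128 = n42179 := d0_2 D42128 D90128 (iv2 F67869) (iv3 D43277) (iv2 F63548)
theorem F138572 : act 4 n90128 = n46263 := d1_2 F135770 D90128 (iv2 F136451)
def n90129 : Q := act 5 n42128
theorem D90129 : act 5 n42128 = n90129 := rfl
theorem F138573 : act 3 n90129 = n42129 := d6_1 D90129 (iv5 D42129) D42128
def n90130 : Q := act 1 n42129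
theorem D90130 : act 1 n42129 = n90130 := rfl
theorem F138574 : act 1 n90130 = n42131 := d15_1 D90130 (iv7 F67871) F67870
theorem F138575 : act 5 n90130 = n43952 := d17_7 F138503 (iv5 F74029) F74031 (iv5 D43265) F63475 D42129 D90130 F69098 (iv4 F138501)
def n90131 : Q := act 4 n42129
theorem D90131 : act 4 n42129 = n90131 := rfl
def n90132 : Q := act 6 n42129
theorem D90132 : act 6 n42129 = n90132 := rfl
def n90133 : Q := act 1 n42130
theorem D90133 : act 1 n42130 = n90133 := rfl
theorem F138576 : act 7 n90133 = n42178 := d15_2 (iv0 F65052) D90133 F65109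
theorem F138577 : act 4 n89500 = n90133 := d20_6 F31394 D19718 D41889 (iv3 F136472) (iv1 F136474) (iv3 F137205) (iv1 D90133) (iv4 F136920) (iv3 D89206) (iv1 D41683)
theorem F138578 : act 2 n90133 = n42181 := d1_1 F138577 F65113 D89500
theorem F138579 : act 0 n42179 = n90133 := d20_10 (iv4 F138577) (iv1 F137209) (iv4 F114616) (iv3 D76476) (iv1 D34933) (iv3 F55272) (iv4 F55274) D46263 (iv4 F138572) F138571
def n90134 : Q := act 2 n42130
theorem D90134 : act 2 n42130 = n90134 := rfl
theorem F138580 : act 7 n90134 = n42179 := d4_2 F67867 D90134 (iv2 F67869)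
theorem F138581 : act 1 n90134 = n42181 := d15_0 (iv0 F67868) F67867 D90134
theorem F138582 : act 1 n42178 = n90134 := d15_0 F138581 (iv7 D42181) (iv2 F65109)
def n90135 : Q := act 5 n42130
theorem D90135 : act 5 n42130 = n90135 := rfl
theorem F138583 : act 3 n90135 = n42131 := d6_1 D90135 (iv5 D42131) D42130
theorem F138584 : act 6 n54855 = n90135 := d21_5 (iv5 D26497) F21068 D12676 D26538 D54855 (iv5 D90135) F65052 D42180 F65111 F42845
def n90136 : Q := act 6 n42130
theorem D90136 : act 6 n42130 = n90136 := rfl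
theorem F138585 : act 3 n90136 = n42132 := d7_1 D90136 (iv6 D42132) D42130
def n90137 : Q := act 4 n42131
theorem D90137 : act 4 n42131 = n90137 := rfl
def n90138 : Q := act 6 n42131
theorem D90138 : act 6 n42131 = n90138 := rfl
theorem F138586 : act 2 n90138 = n52741 := d3_1 D90138 F83340 F67876
theorem F138587 : act 3 n90138 = n54855 := d7_1 D90138 F138584 F138583
theorem F138588 : act 0 n52731 = n90138 := d21_4 F76675 (iv1 F37020) D25599 D52731 (iv6 D90138) (iv5 D42131) (iv1 D19874) D19875 (iv6 F37013) D48712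
theorem F138589 : act 7 n52742 = n90138 := d15_2 (iv0 D52741) D52742 F138586
def n90139 : Q := act 5 n42132
theorem D90139 : act 5 n42132 = n90139 := rfl
theorem F138590 : act 2 n90139 = n43494 := d2_1 D90139 F68353 F67879
theorem F138591 : act 7 n90139 = n43495 := d13_2 F69078 D90139 (iv5 F69487)
theorem F138592 : act 0 n90139 = n43335 := d17_2 F137196 D90139 (iv5 D43335) (iv4 D20463) (iv5 F31902) F35935 F32776 (iv0 F35942) D43547
theorem F138593 : act 1 n90139 = n43330 := d17_6 D10682 D22493 D46836 F73981 F67840 D90139 (iv5 D43330) F63001 F17225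
def n90140 : Q := act 3 n42133
theorem D90140 : act 3 n42133 = n90140 := rfl
def n90141 : Q := act 4 n42133
theorem D90141 : act 4 n42133 = n90141 := rfl
def n90142 : Q := act 5 n42133
theorem D90142 : act 5 n42133 = n90142 := rfl
theorem F138595 : act 7 n90142 = n42292 := d13_2 (iv7 F68166) D90142 F67883
theorem F138596 : act 1 n90142 = n42238 := d17_8 (iv1 F66519) (iv5 F66544) (iv1 F32488) F32483 (iv4 F32471) (iv5 F67886) F67890 D90142 F65232
theorem F138597 : act 1 n42537 = n90142 := d15_0 F138596 (iv7 F69096) F69094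
def n90143 : Q := act 6 n42133
theorem D90143 : act 6 n42133 = n90143 := rfl
def n90144 : Q := act 3 n42134
theorem D90144 : act 3 n42134 = n90144 := rfl
def n90145 : Q := act 4 n42134
theorem D90145 : act 4 n42134 = n90145 := rfl
theorem F138598 : act 0 n90145 = n43877 := d18_2 (iv1 F67888) D90145 (iv4 D43877) (iv5 D20784) F15528 D20421 (iv4 F63550) F32474 (iv5 F67886)
def n90146 : Q := act 6 n42134
theorem D90146 : act 6 n42134 = n90146 := rfl
def n90147 : Q := act 0 n42135
theorem D90147 : act 0 n42135 = n90147 := rfl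
theorem F138599 : act 4 n90147 = n44054 := d18_3 (iv1 D42134) D42135 D90147 (iv5 F135499) F135498 F66519 (iv4 F65232) F68164 F68161
def n90148 : Q := act 1 n42135
theorem D90148 : act 1 n42135 = n90148 := rfl
theorem F138600 : act 4 n90148 = n44055 := d18_7 (iv1 F63359) (iv4 D19745) (iv1 F35783) (iv4 F14577) D19875 D42135 D90148 F69364 F68981
def n90149 : Q := act 5 n42135
theorem D90149 : act 5 n42135 = n90149 := rfl
def n90150 : Q := act 7 n42135
theorem D90150 : act 7 n42135 = n90150 := rfl
theorem F138601 : act 4 n90150 = n42136 := d11_1 D90150 (iv7 D42136) D42135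
def n90151 : Q := act 0 n42137
theorem D90151 : act 0 n42137 = n90151 := rfl
theorem F138602 : act 1 n42190 = n90151 := d15_0 (iv0 D90151) (iv7 F67893) F67891
def n90152 : Q := act 1 n42137
theorem D90152 : act 1 n42137 = n90152 := rfl
theorem F138603 : act 1 n90152 = n42190 := d15_1 D90152 (iv7 F67785) F67783
def n90153 : Q := act 5 n42137
theorem D90153 : act 5 n42137 = n90153 := rfl
theorem F138604 : act 3 n90153 = n42138 := d6_1 D90153 (iv5 D42138) D42137
def n90154 : Q := act 6 n42137
theorem D90154 : act 6 n42137 = n90154 := rfl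
theorem F138605 : act 3 n90154 = n42139 := d7_1 D90154 (iv6 D42139) D42137
theorem F138606 : act 4 n90154 = n90154 := d10_1 D90154 (iv6 D90154) F65054
def n90155 : Q := act 4 n42138
theorem D90155 : act 4 n42138 = n90155 := rfl
theorem F138607 : act 2 n90155 = n89758 := d1_1 D90155 (iv4 D89758) (iv2 F65055)
def n90156 : Q := act 6 n42138
theorem D90156 : act 6 n42138 = n90156 := rfl
theorem F138608 : act 2 n90156 = n89759 := d3_1 D90156 (iv6 D89759) (iv2 F65055)
def n90157 : Q := act 3 n42140
theorem D90157 : act 3 n42140 = n90157 := rfl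
theorem F138609 : act 4 n90157 = n90157 := d5_2 D42140 D90157 (iv3 D90157) (iv4 D42140) F35695
def n90158 : Q := act 5 n42140
theorem D90158 : act 5 n42140 = n90158 := rfl
theorem F138610 : act 2 n90158 = n89763 := d2_1 D90158 (iv5 D89763) (iv2 F65059)
theorem F138611 : act 1 n90158 = n42668 := d17_6 (iv1 F66524) (iv5 D9358) D9356 D19880 D42140 D90158 (iv5 D42668) (iv0 F66526) (iv4 D41946)
def n90161 : Q := act 6 n42143
theorem D90161 : act 6 n42143 = n90161 := rfl
def n90165 : Q := act 3 n42151
theorem D90165 : act 3 n42151 = n90165 := rfl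
def n90166 : Q := act 5 n42151
theorem D90166 : act 5 n42151 = n90166 := rfl
def n90167 : Q := act 6 n42151
theorem D90167 : act 6 n42151 = n90167 := rfl
def n90170 : Q := act 2 n42152
theorem D90170 : act 2 n42152 = n90170 := rfl
theorem F138616 : act 6 n90170 = n42172 := d3_2 (iv6 F65067) D90170 (iv2 D42172)
def n90171 : Q := act 5 n42152
theorem D90171 : act 5 n42152 = n90171 := rfl
theorem F138617 : act 3 n90171 = n42153 := d6_1 D90171 (iv5 D42153) D42152
def n90172 : Q := act 7 n42152
theorem D90172 : act 7 n42152 = n90172 := rfl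
theorem F138618 : act 3 n90172 = n42154 := d8_1 D90172 (iv7 D42154) D42152
def n90173 : Q := act 0 n42153
theorem D90173 : act 0 n42153 = n90173 := rfl
def n90174 : Q := act 1 n42153
theorem D90174 : act 1 n42153 = n90174 := rfl
def n90175 : Q := act 4 n42153
theorem D90175 : act 4 n42153 = n90175 := rfl
def n90176 : Q := act 6 n42153
theorem D90176 : act 6 n42153 = n90176 := rfl
theorem F138619 : act 5 n90176 = n42176 := d12_1 D90176 (iv6 D42176) (iv5 D19898) (iv6 F31723) D42153
def n90177 : Q := act 7 n42153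
theorem D90177 : act 7 n42153 = n90177 := rfl
theorem F138620 : act 5 n90177 = n42154 := d13_1 D90177 (iv7 D42154) D42153
def n90180 : Q := act 2 n42155
theorem D90180 : act 2 n42155 = n90180 := rfl
theorem F138622 : act 3 n90180 = n43040 := d0_2 D42155 D90180 F67385 F32240 (iv2 F31725)
theorem F138623 : act 4 n90180 = n90180 := d1_2 F65069 D90180 (iv2 D90180)
theorem F138624 : act 7 n90180 = n43347 := d4_2 (iv7 F65070) D90180 (iv2 D43347)
theorem F138625 : act 1 n90180 = n43345 := d15_0 (iv0 D43345) (iv7 F65070) D90180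
theorem F138627 : act 1 n43346 = n90180 := d15_1 D43346 F138624 (iv2 D43347)
def n90182 : Q := act 0 n42156
theorem D90182 : act 0 n42156 = n90182 := rfl
def n90183 : Q := act 1 n42156
theorem D90183 : act 1 n42156 = n90183 := rfl
theorem F138630 : act 1 n90183 = n43564 := d15_1 D90183 F68453 (iv2 F65071)
theorem F138631 : act 4 n90098 = n90183 := d20_0 (iv1 D90183) F65072 F31730 F31899 (iv3 F66004) (iv4 F137450) (iv1 F137460) F74184 (iv3 F74036) (iv1 F138507)
theorem F138632 : act 2 n90183 = n43645 := d1_1 F138631 (iv4 F75592) (iv2 F138512)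
theorem F138633 : act 6 n90183 = n48317 := d10_2 F138510 F138631 F75948
theorem F138634 : act 7 n90183 = n43644 := d11_2 (iv7 F138508) F138631 F137467
theorem F138635 : act 0 n48303 = n43550 := d18_2 F66674 (iv4 F75920) (iv4 F74026) F138511 F138631 F138630 F68452 (iv0 F32687) D42541
theorem F138636 : act 2 n43644 = n90182 := d15_3 (iv0 D90182) D90183 F138634
theorem F138637 : act 7 n43645 = n90182 := d4_2 (iv7 F138634) F138632 (iv2 F138636)
theorem F138638 : act 4 n90182 = n48530 := d11_1 F138637 F76381 F75592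
theorem F138639 : act 1 n43564 = n90182 := d15_1 F138630 (iv7 F138637) (iv2 F138632)
def n90184 : Q := act 5 n42156
theorem D90184 : act 5 n42156 = n90184 := rfl
theorem F138640 : act 2 n90184 = n43646 := d2_1 D90184 (iv5 D43646) (iv2 F65071)
def n90185 : Q := act 7 n42156
theorem D90185 : act 7 n42156 = n90185 := rfl
theorem F138642 : act 4 n90185 = n42158 := d11_1 D90185 (iv7 D42158) (iv4 F65072)
theorem F138643 : act 6 n90185 = n43344 := d14_1 D90185 (iv7 D43344) F32520 (iv7 F31726) D42156
theorem F138644 : act 1 n43645 = n90185 := d15_1 D43645 (iv7 D90185) F65071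
theorem F138645 : act 1 n90185 = n43644 := d15_1 F138644 (iv7 F138634) F138632
def n90187 : Q := act 0 n42159
theorem D90187 : act 0 n42159 = n90187 := rfl
theorem F138651 : act 1 n42257 = n90187 := d15_0 (iv0 D90187) F65083 D42257
def n90188 : Q := act 1 n42159
theorem D90188 : act 1 n42159 = n90188 := rfl
def n90189 : Q := act 2 n42159
theorem D90189 : act 2 n42159 = n90189 := rfl
theorem F138652 : act 3 n90189 = n42678 := d0_2 D42159 D90189 (iv2 F66899) F31977 (iv2 F31731)
theorem F138653 : act 4 n90189 = n90189 := d1_2 F65082 D90189 (iv2 D90189)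
theorem F138654 : act 7 n90189 = n42257 := d4_2 (iv7 F65083) D90189 (iv2 D42257)
theorem F138655 : act 1 n90189 = n42255 := d15_0 (iv0 D42255) (iv7 F65083) D90189
theorem F138656 : act 1 n90188 = n42257 := d15_1 D90188 (iv7 F138654) (iv2 D90189)
theorem F138657 : act 1 n42256 = n90189 := d15_1 D42256 F138654 (iv2 D42257)
def n90190 : Q := act 6 n42159
theorem D90190 : act 6 n42159 = n90190 := rfl
def n90191 : Q := act 0 n42160
theorem D90191 : act 0 n42160 = n90191 := rfl
def n90192 : Q := act 1 n42160
theorem D90192 : act 1 n42160 = n90192 := rfl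
theorem F138660 : act 1 n90192 = n42586 := d15_1 D90192 F66421 (iv2 F65084)
theorem F138661 : act 4 n90192 = n90101 := d18_7 (iv1 F138507) F138631 (iv1 D90183) F65072 (iv5 F31737) (iv4 F65085) D90192 F138522 F74982
theorem F138662 : act 3 n42161 = n90012 := d20_5 (iv4 F138661) (iv1 D90192) F65085 F31736 D42161 F138301 (iv1 F136058) F74989 (iv3 F74981) (iv1 F138522)
theorem E14582 : n48584 = n19508 := (c20_11 (iv4 F63868) D88722 (iv4 F138301) (iv3 F138662) (iv1 F65091) F31908 (iv4 F32109) (iv1 F32257) F32258 D23697 D48584)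
theorem E14583 : n48579 = n41421 := (((D41421).symm.trans (sb E14582 (iv1 F76440)))).symm
theorem E14584 : n41422 = n23697 := ((D41422).symm.trans (sb E14582 (iv0 D48584)))
theorem E14585 : n48585 = n22965 := ((((iv1 F63869)).symm.trans (sb E14583 (iv1 F76444)))).symm
theorem E14587 : n88726 = n41421 := ((D88726).symm.trans (sb E14583 (tr F76429 E14583)))
theorem E14591 : n48582 = n47716 := (((iv5 F76433)).symm.trans (sb E14584 (iv5 F74995)))
theorem E14592 : n88732 = n48493 := ((((iv6 F76317)).symm.trans (sb E14584 D88732))).symm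
theorem F138664 : act 0 n22965 = n23697 := (sb E14585 (iv1 D48585))
theorem F138666 : act 3 n41421 = n41421 := (sb E14587 (iv3 D88726))
theorem E14593 : n89664 = n88727 := (((D88727).symm.trans (sb E14587 F138300))).symm
theorem E14594 : n23693 = n22963 := ((((iv6 D47716)).symm.trans (sb E14591 (iv6 D48582)))).symm
theorem F138672 : act 1 n48493 = n43193 := (sb E14592 (iv0 F136065))
theorem E14595 : n48494 = n47651 := (((iv5 F76318)).symm.trans (sb E14592 F136064))
theorem F138674 : act 1 n88727 = n41879 := (sb E14593 (iv0 D89664))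
theorem E14599 : n47713 = n11094 := ((D47713).symm.trans (sb E14594 (iv3 D23693)))
theorem F138675 : act 3 n47651 = n23661 := (sb E14595 (iv3 D48494))
theorem F138679 : act 3 n11094 = n22963 := (sb E14599 (iv3 D47713))
theorem F138687 : act 3 n90101 = n88633 := d20_3 (iv4 F66420) (iv1 F138660) F138661 (iv1 D88633) F63791 (iv4 F63868) D88722 (iv4 F138301) (iv3 F138662) (iv1 F65091)
theorem F138688 : act 4 n88633 = n90021 := d20_6 F138301 (iv1 F136058) F74989 (iv3 F74981) (iv1 F138522) F138687 (iv1 D90021) F64977 (iv3 F64969) D90012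
theorem E14605 : n88440 = n43085 := (c20_2 F63792 D88440 (iv4 D43085) (iv3 D20327) (iv1 F14975) (iv3 F31908) (iv4 F66420) (iv1 F138660) F138661 F138687 (iv1 D88633))
theorem F138689 : act 0 n43085 = n90040 := (sb E14605 (iv1 F138345))
theorem F138691 : act 2 n43095 = n88425 := d15_3 F138343 (iv0 F138689) (iv7 F67468)
theorem E14606 : n88423 = n20332 := (c1_4 D43095 F138691 (iv4 D88425) (iv2 F135415))
theorem E14607 : n43094 = n41278 := ((D43094).symm.trans (sb E14606 F135415))
theorem E14608 : n41277 = n20327 := ((((iv7 F67446)).symm.trans (sb E14606 (iv7 D88423)))).symm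
theorem E14610 : n43082 = n40969 := (((F63598).symm.trans (sb E14607 F67465))).symm
theorem E14615 : n88421 = n43086 := (((D43086).symm.trans (sb E14608 D88421))).symm
theorem E14616 : n88422 = n43087 := (((D43087).symm.trans (sb E14608 D88422))).symm
theorem F138694 : act 1 n40969 = n20327 := (sb E14610 (iv0 D43082))
theorem E14617 : n48335 = n48274 := (((iv6 F75979)).symm.trans (sb E14615 F135411))
theorem E14618 : n42076 = n20332 := ((((iv5 F67453)).symm.trans (sb E14616 F135413))).symm
theorem F138700 : act 3 n48274 = n23489 := (sb E14617 (iv3 D48335))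
theorem E14620 : n43092 = n19841 := ((D43092).symm.trans (sb E14618 (iv1 D42076)))
theorem F138706 : act 1 n19841 = n20332 := (sb E14620 (iv0 D43092))
theorem E14629 : n47735 = n47714 := (c20_8 (iv4 F36213) (iv1 F36215) (iv4 D20333) D20332 (iv1 F138706) (iv3 F64969) F64970 D47735 (iv4 D47714) (iv3 F138679) (iv1 F17982))
theorem F138723 : act 1 n47714 = n22971 := (sb E14629 (iv0 D47735))
theorem F138724 : act 3 n88632 = n45034 := d20_3 (iv4 F64977) D90020 F138318 (iv1 F70877) F36131 (iv4 F36213) (iv1 F36215) (iv4 D20333) D20332 (iv1 F138706)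
theorem E14630 : n89665 = n48587 := (c20_8 (iv4 F17981) (iv1 F36425) (iv4 D20328) D20327 (iv1 F138694) (iv3 F134702) F134703 (iv1 F137487) (iv4 D48587) (iv3 D23697) (iv1 D11095))
theorem F138728 : act 0 n48587 = n41879 := (sb E14630 (iv1 D89665))
theorem F138735 : act 1 n43174 = n48544 := d18_6 F138664 D48587 F138728 (iv4 F67831) F67832 (iv4 F67618) (iv4 D48544) F65738 (iv5 F36022)
theorem F138736 : act 1 n89657 = n43174 := d15_0 F138735 F76399 (iv2 F137472)
theorem F138744 : act 4 n47709 = n42717 := d20_2 (iv4 F73938) (iv1 F74987) (iv3 D42717) (iv1 D20154) F14761 (iv4 F14974) D20323 F32256 F138679 (iv1 F36024)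
theorem F138745 : act 1 n42717 = n87739 := d18_8 (iv1 F129342) F137454 (iv1 D47696) F36016 (iv5 F17635) (iv4 F36019) D47709 F138744 F134704
theorem F138746 : act 1 n43264 = n42717 := d15_0 F138745 F134705 (iv2 F67830)
def n90193 : Q := act 5 n42160
theorem D90193 : act 5 n42160 = n90193 := rfl
def n90194 : Q := act 7 n42160
theorem D90194 : act 7 n42160 = n90194 := rfl
theorem F138748 : act 2 n90194 = n42586 := d4_1 D90194 F66421 (iv2 F65084)
theorem F138749 : act 4 n90194 = n42163 := d11_1 D90194 (iv7 D42163) (iv4 F65085)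
theorem F138751 : act 1 n42586 = n90191 := d15_0 (iv0 D90191) D90194 F138748
theorem F138753 : act 4 n90191 = n90100 := d18_7 F76382 (iv4 F138638) (iv1 F138639) F68452 F32685 (iv4 F66420) F138751 (iv0 D90100) F65037
theorem E14631 : n90100 = n48556 := ((c20_6 D20333 F32893 F17981 (iv3 F17976) D23686 D48556 (iv4 F138753) (iv1 F138751) F66420 F31908 (iv1 F14976))).symm
theorem F138755 : act 1 n48556 = n42116 := (sb E14631 (iv0 D90100))
theorem F138757 : act 1 n90194 = n42708 := d15_0 (iv0 D42708) (iv7 F66421) (iv2 F138748)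
theorem F138758 : act 4 n42708 = n47699 := d18_7 D47682 (iv4 F137467) (iv1 F138645) F138642 (iv5 F65089) (iv4 F138749) F138757 (iv0 D47699) F36018
def n90195 : Q := act 2 n42161
theorem D90195 : act 2 n42161 = n90195 := rfl
theorem F138759 : act 7 n42162 = n90195 := d15_2 (iv0 D42161) D42162 (iv2 D90195)
def n90197 : Q := act 5 n42161
theorem D90197 : act 5 n42161 = n90197 := rfl
theorem F138760 : act 6 n90197 = n48329 := d12_2 F66929 D90197 (iv5 F75973) (iv6 D42720) D42719
theorem F138761 : act 0 n90197 = n89790 := d21_1 D90197 F137810 (iv6 D42617) (iv1 D20113) (iv6 D9484) (iv5 D4290) (iv1 F6179) (iv5 F16853) D19894 D42161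
def n90198 : Q := act 7 n42161
theorem D90198 : act 7 n42161 = n90198 := rfl
theorem F138763 : act 2 n90198 = n42162 := d4_1 D90198 F138759 (iv2 D90195)
def n90201 : Q := act 0 n42164
theorem D90201 : act 0 n42164 = n90201 := rfl
def n90202 : Q := act 1 n42164
theorem D90202 : act 1 n42164 = n90202 := rfl
def n90203 : Q := act 2 n42164
theorem D90203 : act 2 n42164 = n90203 := rfl
theorem F138766 : act 4 n90203 = n47704 := d1_2 (iv4 F65094) D90203 (iv2 D47704)
def n90204 : Q := act 5 n42164
theorem D90204 : act 5 n42164 = n90204 := rfl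
def n90205 : Q := act 6 n42164
theorem D90205 : act 6 n42164 = n90205 := rfl
theorem F138769 : act 4 n90205 = n47706 := d10_1 D90205 (iv6 D47706) (iv4 F65094)
def n90206 : Q := act 6 n42165
theorem D90206 : act 6 n42165 = n90206 := rfl
def n90209 : Q := act 7 n42166
theorem D90209 : act 7 n42166 = n90209 := rfl
theorem F138770 : act 4 n90209 = n47701 := d11_1 D90209 (iv7 D47701) (iv4 F65097)
theorem F138774 : act 0 n42713 = n90209 := d20_1 D42713 F138770 F74981 F138664 (iv3 D23697) (iv4 F32258) (iv1 D20324) F14974 (iv3 F14761) D20153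
theorem F138775 : act 0 n43822 = n42712 := d20_4 D48587 F138728 (iv4 F67831) (iv3 F68868) (iv3 D42712) D42713 F138774 F138770 F74981 F138664
def n90210 : Q := act 0 n42167
theorem D90210 : act 0 n42167 = n90210 := rfl
theorem F138776 : act 3 n90210 = n42989 := d20_5 F31782 (iv1 F32372) F32373 D42167 D90210 (iv4 D42989) (iv1 F135633) (iv4 F31978) F31977 (iv1 F31780)
theorem F138777 : act 7 n43021 = n90210 := d8_0 F138776 F67356 D43021
def n90211 : Q := act 1 n42167
theorem D90211 : act 1 n42167 = n90211 := rfl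
def n90212 : Q := act 2 n42167
theorem D90212 : act 2 n42167 = n90212 := rfl
theorem F138778 : act 4 n90212 = n88429 := d1_2 (iv4 F65098) D90212 (iv2 D88429)
theorem F138779 : act 1 n90212 = n43021 := d15_0 (iv0 F67941) F67940 D90212
def n90213 : Q := act 5 n42167
theorem D90213 : act 5 n42167 = n90213 := rfl
def n90214 : Q := act 6 n42167
theorem D90214 : act 6 n42167 = n90214 := rfl
theorem F138781 : act 3 n90214 = n42169 := d7_1 D90214 (iv6 D42169) D42167
def n90215 : Q := act 6 n42168
theorem D90215 : act 6 n42168 = n90215 := rfl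
def n90216 : Q := act 5 n42169
theorem D90216 : act 5 n42169 = n90216 := rfl
theorem F138783 : act 0 n90216 = n42508 := d17_2 (iv1 F67704) D90216 (iv5 D42508) (iv4 D20064) (iv5 D9451) (iv0 D4283) D4285 D9459 D20093
theorem F138784 : act 1 n90216 = n42539 := d17_6 F73729 (iv5 D46655) F65770 D43221 (iv4 F67705) D90216 (iv5 D42539) F65987 F65986
def n90218 : Q := act 2 n42170
theorem D90218 : act 2 n42170 = n90218 := rfl
theorem F138788 : act 7 n42171 = n90218 := d15_2 (iv0 D42170) D42171 (iv2 D90218)
def n90219 : Q := act 3 n42170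
theorem D90219 : act 3 n42170 = n90219 := rfl
theorem F138789 : act 4 n90219 = n44563 := d20_6 (iv4 D4299) (iv1 F16823) D9363 D19897 D42170 D90219 (iv1 D44563) F33435 (iv3 D20139) (iv1 D9503)
theorem F138790 : act 0 n43001 = n90219 := d20_10 F138789 (iv1 D44563) F33435 (iv3 D20139) (iv1 D9503) D9504 F14759 D9604 D20304 D43001
def n90220 : Q := act 4 n42170
theorem D90220 : act 4 n42170 = n90220 := rfl
def n90221 : Q := act 5 n42170
theorem D90221 : act 5 n42170 = n90221 := rfl
def n90222 : Q := act 6 n42170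
theorem D90222 : act 6 n42170 = n90222 := rfl
def n90223 : Q := act 7 n42170
theorem D90223 : act 7 n42170 = n90223 := rfl
def n90224 : Q := act 3 n42171
theorem D90224 : act 3 n42171 = n90224 := rfl
def n90225 : Q := act 4 n42171
theorem D90225 : act 4 n42171 = n90225 := rfl
theorem F138792 : act 3 n44562 = n90225 := d20_5 (iv4 D11090) F7523 D10108 D21199 D44562 (iv4 D90225) (iv1 D42171) (iv4 F65027) (iv3 D42109) F31694
def n90226 : Q := act 5 n42171
theorem D90226 : act 5 n42171 = n90226 := rfl
def n90227 : Q := act 6 n42171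
theorem D90227 : act 6 n42171 = n90227 := rfl
def n90228 : Q := act 5 n42172
theorem D90228 : act 5 n42172 = n90228 := rfl
theorem F138793 : act 2 n90228 = n42173 := d2_1 D90228 (iv5 D42173) D42172
def n90229 : Q := act 0 n42173
theorem D90229 : act 0 n42173 = n90229 := rfl
def n90230 : Q := act 1 n42173
theorem D90230 : act 1 n42173 = n90230 := rfl
def n90231 : Q := act 4 n42173
theorem D90231 : act 4 n42173 = n90231 := rfl
def n90232 : Q := act 6 n42173
theorem D90232 : act 6 n42173 = n90232 := rfl
theorem F138794 : act 3 n90232 = n42176 := d7_1 D90232 (iv6 D42176) (iv3 F65101)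
def n90236 : Q := act 6 n42175
theorem D90236 : act 6 n42175 = n90236 := rfl
theorem F138799 : act 2 n90236 = n88739 := d3_1 D90236 (iv6 D88739) F65108
def n90237 : Q := act 0 n42176
theorem D90237 : act 0 n42176 = n90237 := rfl
def n90238 : Q := act 1 n42176
theorem D90238 : act 1 n42176 = n90238 := rfl
def n90239 : Q := act 7 n42176
theorem D90239 : act 7 n42176 = n90239 := rfl
def n90240 : Q := act 0 n42177
theorem D90240 : act 0 n42177 = n90240 := rfl
theorem F138800 : act 2 n44026 = n90240 := d15_3 (iv0 D90240) F69480 (iv7 F69292)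
theorem F138801 : act 3 n90240 = n44119 := d0_2 D44026 F138800 (iv2 D44119) (iv3 D20966) (iv2 F35908)
theorem F138802 : act 4 n90240 = n88963 := d1_2 (iv4 F69291) F138800 (iv2 D88963)
theorem F138803 : act 7 n90240 = n44140 := d4_2 (iv7 F69292) F138800 (iv2 D44140)
theorem F138804 : act 1 n44139 = n90240 := d15_1 D44139 F138803 (iv2 D44140)
def n90241 : Q := act 5 n42177
theorem D90241 : act 5 n42177 = n90241 := rfl
theorem F138805 : act 6 n90241 = n61651 := d12_2 D42177 D90241 (iv5 D61651) (iv6 F50658) F50659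
def n90242 : Q := act 7 n42177
theorem D90242 : act 7 n42177 = n90242 := rfl
theorem F138806 : act 2 n90242 = n44139 := d4_1 D90242 F69478 F67714
theorem F138807 : act 1 n44140 = n90242 := d15_1 (iv0 F136557) (iv7 D90242) (iv2 F67714)
theorem F138808 : act 1 n90242 = n44026 := d15_1 F138807 F69292 D44140
def n90243 : Q := act 5 n42179
theorem D90243 : act 5 n42179 = n90243 := rfl
def n90244 : Q := act 6 n42179
theorem D90244 : act 6 n42179 = n90244 := rfl
def n90245 : Q := act 0 n42180
theorem D90245 : act 0 n42180 = n90245 := rfl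
def n90246 : Q := act 1 n42180
theorem D90246 : act 1 n42180 = n90246 := rfl
def n90247 : Q := act 7 n42180
theorem D90247 : act 7 n42180 = n90247 := rfl
theorem F138809 : act 3 n90247 = n42189 := d8_1 D90247 (iv7 D42189) (iv3 F65110)
theorem F138810 : act 5 n90247 = n42181 := d13_1 D90247 (iv7 D42181) D42180
def n90248 : Q := act 4 n42182
theorem D90248 : act 4 n42182 = n90248 := rfl
theorem F138811 : act 6 n90248 = n42188 := d10_2 (iv6 F65115) D90248 (iv4 D42188)
theorem F138812 : act 0 n90248 = n60271 := d18_2 (iv1 F83266) D90248 F94824 (iv5 F76680) D48727 (iv0 F76724) F42382 (iv0 F40495) (iv5 F83264)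
theorem F138813 : act 5 n90248 = n60261 := d18_4 D52981 F83705 (iv1 F83266) D90248 (iv4 F109320) F90325 D57609 F90751 (iv5 D52983)
theorem F138814 : act 1 n90248 = n76305 := d18_6 (iv1 F37427) D34857 F55120 F31858 D42182 D90248 (iv4 D76305) F55132 F40634
def n90249 : Q := act 5 n42183
theorem D90249 : act 5 n42183 = n90249 := rfl
theorem F138815 : act 3 n90249 = n42184 := d6_1 D90249 (iv5 D42184) D42183
theorem F138816 : act 7 n90249 = n71929 := d13_2 F67765 D90249 F108436
def n90250 : Q := act 6 n42183
theorem D90250 : act 6 n42183 = n90250 := rfl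
theorem F138817 : act 3 n90250 = n42185 := d7_1 D90250 (iv6 D42185) D42183
theorem F138818 : act 4 n90250 = n86979 := d10_1 D90250 (iv6 D86979) (iv4 F65116)
theorem F138819 : act 0 n90250 = n44142 := d20_7 (iv4 D41492) (iv1 F62658) D41993 (iv3 F69214) F69217 (iv3 F133494) (iv4 F138818) (iv4 F72976) F72975 (iv1 F63997)
def n90251 : Q := act 4 n42184
theorem D90251 : act 4 n42184 = n90251 := rfl
def n90252 : Q := act 6 n42184
theorem D90252 : act 6 n42184 = n90252 := rfl
def n90253 : Q := act 3 n42186
theorem D90253 : act 3 n42186 = n90253 := rfl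
def n90254 : Q := act 4 n42186
theorem D90254 : act 4 n42186 = n90254 := rfl
theorem F138820 : act 5 n90254 = n47576 := d16_1 D90254 (iv4 D47576) (iv5 D22872) (iv4 D10807) D10808 D22876 (iv5 F65117) (iv7 F67779) F67780
theorem F138821 : act 1 n90254 = n43869 := d18_6 D41306 F63625 F69230 F69229 F68398 D90254 (iv4 D43869) (iv0 F63632) (iv5 D41308)
def n90255 : Q := act 6 n42186
theorem D90255 : act 6 n42186 = n90255 := rfl
def n90256 : Q := act 3 n42187
theorem D90256 : act 3 n42187 = n90256 := rfl
def n90257 : Q := act 4 n42187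
theorem D90257 : act 4 n42187 = n90257 := rfl
def n90258 : Q := act 6 n42187
theorem D90258 : act 6 n42187 = n90258 := rfl
def n90259 : Q := act 3 n42188
theorem D90259 : act 3 n42188 = n90259 := rfl
def n90260 : Q := act 7 n42188
theorem D90260 : act 7 n42188 = n90260 := rfl
theorem F138824 : act 4 n90260 = n42189 := d11_1 D90260 (iv7 D42189) D42188
theorem F138825 : act 5 n90260 = n43370 := d13_1 D90260 (iv7 F135446) F135447
theorem F138826 : act 1 n88500 = n90260 := d15_1 (iv0 F135486) (iv7 D90260) (iv2 F67774)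
theorem F138827 : act 1 n90260 = n88539 := d15_1 F138826 F135597 (iv2 F135484)
def n90261 : Q := act 6 n42189
theorem D90261 : act 6 n42189 = n90261 := rfl
def n90262 : Q := act 5 n42190
theorem D90262 : act 5 n42190 = n90262 := rfl
theorem F138828 : act 3 n90262 = n42191 := d6_1 D90262 (iv5 D42191) D42190
def n90263 : Q := act 6 n42190
theorem D90263 : act 6 n42190 = n90263 := rfl
theorem F138829 : act 3 n90263 = n42192 := d7_1 D90263 (iv6 D42192) D42190
theorem F138830 : act 4 n90263 = n90263 := d10_1 D90263 (iv6 D90263) F65119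
def n90264 : Q := act 4 n42191
theorem D90264 : act 4 n42191 = n90264 := rfl
theorem F138831 : act 2 n90264 = n87042 := d1_1 D90264 (iv4 D87042) (iv2 F65120)
def n90265 : Q := act 6 n42191
theorem D90265 : act 6 n42191 = n90265 := rfl
theorem F138832 : act 2 n90265 = n52834 := d3_1 D90265 F83486 (iv2 F65120)
theorem F138833 : act 0 n52819 = n90265 := d21_4 (iv5 F76680) (iv1 F37037) D25640 D52819 (iv6 D90265) (iv5 D42191) F63211 D20931 F33116 D34860
theorem F138834 : act 7 n52835 = n90265 := d15_2 (iv0 D52834) D52835 F138832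
def n90266 : Q := act 7 n42192
theorem D90266 : act 7 n42192 = n90266 := rfl
theorem F138836 : act 4 n90266 = n42194 := d11_1 D90266 (iv7 D42194) (iv4 F65122)
theorem F138837 : act 1 n42460 = n90266 := d15_1 (iv0 F65572) (iv7 D90266) F65121
theorem F138838 : act 1 n90266 = n42455 := d15_1 F138837 F65575 F65570
def n90267 : Q := act 5 n42196
theorem D90267 : act 5 n42196 = n90267 := rfl
theorem F138839 : act 2 n90267 = n52555 := d2_1 D90267 (iv5 F83058) F65136
theorem F138840 : act 3 n90267 = n42198 := d6_1 D90267 (iv5 D42198) D42196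
theorem F138841 : act 7 n90267 = n52553 := d13_2 F65137 D90267 (iv5 F83051)
theorem F138842 : act 4 n90267 = n48900 := d16_2 (iv4 F65135) D90267 (iv5 F106435) (iv4 F106436) (iv5 D60253) (iv4 F74316) (iv5 D47065) F44842 F44843
theorem F138843 : act 0 n90267 = n52560 := d17_2 F65138 D90267 F83067 F69348 (iv5 F129797) (iv0 F129801) F64066 D42342 (iv4 F65381)
theorem F138844 : act 1 n90267 = n52522 := d17_6 (iv1 F64299) F64297 F74368 (iv5 D47125) (iv4 F65135) D90267 F82940 (iv0 F106030) F106031
theorem F138845 : act 6 n90267 = n48898 := d21_3 D34938 F65138 D90267 F77080 F41427 D26380 F83620 F83617 (iv6 F55299) (iv1 D34937)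
def n90268 : Q := act 6 n42196
theorem D90268 : act 6 n42196 = n90268 := rfl
theorem F138846 : act 2 n90268 = n87956 := d3_1 D90268 (iv6 D87956) F65136
theorem F138847 : act 3 n90268 = n42199 := d7_1 D90268 (iv6 D42199) D42196
theorem F138848 : act 4 n90268 = n47126 := d10_1 D90268 (iv6 D47126) (iv4 F65135)
def n90269 : Q := act 6 n42197
theorem D90269 : act 6 n42197 = n90269 := rfl
theorem F138849 : act 3 n90269 = n46821 := d7_1 D90269 (iv6 D46821) F65142
theorem F138850 : act 4 n90269 = n42199 := d10_1 D90269 (iv6 D42199) D42197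
def n90270 : Q := act 4 n42198
theorem D90270 : act 4 n42198 = n90270 := rfl
theorem F138851 : act 2 n90270 = n49097 := d1_1 D90270 F77507 F67973
theorem F138852 : act 3 n90270 = n48903 := d5_1 D90270 F77088 (iv3 F77083) (iv4 F138842) F138840
theorem F138853 : act 7 n90270 = n49097 := d11_2 F67974 D90270 F77507
theorem F138854 : act 5 n90270 = n43310 := d16_1 D90270 (iv4 D43310) D43311 (iv4 F77507) (iv5 F77506) (iv4 D42197) D42198 (iv7 F67974) F67973
theorem F138855 : act 0 n90270 = n52119 := d17_0 (iv5 F82388) F69253 F69250 (iv4 F65482) (iv5 F68080) (iv0 D20758) D20759 (iv0 F77511) D90270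
theorem F138856 : act 1 n90270 = n52119 := d18_6 (iv1 F68103) F68099 F65141 (iv4 D42197) D42198 D90270 F82387 (iv0 F138855) F138854
theorem F138857 : act 6 n90270 = n48901 := d21_3 (iv5 F68100) F68102 (iv5 F138854) F77085 F37402 D23974 D49132 F77582 D52622 F83124
def n90271 : Q := act 6 n42198
theorem D90271 : act 6 n42198 = n90271 := rfl
theorem F138858 : act 2 n90271 = n49095 := d3_1 D90271 (iv6 F77508) F67973
theorem F138859 : act 3 n90271 = n48898 := d7_1 D90271 (iv6 F138845) F138840
theorem F138860 : act 4 n90271 = n48901 := d10_1 D90271 (iv6 F138857) (iv4 D90270)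
theorem F138861 : act 7 n90271 = n49092 := d14_2 F67974 D90271 F77496 (iv7 F77503) (iv6 F77508)
theorem F138862 : act 0 n90271 = n52544 := d21_4 (iv5 D19924) D19923 D42198 D90271 F83032 D52875 F83545 (iv5 F42810) (iv6 F65145) (iv1 F65143)
theorem F138863 : act 0 n52532 = n90271 := d20_10 F138860 F77085 F37401 F37400 F37704 (iv3 F65309) (iv4 F65473) (iv1 F68245) (iv4 F68246) D52532
def n90272 : Q := act 0 n42199
theorem D90272 : act 0 n42199 = n90272 := rfl
def n90273 : Q := act 1 n42199
theorem D90273 : act 1 n42199 = n90273 := rfl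
def n90274 : Q := act 5 n42199
theorem D90274 : act 5 n42199 = n90274 := rfl
def n90275 : Q := act 7 n42199
theorem D90275 : act 7 n42199 = n90275 := rfl
def n90276 : Q := act 0 n42201
theorem D90276 : act 0 n42201 = n90276 := rfl
def n90277 : Q := act 1 n42201
theorem D90277 : act 1 n42201 = n90277 := rfl
def n90278 : Q := act 5 n42201
theorem D90278 : act 5 n42201 = n90278 := rfl
theorem F138864 : act 3 n90278 = n42208 := d6_1 D90278 (iv5 D42208) (iv3 F65146)
theorem F138865 : act 6 n90278 = n42204 := d12_2 D42201 D90278 (iv5 D42204) (iv6 D19925) D19924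
def n90279 : Q := act 7 n42201
theorem D90279 : act 7 n42201 = n90279 := rfl
theorem F138866 : act 3 n90279 = n42209 := d8_1 D90279 (iv7 D42209) (iv3 F65146)
def n90280 : Q := act 2 n42202
theorem D90280 : act 2 n42202 = n90280 := rfl
theorem F138867 : act 7 n42203 = n90280 := d15_2 (iv0 D42202) D42203 (iv2 D90280)
def n90281 : Q := act 3 n42202
theorem D90281 : act 3 n42202 = n90281 := rfl
theorem F138868 : act 4 n90281 = n87967 := d20_6 (iv4 D19937) (iv1 D9401) (iv4 F14617) (iv3 F31750) D42202 D90281 (iv1 F134958) F68392 (iv3 F68391) (iv1 F65198)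
def n90282 : Q := act 4 n42202
theorem D90282 : act 4 n42202 = n90282 := rfl
theorem F138869 : act 3 n46825 = n90282 := d20_5 (iv4 F62793) (iv1 D10683) (iv4 F17225) (iv3 F35048) D46825 (iv4 D90282) (iv1 F67985) F67981 F67980 (iv1 F32510)
def n90283 : Q := act 5 n42202
theorem D90283 : act 5 n42202 = n90283 := rfl
def n90284 : Q := act 6 n42202
theorem D90284 : act 6 n42202 = n90284 := rfl
def n90285 : Q := act 7 n42202
theorem D90285 : act 7 n42202 = n90285 := rfl
theorem F138870 : act 2 n90285 = n42203 := d4_1 D90285 F138867 (iv2 D90280)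
def n90286 : Q := act 3 n42203
theorem D90286 : act 3 n42203 = n90286 := rfl
theorem F138871 : act 4 n90286 = n47131 := d20_6 (iv4 D9752) (iv1 F15168) (iv4 F32507) (iv3 F67980) (iv1 F67984) D90286 (iv1 D47131) (iv4 F68091) F68090 F62744
def n90287 : Q := act 4 n42203
theorem D90287 : act 4 n42203 = n90287 := rfl
def n90288 : Q := act 5 n42203
theorem D90288 : act 5 n42203 = n90288 := rfl
def n90289 : Q := act 6 n42203
theorem D90289 : act 6 n42203 = n90289 := rfl
def n90290 : Q := act 0 n42204
theorem D90290 : act 0 n42204 = n90290 := rfl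
def n90291 : Q := act 1 n42204
theorem D90291 : act 1 n42204 = n90291 := rfl
def n90292 : Q := act 4 n42204
theorem D90292 : act 4 n42204 = n90292 := rfl
def n90293 : Q := act 7 n42204
theorem D90293 : act 7 n42204 = n90293 := rfl
theorem F138872 : act 3 n90293 = n42219 := d8_1 D90293 (iv7 D42219) (iv3 F65147)
theorem F138873 : act 5 n90293 = n42205 := d13_1 D90293 (iv7 D42205) D42204
def n90294 : Q := act 4 n42207
theorem D90294 : act 4 n42207 = n90294 := rfl
theorem F138874 : act 2 n90294 = n42414 := d1_1 D90294 (iv4 D42414) (iv2 F82975)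
theorem F138875 : act 3 n90294 = n52452 := d5_1 D90294 F82813 F51399 (iv4 F94170) F94169
theorem F138876 : act 6 n90294 = n48683 := d10_2 (iv6 F82973) D90294 (iv4 F77411)
theorem F138877 : act 7 n90294 = n42409 := d11_2 (iv7 F82976) D90294 (iv4 D42409)
theorem F138878 : act 0 n90294 = n43237 := d17_0 F83344 (iv1 D52748) (iv5 D25607) (iv4 F20189) D25648 (iv0 F65153) (iv5 D42208) D42207 D90294
theorem F138879 : act 0 n46831 = n90294 := d20_10 (iv4 D90294) (iv1 D42207) F31753 F15229 D20025 D42408 F82996 (iv1 F55574) D59816 (iv3 F94210)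
def n90295 : Q := act 5 n42207
theorem D90295 : act 5 n42207 = n90295 := rfl
theorem F138880 : act 2 n90295 = n42415 := d2_1 D90295 (iv5 D42415) (iv2 F82975)
theorem F138881 : act 3 n90295 = n76218 := d6_1 D90295 (iv5 F114182) F94169
theorem F138882 : act 7 n90295 = n42410 := d13_2 (iv7 F82976) D90295 (iv5 D42410)
def n90296 : Q := act 1 n42208
theorem D90296 : act 1 n42208 = n90296 := rfl
theorem F138883 : act 1 n90296 = n42420 := d15_1 D90296 (iv7 D42420) (iv2 F65151)
theorem F138884 : act 7 n90296 = n42417 := d15_2 (iv0 F65153) D90296 (iv2 F65503)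
theorem F138885 : act 5 n90296 = n43886 := d17_7 F76683 F68290 (iv1 D43436) (iv5 D20535) (iv4 F31753) D42208 D90296 F69007 F76684
theorem F138886 : act 2 n42418 = n90296 := d2_3 F138885 F69004 F65506
theorem E14632 : n52842 = n42420 := ((c15_1 F138883 (iv0 D52842) (iv7 F65504) F138886)).symm
theorem F138887 : act 1 n42420 = n25648 := (sb E14632 (iv0 D52842))
def n90297 : Q := act 4 n42208
theorem D90297 : act 4 n42208 = n90297 := rfl
theorem F138888 : act 2 n90297 = n42419 := d1_1 D90297 (iv4 D42419) (iv2 F65151)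
theorem F138889 : act 6 n90297 = n42218 := d10_2 (iv6 F65152) D90297 (iv4 D42218)
def n90298 : Q := act 7 n42208
theorem D90298 : act 7 n42208 = n90298 := rfl
theorem F138890 : act 2 n90298 = n42420 := d4_1 D90298 (iv7 D42420) (iv2 F65151)
theorem F138891 : act 5 n90298 = n42209 := d13_1 D90298 (iv7 D42209) D42208
theorem F138892 : act 1 n42418 = n90298 := d15_1 D42418 (iv7 D90298) F65151
theorem F138893 : act 1 n90298 = n42417 := d15_1 F138892 (iv7 F138884) (iv2 F138886)
theorem F138894 : act 0 n53085 = n43438 := d17_2 (iv1 F83432) D53085 F68294 (iv4 F65155) (iv5 F138891) F138893 F65502 D52821 (iv4 F83464)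
def n90299 : Q := act 0 n42210
theorem D90299 : act 0 n42210 = n90299 := rfl
theorem F138895 : act 1 n42440 = n90299 := d15_0 (iv0 D90299) F65160 D42440
def n90300 : Q := act 1 n42210
theorem D90300 : act 1 n42210 = n90300 := rfl
def n90301 : Q := act 2 n42210
theorem D90301 : act 2 n42210 = n90301 := rfl
theorem F138896 : act 3 n90301 = n42423 := d0_2 D42210 D90301 (iv2 D42423) (iv3 D20030) (iv2 F63401)
theorem F138897 : act 4 n90301 = n47866 := d1_2 (iv4 F65159) D90301 (iv2 D47866)
theorem F138898 : act 7 n90301 = n42440 := d4_2 (iv7 F65160) D90301 (iv2 D42440)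
theorem F138900 : act 1 n90300 = n42440 := d15_1 D90300 (iv7 F138898) (iv2 D90301)
theorem F138901 : act 1 n42439 = n90301 := d15_1 D42439 F138898 (iv2 D42440)
theorem F138902 : act 4 n42439 = n48057 := d20_0 (iv1 D48057) (iv4 F68028) (iv3 D43334) F63000 (iv3 F35048) F35049 D22514 F65530 (iv3 F138896) (iv1 F138901)
theorem F138903 : act 3 n43439 = n42439 := d20_5 F17225 D10682 (iv4 F62781) D20538 D43439 F138902 (iv1 D48057) (iv4 F68028) (iv3 D43334) F63000
theorem F138904 : act 3 n47829 = n48057 := d20_5 F33675 (iv1 F66030) (iv4 F35765) D23016 D47829 (iv4 F138902) (iv1 D42439) D42441 F65557 F66356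
def n90302 : Q := act 5 n42210
theorem D90302 : act 5 n42210 = n90302 := rfl
theorem F138905 : act 3 n90302 = n42211 := d6_1 D90302 (iv5 D42211) D42210
theorem F138906 : act 7 n90302 = n42442 := d13_2 (iv7 F65160) D90302 (iv5 D42442)
def n90303 : Q := act 1 n42211
theorem D90303 : act 1 n42211 = n90303 := rfl
theorem F138907 : act 1 n90303 = n42214 := d15_1 D90303 F65172 (iv2 F65161)
theorem F138908 : act 7 n90303 = n42432 := d15_2 F133618 D90303 (iv2 F133615)
theorem F138909 : act 5 n90303 = n90266 := d17_7 (iv1 F71741) F75133 (iv1 D47860) (iv5 D23035) F31760 D42211 D90303 F138838 F71740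
def n90304 : Q := act 4 n42211
theorem D90304 : act 4 n42211 = n90304 := rfl
theorem F138911 : act 2 n90304 = n42434 := d1_1 D90304 (iv4 D42434) (iv2 F65161)
theorem F138912 : act 7 n90304 = n42446 := d11_2 (iv7 F65162) D90304 (iv4 D42446)
def n90305 : Q := act 6 n42211
theorem D90305 : act 6 n42211 = n90305 := rfl
theorem F138913 : act 2 n90305 = n42435 := d3_1 D90305 (iv6 D42435) (iv2 F65161)
theorem F138914 : act 5 n90305 = n43920 := d12_1 D90305 (iv6 D43920) (iv5 F63684) F63682 D42211
def n90306 : Q := act 0 n42212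
theorem D90306 : act 0 n42212 = n90306 := rfl
theorem F138915 : act 1 n42423 = n90306 := d15_0 (iv0 D90306) F65163 D42423
def n90307 : Q := act 1 n42212
theorem D90307 : act 1 n42212 = n90307 := rfl
def n90308 : Q := act 2 n42212
theorem D90308 : act 2 n42212 = n90308 := rfl
theorem F138916 : act 3 n90308 = n42440 := d0_2 D42212 D90308 (iv2 D42440) (iv3 D20035) (iv2 F63403)
theorem F138917 : act 4 n90308 = n46856 := d1_2 (iv4 F65164) D90308 (iv2 F74058)
theorem F138918 : act 7 n90308 = n42423 := d4_2 (iv7 F65163) D90308 (iv2 D42423)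
theorem F138919 : act 1 n90308 = n42421 := d15_0 (iv0 D42421) (iv7 F65163) D90308
theorem F138920 : act 1 n90307 = n42423 := d15_1 D90307 (iv7 F138918) (iv2 D90308)
def n90309 : Q := act 5 n42212
theorem D90309 : act 5 n42212 = n90309 := rfl
theorem F138922 : act 3 n90309 = n42214 := d6_1 D90309 (iv5 D42214) D42212
theorem F138923 : act 7 n90309 = n42425 := d13_2 (iv7 F65163) D90309 (iv5 D42425)
def n90310 : Q := act 6 n42212
theorem D90310 : act 6 n42212 = n90310 := rfl
theorem F138924 : act 3 n90310 = n42215 := d7_1 D90310 (iv6 D42215) D42212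
theorem F138925 : act 4 n90310 = n46875 := d10_1 D90310 (iv6 D46875) (iv4 F65164)
def n90311 : Q := act 4 n42214
theorem D90311 : act 4 n42214 = n90311 := rfl
theorem F138926 : act 2 n90311 = n42446 := d1_1 D90311 (iv4 D42446) (iv2 F65171)
theorem F138927 : act 7 n90311 = n42434 := d11_2 (iv7 F65172) D90311 (iv4 D42434)
def n90312 : Q := act 6 n42214
theorem D90312 : act 6 n42214 = n90312 := rfl
theorem F138928 : act 2 n90312 = n42447 := d3_1 D90312 (iv6 D42447) (iv2 F65171)
def n90313 : Q := act 3 n42216
theorem D90313 : act 3 n42216 = n90313 := rfl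
theorem F138929 : act 7 n90313 = n42458 := d8_2 (iv7 F65577) D90313 (iv3 D42458)
def n90314 : Q := act 4 n42216
theorem D90314 : act 4 n42216 = n90314 := rfl
theorem F138930 : act 2 n90314 = n42454 := d1_1 D90314 (iv4 D42454) (iv2 F65576)
theorem F138931 : act 7 n90314 = n42459 := d11_2 (iv7 F65577) D90314 (iv4 D42459)
def n90315 : Q := act 6 n42216
theorem D90315 : act 6 n42216 = n90315 := rfl
theorem F138932 : act 2 n90315 = n42456 := d3_1 D90315 (iv6 D42456) (iv2 F65576)
theorem F138933 : act 5 n90315 = n88487 := d12_1 D90315 (iv6 D88487) (iv5 F69441) (iv6 F138116) F138118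
def n90316 : Q := act 3 n42217
theorem D90316 : act 3 n42217 = n90316 := rfl
theorem F138934 : act 5 n90316 = n44080 := d6_2 F65175 D90316 F69423
theorem F138935 : act 7 n90316 = n42453 := d8_2 (iv7 F65574) D90316 (iv3 D42453)
def n90317 : Q := act 4 n42217
theorem D90317 : act 4 n42217 = n90317 := rfl
theorem F138936 : act 2 n90317 = n42459 := d1_1 D90317 (iv4 D42459) (iv2 F65573)
theorem F138937 : act 7 n90317 = n42454 := d11_2 (iv7 F65574) D90317 (iv4 D42454)
def n90318 : Q := act 6 n42217
theorem D90318 : act 6 n42217 = n90318 := rfl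
theorem F138938 : act 2 n90318 = n42461 := d3_1 D90318 (iv6 D42461) (iv2 F65573)
theorem F138939 : act 5 n90318 = n44084 := d12_1 D90318 (iv6 D44084) (iv5 D20940) D20941 F65175
def n90319 : Q := act 0 n42218
theorem D90319 : act 0 n42218 = n90319 := rfl
def n90320 : Q := act 1 n42218
theorem D90320 : act 1 n42218 = n90320 := rfl
theorem F138940 : act 1 n90320 = n42466 := d15_1 D90320 (iv7 D42466) (iv2 F65176)
theorem F138941 : act 4 n44127 = n90320 := d18_5 F138119 F69431 (iv1 D20976) (iv4 F33146) D44127 F138940 F65578 F65179 (iv5 F138118)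
def n90321 : Q := act 3 n42218
theorem D90321 : act 3 n42218 = n90321 := rfl
def n90322 : Q := act 5 n42218
theorem D90322 : act 5 n42218 = n90322 := rfl
theorem F138942 : act 2 n90322 = n42465 := d2_1 D90322 (iv5 D42465) (iv2 F65176)
theorem F138943 : act 4 n90322 = n42585 := d16_2 D42218 D90322 F66419 F31907 F14677 (iv4 F14672) (iv5 F31869) (iv7 D20042) (iv2 F31755)
theorem F138944 : act 7 n42583 = n90322 := d11_0 F138943 (iv7 D42585) D42583
def n90323 : Q := act 7 n42218
theorem D90323 : act 7 n42218 = n90323 := rfl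
theorem F138945 : act 2 n90323 = n42466 := d4_1 D90323 (iv7 D42466) (iv2 F65176)
theorem F138946 : act 4 n90323 = n42219 := d11_1 D90323 (iv7 D42219) D42218
theorem F138947 : act 5 n90323 = n42583 := d13_1 D90323 F138944 (iv5 D90322)
theorem F138948 : act 1 n42466 = n90319 := d15_0 (iv0 D90319) D90323 F138945
theorem F138949 : act 1 n42463 = n90323 := d15_1 D42463 (iv7 D90323) F65176
theorem F138950 : act 1 n90323 = n42462 := d15_0 (iv0 D42462) D42466 (iv2 F138945)
def n90324 : Q := act 6 n42219
theorem D90324 : act 6 n42219 = n90324 := rfl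
theorem F138951 : act 2 n90324 = n42467 := d3_1 D90324 (iv6 D42467) (iv2 F65177)
def n90325 : Q := act 5 n42225
theorem D90325 : act 5 n42225 = n90325 := rfl
theorem F138952 : act 2 n90325 = n42486 := d2_1 D90325 (iv5 D42486) (iv2 F65868)
theorem F138953 : act 7 n90325 = n42275 := d13_2 (iv7 F65870) D90325 (iv5 D42275)
theorem F138954 : act 0 n90325 = n44127 := d17_2 D42225 D90325 (iv5 D44127) F33146 F31767 F31766 F14677 F14624 D19933
def n90326 : Q := act 0 n42227
theorem D90326 : act 0 n42227 = n90326 := rfl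
theorem F138955 : act 2 n42528 = n90326 := d15_3 (iv0 D90326) (iv0 F68092) (iv7 F68093)
theorem F138956 : act 1 n42529 = n90326 := d15_0 (iv0 D90326) F65202 D42529
theorem F138957 : act 7 n90326 = n42346 := d4_2 (iv7 F68093) F138955 (iv2 F68089)
theorem F138958 : act 1 n43355 = n42529 := d15_0 F138956 F138957 (iv2 F68089)
def n90327 : Q := act 2 n42227
theorem D90327 : act 2 n42227 = n90327 := rfl
theorem F138959 : act 3 n90327 = n42494 := d0_2 D42227 D90327 (iv2 D42494) (iv3 D20058) (iv2 F35742)
theorem F138960 : act 4 n90327 = n46743 := d1_2 F65950 D90327 (iv2 D46743)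
theorem F138961 : act 7 n90327 = n42529 := d4_2 (iv7 F65202) D90327 (iv2 D42529)
theorem F138962 : act 1 n90327 = n42346 := d15_0 F68094 (iv7 F65202) D90327
theorem F138963 : act 1 n42528 = n90327 := d15_0 F138962 (iv7 F138957) (iv2 F138955)
def n90328 : Q := act 5 n42227
theorem D90328 : act 5 n42227 = n90328 := rfl
theorem F138964 : act 3 n90328 = n42228 := d6_1 D90328 (iv5 D42228) D42227
theorem F138965 : act 7 n90328 = n42530 := d13_2 (iv7 F65202) D90328 (iv5 D42530)
def n90329 : Q := act 0 n42228
theorem D90329 : act 0 n42228 = n90329 := rfl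
theorem F138966 : act 5 n90329 = n43245 := d17_3 F65691 D42228 D90329 F67770 D89551 (iv0 F137284) (iv5 D42430) (iv0 F65861) (iv4 F32537)
theorem F138967 : act 1 n42237 = n90329 := d15_0 (iv0 D90329) F65204 (iv2 F65229)
theorem F138968 : act 2 n42497 = n90329 := d2_3 F138966 F67769 (iv5 F65635)
theorem F138969 : act 7 n42498 = n90329 := d13_0 F138966 (iv7 F69466) F69468
def n90330 : Q := act 1 n42228
theorem D90330 : act 1 n42228 = n90330 := rfl
theorem F138970 : act 1 n90330 = n42237 := d15_1 D90330 F65230 (iv2 F65203)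
theorem F138971 : act 7 n90330 = n42497 := d15_2 (iv0 D90329) D90330 F138968
theorem F138972 : act 5 n90330 = n89560 := d17_7 (iv1 F65133) F65207 (iv1 D42229) (iv5 D19934) D19933 D42228 D90330 F137299 (iv4 D42554)
theorem F138973 : act 2 n42498 = n90330 := d2_3 F138972 F137296 F69468
def n90331 : Q := act 4 n42228
theorem D90331 : act 4 n42228 = n90331 := rfl
theorem F138974 : act 2 n90331 = n42499 := d1_1 D90331 (iv4 D42499) (iv2 F65203)
theorem F138975 : act 7 n90331 = n42532 := d11_2 (iv7 F65204) D90331 (iv4 D42532)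
def n90332 : Q := act 6 n42228
theorem D90332 : act 6 n42228 = n90332 := rfl
theorem F138976 : act 2 n90332 = n42500 := d3_1 D90332 (iv6 D42500) (iv2 F65203)
def n90333 : Q := act 4 n42229
theorem D90333 : act 4 n42229 = n90333 := rfl
theorem F138979 : act 7 n90333 = n42503 := d11_2 (iv7 F65206) D90333 (iv4 D42503)
def n90334 : Q := act 0 n42230
theorem D90334 : act 0 n42230 = n90334 := rfl
theorem F138981 : act 4 n90334 = n89551 := d18_3 (iv1 D42229) D42230 D90334 (iv5 D89551) (iv4 F67770) F137294 (iv4 D42562) F65132 F65207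
theorem F138983 : act 2 n42505 = n90334 := d1_3 F138981 F137279 (iv4 F65986)
theorem F138984 : act 6 n90095 = n90334 := d10_0 F138981 F137281 D90095
theorem F138985 : act 7 n42506 = n90334 := d11_0 F138981 F137282 (iv4 F75135)
def n90335 : Q := act 1 n42230
theorem D90335 : act 1 n42230 = n90335 := rfl
theorem F138986 : act 1 n90335 = n42239 := d15_1 D90335 F65234 (iv2 F65211)
theorem F138987 : act 7 n90335 = n42505 := d15_2 (iv0 D90334) D90335 F138983
theorem F138988 : act 4 n90335 = n47937 := d18_7 F65862 (iv4 F32537) F65691 (iv4 D19933) D19934 D42230 D90335 F75277 (iv5 D42444)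
theorem F138990 : act 6 n42639 = n90335 := d10_0 F138988 F75269 (iv4 F68508)
def n90336 : Q := act 3 n42230
theorem D90336 : act 3 n42230 = n90336 := rfl
theorem F138991 : act 7 n90336 = n42538 := d8_2 (iv7 F65212) D90336 (iv3 D42538)
def n90338 : Q := act 1 n42234
theorem D90338 : act 1 n42234 = n90338 := rfl
theorem F138994 : act 1 n90338 = n42474 := d15_1 D90338 (iv7 F134676) F134674
theorem F138996 : act 5 n90338 = n43220 := d17_7 (iv1 F71718) (iv5 F75116) (iv1 F75117) (iv5 D23020) (iv4 F31764) D42234 D90338 F74004 F62908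
theorem F138997 : act 3 n87729 = n90338 := d20_3 D23099 D47939 (iv4 F134664) (iv1 D90338) F65223 D42239 (iv1 F138986) F138988 (iv3 D47937) (iv1 D23098)
theorem F138998 : act 6 n87454 = n90338 := d21_9 (iv5 D42234) F66027 D23340 F36459 (iv1 F31684) (iv6 F61796) (iv5 D40688) D40686 D87454 (iv1 D90338)
theorem F138999 : act 2 n90338 = n42478 := d3_1 F138998 (iv6 F66369) (iv2 F134254)
def n90339 : Q := act 4 n42234
theorem D90339 : act 4 n42234 = n90339 := rfl
theorem F139000 : act 2 n90339 = n89938 := d1_1 D90339 F138137 F134674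
theorem F139003 : act 1 n90339 = n47875 := d18_6 (iv1 F17652) (iv4 F36041) (iv1 F36042) (iv4 F31764) D42234 D90339 (iv4 D47875) (iv0 D23044) (iv5 D10867)
theorem F139004 : act 5 n47927 = n90339 := d17_7 F36096 (iv5 D10872) (iv1 D4953) D4954 D10876 D23079 D47927 F139003 (iv4 D47875)
def n90340 : Q := act 0 n42236
theorem D90340 : act 0 n42236 = n90340 := rfl
theorem F139005 : act 4 n90340 = n48083 := d20_0 (iv1 D48083) (iv4 F67986) (iv3 D43317) (iv1 F32509) F15231 F14672 (iv1 F14618) D19937 D42236 D90340
theorem F139006 : act 1 n42494 = n90340 := d15_0 (iv0 D90340) F65228 D42494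
def n90341 : Q := act 1 n42236
theorem D90341 : act 1 n42236 = n90341 := rfl
theorem F139007 : act 4 n48082 = n90341 := d20_0 (iv1 D90341) F65227 (iv3 D23019) (iv1 D10861) (iv3 F7400) F7401 D4975 D10920 D23207 D48082
theorem F139008 : act 3 n47864 = n48082 := d20_5 F7372 D4952 D10866 D23040 D47864 F139007 (iv1 D90341) F65227 (iv3 D23019) (iv1 D10861)
def n90342 : Q := act 2 n42236
theorem D90342 : act 2 n42236 = n90342 := rfl
theorem F139009 : act 3 n90342 = n42529 := d0_2 D42236 D90342 (iv2 D42529) (iv3 D20077) (iv2 F35754)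
theorem F139010 : act 4 n90342 = n47840 := d1_2 (iv4 F65227) D90342 (iv2 D47840)
theorem F139011 : act 7 n90342 = n42494 := d4_2 (iv7 F65228) D90342 (iv2 D42494)
theorem F139013 : act 1 n90341 = n42494 := d15_1 D90341 (iv7 F139011) (iv2 D90342)
theorem F139014 : act 1 n42493 = n90342 := d15_1 D42493 F139011 (iv2 D42494)
def n90343 : Q := act 5 n42236
theorem D90343 : act 5 n42236 = n90343 := rfl
theorem F139015 : act 3 n90343 = n42237 := d6_1 D90343 (iv5 D42237) D42236
theorem F139016 : act 7 n90343 = n42495 := d13_2 (iv7 F65228) D90343 (iv5 D42495)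
def n90344 : Q := act 6 n42236
theorem D90344 : act 6 n42236 = n90344 := rfl
theorem F139017 : act 3 n90344 = n42238 := d7_1 D90344 (iv6 D42238) D42236
theorem F139018 : act 4 n90344 = n47842 := d10_1 D90344 (iv6 D47842) (iv4 F65227)
def n90345 : Q := act 4 n42237
theorem D90345 : act 4 n42237 = n90345 := rfl
theorem F139019 : act 2 n90345 = n42532 := d1_1 D90345 (iv4 D42532) (iv2 F65229)
theorem F139020 : act 7 n90345 = n42499 := d11_2 (iv7 F65230) D90345 (iv4 D42499)
def n90346 : Q := act 6 n42237
theorem D90346 : act 6 n42237 = n90346 := rfl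
theorem F139021 : act 2 n90346 = n42533 := d3_1 D90346 (iv6 D42533) (iv2 F65229)
def n90347 : Q := act 5 n42238
theorem D90347 : act 5 n42238 = n90347 := rfl
theorem F139022 : act 2 n90347 = n42536 := d2_1 D90347 (iv5 D42536) (iv2 F65231)
theorem F139023 : act 7 n90347 = n90130 := d13_2 F69096 D90347 F138575
theorem F139025 : act 1 n90347 = n43278 := d17_6 F35667 D19740 D41928 F64674 (iv4 F65232) D90347 (iv5 D43278) (iv0 D20429) F15142
def n90349 : Q := act 5 n42239
theorem D90349 : act 5 n42239 = n90349 := rfl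
theorem F139027 : act 2 n90349 = n42539 := d2_1 D90349 (iv5 D42539) (iv2 F65233)
theorem F139028 : act 7 n90349 = n42508 := d13_2 (iv7 F65234) D90349 (iv5 D42508)
def n90350 : Q := act 3 n42240
theorem D90350 : act 3 n42240 = n90350 := rfl
theorem F139030 : act 6 n90350 = n43526 := d7_2 (iv6 F65236) D90350 (iv3 D43526)
def n90352 : Q := act 6 n42241
theorem D90352 : act 6 n42241 = n90352 := rfl
theorem F139034 : act 3 n90352 = n42243 := d7_1 D90352 (iv6 D42243) D42241
def n90360 : Q := act 6 n42245
theorem D90360 : act 6 n42245 = n90360 := rfl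
theorem F139053 : act 2 n90360 = n42575 := d3_1 D90360 (iv6 D42575) (iv2 F66409)
def n90361 : Q := act 0 n42246
theorem D90361 : act 0 n42246 = n90361 := rfl
def n90362 : Q := act 1 n42246
theorem D90362 : act 1 n42246 = n90362 := rfl
def n90363 : Q := act 2 n42246
theorem D90363 : act 2 n42246 = n90363 := rfl
def n90364 : Q := act 5 n42246
theorem D90364 : act 5 n42246 = n90364 := rfl
theorem F139057 : act 3 n90364 = n42247 := d6_1 D90364 (iv5 D42247) D42246
def n90365 : Q := act 7 n42246
theorem D90365 : act 7 n42246 = n90365 := rfl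
theorem F139058 : act 3 n90365 = n42248 := d8_1 D90365 (iv7 D42248) D42246
def n90366 : Q := act 0 n42247
theorem D90366 : act 0 n42247 = n90366 := rfl
theorem F139060 : act 5 n90366 = n47861 := d17_3 (iv1 D42245) D42247 D90366 (iv4 D47861) (iv5 D23035) (iv0 F65640) D43221 (iv0 F72790) F72789
def n90367 : Q := act 1 n42247
theorem D90367 : act 1 n42247 = n90367 := rfl
def n90368 : Q := act 4 n42247
theorem D90368 : act 4 n42247 = n90368 := rfl
theorem F139063 : act 2 n90368 = n42583 := d1_1 D90368 (iv4 D42583) (iv2 F65250)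
theorem F139064 : act 5 n90368 = n42466 := d9_2 D42247 D90368 F65578 F31869 F14672 (iv5 F14677) (iv4 F31907) (iv5 F66419) (iv4 F138943) (iv5 D90322) (iv4 D42218) (iv5 D19929) F14617 D9402 D19942
theorem F139065 : act 7 n42465 = n90368 := d13_0 F139064 (iv7 D42466) D42465
def n90369 : Q := act 6 n42247
theorem D90369 : act 6 n42247 = n90369 := rfl
theorem F139066 : act 2 n90369 = n42584 := d3_1 D90369 (iv6 D42584) (iv2 F65250)
theorem F139067 : act 5 n90369 = n42259 := d12_1 D90369 (iv6 D42259) (iv5 D19947) (iv6 F31769) D42247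
def n90370 : Q := act 7 n42247
theorem D90370 : act 7 n42247 = n90370 := rfl
theorem F139068 : act 2 n90370 = n42585 := d4_1 D90370 (iv7 D42585) (iv2 F65250)
theorem F139069 : act 4 n90370 = n42465 := d11_1 D90370 F139065 (iv4 D90368)
theorem F139070 : act 5 n90370 = n42248 := d13_1 D90370 (iv7 D42248) D42247
theorem F139071 : act 1 n42582 = n90370 := d15_1 D42582 (iv7 D90370) F65250
theorem F139072 : act 1 n90370 = n42581 := d15_0 (iv0 D42581) D42585 (iv2 F139068)
def n90371 : Q := act 0 n42249
theorem D90371 : act 0 n42249 = n90371 := rfl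
theorem F139073 : act 1 n42672 = n90371 := d15_0 (iv0 D90371) F65258 D42672
def n90372 : Q := act 1 n42249
theorem D90372 : act 1 n42249 = n90372 := rfl
def n90373 : Q := act 2 n42249
theorem D90373 : act 2 n42249 = n90373 := rfl
theorem F139074 : act 3 n90373 = n42663 := d0_2 D42249 D90373 (iv2 D42663) (iv3 D20136) F31778
theorem F139075 : act 4 n90373 = n87049 := d1_2 (iv4 F65257) D90373 (iv2 D87049)
theorem F139076 : act 7 n90373 = n42672 := d4_2 (iv7 F65258) D90373 (iv2 D42672)
theorem F139077 : act 1 n90373 = n42670 := d15_0 (iv0 D42670) (iv7 F65258) D90373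
theorem F139078 : act 1 n90372 = n42672 := d15_1 D90372 (iv7 F139076) (iv2 D90373)
theorem F139079 : act 1 n42671 = n90373 := d15_1 D42671 F139076 (iv2 D42672)
def n90374 : Q := act 5 n42249
theorem D90374 : act 5 n42249 = n90374 := rfl
theorem F139080 : act 3 n90374 = n42250 := d6_1 D90374 (iv5 D42250) D42249
theorem F139081 : act 7 n90374 = n42673 := d13_2 (iv7 F65258) D90374 (iv5 D42673)
def n90375 : Q := act 6 n42249
theorem D90375 : act 6 n42249 = n90375 := rfl
theorem F139082 : act 3 n90375 = n42251 := d7_1 D90375 (iv6 D42251) D42249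
theorem F139083 : act 4 n90375 = n45359 := d10_1 D90375 F71496 (iv4 F65257)
def n90376 : Q := act 6 n42250
theorem D90376 : act 6 n42250 = n90376 := rfl
theorem F139084 : act 2 n90376 = n42667 := d3_1 D90376 (iv6 D42667) (iv2 F65259)
theorem F139085 : act 4 n90376 = n43833 := d10_1 D90376 (iv6 D43833) (iv4 F65261)
def n90377 : Q := act 5 n42251
theorem D90377 : act 5 n42251 = n90377 := rfl
theorem F139086 : act 2 n90377 = n42668 := d2_1 D90377 (iv5 D42668) (iv2 F65264)
def n90378 : Q := act 0 n42252
theorem D90378 : act 0 n42252 = n90378 := rfl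
theorem F139088 : act 1 n42663 = n90378 := d15_0 (iv0 D90378) F65266 D42663
def n90379 : Q := act 1 n42252
theorem D90379 : act 1 n42252 = n90379 := rfl
def n90380 : Q := act 2 n42252
theorem D90380 : act 2 n42252 = n90380 := rfl
theorem F139089 : act 3 n90380 = n42672 := d0_2 D42252 D90380 (iv2 D42672) (iv3 D20139) F31783
theorem F139090 : act 7 n90380 = n42663 := d4_2 (iv7 F65266) D90380 (iv2 D42663)
theorem F139091 : act 1 n90380 = n42661 := d15_0 (iv0 D42661) (iv7 F65266) D90380
theorem F139092 : act 1 n90379 = n42663 := d15_1 D90379 (iv7 F139090) (iv2 D90380)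
theorem F139093 : act 1 n42662 = n90380 := d15_1 D42662 F139090 (iv2 D42663)
def n90381 : Q := act 5 n42252
theorem D90381 : act 5 n42252 = n90381 := rfl
theorem F139094 : act 3 n90381 = n42253 := d6_1 D90381 (iv5 D42253) D42252
theorem F139095 : act 7 n90381 = n42665 := d13_2 (iv7 F65266) D90381 (iv5 D42665)
def n90382 : Q := act 6 n42252
theorem D90382 : act 6 n42252 = n90382 := rfl
theorem F139096 : act 3 n90382 = n42254 := d7_1 D90382 (iv6 D42254) D42252
def n90383 : Q := act 6 n42253
theorem D90383 : act 6 n42253 = n90383 := rfl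
theorem F139097 : act 2 n90383 = n42675 := d3_1 D90383 (iv6 D42675) (iv2 F65267)
theorem F139098 : act 4 n90383 = n43309 := d10_1 D90383 (iv6 D43309) (iv4 F65268)
def n90384 : Q := act 5 n42254
theorem D90384 : act 5 n42254 = n90384 := rfl
theorem F139099 : act 2 n90384 = n42676 := d2_1 D90384 (iv5 D42676) (iv2 F65272)
def n90385 : Q := act 2 n42255
theorem D90385 : act 2 n42255 = n90385 := rfl
theorem F139101 : act 7 n42256 = n90385 := d15_2 (iv0 D42255) D42256 (iv2 D90385)
def n90386 : Q := act 3 n42255
theorem D90386 : act 3 n42255 = n90386 := rfl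
theorem F139102 : act 4 n90386 = n90032 := d20_6 (iv4 D9847) (iv1 F7278) D9414 D19946 D42255 D90386 (iv1 D90032) (iv4 F67939) (iv3 D43299) (iv1 F32490)
def n90387 : Q := act 4 n42255
theorem D90387 : act 4 n42255 = n90387 := rfl
def n90388 : Q := act 5 n42255
theorem D90388 : act 5 n42255 = n90388 := rfl
def n90389 : Q := act 6 n42255
theorem D90389 : act 6 n42255 = n90389 := rfl
def n90390 : Q := act 7 n42255
theorem D90390 : act 7 n42255 = n90390 := rfl
theorem F139103 : act 2 n90390 = n42256 := d4_1 D90390 F139101 (iv2 D90385)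
def n90391 : Q := act 3 n42256
theorem D90391 : act 3 n42256 = n90391 := rfl
def n90392 : Q := act 4 n42256
theorem D90392 : act 4 n42256 = n90392 := rfl
theorem F139104 : act 3 n90201 = n90392 := d20_5 F31776 F17634 (iv4 F31738) D42164 D90201 (iv4 D90392) (iv1 D42256) F31784 (iv3 D19946) D19944
def n90393 : Q := act 5 n42256
theorem D90393 : act 5 n42256 = n90393 := rfl
def n90394 : Q := act 6 n42256
theorem D90394 : act 6 n42256 = n90394 := rfl
def n90395 : Q := act 5 n42257
theorem D90395 : act 5 n42257 = n90395 := rfl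
theorem F139105 : act 2 n90395 = n42258 := d2_1 D90395 (iv5 D42258) D42257
theorem F139106 : act 3 n90395 = n42691 := d6_1 D90395 (iv5 D42691) (iv3 F65274)
def n90396 : Q := act 0 n42258
theorem D90396 : act 0 n42258 = n90396 := rfl
def n90397 : Q := act 1 n42258
theorem D90397 : act 1 n42258 = n90397 := rfl
def n90398 : Q := act 4 n42258
theorem D90398 : act 4 n42258 = n90398 := rfl
def n90399 : Q := act 6 n42258
theorem D90399 : act 6 n42258 = n90399 := rfl
theorem F139107 : act 3 n90399 = n42259 := d7_1 D90399 (iv6 D42259) (iv3 F65276)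
def n90400 : Q := act 0 n42259
theorem D90400 : act 0 n42259 = n90400 := rfl
def n90401 : Q := act 1 n42259
theorem D90401 : act 1 n42259 = n90401 := rfl
theorem F139108 : act 1 n90401 = n42706 := d15_1 D90401 (iv7 D42706) (iv2 F65277)
def n90402 : Q := act 7 n42259
theorem D90402 : act 7 n42259 = n90402 := rfl
theorem F139109 : act 2 n90402 = n42706 := d4_1 D90402 (iv7 D42706) (iv2 F65277)
theorem F139110 : act 1 n42706 = n90400 := d15_0 (iv0 D90400) D90402 F139109
theorem F139111 : act 1 n42705 = n90402 := d15_1 D42705 (iv7 D90402) F65277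
theorem F139112 : act 1 n90402 = n42704 := d15_0 (iv0 D42704) D42706 (iv2 F139109)
def n90403 : Q := act 0 n42263
theorem D90403 : act 0 n42263 = n90403 := rfl
theorem F139113 : act 5 n90403 = n82480 := d17_3 D19948 D42263 D90403 F127100 F76060 (iv0 D48387) (iv5 D23528) F66549 F17727
theorem F139114 : act 4 n90403 = n48426 := d18_1 D90403 (iv1 F76157) (iv4 D45015) (iv5 D21498) D21497 F66765 (iv4 F58142) F58146 D42263
theorem F139115 : act 2 n42481 = n90403 := d15_3 (iv0 D90403) F125241 F75942
theorem F139116 : act 1 n42268 = n90403 := d15_0 (iv0 D90403) (iv7 F66626) (iv2 F66630)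
theorem F139118 : act 6 n42474 = n90403 := d21_9 (iv5 D42268) (iv1 D19949) D19950 F31787 F31629 (iv6 F36459) (iv5 D23340) (iv1 F66030) D42474 (iv1 F139116)
theorem F139119 : act 3 n90403 = n87301 := d7_1 F139118 F134033 F74260
def n90405 : Q := act 6 n42263
theorem D90405 : act 6 n42263 = n90405 := rfl
theorem F139124 : act 5 n90405 = n89736 := d12_1 D90405 (iv6 D89736) F66623 (iv6 D42264) D42263
theorem F139125 : act 0 n90405 = n87871 := d21_4 (iv5 D19950) D19948 D42263 D90405 (iv6 D87871) D87870 F134871 F75632 (iv6 F125256) (iv1 D42271)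
def n90406 : Q := act 4 n42268
theorem D90406 : act 4 n42268 = n90406 := rfl
theorem F139126 : act 2 n90406 = n48254 := d1_1 D90406 (iv4 D48254) (iv2 F66630)
theorem F139129 : act 6 n87208 = n90406 := d3_0 F139126 F133670 F133854
def n90408 : Q := act 5 n42270
theorem D90408 : act 5 n42270 = n90408 := rfl
theorem F139139 : act 7 n90408 = n43218 := d13_2 F70831 D90408 (iv5 F67684)
theorem F139140 : act 4 n90408 = n89869 := d17_4 (iv1 D19949) D19950 D42270 D90408 F137951 (iv0 D44540) (iv5 D21181) D21180 F66743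
theorem F139141 : act 1 n90408 = n43856 := d17_8 F68951 (iv5 F75446) F75449 F75097 (iv4 F58142) (iv5 F125261) F125263 D90408 F68949
theorem F139142 : act 6 n90408 = n44278 := d21_3 D19950 D42270 D90408 (iv1 F74003) (iv6 D40705) D40704 D87477 F134293 (iv6 D42269) (iv1 D19949)
def n90409 : Q := act 6 n42270
theorem D90409 : act 6 n42270 = n90409 := rfl
def n90410 : Q := act 0 n42275
theorem D90410 : act 0 n42275 = n90410 := rfl
theorem F139145 : act 5 n90410 = n42554 := d17_3 F65638 D42275 D90410 (iv4 D42554) (iv5 D20089) (iv0 D9458) (iv5 D4285) D4284 D9455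
theorem F139146 : act 4 n90410 = n42462 := d18_1 D90410 (iv1 F138950) F138946 F65178 F31757 F14626 D9450 (iv0 F65637) D42275
theorem F139147 : act 1 n42486 = n90410 := d15_0 (iv0 D90410) (iv7 F138953) F138952
theorem F139148 : act 7 n44127 = n90410 := d13_0 F139145 F66379 D44127
theorem F139149 : act 7 n42462 = n90320 := d11_2 F139148 F139146 (iv4 F138941)
theorem F139150 : act 2 n90320 = n42463 := d15_3 F138949 F138950 F139149
theorem F139151 : act 2 n42462 = n90319 := d15_3 (iv0 D90319) D90320 (iv7 F139149)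
theorem F139152 : act 7 n90319 = n42463 := d4_2 (iv7 F139149) F139151 (iv2 F139150)
def n90411 : Q := act 1 n42275
theorem D90411 : act 1 n42275 = n90411 := rfl
theorem F139153 : act 1 n90411 = n42486 := d15_1 D90411 (iv7 F68088) F68087
theorem F139154 : act 5 n90411 = n42562 := d17_7 F73997 D46150 F72790 (iv5 D43221) F32367 D42275 D90411 F137298 F137297
theorem F139155 : act 2 n44127 = n90411 := d2_3 F139154 F66390 D44127
theorem F139156 : act 4 n42463 = n90411 := d18_3 (iv1 F65181) (iv4 F138946) (iv1 F138949) F139154 (iv4 D42562) F65132 (iv4 F138836) F138838 (iv5 D42455)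
def n90412 : Q := act 4 n42275
theorem D90412 : act 4 n42275 = n90412 := rfl
theorem F139157 : act 0 n90412 = n90314 := d18_2 (iv1 D90411) D90412 (iv4 D90314) (iv5 F138118) (iv4 D89932) (iv0 F73995) (iv4 F67770) F137294 (iv5 F139154)
theorem F139158 : act 1 n90412 = n90317 := d18_6 (iv1 F31754) (iv4 F65773) F65770 F32367 D42275 D90412 (iv4 D90317) F65174 F31869
def n90413 : Q := act 0 n42277
theorem D90413 : act 0 n42277 = n90413 := rfl
def n90414 : Q := act 1 n42277
theorem D90414 : act 1 n42277 = n90414 := rfl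
theorem F139159 : act 1 n90414 = n42281 := d15_1 D90414 (iv7 D42281) (iv2 F65283)
theorem F139160 : act 3 n90414 = n88464 := d20_5 (iv4 D10994) (iv1 F66483) (iv4 F31799) (iv3 F65285) (iv1 F139159) F135436 (iv1 D44525) F33423 F32626 (iv1 F66709)
theorem F139161 : act 4 n90414 = n44932 := d20_0 (iv1 D44932) F33699 F31845 (iv1 F63159) (iv3 F17847) (iv4 D10994) (iv1 F66483) (iv4 F31799) (iv3 F65285) (iv1 F139159)
def n90415 : Q := act 7 n42277
theorem D90415 : act 7 n42277 = n90415 := rfl
theorem F139162 : act 2 n90415 = n42281 := d4_1 D90415 (iv7 D42281) (iv2 F65283)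
theorem F139163 : act 6 n90415 = n88466 := d14_1 D90415 F135442 (iv6 D43360) F32555 D42277
theorem F139164 : act 1 n42281 = n90413 := d15_0 (iv0 D90413) D90415 F139162
theorem F139165 : act 1 n42279 = n90415 := d15_1 D42279 (iv7 D90415) F65283
theorem F139166 : act 4 n44931 = n90413 := d20_0 (iv1 F139164) (iv4 F75444) F75443 (iv1 F66535) (iv3 D11067) (iv4 D5045) F63143 (iv4 F16172) (iv3 F33698) D44931
theorem F139167 : act 1 n90415 = n42278 := d15_0 (iv0 D42278) D42281 (iv2 F139162)
def n90416 : Q := act 2 n42278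
theorem D90416 : act 2 n42278 = n90416 := rfl
theorem F139168 : act 7 n42279 = n90416 := d15_2 (iv0 D42278) D42279 (iv2 D90416)
def n90417 : Q := act 5 n42278
theorem D90417 : act 5 n42278 = n90417 := rfl
def n90418 : Q := act 7 n42278
theorem D90418 : act 7 n42278 = n90418 := rfl
theorem F139169 : act 2 n90418 = n42279 := d4_1 D90418 F139168 (iv2 D90416)
def n90419 : Q := act 3 n42279
theorem D90419 : act 3 n42279 = n90419 := rfl
def n90420 : Q := act 5 n42279
theorem D90420 : act 5 n42279 = n90420 := rfl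
def n90421 : Q := act 6 n42279
theorem D90421 : act 6 n42279 = n90421 := rfl
def n90422 : Q := act 0 n42280
theorem D90422 : act 0 n42280 = n90422 := rfl
def n90423 : Q := act 1 n42280
theorem D90423 : act 1 n42280 = n90423 := rfl
def n90424 : Q := act 4 n42280
theorem D90424 : act 4 n42280 = n90424 := rfl
theorem F139170 : act 6 n90424 = n76384 := d10_2 F77420 D90424 F114498
def n90425 : Q := act 7 n42280
theorem D90425 : act 7 n42280 = n90425 := rfl
theorem F139171 : act 3 n90425 = n42301 := d8_1 D90425 (iv7 D42301) (iv3 F65284)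
theorem F139172 : act 5 n90425 = n42281 := d13_1 D90425 (iv7 D42281) D42280
def n90426 : Q := act 5 n42283
theorem D90426 : act 5 n42283 = n90426 := rfl
theorem F139173 : act 2 n90426 = n89019 := d2_1 D90426 (iv5 D89019) (iv2 F65293)
theorem F139174 : act 3 n90426 = n52122 := d6_1 D90426 (iv5 D52122) (iv3 F65294)
theorem F139175 : act 6 n90426 = n43225 := d12_2 D42283 D90426 (iv5 D43225) (iv6 D20391) (iv5 F31796)
theorem F139176 : act 0 n90426 = n49304 := d17_2 F65296 D90426 (iv5 D49304) F37664 D49206 (iv0 F86647) (iv5 D43882) D43881 F68990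
def n90427 : Q := act 5 n42284
theorem D90427 : act 5 n42284 = n90427 := rfl
theorem F139177 : act 2 n90427 = n68841 := d2_1 D90427 (iv5 D68841) (iv2 F65302)
theorem F139178 : act 3 n90427 = n68629 := d6_1 D90427 (iv5 D68629) (iv3 F65298)
theorem F139179 : act 1 n90427 = n69726 := d17_6 (iv1 D25473) D25475 D52488 F82871 F65299 D90427 (iv5 D69726) (iv0 F82804) F82805
def n90428 : Q := act 5 n42285
theorem D90428 : act 5 n42285 = n90428 := rfl
theorem F139180 : act 3 n90428 = n52453 := d6_1 D90428 F82818 F65305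
theorem F139181 : act 7 n90428 = n68841 := d13_2 (iv7 F65304) D90428 (iv5 D68841)
theorem F139182 : act 1 n69726 = n90428 := d15_1 F139179 F139181 (iv2 F139177)
def n90429 : Q := act 0 n42286
theorem D90429 : act 0 n42286 = n90429 := rfl
theorem F139183 : act 5 n90429 = n76520 := d17_3 (iv1 D42285) D42286 D90429 F114687 (iv5 F82932) (iv0 D52516) (iv5 D25492) D25491 (iv4 F65306)
theorem F139184 : act 4 n90429 = n64830 := d18_3 D64572 F100513 D90429 (iv5 D64830) D64829 (iv0 F100669) (iv4 D64562) (iv0 D30388) D30391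
theorem F139185 : act 2 n68847 = n90429 := d15_3 (iv0 D90429) (iv0 F83239) (iv7 F105039)
theorem F139186 : act 1 n54113 = n90429 := d15_0 (iv0 D90429) (iv7 F114431) F114429
theorem E14633 : n52514 = n52489 := (c21_1 D52514 (iv1 D52489) (iv5 D25475) (iv6 F37665) D49302 F114691 (iv5 F139183) (iv1 F139186) (iv5 D54113) (iv6 F65426) (iv1 F65427))
theorem F139187 : act 5 n52489 = n25491 := (sb E14633 (iv5 D52514))
theorem E14634 : n52591 = n52533 := ((c17_2 (iv1 F50264) D52533 (iv1 D52591) F40358 F37384 D25475 D52489 F139187 F65427 F65425)).symm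
theorem F139188 : act 0 n52533 = n25526 := (sb E14634 (iv1 D52591))
theorem F139189 : act 1 n64830 = n52537 := d18_6 (iv1 D49039) F37338 D48681 (iv4 F114687) (iv5 F139183) F139184 (iv4 D52537) D52536 F82955
def n90430 : Q := act 0 n42289
theorem D90430 : act 0 n42289 = n90430 := rfl
def n90431 : Q := act 1 n42289
theorem D90431 : act 1 n42289 = n90431 := rfl
def n90432 : Q := act 2 n42289
theorem D90432 : act 2 n42289 = n90432 := rfl
theorem F139190 : act 3 n90432 = n42349 := d0_2 D42289 D90432 (iv2 F68157) (iv3 D43382) F66846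
def n90433 : Q := act 5 n42289
theorem D90433 : act 5 n42289 = n90433 := rfl
theorem F139191 : act 3 n90433 = n42291 := d6_1 D90433 (iv5 D42291) D42289
def n90434 : Q := act 6 n42289
theorem D90434 : act 6 n42289 = n90434 := rfl
theorem F139192 : act 3 n90434 = n42292 := d7_1 D90434 (iv6 D42292) D42289
def n90435 : Q := act 1 n42291
theorem D90435 : act 1 n42291 = n90435 := rfl
theorem F139193 : act 1 n90435 = n42296 := d15_1 D90435 (iv7 F68159) F68158
def n90436 : Q := act 4 n42291
theorem D90436 : act 4 n42291 = n90436 := rfl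
def n90437 : Q := act 6 n42291
theorem D90437 : act 6 n42291 = n90437 := rfl
def n90438 : Q := act 5 n42294
theorem D90438 : act 5 n42294 = n90438 := rfl
theorem F139194 : act 3 n90438 = n42296 := d6_1 D90438 (iv5 D42296) D42294
def n90439 : Q := act 6 n42294
theorem D90439 : act 6 n42294 = n90439 := rfl
theorem F139195 : act 3 n90439 = n42297 := d7_1 D90439 (iv6 D42297) D42294
def n90440 : Q := act 4 n42296
theorem D90440 : act 4 n42296 = n90440 := rfl
def n90441 : Q := act 6 n42296
theorem D90441 : act 6 n42296 = n90441 := rfl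
def n90442 : Q := act 5 n42297
theorem D90442 : act 5 n42297 = n90442 := rfl
theorem F139197 : act 7 n90442 = n44123 := d13_2 F68356 D90442 (iv5 F69465)
def n90443 : Q := act 3 n42298
theorem D90443 : act 3 n42298 = n90443 := rfl
def n90444 : Q := act 4 n42298
theorem D90444 : act 4 n42298 = n90444 := rfl
def n90445 : Q := act 5 n42298
theorem D90445 : act 5 n42298 = n90445 := rfl
theorem F139200 : act 2 n90445 = n43965 := d2_1 D90445 F69116 F68185
theorem F139201 : act 7 n90445 = n43242 := d13_2 (iv7 F68186) D90445 F68177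
theorem F139202 : act 4 n90445 = n88872 := d17_4 (iv1 D19960) D19961 D42298 D90445 F136292 (iv0 D43565) F32690 D20896 F66845
theorem F139203 : act 1 n90445 = n43859 := d17_8 F65372 (iv5 D42334) (iv1 F31969) F31966 (iv4 F32588) (iv5 F68181) F68187 D90445 F68957
theorem F139204 : act 0 n43421 = n90444 := d18_2 (iv1 D43420) D43421 (iv4 D90444) D90445 F139202 (iv0 F136294) F65912 (iv0 F69040) F68271
theorem F139206 : act 1 n43968 = n90445 := d18_6 (iv1 D47631) D47632 (iv1 F75946) (iv4 D48298) (iv5 F66679) (iv4 F69120) F139202 (iv0 F136294) (iv5 F74899)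
def n90446 : Q := act 6 n42298
theorem D90446 : act 6 n42298 = n90446 := rfl
def n90447 : Q := act 3 n42299
theorem D90447 : act 3 n42299 = n90447 := rfl
theorem F139207 : act 5 n90447 = n90250 := d6_2 F65313 D90447 F138817
theorem F139208 : act 0 n90447 = n42351 := d21_7 (iv5 F40421) (iv1 D25554) F32455 D43272 F136439 D90250 (iv5 F139207) (iv5 D42351) (iv6 D19985) D19982
theorem F139209 : act 1 n90447 = n68859 := d15_1 (iv0 F139208) (iv7 D68859) (iv2 F65405)
def n90448 : Q := act 4 n42299
theorem D90448 : act 4 n42299 = n90448 := rfl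
theorem F139210 : act 0 n90448 = n43421 := d18_2 (iv1 F68183) D90448 (iv4 D43421) (iv5 D20530) (iv4 F15636) D20896 F66845 F32591 (iv5 F68181)
def n90449 : Q := act 6 n42299
theorem D90449 : act 6 n42299 = n90449 := rfl
theorem F139211 : act 5 n90449 = n90252 := d12_1 D90449 (iv6 D90252) (iv5 D42184) D42185 F65313
def n90450 : Q := act 0 n42300
theorem D90450 : act 0 n42300 = n90450 := rfl
def n90451 : Q := act 1 n42300
theorem D90451 : act 1 n42300 = n90451 := rfl
theorem F139212 : act 4 n90451 = n42385 := d18_7 (iv1 F66786) (iv4 D11003) (iv1 F66488) (iv4 F14650) D19961 D42300 D90451 F68277 F68275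
def n90452 : Q := act 3 n42300
theorem D90452 : act 3 n42300 = n90452 := rfl
def n90453 : Q := act 5 n42300
theorem D90453 : act 5 n42300 = n90453 := rfl
def n90454 : Q := act 7 n42300
theorem D90454 : act 7 n42300 = n90454 := rfl
theorem F139213 : act 4 n90454 = n42301 := d11_1 D90454 (iv7 D42301) D42300
def n90455 : Q := act 6 n42301
theorem D90455 : act 6 n42301 = n90455 := rfl
theorem F139214 : act 5 n90455 = n88468 := d12_1 D90455 (iv6 D88468) (iv5 D41295) F35600 (iv5 F65314)
def n90456 : Q := act 5 n42316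
theorem D90456 : act 5 n42316 = n90456 := rfl
theorem F139215 : act 2 n90456 = n88471 := d2_1 D90456 (iv5 D88471) F66685
theorem F139216 : act 3 n90456 = n42317 := d6_1 D90456 (iv5 D42317) D42316
def n90457 : Q := act 6 n42316
theorem D90457 : act 6 n42316 = n90457 := rfl
theorem F139217 : act 2 n90457 = n88472 := d3_1 D90457 (iv6 D88472) F66685
theorem F139218 : act 3 n90457 = n42318 := d7_1 D90457 (iv6 D42318) D42316
theorem F139219 : act 4 n90457 = n90457 := d10_1 D90457 (iv6 D90457) F66687
def n90458 : Q := act 4 n42317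
theorem D90458 : act 4 n42317 = n90458 := rfl
theorem F139220 : act 2 n90458 = n48295 := d1_1 D90458 (iv4 D48295) F66686
def n90459 : Q := act 6 n42317
theorem D90459 : act 6 n42317 = n90459 := rfl
theorem F139221 : act 2 n90459 = n48296 := d3_1 D90459 (iv6 D48296) F66686
def n90463 : Q := act 3 n42333
theorem D90463 : act 3 n42333 = n90463 := rfl
theorem F139227 : act 4 n90463 = n90463 := d5_2 D42333 D90463 (iv3 D90463) (iv4 D42333) F35700
def n90464 : Q := act 5 n42333
theorem D90464 : act 5 n42333 = n90464 := rfl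
theorem F139228 : act 2 n90464 = n48326 := d2_1 D90464 (iv5 D48326) (iv2 F65367)
def n90465 : Q := act 6 n42333
theorem D90465 : act 6 n42333 = n90465 := rfl
def n90466 : Q := act 4 n42334
theorem D90466 : act 4 n42334 = n90466 := rfl
theorem F139234 : act 5 n90466 = n42384 := d17_5 (iv1 F66488) D9423 D19973 D42334 D90466 (iv0 D42384) (iv5 D20010) F66791 (iv4 D11003)
theorem F139236 : act 4 n42384 = n90450 := d18_5 (iv1 F69122) F68957 F65372 D90466 F139234 (iv0 D90450) (iv4 D42300) D42299 (iv5 F65313)
def n90468 : Q := act 3 n42336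
theorem D90468 : act 3 n42336 = n90468 := rfl
def n90469 : Q := act 5 n42336
theorem D90469 : act 5 n42336 = n90469 := rfl
def n90470 : Q := act 6 n42336
theorem D90470 : act 6 n42336 = n90470 := rfl
def n90473 : Q := act 0 n42338
theorem D90473 : act 0 n42338 = n90473 := rfl
def n90474 : Q := act 1 n42338
theorem D90474 : act 1 n42338 = n90474 := rfl
def n90475 : Q := act 2 n42338
theorem D90475 : act 2 n42338 = n90475 := rfl
theorem F139241 : act 6 n90475 = n43831 := d3_2 (iv6 F65377) D90475 (iv2 D43831)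
def n90476 : Q := act 5 n42338
theorem D90476 : act 5 n42338 = n90476 := rfl
theorem F139242 : act 3 n90476 = n42339 := d6_1 D90476 (iv5 D42339) D42338
def n90480 : Q := act 4 n42339
theorem D90480 : act 4 n42339 = n90480 := rfl
def n90481 : Q := act 6 n42339
theorem D90481 : act 6 n42339 = n90481 := rfl
theorem F139245 : act 5 n90481 = n43833 := d12_1 D90481 (iv6 D43833) (iv5 D20753) (iv6 F31803) D42339
def n90482 : Q := act 7 n42339
theorem D90482 : act 7 n42339 = n90482 := rfl
theorem F139246 : act 5 n90482 = n42340 := d13_1 D90482 (iv7 D42340) D42339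
def n90483 : Q := act 6 n42341
theorem D90483 : act 6 n42341 = n90483 := rfl
theorem F139247 : act 2 n90483 = n46670 := d3_1 D90483 (iv6 D46670) F65384
def n90484 : Q := act 6 n42342
theorem D90484 : act 6 n42342 = n90484 := rfl
theorem F139248 : act 2 n90484 = n46668 := d3_1 D90484 (iv6 D46668) (iv2 F65385)
theorem F139249 : act 3 n90484 = n87741 := d7_1 D90484 (iv6 D87741) F72109
theorem F139250 : act 4 n90484 = n76488 := d10_1 D90484 (iv6 D76488) F65381
def n90485 : Q := act 6 n42343
theorem D90485 : act 6 n42343 = n90485 := rfl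
theorem F139251 : act 2 n90485 = n42344 := d3_1 D90485 (iv6 D42344) D42343
theorem F139252 : act 3 n90485 = n46681 := d7_1 D90485 (iv6 D46681) (iv3 F65387)
theorem F139253 : act 4 n90485 = n42347 := d10_1 D90485 (iv6 D42347) (iv4 F65388)
theorem F139254 : act 7 n47514 = n90485 := d11_0 F139253 (iv7 F135531) F135530
theorem F139255 : act 0 n47512 = n90485 := d20_10 F139253 (iv1 F135528) F68154 (iv3 D22699) (iv1 F35259) (iv3 F73542) F73543 (iv1 F73546) D46571 (iv3 F74712)
theorem F139256 : act 1 n47513 = n90485 := d15_1 D47513 (iv7 F139254) (iv2 D47514)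
def n90486 : Q := act 0 n42344
theorem D90486 : act 0 n42344 = n90486 := rfl
theorem F139257 : act 1 n47514 = n90486 := d15_0 (iv0 D90486) (iv7 F65394) D47514
def n90487 : Q := act 1 n42344
theorem D90487 : act 1 n42344 = n90487 := rfl
theorem F139258 : act 1 n90487 = n47514 := d15_1 D90487 F139254 F139251
def n90488 : Q := act 5 n42344
theorem D90488 : act 5 n42344 = n90488 := rfl
theorem F139259 : act 3 n90488 = n42345 := d6_1 D90488 (iv5 D42345) (iv3 F65392)
theorem F139260 : act 7 n90488 = n47515 := d13_2 F65394 D90488 (iv5 D47515)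
def n90489 : Q := act 5 n42346
theorem D90489 : act 5 n42346 = n90489 := rfl
theorem F139261 : act 6 n90489 = n54861 := d12_2 D42346 D90489 (iv5 F86802) (iv6 D52651) F40421
def n90490 : Q := act 5 n42349
theorem D90490 : act 5 n42349 = n90490 := rfl
def n90491 : Q := act 6 n42349
theorem D90491 : act 6 n42349 = n90491 := rfl
def n90492 : Q := act 0 n42351
theorem D90492 : act 0 n42351 = n90492 := rfl
theorem F139262 : act 1 n68859 = n90492 := d15_0 (iv0 D90492) (iv7 F135538) F135536
def n90493 : Q := act 4 n42351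
theorem D90493 : act 4 n42351 = n90493 := rfl
theorem F139263 : act 2 n90493 = n68856 := d1_1 D90493 F105043 (iv2 F65405)
theorem F139264 : act 6 n90493 = n68832 := d10_2 (iv6 F65407) D90493 (iv4 D68832)
def n90494 : Q := act 5 n42352
theorem D90494 : act 5 n42352 = n90494 := rfl
theorem F139265 : act 2 n90494 = n52488 := d2_1 D90494 F82871 F65409
theorem F139266 : act 3 n90494 = n54112 := d6_1 D90494 (iv5 D54112) F65410
theorem F139267 : act 7 n90494 = n52489 := d13_2 F65412 D90494 F139187
theorem F139268 : act 0 n90494 = n48684 := d21_1 D90494 (iv5 D48684) (iv6 F82980) F82978 (iv6 D22485) (iv5 D10680) F7311 D9428 D19986 D42352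
theorem F139269 : act 0 n52487 = n90494 := d21_7 D23762 F55471 (iv5 D25564) D25565 (iv1 F77942) F77940 D52487 (iv5 D90494) (iv6 F65411) (iv1 D23760)
theorem F139270 : act 5 n52168 = n61276 := d21_8 D52487 F139269 (iv5 D90494) (iv6 F65411) (iv1 D23760) (iv6 F19914) D25338 D52168 F95744 (iv1 F76599)
def n90495 : Q := act 5 n42353
theorem D90495 : act 5 n42353 = n90495 := rfl
theorem F139271 : act 2 n90495 = n52489 := d2_1 D90495 F139187 F65419
theorem F139272 : act 3 n90495 = n54068 := d6_1 D90495 (iv5 D54068) F65418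
theorem F139273 : act 7 n90495 = n52488 := d13_2 (iv7 F65417) D90495 F82871
theorem F139274 : act 0 n90495 = n52487 := d21_1 D90495 (iv5 D52487) (iv6 F77940) (iv1 F77943) F82806 (iv5 F105038) (iv1 F114433) F114430 F65310 (iv1 F65416)
theorem F139275 : act 0 n48684 = n90495 := d21_1 D48684 (iv5 D90495) F114226 (iv1 F114224) F83314 (iv5 F86692) (iv1 F86693) F52458 (iv6 F76602) (iv1 D48682)
def n90496 : Q := act 4 n42354
theorem D90496 : act 4 n42354 = n90496 := rfl
theorem F139276 : act 2 n90496 = n52518 := d1_1 D90496 (iv4 D52518) (iv2 F65420)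
theorem F139277 : act 6 n90496 = n42360 := d10_2 (iv6 F65422) D90496 (iv4 D42360)
theorem F139278 : act 0 n90496 = n64534 := d17_0 (iv5 D64534) D64531 F100470 (iv4 D52490) (iv5 D25475) D25473 D52485 F82933 D90496
theorem F139279 : act 5 n64453 = n90496 := d17_1 (iv1 F100384) F139278 (iv5 D64534) F48811 D30391 D64573 (iv5 F106602) F99481 (iv4 F100052)
theorem F139280 : act 2 n64252 = n64453 := d2_3 F139279 F139276 (iv5 F100051)
theorem F139281 : act 7 n64452 = n64252 := d15_2 F100384 F100380 F139280
theorem F139282 : act 7 n64253 = n64453 := d15_2 (iv0 D64252) D64253 (iv2 F139280)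
theorem F139283 : act 2 n64452 = n64253 := d4_3 F139282 (iv2 F139280) (iv7 F139281)
def n90497 : Q := act 7 n42354
theorem D90497 : act 7 n42354 = n90497 := rfl
theorem F139284 : act 2 n90497 = n48688 := d4_1 D90497 F76621 (iv2 F65420)
theorem F139285 : act 3 n90497 = n52496 := d8_1 D90497 F82879 (iv3 F65421)
theorem F139286 : act 5 n90497 = n42355 := d13_1 D90497 (iv7 D42355) D42354
theorem F139287 : act 1 n52517 = n90497 := d15_1 D52517 (iv7 D90497) F65420
theorem F139288 : act 1 n90497 = n52516 := d15_1 F139287 (iv7 F82930) (iv2 F82927)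
def n90499 : Q := act 6 n42356
theorem D90499 : act 6 n42356 = n90499 := rfl
def n90500 : Q := act 3 n42358
theorem D90500 : act 3 n42358 = n90500 := rfl
def n90501 : Q := act 4 n42358
theorem D90501 : act 4 n42358 = n90501 := rfl
theorem F139292 : act 5 n90501 = n89557 := d16_1 D90501 (iv4 D89557) (iv5 D41819) (iv4 D19686) D19687 D41823 F65435 (iv7 F68127) (iv2 F68128)
theorem F139293 : act 0 n90501 = n88528 := d17_0 F135572 (iv1 F138821) F138820 (iv4 D47576) (iv5 D22872) (iv0 F31083) D41295 F65433 D90501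
theorem F139294 : act 1 n90501 = n43414 := d18_6 (iv1 F69277) F69274 (iv1 F67710) (iv4 F69484) F69483 D90501 (iv4 D43414) D43413 (iv5 F68262)
def n90502 : Q := act 6 n42358
theorem D90502 : act 6 n42358 = n90502 := rfl
def n90503 : Q := act 3 n42359
theorem D90503 : act 3 n42359 = n90503 := rfl
theorem F139295 : act 5 n90503 = n89561 := d6_2 F65435 D90503 (iv3 D89561)
def n90504 : Q := act 4 n42359
theorem D90504 : act 4 n42359 = n90504 := rfl
theorem F139296 : act 5 n90504 = n90251 := d9_2 F65435 D90504 (iv4 D90251) (iv5 D42184) (iv4 F63433) D43222 (iv4 F69484) F69483 D90501 F139292 (iv4 D89557) (iv5 D41819) (iv4 D19686) D19687 D41823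
theorem F139297 : act 0 n90504 = n43414 := d18_2 (iv1 F65434) D90504 (iv4 D43414) (iv5 D20524) (iv4 F15572) (iv0 F63119) D10807 (iv0 F31083) D41295
theorem F139298 : act 1 n90504 = n88528 := d18_6 (iv1 F69443) F69440 (iv1 D41822) D41823 F65435 D90504 (iv4 D88528) F68257 F68256
def n90505 : Q := act 6 n42359
theorem D90505 : act 6 n42359 = n90505 := rfl
theorem F139299 : act 5 n90505 = n90132 := d12_1 D90505 (iv6 D90132) (iv5 D42129) (iv6 F64487) F65435
def n90506 : Q := act 0 n42360
theorem D90506 : act 0 n42360 = n90506 := rfl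
theorem F139300 : act 4 n90506 = n42397 := d18_3 (iv1 D42359) D42360 D90506 F65475 (iv4 D40435) F35682 (iv4 F33160) (iv0 F64488) F65435
theorem F139301 : act 1 n88467 = n90506 := d15_0 (iv0 D90506) (iv7 F135542) F135541
theorem F139302 : act 5 n90264 = n90506 := d16_1 D90264 F139300 F65475 (iv4 D40435) (iv5 D19105) D19104 D40432 (iv7 F61525) (iv2 F65120)
def n90507 : Q := act 1 n42360
theorem D90507 : act 1 n42360 = n90507 := rfl
theorem F139303 : act 1 n90507 = n88467 := d15_1 D90507 F135446 F68129
theorem F139304 : act 4 n90507 = n42398 := d18_7 (iv1 F31112) (iv4 D19457) (iv1 F35606) (iv4 F14657) D19989 D42360 D90507 F65478 (iv5 D41301)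
theorem F139305 : act 5 n87037 = n90507 := d9_0 F139304 (iv5 F65479) F65057 F31721 D19921 D42191 D90264 F139302 F139300 F65475 (iv4 D40435) (iv5 D19105) D19104 D40432 D87037
def n90508 : Q := act 3 n42360
theorem D90508 : act 3 n42360 = n90508 := rfl
def n90509 : Q := act 5 n42360
theorem D90509 : act 5 n42360 = n90509 := rfl
theorem F139307 : act 4 n90509 = n43249 := d9_1 D90509 F67776 F32411 F35602 D19424 D41295 D88467 F135447 (iv4 D42188) (iv5 D19912) F14602 (iv5 F16782) (iv4 F14657) D19989 D42360
theorem F139309 : act 0 n90509 = n88491 := d17_2 (iv1 D90507) D90509 (iv5 D88491) (iv4 D41304) (iv5 D19437) F63159 D20019 D42398 (iv4 F139304)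
theorem F139310 : act 1 n90509 = n88506 := d17_6 (iv1 D47575) (iv5 D22872) (iv1 F35613) D19989 D42360 D90509 (iv5 F135553) F135556 F135468
def n90510 : Q := act 6 n42361
theorem D90510 : act 6 n42361 = n90510 := rfl
theorem F139311 : act 4 n90510 = n42362 := d10_1 D90510 (iv6 D42362) D42361
def n90511 : Q := act 0 n42362
theorem D90511 : act 0 n42362 = n90511 := rfl
def n90512 : Q := act 1 n42362
theorem D90512 : act 1 n42362 = n90512 := rfl
def n90513 : Q := act 5 n42362
theorem D90513 : act 5 n42362 = n90513 := rfl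
theorem F139312 : act 3 n90513 = n52861 := d6_1 D90513 F83506 (iv3 F65436)
theorem F139313 : act 6 n90513 = n52860 := d12_2 D42362 D90513 F83505 (iv6 D34921) (iv5 F31825)
def n90514 : Q := act 7 n42362
theorem D90514 : act 7 n42362 = n90514 := rfl
theorem F139314 : act 3 n90514 = n76486 := d8_1 D90514 (iv7 D76486) (iv3 F65436)
def n90515 : Q := act 6 n42363
theorem D90515 : act 6 n42363 = n90515 := rfl
theorem F139315 : act 2 n90515 = n76488 := d3_1 D90515 (iv6 D76488) (iv2 F65437)
theorem F139316 : act 3 n90515 = n42364 := d7_1 D90515 (iv6 D42364) D42363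
theorem F139317 : act 4 n90515 = n46668 := d10_1 D90515 (iv6 D46668) (iv4 F65438)
def n90516 : Q := act 0 n42364
theorem D90516 : act 0 n42364 = n90516 := rfl
def n90517 : Q := act 1 n42364
theorem D90517 : act 1 n42364 = n90517 := rfl
def n90518 : Q := act 5 n42364
theorem D90518 : act 5 n42364 = n90518 := rfl
theorem F139318 : act 6 n90518 = n76425 := d12_2 D42364 D90518 (iv5 D76425) (iv6 D34920) F32535
def n90519 : Q := act 7 n42364
theorem D90519 : act 7 n42364 = n90519 := rfl
def n90520 : Q := act 0 n42365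
theorem D90520 : act 0 n42365 = n90520 := rfl
def n90521 : Q := act 1 n42365
theorem D90521 : act 1 n42365 = n90521 := rfl
theorem F139319 : act 1 n90521 = n42370 := d15_1 D90521 (iv7 D42370) (iv2 F65443)
def n90522 : Q := act 7 n42365
theorem D90522 : act 7 n42365 = n90522 := rfl
theorem F139320 : act 2 n90522 = n42370 := d4_1 D90522 (iv7 D42370) (iv2 F65443)
theorem F139321 : act 4 n90522 = n46621 := d11_1 D90522 F73641 (iv4 F65444)
theorem F139322 : act 6 n90522 = n88478 := d14_1 D90522 F135460 (iv6 D43402) F32607 D42365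
theorem F139323 : act 1 n42370 = n90520 := d15_0 (iv0 D90520) D90522 F139320
theorem F139324 : act 1 n42368 = n90522 := d15_1 D42368 (iv7 D90522) F65443
theorem F139325 : act 1 n90522 = n42367 := d15_0 (iv0 D42367) D42370 (iv2 F139320)
def n90523 : Q := act 5 n42366
theorem D90523 : act 5 n42366 = n90523 := rfl
theorem F139326 : act 2 n90523 = n46850 := d2_1 D90523 (iv5 D46850) (iv2 F65445)
theorem F139327 : act 3 n90523 = n48185 := d6_1 D90523 (iv5 D48185) (iv3 F65446)
theorem F139328 : act 7 n90523 = n47582 := d13_2 F66884 D90523 (iv5 D47582)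
theorem F139329 : act 1 n89587 = n47582 := d15_1 (iv0 F137346) (iv7 F139328) F139326
def n90524 : Q := act 2 n42367
theorem D90524 : act 2 n42367 = n90524 := rfl
theorem F139330 : act 7 n42368 = n90524 := d15_2 (iv0 D42367) D42368 (iv2 D90524)
def n90525 : Q := act 3 n42367
theorem D90525 : act 3 n42367 = n90525 := rfl
def n90526 : Q := act 4 n42367
theorem D90526 : act 4 n42367 = n90526 := rfl
def n90527 : Q := act 5 n42367
theorem D90527 : act 5 n42367 = n90527 := rfl
def n90528 : Q := act 6 n42367
theorem D90528 : act 6 n42367 = n90528 := rfl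
def n90529 : Q := act 7 n42367
theorem D90529 : act 7 n42367 = n90529 := rfl
theorem F139331 : act 2 n90529 = n42368 := d4_1 D90529 F139330 (iv2 D90524)
def n90530 : Q := act 3 n42368
theorem D90530 : act 3 n42368 = n90530 := rfl
theorem F139332 : act 4 n90530 = n47512 := d5_2 F73563 D90530 F74712 (iv4 D46571) D46570
def n90531 : Q := act 5 n42368
theorem D90531 : act 5 n42368 = n90531 := rfl
def n90532 : Q := act 6 n42368
theorem D90532 : act 6 n42368 = n90532 := rfl
def n90533 : Q := act 0 n42369
theorem D90533 : act 0 n42369 = n90533 := rfl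
def n90534 : Q := act 1 n42369
theorem D90534 : act 1 n42369 = n90534 := rfl
def n90535 : Q := act 4 n42369
theorem D90535 : act 4 n42369 = n90535 := rfl
def n90536 : Q := act 7 n42369
theorem D90536 : act 7 n42369 = n90536 := rfl
theorem F139333 : act 3 n90536 = n42387 := d8_1 D90536 (iv7 D42387) (iv3 F65448)
theorem F139334 : act 5 n90536 = n42370 := d13_1 D90536 (iv7 D42370) D42369
def n90537 : Q := act 3 n42371
theorem D90537 : act 3 n42371 = n90537 := rfl
theorem F139335 : act 2 n90537 = n52544 := d0_1 D90537 (iv3 F83031) (iv2 F83416) (iv3 F65465) (iv2 F83412)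
theorem F139336 : act 4 n90537 = n52544 := d5_2 F65464 D90537 (iv3 F83031) F68242 F65465
theorem F139337 : act 6 n90537 = n48730 := d7_2 F65467 D90537 (iv3 D48730)
theorem F139338 : act 7 n90537 = n52532 := d8_2 (iv7 F83413) D90537 (iv3 D52532)
theorem F139339 : act 0 n90537 = n49092 := d20_4 (iv4 F31846) D42393 F65464 D90537 F77495 (iv4 F77023) F77026 F50119 F65305 (iv1 D42285)
theorem F139340 : act 0 n49095 = n90537 := d20_4 F41561 (iv1 F83045) F83043 (iv3 F77504) (iv3 D90537) (iv4 F65464) F68255 F68252 (iv3 D26186) D26184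
def n90538 : Q := act 5 n42371
theorem D90538 : act 5 n42371 = n90538 := rfl
theorem F139341 : act 2 n90538 = n52530 := d2_1 D90538 (iv5 D52530) (iv2 F83412)
theorem F139342 : act 7 n90538 = n52533 := d13_2 (iv7 F83413) D90538 (iv5 D52533)
theorem F139343 : act 0 n90538 = n48700 := d17_2 D42371 D90538 F76638 F37338 D48684 (iv0 F139268) (iv5 D90494) (iv0 D42352) (iv4 F31835)
theorem F139344 : act 4 n90538 = n64361 := d17_4 F100511 (iv5 D42373) D42371 D90538 (iv5 D64361) F99477 F100515 (iv0 D64572) D64574
theorem F139345 : act 0 n52592 = n90538 := d21_7 D23766 D48731 F76733 D49113 F114358 F77698 (iv5 F83103) (iv5 D90538) (iv6 F65467) (iv1 D23765)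
def n90539 : Q := act 5 n42372
theorem D90539 : act 5 n42372 = n90539 := rfl
theorem F139346 : act 2 n90539 = n52533 := d2_1 D90539 (iv5 D52533) (iv2 F83425)
theorem F139347 : act 7 n90539 = n52530 := d13_2 (iv7 F83426) D90539 (iv5 D52530)
theorem F139348 : act 0 n90539 = n52592 := d17_2 (iv1 F65452) D90539 F83103 F77476 D52487 (iv0 F139274) (iv5 D90495) F65416 (iv4 F36964)
theorem F139349 : act 4 n90539 = n63950 := d19_2 (iv1 F65452) D90539 F99483 (iv1 F80504) (iv5 D51051) (iv4 D24833) F19118 F10468 F10467 (iv4 D5265) (iv3 F9930) F10187 (iv5 D3263) (iv4 F9935) F10207 F18198 (iv5 D11207) (iv4 F18038) D23741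
theorem F139350 : act 0 n48700 = n90539 := d21_1 (iv5 F76638) (iv5 D90539) (iv6 F83491) (iv1 F83496) (iv6 D48743) D48742 (iv1 F114351) (iv5 D76296) F82957 (iv1 D49039)
def n90540 : Q := act 0 n42373
theorem D90540 : act 0 n42373 = n90540 := rfl
theorem F139351 : act 5 n90540 = n49088 := d21_8 F83010 (iv1 D43889) (iv5 D20790) (iv6 D9878) (iv1 F14660) D20007 D42373 D90540 (iv6 F114370) (iv1 D62614)
theorem F139352 : act 0 n52594 = n48313 := d21_4 F139351 (iv1 D49088) (iv5 F40358) D52594 (iv6 D48313) (iv5 D23477) (iv1 F66791) D20010 (iv6 F65454) D90540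
theorem F139353 : act 2 n52535 = n90540 := d15_3 (iv0 D90540) (iv0 F100511) (iv7 F106581)
theorem F139354 : act 1 n48690 = n90540 := d15_0 (iv0 D90540) (iv7 F104836) F104834
theorem F139355 : act 7 n90540 = n52536 := d15_2 (iv0 F100512) F139354 F106575
def n90541 : Q := act 4 n42373
theorem D90541 : act 4 n42373 = n90541 := rfl
theorem F139356 : act 2 n90541 = n52537 := d1_1 D90541 (iv4 D52537) (iv2 F65453)
theorem F139357 : act 6 n90541 = n42386 := d10_2 (iv6 F65454) D90541 (iv4 D42386)
def n90542 : Q := act 3 n42384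
theorem D90542 : act 3 n42384 = n90542 := rfl
def n90543 : Q := act 6 n42384
theorem D90543 : act 6 n42384 = n90543 := rfl
def n90544 : Q := act 6 n42385
theorem D90544 : act 6 n42385 = n90544 := rfl
theorem F139358 : act 5 n90544 = n87038 := d12_1 D90544 (iv6 D87038) (iv5 D40432) D40433 F65457
def n90545 : Q := act 0 n42386
theorem D90545 : act 0 n42386 = n90545 := rfl
def n90546 : Q := act 1 n42386
theorem D90546 : act 1 n42386 = n90546 := rfl
theorem F139359 : act 4 n90546 = n43389 := d18_7 (iv1 F32585) F66505 F66796 F15469 D20010 D42386 D90546 F68176 F65314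
theorem F139360 : act 2 n90448 = n90546 := d1_3 F139359 F68178 D90448
theorem F139361 : act 7 n90444 = n90546 := d11_0 F139359 (iv7 F68186) D90444
theorem F139362 : act 2 n90444 = n90545 := d15_3 (iv0 D90545) D90546 (iv7 F139361)
theorem F139363 : act 4 n90545 = n43388 := d1_2 D90444 F139362 F68185
theorem F139364 : act 7 n90545 = n90448 := d4_2 (iv7 F139361) F139362 F139360
def n90547 : Q := act 3 n42386
theorem D90547 : act 3 n42386 = n90547 := rfl
def n90548 : Q := act 5 n42386
theorem D90548 : act 5 n42386 = n90548 := rfl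
def n90549 : Q := act 7 n42386
theorem D90549 : act 7 n42386 = n90549 := rfl
theorem F139365 : act 4 n90549 = n42387 := d11_1 D90549 (iv7 D42387) D42386
theorem F139366 : act 1 n90448 = n90549 := d15_1 (iv0 F139210) (iv7 D90549) (iv2 F68273)
theorem F139367 : act 1 n90549 = n90444 := d15_1 F139366 F139361 (iv2 F139360)
def n90550 : Q := act 6 n42387
theorem D90550 : act 6 n42387 = n90550 := rfl
theorem F139368 : act 5 n90550 = n88481 := d12_1 D90550 (iv6 D88481) (iv5 D41301) F63139 (iv5 F65458)
def n90551 : Q := act 0 n42388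
theorem D90551 : act 0 n42388 = n90551 := rfl
def n90552 : Q := act 1 n42388
theorem D90552 : act 1 n42388 = n90552 := rfl
theorem F139369 : act 1 n90552 = n76494 := d15_1 D90552 (iv7 D76494) (iv2 F65459)
def n90553 : Q := act 5 n42388
theorem D90553 : act 5 n42388 = n90553 := rfl
theorem F139370 : act 2 n90553 = n76493 := d2_1 D90553 (iv5 D76493) (iv2 F65459)
theorem F139371 : act 6 n90553 = n53081 := d12_2 D42388 D90553 F83777 (iv6 D26869) F31838
def n90554 : Q := act 7 n42388
theorem D90554 : act 7 n42388 = n90554 := rfl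
theorem F139372 : act 2 n90554 = n76494 := d4_1 D90554 (iv7 D76494) (iv2 F65459)
theorem F139373 : act 6 n90554 = n76486 := d14_1 D90554 (iv7 D76486) (iv6 D34936) (iv7 F31836) D42388
theorem F139374 : act 1 n76494 = n90551 := d15_0 (iv0 D90551) D90554 F139372
theorem F139376 : act 1 n90554 = n76491 := d15_0 (iv0 D76491) D76494 (iv2 F139372)
def n90555 : Q := act 2 n42390
theorem D90555 : act 2 n42390 = n90555 := rfl
theorem F139377 : act 6 n90555 = n76450 := d3_2 (iv6 F65461) D90555 F114600
theorem F139378 : act 7 n42391 = n90555 := d15_2 (iv0 D42390) D42391 (iv2 D90555)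
def n90556 : Q := act 3 n42390
theorem D90556 : act 3 n42390 = n90556 := rfl
theorem F139379 : act 6 n90556 = n76460 := d7_2 (iv6 F65461) D90556 F114606
theorem F139380 : act 4 n90556 = n47513 := d20_6 F35633 F63131 F15491 (iv3 F31845) D42390 D90556 (iv1 D47513) (iv4 F63661) (iv3 D41320) (iv1 F35631)
def n90557 : Q := act 5 n42390
theorem D90557 : act 5 n42390 = n90557 := rfl
theorem F139381 : act 6 n90557 = n76468 := d12_2 (iv6 F65461) D90557 (iv5 D76468) (iv6 D34931) D34930
theorem F139382 : act 0 n76468 = n76378 := d21_10 (iv5 D76378) (iv1 D34896) D34897 F55215 D34899 (iv6 F65463) (iv5 D42392) D42390 D90557 F139381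
def n90558 : Q := act 7 n42390
theorem D90558 : act 7 n42390 = n90558 := rfl
theorem F139383 : act 2 n90558 = n42391 := d4_1 D90558 F139378 (iv2 D90555)
def n90559 : Q := act 3 n42391
theorem D90559 : act 3 n42391 = n90559 := rfl
def n90560 : Q := act 4 n42391
theorem D90560 : act 4 n42391 = n90560 := rfl
theorem F139384 : act 3 n90560 = n48381 := d20_3 (iv4 F135560) (iv1 F135567) D90560 (iv1 F76047) F75420 F75101 (iv1 F135444) (iv4 F135438) (iv3 F135439) (iv1 F76031)
def n90561 : Q := act 5 n42391
theorem D90561 : act 5 n42391 = n90561 := rfl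
def n90562 : Q := act 6 n42391
theorem D90562 : act 6 n42391 = n90562 := rfl
theorem F139385 : act 7 n90562 = n76449 := d14_2 (iv7 F139378) D90562 (iv6 D76449) D76450 (iv6 F139377)
def n90563 : Q := act 0 n42392
theorem D90563 : act 0 n42392 = n90563 := rfl
def n90564 : Q := act 1 n42392
theorem D90564 : act 1 n42392 = n90564 := rfl
def n90565 : Q := act 4 n42392
theorem D90565 : act 4 n42392 = n90565 := rfl
theorem F139386 : act 6 n90565 = n76339 := d10_2 (iv6 F65463) D90565 F114436
def n90566 : Q := act 5 n42393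
theorem D90566 : act 5 n42393 = n90566 := rfl
theorem F139387 : act 3 n90566 = n52530 := d6_1 D90566 (iv5 D52530) F65465
theorem F139388 : act 4 n90566 = n59612 := d16_2 (iv4 F65464) D90566 F94023 F48779 D63950 (iv4 F139349) (iv5 D90539) F83426 (iv2 F83412)
theorem F139389 : act 1 n90566 = n69710 := d17_6 (iv1 F77478) (iv5 F83103) F139345 (iv5 D90538) (iv4 F65464) D90566 (iv5 D69710) D69709 (iv4 F106071)
def n90567 : Q := act 3 n42394
theorem D90567 : act 3 n42394 = n90567 := rfl
theorem F139390 : act 2 n90567 = n52532 := d0_1 D90567 (iv3 D52532) (iv2 F83425) (iv3 F68247) F83424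
theorem F139391 : act 4 n90567 = n52532 := d5_2 F65469 D90567 (iv3 D52532) F68246 F68247
theorem F139392 : act 6 n90567 = n52839 := d7_2 (iv6 F83461) D90567 (iv3 D52839)
theorem F139393 : act 7 n90567 = n52544 := d8_2 (iv7 F83423) D90567 (iv3 F83031)
theorem F139394 : act 0 n90567 = n49095 := d20_4 (iv4 F36964) (iv1 F65452) F65469 D90567 F77504 (iv4 F83043) (iv1 F83044) F50395 F65410 F65413
theorem F139395 : act 0 n49092 = n90567 := d20_4 (iv4 F41329) F77025 F77023 (iv3 F77495) (iv3 D90567) (iv4 F65469) (iv1 D42372) F31835 F31819 (iv1 F40276)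
def n90568 : Q := act 5 n42394
theorem D90568 : act 5 n42394 = n90568 := rfl
theorem F139396 : act 0 n90568 = n69710 := d17_2 (iv1 F68254) D90568 (iv5 D69710) (iv4 F51390) D69726 F139182 (iv5 D90428) F65303 (iv4 F68252)
def n90569 : Q := act 0 n42395
theorem D90569 : act 0 n42395 = n90569 := rfl
theorem F139397 : act 5 n90569 = n76299 := d17_3 (iv1 D42394) D42395 D90569 F114387 (iv5 F139351) (iv0 D90540) (iv5 D42373) D42372 F65469
theorem F139398 : act 3 n90569 = n52535 := d20_5 D34874 D76339 F114436 (iv3 F65470) D90569 (iv4 F106582) (iv1 F106599) F114432 (iv3 D76337) (iv1 D34873)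
theorem F139399 : act 4 n64534 = n90569 := d5_0 F139398 (iv4 F106582) F99561 (iv4 F48815) (iv3 F100478)
theorem F139400 : act 7 n76298 = n90569 := d8_0 F139398 F106581 (iv3 F114380)
def n90570 : Q := act 1 n42395
theorem D90570 : act 1 n42395 = n90570 := rfl
theorem F139401 : act 5 n90570 = n49116 := d17_7 (iv1 D52673) D52674 F83239 (iv5 D42286) (iv4 F31846) D42395 D90570 (iv0 F103976) F103974
theorem F139402 : act 2 n76298 = n90570 := d2_3 F139401 (iv2 F106574) D76298
def n90571 : Q := act 4 n42395
theorem D90571 : act 4 n42395 = n90571 := rfl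
theorem F139403 : act 6 n90571 = n42399 := d10_2 (iv6 F65471) D90571 (iv4 D42399)
def n90572 : Q := act 6 n42397
theorem D90572 : act 6 n42397 = n90572 := rfl
def n90573 : Q := act 3 n42398
theorem D90573 : act 3 n42398 = n90573 := rfl
theorem F139404 : act 5 n90573 = n90154 := d6_2 F65479 D90573 F138605
def n90574 : Q := act 6 n42398
theorem D90574 : act 6 n42398 = n90574 := rfl
theorem F139405 : act 5 n90574 = n90156 := d12_1 D90574 (iv6 D90156) (iv5 D42138) D42139 F65479
def n90575 : Q := act 0 n42399
theorem D90575 : act 0 n42399 = n90575 := rfl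
theorem F139406 : act 4 n90575 = n43368 := d18_3 (iv1 D42398) D42399 D90575 (iv5 F136283) (iv4 D88870) (iv0 F65477) F62871 F65058 F65479
theorem F139407 : act 1 n88480 = n90575 := d15_0 (iv0 D90575) (iv7 F135571) F135570
theorem F139408 : act 2 n90501 = n90575 := d1_3 F139406 (iv2 F68128) D90501
theorem F139409 : act 7 n90504 = n90575 := d11_0 F139406 F68127 D90504
def n90576 : Q := act 1 n42399
theorem D90576 : act 1 n42399 = n90576 := rfl
theorem F139410 : act 1 n90576 = n88480 := d15_1 D90576 F135465 F68265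
theorem F139411 : act 7 n90576 = n90501 := d15_2 (iv0 D90575) D90576 F139408
theorem F139412 : act 4 n90576 = n43369 := d18_7 (iv1 F35631) F35633 F63131 F15491 D20019 D42399 D90576 F68123 (iv5 D41321)
theorem F139413 : act 2 n90504 = n90576 := d1_3 F139412 F68125 D90504
def n90577 : Q := act 3 n42399
theorem D90577 : act 3 n42399 = n90577 := rfl
def n90578 : Q := act 5 n42399
theorem D90578 : act 5 n42399 = n90578 := rfl
theorem F139414 : act 4 n90578 = n43870 := d9_1 D90578 F68972 F32948 (iv5 F33041) (iv4 F63138) D41301 D88480 F135466 (iv4 D44065) (iv5 D20931) F15687 F17014 F15491 D20019 D42399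
theorem F139415 : act 7 n90578 = n43869 := d13_2 F135571 D90578 (iv5 F135572)
def n90579 : Q := act 0 n42400
theorem D90579 : act 0 n42400 = n90579 := rfl
theorem F139416 : act 5 n90579 = n48727 := d17_3 F55120 D42400 D90579 (iv4 D48727) F76680 (iv0 D34860) (iv5 D16900) D16898 D34857
theorem F139417 : act 4 n90579 = n72447 := d18_1 D90579 (iv1 F108969) (iv4 D52675) (iv5 D25569) (iv4 F37423) F37425 D34852 (iv0 F55118) D42400
theorem F139418 : act 3 n90579 = n69757 := d20_5 (iv4 F129520) F129521 (iv4 D53004) (iv3 F65480) D90579 (iv4 D69757) F54523 D32594 (iv3 F51650) (iv1 F77188)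
theorem F139419 : act 2 n52814 = n90579 := d15_3 (iv0 D90579) (iv0 F83435) (iv7 F83450)
theorem F139420 : act 1 n49117 = n90579 := d15_0 (iv0 D90579) (iv7 F76773) (iv2 F77543)
theorem F139421 : act 7 n90579 = n52809 := d15_2 F83436 F139420 F83437
def n90580 : Q := act 4 n42400
theorem D90580 : act 4 n42400 = n90580 := rfl
theorem F139422 : act 2 n90580 = n57607 := d1_1 D90580 F92116 F68285
theorem F139423 : act 6 n90580 = n44056 := d10_2 (iv6 F65481) D90580 (iv4 D44056)
theorem F139424 : act 7 n90580 = n57602 := d11_2 F76773 D90580 F90745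
theorem F139425 : act 5 n90580 = n57256 := d16_1 D90580 F109316 F94807 (iv4 D52690) (iv5 D25575) (iv4 F37429) D49117 F77545 F68285
theorem F139426 : act 0 n90580 = n52681 := d17_0 (iv5 F90127) (iv1 F90131) F90765 F107030 F107028 F76755 (iv5 F139416) (iv0 D90579) D90580
theorem F139427 : act 1 n90580 = n52678 := d18_6 D12154 D25563 F40442 (iv4 F31858) D42400 D90580 (iv4 D52678) (iv0 D25571) (iv5 D12157)
def n90581 : Q := act 0 n42402
theorem D90581 : act 0 n42402 = n90581 := rfl
theorem F139428 : act 4 n90581 = n76511 := d20_0 (iv1 F114682) F94184 (iv3 D59809) F45861 (iv3 F82979) (iv4 D42414) (iv1 D20026) (iv4 F31864) (iv3 F65489) D90581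
theorem F139429 : act 3 n68092 = n90581 := d20_5 F36957 F18027 D14898 D31686 D68092 F139428 (iv1 F114682) F94184 (iv3 D59809) F45861
theorem F139430 : act 6 n90581 = n49315 := d7_2 (iv6 F104216) F139429 (iv3 F80522)
theorem E14635 : n76511 = n49317 := ((c10_3 F139430 (iv4 D49315) D49317 (iv4 F139428))).symm
theorem F139431 : act 0 n49317 = n59809 := (sb E14635 (iv1 F114682))
theorem F139432 : act 1 n49317 = n34950 := (sb E14635 (iv0 D76511))
theorem F139433 : act 4 n49317 = n90581 := (sb E14635 (iv4 F139428))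
def n90582 : Q := act 1 n42402
theorem D90582 : act 1 n42402 = n90582 := rfl
theorem F139434 : act 1 n90582 = n90279 := d15_1 D90582 (iv7 D90279) (iv2 F65488)
theorem F139435 : act 4 n76512 = n90582 := d20_0 (iv1 D90582) F65490 F65146 D42206 F82968 F37661 (iv1 F22681) D28363 D59809 (iv1 F114674)
theorem F139436 : act 3 n69688 = n90582 := d20_3 (iv4 F104070) F115164 F115163 (iv1 D90582) F65489 F31864 D20025 D42409 (iv3 F95888) (iv1 F95892)
theorem F139437 : act 6 n90582 = n69687 := d7_2 D69688 F139436 (iv3 D69687)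
def n90583 : Q := act 5 n42402
theorem D90583 : act 5 n42402 = n90583 := rfl
theorem F139438 : act 2 n90583 = n90278 := d2_1 D90583 (iv5 D90278) (iv2 F65488)
theorem F139439 : act 3 n90583 = n42405 := d6_1 D90583 (iv5 D42405) (iv3 F65489)
theorem F139440 : act 6 n90583 = n43315 := d12_2 D42402 D90583 (iv5 D43315) (iv6 D20451) (iv5 F31861)
def n90584 : Q := act 7 n42402
theorem D90584 : act 7 n42402 = n90584 := rfl
theorem F139441 : act 2 n90584 = n90279 := d4_1 D90584 (iv7 D90279) (iv2 F65488)
theorem F139442 : act 3 n90584 = n42406 := d8_1 D90584 (iv7 D42406) (iv3 F65489)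
theorem F139443 : act 4 n90584 = n90279 := d11_1 D90584 (iv7 D90279) (iv4 F65490)
theorem F139444 : act 6 n90584 = n90279 := d14_1 D90584 (iv7 D90279) (iv6 D42201) (iv7 F31862) D42402
theorem F139445 : act 1 n90279 = n90581 := d15_0 (iv0 D90581) D90584 F139441
theorem F139446 : act 1 n90277 = n90584 := d15_1 D90277 (iv7 D90584) F65488
theorem F139447 : act 1 n90584 = n90276 := d15_0 (iv0 D90276) D90279 (iv2 F139441)
theorem F139448 : act 3 n61288 = n90276 := d20_3 (iv4 D68011) (iv1 F115250) (iv4 F95772) (iv1 F139447) F139442 F65495 (iv1 F65150) D90294 F138875 F104116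
theorem F139449 : act 2 n90276 = n90581 := d0_1 F139448 (iv3 F139429) (iv2 F104215) (iv3 F97654) F97653
theorem F139450 : act 6 n90276 = n61286 := d7_2 D61288 F139448 (iv3 D61286)
theorem F139451 : act 7 n90276 = n90582 := d8_2 F106045 F139448 (iv3 F139436)
theorem F139452 : act 2 n90582 = n90277 := d15_3 F139446 F139447 F139451
theorem F139453 : act 7 n90581 = n90277 := d4_2 (iv7 F139451) F139449 (iv2 F139452)
def n90585 : Q := act 5 n42404
theorem D90585 : act 5 n42404 = n90585 := rfl
theorem F139454 : act 2 n90585 = n43433 := d2_1 D90585 (iv5 D43433) (iv2 F83005)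
theorem F139455 : act 3 n90585 = n71083 := d6_1 D90585 (iv5 F114522) F114518
theorem F139456 : act 7 n90585 = n43428 := d13_2 (iv7 F83006) D90585 (iv5 D43428)
theorem F139457 : act 0 n90585 = n52817 := d17_2 (iv1 F65491) D90585 (iv5 D52817) (iv4 F76684) D52838 (iv0 F114352) (iv5 D42415) F65157 F65155
def n90586 : Q := act 1 n42405
theorem D90586 : act 1 n42405 = n90586 := rfl
theorem F139458 : act 1 n90586 = n43438 := d15_1 D90586 (iv7 D43438) (iv2 F65492)
theorem F139459 : act 7 n90586 = n43435 := d15_2 (iv0 F83787) D90586 (iv2 F83784)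
theorem F139460 : act 5 n90586 = n44069 := d17_7 (iv1 F83457) F65506 (iv1 D42418) (iv5 D20027) (iv4 F31864) D42405 D90586 F76727 (iv4 F83456)
theorem F139461 : act 2 n43436 = n90586 := d2_3 F139460 F69410 F68290
theorem F139462 : act 3 n71349 = n90586 := d6_3 F139460 F69411 D71349
def n90587 : Q := act 4 n42405
theorem D90587 : act 4 n42405 = n90587 := rfl
theorem F139463 : act 2 n90587 = n43437 := d1_1 D90587 (iv4 D43437) (iv2 F65492)
theorem F139464 : act 6 n90587 = n43324 := d10_2 (iv6 F65493) D90587 (iv4 D43324)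
def n90588 : Q := act 7 n42405
theorem D90588 : act 7 n42405 = n90588 := rfl
theorem F139465 : act 2 n90588 = n43438 := d4_1 D90588 (iv7 D43438) (iv2 F65492)
theorem F139466 : act 5 n90588 = n42406 := d13_1 D90588 (iv7 D42406) D42405
theorem F139467 : act 1 n43436 = n90588 := d15_1 D43436 (iv7 D90588) F65492
theorem F139468 : act 1 n90588 = n43435 := d15_1 F139467 (iv7 F139459) (iv2 F139461)
theorem F139469 : act 0 n71946 = n76236 := d17_2 (iv1 F138570) F138568 (iv5 D76236) F55038 F68290 F139467 F139466 F65499 D43427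
def n90589 : Q := act 5 n42408
theorem D90589 : act 5 n42408 = n90589 := rfl
theorem F139470 : act 2 n90589 = n76217 := d2_1 D90589 F114177 (iv2 F82995)
theorem F139471 : act 3 n90589 = n42410 := d6_1 D90589 (iv5 D42410) D42408
theorem F139472 : act 7 n90589 = n76218 := d13_2 F94171 D90589 (iv5 F114182)
theorem F139473 : act 0 n90589 = n54678 := d17_2 (iv1 F82997) D90589 (iv5 D54678) (iv4 F42294) (iv5 F55094) (iv0 F114260) F114257 (iv0 F93552) (iv4 F55284)
theorem F139474 : act 1 n90589 = n54677 := d17_6 D12627 D26458 D54707 F86517 (iv4 F82996) D90589 (iv5 D54677) (iv0 D26445) F21019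
def n90590 : Q := act 0 n42409
theorem D90590 : act 0 n42409 = n90590 := rfl
theorem F139475 : act 4 n90590 = n90125 := d20_2 D42409 D90590 F138567 (iv1 F108452) (iv3 F138875) (iv4 D90294) (iv1 D42207) F31753 F15229 D20025
theorem F139476 : act 2 n46831 = n90590 := d15_3 (iv0 D90590) F82985 D46831
theorem F139477 : act 1 n42414 = n90590 := d15_0 (iv0 D90590) (iv7 F138877) F138874
theorem F139478 : act 7 n90590 = n43237 := d15_2 (iv0 F82978) F139477 F67746
theorem F139479 : act 6 n90125 = n90590 := d14_5 F139478 (iv6 D43237) F32401 D42127 D90125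
def n90591 : Q := act 5 n42409
theorem D90591 : act 5 n42409 = n90591 := rfl
theorem F139480 : act 3 n90591 = n71940 := d6_1 D90591 F108445 F95888
theorem F139481 : act 1 n90591 = n52745 := d17_6 D25646 D52838 (iv1 F114353) (iv5 D42410) D42409 D90591 (iv5 D52745) (iv0 D25605) (iv4 F20189)
theorem F139482 : act 0 n90591 = n52746 := d21_1 D90591 (iv5 D52746) F82924 (iv1 D42285) (iv6 D19958) (iv5 D9419) (iv1 F7312) D10680 D22485 (iv1 F82985)
def n90592 : Q := act 4 n42410
theorem D90592 : act 4 n42410 = n90592 := rfl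
def n90593 : Q := act 6 n42410
theorem D90593 : act 6 n42410 = n90593 := rfl
def n90594 : Q := act 5 n42411
theorem D90594 : act 5 n42411 = n90594 := rfl
theorem F139483 : act 2 n90594 = n44073 := d2_1 D90594 F82966 (iv2 F82990)
theorem F139484 : act 3 n90594 = n62768 := d6_1 D90594 F97940 (iv3 F82991)
theorem F139485 : act 7 n90594 = n44072 := d13_2 (iv7 F82993) D90594 F82956
theorem F139486 : act 0 n90594 = n43882 := d17_2 (iv1 F82989) D90594 (iv5 D43882) F32956 D20790 D43889 (iv5 F83010) D62614 (iv4 F97647)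
theorem F139487 : act 0 n44075 = n90594 := d21_1 (iv5 F69420) (iv5 D90594) (iv6 D42411) (iv1 F65158) (iv6 F65496) (iv5 F139466) (iv1 F139467) (iv5 F68290) F55019 F68917
def n90595 : Q := act 5 n42414
theorem D90595 : act 5 n42414 = n90595 := rfl
theorem F139488 : act 3 n90595 = n48687 := d6_1 D90595 (iv5 D48687) (iv3 F82979)
theorem F139489 : act 1 n90595 = n52746 := d17_6 (iv1 F69006) D52841 F106584 (iv5 D42415) D42414 D90595 (iv5 D52746) F83332 F83330
theorem F139490 : act 0 n90595 = n52745 := d21_7 (iv5 F86692) (iv1 F86693) F52458 (iv6 F76602) (iv1 D48682) (iv6 F82980) D90595 (iv5 D52745) (iv6 F77183) F76701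
def n90596 : Q := act 4 n42415
theorem D90596 : act 4 n42415 = n90596 := rfl
def n90597 : Q := act 6 n42415
theorem D90597 : act 6 n42415 = n90597 := rfl
def n90598 : Q := act 4 n42417
theorem D90598 : act 4 n42417 = n90598 := rfl
theorem F139491 : act 2 n90598 = n52843 := d1_1 D90598 (iv4 D52843) F65503
def n90599 : Q := act 6 n42417
theorem D90599 : act 6 n42417 = n90599 := rfl
theorem F139492 : act 2 n90599 = n52836 := d3_1 D90599 F83488 F65503
theorem F139493 : act 5 n90599 = n52819 := d12_1 D90599 (iv6 D52819) (iv5 D25640) D25641 (iv5 F65502)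
def n90600 : Q := act 4 n42418
theorem D90600 : act 4 n42418 = n90600 := rfl
theorem F139494 : act 7 n90600 = n52843 := d11_2 (iv7 F65504) D90600 (iv4 D52843)
def n90601 : Q := act 6 n42418
theorem D90601 : act 6 n42418 = n90601 := rfl
theorem F139495 : act 3 n90601 = n52867 := d7_1 D90601 (iv6 D52867) F65505
def n90602 : Q := act 0 n42419
theorem D90602 : act 0 n42419 = n90602 := rfl
theorem F139496 : act 4 n90602 = n53102 := d18_3 (iv1 D42418) D42419 D90602 (iv5 D53102) F40684 F83432 F83464 F83462 F65506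
def n90603 : Q := act 1 n42419
theorem D90603 : act 1 n42419 = n90603 := rfl
def n90604 : Q := act 7 n42419
theorem D90604 : act 7 n42419 = n90604 := rfl
theorem F139497 : act 4 n90604 = n42420 := d11_1 D90604 (iv7 D42420) D42419
def n90605 : Q := act 6 n42420
theorem D90605 : act 6 n42420 = n90605 := rfl
theorem F139498 : act 7 n90605 = n42467 := d14_2 D42420 D90605 (iv6 D42467) (iv7 D20042) (iv6 F31865)
def n90606 : Q := act 2 n42421
theorem D90606 : act 2 n42421 = n90606 := rfl
theorem F139499 : act 7 n42422 = n90606 := d15_2 (iv0 D42421) D42422 (iv2 D90606)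
def n90607 : Q := act 3 n42421
theorem D90607 : act 3 n42421 = n90607 := rfl
theorem F139500 : act 4 n90607 = n47839 := d20_6 F32537 F65861 (iv4 D20031) D20030 D42421 D90607 (iv1 D47839) (iv4 F65227) (iv3 D42236) (iv1 F65692)
def n90608 : Q := act 4 n42421
theorem D90608 : act 4 n42421 = n90608 := rfl
def n90609 : Q := act 5 n42421
theorem D90609 : act 5 n42421 = n90609 := rfl
def n90610 : Q := act 6 n42421
theorem D90610 : act 6 n42421 = n90610 := rfl
def n90611 : Q := act 7 n42421
theorem D90611 : act 7 n42421 = n90611 := rfl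
theorem F139501 : act 2 n90611 = n42422 := d4_1 D90611 F139499 (iv2 D90606)
def n90612 : Q := act 3 n42422
theorem D90612 : act 3 n42422 = n90612 := rfl
theorem F139502 : act 4 n46905 = n90612 := d20_2 (iv4 F62993) D46905 (iv3 D90612) (iv1 D42422) (iv3 D20030) D20031 D42427 (iv4 F65869) F68391 (iv1 D43518)
def n90613 : Q := act 4 n42422
theorem D90613 : act 4 n42422 = n90613 := rfl
def n90616 : Q := act 5 n42423
theorem D90616 : act 5 n42423 = n90616 := rfl
theorem F139503 : act 2 n90616 = n42425 := d2_1 D90616 (iv5 D42425) D42423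
def n90617 : Q := act 6 n42423
theorem D90617 : act 6 n42423 = n90617 := rfl
theorem F139504 : act 2 n90617 = n42426 := d3_1 D90617 (iv6 D42426) D42423
theorem F139505 : act 4 n90617 = n46873 := d10_1 D90617 (iv6 D46873) F65530
def n90618 : Q := act 5 n42424
theorem D90618 : act 5 n42424 = n90618 := rfl
theorem F139506 : act 2 n90618 = n46872 := d2_1 D90618 (iv5 D46872) (iv2 F65529)
theorem F139507 : act 3 n90618 = n48210 := d6_1 D90618 (iv5 D48210) F66347
theorem F139508 : act 7 n90618 = n46874 := d13_2 (iv7 F65528) D90618 (iv5 D46874)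
def n90619 : Q := act 6 n42424
theorem D90619 : act 6 n42424 = n90619 := rfl
theorem F139509 : act 2 n90619 = n46873 := d3_1 D90619 (iv6 D46873) (iv2 F65529)
theorem F139510 : act 3 n90619 = n45816 := d7_1 D90619 F72355 F66347
theorem F139512 : act 7 n90619 = n88370 := d14_2 (iv7 F65528) D90619 F135329 F75838 (iv6 D46875)
theorem F139513 : act 5 n90619 = n46289 := d21_6 D22126 (iv1 F35066) (iv5 D22508) D22509 F73966 D90619 (iv1 D46289) (iv5 D22137) (iv6 D10553) D10549
theorem E14636 : n87422 = n46289 := ((c6_1 F139513 (iv3 D87422) (iv5 F72357) (iv3 F139510))).symm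
theorem F139514 : act 3 n46289 = n40631 := (sb E14636 (iv3 D87422))
theorem F139515 : act 0 n90619 = n47636 := d20_4 (iv4 F72323) (iv1 F72325) D45816 (iv3 F139510) F74918 F35993 (iv1 F62678) (iv4 F69157) (iv3 D43982) D43981
def n90620 : Q := act 0 n42425
theorem D90620 : act 0 n42425 = n90620 := rfl
def n90621 : Q := act 1 n42425
theorem D90621 : act 1 n42425 = n90621 := rfl
def n90622 : Q := act 4 n42425
theorem D90622 : act 4 n42425 = n90622 := rfl
def n90623 : Q := act 6 n42425
theorem D90623 : act 6 n42425 = n90623 := rfl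
theorem F139516 : act 3 n90623 = n42435 := d7_1 D90623 (iv6 D42435) (iv3 F65531)
def n90624 : Q := act 0 n42426
theorem D90624 : act 0 n42426 = n90624 := rfl
def n90625 : Q := act 1 n42426
theorem D90625 : act 1 n42426 = n90625 := rfl
def n90626 : Q := act 5 n42426
theorem D90626 : act 5 n42426 = n90626 := rfl
theorem F139517 : act 3 n90626 = n42436 := d6_1 D90626 (iv5 D42436) (iv3 F65532)
theorem F139518 : act 7 n90626 = n43915 := d13_2 F135604 D90626 (iv5 F135603)
def n90627 : Q := act 5 n42427
theorem D90627 : act 5 n42427 = n90627 := rfl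
theorem F139521 : act 6 n90627 = n90102 := d12_2 F65867 D90627 F138524 F138519 F73960
def n90628 : Q := act 4 n42430
theorem D90628 : act 4 n42430 = n90628 := rfl
theorem F139526 : act 2 n90628 = n47861 := d1_1 D90628 (iv4 D47861) (iv2 F65546)
theorem F139527 : act 5 n90628 = n42581 := d17_5 (iv1 F66412) (iv5 D22231) F65861 D42430 D90628 (iv0 D42581) (iv5 D20099) D20097 D42573
theorem F139528 : act 0 n90628 = n42503 := d18_2 F75276 D90628 (iv4 D42503) F31888 (iv4 F65122) (iv0 F69429) (iv4 F62941) (iv0 F73997) (iv5 F75268)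
theorem F139530 : act 2 n42581 = n90366 := d2_1 F139527 F139060 (iv2 F139526)
theorem F139531 : act 7 n90367 = n42581 := d15_2 (iv0 D90366) D90367 F139530
theorem F139532 : act 7 n42582 = n90366 := d15_2 (iv0 D42581) D42582 (iv2 F139530)
theorem F139533 : act 2 n90367 = n42582 := d4_3 F139532 (iv2 F139530) (iv7 F139531)
theorem F139534 : act 6 n48299 = n90628 := d3_0 F139526 F75953 F76254
def n90629 : Q := act 6 n42430
theorem D90629 : act 6 n42430 = n90629 := rfl
theorem F139537 : act 4 n90629 = n48299 := d10_1 D90629 F139534 (iv4 D90628)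
theorem F139540 : act 0 n90629 = n44009 := d21_10 (iv5 D44009) (iv1 D20896) (iv5 F32690) (iv6 D20609) F31146 (iv6 F34679) (iv5 D22231) F65861 D42430 D90629
theorem F139541 : act 1 n90629 = n44007 := d15_1 (iv0 F139540) F69233 (iv2 F69238)
def n90630 : Q := act 3 n42432
theorem D90630 : act 3 n42432 = n90630 := rfl
theorem F139542 : act 5 n90630 = n90263 := d6_2 (iv5 F65549) D90630 F138829
def n90631 : Q := act 4 n42432
theorem D90631 : act 4 n42432 = n90631 := rfl
theorem F139543 : act 0 n90631 = n42532 := d18_2 D42432 D90631 (iv4 D42532) (iv5 D20078) (iv4 D9455) F14625 (iv4 F31757) F31761 D20032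
theorem F139544 : act 1 n90631 = n42499 := d18_6 (iv1 D44126) F33146 (iv1 F35724) (iv4 F65122) (iv5 F65549) D90631 (iv4 D42499) D42498 (iv5 F69468)
def n90632 : Q := act 6 n42432
theorem D90632 : act 6 n42432 = n90632 := rfl
theorem F139545 : act 5 n90632 = n90265 := d12_1 D90632 (iv6 D90265) (iv5 D42191) D42192 (iv5 F65549)
def n90633 : Q := act 4 n42433
theorem D90633 : act 4 n42433 = n90633 := rfl
theorem F139546 : act 0 n90633 = n42499 := d18_2 (iv1 F65553) D90633 (iv4 D42499) (iv5 D20059) (iv4 D9450) (iv0 D4283) (iv4 F6182) D9445 D20037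
theorem F139547 : act 1 n90633 = n42532 := d18_6 D89559 F137290 (iv1 F65129) (iv4 F69431) F69434 D90633 (iv4 D42532) F65634 F65635
def n90634 : Q := act 6 n42433
theorem D90634 : act 6 n42433 = n90634 := rfl
def n90635 : Q := act 0 n42434
theorem D90635 : act 0 n42434 = n90635 := rfl
theorem F139548 : act 4 n90635 = n90329 := d18_3 (iv1 D42433) D42434 D90635 F138966 F67770 F73996 F62941 D44085 F69434
theorem F139549 : act 1 n42446 = n90635 := d15_0 (iv0 D90635) (iv7 F138927) F138926
def n90636 : Q := act 1 n42434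
theorem D90636 : act 1 n42434 = n90636 := rfl
theorem F139550 : act 1 n90636 = n42446 := d15_1 D90636 (iv7 F138912) F138911
theorem F139551 : act 4 n90636 = n90330 := d18_7 (iv1 F65692) F32537 F65861 (iv4 D20031) D20032 D42434 D90636 F138970 (iv5 D42237)
def n90637 : Q := act 3 n42434
theorem D90637 : act 3 n42434 = n90637 := rfl
def n90638 : Q := act 5 n42434
theorem D90638 : act 5 n42434 = n90638 := rfl
theorem F139552 : act 4 n42582 = n90638 := d16_0 (iv5 D90638) (iv4 D42434) (iv5 D20032) D20031 D42430 D90628 F139527 (iv7 F139531) F139533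
def n90639 : Q := act 6 n42434
theorem D90639 : act 6 n42434 = n90639 := rfl
theorem F139553 : act 4 n90639 = n42435 := d10_1 D90639 (iv6 D42435) D42434
def n90640 : Q := act 0 n42435
theorem D90640 : act 0 n42435 = n90640 := rfl
def n90641 : Q := act 1 n42435
theorem D90641 : act 1 n42435 = n90641 := rfl
def n90642 : Q := act 5 n42435
theorem D90642 : act 5 n42435 = n90642 := rfl
theorem F139554 : act 2 n90642 = n43920 := d2_1 D90642 (iv5 F138914) F138913
theorem F139555 : act 6 n90642 = n42436 := d12_2 D42435 D90642 (iv5 D42436) (iv6 D20033) D20032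
def n90643 : Q := act 7 n42435
theorem D90643 : act 7 n42435 = n90643 := rfl
def n90644 : Q := act 4 n42436
theorem D90644 : act 4 n42436 = n90644 := rfl
theorem F139556 : act 2 n90644 = n43919 := d1_1 D90644 (iv4 D43919) (iv2 F65554)
theorem F139557 : act 7 n90644 = n43916 := d11_2 (iv7 F65925) D90644 (iv4 D43916)
def n90645 : Q := act 2 n42438
theorem D90645 : act 2 n42438 = n90645 := rfl
theorem F139558 : act 7 n42439 = n90645 := d15_2 (iv0 D42438) D42439 (iv2 D90645)
def n90646 : Q := act 3 n42438
theorem D90646 : act 3 n42438 = n90646 := rfl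
theorem F139559 : act 4 n90646 = n46742 := d20_6 F65869 (iv1 F65533) (iv4 D20036) D20035 D42438 D90646 (iv1 D46742) F65950 (iv3 D42227) D42225
def n90647 : Q := act 4 n42438
theorem D90647 : act 4 n42438 = n90647 := rfl
def n90650 : Q := act 7 n42438
theorem D90650 : act 7 n42438 = n90650 := rfl
theorem F139560 : act 2 n90650 = n42439 := d4_1 D90650 F139558 (iv2 D90645)
def n90651 : Q := act 5 n42439
theorem D90651 : act 5 n42439 = n90651 := rfl
def n90652 : Q := act 6 n42439
theorem D90652 : act 6 n42439 = n90652 := rfl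
def n90653 : Q := act 4 n42440
theorem D90653 : act 4 n42440 = n90653 := rfl
theorem F139561 : act 2 n90653 = n42441 := d1_1 D90653 (iv4 D42441) D42440
theorem F139562 : act 7 n90653 = n47866 := d11_2 F138898 D90653 (iv4 F138897)
theorem F139564 : act 3 n47893 = n90653 := d0_0 F139561 F65557 F63391 D23058 D47893
theorem F139565 : act 1 n90653 = n47864 := d15_0 (iv0 D47864) (iv7 F65558) (iv2 F139561)
def n90654 : Q := act 5 n42440
theorem D90654 : act 5 n42440 = n90654 := rfl
theorem F139566 : act 2 n90654 = n42442 := d2_1 D90654 (iv5 D42442) D42440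
def n90655 : Q := act 6 n42440
theorem D90655 : act 6 n42440 = n90655 := rfl
theorem F139567 : act 2 n90655 = n42443 := d3_1 D90655 (iv6 D42443) D42440
def n90656 : Q := act 0 n42441
theorem D90656 : act 0 n42441 = n90656 := rfl
theorem F139568 : act 4 n90656 = n43490 := d20_0 (iv1 D43490) (iv4 F68333) (iv3 D43477) F32654 F17733 F17655 (iv1 F17644) D22991 (iv3 F65557) D90656
theorem F139569 : act 1 n47866 = n90656 := d15_0 (iv0 D90656) F65558 D47866
def n90657 : Q := act 1 n42441
theorem D90657 : act 1 n42441 = n90657 := rfl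
theorem F139570 : act 1 n90657 = n47866 := d15_1 D90657 (iv7 F139562) F139561
theorem F139571 : act 4 n43489 = n90657 := d20_0 (iv1 D90657) (iv4 D42441) (iv3 D20035) (iv1 D9445) (iv3 F6339) F6340 D4405 D9752 D20566 D43489
theorem F139572 : act 3 n42492 = n43489 := d20_5 F6182 D4283 D9450 D20058 D42492 F139571 (iv1 D90657) (iv4 D42441) (iv3 D20035) (iv1 D9445)
def n90658 : Q := act 5 n42441
theorem D90658 : act 5 n42441 = n90658 := rfl
theorem F139573 : act 3 n90658 = n47781 := d6_1 D90658 (iv5 D47781) (iv3 F65557)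
theorem F139574 : act 7 n90658 = n47867 := d13_2 (iv7 F65558) D90658 (iv5 D47867)
def n90659 : Q := act 6 n42441
theorem D90659 : act 6 n42441 = n90659 := rfl
theorem F139575 : act 3 n90659 = n47782 := d7_1 D90659 (iv6 D47782) (iv3 F65557)
theorem F139576 : act 4 n90659 = n42443 := d10_1 D90659 (iv6 D42443) D42441
def n90660 : Q := act 0 n42442
theorem D90660 : act 0 n42442 = n90660 := rfl
def n90661 : Q := act 1 n42442
theorem D90661 : act 1 n42442 = n90661 := rfl
def n90662 : Q := act 4 n42442
theorem D90662 : act 4 n42442 = n90662 := rfl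
def n90663 : Q := act 6 n42442
theorem D90663 : act 6 n42442 = n90663 := rfl
theorem F139577 : act 3 n90663 = n42447 := d7_1 D90663 (iv6 D42447) (iv3 F65559)
def n90664 : Q := act 0 n42443
theorem D90664 : act 0 n42443 = n90664 := rfl
def n90665 : Q := act 1 n42443
theorem D90665 : act 1 n42443 = n90665 := rfl
def n90666 : Q := act 5 n42443
theorem D90666 : act 5 n42443 = n90666 := rfl
theorem F139578 : act 3 n90666 = n42450 := d6_1 D90666 (iv5 D42450) (iv3 F65560)
def n90667 : Q := act 7 n42443
theorem D90667 : act 7 n42443 = n90667 := rfl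
theorem F139579 : act 3 n90667 = n42451 := d8_1 D90667 (iv7 D42451) (iv3 F65560)
def n90668 : Q := act 4 n42444
theorem D90668 : act 4 n42444 = n90668 := rfl
theorem F139582 : act 5 n90668 = n42582 := d16_1 D90668 F139552 (iv5 D90638) (iv4 D42434) (iv5 D20032) D20031 D42430 (iv7 F73728) F73726
theorem F139584 : act 1 n90668 = n42503 := d18_6 (iv1 F14626) (iv4 F31757) (iv1 F31759) D20036 D42444 D90668 (iv4 D42503) (iv0 D20062) (iv5 D9451)
def n90669 : Q := act 0 n42445
theorem D90669 : act 0 n42445 = n90669 := rfl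
theorem F139585 : act 5 n90669 = n43268 := d17_1 D90669 (iv1 F67846) F65034 (iv4 F33098) (iv5 F69374) F69376 F68978 F66870 (iv4 F65564)
theorem F139586 : act 4 n90669 = n90142 := d18_1 D90669 (iv1 F138597) F66010 (iv5 F32934) (iv4 F68441) F137774 (iv4 D89610) D89609 (iv5 F137390)
theorem F139587 : act 1 n90141 = n43877 := d18_6 F67897 (iv4 F65564) D90669 F139586 (iv5 D90142) D90141 (iv4 D43877) D43876 (iv5 F68980)
theorem F139588 : act 6 n90669 = n46840 := d21_5 D89551 F137283 (iv5 D42444) D42445 D90669 F73993 (iv1 F72776) (iv5 D22080) D22081 (iv1 F73996)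
theorem F139590 : act 1 n47580 = n90669 := d15_0 (iv0 D90669) (iv7 F70399) (iv2 F74829)
theorem F139591 : act 7 n90669 = n44008 := d15_2 (iv0 F74832) F139590 F69234
def n90670 : Q := act 3 n42446
theorem D90670 : act 3 n42446 = n90670 := rfl
def n90671 : Q := act 5 n42446
theorem D90671 : act 5 n42446 = n90671 := rfl
theorem F139593 : act 4 n90671 = n42581 := d9_1 D90671 (iv5 F139527) (iv4 D90628) (iv5 D42430) (iv4 D20031) D20032 D42434 D90638 (iv4 F139552) (iv5 F139582) (iv4 D90668) (iv5 D42444) (iv4 D20036) D20037 D42446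
def n90672 : Q := act 6 n42446
theorem D90672 : act 6 n42446 = n90672 := rfl
theorem F139594 : act 4 n90672 = n42447 := d10_1 D90672 (iv6 D42447) D42446
def n90673 : Q := act 0 n42447
theorem D90673 : act 0 n42447 = n90673 := rfl
def n90674 : Q := act 1 n42447
theorem D90674 : act 1 n42447 = n90674 := rfl
def n90675 : Q := act 5 n42447
theorem D90675 : act 5 n42447 = n90675 := rfl
theorem F139595 : act 6 n90675 = n42450 := d12_2 D42447 D90675 (iv5 D42450) (iv6 D20038) D20037
def n90676 : Q := act 7 n42447
theorem D90676 : act 7 n42447 = n90676 := rfl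
def n90677 : Q := act 4 n42450
theorem D90677 : act 4 n42450 = n90677 := rfl
def n90678 : Q := act 0 n42453
theorem D90678 : act 0 n42453 = n90678 := rfl
def n90679 : Q := act 1 n42453
theorem D90679 : act 1 n42453 = n90679 := rfl
def n90680 : Q := act 2 n42453
theorem D90680 : act 2 n42453 = n90680 := rfl
def n90681 : Q := act 4 n42453
theorem D90681 : act 4 n42453 = n90681 := rfl
def n90682 : Q := act 5 n42453
theorem D90682 : act 5 n42453 = n90682 := rfl
theorem F139596 : act 3 n90682 = n42455 := d6_1 D90682 (iv5 D42455) D42453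
theorem F139597 : act 7 n90682 = n44080 := d13_2 F138935 D90682 (iv5 F138934)
def n90683 : Q := act 6 n42453
theorem D90683 : act 6 n42453 = n90683 := rfl
theorem F139598 : act 3 n90683 = n42456 := d7_1 D90683 (iv6 D42456) D42453
def n90684 : Q := act 0 n42454
theorem D90684 : act 0 n42454 = n90684 := rfl
theorem F139599 : act 4 n90684 = n90325 := d18_3 D20039 D42454 D90684 (iv5 D90325) F65869 (iv0 D42427) (iv4 D20031) (iv0 D9444) D9446
theorem F139600 : act 1 n42459 = n90684 := d15_0 (iv0 D90684) (iv7 F138937) F138936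
theorem F139601 : act 7 n90412 = n90684 := d11_0 F139599 F138953 D90412
def n90685 : Q := act 1 n42454
theorem D90685 : act 1 n42454 = n90685 := rfl
theorem F139602 : act 1 n90685 = n42459 := d15_1 D90685 (iv7 F138931) F138930
theorem F139603 : act 4 n90685 = n43354 := d18_7 F64486 F64485 D41824 (iv4 F71740) (iv5 D42455) D42454 D90685 (iv0 F69469) (iv5 D44127)
theorem F139604 : act 2 n90412 = n90685 := d1_3 F139603 F68087 D90412
def n90686 : Q := act 3 n42454
theorem D90686 : act 3 n42454 = n90686 := rfl
def n90687 : Q := act 5 n42454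
theorem D90687 : act 5 n42454 = n90687 := rfl
theorem F139605 : act 4 n90687 = n42574 := d16_2 D42454 D90687 (iv5 D42574) D42573 F66404 F65571 (iv5 D42460) (iv7 F65577) F65576
def n90688 : Q := act 6 n42454
theorem D90688 : act 6 n42454 = n90688 := rfl
theorem F139606 : act 4 n90688 = n42456 := d10_1 D90688 (iv6 D42456) D42454
def n90689 : Q := act 0 n42456
theorem D90689 : act 0 n42456 = n90689 := rfl
def n90690 : Q := act 1 n42456
theorem D90690 : act 1 n42456 = n90690 := rfl
def n90691 : Q := act 7 n42456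
theorem D90691 : act 7 n42456 = n90691 := rfl
def n90692 : Q := act 0 n42458
theorem D90692 : act 0 n42458 = n90692 := rfl
def n90693 : Q := act 1 n42458
theorem D90693 : act 1 n42458 = n90693 := rfl
def n90694 : Q := act 2 n42458
theorem D90694 : act 2 n42458 = n90694 := rfl
def n90695 : Q := act 4 n42458
theorem D90695 : act 4 n42458 = n90695 := rfl
def n90696 : Q := act 5 n42458
theorem D90696 : act 5 n42458 = n90696 := rfl
theorem F139607 : act 3 n90696 = n42460 := d6_1 D90696 (iv5 D42460) D42458
theorem F139608 : act 4 n45496 = n90696 := d5_0 F139607 (iv4 F65571) F34157 (iv4 F34161) (iv3 F71747)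
theorem F139609 : act 6 n44018 = n90696 := d7_0 F139607 F65569 D44018
def n90697 : Q := act 6 n42458
theorem D90697 : act 6 n42458 = n90697 := rfl
theorem F139610 : act 3 n90697 = n42461 := d7_1 D90697 (iv6 D42461) D42458
def n90698 : Q := act 3 n42459
theorem D90698 : act 3 n42459 = n90698 := rfl
def n90699 : Q := act 5 n42459
theorem D90699 : act 5 n42459 = n90699 := rfl
theorem F139611 : act 4 n90699 = n42569 := d9_1 D90699 (iv5 D42569) D42568 (iv5 F71738) (iv4 F71740) (iv5 D42455) D42454 D90687 F139605 (iv5 D42574) D42573 F66404 F65571 (iv5 D42460) D42459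
def n90700 : Q := act 6 n42459
theorem D90700 : act 6 n42459 = n90700 := rfl
theorem F139612 : act 4 n90700 = n42461 := d10_1 D90700 (iv6 D42461) D42459
def n90701 : Q := act 0 n42461
theorem D90701 : act 0 n42461 = n90701 := rfl
def n90702 : Q := act 1 n42461
theorem D90702 : act 1 n42461 = n90702 := rfl
def n90703 : Q := act 5 n42461
theorem D90703 : act 5 n42461 = n90703 := rfl
theorem F139614 : act 6 n90703 = n44019 := d12_2 D42461 D90703 (iv5 D44019) (iv6 F65569) (iv5 D42460)
def n90704 : Q := act 7 n42461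
theorem D90704 : act 7 n42461 = n90704 := rfl
def n90705 : Q := act 3 n42462
theorem D90705 : act 3 n42462 = n90705 := rfl
def n90706 : Q := act 5 n42462
theorem D90706 : act 5 n42462 = n90706 := rfl
theorem F139615 : act 4 n90706 = n42560 := d16_4 D42554 (iv5 F139145) F139146 D90706 (iv5 D42560) (iv4 D20093) D20094 (iv7 F65126) (iv2 F65125)
def n90707 : Q := act 6 n42462
theorem D90707 : act 6 n42462 = n90707 := rfl
def n90708 : Q := act 3 n42463
theorem D90708 : act 3 n42463 = n90708 := rfl
def n90709 : Q := act 5 n42463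
theorem D90709 : act 5 n42463 = n90709 := rfl
theorem F139616 : act 4 n90709 = n42552 := d9_1 D90709 (iv5 D42552) (iv4 D20088) D20089 D42554 (iv5 F139145) F139146 D90706 F139615 (iv5 D42560) (iv4 D20093) D20094 D42562 (iv5 F139154) (iv4 F139156)
def n90710 : Q := act 6 n42463
theorem D90710 : act 6 n42463 = n90710 := rfl
def n90711 : Q := act 0 n42464
theorem D90711 : act 0 n42464 = n90711 := rfl
def n90712 : Q := act 1 n42464
theorem D90712 : act 1 n42464 = n90712 := rfl
def n90713 : Q := act 5 n42464
theorem D90713 : act 5 n42464 = n90713 := rfl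
theorem F139617 : act 3 n90713 = n42465 := d6_1 D90713 (iv5 D42465) D42464
def n90714 : Q := act 7 n42464
theorem D90714 : act 7 n42464 = n90714 := rfl
theorem F139618 : act 3 n90714 = n42466 := d8_1 D90714 (iv7 D42466) D42464
def n90715 : Q := act 0 n42465
theorem D90715 : act 0 n42465 = n90715 := rfl
theorem F139619 : act 5 n90715 = n42499 := d17_3 (iv1 D42463) D42465 D90715 (iv4 D42499) (iv5 D20059) (iv0 F65637) D42275 D90411 (iv4 F139156)
theorem F139620 : act 4 n90715 = n42539 := d18_3 (iv1 F139072) F139069 D90715 (iv5 D42539) (iv4 D20080) (iv0 F31890) D42503 (iv0 F139528) F139527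
theorem F139621 : act 1 n42583 = n90715 := d15_0 (iv0 D90715) F139065 F139063
def n90716 : Q := act 1 n42465
theorem D90716 : act 1 n42465 = n90716 := rfl
theorem F139622 : act 1 n90716 = n42583 := d15_1 D90716 F138944 F138942
theorem F139623 : act 5 n90716 = n42532 := d17_7 (iv1 F65551) (iv5 D20037) (iv1 D9445) D9446 D20041 D42465 D90716 (iv0 F139543) (iv4 D90631)
theorem F139624 : act 4 n90716 = n42508 := d18_7 F67703 (iv4 D20088) (iv1 F31775) (iv4 F65252) (iv5 F139070) F139069 D90716 (iv0 F138783) (iv5 D90216)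
def n90717 : Q := act 6 n42465
theorem D90717 : act 6 n42465 = n90717 := rfl
def n90718 : Q := act 6 n42466
theorem D90718 : act 6 n42466 = n90718 := rfl
theorem F139625 : act 4 n90718 = n42467 := d10_1 D90718 (iv6 D42467) (iv4 F65578)
def n90719 : Q := act 0 n42467
theorem D90719 : act 0 n42467 = n90719 := rfl
def n90720 : Q := act 1 n42467
theorem D90720 : act 1 n42467 = n90720 := rfl
def n90721 : Q := act 4 n42474
theorem D90721 : act 4 n42474 = n90721 := rfl
theorem F139626 : act 2 n90721 = n42480 := d1_1 D90721 (iv4 D42480) (iv2 F65620)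
theorem F139627 : act 6 n90721 = n48426 := d10_2 (iv6 F139118) D90721 (iv4 F139114)
theorem F139629 : act 5 n90721 = n47926 := d17_5 F65241 (iv5 D23340) (iv1 F66030) D42474 D90721 (iv0 D47926) (iv5 D23079) D23077 (iv4 F65240)
theorem F139630 : act 0 n90721 = n47875 := d18_2 F133574 D90721 (iv4 D47875) (iv5 F63198) (iv4 F64813) F71718 (iv4 F62908) F74003 F69685
def n90722 : Q := act 0 n42476
theorem D90722 : act 0 n42476 = n90722 := rfl
theorem F139632 : act 1 n47840 = n90722 := d15_0 (iv0 D90722) F65624 D47840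
def n90723 : Q := act 1 n42476
theorem D90723 : act 1 n42476 = n90723 := rfl
def n90724 : Q := act 2 n42476
theorem D90724 : act 2 n42476 = n90724 := rfl
theorem F139633 : act 3 n90724 = n47831 := d0_2 D42476 D90724 (iv2 D47831) (iv3 D23016) (iv2 F35764)
theorem F139634 : act 4 n90724 = n42494 := d1_2 (iv4 F65623) D90724 (iv2 D42494)
theorem F139635 : act 7 n90724 = n47840 := d4_2 (iv7 F65624) D90724 (iv2 D47840)
theorem F139636 : act 1 n90724 = n47838 := d15_0 (iv0 D47838) (iv7 F65624) D90724
theorem F139637 : act 1 n90723 = n47840 := d15_1 D90723 (iv7 F139635) (iv2 D90724)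
theorem F139638 : act 4 n43452 = n47838 := d20_0 (iv1 F139636) F139634 (iv3 F138959) (iv1 F138963) (iv3 F68014) (iv4 F68012) (iv1 F35028) F62793 D20543 D43452
theorem F139639 : act 1 n47839 = n90724 := d15_1 D47839 F139635 (iv2 D47840)
theorem E14637 : n90607 = n43453 := (c20_1 (iv4 F139500) (iv1 D43453) D43455 F68311 F63075 (iv3 F62125) F62126 D41003 (iv4 F75113) (iv3 F139633) (iv1 F139639))
theorem F139640 : act 3 n43453 = n42421 := (sb E14637 (iv3 D90607))
theorem F139641 : act 4 n43453 = n47839 := (sb E14637 F139500)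
theorem F139642 : act 3 n48046 = n47839 := d20_5 F30956 D19302 (iv4 F62965) D23183 D48046 (iv4 F139641) (iv1 D43453) D43455 F68311 F63075
def n90725 : Q := act 5 n42476
theorem D90725 : act 5 n42476 = n90725 := rfl
theorem F139643 : act 3 n90725 = n42477 := d6_1 D90725 (iv5 D42477) D42476
theorem F139644 : act 7 n90725 = n47841 := d13_2 (iv7 F65624) D90725 (iv5 D47841)
def n90726 : Q := act 1 n42477
theorem D90726 : act 1 n42477 = n90726 := rfl
theorem F139645 : act 1 n90726 = n47772 := d15_1 D90726 F75035 (iv2 F65625)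
theorem F139646 : act 7 n90726 = n47834 := d15_2 (iv0 F65627) D90726 (iv2 F75118)
def n90727 : Q := act 4 n42477
theorem D90727 : act 4 n42477 = n90727 := rfl
theorem F139649 : act 2 n90727 = n47836 := d1_1 D90727 (iv4 D47836) (iv2 F65625)
theorem F139650 : act 7 n90727 = n47843 := d11_2 (iv7 F65626) D90727 (iv4 D47843)
def n90728 : Q := act 6 n42477
theorem D90728 : act 6 n42477 = n90728 := rfl
theorem F139651 : act 2 n90728 = n47837 := d3_1 D90728 (iv6 D47837) (iv2 F65625)
theorem F139652 : act 5 n90728 = n44810 := d12_1 D90728 (iv6 D44810) (iv5 F36760) F36758 D42477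
def n90729 : Q := act 1 n42480
theorem D90729 : act 1 n42480 = n90729 := rfl
theorem F139654 : act 7 n90729 = n47875 := d15_2 (iv0 F65628) D90729 F75155
theorem F139655 : act 4 n90729 = n47779 := d18_7 (iv1 D10851) (iv4 F17642) F31879 (iv4 D20052) D20053 D42480 D90729 F75054 (iv5 D22992)
def n90730 : Q := act 3 n42480
theorem D90730 : act 3 n42480 = n90730 := rfl
theorem F139658 : act 4 n90730 = n42507 := d5_2 D42480 D90730 (iv3 D42507) (iv4 D20064) (iv3 F31880)
def n90731 : Q := act 5 n42480
theorem D90731 : act 5 n42480 = n90731 := rfl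
theorem F139659 : act 2 n90731 = n47926 := d2_1 D90731 (iv5 F139629) F139626
theorem F139662 : act 1 n90731 = n47787 := d17_6 F134311 (iv5 D42100) F66016 D20053 D42480 D90731 (iv5 D47787) D47785 (iv4 F134310)
def n90732 : Q := act 0 n42485
theorem D90732 : act 0 n42485 = n90732 := rfl
theorem F139663 : act 3 n90732 = n90287 := d20_5 (iv4 F31760) (iv1 F65694) F65695 D42485 D90732 (iv4 D90287) (iv1 D42203) F31751 F31750 D19927
def n90733 : Q := act 1 n42485
theorem D90733 : act 1 n42485 = n90733 := rfl
def n90734 : Q := act 2 n42485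
theorem D90734 : act 2 n42485 = n90734 := rfl
def n90735 : Q := act 5 n42485
theorem D90735 : act 5 n42485 = n90735 := rfl
theorem F139664 : act 3 n90735 = n42486 := d6_1 D90735 (iv5 D42486) D42485
def n90736 : Q := act 4 n42486
theorem D90736 : act 4 n42486 = n90736 := rfl
theorem F139665 : act 2 n90736 = n90684 := d1_1 D90736 F139599 F138952
theorem F139666 : act 7 n90736 = n90685 := d11_2 F68088 D90736 F139603
theorem F139667 : act 0 n90736 = n90317 := d18_2 (iv1 F139147) D90736 (iv4 D90317) (iv5 F65175) (iv4 F62941) (iv0 F73997) (iv4 F137297) F137299 (iv5 F139145)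
theorem F139668 : act 1 n90736 = n90314 := d18_6 D19927 (iv4 F31760) (iv1 F65694) F65695 D42486 D90736 (iv4 D90314) (iv0 D42216) (iv5 D19929)
def n90737 : Q := act 6 n42486
theorem D90737 : act 6 n42486 = n90737 := rfl
def n90738 : Q := act 2 n42492
theorem D90738 : act 2 n42492 = n90738 := rfl
theorem F139669 : act 7 n42493 = n90738 := d15_2 (iv0 D42492) D42493 (iv2 D90738)
def n90739 : Q := act 4 n42492
theorem D90739 : act 4 n42492 = n90739 := rfl
theorem F139670 : act 0 n90739 = n43455 := d20_1 D90739 (iv4 D43455) (iv3 D20543) (iv1 D9747) F6339 F6182 D4283 D9450 D20058 D42492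
def n90740 : Q := act 5 n42492
theorem D90740 : act 5 n42492 = n90740 := rfl
def n90741 : Q := act 6 n42492
theorem D90741 : act 6 n42492 = n90741 := rfl
def n90742 : Q := act 7 n42492
theorem D90742 : act 7 n42492 = n90742 := rfl
theorem F139671 : act 2 n90742 = n42493 := d4_1 D90742 F139669 (iv2 D90738)
def n90743 : Q := act 3 n42493
theorem D90743 : act 3 n42493 = n90743 := rfl
def n90744 : Q := act 4 n42493
theorem D90744 : act 4 n42493 = n90744 := rfl
theorem F139672 : act 0 n43455 = n90744 := d20_10 (iv4 D90744) (iv1 D42493) (iv4 F65623) (iv3 D42476) F31878 (iv3 F17733) F17734 (iv1 F17711) D23159 (iv3 F68311)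
theorem F139673 : act 3 n90656 = n90744 := d20_5 F17655 (iv1 F17644) D22991 (iv3 F65557) D90656 (iv4 D90744) (iv1 D42493) (iv4 F65623) (iv3 D42476) F31878
theorem F139674 : act 0 n90743 = n90282 := d20_10 (iv4 D90282) (iv1 F67985) F67981 F67980 (iv1 F32510) D20543 D43455 F139672 (iv4 D90744) D90743
theorem F139675 : act 1 n48084 = n90744 := d15_0 (iv0 F139672) F68312 D48084
def n90746 : Q := act 6 n42493
theorem D90746 : act 6 n42493 = n90746 := rfl
def n90747 : Q := act 5 n42494
theorem D90747 : act 5 n42494 = n90747 := rfl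
theorem F139676 : act 2 n90747 = n42495 := d2_1 D90747 (iv5 D42495) D42494
def n90748 : Q := act 6 n42494
theorem D90748 : act 6 n42494 = n90748 := rfl
theorem F139677 : act 2 n90748 = n42496 := d3_1 D90748 (iv6 D42496) D42494
def n90749 : Q := act 0 n42495
theorem D90749 : act 0 n42495 = n90749 := rfl
def n90750 : Q := act 1 n42495
theorem D90750 : act 1 n42495 = n90750 := rfl
def n90751 : Q := act 4 n42495
theorem D90751 : act 4 n42495 = n90751 := rfl
def n90752 : Q := act 6 n42495
theorem D90752 : act 6 n42495 = n90752 := rfl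
theorem F139678 : act 3 n90752 = n42500 := d7_1 D90752 (iv6 D42500) (iv3 F65632)
def n90753 : Q := act 0 n42496
theorem D90753 : act 0 n42496 = n90753 := rfl
def n90754 : Q := act 1 n42496
theorem D90754 : act 1 n42496 = n90754 := rfl
def n90755 : Q := act 5 n42496
theorem D90755 : act 5 n42496 = n90755 := rfl
theorem F139679 : act 3 n90755 = n42502 := d6_1 D90755 (iv5 D42502) (iv3 F65633)
def n90756 : Q := act 3 n42497
theorem D90756 : act 3 n42497 = n90756 := rfl
theorem F139680 : act 5 n90756 = n89556 := d6_2 (iv5 F65635) D90756 F137287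
def n90757 : Q := act 4 n42497
theorem D90757 : act 4 n42497 = n90757 := rfl
theorem F139681 : act 2 n90757 = n90635 := d1_1 D90757 F139548 (iv2 F138968)
theorem F139682 : act 7 n90757 = n90636 := d11_2 F138971 D90757 F139551
theorem F139683 : act 0 n90757 = n90311 := d18_2 D42497 D90757 (iv4 D90311) (iv5 D42214) (iv4 F65773) F65771 F65695 (iv0 D20056) D20059
theorem F139684 : act 1 n90757 = n90304 := d18_6 (iv1 F138837) (iv4 F65571) (iv1 F71736) (iv4 F64485) (iv5 F65635) D90757 (iv4 D90304) D90303 F138909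
def n90758 : Q := act 6 n42497
theorem D90758 : act 6 n42497 = n90758 := rfl
theorem F139685 : act 5 n90758 = n89558 := d12_1 D90758 (iv6 D89558) (iv5 D41819) D41820 (iv5 F65635)
def n90759 : Q := act 3 n42498
theorem D90759 : act 3 n42498 = n90759 := rfl
def n90760 : Q := act 4 n42498
theorem D90760 : act 4 n42498 = n90760 := rfl
theorem F139686 : act 2 n90760 = n90636 := d1_1 D90760 F139551 (iv2 F138973)
theorem F139687 : act 7 n90760 = n90635 := d11_2 (iv7 F138969) D90760 F139548
theorem F139688 : act 0 n90760 = n90304 := d18_2 (iv1 F65983) D90760 (iv4 D90304) (iv5 D42211) (iv4 F31760) (iv0 F65640) F32367 (iv0 F65638) D20078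
theorem F139689 : act 1 n90760 = n90311 := d18_6 (iv1 F65567) F71740 (iv1 F71741) F71733 F69468 D90760 (iv4 D90311) (iv0 F133617) (iv5 D87043)
def n90761 : Q := act 6 n42498
theorem D90761 : act 6 n42498 = n90761 := rfl
def n90762 : Q := act 3 n42499
theorem D90762 : act 3 n42499 = n90762 := rfl
def n90763 : Q := act 6 n42499
theorem D90763 : act 6 n42499 = n90763 := rfl
theorem F139690 : act 4 n90763 = n42500 := d10_1 D90763 (iv6 D42500) D42499
def n90764 : Q := act 0 n42500
theorem D90764 : act 0 n42500 = n90764 := rfl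
def n90765 : Q := act 1 n42500
theorem D90765 : act 1 n42500 = n90765 := rfl
def n90766 : Q := act 5 n42500
theorem D90766 : act 5 n42500 = n90766 := rfl
theorem F139691 : act 6 n90766 = n42502 := d12_2 D42500 D90766 (iv5 D42502) (iv6 D20060) D20059
def n90767 : Q := act 7 n42500
theorem D90767 : act 7 n42500 = n90767 := rfl
def n90768 : Q := act 3 n42501
theorem D90768 : act 3 n42501 = n90768 := rfl
def n90769 : Q := act 1 n42502
theorem D90769 : act 1 n42502 = n90769 := rfl
theorem F139692 : act 1 n90769 = n89020 := d15_1 D90769 F136660 F69124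
theorem F139693 : act 7 n90769 = n43225 := d15_2 (iv0 F65984) D90769 F67717
theorem F139694 : act 5 n90769 = n43226 := d17_7 (iv1 F15524) F6514 (iv1 F15519) (iv5 F15520) (iv4 F31884) D42502 D90769 F67722 (iv4 D20768)
theorem F139695 : act 2 n43936 = n90769 := d2_3 F139694 F67718 D43936
def n90770 : Q := act 4 n42502
theorem D90770 : act 4 n42502 = n90770 := rfl
theorem F139696 : act 2 n90770 = n43922 := d1_1 D90770 (iv4 F69127) F69124
theorem F139697 : act 7 n90770 = n43921 := d11_2 F69090 D90770 (iv4 F69093)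
theorem F139698 : act 0 n90770 = n43851 := d18_2 (iv1 D90769) D90770 (iv4 D43851) (iv5 D20764) F15518 D9871 D20772 F67721 (iv5 F139694)
theorem F139699 : act 1 n90770 = n43925 := d18_6 F70392 F63641 F35611 (iv4 F31884) D42502 D90770 F69047 F68931 (iv5 F70391)
def n90771 : Q := act 3 n42503
theorem D90771 : act 3 n42503 = n90771 := rfl
theorem F139700 : act 4 n90771 = n90771 := d5_2 D42503 D90771 (iv3 D90771) (iv4 D42503) F35694
theorem F139701 : act 6 n90771 = n90157 := d7_2 (iv6 F65985) D90771 (iv3 D90157)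
def n90772 : Q := act 5 n42503
theorem D90772 : act 5 n42503 = n90772 := rfl
def n90775 : Q := act 3 n42505
theorem D90775 : act 3 n42505 = n90775 := rfl
theorem F139707 : act 4 n90775 = n89589 := d5_2 (iv4 F65986) D90775 (iv3 D89589) (iv4 D41841) (iv3 F64489)
def n90776 : Q := act 5 n42505
theorem D90776 : act 5 n42505 = n90776 := rfl
def n90777 : Q := act 6 n42505
theorem D90777 : act 6 n42505 = n90777 := rfl
theorem F139710 : act 2 n90777 = n90095 := d3_1 D90777 F138984 (iv2 F138983)
theorem F139711 : act 4 n90777 = n43265 := d10_1 D90777 F67835 (iv4 F65986)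
theorem F139712 : act 7 n90777 = n89610 := d14_2 F138987 D90777 F137392 F68509 F138990
theorem F139713 : act 5 n90173 = n90777 := d21_8 D42539 (iv1 F138784) (iv5 D90216) (iv6 D42169) (iv1 D19896) (iv6 F31723) D42153 D90173 (iv6 D90777) (iv1 F65987)
theorem F139714 : act 0 n89771 = n90777 := d18_2 D41933 D89771 F139711 (iv5 D43265) F63475 (iv0 D19873) F14577 F35783 D19746
theorem F139715 : act 1 n42544 = n90777 := d18_6 F70400 F69236 F69099 F31898 D20084 D42544 F139711 (iv0 F74031) F74029
def n90780 : Q := act 0 n42507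
theorem D90780 : act 0 n42507 = n90780 := rfl
def n90781 : Q := act 1 n42507
theorem D90781 : act 1 n42507 = n90781 := rfl
def n90782 : Q := act 2 n42507
theorem D90782 : act 2 n42507 = n90782 := rfl
def n90783 : Q := act 5 n42507
theorem D90783 : act 5 n42507 = n90783 := rfl
theorem F139718 : act 3 n90783 = n42508 := d6_1 D90783 (iv5 D42508) D42507
def n90785 : Q := act 0 n42508
theorem D90785 : act 0 n42508 = n90785 := rfl
theorem F139721 : act 1 n42539 = n90785 := d15_0 (iv0 D90785) (iv7 F139028) F139027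
def n90786 : Q := act 6 n42508
theorem D90786 : act 6 n42508 = n90786 := rfl
def n90787 : Q := act 1 n42509
theorem D90787 : act 1 n42509 = n90787 := rfl
theorem F139723 : act 4 n90787 = n43825 := d18_7 (iv1 F137202) F67713 (iv1 F69122) F68957 F32944 (iv4 F65989) D90787 F74895 (iv5 F137198)
def n90788 : Q := act 5 n42509
theorem D90788 : act 5 n42509 = n90788 := rfl
theorem F139724 : act 0 n90788 = n90469 := d17_2 (iv1 D90787) D90788 (iv5 D90469) (iv4 F68454) (iv5 F136292) (iv0 F136294) (iv5 F74899) F74896 (iv4 F139723)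
def n90789 : Q := act 0 n42516
theorem D90789 : act 0 n42516 = n90789 := rfl
theorem F139726 : act 1 n46743 = n90789 := d15_0 (iv0 D90789) F65998 D46743
def n90790 : Q := act 1 n42516
theorem D90790 : act 1 n42516 = n90790 := rfl
def n90791 : Q := act 2 n42516
theorem D90791 : act 2 n42516 = n90791 := rfl
theorem F139727 : act 3 n90791 = n46750 := d0_2 D42516 D90791 (iv2 D46750) (iv3 D22414) (iv2 F65778)
theorem F139728 : act 4 n90791 = n42529 := d1_2 (iv4 F65997) D90791 (iv2 D42529)
theorem F139729 : act 7 n90791 = n46743 := d4_2 (iv7 F65998) D90791 (iv2 D46743)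
theorem F139730 : act 1 n90791 = n46741 := d15_0 (iv0 D46741) (iv7 F65998) D90791
theorem F139731 : act 1 n90790 = n46743 := d15_1 D90790 (iv7 F139729) (iv2 D90791)
theorem F139732 : act 1 n46742 = n90791 := d15_1 D46742 F139729 (iv2 D46743)
def n90792 : Q := act 5 n42516
theorem D90792 : act 5 n42516 = n90792 := rfl
theorem F139733 : act 3 n90792 = n42517 := d6_1 D90792 (iv5 D42517) D42516
theorem F139734 : act 7 n90792 = n46744 := d13_2 (iv7 F65998) D90792 (iv5 D46744)
def n90793 : Q := act 6 n42516
theorem D90793 : act 6 n42516 = n90793 := rfl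
theorem F139735 : act 3 n90793 = n42518 := d7_1 D90793 (iv6 D42518) D42516
theorem F139736 : act 4 n90793 = n42531 := d10_1 D90793 (iv6 D42531) (iv4 F65997)
def n90794 : Q := act 4 n42517
theorem D90794 : act 4 n42517 = n90794 := rfl
theorem F139737 : act 2 n90794 = n46754 := d1_1 D90794 (iv4 D46754) (iv2 F65999)
theorem F139738 : act 7 n90794 = n46747 := d11_2 (iv7 F66000) D90794 (iv4 D46747)
theorem F139739 : act 1 n90794 = n89420 := d18_6 (iv1 F66079) F34776 F66042 D20074 D42517 D90794 (iv4 D89420) (iv0 F66129) (iv5 D22438)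
def n90795 : Q := act 6 n42517
theorem D90795 : act 6 n42517 = n90795 := rfl
theorem F139740 : act 2 n90795 = n46755 := d3_1 D90795 (iv6 D46755) (iv2 F65999)
def n90796 : Q := act 0 n42518
theorem D90796 : act 0 n42518 = n90796 := rfl
theorem F139742 : act 4 n90796 = n44875 := d18_3 F73907 (iv4 F66003) D90796 (iv5 F70495) D88608 (iv0 F135793) F63854 D43262 (iv5 F67822)
theorem F139743 : act 6 n90796 = n46904 := d21_5 D88893 F136367 (iv5 D42517) D42518 D90796 (iv5 F74117) (iv1 D46313) (iv5 D22146) D22147 (iv1 F64500)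
theorem F139744 : act 2 n46756 = n90796 := d15_3 (iv0 D90796) (iv0 F66675) (iv7 F134009)
theorem F139745 : act 7 n90796 = n45740 := d4_2 (iv7 F134009) F139744 F72176
def n90797 : Q := act 7 n42518
theorem D90797 : act 7 n42518 = n90797 := rfl
theorem F139748 : act 4 n90797 = n42526 := d11_1 D90797 (iv7 D42526) (iv4 F66003)
theorem F139749 : act 6 n90797 = n46099 := d14_1 D90797 (iv7 F72670) (iv6 D22412) (iv7 F65779) D42518
theorem F139750 : act 1 n45740 = n90797 := d15_1 (iv0 F135786) (iv7 D90797) F66002
theorem F139751 : act 1 n90797 = n46756 := d15_1 F139750 F134009 (iv2 F72176)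
def n90798 : Q := act 5 n42519
theorem D90798 : act 5 n42519 = n90798 := rfl
theorem F139753 : act 3 n90798 = n44114 := d6_1 D90798 F69455 (iv3 F71759)
theorem F139755 : act 4 n90798 = n88863 := d17_4 F66042 D20075 D42519 D90798 F136262 F73892 (iv5 D22454) (iv0 F66078) F34776
theorem F139756 : act 1 n90798 = n82695 := d17_8 (iv1 F73879) (iv5 F137337) (iv1 F137338) (iv5 D46438) (iv4 F66040) D47025 F74263 D90798 F127416
theorem F139757 : act 6 n90798 = n43954 := d21_3 D20075 D42519 D90798 (iv1 F133530) (iv6 F133534) F127132 F74175 (iv5 D43511) F62773 F66042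
theorem F139758 : act 0 n90798 = n46311 := d21_4 (iv5 F31961) D42647 (iv5 F74586) (iv6 F139757) (iv6 D46311) D46310 F72961 (iv5 F69473) (iv6 D43374) (iv1 D20495)
theorem F139759 : act 0 n46309 = n89724 := d20_4 (iv4 F139755) F139758 F72966 (iv3 F72956) F137719 F64653 (iv1 F66176) D43723 F68734 (iv1 F136265)
def n90799 : Q := act 6 n42519
theorem D90799 : act 6 n42519 = n90799 := rfl
theorem F139761 : act 3 n90799 = n43572 := d7_1 D90799 (iv6 F133581) (iv3 F71759)
theorem F139763 : act 0 n90799 = n42618 := d21_4 (iv5 F127417) (iv1 F139756) (iv5 D90798) D90799 (iv6 D42618) (iv5 D20115) (iv1 F27429) D19046 (iv6 F30924) D40876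
theorem E14638 : n87219 = n87198 := (c20_8 (iv4 F133698) (iv1 F133811) F133824 (iv3 F139761) F139763 (iv3 F68470) F68471 D87219 (iv4 D87198) F63351 (iv1 F61631))
theorem F139764 : act 1 n87198 = n40518 := (sb E14638 (iv0 D87219))
theorem E14639 : n87220 = n43216 := (c15_2 F139764 D87220 F67679 (iv2 F133826))
theorem F139766 : act 0 n43216 = n40518 := (sb E14639 (iv1 D87220))
def n90800 : Q := act 3 n42521
theorem D90800 : act 3 n42521 = n90800 := rfl
theorem F139767 : act 4 n90800 = n42538 := d5_2 D42521 D90800 (iv3 D42538) (iv4 D20080) (iv3 F31896)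
def n90801 : Q := act 5 n42521
theorem D90801 : act 5 n42521 = n90801 := rfl
theorem F139768 : act 2 n90801 = n46813 := d2_1 D90801 F134686 F134683
theorem F139769 : act 7 n90801 = n46812 := d13_2 F134670 D90801 (iv5 F134671)
theorem F139770 : act 0 n90801 = n46451 := d17_2 F75266 D90801 (iv5 D46451) (iv4 D22255) (iv5 D10607) D10606 D22251 (iv0 F65678) D47936
theorem F139771 : act 1 n90801 = n46816 := d17_6 (iv1 F74269) F61984 F66042 D20075 D42521 D90801 F73937 F73340 (iv4 F74264)
def n90802 : Q := act 0 n42522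
theorem D90802 : act 0 n42522 = n90802 := rfl
theorem F139772 : act 6 n90802 = n84249 := d21_5 F61984 F66042 D20075 D42522 D90802 F129312 (iv1 F67807) D43512 (iv6 F74265) (iv1 F74269)
theorem F139774 : act 1 n84265 = n90802 := d15_0 (iv0 D90802) (iv7 F68579) (iv2 F133537)
theorem F139775 : act 7 n90802 = n42620 := d15_2 D84265 F139774 F66449
def n90804 : Q := act 3 n42523
theorem D90804 : act 3 n42523 = n90804 := rfl
theorem F139781 : act 0 n90804 = n43932 := d20_4 (iv4 F34998) D46788 (iv4 F73903) D90804 F69066 (iv4 F69095) F69097 (iv4 F69236) F69235 F35546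
theorem F139782 : act 4 n90804 = n47898 := d20_6 F69236 F69099 F31898 (iv3 F31897) D42523 D90804 (iv1 F75218) F70431 (iv3 F70397) F70400
theorem F139783 : act 0 n87732 = n90804 := d20_4 (iv4 F72177) F135786 (iv4 F66071) (iv3 F134680) (iv3 D90804) F73903 (iv1 F73901) F72714 F65963 F34521
theorem F139784 : act 6 n90804 = n43485 := d21_5 (iv5 F66367) (iv1 F134678) (iv5 D87731) D87732 F139783 F71969 (iv1 D44110) (iv5 D20961) D20962 (iv1 F71757)
def n90805 : Q := act 6 n42523
theorem D90805 : act 6 n42523 = n90805 := rfl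
theorem F139787 : act 0 n90805 = n46899 := d21_4 D20417 D43261 F73906 D90805 (iv6 D46899) D46898 F74103 (iv5 F68383) (iv6 D43260) (iv1 D20416)
def n90806 : Q := act 5 n42528
theorem D90806 : act 5 n42528 = n90806 := rfl
def n90807 : Q := act 5 n42529
theorem D90807 : act 5 n42529 = n90807 := rfl
theorem F139790 : act 2 n90807 = n42530 := d2_1 D90807 (iv5 D42530) D42529
def n90808 : Q := act 6 n42529
theorem D90808 : act 6 n42529 = n90808 := rfl
theorem F139791 : act 2 n90808 = n42531 := d3_1 D90808 (iv6 D42531) D42529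
def n90809 : Q := act 0 n42530
theorem D90809 : act 0 n42530 = n90809 := rfl
def n90810 : Q := act 1 n42530
theorem D90810 : act 1 n42530 = n90810 := rfl
def n90811 : Q := act 4 n42530
theorem D90811 : act 4 n42530 = n90811 := rfl
def n90812 : Q := act 6 n42530
theorem D90812 : act 6 n42530 = n90812 := rfl
theorem F139792 : act 3 n90812 = n42533 := d7_1 D90812 (iv6 D42533) (iv3 F66007)
def n90813 : Q := act 0 n42531
theorem D90813 : act 0 n42531 = n90813 := rfl
def n90814 : Q := act 5 n42531
theorem D90814 : act 5 n42531 = n90814 := rfl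
theorem F139793 : act 3 n90814 = n42536 := d6_1 D90814 (iv5 D42536) (iv3 F66008)
theorem F139794 : act 0 n90249 = n90814 := d21_1 D90249 (iv5 D90814) (iv6 D42531) (iv1 F68094) (iv6 D42346) (iv5 F40421) (iv1 D25554) F32455 D43272 F136439
def n90815 : Q := act 7 n42531
theorem D90815 : act 7 n42531 = n90815 := rfl
theorem F139795 : act 3 n90815 = n42537 := d8_1 D90815 (iv7 D42537) (iv3 F66008)
def n90816 : Q := act 3 n42532
theorem D90816 : act 3 n42532 = n90816 := rfl
def n90817 : Q := act 6 n42532
theorem D90817 : act 6 n42532 = n90817 := rfl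
theorem F139796 : act 4 n90817 = n42533 := d10_1 D90817 (iv6 D42533) D42532
def n90818 : Q := act 0 n42533
theorem D90818 : act 0 n42533 = n90818 := rfl
def n90819 : Q := act 1 n42533
theorem D90819 : act 1 n42533 = n90819 := rfl
def n90820 : Q := act 5 n42533
theorem D90820 : act 5 n42533 = n90820 := rfl
theorem F139797 : act 6 n90820 = n42536 := d12_2 D42533 D90820 (iv5 D42536) (iv6 D20079) D20078
def n90821 : Q := act 7 n42533
theorem D90821 : act 7 n42533 = n90821 := rfl
def n90822 : Q := act 3 n42534
theorem D90822 : act 3 n42534 = n90822 := rfl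
theorem F139798 : act 0 n90822 = n88510 := d20_4 (iv4 F73732) (iv1 F138502) F138501 D90822 (iv3 D88510) (iv4 D41315) (iv1 D19444) (iv4 F31093) (iv3 F36550) (iv1 F70396)
def n90823 : Q := act 4 n42536
theorem D90823 : act 4 n42536 = n90823 := rfl
theorem F139799 : act 0 n90823 = n89768 := d18_2 (iv1 F66009) D90823 (iv4 D89768) (iv5 D41931) (iv4 D19745) (iv0 F35782) (iv4 F32471) F32475 D42129
theorem F139800 : act 1 n90823 = n90155 := d18_6 (iv1 F135496) F65356 F35760 (iv4 F31898) D42536 D90823 (iv4 D90155) F137762 F137760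
def n90824 : Q := act 7 n42536
theorem D90824 : act 7 n42536 = n90824 := rfl
theorem F139801 : act 2 n90824 = n90130 := d4_1 D90824 (iv7 F139023) F139022
theorem F139802 : act 5 n90824 = n42537 := d13_1 D90824 (iv7 D42537) D42536
theorem F139803 : act 1 n43278 = n90824 := d15_1 F139025 (iv7 D90824) (iv2 F139022)
theorem F139804 : act 1 n90824 = n43281 := d15_1 F139803 F67877 (iv2 F67870)
def n90825 : Q := act 0 n42538
theorem D90825 : act 0 n42538 = n90825 := rfl
def n90826 : Q := act 1 n42538
theorem D90826 : act 1 n42538 = n90826 := rfl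
def n90827 : Q := act 2 n42538
theorem D90827 : act 2 n42538 = n90827 := rfl
def n90828 : Q := act 5 n42538
theorem D90828 : act 5 n42538 = n90828 := rfl
theorem F139805 : act 3 n90828 = n42539 := d6_1 D90828 (iv5 D42539) D42538
def n90829 : Q := act 6 n42538
theorem D90829 : act 6 n42538 = n90829 := rfl
def n90830 : Q := act 6 n42539
theorem D90830 : act 6 n42539 = n90830 := rfl
def n90834 : Q := act 0 n42544
theorem D90834 : act 0 n42544 = n90834 := rfl
theorem F139811 : act 5 n90834 = n90174 := d17_1 D90834 (iv1 D90174) (iv5 D42153) (iv4 D19889) (iv5 D9358) F35783 D19746 F35791 D42544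
theorem F139813 : act 2 n89610 = n90834 := d15_3 (iv0 D90834) F139715 F139712
def n90835 : Q := act 3 n42544
theorem D90835 : act 3 n42544 = n90835 := rfl
def n90837 : Q := act 3 n42547
theorem D90837 : act 3 n42547 = n90837 := rfl
theorem F139817 : act 4 n90837 = n42551 := d5_2 D42547 D90837 (iv3 D42551) (iv4 D20088) D20087
def n90840 : Q := act 0 n42551
theorem D90840 : act 0 n42551 = n90840 := rfl
def n90841 : Q := act 1 n42551
theorem D90841 : act 1 n42551 = n90841 := rfl
def n90843 : Q := act 5 n42551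
theorem D90843 : act 5 n42551 = n90843 := rfl
theorem F139821 : act 3 n90843 = n42552 := d6_1 D90843 (iv5 D42552) D42551
def n90844 : Q := act 6 n42551
theorem D90844 : act 6 n42551 = n90844 := rfl
theorem F139822 : act 3 n90844 = n42553 := d7_1 D90844 (iv6 D42553) D42551
def n90846 : Q := act 1 n42552
theorem D90846 : act 1 n42552 = n90846 := rfl
theorem F139830 : act 5 n90846 = n90334 := d17_7 F35812 F32002 F35808 (iv5 D20089) D20088 D42552 D90846 (iv0 D90334) (iv4 D42230)
def n90847 : Q := act 6 n42552
theorem D90847 : act 6 n42552 = n90847 := rfl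
def n90848 : Q := act 0 n42553
theorem D90848 : act 0 n42553 = n90848 := rfl
theorem F139832 : act 4 n90848 = n46837 := d20_2 (iv4 F66377) D90848 F73985 (iv1 D22556) (iv3 F62710) D10940 (iv1 F32779) (iv4 D20670) D20669 (iv1 F35935)
theorem F139835 : act 6 n42657 = n90848 := d10_0 F139832 F73986 (iv4 F66698)
def n90851 : Q := act 3 n42554
theorem D90851 : act 3 n42554 = n90851 := rfl
theorem F139844 : act 7 n90851 = n44121 := d8_2 (iv7 F66379) D90851 F69461
def n90852 : Q := act 4 n42555
theorem D90852 : act 4 n42555 = n90852 := rfl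
theorem F139846 : act 6 n90852 = n42660 := d10_2 (iv6 F66380) D90852 (iv4 D42660)
theorem F139847 : act 7 n90852 = n43501 := d11_2 (iv7 F66383) D90852 (iv4 D43501)
def n90854 : Q := act 5 n42557
theorem D90854 : act 5 n42557 = n90854 := rfl
theorem F139854 : act 0 n90854 = n89590 := d17_2 F66387 D90854 (iv5 D89590) (iv4 D41841) (iv5 D19695) (iv0 F35500) F34721 F34720 (iv4 F35021)
def n90868 : Q := act 3 n42562
theorem D90868 : act 3 n42562 = n90868 := rfl
def n90871 : Q := act 0 n42567
theorem D90871 : act 0 n42567 = n90871 := rfl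
def n90872 : Q := act 1 n42567
theorem D90872 : act 1 n42567 = n90872 := rfl
def n90873 : Q := act 2 n42567
theorem D90873 : act 2 n42567 = n90873 := rfl
def n90875 : Q := act 5 n42567
theorem D90875 : act 5 n42567 = n90875 := rfl
theorem F139876 : act 3 n90875 = n42569 := d6_1 D90875 (iv5 D42569) D42567
def n90878 : Q := act 1 n42569
theorem D90878 : act 1 n42569 = n90878 := rfl
theorem F139884 : act 5 n90878 = n42734 := d17_7 (iv1 F65636) (iv5 D41826) D41824 F71738 (iv4 D42568) D42569 D90878 (iv0 F75136) (iv4 D47861)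
def n90879 : Q := act 6 n42569
theorem D90879 : act 6 n42569 = n90879 := rfl
def n90880 : Q := act 5 n42570
theorem D90880 : act 5 n42570 = n90880 := rfl
theorem F139886 : act 2 n90880 = n43560 := d2_1 D90880 F74011 F74007
theorem F139887 : act 7 n90880 = n43559 := d13_2 F73987 D90880 (iv5 F73988)
theorem F139888 : act 0 n90880 = n43343 := d17_2 (iv1 F73945) D90880 (iv5 D43343) (iv4 D20467) (iv5 D9715) D9714 (iv5 F31902) F35935 D43682
theorem F139889 : act 1 n90880 = n43563 := d17_6 (iv1 F73958) F35055 (iv1 F35023) D46818 F73944 D90880 F68451 F68049 (iv4 F68051)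
def n90887 : Q := act 6 n42573
theorem D90887 : act 6 n42573 = n90887 := rfl
theorem F139894 : act 3 n90887 = n45512 := d7_1 D90887 F71777 F66403
theorem F139895 : act 4 n90887 = n42575 := d10_1 D90887 (iv6 D42575) D42573
theorem F139896 : act 5 n90887 = n45487 := d12_1 D90887 (iv6 D45487) (iv5 D21707) D21708 (iv5 F66404)
theorem F139897 : act 7 n90887 = n48078 := d14_2 (iv7 F66405) D90887 (iv6 D48078) F62788 F62982
theorem F139898 : act 0 n90097 = n90887 := d21_7 F71728 F74900 (iv5 D46153) F72727 F72726 (iv6 F73091) (iv5 F138505) F139896 (iv6 D45487) D45484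
def n90891 : Q := act 7 n42575
theorem D90891 : act 7 n42575 = n90891 := rfl
theorem F139900 : act 4 n90891 = n48078 := d11_1 D90891 (iv7 F139897) F139895
theorem F139902 : act 0 n90891 = n89781 := d20_7 (iv4 F32078) D42813 F67098 (iv3 F69985) F71045 (iv3 F75542) (iv4 F139900) F137796 F64692 F31520
theorem F139903 : act 1 n90360 = n89781 := d15_0 (iv0 F139902) (iv7 D90891) (iv2 F139053)
def n90909 : Q := act 6 n42579
theorem D90909 : act 6 n42579 = n90909 := rfl
theorem F139915 : act 3 n90909 = n42584 := d7_1 D90909 (iv6 D42584) (iv3 F66415)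
theorem F139916 : act 5 n90909 = n42695 := d12_1 D90909 (iv6 D42695) (iv5 D20145) (iv6 F31906) D42579
def n90912 : Q := act 3 n42581
theorem D90912 : act 3 n42581 = n90912 := rfl
def n90913 : Q := act 6 n42581
theorem D90913 : act 6 n42581 = n90913 := rfl
def n90914 : Q := act 3 n42582
theorem D90914 : act 3 n42582 = n90914 := rfl
def n90915 : Q := act 6 n42582
theorem D90915 : act 6 n42582 = n90915 := rfl
def n90916 : Q := act 3 n42583
theorem D90916 : act 3 n42583 = n90916 := rfl
def n90917 : Q := act 6 n42583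
theorem D90917 : act 6 n42583 = n90917 := rfl
theorem F139922 : act 4 n90917 = n42584 := d10_1 D90917 (iv6 D42584) D42583
def n90918 : Q := act 0 n42584
theorem D90918 : act 0 n42584 = n90918 := rfl
def n90919 : Q := act 1 n42584
theorem D90919 : act 1 n42584 = n90919 := rfl
def n90920 : Q := act 7 n42584
theorem D90920 : act 7 n42584 = n90920 := rfl
theorem F139923 : act 5 n90920 = n42706 := d13_1 D90920 (iv7 D42706) (iv5 F66418)
def n90924 : Q := act 1 n42588
theorem D90924 : act 1 n42588 = n90924 := rfl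
theorem F139929 : act 1 n90924 = n87875 := d15_1 D90924 F134886 (iv2 F66424)
theorem F139932 : act 5 n87871 = n90924 := d21_0 (iv1 D90924) (iv5 F68869) (iv6 D43822) (iv1 D20746) (iv6 F31787) (iv5 D19950) D19948 D42263 D90405 F139125
theorem F139934 : act 6 n90924 = n48253 := d21_9 (iv5 D81423) (iv1 F58144) (iv5 F65281) F65282 (iv1 F66625) D89736 (iv5 F139124) F139125 F139932 (iv1 F125242)
def n90925 : Q := act 7 n42588
theorem D90925 : act 7 n42588 = n90925 := rfl
theorem F139936 : act 3 n90925 = n90802 := d8_1 D90925 F139775 F66450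
theorem F139937 : act 6 n90925 = n87849 := d14_1 D90925 (iv7 D87849) F62117 (iv7 F31914) D42588
def n90930 : Q := act 1 n42592
theorem D90930 : act 1 n42592 = n90930 := rfl
theorem F139953 : act 7 n90930 = n87199 := d15_2 (iv0 F70680) D90930 (iv2 F133848)
theorem F139954 : act 3 n87057 = n90930 := d20_3 (iv4 F68538) (iv1 F68541) F133648 (iv1 D90930) F66427 (iv4 F66430) (iv1 F69606) (iv4 D42612) F66667 (iv1 F32741)
theorem F139955 : act 2 n90930 = n87200 := d0_1 F139954 (iv3 F133851) (iv2 F66861) (iv3 F74914) F133647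
def n90931 : Q := act 7 n42592
theorem D90931 : act 7 n42592 = n90931 := rfl
theorem F139958 : act 6 n90931 = n88624 := d14_1 D90931 (iv7 D88624) (iv6 D41365) (iv7 F31920) D42592
theorem F139959 : act 1 n87200 = n90931 := d15_1 D87200 (iv7 D90931) F66426
theorem F139960 : act 1 n90931 = n87199 := d15_1 F139959 (iv7 F139953) F139955
def n90934 : Q := act 2 n42593
theorem D90934 : act 2 n42593 = n90934 := rfl
theorem F139963 : act 7 n90934 = n43606 := d4_2 (iv7 F66428) D90934 (iv2 D43606)
def n90941 : Q := act 1 n42598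
theorem D90941 : act 1 n42598 = n90941 := rfl
def n90942 : Q := act 2 n42598
theorem D90942 : act 2 n42598 = n90942 := rfl
def n90943 : Q := act 5 n42598
theorem D90943 : act 5 n42598 = n90943 := rfl
theorem F139980 : act 3 n90943 = n42599 := d6_1 D90943 (iv5 D42599) D42598
def n90947 : Q := act 2 n42601
theorem D90947 : act 2 n42601 = n90947 := rfl
theorem F139985 : act 7 n42602 = n90947 := d15_2 (iv0 D42601) D42602 (iv2 D90947)
def n90948 : Q := act 3 n42601
theorem D90948 : act 3 n42601 = n90948 := rfl
theorem F139986 : act 4 n90948 = n87189 := d20_6 F15252 F16839 D9483 D20109 D42601 D90948 (iv1 D87189) (iv4 F66461) (iv3 D42627) F31949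
def n90949 : Q := act 4 n42601
theorem D90949 : act 4 n42601 = n90949 := rfl
def n90950 : Q := act 5 n42601
theorem D90950 : act 5 n42601 = n90950 := rfl
def n90952 : Q := act 7 n42601
theorem D90952 : act 7 n42601 = n90952 := rfl
theorem F139987 : act 2 n90952 = n42602 := d4_1 D90952 F139985 (iv2 D90947)
def n90954 : Q := act 4 n42602
theorem D90954 : act 4 n42602 = n90954 := rfl
theorem F139989 : act 3 n87188 = n90954 := d20_5 (iv4 D8996) D8994 D19139 D40503 D87188 (iv4 D90954) (iv1 D42602) (iv4 F61653) (iv3 D40519) (iv1 D19145)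
def n90957 : Q := act 5 n42603
theorem D90957 : act 5 n42603 = n90957 := rfl
theorem F139990 : act 2 n90957 = n42604 := d2_1 D90957 (iv5 D42604) D42603
def n90961 : Q := act 4 n42604
theorem D90961 : act 4 n42604 = n90961 := rfl
def n90969 : Q := act 5 n42606
theorem D90969 : act 5 n42606 = n90969 := rfl
theorem F139995 : act 6 n90969 = n42609 := d12_2 D42606 D90969 (iv5 D42609) (iv6 D20111) D20110
def n90977 : Q := act 1 n42609
theorem D90977 : act 1 n42609 = n90977 := rfl
def n90988 : Q := act 1 n42619
theorem D90988 : act 1 n42619 = n90988 := rfl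
theorem F140010 : act 1 n90988 = n88664 := d15_1 D90988 (iv7 D88664) (iv2 F66447)
theorem F140011 : act 7 n90988 = n88662 := d15_2 (iv0 F119750) D90988 (iv2 F135988)
theorem F140012 : act 2 n88663 = n90988 := d4_3 F140011 (iv2 F135988) (iv7 F135989)
theorem F140013 : act 6 n90988 = n88649 := d3_2 F135990 F140012 (iv2 F135934)
theorem F140014 : act 1 n88664 = n78563 := d15_1 F140010 (iv7 F135989) F140012
def n90989 : Q := act 7 n42619
theorem D90989 : act 7 n42619 = n90989 := rfl
theorem F140017 : act 6 n90989 = n88661 := d14_1 D90989 (iv7 D88661) (iv6 D41397) (iv7 F31934) D42619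
theorem F140018 : act 1 n88663 = n90989 := d15_1 D88663 (iv7 D90989) F66447
theorem F140019 : act 1 n90989 = n88662 := d15_1 F140018 (iv7 F140011) (iv2 F140012)
def n90990 : Q := act 0 n42621
theorem D90990 : act 0 n42621 = n90990 := rfl
theorem F140020 : act 1 n88769 = n90990 := d15_0 (iv0 D90990) F66452 D88769
def n90991 : Q := act 1 n42621
theorem D90991 : act 1 n42621 = n90991 := rfl
def n90992 : Q := act 2 n42621
theorem D90992 : act 2 n42621 = n90992 := rfl
theorem F140021 : act 3 n90992 = n88761 := d0_2 D42621 D90992 (iv2 D88761) (iv3 D41442) (iv2 F31941)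
theorem F140022 : act 4 n90992 = n42634 := d1_2 (iv4 F66451) D90992 (iv2 D42634)
theorem F140023 : act 7 n90992 = n88769 := d4_2 (iv7 F66452) D90992 (iv2 D88769)
theorem F140024 : act 1 n90992 = n88767 := d15_0 (iv0 D88767) (iv7 F66452) D90992
theorem F140025 : act 1 n90991 = n88769 := d15_1 D90991 (iv7 F140023) (iv2 D90992)
theorem F140026 : act 1 n88768 = n90992 := d15_1 D88768 F140023 (iv2 D88769)
def n90993 : Q := act 5 n42621
theorem D90993 : act 5 n42621 = n90993 := rfl
theorem F140027 : act 3 n90993 = n42622 := d6_1 D90993 (iv5 D42622) D42621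
def n90994 : Q := act 6 n42621
theorem D90994 : act 6 n42621 = n90994 := rfl
theorem F140029 : act 3 n90994 = n42623 := d7_1 D90994 (iv6 D42623) D42621
theorem F140030 : act 4 n90994 = n42636 := d10_1 D90994 (iv6 D42636) (iv4 F66451)
def n90995 : Q := act 6 n42622
theorem D90995 : act 6 n42622 = n90995 := rfl
theorem F140031 : act 2 n90995 = n88717 := d3_1 D90995 (iv6 D88717) (iv2 F66453)
def n90996 : Q := act 1 n42623
theorem D90996 : act 1 n42623 = n90996 := rfl
theorem F140033 : act 7 n90996 = n43189 := d15_2 (iv0 F137402) D90996 (iv2 F137399)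
theorem F140034 : act 4 n43171 = n90996 := d20_0 (iv1 D90996) F66458 F31945 D20125 F35785 D20297 (iv1 F32352) F32350 (iv3 F32336) (iv1 F67605)
def n90997 : Q := act 5 n42623
theorem D90997 : act 5 n42623 = n90997 := rfl
theorem F140038 : act 2 n90997 = n88765 := d2_1 D90997 (iv5 D88765) (iv2 F66457)
def n90999 : Q := act 5 n42624
theorem D90999 : act 5 n42624 = n90999 := rfl
def n91000 : Q := act 0 n42627
theorem D91000 : act 0 n42627 = n91000 := rfl
theorem F140044 : act 1 n43617 = n91000 := d15_0 (iv0 D91000) F66462 D43617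
def n91001 : Q := act 1 n42627
theorem D91001 : act 1 n42627 = n91001 := rfl
def n91002 : Q := act 2 n42627
theorem D91002 : act 2 n42627 = n91002 := rfl
theorem F140045 : act 3 n91002 = n43606 := d0_2 D42627 D91002 (iv2 D43606) (iv3 D20629) (iv2 F31947)
theorem F140046 : act 4 n91002 = n87190 := d1_2 (iv4 F66461) D91002 (iv2 D87190)
theorem F140047 : act 7 n91002 = n43617 := d4_2 (iv7 F66462) D91002 (iv2 D43617)
theorem F140048 : act 1 n91002 = n43615 := d15_0 (iv0 D43615) (iv7 F66462) D91002
theorem F140049 : act 1 n91001 = n43617 := d15_1 D91001 (iv7 F140047) (iv2 D91002)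
theorem F140050 : act 1 n43616 = n91002 := d15_1 D43616 F140047 (iv2 D43617)
def n91003 : Q := act 6 n42627
theorem D91003 : act 6 n42627 = n91003 := rfl
theorem F140051 : act 3 n91003 = n42628 := d7_1 D91003 (iv6 D42628) D42627
theorem F140052 : act 4 n91003 = n87192 := d10_1 D91003 (iv6 D87192) (iv4 F66461)
def n91004 : Q := act 5 n42628
theorem D91004 : act 5 n42628 = n91004 := rfl
def n91007 : Q := act 5 n42630
theorem D91007 : act 5 n42630 = n91007 := rfl
theorem F140061 : act 6 n91007 = n43827 := d21_3 F136078 (iv1 F136080) D91007 (iv1 F68886) F68467 F67845 (iv1 F63703) D41850 (iv6 F66465) (iv1 F136081)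
def n91008 : Q := act 2 n42632
theorem D91008 : act 2 n42632 = n91008 := rfl
theorem F140062 : act 7 n42633 = n91008 := d15_2 (iv0 D42632) D42633 (iv2 D91008)
def n91009 : Q := act 3 n42632
theorem D91009 : act 3 n42632 = n91009 := rfl
def n91010 : Q := act 4 n42632
theorem D91010 : act 4 n42632 = n91010 := rfl
def n91011 : Q := act 5 n42632
theorem D91011 : act 5 n42632 = n91011 := rfl
def n91012 : Q := act 6 n42632
theorem D91012 : act 6 n42632 = n91012 := rfl
def n91013 : Q := act 7 n42632
theorem D91013 : act 7 n42632 = n91013 := rfl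
theorem F140063 : act 2 n91013 = n42633 := d4_1 D91013 F140062 (iv2 D91008)
def n91014 : Q := act 3 n42633
theorem D91014 : act 3 n42633 = n91014 := rfl
def n91015 : Q := act 4 n42633
theorem D91015 : act 4 n42633 = n91015 := rfl
theorem F140064 : act 3 n43123 = n91015 := d20_5 (iv4 D10838) F17494 D9632 D20344 D43123 (iv4 D91015) (iv1 D42633) (iv4 F66451) (iv3 D42621) F31943
theorem F140065 : act 4 n91014 = n87256 := d5_4 F133913 F140064 (iv4 D91015) D91014 (iv3 F133973)
def n91016 : Q := act 5 n42633
theorem D91016 : act 5 n42633 = n91016 := rfl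
def n91017 : Q := act 6 n42633
theorem D91017 : act 6 n42633 = n91017 := rfl
def n91018 : Q := act 5 n42634
theorem D91018 : act 5 n42634 = n91018 := rfl
theorem F140066 : act 2 n91018 = n42635 := d2_1 D91018 (iv5 D42635) D42634
def n91019 : Q := act 6 n42634
theorem D91019 : act 6 n42634 = n91019 := rfl
theorem F140067 : act 2 n91019 = n42636 := d3_1 D91019 (iv6 D42636) D42634
def n91020 : Q := act 0 n42635
theorem D91020 : act 0 n42635 = n91020 := rfl
def n91021 : Q := act 1 n42635
theorem D91021 : act 1 n42635 = n91021 := rfl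
def n91022 : Q := act 4 n42635
theorem D91022 : act 4 n42635 = n91022 := rfl
def n91023 : Q := act 6 n42635
theorem D91023 : act 6 n42635 = n91023 := rfl
theorem F140068 : act 3 n91023 = n42637 := d7_1 D91023 (iv6 D42637) (iv3 F66469)
def n91028 : Q := act 0 n42637
theorem D91028 : act 0 n42637 = n91028 := rfl
def n91029 : Q := act 1 n42637
theorem D91029 : act 1 n42637 = n91029 := rfl
def n91031 : Q := act 7 n42637
theorem D91031 : act 7 n42637 = n91031 := rfl
def n91045 : Q := act 0 n42645
theorem D91045 : act 0 n42645 = n91045 := rfl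
theorem F140079 : act 1 n88680 = n91045 := d15_0 (iv0 D91045) F66478 D88680
def n91046 : Q := act 1 n42645
theorem D91046 : act 1 n42645 = n91046 := rfl
def n91047 : Q := act 2 n42645
theorem D91047 : act 2 n42645 = n91047 := rfl
theorem F140080 : act 3 n91047 = n88688 := d0_2 D42645 D91047 (iv2 D88688) (iv3 D41408) (iv2 F31956)
theorem F140081 : act 4 n91047 = n42652 := d1_2 (iv4 F66477) D91047 (iv2 D42652)
theorem F140082 : act 7 n91047 = n88680 := d4_2 (iv7 F66478) D91047 (iv2 D88680)
theorem F140083 : act 1 n91047 = n88678 := d15_0 (iv0 D88678) (iv7 F66478) D91047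
theorem F140084 : act 1 n91046 = n88680 := d15_1 D91046 (iv7 F140082) (iv2 D91047)
theorem F140085 : act 1 n88679 = n91047 := d15_1 D88679 F140082 (iv2 D88680)
def n91048 : Q := act 6 n42645
theorem D91048 : act 6 n42645 = n91048 := rfl
theorem F140086 : act 3 n91048 = n42646 := d7_1 D91048 (iv6 D42646) D42645
theorem F140087 : act 4 n91048 = n42654 := d10_1 D91048 (iv6 D42654) (iv4 F66477)
def n91049 : Q := act 5 n42646
theorem D91049 : act 5 n42646 = n91049 := rfl
theorem F140088 : act 2 n91049 = n88692 := d2_1 D91049 (iv5 D88692) (iv2 F66479)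
def n91050 : Q := act 6 n42647
theorem D91050 : act 6 n42647 = n91050 := rfl
def n91051 : Q := act 3 n42650
theorem D91051 : act 3 n42650 = n91051 := rfl
def n91052 : Q := act 4 n42650
theorem D91052 : act 4 n42650 = n91052 := rfl
theorem F140093 : act 2 n91052 = n47740 := d1_1 D91052 F75013 F137507
def n91053 : Q := act 5 n42650
theorem D91053 : act 5 n42650 = n91053 := rfl
def n91054 : Q := act 6 n42650
theorem D91054 : act 6 n42650 = n91054 := rfl
def n91055 : Q := act 3 n42651
theorem D91055 : act 3 n42651 = n91055 := rfl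
theorem F140094 : act 4 n91055 = n88577 := d5_2 F137505 D91055 (iv3 F137513) (iv4 D89674) D89673
theorem F140095 : act 7 n91055 = n43000 := d8_2 (iv7 F137506) D91055 F133972
theorem F140096 : act 2 n42999 = n91055 := d4_3 F140095 (iv2 F138426) F138427
theorem F140097 : act 1 n43004 = n91055 := d15_1 F138429 F140095 (iv2 F138426)
theorem F140098 : act 1 n91055 = n42989 := d15_1 F140097 F67356 (iv2 F67368)
theorem E14640 : n91014 = n43793 := ((c18_3 (iv1 F32236) D20741 (iv1 F68831) F140065 (iv5 F135728) (iv4 F140094) F140098 (iv4 D42989) (iv0 F135634) D20314)).symm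
theorem F140099 : act 3 n43793 = n42633 := (sb E14640 (iv3 D91014))
theorem F140100 : act 4 n43793 = n87256 := (sb E14640 F140065)
def n91056 : Q := act 5 n42651
theorem D91056 : act 5 n42651 = n91056 := rfl
def n91057 : Q := act 6 n42651
theorem D91057 : act 6 n42651 = n91057 := rfl
def n91058 : Q := act 5 n42652
theorem D91058 : act 5 n42652 = n91058 := rfl
theorem F140102 : act 2 n91058 = n42653 := d2_1 D91058 (iv5 D42653) D42652
def n91059 : Q := act 6 n42652
theorem D91059 : act 6 n42652 = n91059 := rfl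
theorem F140103 : act 2 n91059 = n42654 := d3_1 D91059 (iv6 D42654) D42652
theorem F140104 : act 3 n91059 = n90475 := d7_1 D91059 F139241 F68893
def n91060 : Q := act 0 n42653
theorem D91060 : act 0 n42653 = n91060 := rfl
def n91061 : Q := act 1 n42653
theorem D91061 : act 1 n42653 = n91061 := rfl
def n91062 : Q := act 4 n42653
theorem D91062 : act 4 n42653 = n91062 := rfl
def n91063 : Q := act 6 n42653
theorem D91063 : act 6 n42653 = n91063 := rfl
theorem F140105 : act 3 n91063 = n42655 := d7_1 D91063 (iv6 D42655) (iv3 F66695)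
def n91064 : Q := act 0 n42654
theorem D91064 : act 0 n42654 = n91064 := rfl
def n91065 : Q := act 1 n42654
theorem D91065 : act 1 n42654 = n91065 := rfl
def n91066 : Q := act 5 n42654
theorem D91066 : act 5 n42654 = n91066 := rfl
theorem F140106 : act 3 n91066 = n42658 := d6_1 D91066 (iv5 D42658) (iv3 F66696)
def n91067 : Q := act 7 n42654
theorem D91067 : act 7 n42654 = n91067 := rfl
theorem F140107 : act 3 n91067 = n42659 := d8_1 D91067 (iv7 D42659) (iv3 F66696)
def n91068 : Q := act 0 n42655
theorem D91068 : act 0 n42655 = n91068 := rfl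
def n91069 : Q := act 1 n42655
theorem D91069 : act 1 n42655 = n91069 := rfl
def n91070 : Q := act 5 n42655
theorem D91070 : act 5 n42655 = n91070 := rfl
theorem F140108 : act 2 n91070 = n90481 := d2_1 D91070 F139245 F68900
theorem F140109 : act 6 n91070 = n42658 := d12_2 D42655 D91070 (iv5 D42658) (iv6 D20132) D20131
def n91071 : Q := act 7 n42655
theorem D91071 : act 7 n42655 = n91071 := rfl
def n91072 : Q := act 3 n42656
theorem D91072 : act 3 n42656 = n91072 := rfl
theorem F140110 : act 4 n91072 = n48278 := d5_2 F68883 D91072 (iv3 D48278) F70686 F70685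
def n91073 : Q := act 5 n42656
theorem D91073 : act 5 n42656 = n91073 := rfl
theorem F140112 : act 2 n91073 = n90469 := d2_1 D91073 (iv5 D90469) F68459
def n91074 : Q := act 6 n42656
theorem D91074 : act 6 n42656 = n91074 := rfl
def n91075 : Q := act 3 n42657
theorem D91075 : act 3 n42657 = n91075 := rfl
theorem F140116 : act 4 n91075 = n47652 := d5_2 (iv4 F66698) D91075 (iv3 D47652) (iv4 D22940) D22939
theorem F140117 : act 7 n91075 = n90468 := d8_2 F68457 D91075 (iv3 D90468)
def n91076 : Q := act 5 n42657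
theorem D91076 : act 5 n42657 = n91076 := rfl
theorem F140119 : act 7 n91076 = n90469 := d13_2 F68457 D91076 (iv5 D90469)
def n91077 : Q := act 0 n42658
theorem D91077 : act 0 n42658 = n91077 := rfl
theorem F140120 : act 5 n91077 = n90787 := d17_3 (iv1 D42657) D42658 D91077 F139723 (iv5 D43825) (iv0 D20748) D20750 (iv0 F63953) (iv4 F66698)
def n91078 : Q := act 1 n42658
theorem D91078 : act 1 n42658 = n91078 := rfl
theorem F140123 : act 5 n91078 = n47632 := d17_7 F32596 (iv5 D20514) (iv1 D9735) (iv5 F14758) (iv4 F31963) D42658 D91078 F74903 F65989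
def n91079 : Q := act 4 n42658
theorem D91079 : act 4 n42658 = n91079 := rfl
theorem F140124 : act 2 n91079 = n90480 := d1_1 D91079 (iv4 D90480) (iv2 F66699)
theorem F140125 : act 5 n91079 = n90454 := d16_1 D91079 F139213 F65314 F31799 (iv5 F31804) (iv4 F65378) (iv5 F139246) (iv7 D90482) (iv2 F66699)
theorem F140126 : act 7 n90453 = n91079 := d13_0 F140125 (iv7 D90454) D90453
def n91080 : Q := act 7 n42658
theorem D91080 : act 7 n42658 = n91080 := rfl
theorem F140128 : act 4 n91080 = n90453 := d11_1 D91080 F140126 (iv4 D91079)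
theorem F140129 : act 5 n91080 = n42659 := d13_1 D91080 (iv7 D42659) D42658
def n91081 : Q := act 3 n42660
theorem D91081 : act 3 n42660 = n91081 := rfl
theorem F140132 : act 4 n91081 = n91081 := d5_2 D42660 D91081 (iv3 D91081) (iv4 D42660) F35721
theorem F140133 : act 7 n91081 = n90463 := d8_2 (iv7 F66706) D91081 (iv3 D90463)
def n91082 : Q := act 5 n42660
theorem D91082 : act 5 n42660 = n91082 := rfl
theorem F140134 : act 2 n91082 = n48338 := d2_1 D91082 (iv5 D48338) (iv2 F66705)
theorem F140135 : act 7 n91082 = n90464 := d13_2 (iv7 F66706) D91082 (iv5 D90464)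
def n91083 : Q := act 2 n42661
theorem D91083 : act 2 n42661 = n91083 := rfl
theorem F140136 : act 7 n42662 = n91083 := d15_2 (iv0 D42661) D42662 (iv2 D91083)
def n91084 : Q := act 3 n42661
theorem D91084 : act 3 n42661 = n91084 := rfl
theorem F140137 : act 4 n91084 = n87105 := d20_6 F32495 F31145 F16968 D20136 D42661 D91084 (iv1 D87105) F61571 (iv3 D20752) (iv1 F32493)
def n91085 : Q := act 4 n42661
theorem D91085 : act 4 n42661 = n91085 := rfl
def n91086 : Q := act 5 n42661
theorem D91086 : act 5 n42661 = n91086 := rfl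
def n91087 : Q := act 6 n42661
theorem D91087 : act 6 n42661 = n91087 := rfl
def n91088 : Q := act 7 n42661
theorem D91088 : act 7 n42661 = n91088 := rfl
theorem F140138 : act 2 n91088 = n42662 := d4_1 D91088 F140136 (iv2 D91083)
def n91089 : Q := act 3 n42662
theorem D91089 : act 3 n42662 = n91089 := rfl
def n91090 : Q := act 4 n42662
theorem D91090 : act 4 n42662 = n91090 := rfl
theorem F140139 : act 3 n87289 = n91090 := d20_5 (iv4 D19840) (iv1 F14537) D19151 D40538 D87289 (iv4 D91090) (iv1 D42662) D42664 F66888 (iv1 F64937)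
def n91091 : Q := act 5 n42662
theorem D91091 : act 5 n42662 = n91091 := rfl
def n91092 : Q := act 6 n42662
theorem D91092 : act 6 n42662 = n91092 := rfl
def n91093 : Q := act 4 n42663
theorem D91093 : act 4 n42663 = n91093 := rfl
theorem F140140 : act 2 n91093 = n42664 := d1_1 D91093 (iv4 D42664) D42663
theorem F140141 : act 1 n91093 = n90073 := d15_0 (iv0 F138432) F133282 (iv2 F140140)
def n91094 : Q := act 5 n42663
theorem D91094 : act 5 n42663 = n91094 := rfl
theorem F140142 : act 2 n91094 = n42665 := d2_1 D91094 (iv5 D42665) D42663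
def n91095 : Q := act 6 n42663
theorem D91095 : act 6 n42663 = n91095 := rfl
theorem F140143 : act 2 n91095 = n42666 := d3_1 D91095 (iv6 D42666) D42663
def n91096 : Q := act 1 n42664
theorem D91096 : act 1 n42664 = n91096 := rfl
theorem F140144 : act 4 n91051 = n91096 := d20_6 (iv4 D19893) F16851 D9500 D20130 D42650 D91051 (iv1 D91096) (iv4 D42664) (iv3 D20136) (iv1 F31734)
def n91097 : Q := act 5 n42664
theorem D91097 : act 5 n42664 = n91097 := rfl
theorem F140145 : act 3 n91097 = n86896 := d6_1 D91097 F133320 (iv3 F66888)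
def n91098 : Q := act 6 n42664
theorem D91098 : act 6 n42664 = n91098 := rfl
theorem F140146 : act 3 n91098 = n45795 := d7_1 D91098 F72291 (iv3 F66888)
theorem F140147 : act 4 n91098 = n42666 := d10_1 D91098 (iv6 D42666) D42664
def n91099 : Q := act 0 n42665
theorem D91099 : act 0 n42665 = n91099 := rfl
def n91100 : Q := act 1 n42665
theorem D91100 : act 1 n42665 = n91100 := rfl
def n91101 : Q := act 4 n42665
theorem D91101 : act 4 n42665 = n91101 := rfl
theorem F140148 : act 3 n91101 = n91062 := d5_1 D91101 (iv4 D91062) F66695 (iv4 F31970) (iv3 F66889)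
def n91102 : Q := act 6 n42665
theorem D91102 : act 6 n42665 = n91102 := rfl
theorem F140149 : act 3 n91102 = n42667 := d7_1 D91102 (iv6 D42667) (iv3 F66889)
def n91103 : Q := act 0 n42666
theorem D91103 : act 0 n42666 = n91103 := rfl
def n91104 : Q := act 1 n42666
theorem D91104 : act 1 n42666 = n91104 := rfl
def n91105 : Q := act 5 n42666
theorem D91105 : act 5 n42666 = n91105 := rfl
theorem F140150 : act 3 n91105 = n42668 := d6_1 D91105 (iv5 D42668) (iv3 F66890)
def n91106 : Q := act 7 n42666
theorem D91106 : act 7 n42666 = n91106 := rfl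
theorem F140151 : act 3 n91106 = n42669 := d8_1 D91106 (iv7 D42669) (iv3 F66890)
def n91107 : Q := act 0 n42667
theorem D91107 : act 0 n42667 = n91107 := rfl
def n91108 : Q := act 1 n42667
theorem D91108 : act 1 n42667 = n91108 := rfl
def n91109 : Q := act 5 n42667
theorem D91109 : act 5 n42667 = n91109 := rfl
theorem F140152 : act 6 n91109 = n42668 := d12_2 D42667 D91109 (iv5 D42668) (iv6 D20138) D20137
def n91110 : Q := act 7 n42667
theorem D91110 : act 7 n42667 = n91110 := rfl
theorem F140153 : act 4 n91110 = n91071 := d11_1 D91110 (iv7 D91071) (iv4 F66891)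
def n91111 : Q := act 4 n42668
theorem D91111 : act 4 n42668 = n91111 := rfl
def n91112 : Q := act 7 n42668
theorem D91112 : act 7 n42668 = n91112 := rfl
theorem F140154 : act 5 n91112 = n42669 := d13_1 D91112 (iv7 D42669) D42668
def n91113 : Q := act 2 n42670
theorem D91113 : act 2 n42670 = n91113 := rfl
theorem F140156 : act 7 n42671 = n91113 := d15_2 (iv0 D42670) D42671 (iv2 D91113)
def n91114 : Q := act 3 n42670
theorem D91114 : act 3 n42670 = n91114 := rfl
theorem F140157 : act 4 n91114 = n88679 := d20_6 F32489 (iv1 F31708) F16850 D20139 D42670 D91114 (iv1 D88679) F63851 (iv3 D20448) D20446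
def n91115 : Q := act 4 n42670
theorem D91115 : act 4 n42670 = n91115 := rfl
def n91116 : Q := act 5 n42670
theorem D91116 : act 5 n42670 = n91116 := rfl
def n91117 : Q := act 6 n42670
theorem D91117 : act 6 n42670 = n91117 := rfl
def n91118 : Q := act 7 n42670
theorem D91118 : act 7 n42670 = n91118 := rfl
theorem F140158 : act 2 n91118 = n42671 := d4_1 D91118 F140156 (iv2 D91113)
def n91119 : Q := act 3 n42671
theorem D91119 : act 3 n42671 = n91119 := rfl
def n91120 : Q := act 4 n42671
theorem D91120 : act 4 n42671 = n91120 := rfl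
theorem F140159 : act 3 n87095 = n91120 := d20_5 F33431 (iv1 F31684) F31685 D40469 D87095 (iv4 D91120) (iv1 D42671) (iv4 F33435) (iv3 D21199) D21197
def n91121 : Q := act 5 n42671
theorem D91121 : act 5 n42671 = n91121 := rfl
def n91122 : Q := act 6 n42671
theorem D91122 : act 6 n42671 = n91122 := rfl
def n91123 : Q := act 5 n42672
theorem D91123 : act 5 n42672 = n91123 := rfl
theorem F140160 : act 2 n91123 = n42673 := d2_1 D91123 (iv5 D42673) D42672
def n91124 : Q := act 6 n42672
theorem D91124 : act 6 n42672 = n91124 := rfl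
theorem F140161 : act 2 n91124 = n42674 := d3_1 D91124 (iv6 D42674) D42672
def n91125 : Q := act 0 n42673
theorem D91125 : act 0 n42673 = n91125 := rfl
def n91126 : Q := act 1 n42673
theorem D91126 : act 1 n42673 = n91126 := rfl
def n91127 : Q := act 4 n42673
theorem D91127 : act 4 n42673 = n91127 := rfl
def n91128 : Q := act 6 n42673
theorem D91128 : act 6 n42673 = n91128 := rfl
theorem F140163 : act 3 n91128 = n42675 := d7_1 D91128 (iv6 D42675) (iv3 F66894)
def n91129 : Q := act 0 n42674
theorem D91129 : act 0 n42674 = n91129 := rfl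
def n91130 : Q := act 1 n42674
theorem D91130 : act 1 n42674 = n91130 := rfl
def n91131 : Q := act 5 n42674
theorem D91131 : act 5 n42674 = n91131 := rfl
theorem F140164 : act 3 n91131 = n42676 := d6_1 D91131 (iv5 D42676) (iv3 F66895)
def n91132 : Q := act 7 n42674
theorem D91132 : act 7 n42674 = n91132 := rfl
theorem F140165 : act 3 n91132 = n42677 := d8_1 D91132 (iv7 D42677) (iv3 F66895)
def n91133 : Q := act 0 n42675
theorem D91133 : act 0 n42675 = n91133 := rfl
def n91134 : Q := act 1 n42675
theorem D91134 : act 1 n42675 = n91134 := rfl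
def n91135 : Q := act 5 n42675
theorem D91135 : act 5 n42675 = n91135 := rfl
theorem F140166 : act 6 n91135 = n42676 := d12_2 D42675 D91135 (iv5 D42676) (iv6 D20141) D20140
def n91136 : Q := act 7 n42675
theorem D91136 : act 7 n42675 = n91136 := rfl
theorem F140167 : act 4 n91136 = n90239 := d11_1 D91136 (iv7 D90239) (iv4 F66896)
def n91137 : Q := act 1 n42676
theorem D91137 : act 1 n42676 = n91137 := rfl
theorem F140169 : act 5 n91137 = n43395 := d17_7 F139540 (iv5 D44009) (iv1 D20896) (iv5 F32690) F32689 D42676 D91137 F75916 (iv4 F139537)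
theorem F140170 : act 2 n48320 = n91137 := d2_3 F140169 F68195 D48320
def n91138 : Q := act 4 n42676
theorem D91138 : act 4 n42676 = n91138 := rfl
theorem F140171 : act 5 n91138 = n90549 := d16_3 F32689 D42676 D91138 F139365 F65458 (iv4 F32903) (iv5 F68888) (iv7 D43828) F32901
theorem F140172 : act 7 n90548 = n91138 := d13_0 F140171 (iv7 D90549) D90548
def n91139 : Q := act 7 n42676
theorem D91139 : act 7 n42676 = n91139 := rfl
theorem F140173 : act 4 n91139 = n90548 := d11_1 D91139 F140172 (iv4 D91138)
theorem F140174 : act 5 n91139 = n42677 := d13_1 D91139 (iv7 D42677) D42676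
def n91140 : Q := act 5 n42678
theorem D91140 : act 5 n42678 = n91140 := rfl
theorem F140177 : act 2 n91140 = n42696 := d2_1 D91140 F66912 F66899
theorem F140181 : act 1 n91140 = n42692 := d15_0 (iv0 D42692) D42696 (iv2 F140177)
theorem F140182 : act 5 n42692 = n43052 := d17_7 D20315 F133923 (iv1 F32238) (iv5 F32226) (iv4 F66900) D91140 F140181 (iv0 D43052) (iv4 D20317)
def n91142 : Q := act 3 n42679
theorem D91142 : act 3 n42679 = n91142 := rfl
theorem F140185 : act 4 n91142 = n87147 := d5_2 (iv4 F135691) D91142 (iv3 D87147) (iv4 D40485) D40484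
theorem F140186 : act 7 n91142 = n42685 := d8_2 F66903 D91142 (iv3 D42685)
def n91143 : Q := act 5 n42679
theorem D91143 : act 5 n42679 = n91143 := rfl
theorem F140187 : act 2 n91143 = n42682 := d2_1 D91143 (iv5 D42682) D42679
theorem F140188 : act 7 n91143 = n42687 := d13_2 F66903 D91143 (iv5 D42687)
theorem F140189 : act 0 n91143 = n43054 := d17_2 (iv1 F135690) D91143 (iv5 D43054) (iv4 D20317) (iv5 D9607) D9605 F135635 (iv0 F135634) (iv4 F31975)
theorem E14642 : n43634 = n42682 := ((c15_4 (iv0 D43634) (iv0 F133756) (iv7 F140188) F140187)).symm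
theorem F140190 : act 1 n42682 = n20638 := (sb E14642 (iv0 D43634))
theorem F140191 : act 0 n43630 = n42962 := d17_0 F137532 D88576 (iv5 F135660) (iv4 D42681) D42682 F140190 (iv5 D20638) D20636 D43630
def n91145 : Q := act 0 n42680
theorem D91145 : act 0 n42680 = n91145 := rfl
def n91146 : Q := act 1 n42680
theorem D91146 : act 1 n42680 = n91146 := rfl
def n91147 : Q := act 2 n42680
theorem D91147 : act 2 n42680 = n91147 := rfl
theorem F140194 : act 4 n91147 = n88617 := d1_2 (iv4 F74984) D91147 (iv2 F138397)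
def n91148 : Q := act 5 n42680
theorem D91148 : act 5 n42680 = n91148 := rfl
theorem F140195 : act 3 n91148 = n42682 := d6_1 D91148 (iv5 D42682) D42680
def n91149 : Q := act 6 n42680
theorem D91149 : act 6 n42680 = n91149 := rfl
def n91150 : Q := act 7 n42680
theorem D91150 : act 7 n42680 = n91150 := rfl
theorem F140197 : act 3 n91150 = n42684 := d8_1 D91150 (iv7 D42684) D42680
theorem F140198 : act 4 n91150 = n88618 := d11_1 D91150 F138396 (iv4 F74984)
def n91151 : Q := act 6 n42681
theorem D91151 : act 6 n42681 = n91151 := rfl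
def n91152 : Q := act 0 n42682
theorem D91152 : act 0 n42682 = n91152 := rfl
theorem F140202 : act 2 n43054 = n91152 := d15_3 (iv0 D91152) F140190 (iv7 F67398)
theorem F140203 : act 7 n91152 = n43633 := d4_2 (iv7 F67398) F140202 F68568
theorem F140204 : act 1 n91143 = n43633 := d15_1 (iv0 F140189) (iv7 F140203) (iv2 F140202)
def n91153 : Q := act 4 n42682
theorem D91153 : act 4 n42682 = n91153 := rfl
def n91154 : Q := act 6 n42682
theorem D91154 : act 6 n42682 = n91154 := rfl
def n91155 : Q := act 7 n42682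
theorem D91155 : act 7 n42682 = n91155 := rfl
theorem F140207 : act 5 n91155 = n42684 := d13_1 D91155 (iv7 D42684) D42682
theorem F140208 : act 1 n43633 = n91155 := d15_1 F140204 (iv7 D91155) (iv2 F140187)
theorem F140209 : act 1 n91155 = n43054 := d15_1 F140208 F67398 (iv2 F68568)
theorem E14643 : n87255 = n42903 := (c17_1 D87255 F137578 F135721 F135660 (iv4 F135696) (iv5 F140207) F140209 (iv5 D43054) D43053 (iv4 F67396))
theorem F140210 : act 1 n42903 = n40529 := (sb E14643 (iv0 D87255))
theorem F140211 : act 4 n43786 = n87262 := d20_6 (iv4 F68830) (iv1 F68835) (iv4 D20741) D20740 D43808 F68858 (iv1 D87262) (iv4 D40530) D40529 (iv1 F140210)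
def n91160 : Q := act 6 n42684
theorem D91160 : act 6 n42684 = n91160 := rfl
def n91161 : Q := act 0 n42685
theorem D91161 : act 0 n42685 = n91161 := rfl
theorem F140213 : act 4 n91161 = n87104 := d20_0 (iv1 F138490) F138488 (iv3 F67962) (iv1 F67966) D91055 F140094 (iv1 F135727) (iv4 D42686) D42685 D91161
def n91162 : Q := act 1 n42685
theorem D91162 : act 1 n42685 = n91162 := rfl
def n91163 : Q := act 2 n42685
theorem D91163 : act 2 n42685 = n91163 := rfl
def n91164 : Q := act 4 n42685
theorem D91164 : act 4 n42685 = n91164 := rfl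
theorem F140214 : act 3 n91164 = n48566 := d5_1 D91164 (iv4 D48566) F66905 (iv4 D42686) D42685
theorem F140215 : act 7 n91164 = n87147 := d11_2 F140186 D91164 (iv4 F140185)
theorem F140216 : act 0 n90220 = n91164 := d20_1 D90220 (iv4 D91164) (iv3 D42685) (iv1 D20143) (iv3 D9504) (iv4 D4299) (iv1 F16823) D9363 D19897 D42170
theorem F140217 : act 0 n91164 = n90225 := d20_10 (iv4 D90225) (iv1 D42171) (iv4 F65027) (iv3 D42109) F31694 D23683 F36835 D23688 D48566 (iv3 F140214)
theorem F140218 : act 0 n90224 = n90387 := d20_10 (iv4 D90387) (iv1 F138655) F138653 F138652 (iv1 F66902) D42685 D91164 F140217 (iv4 D90225) D90224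
def n91165 : Q := act 5 n42685
theorem D91165 : act 5 n42685 = n91165 := rfl
theorem F140219 : act 3 n91165 = n42687 := d6_1 D91165 (iv5 D42687) D42685
def n91166 : Q := act 6 n42685
theorem D91166 : act 6 n42685 = n91166 := rfl
def n91168 : Q := act 4 n42687
theorem D91168 : act 4 n42687 = n91168 := rfl
def n91169 : Q := act 6 n42687
theorem D91169 : act 6 n42687 = n91169 := rfl
def n91174 : Q := act 4 n42691
theorem D91174 : act 4 n42691 = n91174 := rfl
theorem F140223 : act 2 n91174 = n42694 := d1_1 D91174 (iv4 D42694) (iv2 F66909)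
theorem F140224 : act 5 n91174 = n43636 := d16_1 D91174 (iv4 D43636) (iv5 D20638) F15251 (iv5 F14970) (iv4 F31978) (iv5 F66912) (iv7 D42696) (iv2 F66909)
def n91175 : Q := act 6 n42691
theorem D91175 : act 6 n42691 = n91175 := rfl
theorem F140225 : act 2 n91175 = n42695 := d3_1 D91175 (iv6 D42695) (iv2 F66909)
def n91176 : Q := act 2 n42692
theorem D91176 : act 2 n42692 = n91176 := rfl
theorem F140226 : act 7 n42693 = n91176 := d15_2 (iv0 D42692) D42693 (iv2 D91176)
def n91177 : Q := act 3 n42692
theorem D91177 : act 3 n42692 = n91177 := rfl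
theorem F140227 : act 5 n91177 = n88780 := d6_2 (iv5 F140182) D91177 (iv3 F136163)
def n91178 : Q := act 4 n42692
theorem D91178 : act 4 n42692 = n91178 := rfl
def n91180 : Q := act 7 n42692
theorem D91180 : act 7 n42692 = n91180 := rfl
theorem F140228 : act 2 n91180 = n42693 := d4_1 D91180 F140226 (iv2 D91176)
def n91181 : Q := act 3 n42693
theorem D91181 : act 3 n42693 = n91181 := rfl
def n91182 : Q := act 4 n42693
theorem D91182 : act 4 n42693 = n91182 := rfl
theorem F140229 : act 5 n91178 = n91182 := d16_1 D91178 (iv4 D91182) F133929 (iv4 F67396) F133919 F67396 (iv5 F133929) F140226 (iv2 D91176)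
def n91183 : Q := act 6 n42693
theorem D91183 : act 6 n42693 = n91183 := rfl
def n91184 : Q := act 0 n42694
theorem D91184 : act 0 n42694 = n91184 := rfl
def n91185 : Q := act 1 n42694
theorem D91185 : act 1 n42694 = n91185 := rfl
def n91186 : Q := act 3 n42694
theorem D91186 : act 3 n42694 = n91186 := rfl
theorem F140230 : act 4 n91186 = n42702 := d5_2 D42694 D91186 (iv3 D42702) (iv4 D20149) (iv3 F31976)
theorem F140231 : act 7 n90398 = n91186 := d11_0 F140230 F66920 D90398
def n91187 : Q := act 5 n42694
theorem D91187 : act 5 n42694 = n91187 := rfl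
theorem F140232 : act 2 n91187 = n43636 := d2_1 D91187 (iv5 F140224) F140223
def n91188 : Q := act 6 n42694
theorem D91188 : act 6 n42694 = n91188 := rfl
theorem F140235 : act 4 n91188 = n42695 := d10_1 D91188 (iv6 D42695) D42694
def n91189 : Q := act 7 n42694
theorem D91189 : act 7 n42694 = n91189 := rfl
theorem F140236 : act 3 n91189 = n90398 := d8_1 D91189 F140231 (iv3 D91186)
theorem F140237 : act 4 n91189 = n42696 := d11_1 D91189 (iv7 D42696) D42694
def n91190 : Q := act 0 n42695
theorem D91190 : act 0 n42695 = n91190 := rfl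
def n91191 : Q := act 1 n42695
theorem D91191 : act 1 n42695 = n91191 := rfl
def n91192 : Q := act 7 n42695
theorem D91192 : act 7 n42695 = n91192 := rfl
theorem F140238 : act 3 n91192 = n42706 := d8_1 D91192 (iv7 D42706) (iv3 F66910)
def n91193 : Q := act 6 n42696
theorem D91193 : act 6 n42696 = n91193 := rfl
theorem F140239 : act 3 n91193 = n42707 := d7_1 D91193 (iv6 D42707) (iv3 F66911)
def n91197 : Q := act 0 n42698
theorem D91197 : act 0 n42698 = n91197 := rfl
def n91198 : Q := act 1 n42698
theorem D91198 : act 1 n42698 = n91198 := rfl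
def n91199 : Q := act 2 n42698
theorem D91199 : act 2 n42698 = n91199 := rfl
theorem F140241 : act 5 n91199 = n90934 := d2_2 (iv5 F66915) D91199 (iv2 D90934)
def n91200 : Q := act 4 n42698
theorem D91200 : act 4 n42698 = n91200 := rfl
theorem F140242 : act 3 n91200 = n91022 := d5_1 D91200 (iv4 D91022) F66469 F31980 D42698
def n91205 : Q := act 7 n42699
theorem D91205 : act 7 n42699 = n91205 := rfl
theorem F140245 : act 4 n91205 = n91031 := d11_1 D91205 (iv7 D91031) (iv4 F66916)
def n91206 : Q := act 0 n42700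
theorem D91206 : act 0 n42700 = n91206 := rfl
def n91207 : Q := act 1 n42700
theorem D91207 : act 1 n42700 = n91207 := rfl
def n91208 : Q := act 2 n42700
theorem D91208 : act 2 n42700 = n91208 := rfl
theorem F140246 : act 5 n91208 = n91002 := d2_2 (iv5 F66917) D91208 (iv2 D91002)
def n91209 : Q := act 4 n42700
theorem D91209 : act 4 n42700 = n91209 := rfl
theorem F140247 : act 3 n91209 = n90961 := d5_1 D91209 (iv4 D90961) F66437 F31982 D42700
def n91210 : Q := act 6 n42700
theorem D91210 : act 6 n42700 = n91210 := rfl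
theorem F140248 : act 3 n91210 = n42701 := d7_1 D91210 (iv6 D42701) D42700
def n91211 : Q := act 0 n42701
theorem D91211 : act 0 n42701 = n91211 := rfl
def n91212 : Q := act 1 n42701
theorem D91212 : act 1 n42701 = n91212 := rfl
def n91213 : Q := act 5 n42701
theorem D91213 : act 5 n42701 = n91213 := rfl
theorem F140249 : act 6 n91213 = n91004 := d12_2 D42701 D91213 (iv5 D91004) (iv6 D42628) (iv5 F31981)
def n91214 : Q := act 7 n42701
theorem D91214 : act 7 n42701 = n91214 := rfl
def n91215 : Q := act 0 n42702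
theorem D91215 : act 0 n42702 = n91215 := rfl
theorem F140251 : act 1 n90395 = n91215 := d15_0 (iv0 D91215) F66920 (iv2 F139105)
def n91216 : Q := act 1 n42702
theorem D91216 : act 1 n42702 = n91216 := rfl
def n91217 : Q := act 2 n42702
theorem D91217 : act 2 n42702 = n91217 := rfl
theorem F140253 : act 5 n91217 = n90189 := d2_2 (iv5 F66919) D91217 (iv2 D90189)
theorem F140254 : act 7 n91217 = n90395 := d4_2 (iv7 F66920) D91217 F139105
theorem F140255 : act 1 n91217 = n90396 := d15_0 (iv0 D90396) (iv7 F66920) D91217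
theorem F140256 : act 1 n91216 = n90395 := d15_1 D91216 (iv7 F140254) (iv2 D91217)
theorem F140257 : act 1 n90397 = n91217 := d15_1 D90397 F140254 F139105
def n91218 : Q := act 6 n42702
theorem D91218 : act 6 n42702 = n91218 := rfl
theorem F140258 : act 3 n91218 = n42703 := d7_1 D91218 (iv6 D42703) D42702
def n91219 : Q := act 0 n42703
theorem D91219 : act 0 n42703 = n91219 := rfl
def n91220 : Q := act 1 n42703
theorem D91220 : act 1 n42703 = n91220 := rfl
def n91221 : Q := act 5 n42703
theorem D91221 : act 5 n42703 = n91221 := rfl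
theorem F140259 : act 6 n91221 = n90193 := d12_2 D42703 D91221 (iv5 D90193) (iv6 D42160) (iv5 F31983)
def n91222 : Q := act 7 n42703
theorem D91222 : act 7 n42703 = n91222 := rfl
theorem F140260 : act 4 n91222 = n42706 := d11_1 D91222 (iv7 D42706) (iv4 F66921)
theorem F140261 : act 6 n91222 = n90402 := d14_1 D91222 (iv7 D90402) (iv6 D42259) (iv7 F31986) D42703
def n91223 : Q := act 2 n42704
theorem D91223 : act 2 n42704 = n91223 := rfl
theorem F140262 : act 7 n42705 = n91223 := d15_2 (iv0 D42704) D42705 (iv2 D91223)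
def n91224 : Q := act 3 n42704
theorem D91224 : act 3 n42704 = n91224 := rfl
def n91225 : Q := act 4 n42704
theorem D91225 : act 4 n42704 = n91225 := rfl
def n91226 : Q := act 5 n42704
theorem D91226 : act 5 n42704 = n91226 := rfl
def n91227 : Q := act 6 n42704
theorem D91227 : act 6 n42704 = n91227 := rfl
def n91228 : Q := act 7 n42704
theorem D91228 : act 7 n42704 = n91228 := rfl
theorem F140263 : act 2 n91228 = n42705 := d4_1 D91228 F140262 (iv2 D91223)
def n91229 : Q := act 3 n42705
theorem D91229 : act 3 n42705 = n91229 := rfl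
def n91230 : Q := act 4 n42705
theorem D91230 : act 4 n42705 = n91230 := rfl
def n91231 : Q := act 5 n42705
theorem D91231 : act 5 n42705 = n91231 := rfl
def n91232 : Q := act 6 n42705
theorem D91232 : act 6 n42705 = n91232 := rfl
def n91233 : Q := act 6 n42706
theorem D91233 : act 6 n42706 = n91233 := rfl
theorem F140264 : act 2 n91233 = n91222 := d3_1 D91233 F140261 F139109
theorem F140265 : act 4 n91233 = n90402 := d10_1 D91233 (iv6 F140261) F140260
theorem F140266 : act 7 n91233 = n42707 := d14_2 D42706 D91233 (iv6 D42707) (iv7 D20151) D20150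
theorem F140267 : act 1 n91220 = n91233 := d15_1 D91220 F140266 F66922
theorem F140268 : act 1 n91233 = n91219 := d15_0 (iv0 D91219) D91222 (iv2 F140264)
def n91234 : Q := act 0 n42707
theorem D91234 : act 0 n42707 = n91234 := rfl
theorem F140269 : act 1 n91222 = n91234 := d15_0 (iv0 D91234) (iv7 F140266) F140264
def n91235 : Q := act 1 n42707
theorem D91235 : act 1 n42707 = n91235 := rfl
theorem F140270 : act 1 n91235 = n91222 := d15_1 D91235 (iv7 D91222) (iv2 F66922)
def n91250 : Q := act 3 n42711
theorem D91250 : act 3 n42711 = n91250 := rfl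
theorem F140277 : act 7 n91250 = n42717 := d8_2 F66924 D91250 (iv3 D42717)
def n91251 : Q := act 4 n42711
theorem D91251 : act 4 n42711 = n91251 := rfl
theorem F140278 : act 2 n91251 = n42713 := d1_1 D91251 (iv4 D42713) D42711
theorem F140279 : act 7 n91251 = n42718 := d11_2 F66924 D91251 (iv4 D42718)
theorem F140280 : act 1 n42713 = n43301 := d15_0 F138293 (iv7 F140279) F140278
theorem F140281 : act 0 n42712 = n88407 := d20_4 (iv4 F67948) (iv1 F140280) (iv4 D42713) D42712 F135399 (iv4 F135407) (iv1 F138319) (iv4 F138688) (iv3 F138687) (iv1 D90101)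
def n91253 : Q := act 6 n42711
theorem D91253 : act 6 n42711 = n91253 := rfl
theorem F140284 : act 2 n91253 = n42715 := d3_1 D91253 (iv6 D42715) D42711
theorem F140286 : act 7 n90197 = n91253 := d15_2 F137812 (iv0 F138761) F140284
theorem F140287 : act 7 n42720 = n48329 := d14_4 F140286 (iv6 D91253) (iv7 F66924) D42720 (iv6 F138760)
theorem F140289 : act 2 n42720 = n48328 := d15_3 (iv0 D48328) D48329 (iv7 F140287)
theorem E14644 : n90198 = n20154 := (c3_4 D42720 F140289 F75970 (iv2 F138763))
theorem E14647 : n42711 = n42161 := ((F66924).symm.trans (sb E14644 (iv7 D90198)))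
theorem E14652 : n91250 = n90012 := (((F138662).symm.trans (sb E14647 D91250))).symm
theorem F140297 : act 7 n90012 = n42717 := (sb E14652 F140277)
theorem F140302 : act 7 n47709 = n88722 := d11_2 F140297 (iv4 F138744) (iv4 F138301)
theorem F140304 : act 2 n47709 = n88723 := d15_3 F136059 F136058 (iv7 F140302)
def n91255 : Q := act 4 n42712
theorem D91255 : act 4 n42712 = n91255 := rfl
theorem F140311 : act 0 n91255 = n47931 := d20_1 D91255 F75249 F36131 (iv1 F17983) D23697 D48587 F138728 (iv4 F67831) (iv3 F68868) F138775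
def n91263 : Q := act 2 n42717
theorem D91263 : act 2 n42717 = n91263 := rfl
theorem F140333 : act 4 n91263 = n88723 := d1_2 F138744 D91263 (iv2 F140304)
def n91265 : Q := act 6 n42717
theorem D91265 : act 6 n42717 = n91265 := rfl
theorem F140336 : act 3 n91265 = n42720 := d7_1 D91265 (iv6 D42720) D42717
def n91268 : Q := act 6 n42718
theorem D91268 : act 6 n42718 = n91268 := rfl
theorem F140337 : act 4 n91268 = n42720 := d10_1 D91268 (iv6 D42720) D42718
def n91270 : Q := act 3 n42721
theorem D91270 : act 3 n42721 = n91270 := rfl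
def n91271 : Q := act 4 n42721
theorem D91271 : act 4 n42721 = n91271 := rfl
theorem F140340 : act 0 n91271 = n87805 := d18_2 D42721 D91271 (iv4 D87805) (iv5 D40914) (iv4 F66124) F34897 F34895 F65806 D20170
def n91272 : Q := act 6 n42721
theorem D91272 : act 6 n42721 = n91272 := rfl
def n91273 : Q := act 3 n42722
theorem D91273 : act 3 n42722 = n91273 := rfl
def n91274 : Q := act 4 n42722
theorem D91274 : act 4 n42722 = n91274 := rfl
theorem F140341 : act 0 n91274 = n87803 := d18_2 (iv1 F66978) D91274 (iv4 D87803) (iv5 D40909) (iv4 F66125) (iv0 D10645) (iv4 F17190) (iv0 F65776) D42751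
theorem F140342 : act 1 n91274 = n87805 := d18_6 D87030 F137307 F137306 F136347 (iv5 F69666) D91274 (iv4 D87805) F133589 (iv5 D87032)
def n91275 : Q := act 6 n42722
theorem D91275 : act 6 n42722 = n91275 := rfl
def n91276 : Q := act 0 n42723
theorem D91276 : act 0 n42723 = n91276 := rfl
def n91277 : Q := act 1 n42723
theorem D91277 : act 1 n42723 = n91277 := rfl
def n91278 : Q := act 3 n42723
theorem D91278 : act 3 n42723 = n91278 := rfl
def n91279 : Q := act 5 n42723
theorem D91279 : act 5 n42723 = n91279 := rfl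
def n91280 : Q := act 6 n42723
theorem D91280 : act 6 n42723 = n91280 := rfl
theorem F140343 : act 4 n91280 = n42724 := d10_1 D91280 (iv6 D42724) D42723
def n91281 : Q := act 0 n42724
theorem D91281 : act 0 n42724 = n91281 := rfl
def n91282 : Q := act 1 n42724
theorem D91282 : act 1 n42724 = n91282 := rfl
def n91284 : Q := act 7 n42724
theorem D91284 : act 7 n42724 = n91284 := rfl
def n91285 : Q := act 1 n42726
theorem D91285 : act 1 n42726 = n91285 := rfl
theorem F140348 : act 4 n46637 = n91285 := d20_0 (iv1 D91285) (iv4 D42726) (iv3 F66361) (iv1 D42520) F31896 D20080 (iv1 F65988) F75135 (iv3 F75173) (iv1 F75174)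
def n91286 : Q := act 3 n42726
theorem D91286 : act 3 n42726 = n91286 := rfl
theorem F140350 : act 6 n91286 = n89718 := d7_2 (iv6 F66933) D91286 (iv3 D89718)
def n91287 : Q := act 5 n42726
theorem D91287 : act 5 n42726 = n91287 := rfl
theorem F140351 : act 0 n91287 = n87832 := d17_2 (iv1 D91285) D91287 (iv5 D87832) F66969 D46662 F73749 (iv5 F75179) F75175 F140348
theorem F140352 : act 1 n91287 = n87834 := d17_6 F66034 F15826 D21055 (iv5 F66131) D42726 D91287 (iv5 D87834) F66967 (iv4 D42749)
def n91288 : Q := act 4 n42727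
theorem D91288 : act 4 n42727 = n91288 := rfl
theorem F140355 : act 7 n91288 = n47877 := d11_2 (iv7 F66934) D91288 F75159
theorem F140356 : act 0 n91288 = n47780 := d18_2 (iv1 F133575) D91288 (iv4 D47780) (iv5 D22989) D22988 F66357 F33675 (iv0 F66027) D42234
def n91289 : Q := act 3 n42728
theorem D91289 : act 3 n42728 = n91289 := rfl
def n91290 : Q := act 5 n42728
theorem D91290 : act 5 n42728 = n91290 := rfl
theorem F140358 : act 1 n91290 = n87832 := d17_6 D19294 D40960 (iv1 F62526) F66337 D42728 D91290 (iv5 D87832) (iv0 D40964) (iv4 D19296)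
def n91291 : Q := act 3 n42729
theorem D91291 : act 3 n42729 = n91291 := rfl
def n91292 : Q := act 5 n42729
theorem D91292 : act 5 n42729 = n91292 := rfl
def n91293 : Q := act 6 n42729
theorem D91293 : act 6 n42729 = n91293 := rfl
theorem F140362 : act 4 n91293 = n44665 := d10_1 D91293 F73720 F73718
theorem F140364 : act 0 n43737 = n91293 := d18_2 (iv1 F66141) (iv4 F68758) F140362 (iv5 D44665) (iv4 F63712) (iv0 D19625) F14425 D9256 D19730
def n91294 : Q := act 3 n42730
theorem D91294 : act 3 n42730 = n91294 := rfl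
def n91295 : Q := act 5 n42730
theorem D91295 : act 5 n42730 = n91295 := rfl
def n91296 : Q := act 0 n42731
theorem D91296 : act 0 n42731 = n91296 := rfl
def n91298 : Q := act 2 n42731
theorem D91298 : act 2 n42731 = n91298 := rfl
def n91299 : Q := act 5 n42731
theorem D91299 : act 5 n42731 = n91299 := rfl
theorem F140369 : act 3 n91299 = n42732 := d6_1 D91299 (iv5 D42732) D42731
def n91300 : Q := act 6 n42731
theorem D91300 : act 6 n42731 = n91300 := rfl
theorem F140370 : act 3 n91300 = n42733 := d7_1 D91300 (iv6 D42733) D42731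
theorem F140371 : act 4 n91300 = n42745 := d10_1 D91300 (iv6 D42745) (iv4 F66935)
def n91301 : Q := act 0 n42732
theorem D91301 : act 0 n42732 = n91301 := rfl
theorem F140372 : act 5 n91301 = n42790 := d17_3 (iv1 D42730) D42732 D91301 (iv4 F73690) F73691 F34898 D22366 D46653 (iv4 F73722)
theorem F140373 : act 7 n88433 = n91301 := d13_0 F140372 F67073 D88433
def n91302 : Q := act 4 n42732
theorem D91302 : act 4 n42732 = n91302 := rfl
def n91303 : Q := act 6 n42732
theorem D91303 : act 6 n42732 = n91303 := rfl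
def n91304 : Q := act 0 n42733
theorem D91304 : act 0 n42733 = n91304 := rfl
def n91305 : Q := act 5 n42733
theorem D91305 : act 5 n42733 = n91305 := rfl
theorem F140374 : act 0 n91305 = n48279 := d17_2 F74867 D91305 (iv5 D48279) F70686 (iv5 F72331) (iv0 D44847) D44849 (iv0 F70450) D47610
def n91306 : Q := act 0 n42734
theorem D91306 : act 0 n42734 = n91306 := rfl
theorem F140377 : act 4 n91306 = n46655 := d18_3 F35812 D42734 D91306 (iv5 D46655) F65773 F31754 F14672 F14624 D19934
def n91307 : Q := act 3 n42734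
theorem D91307 : act 3 n42734 = n91307 := rfl
theorem F140383 : act 6 n91307 = n89762 := d7_2 (iv6 F66938) D91307 (iv3 D89762)
def n91310 : Q := act 2 n42735
theorem D91310 : act 2 n42735 = n91310 := rfl
theorem F140386 : act 6 n91310 = n89766 := d3_2 (iv6 F66940) D91310 (iv2 D89766)
def n91341 : Q := act 0 n42747
theorem D91341 : act 0 n42747 = n91341 := rfl
theorem F140415 : act 2 n46468 = n91341 := d15_3 (iv0 D91341) (iv0 F66960) (iv7 F73376)
theorem F140416 : act 1 n46680 = n91341 := d15_0 (iv0 D91341) F66959 (iv2 F73780)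
theorem F140417 : act 3 n91341 = n46907 := d0_2 D46468 F140415 (iv2 D46907) (iv3 D22528) (iv2 F62954)
theorem F140418 : act 7 n91341 = n46895 := d4_2 (iv7 F73376) F140415 (iv2 D46895)
theorem E14657 : n46894 = n46680 := (c15_1 D46894 F140416 F140418 (iv2 D46895))
theorem F140419 : act 0 n46680 = n22523 := (sb E14657 (iv1 D46894))
theorem F140420 : act 0 n88978 = n86937 := d21_7 (iv5 F62134) (iv1 F73778) (iv5 D46679) D46680 F140419 D46897 (iv5 F136569) (iv5 D86937) (iv6 D40354) (iv1 F34489)
theorem E14658 : n87971 = n43519 := ((c20_7 (iv4 D19286) F66031 D20193 D42747 D91341 F140417 F74118 (iv1 D87971) F62309 F30975 F66090)).symm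
theorem F140421 : act 0 n43519 = n41072 := (sb E14658 (iv1 D87971))
def n91342 : Q := act 2 n42747
theorem D91342 : act 2 n42747 = n91342 := rfl
theorem F140422 : act 3 n91342 = n87760 := d0_2 D42747 D91342 F134732 F62000 F66051
theorem F140423 : act 6 n91342 = n46749 := d3_2 (iv6 F66958) D91342 (iv2 F73863)
theorem F140424 : act 7 n91342 = n46680 := d4_2 (iv7 F66959) D91342 F73780
theorem F140425 : act 1 n91342 = n46895 := d15_0 F74097 (iv7 F66959) D91342
theorem F140426 : act 1 n46468 = n91342 := d15_0 F140425 (iv7 F140418) (iv2 F140415)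
def n91343 : Q := act 5 n42747
theorem D91343 : act 5 n42747 = n91343 := rfl
theorem F140427 : act 3 n91343 = n42748 := d6_1 D91343 (iv5 D42748) D42747
theorem F140428 : act 7 n91343 = n48203 := d13_2 (iv7 F66959) D91343 (iv5 D48203)
def n91344 : Q := act 4 n42748
theorem D91344 : act 4 n42748 = n91344 := rfl
theorem F140429 : act 2 n91344 = n87820 := d1_1 D91344 F134788 (iv2 F66961)
theorem F140430 : act 7 n91344 = n48213 := d11_2 (iv7 F66962) D91344 (iv4 D48213)
theorem F140431 : act 5 n91344 = n87843 := d16_1 D91344 (iv4 D87843) (iv5 D40967) (iv4 D19296) (iv5 D9068) (iv4 F14146) D19282 D40919 (iv2 F66961)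
theorem F140432 : act 0 n91344 = n87817 := d18_2 (iv1 F66964) D91344 F134787 (iv5 F62529) F33233 D21056 D44279 F134782 (iv5 D87811)
theorem F140433 : act 1 n91344 = n87816 := d18_6 F66090 (iv4 D19286) F66031 D20193 D42748 D91344 (iv4 F134804) (iv0 D41097) (iv5 D19339)
theorem F140434 : act 0 n46912 = n91343 := d20_4 D46517 (iv1 F74361) (iv4 D46913) D46912 F140427 D91344 F140432 F134787 (iv3 F70476) F70478
def n91345 : Q := act 6 n42748
theorem D91345 : act 6 n42748 = n91345 := rfl
theorem F140435 : act 2 n91345 = n87821 := d3_1 D91345 (iv6 D87821) (iv2 F66961)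
theorem F140436 : act 5 n91345 = n87929 := d12_1 D91345 (iv6 D87929) F62144 (iv6 F66033) D42748
def n91347 : Q := act 5 n42749
theorem D91347 : act 5 n42749 = n91347 := rfl
theorem F140438 : act 2 n91347 = n87845 := d2_1 D91347 F134813 (iv2 F66965)
theorem F140439 : act 4 n91347 = n87819 := d9_1 D91347 (iv5 D87819) (iv4 D40918) (iv5 D19282) F14146 D9068 D19296 D40967 D87843 (iv5 F140431) (iv4 D91344) (iv5 D42748) (iv4 D20193) D20194 D42749
theorem F140440 : act 7 n91347 = n48216 := d13_2 (iv7 F66966) D91347 (iv5 D48216)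
theorem F140442 : act 1 n91347 = n87841 := d17_6 F66093 (iv5 D19287) F66031 D20194 D42749 D91347 F134810 F73724 (iv4 D42766)
def n91348 : Q := act 0 n42750
theorem D91348 : act 0 n42750 = n91348 := rfl
theorem F140443 : act 3 n91348 = n90613 := d20_5 F30945 (iv1 F66045) D20196 D42750 D91348 (iv4 D90613) (iv1 D42422) D42424 (iv3 F66347) (iv1 F36477)
theorem F140444 : act 1 n46474 = n91348 := d15_0 (iv0 D91348) F66975 (iv2 F73397)
def n91349 : Q := act 1 n42750
theorem D91349 : act 1 n42750 = n91349 := rfl
theorem F140445 : act 1 n91349 = n46474 := d15_1 D91349 F73399 (iv2 F66973)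
def n91350 : Q := act 5 n42750
theorem D91350 : act 5 n42750 = n91350 := rfl
theorem F140446 : act 2 n91350 = n46940 := d2_1 D91350 (iv5 D46940) (iv2 F66973)
theorem F140447 : act 3 n91350 = n42751 := d6_1 D91350 (iv5 D42751) D42750
theorem F140448 : act 7 n91350 = n87822 := d13_2 (iv7 F66975) D91350 (iv5 D87822)
def n91351 : Q := act 6 n42750
theorem D91351 : act 6 n42750 = n91351 := rfl
theorem F140449 : act 2 n91351 = n46941 := d3_1 D91351 (iv6 D46941) (iv2 F66973)
theorem F140450 : act 3 n91351 = n42752 := d7_1 D91351 (iv6 D42752) D42750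
theorem F140451 : act 4 n91351 = n91351 := d10_1 D91351 (iv6 D91351) F66974
def n91352 : Q := act 4 n42751
theorem D91352 : act 4 n42751 = n91352 := rfl
theorem F140452 : act 2 n91352 = n42759 := d1_1 D91352 (iv4 D42759) (iv2 F66976)
theorem F140453 : act 7 n91352 = n87824 := d11_2 (iv7 F66977) D91352 (iv4 D87824)
theorem F140454 : act 5 n91352 = n91302 := d16_1 D91352 (iv4 D91302) (iv5 D42732) (iv4 D20174) (iv5 D9518) D9517 D20170 (iv7 F32038) (iv2 F66976)
theorem F140455 : act 1 n91277 = n91352 := d15_1 D91277 F140453 F134793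
theorem F140456 : act 1 n91352 = n91276 := d15_0 (iv0 D91276) (iv7 F67001) (iv2 F140452)
def n91353 : Q := act 6 n42751
theorem D91353 : act 6 n42751 = n91353 := rfl
theorem F140457 : act 2 n91353 = n42760 := d3_1 D91353 (iv6 D42760) (iv2 F66976)
def n91354 : Q := act 0 n42752
theorem D91354 : act 0 n42752 = n91354 := rfl
theorem F140458 : act 5 n91354 = n89208 := d17_1 D91354 (iv1 F136927) F64350 F31401 (iv5 F31492) F64624 (iv5 F66987) (iv0 D42754) (iv4 F66981)
theorem F140459 : act 4 n91354 = n46659 := d18_3 (iv1 F66087) (iv4 F66981) D91354 (iv5 F73743) D89619 (iv0 F137406) (iv4 D41895) (iv0 F36526) (iv5 D23401)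
theorem F140460 : act 6 n91354 = n43667 := d21_5 F69658 (iv1 F66979) (iv5 D42751) D42752 D91354 F69715 (iv1 D44262) (iv5 D21049) D21050 D44265
theorem F140461 : act 2 n42761 = n91354 := d15_3 (iv0 D91354) F70676 (iv7 F75203)
theorem F140462 : act 1 n42764 = n91354 := d15_0 (iv0 D91354) (iv7 F134213) F134211
def n91355 : Q := act 3 n42753
theorem D91355 : act 3 n42753 = n91355 := rfl
theorem F140464 : act 4 n91355 = n91355 := d5_2 D42753 D91355 (iv3 D91355) (iv4 D42753) F32030
theorem F140465 : act 7 n91355 = n87826 := d8_2 (iv7 F66983) D91355 (iv3 D87826)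
def n91356 : Q := act 5 n42753
theorem D91356 : act 5 n42753 = n91356 := rfl
theorem F140466 : act 2 n91356 = n42773 := d2_1 D91356 (iv5 D42773) (iv2 F66982)
theorem F140467 : act 4 n91356 = n91279 := d9_1 D91356 (iv5 D91279) (iv4 D42723) (iv5 D20170) (iv4 D9517) D9518 D20174 D42732 D91302 (iv5 F140454) (iv4 D91352) (iv5 D42751) (iv4 D20196) D20197 D42753
theorem F140468 : act 7 n91356 = n87827 := d13_2 (iv7 F66983) D91356 (iv5 D87827)
theorem F140470 : act 1 n91356 = n91301 := d17_6 (iv1 F62522) F30951 (iv1 F66045) D20197 D42753 D91356 F140372 (iv0 D42790) (iv4 D20219)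
def n91357 : Q := act 4 n42754
theorem D91357 : act 4 n42754 = n91357 := rfl
theorem F140473 : act 7 n91357 = n42779 := d11_2 (iv7 F66990) D91357 (iv4 D42779)
theorem F140474 : act 0 n91357 = n48242 := d17_0 F137683 (iv1 D89710) (iv5 D41900) (iv4 D19724) D19725 (iv0 F66140) F32850 F66989 D91357
def n91358 : Q := act 5 n42755
theorem D91358 : act 5 n42755 = n91358 := rfl
theorem F140476 : act 3 n91358 = n42756 := d6_1 D91358 (iv5 D42756) D42755
theorem F140477 : act 7 n91358 = n46644 := d13_2 (iv7 F66993) D91358 (iv5 D46644)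
def n91359 : Q := act 4 n42756
theorem D91359 : act 4 n42756 = n91359 := rfl
theorem F140478 : act 2 n91359 = n88024 := d1_1 D91359 F135027 (iv2 F66994)
theorem F140479 : act 7 n91359 = n46651 := d11_2 (iv7 F66995) D91359 (iv4 D46651)
theorem F140480 : act 0 n91359 = n88021 := d18_2 (iv1 F66997) D91359 F135021 (iv5 F133392) F133391 F136350 F136347 (iv0 F134803) F134802
theorem F140481 : act 1 n91359 = n88020 := d18_6 D23346 F66348 (iv1 F34896) (iv4 F65651) D42756 D91359 F135025 (iv0 D48211) (iv5 D23348)
def n91360 : Q := act 6 n42756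
theorem D91360 : act 6 n42756 = n91360 := rfl
theorem F140482 : act 2 n91360 = n88025 := d3_1 D91360 (iv6 D88025) (iv2 F66994)
theorem F140483 : act 5 n91360 = n88073 := d12_1 D91360 (iv6 D88073) F62344 (iv6 F65652) D42756
def n91361 : Q := act 3 n42757
theorem D91361 : act 3 n42757 = n91361 := rfl
theorem F140484 : act 7 n91361 = n91270 := d8_2 (iv7 F69662) D91361 (iv3 D91270)
def n91362 : Q := act 4 n42757
theorem D91362 : act 4 n42757 = n91362 := rfl
theorem F140485 : act 2 n91362 = n91274 := d1_1 D91362 (iv4 D91274) (iv2 F69664)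
theorem F140486 : act 7 n91362 = n91271 := d11_2 (iv7 F69662) D91362 (iv4 D91271)
def n91363 : Q := act 5 n42757
theorem D91363 : act 5 n42757 = n91363 := rfl
theorem F140488 : act 7 n91363 = n44265 := d13_2 (iv7 F69662) D91363 F69658
theorem F140489 : act 1 n91363 = n42793 := d17_8 F67015 (iv5 D42767) F66093 (iv5 D19287) D19286 D40936 F66998 D91363 (iv4 D42793)
theorem F140490 : act 6 n91363 = n44000 := d21_3 D20201 D42757 D91363 (iv1 F137175) (iv6 F137178) F134201 (iv1 F74388) F62344 (iv6 F65652) (iv1 D20200)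
theorem F140491 : act 0 n91363 = n44256 := d21_4 D10745 D22707 (iv5 F72338) (iv6 F140490) (iv6 D44256) D44255 (iv1 F69708) (iv5 F69709) (iv6 D22706) (iv1 D10744)
def n91364 : Q := act 6 n42757
theorem D91364 : act 6 n42757 = n91364 := rfl
theorem F140492 : act 2 n91364 = n91275 := d3_1 D91364 (iv6 D91275) (iv2 F69664)
theorem F140493 : act 5 n91364 = n47203 := d12_1 D91364 (iv6 D47203) (iv5 F72338) (iv6 F140490) (iv5 D91363)
def n91365 : Q := act 3 n42758
theorem D91365 : act 3 n42758 = n91365 := rfl
theorem F140494 : act 5 n91365 = n86988 := d6_2 (iv5 F67000) D91365 F133503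
theorem F140495 : act 7 n91365 = n91273 := d8_2 F69663 D91365 (iv3 D91273)
def n91366 : Q := act 4 n42758
theorem D91366 : act 4 n42758 = n91366 := rfl
theorem F140496 : act 2 n91366 = n91271 := d1_1 D91366 (iv4 D91271) F69661
theorem F140497 : act 7 n91366 = n91274 := d11_2 F69663 D91366 (iv4 D91274)
theorem F140498 : act 1 n91271 = n87803 := d15_0 (iv0 F140341) (iv7 F140497) F140496
def n91367 : Q := act 6 n42758
theorem D91367 : act 6 n42758 = n91367 := rfl
theorem F140499 : act 2 n91367 = n91272 := d3_1 D91367 (iv6 D91272) F69661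
theorem F140500 : act 5 n91367 = n86990 := d12_1 D91367 (iv6 D86990) (iv5 D40388) D40389 (iv5 F67000)
def n91368 : Q := act 0 n42759
theorem D91368 : act 0 n42759 = n91368 := rfl
theorem F140501 : act 1 n87824 = n91368 := d15_0 (iv0 D91368) F67001 (iv2 F134793)
theorem F140502 : act 4 n91368 = n87802 := d18_7 (iv1 D19281) F14146 D9066 D19286 D40936 D87824 F140501 F134775 (iv5 D40914)
def n91369 : Q := act 1 n42759
theorem D91369 : act 1 n42759 = n91369 := rfl
theorem F140503 : act 1 n91369 = n87824 := d15_1 D91369 (iv7 F140453) F140452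
theorem F140504 : act 4 n91369 = n87032 := d18_7 F66054 (iv4 D20193) (iv1 D9535) D9537 D20201 D42759 D91369 F133588 (iv5 D40909)
def n91370 : Q := act 3 n42759
theorem D91370 : act 3 n42759 = n91370 := rfl
theorem F140505 : act 7 n91370 = n91278 := d8_2 (iv7 F67001) D91370 (iv3 D91278)
def n91371 : Q := act 5 n42759
theorem D91371 : act 5 n42759 = n91371 := rfl
theorem F140506 : act 2 n91371 = n91302 := d2_1 D91371 (iv5 F140454) F140452
theorem F140507 : act 7 n91371 = n91279 := d13_2 (iv7 F67001) D91371 (iv5 D91279)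
theorem F140508 : act 4 n91371 = n87827 := d16_2 D42759 D91371 (iv5 D87827) (iv4 D40940) (iv5 D19287) D19286 D40936 (iv7 F66977) F66976
theorem F140509 : act 0 n91371 = n87819 := d17_2 (iv1 D91369) D91371 (iv5 D87819) (iv4 D40918) (iv5 D19282) D19281 D40914 F133589 (iv4 F140504)
theorem F140510 : act 1 n91371 = n87843 := d17_6 (iv1 F66997) (iv5 D42756) (iv1 D20200) D20201 D42759 D91371 (iv5 F140431) F140433 (iv4 F134804)
def n91372 : Q := act 6 n42759
theorem D91372 : act 6 n42759 = n91372 := rfl
theorem F140511 : act 4 n91372 = n42760 := d10_1 D91372 (iv6 D42760) D42759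
def n91373 : Q := act 0 n42760
theorem D91373 : act 0 n42760 = n91373 := rfl
def n91374 : Q := act 1 n42760
theorem D91374 : act 1 n42760 = n91374 := rfl
def n91375 : Q := act 5 n42760
theorem D91375 : act 5 n42760 = n91375 := rfl
theorem F140512 : act 6 n91375 = n42763 := d12_2 D42760 D91375 (iv5 D42763) (iv6 D20202) D20201
def n91376 : Q := act 7 n42760
theorem D91376 : act 7 n42760 = n91376 := rfl
theorem F140513 : act 6 n91376 = n91284 := d14_1 D91376 (iv7 D91284) (iv6 D42724) (iv7 F32038) D42760
def n91377 : Q := act 3 n42761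
theorem D91377 : act 3 n42761 = n91377 := rfl
theorem F140514 : act 4 n91377 = n90822 := d5_2 (iv4 F75201) D91377 (iv3 D90822) (iv4 F138501) F138499
theorem F140515 : act 5 n91377 = n89246 := d6_2 (iv5 F75202) D91377 (iv3 D89246)
theorem F140516 : act 7 n91377 = n47187 := d8_2 (iv7 F75203) D91377 F74469
def n91378 : Q := act 6 n42761
theorem D91378 : act 6 n42761 = n91378 := rfl
theorem F140519 : act 0 n91378 = n43656 := d21_4 D19627 D41698 (iv5 F75202) D91378 (iv6 D43656) D43655 (iv1 F68683) F68684 (iv6 D41697) (iv1 D19626)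
theorem F140520 : act 5 n91378 = n44292 := d21_6 (iv5 F67000) (iv1 D42758) (iv5 D20201) D20202 D42761 D91378 (iv1 F69707) (iv5 D44255) D44256 (iv1 F69639)
theorem F140521 : act 0 n43669 = n91378 := d21_4 D40388 (iv1 F133498) F133500 (iv6 F68626) (iv6 D91378) F75202 (iv1 F136932) F136930 F64330 (iv1 F61383)
def n91379 : Q := act 3 n42762
theorem D91379 : act 3 n42762 = n91379 := rfl
theorem F140522 : act 4 n91379 = n47616 := d5_2 F67002 D91379 F74874 F35979 (iv3 F35976)
theorem F140523 : act 5 n91379 = n89249 := d6_2 (iv5 F67005) D91379 (iv3 D89249)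
theorem F140524 : act 6 n91379 = n47144 := d7_2 (iv6 F67003) D91379 (iv3 D47144)
def n91380 : Q := act 4 n42763
theorem D91380 : act 4 n42763 = n91380 := rfl
def n91383 : Q := act 6 n42766
theorem D91383 : act 6 n42766 = n91383 := rfl
theorem F140529 : act 4 n91383 = n42768 := d10_1 D91383 (iv6 D42768) D42766
theorem F140530 : act 7 n91383 = n42951 := d14_2 (iv7 F67012) D91383 (iv6 F137637) F137638 (iv6 F66933)
theorem F140531 : act 0 n91383 = n87080 := d20_1 (iv4 F140529) F133685 F61565 (iv1 F63267) (iv3 D20378) F32199 (iv1 F32209) F32207 (iv3 F32186) (iv1 F67022)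
theorem F140532 : act 1 n89730 = n87080 := d15_0 (iv0 F140531) F140530 (iv2 F137724)
def n91384 : Q := act 4 n42767
theorem D91384 : act 4 n42767 = n91384 := rfl
theorem F140533 : act 2 n91384 = n44279 := d1_1 D91384 (iv4 D44279) (iv2 F67013)
theorem F140534 : act 6 n91384 = n44004 := d10_2 F67016 D91384 (iv4 D44004)
theorem F140535 : act 7 n91384 = n44277 := d11_2 (iv7 F67014) D91384 (iv4 D44277)
theorem F140536 : act 5 n91384 = n87802 := d17_5 (iv1 D9535) D9538 D20203 D42767 D91384 F134775 (iv5 D40914) F66053 (iv4 D20193)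
theorem F140538 : act 1 n91384 = n87030 := d18_6 (iv1 F73719) D46657 (iv1 F73735) (iv4 D42766) D42767 D91384 F137307 F137308 F135829
def n91385 : Q := act 3 n42769
theorem D91385 : act 3 n42769 = n91385 := rfl
theorem F140539 : act 7 n91385 = n91289 := d8_2 (iv7 F67024) D91385 (iv3 D91289)
def n91386 : Q := act 5 n42769
theorem D91386 : act 5 n42769 = n91386 := rfl
theorem F140540 : act 2 n91386 = n91287 := d2_1 D91386 (iv5 D91287) (iv2 F67023)
theorem F140541 : act 7 n91386 = n91290 := d13_2 (iv7 F67024) D91386 (iv5 D91290)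
theorem F140542 : act 1 n87834 = n91290 := d15_1 F140352 (iv7 F140541) F140540
def n91387 : Q := act 3 n42770
theorem D91387 : act 3 n42770 = n91387 := rfl
theorem F140544 : act 7 n91387 = n91291 := d8_2 (iv7 F75182) D91387 (iv3 D91291)
def n91390 : Q := act 3 n42771
theorem D91390 : act 3 n42771 = n91390 := rfl
theorem F140553 : act 7 n91390 = n91294 := d8_2 F75183 D91390 (iv3 D91294)
def n91391 : Q := act 5 n42771
theorem D91391 : act 5 n42771 = n91391 := rfl
def n91392 : Q := act 0 n42772
theorem D91392 : act 0 n42772 = n91392 := rfl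
theorem F140557 : act 1 n91298 = n91392 := d15_0 (iv0 D91392) F67028 D91298
def n91393 : Q := act 1 n42772
theorem D91393 : act 1 n42772 = n91393 := rfl
def n91394 : Q := act 2 n42772
theorem D91394 : act 2 n42772 = n91394 := rfl
theorem F140559 : act 7 n91394 = n91298 := d4_2 (iv7 F67028) D91394 (iv2 D91298)
theorem F140560 : act 1 n91394 = n91296 := d15_0 (iv0 D91296) (iv7 F67028) D91394
theorem F140561 : act 1 n91393 = n91298 := d15_1 D91393 (iv7 F140559) (iv2 D91394)
def n91395 : Q := act 5 n42772
theorem D91395 : act 5 n42772 = n91395 := rfl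
theorem F140563 : act 3 n91395 = n42773 := d6_1 D91395 (iv5 D42773) D42772
theorem F140564 : act 7 n91395 = n91299 := d13_2 (iv7 F67028) D91395 (iv5 D91299)
def n91397 : Q := act 1 n42773
theorem D91397 : act 1 n42773 = n91397 := rfl
theorem F140567 : act 1 n91397 = n87827 := d15_1 D91397 (iv7 F140468) F140466
theorem F140569 : act 5 n91397 = n42801 := d17_7 (iv1 F66035) (iv5 D20194) (iv1 D9535) D9538 D20205 D42773 D91397 F67077 (iv4 D40959)
theorem F140571 : act 4 n88023 = n91397 := d16_2 D41099 D88023 F140569 (iv4 F67079) F34930 (iv4 F65651) D42756 F66995 F34918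
def n91398 : Q := act 4 n42773
theorem D91398 : act 4 n42773 = n91398 := rfl
theorem F140572 : act 2 n91398 = n91279 := d1_1 D91398 (iv4 F140467) F140466
theorem F140573 : act 5 n91398 = n87824 := d9_2 D42773 D91398 (iv4 D87824) (iv5 D40936) (iv4 D19286) D19287 D40940 D87827 (iv4 F140508) (iv5 D91371) (iv4 D42759) (iv5 D20201) (iv4 D9537) D9538 D20205
theorem F140574 : act 7 n91398 = n91302 := d11_2 (iv7 F67029) D91398 (iv4 D91302)
theorem F140575 : act 0 n91398 = n87843 := d18_2 (iv1 D91397) D91398 (iv4 D87843) (iv5 D40967) (iv4 D19296) F62552 D20226 D42801 (iv5 F140569)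
theorem F140576 : act 1 n91398 = n87819 := d18_6 (iv1 F73725) (iv4 D42769) (iv1 D20204) D20205 D42773 D91398 (iv4 F140439) F140442 F134810
def n91399 : Q := act 6 n42773
theorem D91399 : act 6 n42773 = n91399 := rfl
def n91403 : Q := act 4 n42776
theorem D91403 : act 4 n42776 = n91403 := rfl
theorem F140584 : act 5 n91403 = n88599 := d17_5 (iv1 D40541) D40542 (iv1 F134013) (iv5 F67035) D91403 (iv0 D88599) (iv5 D41349) D41348 (iv4 F63715)
theorem F140585 : act 0 n91403 = n44874 := d17_0 F137132 (iv1 D89464) (iv5 D41773) F63697 D43257 (iv0 F68439) F68437 F134004 D91403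
def n91405 : Q := act 0 n42777
theorem D91405 : act 0 n42777 = n91405 := rfl
theorem F140595 : act 4 n91405 = n45813 := d18_3 D20207 D42777 D91405 (iv5 F75613) (iv4 F134939) (iv0 F137639) (iv4 D89695) (iv0 F66108) (iv5 D20209)
theorem F140597 : act 1 n42779 = n91405 := d15_0 (iv0 D91405) F67037 (iv2 F67043)
theorem F140599 : act 6 n45812 = n91405 := d21_3 D19185 D40630 (iv5 F72342) (iv1 F140597) F67044 D48217 (iv1 F134171) (iv5 D87418) (iv6 D40629) (iv1 D19184)
def n91406 : Q := act 3 n42777
theorem D91406 : act 3 n42777 = n91406 := rfl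
theorem F140600 : act 7 n91406 = n48237 := d8_2 (iv7 F67037) D91406 F75830
def n91407 : Q := act 6 n42777
theorem D91407 : act 6 n42777 = n91407 := rfl
theorem F140602 : act 4 n91407 = n42778 := d10_1 D91407 (iv6 D42778) D42777
theorem F140605 : act 0 n48261 = n91407 := d21_4 D40423 (iv1 F133547) F133548 F75868 (iv6 D91407) (iv5 F134105) (iv1 F137670) (iv5 D89704) (iv6 F64632) (iv1 F61485)
def n91408 : Q := act 3 n42779
theorem D91408 : act 3 n42779 = n91408 := rfl
theorem F140606 : act 6 n91408 = n46682 := d7_2 (iv6 F67044) D91408 F73784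
theorem F140607 : act 0 n47550 = n91408 := d20_4 F35337 (iv1 F62404) F62405 D47550 (iv3 D91408) (iv4 D42779) (iv1 D20208) (iv4 F32039) (iv3 F62696) F35435
def n91409 : Q := act 0 n42780
theorem D91409 : act 0 n42780 = n91409 := rfl
theorem F140608 : act 4 n91409 = n45791 := d18_3 (iv1 F66109) D42780 D91409 (iv5 D45791) F64324 F64322 F31401 (iv0 F31477) D41890
def n91670 : Q := act 0 n42861
theorem D91670 : act 0 n42861 = n91670 := rfl
def n91671 : Q := act 1 n42861
theorem D91671 : act 1 n42861 = n91671 := rfl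
def n91672 : Q := act 7 n42861
theorem D91672 : act 7 n42861 = n91672 := rfl
def n91673 : Q := act 3 n42862
theorem D91673 : act 3 n42862 = n91673 := rfl
theorem F140912 : act 4 n91673 = n78454 := d5_2 D42862 D91673 (iv3 D78454) (iv4 D35751) (iv3 F32114)
theorem F140913 : act 7 n91673 = n78538 := d8_2 (iv7 F67159) D91673 (iv3 D78538)
def n91674 : Q := act 6 n42862
theorem D91674 : act 6 n42862 = n91674 := rfl
theorem F140915 : act 4 n91674 = n42863 := d10_1 D91674 (iv6 D42863) D42862
def n91675 : Q := act 1 n42863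
theorem D91675 : act 1 n42863 = n91675 := rfl
theorem F140916 : act 1 n91675 = n42874 := d15_1 D91675 (iv7 D42874) (iv2 F67162)
theorem F140917 : act 7 n91675 = n42872 := d15_2 (iv0 F132995) D91675 (iv2 F132991)
theorem F140918 : act 5 n81003 = n91675 := d21_0 (iv1 D91675) F67164 (iv6 D37089) F29005 (iv6 F30204) (iv5 D18922) F118054 D17806 D37004 D81003
theorem F140919 : act 6 n79869 = n91675 := d21_5 (iv5 F118545) (iv1 F119051) (iv5 D36383) D36384 D79869 (iv5 F140918) F132504 F132500 (iv6 D79718) (iv1 F88936)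
theorem F140920 : act 7 n86710 = n79869 := d14_0 F140919 F140917 F123913 (iv7 F124465) D86710
theorem F140922 : act 3 n79643 = n91675 := d8_3 F140917 F135976 (iv7 F135977)
def n91676 : Q := act 7 n42863
theorem D91676 : act 7 n42863 = n91676 := rfl
theorem F140925 : act 5 n91676 = n81180 := d13_1 D91676 (iv7 D81180) (iv5 F67164)
theorem F140926 : act 6 n91676 = n78541 := d14_1 D91676 (iv7 D78541) (iv6 D35781) (iv7 F32115) D42863
theorem F140927 : act 1 n42873 = n91676 := d15_1 D42873 (iv7 D91676) F67162
def n91677 : Q := act 0 n42864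
theorem D91677 : act 0 n42864 = n91677 := rfl
def n91680 : Q := act 5 n42864
theorem D91680 : act 5 n42864 = n91680 := rfl
def n91681 : Q := act 6 n42864
theorem D91681 : act 6 n42864 = n91681 := rfl
theorem F140932 : act 3 n91681 = n42866 := d7_1 D91681 (iv6 D42866) D42864
def n91683 : Q := act 0 n42866
theorem D91683 : act 0 n42866 = n91683 := rfl
theorem F140936 : act 4 n91683 = n43134 := d20_2 (iv4 F67171) D91683 (iv3 D43134) (iv1 F63850) F63846 (iv4 F136006) (iv1 F136008) (iv4 F127080) (iv3 F127079) (iv1 D42867)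
def n91688 : Q := act 0 n42869
theorem D91688 : act 0 n42869 = n91688 := rfl
theorem F140953 : act 1 n78553 = n91688 := d15_0 (iv0 D91688) F67181 D78553
theorem F140954 : act 4 n80054 = n91688 := d20_0 (iv1 F140953) F119738 (iv3 F88448) (iv1 F88453) D78497 (iv4 F122846) (iv1 F122851) (iv4 D36455) D36454 D80054
def n91689 : Q := act 1 n42869
theorem D91689 : act 1 n42869 = n91689 := rfl
theorem F140955 : act 4 n78849 = n91689 := d20_6 (iv4 D7795) (iv1 F5691) D8141 D17378 D35894 D78849 (iv1 D91689) F67180 (iv3 D26957) F21408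
def n91690 : Q := act 2 n42869
theorem D91690 : act 2 n42869 = n91690 := rfl
theorem F140956 : act 4 n91690 = n55886 := d1_2 (iv4 F67180) D91690 (iv2 D55886)
theorem F140957 : act 7 n91690 = n78553 := d4_2 (iv7 F67181) D91690 (iv2 D78553)
theorem F140958 : act 1 n91690 = n78551 := d15_0 (iv0 D78551) (iv7 F67181) D91690
theorem F140959 : act 1 n91689 = n78553 := d15_1 D91689 (iv7 F140957) (iv2 D91690)
theorem F140960 : act 1 n78552 = n91690 := d15_1 D78552 F140957 (iv2 D78553)
def n91691 : Q := act 5 n42869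
theorem D91691 : act 5 n42869 = n91691 := rfl
theorem F140961 : act 3 n91691 = n42870 := d6_1 D91691 (iv5 D42870) D42869
theorem F140962 : act 7 n91691 = n78554 := d13_2 (iv7 F67181) D91691 (iv5 D78554)
def n91693 : Q := act 6 n42870
theorem D91693 : act 6 n42870 = n91693 := rfl
def n91694 : Q := act 0 n42871
theorem D91694 : act 0 n42871 = n91694 := rfl
def n91697 : Q := act 7 n42871
theorem D91697 : act 7 n42871 = n91697 := rfl
theorem F140965 : act 4 n91697 = n42874 := d11_1 D91697 (iv7 D42874) (iv4 F67183)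
theorem F140966 : act 6 n91697 = n78562 := d14_1 D91697 (iv7 D78562) (iv6 D35788) (iv7 F32122) D42871
def n91698 : Q := act 4 n42872
theorem D91698 : act 4 n42872 = n91698 := rfl
def n91699 : Q := act 3 n42873
theorem D91699 : act 3 n42873 = n91699 := rfl
theorem F140967 : act 7 n91699 = n77910 := d8_2 (iv7 F132996) D91699 (iv3 F132992)
def n91701 : Q := act 5 n42873
theorem D91701 : act 5 n42873 = n91701 := rfl
theorem F140970 : act 0 n91701 = n56595 := d21_1 D91701 F89506 (iv6 D36316) D36313 (iv6 F119751) (iv5 D78565) (iv1 F119725) F119723 (iv6 F140926) (iv1 F140927)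
theorem F140971 : act 6 n91701 = n81178 := d21_3 (iv5 F140925) (iv1 F140927) D91701 F124957 F58020 (iv5 F67185) (iv1 F140916) (iv5 F140918) F132505 (iv1 F124968)
theorem F140972 : act 0 n80978 = n91701 := d21_10 (iv5 D91701) (iv1 D42873) F32124 (iv6 D17850) F17598 (iv6 F34569) (iv5 D22097) (iv1 F118023) D36994 D80978
def n91702 : Q := act 6 n42873
theorem D91702 : act 6 n42873 = n91702 := rfl
theorem F140974 : act 7 n91702 = n79870 := d14_2 (iv7 F132996) D91702 (iv6 F123915) F124467 D86717
theorem F140975 : act 0 n91702 = n78317 := d21_4 (iv5 F124728) F140972 (iv5 D91701) D91702 F119529 (iv5 D35701) D35699 (iv5 F119535) F122431 (iv1 F122430)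
theorem F140976 : act 0 n79863 = n91702 := d21_4 (iv5 F119037) F122613 (iv5 D79862) D79863 (iv6 D91702) D91701 F140970 F89506 (iv6 D36316) D36313
def n91703 : Q := act 0 n42875
theorem D91703 : act 0 n42875 = n91703 := rfl
def n91704 : Q := act 1 n42875
theorem D91704 : act 1 n42875 = n91704 := rfl
def n91705 : Q := act 2 n42875
theorem D91705 : act 2 n42875 = n91705 := rfl
def n91707 : Q := act 5 n42876
theorem D91707 : act 5 n42876 = n91707 := rfl
def n91710 : Q := act 2 n42877
theorem D91710 : act 2 n42877 = n91710 := rfl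
theorem F140979 : act 4 n91710 = n89649 := d1_2 (iv4 F67187) D91710 (iv2 D89649)
def n91711 : Q := act 6 n42877
theorem D91711 : act 6 n42877 = n91711 := rfl
theorem F140981 : act 4 n91711 = n89651 := d10_1 D91711 (iv6 D89651) (iv4 F67187)
def n91714 : Q := act 3 n42879
theorem D91714 : act 3 n42879 = n91714 := rfl
theorem F140987 : act 4 n91714 = n87085 := d20_6 (iv4 D19413) F17550 D9577 D20256 D42879 D91714 (iv1 D87085) (iv4 F133678) (iv3 D87078) F61563
theorem F140988 : act 3 n87262 = n87085 := d5_5 (iv4 F140987) (iv3 D91714) (iv4 F68841) F68858 F140211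
def n91726 : Q := act 3 n42884
theorem D91726 : act 3 n42884 = n91726 := rfl
theorem F140998 : act 5 n91726 = n78538 := d6_2 (iv5 F67195) D91726 (iv3 D78538)
def n91731 : Q := act 7 n42885
theorem D91731 : act 7 n42885 = n91731 := rfl
def n91734 : Q := act 6 n42886
theorem D91734 : act 6 n42886 = n91734 := rfl
def n91753 : Q := act 0 n42898
theorem D91753 : act 0 n42898 = n91753 := rfl
def n91754 : Q := act 1 n42898
theorem D91754 : act 1 n42898 = n91754 := rfl
def n91756 : Q := act 0 n42899
theorem D91756 : act 0 n42899 = n91756 := rfl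
theorem F141026 : act 4 n91756 = n43048 := d20_2 D42899 D91756 (iv3 D43048) (iv1 D20316) F14967 F6224 (iv1 F3156) D4320 D9579 D20262
theorem F141027 : act 1 n42904 = n91756 := d15_0 (iv0 D91756) F137584 F137582
theorem F141028 : act 1 n43048 = n43142 := d18_8 F133951 D43018 (iv1 F135720) (iv4 D42095) F137572 D42904 F141027 F141026 F137522
def n91757 : Q := act 1 n42899
theorem D91757 : act 1 n42899 = n91757 := rfl
theorem F141029 : act 1 n91757 = n42904 := d15_1 D91757 (iv7 F137581) F137585
def n91759 : Q := act 5 n42899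
theorem D91759 : act 5 n42899 = n91759 := rfl
def n91765 : Q := act 0 n42903
theorem D91765 : act 0 n42903 = n91765 := rfl
theorem F141032 : act 4 n91765 = n43052 := d18_1 D91765 (iv1 F67394) F32752 (iv5 F32226) (iv4 F66900) (iv0 D42678) D42681 (iv0 F135721) (iv5 F137578)
theorem F141033 : act 2 n87260 = n91765 := d15_3 (iv0 D91765) F140210 D87260
theorem F141035 : act 5 n91765 = n91765 := d17_5 (iv1 D20143) D20145 D42692 F140182 (iv4 F141032) (iv0 D91765) F137578 F135722 (iv4 D42686)
theorem F141036 : act 7 n91765 = n87257 := d16_8 F67396 (iv5 F133929) D91182 (iv5 F140229) (iv4 D91178) F140182 (iv4 F141032) F141035 (iv2 D87257)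
theorem F141037 : act 3 n91765 = n87279 := d0_2 (iv3 F133901) F141033 (iv2 D87279) (iv3 D40534) (iv2 F61662)
theorem F141038 : act 4 n87279 = n88779 := d5_2 (iv4 F141032) F141037 (iv3 D88779) D88780 (iv3 F136163)
theorem E14659 : n91754 = n87279 := ((c20_4 D20317 D43052 (iv4 F141032) F141037 (iv1 D91754) (iv3 D42898) D42899 D91756 F141026 (iv3 D43048) (iv1 D20316))).symm
theorem F141039 : act 0 n87279 = n42898 := (sb E14659 (iv1 D91754))
def n91766 : Q := act 2 n42903
theorem D91766 : act 2 n42903 = n91766 := rfl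
theorem F141044 : act 7 n91766 = n87256 := d4_2 F137580 D91766 (iv2 F137531)
theorem F141045 : act 1 n91766 = n43625 := d15_0 (iv0 F137530) F137580 D91766
theorem F141046 : act 1 n43630 = n91766 := d15_1 (iv0 F140191) F141044 (iv2 F137531)
def n91768 : Q := act 3 n42904
theorem D91768 : act 3 n42904 = n91768 := rfl
theorem F141048 : act 0 n43607 = n91768 := d20_4 (iv4 F33741) F33742 (iv4 F61369) (iv3 F68552) (iv3 D91768) (iv4 D42904) (iv1 D20263) (iv4 F32126) (iv3 D20256) D20254
def n91836 : Q := act 0 n42930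
theorem D91836 : act 0 n42930 = n91836 := rfl
def n91838 : Q := act 7 n42930
theorem D91838 : act 7 n42930 = n91838 := rfl
theorem F141165 : act 2 n91838 = n91672 := d4_1 D91838 (iv7 D91672) (iv2 F67262)
theorem F141166 : act 3 n91838 = n57441 := d8_1 D91838 F90623 (iv3 F67263)
theorem F141167 : act 5 n91838 = n88394 := d13_1 D91838 (iv7 D88394) (iv5 F67264)
theorem F141170 : act 1 n91671 = n91838 := d15_1 D91671 (iv7 D91838) F67262
theorem F141171 : act 1 n91838 = n91670 := d15_0 (iv0 D91670) D91672 (iv2 F141165)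
def n91839 : Q := act 0 n42931
theorem D91839 : act 0 n42931 = n91839 := rfl
def n91840 : Q := act 1 n42931
theorem D91840 : act 1 n42931 = n91840 := rfl
def n91841 : Q := act 2 n42931
theorem D91841 : act 2 n42931 = n91841 := rfl
def n91842 : Q := act 5 n42931
theorem D91842 : act 5 n42931 = n91842 := rfl
theorem F141179 : act 3 n91842 = n42932 := d6_1 D91842 (iv5 D42932) D42931
theorem F141180 : act 7 n91842 = n91680 := d13_2 (iv7 F67266) D91842 (iv5 D91680)
def n91844 : Q := act 6 n42932
theorem D91844 : act 6 n42932 = n91844 := rfl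
theorem F141183 : act 2 n91844 = n42945 := d3_1 D91844 (iv6 D42945) (iv2 F67267)
theorem F141184 : act 4 n91844 = n91693 := d10_1 D91844 (iv6 D91693) (iv4 F67268)
def n91848 : Q := act 0 n42935
theorem D91848 : act 0 n42935 = n91848 := rfl
def n91849 : Q := act 1 n42935
theorem D91849 : act 1 n42935 = n91849 := rfl
def n91850 : Q := act 2 n42935
theorem D91850 : act 2 n42935 = n91850 := rfl
theorem F141197 : act 4 n91850 = n90942 := d1_2 (iv4 F67282) D91850 (iv2 D90942)
theorem F141198 : act 7 n91850 = n91705 := d4_2 (iv7 F67283) D91850 (iv2 D91705)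
theorem F141199 : act 1 n91850 = n91703 := d15_0 (iv0 D91703) (iv7 F67283) D91850
theorem F141200 : act 1 n91849 = n91705 := d15_1 D91849 (iv7 F141198) (iv2 D91850)
theorem F141201 : act 1 n91704 = n91850 := d15_1 D91704 F141198 (iv2 D91705)
def n91853 : Q := act 0 n42937
theorem D91853 : act 0 n42937 = n91853 := rfl
def n91854 : Q := act 1 n42937
theorem D91854 : act 1 n42937 = n91854 := rfl
def n91855 : Q := act 2 n42937
theorem D91855 : act 2 n42937 = n91855 := rfl
theorem F141206 : act 3 n91855 = n91705 := d0_2 D42937 D91855 (iv2 D91705) (iv3 D42875) (iv2 F32179)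
theorem F141207 : act 4 n91855 = n47679 := d1_2 (iv4 F67285) D91855 (iv2 D47679)
def n91856 : Q := act 6 n42937
theorem D91856 : act 6 n42937 = n91856 := rfl
theorem F141212 : act 3 n91856 = n42938 := d7_1 D91856 (iv6 D42938) D42937
theorem F141213 : act 4 n91856 = n46481 := d10_1 D91856 F73421 (iv4 F67285)
def n91857 : Q := act 5 n42938
theorem D91857 : act 5 n42938 = n91857 := rfl
theorem F141214 : act 2 n91857 = n91707 := d2_1 D91857 (iv5 D91707) (iv2 F67287)
theorem F141215 : act 0 n91857 = n43676 := d17_2 F67289 D91857 (iv5 D43676) (iv4 D20664) (iv5 D9793) (iv0 F62490) D9078 D19326 D41058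
theorem F141216 : act 0 n87935 = n91857 := d21_7 D20283 (iv1 F63603) (iv5 D41281) D41282 (iv1 F66364) (iv6 F62241) D87935 (iv5 D91857) (iv6 D42938) (iv1 D20281)
def n91859 : Q := act 4 n42939
theorem D91859 : act 4 n42939 = n91859 := rfl
theorem F141224 : act 7 n91859 = n43808 := d11_2 (iv7 F137540) D91859 F68841
theorem F141225 : act 5 n91859 = n43015 := d17_5 (iv1 D42081) D42083 D90048 F138369 D91859 (iv0 D43015) (iv5 F135632) F135664 F64986
def n91865 : Q := act 4 n42942
theorem D91865 : act 4 n42942 = n91865 := rfl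
def n91866 : Q := act 6 n42942
theorem D91866 : act 6 n42942 = n91866 := rfl
theorem F141237 : act 3 n91866 = n42945 := d7_1 D91866 (iv6 D42945) (iv3 F67297)
def n91869 : Q := act 5 n42943
theorem D91869 : act 5 n42943 = n91869 := rfl
theorem F141238 : act 3 n91869 = n42948 := d6_1 D91869 (iv5 D42948) (iv3 F67299)
def n91871 : Q := act 3 n42944
theorem D91871 : act 3 n42944 = n91871 := rfl
theorem F141242 : act 5 n91871 = n91673 := d6_2 (iv5 F67302) D91871 (iv3 D91673)
def n91872 : Q := act 6 n42944
theorem D91872 : act 6 n42944 = n91872 := rfl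
theorem F141244 : act 2 n91872 = n91693 := d3_1 D91872 (iv6 D91693) (iv2 F67301)
theorem F141245 : act 4 n91872 = n42945 := d10_1 D91872 (iv6 D42945) D42944
def n91873 : Q := act 0 n42945
theorem D91873 : act 0 n42945 = n91873 := rfl
def n91874 : Q := act 1 n42945
theorem D91874 : act 1 n42945 = n91874 := rfl
def n91875 : Q := act 5 n42945
theorem D91875 : act 5 n42945 = n91875 := rfl
theorem F141246 : act 6 n91875 = n42948 := d12_2 D42945 D91875 (iv5 D42948) (iv6 D20284) D20283
def n91876 : Q := act 7 n42945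
theorem D91876 : act 7 n42945 = n91876 := rfl
theorem F141247 : act 6 n91876 = n91731 := d14_1 D91876 (iv7 D91731) (iv6 D42885) (iv7 F32184) D42945
def n91879 : Q := act 3 n42947
theorem D91879 : act 3 n42947 = n91879 := rfl
theorem F141249 : act 6 n91879 = n91294 := d7_2 (iv6 F133693) D91879 (iv3 D91294)
def n91882 : Q := act 1 n42948
theorem D91882 : act 1 n42948 = n91882 := rfl
def n91886 : Q := act 5 n42950
theorem D91886 : act 5 n42950 = n91886 := rfl
theorem F141255 : act 2 n91886 = n90999 := d2_1 D91886 (iv5 D90999) (iv2 F75880)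
theorem F141258 : act 7 n91886 = n48267 := d13_2 (iv7 F75877) D91886 F75874
def n91891 : Q := act 4 n42952
theorem D91891 : act 4 n42952 = n91891 := rfl
theorem F141269 : act 6 n91891 = n43670 := d10_2 (iv6 F67306) D91891 (iv4 D43670)
theorem F141270 : act 7 n91891 = n48272 := d11_2 (iv7 F67307) D91891 F75888
def n91892 : Q := act 3 n42954
theorem D91892 : act 3 n42954 = n91892 := rfl
theorem F141271 : act 6 n91892 = n91289 := d7_2 (iv6 F67310) D91892 (iv3 D91289)
def n91895 : Q := act 1 n42957
theorem D91895 : act 1 n42957 = n91895 := rfl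
theorem F141274 : act 7 n91895 = n87279 := d15_2 (iv0 F137523) D91895 (iv2 D87279)
theorem F141276 : act 3 n43625 = n91895 := d20_3 (iv4 F15251) D20635 D43625 (iv1 D91895) (iv3 D42957) D42958 F68860 (iv4 D43811) (iv3 D20740) (iv1 D9827)
theorem E14660 : n87257 = n43625 := (c8_1 F141036 F141276 F141274 (iv3 F141037))
theorem F141277 : act 2 n43625 = n40529 := (sb E14660 (iv2 D87257))
theorem F141278 : act 7 n43625 = n91765 := (sb E14660 (iv7 F141036))
theorem F141279 : act 2 n87251 = n91895 := d0_5 (iv3 F141276) F141277 (iv3 D40529) D40528 D87251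
theorem E14661 : n91753 = n87251 := ((c15_4 (iv0 D91753) (iv0 F141039) (iv7 F141274) (iv2 F141279))).symm
theorem F141281 : act 1 n87251 = n42898 := (sb E14661 (iv0 D91753))
theorem E14662 : n43628 = n43052 := ((c11_2 F141278 F141032 (iv7 D43628) D43625)).symm
theorem F141283 : act 7 n43052 = n20635 := (sb E14662 (iv7 D43628))
theorem E14663 : n87260 = n43630 := (c15_4 F141046 F141045 F141278 (iv2 F141033))
theorem E14664 : n40533 = n23677 := ((((iv3 F68567)).symm.trans (sb E14663 F133901))).symm
theorem F141285 : act 7 n43630 = n40529 := (sb E14663 (iv7 D87260))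
theorem E14665 : n87250 = n19150 := ((((iv1 F36820)).symm.trans (sb E14664 (iv1 F133892)))).symm
theorem E14671 : n40528 = n23678 := ((((iv1 F36825)).symm.trans (sb E14665 (iv1 D87250)))).symm
theorem E14672 : n87251 = n48538 := (((D48538).symm.trans (sb E14671 D87251))).symm
theorem E14673 : n87252 = n48539 := (((D48539).symm.trans (sb E14671 D87252))).symm
theorem F141293 : act 1 n48538 = n42898 := (sb E14672 F141281)
theorem F141295 : act 7 n48538 = n40534 := (sb E14672 F133893)
theorem F141296 : act 2 n48539 = n40530 := (sb E14673 F133894)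
theorem F141297 : act 7 n48539 = n40535 := (sb E14673 F133895)
theorem E14675 : n43623 = n43053 := ((c11_2 F141285 F67396 (iv7 F68565) D43630)).symm
theorem F141299 : act 2 n43053 = n20635 := (sb E14675 (iv2 D43623))
theorem F141300 : act 7 n43053 = n20636 := (sb E14675 (iv7 F68565))
theorem E14676 : n91176 = n43631 := ((c13_2 F141300 D43631 (iv7 F140226) F133929)).symm
theorem F141301 : act 2 n43631 = n42692 := (sb E14676 (iv2 D91176))
theorem F141302 : act 7 n43631 = n42693 := (sb E14676 (iv7 F140226))
theorem E14677 : n91180 = n43626 := (c15_4 F68855 F68856 F141302 (iv2 F140228))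
theorem F141303 : act 2 n43626 = n42693 := (sb E14677 F140228)
theorem F141304 : act 7 n43626 = n42692 := (sb E14677 (iv7 D91180))
theorem F141305 : act 7 n43624 = n88780 := d8_2 F141283 D43624 (iv3 F136163)
theorem E14678 : n88773 = n47690 := (c11_3 F141305 (iv4 D88780) F136161 (iv4 F74973))
theorem F141306 : act 2 n47690 = n41446 := (sb E14678 (iv2 D88773))
theorem F141307 : act 7 n47690 = n41447 := (sb E14678 (iv7 F136161))
theorem E14679 : n88778 = n47689 := (c15_4 (iv0 D47689) D47690 F141307 (iv2 F136162))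
theorem F141308 : act 2 n47689 = n41447 := (sb E14679 F136162)
theorem F141309 : act 7 n47689 = n41446 := (sb E14679 (iv7 D88778))
theorem F141310 : act 2 n88775 = n43624 := d1_3 F74973 F141306 D88775
def n91896 : Q := act 2 n42957
theorem D91896 : act 2 n42957 = n91896 := rfl
theorem F141311 : act 3 n91896 = n91766 := d0_2 D42957 D91896 (iv2 D91766) (iv3 D42903) F137570
theorem F141312 : act 4 n91896 = n43177 := d1_2 (iv4 F67532) D91896 (iv2 F137575)
theorem F141313 : act 5 n91896 = n47741 := d2_2 (iv5 F137524) D91896 F135697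
theorem F141315 : act 1 n91896 = n48538 := d15_0 F141293 (iv7 F137573) D91896
theorem F141316 : act 1 n87279 = n91896 := d15_0 F141315 F141295 D87279
def n91898 : Q := act 1 n42958
theorem D91898 : act 1 n42958 = n91898 := rfl
theorem F141318 : act 1 n91898 = n42963 := d15_1 D91898 F137581 (iv2 F137582)
def n91900 : Q := act 5 n42958
theorem D91900 : act 5 n42958 = n91900 := rfl
theorem F141321 : act 7 n91900 = n91759 := d13_2 F137584 D91900 (iv5 D91759)
def n91906 : Q := act 4 n42962
theorem D91906 : act 4 n42962 = n91906 := rfl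
theorem F141332 : act 2 n91906 = n43793 := d1_1 D91906 F140100 (iv2 F137531)
theorem F141333 : act 7 n91906 = n43792 := d11_2 (iv7 F137580) D91906 F68830
theorem F141334 : act 1 n91906 = n43044 := d18_6 D9604 D20304 D42999 F67365 (iv5 F137532) D91906 (iv4 D43044) (iv0 D20315) (iv5 D9607)
def n91909 : Q := act 5 n42963
theorem D91909 : act 5 n42963 = n91909 := rfl
theorem F141339 : act 2 n91909 = n91759 := d2_1 D91909 (iv5 D91759) (iv2 F137585)
def n91935 : Q := act 4 n42971
theorem D91935 : act 4 n42971 = n91935 := rfl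
theorem F141368 : act 3 n91935 = n43213 := d5_1 D91935 (iv4 D43213) (iv3 D20378) F32199 D42971
theorem F141369 : act 6 n91935 = n89944 := d10_2 (iv6 F67321) D91935 F138155
def n91957 : Q := act 0 n42979
theorem D91957 : act 0 n42979 = n91957 := rfl
def n91958 : Q := act 1 n42979
theorem D91958 : act 1 n42979 = n91958 := rfl
def n91959 : Q := act 2 n42979
theorem D91959 : act 2 n42979 = n91959 := rfl
theorem F141423 : act 6 n91959 = n89778 := d3_2 (iv6 F67338) D91959 (iv2 D89778)
def n91960 : Q := act 5 n42979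
theorem D91960 : act 5 n42979 = n91960 := rfl
theorem F141424 : act 3 n91960 = n42980 := d6_1 D91960 (iv5 D42980) D42979
def n91962 : Q := act 1 n42980
theorem D91962 : act 1 n42980 = n91962 := rfl
theorem F141430 : act 5 n91962 = n48334 := d17_7 (iv1 F36601) (iv5 F36602) (iv1 F32267) (iv5 D20298) D20297 D42980 D91962 F75976 (iv4 D42981)
def n91967 : Q := act 0 n42983
theorem D91967 : act 0 n42983 = n91967 := rfl
theorem F141442 : act 1 n91959 = n91967 := d15_0 (iv0 D91967) F67347 D91959
def n91969 : Q := act 2 n42983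
theorem D91969 : act 2 n42983 = n91969 := rfl
theorem F141445 : act 7 n91969 = n91959 := d4_2 (iv7 F67347) D91969 (iv2 D91959)
theorem F141446 : act 1 n91969 = n91957 := d15_0 (iv0 D91957) (iv7 F67347) D91969
def n91975 : Q := act 5 n42989
theorem D91975 : act 5 n42989 = n91975 := rfl
theorem F141460 : act 2 n91975 = n43002 := d2_1 D91975 (iv5 D43002) (iv2 F67355)
theorem F141461 : act 7 n91975 = n43022 := d13_2 (iv7 F67356) D91975 (iv5 D43022)
def n91981 : Q := act 5 n42993
theorem D91981 : act 5 n42993 = n91981 := rfl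
theorem F141472 : act 2 n91981 = n43147 := d2_1 D91981 (iv5 F137560) F133962
theorem F141473 : act 3 n91981 = n91859 := d6_1 D91981 F141225 F67377
theorem F141475 : act 0 n91981 = n43043 := d18_0 F67392 (iv1 D40523) F30766 (iv5 F17978) (iv4 F36835) (iv0 F67360) (iv4 D42995) D42993 D91981
theorem F141479 : act 1 n91981 = n87233 := d15_0 (iv0 F137551) (iv7 F137558) (iv2 F141472)
def n91983 : Q := act 6 n42994
theorem D91983 : act 6 n42994 = n91983 := rfl
def n91984 : Q := act 3 n42995
theorem D91984 : act 3 n42995 = n91984 := rfl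
theorem F141483 : act 4 n91984 = n43001 := d5_2 D42995 D91984 (iv3 D43001) (iv4 D20304) D20303
theorem F141484 : act 7 n91984 = n87117 := d8_2 (iv7 F135643) D91984 (iv3 D87117)
def n91992 : Q := act 3 n42999
theorem D91992 : act 3 n42999 = n91992 := rfl
theorem F141494 : act 4 n91992 = n88580 := d5_2 (iv4 F67365) D91992 (iv3 D88580) (iv4 D41341) D41340
def n91993 : Q := act 5 n42999
theorem D91993 : act 5 n42999 = n91993 := rfl
def n91994 : Q := act 6 n42999
theorem D91994 : act 6 n42999 = n91994 := rfl
def n91995 : Q := act 5 n43000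
theorem D91995 : act 5 n43000 = n91995 := rfl
def n91996 : Q := act 6 n43000
theorem D91996 : act 6 n43000 = n91996 := rfl
def n91997 : Q := act 1 n43001
theorem D91997 : act 1 n43001 = n91997 := rfl
theorem F141496 : act 4 n44562 = n91997 := d20_0 (iv1 D91997) (iv4 F141483) (iv3 D91984) F67360 (iv3 D23683) (iv4 D11090) F7523 D10108 D21199 D44562
def n91998 : Q := act 2 n43001
theorem D91998 : act 2 n43001 = n91998 := rfl
def n91999 : Q := act 5 n43001
theorem D91999 : act 5 n43001 = n91999 := rfl
theorem F141497 : act 3 n91999 = n43002 := d6_1 D91999 (iv5 D43002) D43001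
def n92000 : Q := act 6 n43001
theorem D92000 : act 6 n43001 = n92000 := rfl
def n92001 : Q := act 7 n43001
theorem D92001 : act 7 n43001 = n92001 := rfl
theorem F141499 : act 3 n92001 = n43004 := d8_1 D92001 (iv7 D43004) D43001
theorem F141500 : act 4 n92001 = n87117 := d11_1 D92001 (iv7 F141484) F141483
def n92002 : Q := act 0 n43002
theorem D92002 : act 0 n43002 = n92002 := rfl
theorem F141501 : act 5 n92002 = n43792 := d17_3 (iv1 D43000) D43002 D92002 F68830 F137578 F135722 F133749 D87141 F133936
theorem F141502 : act 1 n43022 = n92002 := d17_6 (iv1 F32237) (iv5 D20314) F135634 (iv5 F135635) D20309 D43022 F141501 (iv0 D43792) (iv4 D20736)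
def n92003 : Q := act 1 n43002
theorem D92003 : act 1 n43002 = n92003 := rfl
theorem F141503 : act 1 n92003 = n43022 := d15_1 D92003 (iv7 F141461) F141460
theorem F141504 : act 5 n92003 = n43793 := d17_7 (iv1 D9827) (iv5 F14970) F133753 (iv5 D20305) D20304 D43002 D92003 F68831 (iv4 D20741)
theorem F141505 : act 3 n91016 = n92003 := d6_3 F141504 F140099 D91016
def n92004 : Q := act 4 n43002
theorem D92004 : act 4 n43002 = n92004 := rfl
theorem F141506 : act 1 n92004 = n43636 := d18_6 (iv1 D20143) F14759 D9604 D20304 D43002 D92004 (iv4 D43636) (iv0 F133756) (iv5 D42687)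
def n92005 : Q := act 6 n43002
theorem D92005 : act 6 n43002 = n92005 := rfl
def n92032 : Q := act 3 n43018
theorem D92032 : act 3 n43018 = n92032 := rfl
theorem F141527 : act 4 n92032 = n43021 := d5_2 D43018 D92032 (iv3 D43021) (iv4 D20309) D20308
def n92033 : Q := act 5 n43018
theorem D92033 : act 5 n43018 = n92033 := rfl
theorem F141528 : act 0 n92033 = n91909 := d17_2 F67378 D92033 (iv5 D91909) (iv4 D42963) (iv5 F137534) F31664 F31660 F31658 D42090
theorem F141529 : act 1 n92033 = n91900 := d15_1 (iv0 F141528) F141321 (iv2 F141339)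
def n92034 : Q := act 6 n43018
theorem D92034 : act 6 n43018 = n92034 := rfl
def n92039 : Q := act 2 n43021
theorem D92039 : act 2 n43021 = n92039 := rfl
def n92040 : Q := act 5 n43021
theorem D92040 : act 5 n43021 = n92040 := rfl
theorem F141533 : act 3 n92040 = n43022 := d6_1 D92040 (iv5 D43022) D43021
def n92041 : Q := act 6 n43021
theorem D92041 : act 6 n43021 = n92041 := rfl
def n92042 : Q := act 4 n43022
theorem D92042 : act 4 n43022 = n92042 := rfl
theorem F141535 : act 0 n92042 = n43636 := d18_2 (iv1 F141502) D92042 (iv4 D43636) (iv5 D20638) F15251 D9827 D20741 F68835 (iv5 F141501)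
theorem F141536 : act 0 n90943 = n92040 := d20_4 F31970 (iv1 F65106) (iv4 F66432) (iv3 F139980) F141533 D92042 F141535 (iv4 D43636) F32753 (iv1 F31971)
def n92043 : Q := act 6 n43022
theorem D92043 : act 6 n43022 = n92043 := rfl
def n92069 : Q := act 4 n43042
theorem D92069 : act 4 n43042 = n92069 := rfl
theorem F141555 : act 2 n92069 = n43044 := d1_1 D92069 (iv4 D43044) D43042
theorem F141556 : act 7 n92069 = n43049 := d11_2 F67391 D92069 (iv4 D43049)
def n92071 : Q := act 2 n43043
theorem D92071 : act 2 n43043 = n92071 := rfl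
theorem F141558 : act 4 n92071 = n87236 := d1_2 (iv4 F67392) D92071 F133887
theorem F141560 : act 7 n87233 = n92071 := d15_2 (iv0 F141475) F141479 (iv2 D92071)
def n92073 : Q := act 7 n43043
theorem D92073 : act 7 n43043 = n92073 := rfl
theorem F141563 : act 2 n92073 = n87233 := d4_1 D92073 F141560 (iv2 D92071)
theorem F141564 : act 3 n92073 = n43047 := d8_1 D92073 (iv7 D43047) D43043
def n92074 : Q := act 1 n43044
theorem D92074 : act 1 n43044 = n92074 := rfl
theorem F141568 : act 7 n92074 = n43793 := d15_2 F141334 D92074 (iv2 F141332)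
theorem F141569 : act 2 n43792 = n92074 := d4_3 F141568 (iv2 F141332) F141333
theorem F141570 : act 3 n91008 = n92074 := d8_3 F141568 F140099 F140062
theorem F141571 : act 4 n91766 = n92074 := d11_3 F141568 F140100 (iv7 F141044)
theorem E14681 : n91008 = n43593 := (c20_4 D43625 (iv1 F141045) F141571 (iv3 F141570) (iv1 D43593) (iv3 D20623) (iv4 D9776) (iv1 D4420) D4421 D9780 D20635)
theorem F141572 : act 2 n43593 = n42632 := (sb E14681 (iv2 D91008))
theorem F141573 : act 3 n43593 = n92074 := (sb E14681 F141570)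
theorem F141574 : act 7 n43593 = n42633 := (sb E14681 (iv7 F140062))
theorem E14682 : n91013 = n43592 := (c15_4 (iv0 D43592) D43593 F141574 (iv2 F140063))
theorem F141575 : act 2 n43592 = n42633 := (sb E14682 F140063)
theorem F141576 : act 7 n43592 = n42632 := (sb E14682 (iv7 D91013))
def n92076 : Q := act 5 n43044
theorem D92076 : act 5 n43044 = n92076 := rfl
def n92078 : Q := act 7 n43044
theorem D92078 : act 7 n43044 = n92078 := rfl
theorem F141583 : act 2 n92078 = n43049 := d4_1 D92078 (iv7 F141556) F141555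
theorem F141584 : act 4 n92078 = n43047 := d11_1 D92078 (iv7 D43047) D43044
def n92084 : Q := act 2 n43048
theorem D92084 : act 2 n43048 = n92084 := rfl
theorem F141587 : act 3 n92084 = n87233 := d0_2 D43048 D92084 (iv2 F141563) F141564 F67393
theorem F141589 : act 4 n91898 = n92084 := d20_2 D42963 (iv1 F141318) F141587 (iv1 F141479) F141473 (iv4 D91859) (iv1 F67291) F67190 F32129 (iv1 F32194)
theorem F141591 : act 3 n91898 = n88396 := d5_3 D87233 (iv3 F141587) (iv4 F141589) (iv4 F135388) (iv3 D87232)
theorem F141592 : act 0 n92084 = n43195 := d20_4 (iv4 F30766) D40522 D87233 (iv3 F141587) (iv3 D43195) D43196 F133976 (iv4 D87280) (iv3 D40534) (iv1 D19149)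
theorem F141593 : act 7 n92084 = n43810 := d15_2 (iv0 F137543) (iv0 F141592) (iv2 D43810)
theorem E14683 : n43781 = n43048 := (c4_3 F141593 (iv2 D43810) (iv7 F68819) D92084)
theorem E14684 : n20734 = n20316 := ((((iv3 D43048)).symm.trans (sb E14683 (iv3 D43781)))).symm
theorem E14686 : n43779 = n9607 := ((((iv1 D20316)).symm.trans (sb E14684 D43779))).symm
theorem E14688 : n43047 = n9826 := (((iv2 F67393)).symm.trans (sb E14684 (iv2 D20734)))
theorem E14689 : n43782 = n43049 := (((D43049).symm.trans (sb E14684 D43782))).symm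
theorem E14692 : n20739 = n20315 := (((D20315).symm.trans (sb E14686 (iv1 F68817)))).symm
theorem E14695 : n92073 = n20735 := (((D20735).symm.trans (sb E14688 (iv3 F141564)))).symm
theorem E14696 : n92078 = n20736 := (((D20736).symm.trans (sb E14688 (iv4 F141584)))).symm
theorem E14698 : n92069 = n20741 := (((iv7 F141556)).symm.trans (sb E14689 F68821))
theorem E14701 : n43797 = n43044 := (((D43044).symm.trans (sb E14692 (iv4 F68834)))).symm
theorem E14703 : n87233 = n43787 := (((D43787).symm.trans (sb E14695 F141563))).symm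
theorem F141599 : act 2 n20736 = n43049 := (sb E14696 F141583)
theorem F141601 : act 7 n20741 = n43049 := (sb E14698 F141556)
theorem F141603 : act 2 n43044 = n20741 := (sb E14701 F68833)
theorem F141604 : act 7 n43044 = n20736 := (sb E14701 (iv7 D43797))
theorem F141608 : act 3 n43787 = n92084 := (sb E14703 (iv3 F141587))
theorem F141610 : act 7 n43787 = n92071 := (sb E14703 F141560)
theorem F141613 : act 3 n43810 = n92071 := d8_1 F141593 (iv7 F141610) F141608
theorem F141614 : act 1 n43142 = n43810 := d15_1 F141028 (iv7 F141593) (iv2 D92084)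
theorem F141615 : act 1 n43810 = n91859 := d15_1 F141614 F141224 (iv2 F137538)
theorem E14705 : n87236 = n48520 := ((c20_8 F67547 (iv1 D42940) F32182 (iv3 D9599) (iv1 F7519) D11087 (iv4 F36815) D48520 (iv4 F141558) (iv3 F141613) (iv1 F141614))).symm
theorem F141617 : act 4 n48520 = n92071 := (sb E14705 (iv4 F141558))
theorem F141618 : act 7 n48520 = n40522 := (sb E14705 (iv7 D87236))
theorem F141620 : act 0 n92071 = n43786 := d20_1 F141617 F140211 F140988 (iv1 D87085) (iv3 D40463) (iv4 D19125) (iv1 F16897) D11085 D23672 D48520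
theorem F141627 : act 4 n91757 = n43810 := d20_2 D42904 (iv1 F141029) F141613 F141620 (iv3 F68858) F68841 (iv1 F67294) F67292 F32190 (iv1 F32195)
theorem F141629 : act 7 n91898 = n91757 := d11_0 F141627 (iv7 F141593) (iv4 F141589)
theorem F141630 : act 3 n91757 = n86893 := d20_3 D91859 (iv1 F141615) (iv4 F141627) (iv1 D86893) (iv3 D40313) (iv4 D19056) F17548 D9597 D20282 D42939
theorem F141631 : act 7 n86893 = n88396 := d8_2 F141629 F141630 (iv3 F141591)
theorem F141632 : act 2 n88396 = n86892 := d15_3 (iv0 D86892) D86893 F141631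
theorem F141633 : act 2 n86893 = n88395 := d15_3 (iv0 D88395) D88396 (iv7 F141631)
theorem F141634 : act 7 n88395 = n86892 := d4_2 (iv7 F141631) F141633 (iv2 F141632)
theorem F141645 : act 7 n43795 = n92076 := d13_2 F141604 D43795 (iv5 D92076)
theorem F141646 : act 2 n43814 = n92076 := d2_3 (iv5 D92076) F141603 D43814
def n92087 : Q := act 5 n43049
theorem D92087 : act 5 n43049 = n92087 := rfl
theorem F141652 : act 2 n92087 = n43795 := d2_1 D92087 (iv5 D43795) F141599
theorem F141653 : act 7 n92087 = n43814 := d13_2 F141601 D92087 (iv5 D43814)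
def n92094 : Q := act 3 n43053
theorem D92094 : act 3 n43053 = n92094 := rfl
theorem F141668 : act 4 n92094 = n87263 := d5_2 F67396 D92094 (iv3 D87263) (iv4 D40530) D40529
theorem F141669 : act 5 n92094 = n91181 := d6_2 F133929 D92094 (iv3 D91181)
theorem F141670 : act 7 n92094 = n43629 := d8_2 (iv7 F141300) D92094 (iv3 D43629)
def n92096 : Q := act 4 n43054
theorem D92096 : act 4 n43054 = n92096 := rfl
theorem F141674 : act 7 n92096 = n43636 := d11_2 (iv7 F67398) D92096 (iv4 D43636)
def n92097 : Q := act 6 n43054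
theorem D92097 : act 6 n43054 = n92097 := rfl
theorem F141675 : act 3 n92097 = n43643 := d7_1 D92097 (iv6 D43643) (iv3 F67397)
def n92100 : Q := act 5 n43055
theorem D92100 : act 5 n43055 = n92100 := rfl
theorem F141676 : act 3 n92100 = n43646 := d6_1 D92100 (iv5 D43646) (iv3 F67399)
def n92101 : Q := act 7 n43055
theorem D92101 : act 7 n43055 = n92101 := rfl
theorem F141679 : act 6 n92101 = n43558 := d14_1 D92101 (iv7 D43558) F32682 (iv7 F32241) D43055
def n92166 : Q := act 6 n43095
theorem D92166 : act 6 n43095 = n92166 := rfl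
theorem F141751 : act 4 n92166 = n43096 := d10_1 D92166 (iv6 D43096) D43095
def n92174 : Q := act 0 n43100
theorem D92174 : act 0 n43100 = n92174 := rfl
theorem F141766 : act 1 n78834 = n92174 := d15_0 (iv0 D92174) F67476 D78834
def n92175 : Q := act 1 n43100
theorem D92175 : act 1 n43100 = n92175 := rfl
def n92176 : Q := act 2 n43100
theorem D92176 : act 2 n43100 = n92176 := rfl
theorem F141767 : act 4 n92176 = n43108 := d1_2 (iv4 F67475) D92176 (iv2 D43108)
theorem F141768 : act 7 n92176 = n78834 := d4_2 (iv7 F67476) D92176 (iv2 D78834)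
theorem F141769 : act 1 n92176 = n78832 := d15_0 (iv0 D78832) (iv7 F67476) D92176
theorem F141770 : act 1 n92175 = n78834 := d15_1 D92175 (iv7 F141768) (iv2 D92176)
theorem F141771 : act 1 n78833 = n92176 := d15_1 D78833 F141768 (iv2 D78834)
def n92177 : Q := act 5 n43100
theorem D92177 : act 5 n43100 = n92177 := rfl
theorem F141772 : act 3 n92177 = n43101 := d6_1 D92177 (iv5 D43101) D43100
theorem F141773 : act 7 n92177 = n78835 := d13_2 (iv7 F67476) D92177 (iv5 D78835)
def n92178 : Q := act 6 n43100
theorem D92178 : act 6 n43100 = n92178 := rfl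
theorem F141774 : act 3 n92178 = n43102 := d7_1 D92178 (iv6 D43102) D43100
theorem F141775 : act 4 n92178 = n43109 := d10_1 D92178 (iv6 D43109) (iv4 F67475)
def n92179 : Q := act 6 n43101
theorem D92179 : act 6 n43101 = n92179 := rfl
def n92180 : Q := act 0 n43102
theorem D92180 : act 0 n43102 = n92180 := rfl
def n92181 : Q := act 1 n43102
theorem D92181 : act 1 n43102 = n92181 := rfl
theorem F141776 : act 4 n79643 = n92181 := d20_6 (iv4 F92675) (iv1 F88416) F88413 (iv3 F67184) (iv1 F140916) (iv3 F140922) (iv1 D92181) F67478 F32269 D20339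
theorem F141777 : act 4 n81381 = n46249 := d18_7 (iv1 F135985) F141776 (iv1 D92181) F67478 F32270 (iv4 F58107) D81381 F72903 (iv5 F135984)
theorem F141778 : act 3 n81179 = n46249 := d20_5 (iv4 F92686) (iv1 F58062) F58025 (iv3 F58019) (iv1 F124960) (iv4 F141777) (iv1 D81381) F58107 F29044 D17874
theorem F141779 : act 6 n46249 = n46214 := d7_2 F124963 F141778 (iv3 F124581)
theorem F141780 : act 7 n46249 = n81193 := d8_2 (iv7 F124961) F141778 (iv3 D81193)
theorem F141782 : act 2 n81193 = n46248 := d15_3 (iv0 D46248) D46249 F141780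
theorem F141783 : act 2 n81380 = n82831 := d1_3 (iv4 F127576) F141782 F127578
theorem F141784 : act 7 n82832 = n81380 := d15_2 (iv0 D82831) D82832 F141783
theorem F141786 : act 6 n82264 = n81381 := d10_2 F141779 (iv4 F126736) F141777
def n92182 : Q := act 5 n43102
theorem D92182 : act 5 n43102 = n92182 := rfl
def n92183 : Q := act 7 n43102
theorem D92183 : act 7 n43102 = n92183 := rfl
theorem F141787 : act 4 n92183 = n43105 := d11_1 D92183 (iv7 D43105) (iv4 F67478)
theorem F141788 : act 6 n92183 = n78841 := d14_1 D92183 (iv7 D78841) (iv6 D35890) (iv7 F32268) D43102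
def n92184 : Q := act 3 n43103
theorem D92184 : act 3 n43103 = n92184 := rfl
theorem F141789 : act 6 n92184 = n81856 := d7_2 (iv6 F67479) D92184 F125870
theorem F141790 : act 0 n77913 = n92184 := d21_4 (iv5 D34462) F28177 D35550 D77913 F141789 (iv5 D81856) (iv1 D37476) D37477 F58362 (iv1 F54681)
def n92185 : Q := act 4 n43103
theorem D92185 : act 4 n43103 = n92185 := rfl
theorem F141791 : act 2 n92185 = n84219 := d1_1 D92185 F129285 F125862
theorem F141792 : act 6 n92185 = n82413 := d10_2 (iv6 F67479) D92185 (iv4 D82413)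
def n92186 : Q := act 3 n43104
theorem D92186 : act 3 n43104 = n92186 := rfl
theorem F141793 : act 7 n92186 = n84207 := d8_2 (iv7 F125863) D92186 F129268
def n92187 : Q := act 4 n43104
theorem D92187 : act 4 n43104 = n92187 := rfl
theorem F141794 : act 7 n92187 = n84219 := d11_2 (iv7 F125863) D92187 F129285
theorem F141795 : act 0 n92187 = n84255 := d18_2 (iv1 F112877) D92187 F129331 F63834 (iv4 F58924) (iv0 F127629) (iv4 D81391) F58917 (iv5 F112875)
theorem F141796 : act 1 n92185 = n84255 := d15_0 (iv0 F141795) F141794 (iv2 F141791)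
def n92188 : Q := act 6 n43104
theorem D92188 : act 6 n43104 = n92188 := rfl
theorem F141798 : act 7 n92188 = n82408 := d14_2 (iv7 F125863) D92188 (iv6 D82408) F125826 D38838
theorem F141799 : act 0 n92188 = n83275 := d21_4 F127730 F127590 F127589 D92188 F128348 (iv5 D38355) D38353 (iv5 F59653) D75794 F127733
theorem F141800 : act 0 n82946 = n92188 := d21_4 (iv5 F117778) F117776 (iv5 F59648) D82946 (iv6 D92188) (iv5 F127589) (iv1 F127591) F117970 (iv6 D38454) D38451
def n92189 : Q := act 2 n43106
theorem D92189 : act 2 n43106 = n92189 := rfl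
theorem F141801 : act 7 n43107 = n92189 := d15_2 (iv0 D43106) D43107 (iv2 D92189)
def n92190 : Q := act 3 n43106
theorem D92190 : act 3 n43106 = n92190 := rfl
theorem F141802 : act 4 n92190 = n78552 := d20_6 (iv4 D8837) (iv1 F6238) D9617 D20337 D43106 D92190 (iv1 D78552) F56455 (iv3 D17342) (iv1 F13739)
def n92191 : Q := act 4 n43106
theorem D92191 : act 4 n43106 = n92191 := rfl
def n92192 : Q := act 5 n43106
theorem D92192 : act 5 n43106 = n92192 := rfl
def n92193 : Q := act 6 n43106
theorem D92193 : act 6 n43106 = n92193 := rfl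
def n92194 : Q := act 7 n43106
theorem D92194 : act 7 n43106 = n92194 := rfl
theorem F141803 : act 2 n92194 = n43107 := d4_1 D92194 F141801 (iv2 D92189)
def n92195 : Q := act 3 n43107
theorem D92195 : act 3 n43107 = n92195 := rfl
def n92196 : Q := act 4 n43107
theorem D92196 : act 4 n43107 = n92196 := rfl
def n92197 : Q := act 5 n43107
theorem D92197 : act 5 n43107 = n92197 := rfl
def n92198 : Q := act 6 n43107
theorem D92198 : act 6 n43107 = n92198 := rfl
def n92199 : Q := act 6 n43108
theorem D92199 : act 6 n43108 = n92199 := rfl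
theorem F141804 : act 2 n92199 = n43109 := d3_1 D92199 (iv6 D43109) D43108
theorem F141805 : act 3 n92199 = n78799 := d7_1 D92199 (iv6 D78799) (iv3 F67484)
def n92200 : Q := act 0 n43109
theorem D92200 : act 0 n43109 = n92200 := rfl
def n92201 : Q := act 1 n43109
theorem D92201 : act 1 n43109 = n92201 := rfl
def n92203 : Q := act 7 n43109
theorem D92203 : act 7 n43109 = n92203 := rfl
theorem F141809 : act 6 n92203 = n78862 := d14_1 D92203 (iv7 D78862) (iv6 D35897) (iv7 F32272) D43109
def n92204 : Q := act 3 n43110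
theorem D92204 : act 3 n43110 = n92204 := rfl
theorem F141810 : act 6 n92204 = n73999 := d7_2 (iv6 F92755) D92204 (iv3 D73999)
def n92207 : Q := act 5 n43111
theorem D92207 : act 5 n43111 = n92207 := rfl
theorem F141818 : act 0 n92207 = n84816 := d17_2 (iv1 F67491) D92207 (iv5 D84816) F60189 (iv5 F44165) (iv0 F58132) F58131 F32276 (iv4 F56531)
def n92208 : Q := act 6 n43111
theorem D92208 : act 6 n43111 = n92208 := rfl
theorem F141819 : act 2 n92208 = n78531 := d3_1 D92208 (iv6 D78531) (iv2 F92757)
theorem F141820 : act 4 n92208 = n55894 := d10_1 D92208 (iv6 D55894) (iv4 F92758)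
theorem F141821 : act 7 n92208 = n73842 := d14_2 (iv7 F92759) D92208 (iv6 D73842) (iv7 F61337) F61336
theorem F141822 : act 0 n56247 = n92208 := d21_4 D79778 F122478 (iv5 D56246) D56247 (iv6 D92208) D92207 F141818 (iv5 D84816) (iv6 D39219) (iv1 F57071)
theorem F141823 : act 1 n79903 = n92208 := d15_1 (iv0 F133232) F141821 (iv2 F133228)
theorem E14706 : n79902 = n78531 := ((c15_4 (iv0 D79902) F110627 (iv7 F141821) F141819)).symm
theorem F141824 : act 1 n78531 = n36398 := (sb E14706 (iv0 D79902))
def n92213 : Q := act 4 n43114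
theorem D92213 : act 4 n43114 = n92213 := rfl
theorem F141839 : act 6 n92213 = n58675 := d10_2 (iv6 F67506) D92213 (iv4 D58675)
theorem F141840 : act 7 n92213 = n78819 := d11_2 (iv7 F67507) D92213 (iv4 D78819)
def n92214 : Q := act 4 n43116
theorem D92214 : act 4 n43116 = n92214 := rfl
theorem F141842 : act 7 n92214 = n78811 := d11_2 (iv7 F67521) D92214 (iv4 D78811)
theorem F141843 : act 0 n92214 = n86157 := d18_2 (iv1 F124426) D92214 F132117 F119129 (iv4 F58551) (iv0 F126699) (iv4 D81399) F124321 (iv5 F112770)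
def n92215 : Q := act 6 n43116
theorem D92215 : act 6 n43116 = n92215 := rfl
theorem F141845 : act 3 n92215 = n43118 := d7_1 D92215 (iv6 D43118) D43116
theorem F141846 : act 7 n92215 = n58647 := d14_2 (iv7 F67521) D92215 (iv6 D58647) F45030 (iv6 F56532)
theorem F141847 : act 0 n92215 = n84784 := d21_4 (iv5 F126310) F126312 (iv5 F125225) D92215 F129996 (iv5 F117432) F126405 (iv5 D81989) D81990 F126408
def n92216 : Q := act 0 n43119
theorem D92216 : act 0 n43119 = n92216 := rfl
def n92217 : Q := act 1 n43119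
theorem D92217 : act 1 n43119 = n92217 := rfl
def n92218 : Q := act 2 n43119
theorem D92218 : act 2 n43119 = n92218 := rfl
def n92226 : Q := act 7 n43122
theorem D92226 : act 7 n43122 = n92226 := rfl
theorem F141854 : act 4 n92226 = n84266 := d11_1 D92226 (iv7 D84266) (iv4 F67531)
theorem F141855 : act 6 n92226 = n48162 := d14_1 D92226 F75700 (iv6 D43176) F32329 D43122
theorem F141856 : act 1 n48544 = n92226 := d15_1 F138735 (iv7 D92226) (iv2 F67617)
def n92238 : Q := act 3 n43128
theorem D92238 : act 3 n43128 = n92238 := rfl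
def n92239 : Q := act 6 n43128
theorem D92239 : act 6 n43128 = n92239 := rfl
theorem F141870 : act 2 n92239 = n78837 := d3_1 D92239 (iv6 D78837) (iv2 F67537)
def n92246 : Q := act 6 n43130
theorem D92246 : act 6 n43130 = n92246 := rfl
theorem F141873 : act 4 n92246 = n82476 := d10_1 D92246 (iv6 F127076) (iv4 F136015)
theorem F141874 : act 0 n44885 = n92246 := d18_2 (iv1 F65687) D44885 F141873 (iv5 D82476) (iv4 F66611) F34315 F17293 F16608 D21865
def n92260 : Q := act 6 n43138
theorem D92260 : act 6 n43138 = n92260 := rfl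
theorem F141880 : act 4 n92260 = n43140 := d10_1 D92260 (iv6 D43140) D43138
def n92264 : Q := act 3 n43143
theorem D92264 : act 3 n43143 = n92264 := rfl
def n92272 : Q := act 5 n43148
theorem D92272 : act 5 n43148 = n92272 := rfl
def n92310 : Q := act 0 n43167
theorem D92310 : act 0 n43167 = n92310 := rfl
def n92311 : Q := act 1 n43167
theorem D92311 : act 1 n43167 = n92311 := rfl
theorem F141940 : act 1 n92311 = n88658 := d15_1 D92311 F135973 (iv2 F67592)
def n92312 : Q := act 7 n43167
theorem D92312 : act 7 n43167 = n92312 := rfl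
theorem F141942 : act 3 n92312 = n79947 := d8_1 D92312 (iv7 D79947) (iv3 F67593)
theorem F141943 : act 4 n92312 = n84316 := d11_1 D92312 (iv7 D84316) (iv4 F67594)
theorem F141944 : act 5 n92312 = n47688 := d13_1 D92312 (iv7 D47688) (iv5 F67595)
theorem F141947 : act 1 n88666 = n92312 := d15_1 D88666 (iv7 D92312) F67592
def n92313 : Q := act 0 n43168
theorem D92313 : act 0 n43168 = n92313 := rfl
def n92314 : Q := act 1 n43168
theorem D92314 : act 1 n43168 = n92314 := rfl
def n92315 : Q := act 2 n43168
theorem D92315 : act 2 n43168 = n92315 := rfl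
theorem F141950 : act 3 n92315 = n43179 := d0_2 D43168 D92315 (iv2 D43179) (iv3 D20366) (iv2 F32317)
theorem F141951 : act 4 n92315 = n92315 := d1_2 F67596 D92315 (iv2 D92315)
theorem F141952 : act 7 n92315 = n88669 := d4_2 (iv7 F67597) D92315 (iv2 D88669)
theorem F141953 : act 1 n92315 = n88667 := d15_0 (iv0 D88667) (iv7 F67597) D92315
theorem F141955 : act 1 n88668 = n92315 := d15_1 D88668 F141952 (iv2 D88669)
def n92316 : Q := act 5 n43168
theorem D92316 : act 5 n43168 = n92316 := rfl
theorem F141956 : act 3 n92316 = n43169 := d6_1 D92316 (iv5 D43169) D43168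
theorem F141957 : act 7 n92316 = n88670 := d13_2 (iv7 F67597) D92316 (iv5 D88670)
def n92317 : Q := act 6 n43168
theorem D92317 : act 6 n43168 = n92317 := rfl
theorem F141958 : act 3 n92317 = n43170 := d7_1 D92317 (iv6 D43170) D43168
def n92318 : Q := act 6 n43169
theorem D92318 : act 6 n43169 = n92318 := rfl
theorem F141960 : act 2 n92318 = n43183 := d3_1 D92318 (iv6 D43183) (iv2 F67598)
theorem F141961 : act 4 n92318 = n92179 := d10_1 D92318 (iv6 D92179) (iv4 F67599)
def n92322 : Q := act 0 n43173
theorem D92322 : act 0 n43173 = n92322 := rfl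
def n92323 : Q := act 1 n43173
theorem D92323 : act 1 n43173 = n92323 := rfl
def n92324 : Q := act 2 n43173
theorem D92324 : act 2 n43173 = n92324 := rfl
theorem F141975 : act 7 n92324 = n92218 := d4_2 (iv7 F67616) D92324 (iv2 D92218)
theorem F141976 : act 1 n92324 = n92216 := d15_0 (iv0 D92216) (iv7 F67616) D92324
theorem F141977 : act 1 n92323 = n92218 := d15_1 D92323 (iv7 F141975) (iv2 D92324)
theorem F141978 : act 1 n92217 = n92324 := d15_1 D92217 F141975 (iv2 D92218)
def n92325 : Q := act 6 n43173
theorem D92325 : act 6 n43173 = n92325 := rfl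
theorem F141979 : act 3 n92325 = n43174 := d7_1 D92325 (iv6 D43174) D43173
def n92326 : Q := act 5 n43174
theorem D92326 : act 5 n43174 = n92326 := rfl
def n92328 : Q := act 0 n43175
theorem D92328 : act 0 n43175 = n92328 := rfl
def n92329 : Q := act 1 n43175
theorem D92329 : act 1 n43175 = n92329 := rfl
def n92330 : Q := act 2 n43175
theorem D92330 : act 2 n43175 = n92330 := rfl
theorem F141987 : act 3 n92330 = n92218 := d0_2 D43175 D92330 (iv2 D92218) (iv3 D43119) (iv2 F32331)
theorem F141988 : act 4 n92330 = n88386 := d1_2 (iv4 F67619) D92330 (iv2 D88386)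
def n92331 : Q := act 6 n43175
theorem D92331 : act 6 n43175 = n92331 := rfl
theorem F141993 : act 3 n92331 = n43176 := d7_1 D92331 (iv6 D43176) D43175
def n92332 : Q := act 5 n43176
theorem D92332 : act 5 n43176 = n92332 := rfl
theorem F141996 : act 0 n92332 = n46936 := d17_2 F67623 D92332 (iv5 D46936) (iv4 D22557) (iv5 D10699) (iv0 D4895) D4897 D10707 D22582
def n92333 : Q := act 3 n43177
theorem D92333 : act 3 n43177 = n92333 := rfl
theorem F141998 : act 4 n92333 = n43593 := d5_2 F141312 D92333 F141573 (iv4 F141571) (iv3 F141311)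
theorem F142000 : act 2 n91010 = n92333 := d1_3 F141998 F141572 D91010
def n92339 : Q := act 4 n43180
theorem D92339 : act 4 n43180 = n92339 := rfl
def n92340 : Q := act 6 n43180
theorem D92340 : act 6 n43180 = n92340 := rfl
theorem F142013 : act 3 n92340 = n43183 := d7_1 D92340 (iv6 D43183) (iv3 F67632)
def n92345 : Q := act 3 n43182
theorem D92345 : act 3 n43182 = n92345 := rfl
theorem F142018 : act 5 n92345 = n75280 := d6_2 (iv5 F67637) D92345 (iv3 D75280)
theorem F142019 : act 7 n92345 = n92238 := d8_2 (iv7 F67638) D92345 (iv3 D92238)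
def n92346 : Q := act 6 n43182
theorem D92346 : act 6 n43182 = n92346 := rfl
theorem F142020 : act 2 n92346 = n92179 := d3_1 D92346 (iv6 D92179) (iv2 F67636)
theorem F142021 : act 4 n92346 = n43183 := d10_1 D92346 (iv6 D43183) D43182
def n92347 : Q := act 0 n43183
theorem D92347 : act 0 n43183 = n92347 := rfl
def n92348 : Q := act 1 n43183
theorem D92348 : act 1 n43183 = n92348 := rfl
def n92350 : Q := act 7 n43183
theorem D92350 : act 7 n43183 = n92350 := rfl
def n92353 : Q := act 6 n43184
theorem D92353 : act 6 n43184 = n92353 := rfl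
theorem F142024 : act 4 n92353 = n87294 := d10_1 D92353 (iv6 F133989) (iv4 F138472)
theorem F142026 : act 1 n46952 = n92353 := d18_6 D42523 F73903 (iv1 F73901) F72714 (iv5 F35125) (iv4 F74170) F142024 F133990 (iv5 D42525)
def n92364 : Q := act 4 n43190
theorem D92364 : act 4 n43190 = n92364 := rfl
theorem F142037 : act 6 n92364 = n46931 := d10_2 (iv6 F67643) D92364 (iv4 D46931)
theorem F142038 : act 7 n92364 = n47649 := d11_2 (iv7 F67644) D92364 F74935
def n92365 : Q := act 5 n43191
theorem D92365 : act 5 n43191 = n92365 := rfl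
theorem F142041 : act 6 n92365 = n43565 := d12_2 F75269 D92365 (iv5 F136292) F136293 (iv5 F75268)
def n92368 : Q := act 4 n43193
theorem D92368 : act 4 n43193 = n92368 := rfl
theorem F142046 : act 6 n92368 = n45748 := d10_2 (iv6 F67647) D92368 (iv4 D45748)
def n92371 : Q := act 3 n43196
theorem D92371 : act 3 n43196 = n92371 := rfl
theorem F142055 : act 7 n92371 = n92264 := d8_2 (iv7 F137563) D92371 (iv3 D92264)
def n92380 : Q := act 3 n43201
theorem D92380 : act 3 n43201 = n92380 := rfl
theorem F142073 : act 7 n92380 = n88759 := d8_2 F137559 D92380 F136150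
theorem F142074 : act 0 n92380 = n88761 := d20_4 F67533 (iv1 F32344) D43201 D92380 (iv3 F140021) F140022 (iv1 F68528) (iv4 F141998) (iv3 D92333) (iv1 F67625)
def n92410 : Q := act 5 n43213
theorem D92410 : act 5 n43213 = n92410 := rfl
def n92411 : Q := act 0 n43214
theorem D92411 : act 0 n43214 = n92411 := rfl
theorem F142120 : act 1 n44550 = n92411 := d15_0 (iv0 D92411) F67672 (iv2 F70066)
def n92415 : Q := act 5 n43216
theorem D92415 : act 5 n43216 = n92415 := rfl
theorem F142131 : act 7 n92415 = n92410 := d13_2 (iv7 F67679) D92415 (iv5 D92410)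
def n92416 : Q := act 7 n43223
theorem D92416 : act 7 n43223 = n92416 := rfl
theorem F142133 : act 3 n92416 = n44847 := d8_1 D92416 F72332 (iv3 F67712)
theorem F142134 : act 4 n92416 = n43965 := d11_1 D92416 (iv7 F69117) (iv4 F67713)
theorem F142135 : act 5 n92416 = n43827 := d13_1 D92416 F68885 (iv5 F68461)
theorem F142136 : act 6 n92416 = n45489 := d14_1 D92416 (iv7 F71734) (iv6 D41817) (iv7 F63495) D43223
theorem F142137 : act 1 n88871 = n92416 := d15_1 D88871 (iv7 D92416) F67711
theorem F142138 : act 1 n92416 = n45815 := d15_1 F142137 (iv7 F137200) F137197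
def n92417 : Q := act 5 n43224
theorem D92417 : act 5 n43224 = n92417 := rfl
theorem F142140 : act 3 n92417 = n43225 := d6_1 D92417 (iv5 D43225) (iv3 F67715)
theorem F142141 : act 6 n92417 = n52122 := d12_2 D43224 D92417 (iv5 D52122) F65292 F65287
def n92418 : Q := act 4 n43225
theorem D92418 : act 4 n43225 = n92418 := rfl
theorem F142142 : act 2 n92418 = n89021 := d1_1 D92418 (iv4 D89021) (iv2 F67717)
theorem F142143 : act 1 n92418 = n90644 := d18_6 (iv1 F32920) (iv4 F65857) F65854 (iv4 F32385) D43225 D92418 (iv4 D90644) F65556 F32961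
def n92419 : Q := act 0 n43227
theorem D92419 : act 0 n43227 = n92419 := rfl
def n92420 : Q := act 1 n43227
theorem D92420 : act 1 n43227 = n92420 := rfl
theorem F142144 : act 1 n92420 = n90116 := d15_1 D92420 (iv7 D90116) (iv2 F67723)
def n92421 : Q := act 7 n43227
theorem D92421 : act 7 n43227 = n92421 := rfl
theorem F142145 : act 2 n92421 = n90116 := d4_1 D92421 (iv7 D90116) (iv2 F67723)
theorem F142146 : act 3 n92421 = n90112 := d8_1 D92421 (iv7 D90112) (iv3 F67724)
theorem F142147 : act 6 n92421 = n90112 := d14_1 D92421 (iv7 D90112) (iv6 D42121) F40021 D43227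
theorem F142148 : act 1 n90116 = n92419 := d15_0 (iv0 D92419) D92421 F142145
theorem F142149 : act 1 n90115 = n92421 := d15_1 D90115 (iv7 D92421) F67723
def n92422 : Q := act 6 n43228
theorem D92422 : act 6 n43228 = n92422 := rfl
theorem F142151 : act 2 n92422 = n90113 := d3_1 D92422 (iv6 D90113) (iv2 F67725)
theorem F142152 : act 3 n92422 = n43229 := d7_1 D92422 (iv6 D43229) D43228
theorem F142153 : act 4 n92422 = n90113 := d10_1 D92422 (iv6 D90113) (iv4 F67726)
def n92424 : Q := act 1 n43229
theorem D92424 : act 1 n43229 = n92424 := rfl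
theorem F142154 : act 1 n92424 = n90112 := d15_1 D92424 (iv7 D90112) (iv2 F67728)
def n92425 : Q := act 5 n43229
theorem D92425 : act 5 n43229 = n92425 := rfl
theorem F142155 : act 2 n92425 = n90111 := d2_1 D92425 (iv5 D90111) (iv2 F67728)
theorem F142156 : act 6 n92425 = n49192 := d12_2 D43229 D92425 (iv5 D49192) (iv6 F45919) F45916
def n92426 : Q := act 7 n43229
theorem D92426 : act 7 n43229 = n92426 := rfl
theorem F142157 : act 2 n92426 = n90112 := d4_1 D92426 (iv7 D90112) (iv2 F67728)
theorem F142158 : act 6 n92426 = n90116 := d14_1 D92426 (iv7 D90116) (iv6 D42123) (iv7 F40022) D43229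
def n92427 : Q := act 0 n43230
theorem D92427 : act 0 n43230 = n92427 := rfl
theorem F142162 : act 4 n92427 = n45334 := d20_8 F114622 (iv1 F69384) F136673 (iv3 F137890) (iv1 F137891) (iv3 F71645) F71646 D92427 F83216 F114634
theorem F142163 : act 0 n92427 = n43234 := d20_1 (iv4 F142162) F67736 (iv3 D42006) (iv1 D19804) D19805 F31576 (iv1 F63246) (iv4 F16430) (iv3 F34025) D45334
def n92428 : Q := act 1 n43230
theorem D92428 : act 1 n43230 = n92428 := rfl
theorem F142164 : act 1 n92428 = n43234 := d15_1 D92428 (iv7 D43234) (iv2 F67729)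
theorem F142165 : act 3 n52663 = n92428 := d20_9 (iv4 F71646) F138028 (iv4 F138026) (iv3 F138027) (iv1 F114571) F114566 (iv4 F114622) (iv1 F114624) (iv4 F83204) (iv1 D92428)
theorem F142166 : act 4 n92428 = n45335 := d20_6 (iv4 D19739) (iv1 F35666) (iv4 F31719) (iv3 F65051) (iv1 F83203) F142165 (iv1 D45335) F34026 F32949 (iv1 F63425)
def n92429 : Q := act 7 n43230
theorem D92429 : act 7 n43230 = n92429 := rfl
theorem F142167 : act 2 n92429 = n43234 := d4_1 D92429 (iv7 D43234) (iv2 F67729)
theorem F142168 : act 3 n92429 = n90133 := d8_1 D92429 F138576 (iv3 F67730)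
theorem F142169 : act 4 n92429 = n89899 := d11_1 D92429 F138031 F71646
theorem F142170 : act 5 n92429 = n78980 := d13_1 D92429 F120152 (iv5 F67731)
theorem F142171 : act 6 n92429 = n52664 := d14_1 D92429 (iv7 D52664) F40428 (iv7 F32389) D43230
theorem F142172 : act 1 n43232 = n92429 := d15_1 D43232 (iv7 D92429) F67729
theorem F142173 : act 0 n43231 = n92429 := d20_10 F142169 (iv1 F138033) F138034 (iv3 F138035) (iv1 D76423) F55272 D34934 D76479 (iv4 F114625) (iv3 F114626)
theorem F142174 : act 4 n43871 = n45409 := d20_0 (iv1 F138032) (iv4 F142169) F142168 (iv1 D90133) (iv3 D42130) F63550 (iv1 D20421) (iv4 F15528) (iv3 F32949) D43871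
def n92430 : Q := act 2 n43231
theorem D92430 : act 2 n43231 = n92430 := rfl
theorem F142175 : act 7 n43232 = n92430 := d15_2 (iv0 D43231) D43232 (iv2 D92430)
def n92431 : Q := act 4 n43231
theorem D92431 : act 4 n43231 = n92431 := rfl
theorem F142176 : act 0 n92431 = n45337 := d20_1 D92431 F71434 F68977 (iv1 F63359) F31505 (iv4 D19110) (iv1 F35661) (iv4 F15077) (iv3 F32393) D43231
def n92432 : Q := act 5 n43231
theorem D92432 : act 5 n43231 = n92432 := rfl
theorem F142177 : act 3 n92432 = n90118 := d6_1 D92432 (iv5 D90118) (iv3 F114626)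
def n92433 : Q := act 6 n43231
theorem D92433 : act 6 n43231 = n92433 := rfl
theorem F142178 : act 3 n92433 = n90119 := d7_1 D92433 (iv6 D90119) (iv3 F114626)
def n92434 : Q := act 7 n43231
theorem D92434 : act 7 n43231 = n92434 := rfl
theorem F142179 : act 2 n92434 = n43232 := d4_1 D92434 F142175 (iv2 D92430)
theorem F142180 : act 3 n92434 = n90120 := d8_1 D92434 (iv7 D90120) (iv3 F114626)
def n92435 : Q := act 3 n43232
theorem D92435 : act 3 n43232 = n92435 := rfl
theorem F142181 : act 2 n92435 = n90121 := d0_1 D92435 (iv3 D90121) (iv2 F138558) (iv3 F142180) F142179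
def n92436 : Q := act 4 n43232
theorem D92436 : act 4 n43232 = n92436 := rfl
theorem F142182 : act 3 n92436 = n76480 := d20_9 (iv4 D34934) D34932 D76472 (iv3 F114613) (iv1 F137896) (iv3 F138030) (iv4 F142169) (iv1 F142172) D92436 (iv1 D76480)
theorem F142183 : act 4 n92435 = n90121 := d5_2 (iv4 D92436) D92435 (iv3 D90121) (iv4 F114618) (iv3 F142182)
theorem F142184 : act 0 n45337 = n92436 := d20_10 (iv4 D92436) (iv1 D43232) (iv4 F34119) F34118 F35862 D19773 F31548 F63243 (iv4 F34031) (iv3 F71433)
theorem F142185 : act 1 n45332 = n92436 := d15_0 (iv0 F142184) (iv7 D45337) (iv2 F71427)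
def n92437 : Q := act 5 n43232
theorem D92437 : act 5 n43232 = n92437 := rfl
def n92438 : Q := act 6 n43232
theorem D92438 : act 6 n43232 = n92438 := rfl
def n92439 : Q := act 0 n43233
theorem D92439 : act 0 n43233 = n92439 := rfl
theorem F142186 : act 3 n92439 = n48715 := d20_5 D88500 F135486 (iv4 D43248) (iv3 F67733) D92439 F114627 (iv1 F40464) (iv4 F55137) (iv3 F69401) (iv1 F69403)
def n92440 : Q := act 1 n43233
theorem D92440 : act 1 n43233 = n92440 := rfl
theorem F142187 : act 1 n92440 = n78980 := d15_1 D92440 F120152 (iv2 F67732)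
def n92441 : Q := act 4 n43233
theorem D92441 : act 4 n43233 = n92441 := rfl
theorem F142188 : act 2 n92441 = n44737 := d1_1 D92441 F70331 (iv2 F67732)
theorem F142189 : act 6 n92441 = n44733 := d10_2 (iv6 F67734) D92441 F70315
def n92442 : Q := act 7 n43233
theorem D92442 : act 7 n43233 = n92442 := rfl
theorem F142190 : act 2 n92442 = n78980 := d4_1 D92442 F120152 (iv2 F67732)
theorem F142191 : act 3 n92442 = n43249 := d8_1 D92442 (iv7 D43249) (iv3 F67733)
theorem F142192 : act 5 n92442 = n43234 := d13_1 D92442 (iv7 D43234) D43233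
theorem F142193 : act 6 n92442 = n52704 := d14_1 D92442 (iv7 D52704) F40461 D25583 (iv6 F67734)
theorem F142194 : act 1 n78980 = n92439 := d15_0 (iv0 D92439) D92442 F142190
theorem F142195 : act 1 n78995 = n92442 := d15_1 D78995 (iv7 D92442) F67732
theorem E14707 : n78995 = n52658 := (c20_5 D88506 (iv1 F139310) F139307 (iv3 F142191) (iv1 F142195) (iv3 D52658) (iv4 F83205) (iv1 D17398) (iv4 F27688) (iv3 F33115) (iv1 F63640))
theorem F142196 : act 0 n52658 = n35953 := (sb E14707 (iv1 D78995))
theorem F142197 : act 1 n52658 = n92442 := (sb E14707 F142195)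
theorem F142198 : act 1 n92442 = n78994 := d15_0 (iv0 D78994) (iv7 F120152) (iv2 F142190)
def n92443 : Q := act 5 n43235
theorem D92443 : act 5 n43235 = n92443 := rfl
theorem F142199 : act 2 n92443 = n90124 := d2_1 D92443 (iv5 D90124) (iv2 F67738)
theorem F142200 : act 3 n92443 = n76650 := d6_1 D92443 (iv5 D76650) (iv3 F67739)
theorem F142201 : act 6 n92443 = n43354 := d12_2 D43235 D92443 (iv5 D43354) (iv6 D20475) (iv5 F32394)
theorem F142202 : act 1 n92443 = n76236 := d17_6 F83289 (iv5 F83348) (iv1 F83349) (iv5 D46830) (iv4 F67740) D92443 (iv5 D76236) (iv0 F77237) (iv4 F83286)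
def n92444 : Q := act 7 n43235
theorem D92444 : act 7 n43235 = n92444 := rfl
theorem F142203 : act 2 n92444 = n90125 := d4_1 D92444 (iv7 D90125) (iv2 F67738)
theorem F142204 : act 3 n92444 = n76651 := d8_1 D92444 (iv7 D76651) (iv3 F67739)
theorem F142205 : act 4 n92444 = n46831 := d11_1 D92444 (iv7 D46831) (iv4 F67740)
theorem F142206 : act 6 n92444 = n46831 := d14_1 D92444 (iv7 D46831) (iv6 D22485) F32399 D43235
theorem F142207 : act 1 n90123 = n92444 := d15_1 D90123 (iv7 D92444) F67738
theorem F142208 : act 1 n92444 = n62611 := d15_1 F142207 F97640 F138560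
def n92445 : Q := act 6 n43236
theorem D92445 : act 6 n43236 = n92445 := rfl
theorem F142209 : act 2 n92445 = n52651 := d3_1 D92445 (iv6 D52651) (iv2 F67741)
theorem F142210 : act 3 n92445 = n43237 := d7_1 D92445 (iv6 D43237) D43236
theorem F142211 : act 0 n60450 = n92445 := d21_4 D68410 F104577 (iv5 D67855) (iv6 F94990) (iv6 D92445) F67742 F32540 D20499 (iv6 F41567) F50131
theorem F142212 : act 1 n68095 = n92445 := d15_0 (iv0 F142211) F94991 (iv2 F104224)
def n92446 : Q := act 0 n43239
theorem D92446 : act 0 n43239 = n92446 := rfl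
theorem F142213 : act 5 n92446 = n48718 := d17_3 F37010 D43239 D92446 (iv4 D48718) (iv5 F76675) (iv0 D48712) (iv5 D23757) D23756 (iv4 F37008)
theorem F142214 : act 4 n92446 = n76307 := d18_1 D92446 (iv1 F114414) (iv4 D52979) F40634 F37423 F37003 (iv4 F67749) (iv0 D43238) D43239
theorem F142215 : act 3 n92446 = n48940 := d20_5 (iv4 F56635) (iv1 F70318) F70315 (iv3 F67755) D92446 (iv4 F129531) F129533 F59961 F40639 D26994
theorem F142216 : act 2 n52639 = n92446 := d15_3 (iv0 D92446) (iv0 F67758) (iv7 F83173)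
theorem F142217 : act 1 n52677 = n92446 := d15_0 (iv0 D92446) F67757 (iv2 F83243)
theorem F142218 : act 7 n92446 = n52689 := d15_2 (iv0 F83246) F142217 (iv2 F83265)
def n92447 : Q := act 4 n43239
theorem D92447 : act 4 n43239 = n92447 := rfl
theorem F142219 : act 2 n92447 = n90248 := d1_1 D92447 (iv4 D90248) (iv2 F67754)
theorem F142220 : act 6 n92447 = n43248 := d10_2 (iv6 F67756) D92447 (iv4 D43248)
theorem F142221 : act 7 n92447 = n52690 := d11_2 (iv7 F67757) D92447 (iv4 D52690)
theorem F142222 : act 5 n92447 = n57601 := d16_1 D92447 (iv4 D57601) D57602 F90745 F76772 F51465 D52677 F83245 (iv2 F67754)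
theorem F142223 : act 0 n92447 = n52815 := d18_2 F67758 D92447 (iv4 D52815) (iv5 D25638) D25637 (iv0 F69417) F69415 (iv0 F42415) D33215
theorem F142224 : act 1 n92447 = n52810 := d18_6 D23960 F68284 (iv1 D43423) F32636 D43239 D92447 (iv4 D52810) F41850 F20210
def n92448 : Q := act 0 n43240
theorem D92448 : act 0 n43240 = n92448 := rfl
theorem F142225 : act 1 n89554 = n92448 := d15_0 (iv0 D92448) F67760 D89554
def n92449 : Q := act 1 n43240
theorem D92449 : act 1 n43240 = n92449 := rfl
theorem F142226 : act 4 n89390 = n92449 := d20_6 F63954 (iv1 F58699) (iv4 D19643) D19642 D41745 D89390 (iv1 D92449) F67759 (iv3 D41489) D41488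
theorem F142227 : act 0 n89554 = n92449 := d20_7 F136222 (iv1 F137085) (iv4 F137218) (iv3 D89505) (iv1 F136355) F136352 (iv4 F137285) (iv4 F142226) (iv3 D89390) (iv1 F136224)
def n92450 : Q := act 2 n43240
theorem D92450 : act 2 n43240 = n92450 := rfl
theorem F142228 : act 3 n92450 = n43273 := d0_2 D43240 D92450 (iv2 F67853) (iv3 D42183) (iv2 F63535)
theorem F142229 : act 4 n92450 = n88875 := d1_2 (iv4 F67759) D92450 (iv2 D88875)
theorem F142230 : act 7 n92450 = n89554 := d4_2 (iv7 F67760) D92450 (iv2 D89554)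
theorem F142231 : act 1 n92450 = n89552 := d15_0 (iv0 D89552) (iv7 F67760) D92450
theorem F142232 : act 1 n89553 = n92450 := d15_1 D89553 F142230 (iv2 D89554)
def n92451 : Q := act 5 n43240
theorem D92451 : act 5 n43240 = n92451 := rfl
theorem F142233 : act 3 n92451 = n43241 := d6_1 D92451 (iv5 D43241) D43240
theorem F142234 : act 7 n92451 = n89555 := d13_2 (iv7 F67760) D92451 (iv5 D89555)
def n92452 : Q := act 6 n43240
theorem D92452 : act 6 n43240 = n92452 := rfl
theorem F142235 : act 3 n92452 = n43242 := d7_1 D92452 (iv6 D43242) D43240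
theorem F142236 : act 4 n92452 = n88877 := d10_1 D92452 (iv6 D88877) (iv4 F67759)
def n92453 : Q := act 4 n43241
theorem D92453 : act 4 n43241 = n92453 := rfl
theorem F142238 : act 7 n92453 = n89557 := d11_2 (iv7 F67762) D92453 (iv4 D89557)
theorem F142239 : act 5 n92453 = n90576 := d16_1 D92453 F139412 (iv5 F68124) F67873 (iv5 D41816) (iv4 F63532) D43244 F67768 (iv2 F67761)
def n92454 : Q := act 6 n43241
theorem D92454 : act 6 n43241 = n92454 := rfl
theorem F142240 : act 2 n92454 = n90252 := d3_1 D92454 (iv6 D90252) (iv2 F67761)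
def n92455 : Q := act 1 n43242
theorem D92455 : act 1 n43242 = n92455 := rfl
theorem F142241 : act 1 n92455 = n43965 := d15_1 D92455 (iv7 F69117) (iv2 F67763)
theorem F142242 : act 7 n92455 = n43859 := d15_2 (iv0 F135490) D92455 F68956
theorem F142243 : act 4 n92455 = n43255 := d17_9 (iv1 D43255) F32417 (iv1 D20134) F14758 (iv4 F15200) D20504 D43389 (iv5 F68177) D92455
theorem F142244 : act 2 n43968 = n92455 := d1_3 F142243 F67802 (iv4 F69120)
theorem F142245 : act 6 n43539 = n92455 := d10_0 F142243 (iv6 F67801) D43539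
theorem F142246 : act 5 n90435 = n92455 := d17_3 (iv1 F32591) D42296 (iv1 F139193) F142243 (iv5 F67800) (iv0 D23479) (iv5 D11004) (iv0 F66487) (iv4 F32588)
def n92456 : Q := act 1 n43243
theorem D92456 : act 1 n43243 = n92456 := rfl
theorem F142247 : act 7 n92456 = n43272 := d15_2 (iv0 F67766) D92456 F67850
theorem F142248 : act 2 n43275 = n92456 := d4_3 F142247 F67850 D43275
theorem F142249 : act 3 n52664 = n92456 := d8_3 F142247 F67851 D52664
theorem F142250 : act 5 n52650 = n92456 := d13_3 F142247 F67852 D52650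
theorem F142251 : act 6 n90133 = n92456 := d14_5 F142247 (iv6 D43272) F32452 D42178 (iv7 F138576)
theorem F142252 : act 1 n92456 = n43273 := d15_0 (iv0 D43273) D43275 F142248
def n92457 : Q := act 2 n43243
theorem D92457 : act 2 n43243 = n92457 := rfl
theorem F142253 : act 3 n92457 = n89554 := d0_2 D43243 D92457 (iv2 D89554) (iv3 D41818) F63533
theorem F142254 : act 7 n92457 = n43273 := d4_2 (iv7 F67765) D92457 (iv2 F67853)
theorem F142255 : act 1 n92457 = n43275 := d15_0 (iv0 F67859) (iv7 F67765) D92457
theorem F142256 : act 1 n43272 = n92457 := d15_0 F142255 (iv7 D43275) (iv2 F67850)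
def n92458 : Q := act 6 n43243
theorem D92458 : act 6 n43243 = n92458 := rfl
def n92459 : Q := act 4 n43244
theorem D92459 : act 4 n43244 = n92459 := rfl
theorem F142258 : act 2 n92459 = n89557 := d1_1 D92459 (iv4 D89557) (iv2 F67767)
theorem F142259 : act 5 n92459 = n90575 := d9_2 D43244 D92459 F139406 (iv5 F136283) (iv4 D88870) (iv5 D41486) (iv4 F35864) D43241 D92453 F142239 F139412 (iv5 F68124) F67873 (iv5 D41816) (iv4 F63532)
theorem F142260 : act 7 n92459 = n90251 := d11_2 (iv7 F67768) D92459 (iv4 D90251)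
def n92460 : Q := act 3 n43246
theorem D92460 : act 3 n43246 = n92460 := rfl
theorem F142261 : act 7 n92460 = n90256 := d8_2 (iv7 F67779) D92460 (iv3 D90256)
def n92461 : Q := act 4 n43246
theorem D92461 : act 4 n43246 = n92461 := rfl
theorem F142262 : act 2 n92461 = n90254 := d1_1 D92461 (iv4 D90254) (iv2 F67780)
theorem F142263 : act 7 n92461 = n90257 := d11_2 (iv7 F67779) D92461 (iv4 D90257)
theorem F142264 : act 0 n92461 = n90578 := d17_0 (iv5 D90578) D90575 (iv5 F142259) (iv4 D92459) (iv5 D43244) F32408 (iv5 F65118) F67777 D92461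
theorem F142265 : act 1 n92461 = n44065 := d18_6 F63620 F62983 F68974 D46618 F73630 D92461 (iv4 D44065) D44064 (iv5 F69395)
def n92462 : Q := act 6 n43246
theorem D92462 : act 6 n43246 = n92462 := rfl
theorem F142266 : act 2 n92462 = n90255 := d3_1 D92462 (iv6 D90255) (iv2 F67780)
def n92463 : Q := act 3 n43247
theorem D92463 : act 3 n43247 = n92463 := rfl
theorem F142267 : act 5 n92463 = n88198 := d6_2 (iv5 F67772) D92463 F135137
theorem F142268 : act 7 n92463 = n90253 := d8_2 F67781 D92463 (iv3 D90253)
theorem F142269 : act 0 n92463 = n43274 := d21_7 (iv5 F65399) (iv1 F65402) (iv5 F41583) D43376 F73768 D88198 (iv5 F142267) (iv5 D43274) (iv6 D20427) D20424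
theorem F142270 : act 1 n92463 = n52650 := d15_1 (iv0 F142269) (iv7 D52650) (iv2 F67854)
def n92464 : Q := act 4 n43247
theorem D92464 : act 4 n43247 = n92464 := rfl
theorem F142271 : act 2 n92464 = n90257 := d1_1 D92464 (iv4 D90257) F67773
theorem F142273 : act 0 n92464 = n44065 := d17_0 (iv5 F135466) (iv1 F139410) (iv5 F142239) (iv4 D92453) (iv5 D43241) (iv0 D20399) D20401 D43247 D92464
theorem F142274 : act 1 n92464 = n90578 := d18_6 D41310 (iv4 F73621) (iv1 F73625) (iv4 F65430) (iv5 F67772) D92464 F139414 (iv0 F68973) (iv5 D41312)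
def n92465 : Q := act 6 n43247
theorem D92465 : act 6 n43247 = n92465 := rfl
theorem F142275 : act 2 n92465 = n90258 := d3_1 D92465 (iv6 D90258) F67773
theorem F142276 : act 5 n92465 = n90499 := d12_1 D92465 (iv6 D90499) (iv5 D42356) D42357 (iv5 F67772)
def n92466 : Q := act 3 n43248
theorem D92466 : act 3 n43248 = n92466 := rfl
def n92467 : Q := act 6 n43249
theorem D92467 : act 6 n43249 = n92467 := rfl
theorem F142277 : act 2 n92467 = n90261 := d3_1 D92467 (iv6 D90261) (iv2 F67775)
theorem F142278 : act 3 n92467 = n52704 := d7_1 D92467 (iv6 F142193) F142191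
theorem F142279 : act 5 n92467 = n52688 := d12_1 D92467 F83263 F65053 (iv6 F32412) (iv5 F67776)
theorem F142280 : act 7 n92467 = n52687 := d14_2 D43249 D92467 F83261 (iv7 F67757) F67756
def n92468 : Q := act 0 n43250
theorem D92468 : act 0 n43250 = n92468 := rfl
theorem F142281 : act 1 n43287 = n92468 := d15_0 (iv0 D92468) F67785 (iv2 F67891)
def n92469 : Q := act 1 n43250
theorem D92469 : act 1 n43250 = n92469 := rfl
theorem F142282 : act 1 n92469 = n43287 := d15_1 D92469 F67893 (iv2 F67783)
def n92470 : Q := act 5 n43250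
theorem D92470 : act 5 n43250 = n92470 := rfl
theorem F142283 : act 2 n92470 = n90153 := d2_1 D92470 (iv5 D90153) (iv2 F67783)
theorem F142284 : act 3 n92470 = n43251 := d6_1 D92470 (iv5 D43251) D43250
theorem F142285 : act 7 n92470 = n90262 := d13_2 (iv7 F67785) D92470 (iv5 D90262)
def n92471 : Q := act 6 n43250
theorem D92471 : act 6 n43250 = n92471 := rfl
theorem F142286 : act 2 n92471 = n90154 := d3_1 D92471 (iv6 D90154) (iv2 F67783)
theorem F142287 : act 3 n92471 = n43252 := d7_1 D92471 (iv6 D43252) D43250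
theorem F142288 : act 4 n92471 = n92471 := d10_1 D92471 (iv6 D92471) F67784
def n92472 : Q := act 4 n43251
theorem D92472 : act 4 n43251 = n92472 := rfl
theorem F142289 : act 2 n92472 = n87037 := d1_1 D92472 (iv4 D87037) (iv2 F67786)
theorem F142290 : act 7 n92472 = n90264 := d11_2 (iv7 F67787) D92472 (iv4 D90264)
def n92473 : Q := act 6 n43251
theorem D92473 : act 6 n43251 = n92473 := rfl
theorem F142291 : act 2 n92473 = n87038 := d3_1 D92473 (iv6 D87038) (iv2 F67786)
def n92474 : Q := act 1 n43252
theorem D92474 : act 1 n43252 = n92474 := rfl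
theorem F142292 : act 1 n92474 = n43911 := d15_1 D92474 (iv7 F69037) (iv2 F67788)
theorem F142293 : act 7 n92474 = n43849 := d15_2 (iv0 F69040) D92474 F68928
theorem F142294 : act 4 n92474 = n89497 := d17_9 (iv1 F137202) F68461 (iv1 D43566) F32690 F15636 D20530 D43420 (iv5 F68271) D92474
theorem F142295 : act 6 n43464 = n92474 := d21_3 D9748 D20547 D43464 (iv1 D92474) (iv6 D43252) D43251 (iv1 F68316) (iv5 D43460) (iv6 D20546) (iv1 D9747)
theorem F142296 : act 5 n92474 = n48311 := d21_6 D42450 (iv1 F67896) (iv5 D41931) D41932 (iv1 F68318) F142295 (iv1 F75933) (iv5 D42317) D42318 F67897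
theorem F142297 : act 2 n43914 = n92474 := d2_3 F142296 (iv2 F75932) (iv5 F75908)
def n92475 : Q := act 3 n43253
theorem D92475 : act 3 n43253 = n92475 := rfl
theorem F142298 : act 4 n92475 = n92475 := d5_2 D43253 D92475 (iv3 D92475) (iv4 D43253) F35703
theorem F142299 : act 7 n92475 = n90154 := d8_2 (iv7 F67791) D92475 F138605
def n92476 : Q := act 6 n43253
theorem D92476 : act 6 n43253 = n92476 := rfl
theorem F142300 : act 2 n92476 = n43902 := d3_1 D92476 (iv6 F69027) (iv2 F67790)
theorem F142301 : act 4 n92476 = n43254 := d10_1 D92476 (iv6 D43254) D43253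
theorem F142302 : act 7 n92476 = n43289 := d14_2 (iv7 F67791) D92476 (iv6 D43289) (iv7 F35799) D42139
theorem F142303 : act 0 n92476 = n43469 := d21_4 D20524 D43412 F68256 D92476 F68320 D43846 F68922 (iv5 D41333) (iv6 D19462) F63137
theorem F142304 : act 0 n43464 = n92476 := d21_4 D23477 D48311 (iv5 F142296) (iv6 F142295) (iv6 D92476) (iv5 F68256) (iv1 F68257) (iv5 D41326) F63161 (iv1 F66786)
def n92477 : Q := act 4 n43257
theorem D92477 : act 4 n43257 = n92477 := rfl
def n92481 : Q := act 0 n43264
theorem D92481 : act 0 n43264 = n92481 := rfl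
theorem F142328 : act 2 n90012 = n92481 := d15_3 (iv0 D92481) F138746 (iv7 F140297)
theorem F142330 : act 7 n92481 = n91263 := d4_2 (iv7 F140297) F142328 (iv2 D91263)
theorem E14708 : n91263 = n90013 := ((c15_2 (iv0 D90012) D90013 (iv7 F142330) (iv2 F142328))).symm
theorem F142332 : act 4 n90013 = n88723 := (sb E14708 F140333)
def n92482 : Q := act 7 n43264
theorem D92482 : act 7 n43264 = n92482 := rfl
theorem F142337 : act 5 n92482 = n90802 := d13_1 D92482 F139775 (iv5 F67832)
theorem F142339 : act 1 n90013 = n92482 := d15_1 D90013 (iv7 D92482) F67830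
def n92483 : Q := act 0 n43265
theorem D92483 : act 0 n43265 = n92483 := rfl
theorem F142341 : act 5 n92483 = n46656 := d17_3 D20420 D43265 D92483 F73732 (iv5 F137747) (iv0 D89756) (iv5 D41927) F63425 F15528
theorem F142344 : act 1 n43266 = n92483 := d15_0 (iv0 D92483) F67836 (iv2 F67837)
theorem F142345 : act 7 n92483 = n89608 := d15_2 (iv0 F74030) F142344 F137386
def n92484 : Q := act 6 n43268
theorem D92484 : act 6 n43268 = n92484 := rfl
theorem F142350 : act 5 n92484 = n44181 := d12_1 D92484 F73128 (iv5 F73993) (iv6 F139588) F139585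
def n92486 : Q := act 0 n43271
theorem D92486 : act 0 n43271 = n92486 := rfl
theorem F142356 : act 2 n43853 = n92486 := d15_3 (iv0 D92486) F69112 (iv7 F68938)
theorem F142357 : act 3 n92486 = n43939 := d0_2 D43853 F142356 (iv2 D43939) (iv3 D20821) (iv2 F35734)
theorem F142358 : act 4 n92486 = n46080 := d1_2 (iv4 F68937) F142356 (iv2 D46080)
theorem F142359 : act 7 n92486 = n43960 := d4_2 (iv7 F68938) F142356 (iv2 D43960)
theorem F142360 : act 1 n43959 = n92486 := d15_1 D43959 F142359 (iv2 D43960)
def n92487 : Q := act 5 n43271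
theorem D92487 : act 5 n43271 = n92487 := rfl
theorem F142361 : act 2 n92487 = n90103 := d2_1 D92487 (iv5 D90103) (iv2 F67849)
theorem F142362 : act 3 n92487 = n71639 := d6_1 D92487 F108129 F72747
theorem F142363 : act 6 n92487 = n54805 := d12_2 D43271 D92487 (iv5 D54805) F65404 F65399
def n92488 : Q := act 7 n43271
theorem D92488 : act 7 n43271 = n92488 := rfl
theorem F142364 : act 2 n92488 = n43959 := d4_1 D92488 F69111 (iv2 F67849)
theorem F142366 : act 1 n43960 = n92488 := d15_1 (iv0 F136750) (iv7 D92488) F67849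
theorem F142367 : act 1 n92488 = n43853 := d15_1 F142366 F68938 D43960
def n92489 : Q := act 5 n43273
theorem D92489 : act 5 n43273 = n92489 := rfl
theorem F142368 : act 2 n92489 = n90249 := d2_1 D92489 (iv5 D90249) F67853
def n92490 : Q := act 6 n43273
theorem D92490 : act 6 n43273 = n92490 := rfl
theorem F142369 : act 2 n92490 = n90250 := d3_1 D92490 (iv6 D90250) F67853
theorem F142370 : act 5 n92490 = n68858 := d21_6 (iv5 F67742) F67744 (iv5 D20426) D20427 D43273 D92490 (iv1 D68858) (iv5 F65398) (iv6 D42347) (iv1 F32576)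
theorem F142371 : act 2 n68858 = n90447 := d2_1 F142370 F139207 (iv2 F142369)
theorem F142372 : act 7 n90492 = n68858 := d15_2 F139209 F139262 F142371
theorem F142373 : act 7 n68857 = n90447 := d15_2 F135539 F135540 (iv2 F142371)
theorem F142374 : act 2 n90492 = n68857 := d4_3 F142373 (iv2 F142371) (iv7 F142372)
theorem F142375 : act 3 n43388 = n68857 := d8_3 F142373 (iv3 D90447) (iv7 F68184)
def n92491 : Q := act 0 n43274
theorem D92491 : act 0 n43274 = n92491 := rfl
theorem F142376 : act 2 n90253 = n92491 := d15_3 (iv0 D92491) (iv0 F142269) F142268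
def n92492 : Q := act 4 n43274
theorem D92492 : act 4 n43274 = n92492 := rfl
theorem F142377 : act 2 n92492 = n52647 := d1_1 D92492 F83195 (iv2 F67854)
theorem F142378 : act 6 n92492 = n52638 := d10_2 (iv6 F67856) D92492 (iv4 D52638)
def n92493 : Q := act 7 n43274
theorem D92493 : act 7 n43274 = n92493 := rfl
theorem F142379 : act 2 n92493 = n52650 := d4_1 D92493 (iv7 D52650) (iv2 F67854)
theorem F142380 : act 3 n92493 = n43286 := d8_1 D92493 (iv7 D43286) (iv3 F67855)
theorem F142381 : act 5 n92493 = n43275 := d13_1 D92493 (iv7 D43275) D43274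
theorem F142382 : act 6 n92493 = n78912 := d14_1 D92493 (iv7 D78912) (iv6 D35924) (iv7 F40399) (iv6 F67856)
theorem F142383 : act 1 n52650 = n92491 := d15_0 (iv0 D92491) D92493 F142379
theorem F142384 : act 1 n52649 = n92493 := d15_1 D52649 (iv7 D92493) F67854
theorem F142385 : act 1 n92493 = n52648 := d15_0 (iv0 D52648) D52650 (iv2 F142379)
def n92494 : Q := act 5 n43277
theorem D92494 : act 5 n43277 = n92494 := rfl
theorem F142386 : act 2 n92494 = n90243 := d2_1 D92494 (iv5 D90243) (iv2 F67869)
theorem F142387 : act 3 n92494 = n43278 := d6_1 D92494 (iv5 D43278) D43277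
theorem F142388 : act 7 n92494 = n90135 := d13_2 (iv7 F67867) D92494 (iv5 D90135)
def n92495 : Q := act 6 n43277
theorem D92495 : act 6 n43277 = n92495 := rfl
theorem F142389 : act 2 n92495 = n90244 := d3_1 D92495 (iv6 D90244) (iv2 F67869)
theorem F142390 : act 3 n92495 = n43279 := d7_1 D92495 (iv6 D43279) D43277
theorem F142391 : act 4 n92495 = n89234 := d10_1 D92495 (iv6 D89234) (iv4 F67866)
theorem F142392 : act 0 n92495 = n43962 := d20_7 F136333 (iv1 F63978) (iv4 F64382) (iv3 F68704) F68708 (iv3 F136953) (iv4 F142391) (iv4 F136754) F136753 (iv1 F136336)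
def n92496 : Q := act 4 n43278
theorem D92496 : act 4 n43278 = n92496 := rfl
theorem F142393 : act 2 n92496 = n90131 := d1_1 D92496 (iv4 D90131) (iv2 F67870)
theorem F142394 : act 7 n92496 = n90137 := d11_2 (iv7 F67871) D92496 (iv4 D90137)
theorem F142395 : act 0 n92496 = n90677 := d18_2 (iv1 F139803) D92496 (iv4 D90677) (iv5 D42450) (iv4 F65564) F68882 F68880 (iv0 F68163) (iv5 F139802)
def n92497 : Q := act 6 n43278
theorem D92497 : act 6 n43278 = n92497 := rfl
theorem F142396 : act 2 n92497 = n90132 := d3_1 D92497 (iv6 D90132) (iv2 F67870)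
def n92498 : Q := act 0 n43280
theorem D92498 : act 0 n43280 = n92498 := rfl
theorem F142397 : act 1 n90128 = n92498 := d15_0 (iv0 D92498) F67875 D90128
def n92499 : Q := act 1 n43280
theorem D92499 : act 1 n43280 = n92499 := rfl
def n92500 : Q := act 2 n43280
theorem D92500 : act 2 n43280 = n92500 := rfl
theorem F142398 : act 3 n92500 = n90134 := d0_2 D43280 D92500 (iv2 D90134) (iv3 D42130) (iv2 F63547)
theorem F142399 : act 4 n92500 = n89024 := d1_2 (iv4 F67874) D92500 (iv2 F136671)
theorem F142400 : act 7 n92500 = n90128 := d4_2 (iv7 F67875) D92500 (iv2 D90128)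
theorem F142401 : act 1 n92500 = n90126 := d15_0 (iv0 D90126) (iv7 F67875) D92500
theorem F142402 : act 1 n92499 = n90128 := d15_1 D92499 (iv7 F142400) (iv2 D92500)
theorem F142403 : act 1 n90127 = n92500 := d15_1 D90127 F142400 (iv2 D90128)
def n92501 : Q := act 5 n43280
theorem D92501 : act 5 n43280 = n92501 := rfl
theorem F142404 : act 3 n92501 = n43281 := d6_1 D92501 (iv5 D43281) D43280
theorem F142405 : act 7 n92501 = n90129 := d13_2 (iv7 F67875) D92501 (iv5 D90129)
def n92502 : Q := act 6 n43280
theorem D92502 : act 6 n43280 = n92502 := rfl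
theorem F142406 : act 3 n92502 = n43282 := d7_1 D92502 (iv6 D43282) D43280
theorem F142407 : act 4 n92502 = n89612 := d10_1 D92502 (iv6 D89612) (iv4 F67874)
def n92503 : Q := act 4 n43281
theorem D92503 : act 4 n43281 = n92503 := rfl
theorem F142408 : act 2 n92503 = n90137 := d1_1 D92503 (iv4 D90137) (iv2 F67876)
theorem F142409 : act 7 n92503 = n90131 := d11_2 (iv7 F67877) D92503 (iv4 D90131)
theorem F142410 : act 1 n92503 = n90677 := d18_6 F63356 F32950 (iv1 F63703) (iv4 F35855) D43281 D92503 (iv4 D90677) (iv0 F65565) (iv5 D42138)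
def n92504 : Q := act 0 n43282
theorem D92504 : act 0 n43282 = n92504 := rfl
theorem F142411 : act 4 n92504 = n43291 := d18_3 (iv1 F70404) (iv4 F67880) D92504 F67903 D43337 F68042 (iv4 D22502) D22501 (iv5 F65901)
theorem F142412 : act 0 n87572 = n89612 := d20_7 F142411 (iv1 F67905) (iv4 F69026) (iv3 F69433) (iv1 D44085) (iv3 F69423) (iv4 F134455) (iv4 F142407) F142406 D92504
theorem F142413 : act 2 n43539 = n92504 := d15_3 (iv0 D92504) (iv0 F67881) (iv7 F68423)
theorem F142414 : act 6 n92504 = n43968 := d3_2 (iv6 F142245) F142413 F142244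
theorem F142417 : act 5 n46832 = n92504 := d21_2 D22488 D46832 F142414 (iv1 F69121) (iv6 D42185) D42184 (iv1 F135511) (iv5 D88509) F63644 F63000
def n92505 : Q := act 7 n43282
theorem D92505 : act 7 n43282 = n92505 := rfl
theorem F142418 : act 2 n92505 = n43946 := d4_1 D92505 F69078 (iv2 F67879)
theorem F142419 : act 4 n92505 = n44877 := d11_1 D92505 F70503 (iv4 F67880)
theorem F142420 : act 6 n92505 = n88870 := d14_1 D92505 F136282 F64487 F63545 D43282
theorem F142421 : act 1 n43547 = n92505 := d15_1 (iv0 F137196) (iv7 D92505) F67879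
theorem F142422 : act 1 n92505 = n43539 := d15_1 F142421 F68423 (iv2 F68443)
def n92506 : Q := act 3 n43283
theorem D92506 : act 3 n43283 = n92506 := rfl
theorem F142423 : act 5 n92506 = n90822 := d6_2 (iv5 F67889) D92506 (iv3 D90822)
theorem F142424 : act 7 n92506 = n90144 := d8_2 (iv7 F68165) D92506 (iv3 D90144)
def n92507 : Q := act 4 n43283
theorem D92507 : act 4 n43283 = n92507 := rfl
theorem F142425 : act 2 n92507 = n90141 := d1_1 D92507 (iv4 D90141) (iv2 F68167)
theorem F142426 : act 7 n92507 = n90145 := d11_2 (iv7 F68165) D92507 (iv4 D90145)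
theorem F142427 : act 1 n92507 = n44056 := d18_6 (iv1 F70396) (iv4 F73732) (iv1 F138502) F138501 (iv5 F67889) D92507 (iv4 D44056) D44055 (iv5 F69365)
theorem F142428 : act 0 n92506 = n90247 := d20_4 D44056 (iv1 F142427) (iv4 D92507) D92506 F138809 (iv4 F138824) (iv1 F138826) (iv4 D88500) (iv3 F69367) (iv1 D44055)
def n92508 : Q := act 6 n43283
theorem D92508 : act 6 n43283 = n92508 := rfl
theorem F142429 : act 2 n92508 = n90143 := d3_1 D92508 (iv6 D90143) (iv2 F68167)
def n92509 : Q := act 3 n43284
theorem D92509 : act 3 n43284 = n92509 := rfl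
theorem F142430 : act 5 n92509 = n90434 := d6_2 F67883 D92509 F139192
theorem F142431 : act 7 n92509 = n90140 := d8_2 F68166 D92509 (iv3 D90140)
theorem F142432 : act 4 n92509 = n76409 := d20_6 F136445 (iv1 F43583) (iv4 F76692) F76691 (iv1 F67882) D92509 (iv1 D76409) F55270 F27768 D16939
def n92510 : Q := act 4 n43284
theorem D92510 : act 4 n43284 = n92510 := rfl
theorem F142433 : act 2 n92510 = n90145 := d1_1 D92510 (iv4 D90145) F68162
theorem F142434 : act 7 n92510 = n90141 := d11_2 F68166 D92510 (iv4 D90141)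
theorem F142435 : act 0 n92510 = n44056 := d18_2 (iv1 F67882) D92510 (iv4 D44056) (iv5 D20924) F15684 (iv0 F63702) (iv4 F35855) F32468 (iv5 F65053)
theorem E14710 : n76434 = n44052 := ((c20_4 D92510 F142435 (iv4 D44056) (iv3 F69359) (iv1 D76434) (iv3 D34923) F136445 (iv1 F43583) (iv4 F76692) F76691 (iv1 F67882))).symm
theorem F142436 : act 0 n44052 = n34923 := (sb E14710 (iv1 D76434))
def n92511 : Q := act 6 n43284
theorem D92511 : act 6 n43284 = n92511 := rfl
theorem F142437 : act 2 n92511 = n90146 := d3_1 D92511 (iv6 D90146) F68162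
theorem F142438 : act 5 n92511 = n90437 := d12_1 D92511 (iv6 D90437) (iv5 D42291) D42292 F67883
def n92512 : Q := act 0 n43285
theorem D92512 : act 0 n43285 = n92512 := rfl
theorem F142439 : act 4 n92512 = n43875 := d18_3 (iv1 D43284) D43285 D92512 F68978 F63637 (iv0 F66514) (iv4 F31898) (iv0 F69099) F67883
theorem F142440 : act 2 n90147 = n92512 := d1_3 F142439 F69369 (iv4 F138599)
theorem F142442 : act 1 n90150 = n92512 := d18_6 (iv1 F63425) (iv4 D19739) (iv1 F35666) (iv4 F31719) (iv5 F65053) (iv4 F138601) F142439 (iv0 D43875) (iv5 D20784)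
def n92513 : Q := act 1 n43285
theorem D92513 : act 1 n43285 = n92513 := rfl
theorem F142443 : act 1 n92513 = n90150 := d15_1 D92513 (iv7 D90150) (iv2 F67884)
theorem F142444 : act 7 n92513 = n90147 := d15_2 (iv0 D92512) D92513 F142440
theorem F142445 : act 4 n92513 = n43876 := d18_7 (iv1 F63423) (iv4 D20439) (iv1 D9705) (iv4 F15142) D20431 D43285 D92513 F69375 F69374
theorem F142446 : act 2 n90148 = n92513 := d1_3 F142445 (iv2 F69366) (iv4 F138600)
def n92514 : Q := act 3 n43285
theorem D92514 : act 3 n43285 = n92514 := rfl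
def n92515 : Q := act 5 n43285
theorem D92515 : act 5 n43285 = n92515 := rfl
theorem F142447 : act 2 n92515 = n90149 := d2_1 D92515 (iv5 D90149) (iv2 F67884)
theorem F142448 : act 4 n92515 = n90177 := d16_2 D43285 D92515 F138620 F65068 F31724 (iv4 F31719) (iv5 F65053) (iv7 D42136) (iv2 F32469)
theorem F142449 : act 7 n90175 = n92515 := d11_0 F142448 (iv7 D90177) D90175
def n92516 : Q := act 7 n43285
theorem D92516 : act 7 n43285 = n92516 := rfl
theorem F142450 : act 2 n92516 = n90150 := d4_1 D92516 (iv7 D90150) (iv2 F67884)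
theorem F142451 : act 4 n92516 = n43286 := d11_1 D92516 (iv7 D43286) D43285
theorem F142452 : act 5 n92516 = n90175 := d13_1 D92516 F142449 (iv5 D92515)
theorem F142453 : act 1 n90148 = n92516 := d15_1 D90148 (iv7 D92516) F67884
theorem F142454 : act 1 n92516 = n90147 := d15_1 F142453 (iv7 F142444) (iv2 F142446)
theorem E14711 : n90253 = n52648 := (c20_4 D43869 (iv1 F138821) (iv4 D90254) D90253 (iv1 F142385) F142380 (iv4 F142451) (iv1 F142453) F138600 F69367 F63632)
theorem F142455 : act 2 n52648 = n92491 := (sb E14711 F142376)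
theorem F142456 : act 3 n52648 = n42186 := (sb E14711 (iv3 D90253))
theorem F142457 : act 7 n52648 = n92463 := (sb E14711 (iv7 F142268))
theorem F142458 : act 2 n92463 = n52649 := d15_3 F142384 F142385 F142457
theorem F142459 : act 7 n92491 = n52649 := d4_2 (iv7 F142457) F142455 (iv2 F142458)
def n92517 : Q := act 6 n43286
theorem D92517 : act 6 n43286 = n92517 := rfl
theorem F142460 : act 2 n92517 = n52688 := d3_1 D92517 F83263 (iv2 F67885)
theorem F142461 : act 3 n92517 = n78912 := d7_1 D92517 (iv6 F142382) F142380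
theorem F142462 : act 5 n92517 = n90261 := d12_1 D92517 (iv6 D90261) F65118 (iv6 F32472) (iv5 F67886)
theorem F142463 : act 7 n92517 = n52676 := d14_2 D43286 D92517 (iv6 D52676) (iv7 F67863) F67862
theorem F142464 : act 1 n52686 = n92517 := d15_1 D52686 F142463 F83241
theorem F142465 : act 1 n92517 = n52685 := d15_0 (iv0 D52685) D52688 (iv2 F142460)
def n92518 : Q := act 5 n43287
theorem D92518 : act 5 n43287 = n92518 := rfl
theorem F142466 : act 2 n92518 = n90262 := d2_1 D92518 (iv5 D90262) (iv2 F67891)
theorem F142467 : act 3 n92518 = n43288 := d6_1 D92518 (iv5 D43288) D43287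
theorem F142468 : act 7 n92518 = n90153 := d13_2 (iv7 F67893) D92518 (iv5 D90153)
def n92519 : Q := act 6 n43287
theorem D92519 : act 6 n43287 = n92519 := rfl
theorem F142469 : act 2 n92519 = n90263 := d3_1 D92519 (iv6 D90263) (iv2 F67891)
theorem F142470 : act 3 n92519 = n43289 := d7_1 D92519 (iv6 D43289) D43287
def n92520 : Q := act 4 n43288
theorem D92520 : act 4 n43288 = n92520 := rfl
theorem F142472 : act 2 n92520 = n89768 := d1_1 D92520 (iv4 D89768) (iv2 F67894)
theorem F142473 : act 7 n92520 = n90155 := d11_2 (iv7 F67895) D92520 (iv4 D90155)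
def n92521 : Q := act 6 n43288
theorem D92521 : act 6 n43288 = n92521 := rfl
theorem F142474 : act 2 n92521 = n89769 := d3_1 D92521 (iv6 D89769) (iv2 F67894)
def n92522 : Q := act 0 n43289
theorem D92522 : act 0 n43289 = n92522 := rfl
theorem F142475 : act 5 n92522 = n43322 := d17_1 D92522 (iv1 F68002) F32645 F15232 (iv5 F15238) F32524 (iv5 F67903) (iv0 D43291) (iv4 F67899)
theorem F142476 : act 4 n92522 = n44821 := d18_3 (iv1 F35653) (iv4 F67899) D92522 F70406 F68051 (iv0 D43340) (iv4 D20467) D20466 (iv5 F32518)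
theorem F142477 : act 6 n92522 = n43914 := d21_5 (iv5 F137747) (iv1 F137748) (iv5 D43288) D43289 D92522 F75908 (iv1 D48294) (iv5 D23449) D23450 (iv1 F70396)
theorem F142478 : act 2 n43464 = n92522 := d15_3 (iv0 D92522) (iv0 F69024) (iv7 F68326)
theorem F142479 : act 1 n43902 = n92522 := d15_0 (iv0 D92522) (iv7 F142302) F142300
theorem F142480 : act 7 n92522 = n43469 := d15_2 D43902 F142479 (iv2 F68321)
def n92523 : Q := act 3 n43290
theorem D92523 : act 3 n43290 = n92523 := rfl
theorem F142482 : act 7 n92523 = n90157 := d8_2 (iv7 F67901) D92523 (iv3 D90157)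
def n92524 : Q := act 5 n43290
theorem D92524 : act 5 n43290 = n92524 := rfl
theorem F142484 : act 7 n92524 = n90158 := d13_2 (iv7 F67901) D92524 (iv5 D90158)
def n92530 : Q := act 6 n43294
theorem D92530 : act 6 n43294 = n92530 := rfl
theorem F142501 : act 5 n92530 = n90977 := d21_6 D41425 F63876 (iv5 D20449) (iv6 F32481) D43294 D92530 (iv1 D90977) (iv5 D42609) (iv6 D20111) (iv1 F31248)
def n92536 : Q := act 2 n43296
theorem D92536 : act 2 n43296 = n92536 := rfl
theorem F142513 : act 6 n92536 = n43307 := d3_2 (iv6 F67920) D92536 (iv2 D43307)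
def n92538 : Q := act 7 n43296
theorem D92538 : act 7 n43296 = n92538 := rfl
theorem F142516 : act 6 n92538 = n91067 := d14_1 D92538 (iv7 D91067) (iv6 D42654) (iv7 F32497) (iv6 F67920)
def n92539 : Q := act 0 n43297
theorem D92539 : act 0 n43297 = n92539 := rfl
theorem F142517 : act 5 n92539 = n90095 := d17_3 (iv1 D43295) D43297 D92539 (iv4 D90095) (iv5 D42111) (iv0 D19860) D19862 (iv0 F67917) F67919
theorem F142518 : act 2 n90173 = n92539 := d2_3 F142517 (iv2 F139710) (iv5 F139713)
def n92540 : Q := act 1 n43297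
theorem D92540 : act 1 n43297 = n92540 := rfl
theorem F142522 : act 7 n92540 = n90173 := d15_2 (iv0 D92539) D92540 F142518
theorem F142523 : act 5 n92540 = n89610 := d17_7 (iv1 F64676) (iv5 D20440) (iv1 D9705) D9706 D20444 D43297 D92540 (iv0 F137755) (iv4 D89760)
theorem F142524 : act 2 n90174 = n92540 := d2_3 F142523 F139813 F139811
def n92541 : Q := act 4 n43297
theorem D92541 : act 4 n43297 = n92541 := rfl
theorem F142525 : act 2 n92541 = n90175 := d1_1 D92541 (iv4 D90175) (iv2 F67921)
theorem F142526 : act 5 n92541 = n90150 := d9_2 D43297 D92541 F138601 F65053 F31719 (iv5 F31724) (iv4 F65068) (iv5 F138620) (iv4 F142448) (iv5 D92515) (iv4 D43285) (iv5 D20431) F15142 D9706 D20444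
theorem F142527 : act 7 n90149 = n92541 := d13_0 F142526 (iv7 D90150) D90149
def n92542 : Q := act 6 n43297
theorem D92542 : act 6 n43297 = n92542 := rfl
theorem F142529 : act 5 n92542 = n43309 := d12_1 D92542 (iv6 D43309) (iv5 D20449) (iv6 F32481) D43297
def n92543 : Q := act 7 n43297
theorem D92543 : act 7 n43297 = n92543 := rfl
theorem F142531 : act 4 n92543 = n90149 := d11_1 D92543 F142527 (iv4 D92541)
theorem F142532 : act 5 n92543 = n43298 := d13_1 D92543 (iv7 D43298) D43297
theorem F142533 : act 1 n90174 = n92543 := d15_1 D90174 (iv7 D92543) F67921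
theorem F142534 : act 1 n92543 = n90173 := d15_1 F142533 (iv7 F142522) (iv2 F142524)
def n92544 : Q := act 1 n43299
theorem D92544 : act 1 n43299 = n92544 := rfl
theorem F142535 : act 7 n92544 = n92039 := d15_2 (iv0 F67941) D92544 (iv2 D92039)
theorem F142536 : act 2 n90210 = n92544 := d4_3 F142535 (iv2 D92039) F138777
theorem E14712 : n92039 = n90211 := ((c15_2 (iv0 D90210) D90211 (iv7 F142535) (iv2 F142536))).symm
theorem F142537 : act 2 n90211 = n43021 := (sb E14712 (iv2 D92039))
theorem F142539 : act 3 n92544 = n91998 := d0_2 (iv3 F138776) F142536 (iv2 D91998) (iv3 D43001) (iv2 F67355)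
def n92545 : Q := act 2 n43299
theorem D92545 : act 2 n43299 = n92545 := rfl
theorem F142541 : act 3 n92545 = n90203 := d0_2 D43299 D92545 (iv2 D90203) (iv3 D42164) F32491
theorem F142542 : act 4 n92545 = n90033 := d1_2 (iv4 F67939) D92545 (iv2 D90033)
theorem F142543 : act 7 n92545 = n90212 := d4_2 (iv7 F67940) D92545 (iv2 D90212)
theorem F142544 : act 1 n92545 = n90210 := d15_0 (iv0 D90210) (iv7 F67940) D92545
theorem F142545 : act 1 n90211 = n92545 := d15_0 F142544 (iv7 F138777) (iv2 F142537)
def n92546 : Q := act 5 n43299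
theorem D92546 : act 5 n43299 = n92546 := rfl
def n92547 : Q := act 6 n43299
theorem D92547 : act 6 n43299 = n92547 := rfl
def n92548 : Q := act 6 n43300
theorem D92548 : act 6 n43300 = n92548 := rfl
theorem F142551 : act 4 n92548 = n90215 := d10_1 D92548 (iv6 D90215) (iv4 F67944)
def n92551 : Q := act 0 n43302
theorem D92551 : act 0 n43302 = n92551 := rfl
theorem F142558 : act 1 n90203 = n92551 := d15_0 (iv0 D92551) F67950 D90203
def n92552 : Q := act 1 n43302
theorem D92552 : act 1 n43302 = n92552 := rfl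
def n92553 : Q := act 2 n43302
theorem D92553 : act 2 n43302 = n92553 := rfl
theorem F142559 : act 3 n92553 = n90212 := d0_2 D43302 D92553 (iv2 D90212) (iv3 D42167) F32496
theorem F142560 : act 4 n92553 = n88619 := d1_2 (iv4 F67949) D92553 (iv2 D88619)
theorem F142561 : act 7 n92553 = n90203 := d4_2 (iv7 F67950) D92553 (iv2 D90203)
theorem F142562 : act 1 n92553 = n90201 := d15_0 (iv0 D90201) (iv7 F67950) D92553
theorem F142563 : act 1 n92552 = n90203 := d15_1 D92552 (iv7 F142561) (iv2 D92553)
theorem F142564 : act 1 n90202 = n92553 := d15_1 D90202 F142561 (iv2 D90203)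
def n92554 : Q := act 5 n43302
theorem D92554 : act 5 n43302 = n92554 := rfl
def n92555 : Q := act 6 n43302
theorem D92555 : act 6 n43302 = n92555 := rfl
def n92556 : Q := act 6 n43303
theorem D92556 : act 6 n43303 = n92556 := rfl
theorem F142571 : act 4 n92556 = n90206 := d10_1 D92556 (iv6 D90206) (iv4 F67952)
def n92558 : Q := act 3 n43305
theorem D92558 : act 3 n43305 = n92558 := rfl
theorem F142576 : act 2 n92558 = n91992 := d0_1 D92558 (iv3 D91992) F140096 (iv3 D91055) F137508
theorem F142577 : act 7 n92558 = n91051 := d8_2 (iv7 F137509) D92558 (iv3 D91051)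
def n92559 : Q := act 4 n43305
theorem D92559 : act 4 n43305 = n92559 := rfl
theorem F142578 : act 2 n92559 = n89673 := d1_1 D92559 F137505 F137508
theorem F142579 : act 7 n92559 = n91052 := d11_2 (iv7 F137509) D92559 (iv4 D91052)
def n92560 : Q := act 5 n43305
theorem D92560 : act 5 n43305 = n92560 := rfl
theorem F142580 : act 2 n92560 = n91056 := d2_1 D92560 (iv5 D91056) F137508
theorem F142581 : act 7 n92560 = n91053 := d13_2 (iv7 F137509) D92560 (iv5 D91053)
def n92561 : Q := act 6 n43305
theorem D92561 : act 6 n43305 = n92561 := rfl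
def n92562 : Q := act 5 n43306
theorem D92562 : act 5 n43306 = n92562 := rfl
theorem F142583 : act 2 n92562 = n91053 := d2_1 D92562 (iv5 D91053) (iv2 F137507)
theorem F142585 : act 7 n92562 = n91056 := d13_2 F137506 D92562 (iv5 D91056)
def n92563 : Q := act 6 n43306
theorem D92563 : act 6 n43306 = n92563 := rfl
def n92564 : Q := act 5 n43307
theorem D92564 : act 5 n43307 = n92564 := rfl
theorem F142588 : act 2 n92564 = n43308 := d2_1 D92564 (iv5 D43308) D43307
theorem F142589 : act 3 n92564 = n90228 := d6_1 D92564 (iv5 D90228) (iv3 F67962)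
theorem F142590 : act 7 n92564 = n91058 := d13_2 (iv7 F67963) D92564 (iv5 D91058)
def n92565 : Q := act 0 n43308
theorem D92565 : act 0 n43308 = n92565 := rfl
theorem F142593 : act 1 n91058 = n92565 := d15_0 (iv0 D92565) F67968 (iv2 F140102)
def n92566 : Q := act 1 n43308
theorem D92566 : act 1 n43308 = n92566 := rfl
theorem F142594 : act 1 n92566 = n91058 := d15_1 D92566 (iv7 F142590) F142588
def n92567 : Q := act 4 n43308
theorem D92567 : act 4 n43308 = n92567 := rfl
theorem F142595 : act 7 n92567 = n91062 := d11_2 (iv7 F67968) D92567 (iv4 D91062)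
def n92568 : Q := act 6 n43308
theorem D92568 : act 6 n43308 = n92568 := rfl
theorem F142596 : act 3 n92568 = n43309 := d7_1 D92568 (iv6 D43309) (iv3 F67967)
def n92569 : Q := act 0 n43309
theorem D92569 : act 0 n43309 = n92569 := rfl
def n92570 : Q := act 1 n43309
theorem D92570 : act 1 n43309 = n92570 := rfl
theorem F142597 : act 1 n92570 = n90239 := d15_1 D92570 (iv7 D90239) (iv2 F67969)
def n92571 : Q := act 7 n43309
theorem D92571 : act 7 n43309 = n92571 := rfl
theorem F142598 : act 2 n92571 = n90239 := d4_1 D92571 (iv7 D90239) (iv2 F67969)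
theorem F142599 : act 6 n92571 = n91071 := d14_1 D92571 (iv7 D91071) (iv6 D42655) (iv7 F32499) D43309
theorem F142600 : act 1 n90239 = n92569 := d15_0 (iv0 D92569) D92571 F142598
theorem F142601 : act 1 n90238 = n92571 := d15_1 D90238 (iv7 D92571) F67969
theorem F142602 : act 1 n92571 = n90237 := d15_0 (iv0 D90237) D90239 (iv2 F142598)
def n92572 : Q := act 6 n43310
theorem D92572 : act 6 n43310 = n92572 := rfl
theorem F142603 : act 2 n92572 = n90269 := d3_1 D92572 (iv6 D90269) (iv2 F67970)
theorem F142604 : act 4 n92572 = n43312 := d10_1 D92572 (iv6 D43312) D43310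
def n92573 : Q := act 0 n43312
theorem D92573 : act 0 n43312 = n92573 := rfl
def n92574 : Q := act 1 n43312
theorem D92574 : act 1 n43312 = n92574 := rfl
def n92575 : Q := act 5 n43312
theorem D92575 : act 5 n43312 = n92575 := rfl
theorem F142606 : act 2 n92575 = n90274 := d2_1 D92575 (iv5 D90274) (iv2 F67975)
def n92576 : Q := act 7 n43312
theorem D92576 : act 7 n43312 = n92576 := rfl
theorem F142607 : act 2 n92576 = n90275 := d4_1 D92576 (iv7 D90275) (iv2 F67975)
theorem F142608 : act 6 n92576 = n90275 := d14_1 D92576 (iv7 D90275) (iv6 D42199) (iv7 F65140) D43312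
theorem F142611 : act 1 n92576 = n90272 := d15_0 (iv0 D90272) D90275 (iv2 F142607)
def n92577 : Q := act 2 n43313
theorem D92577 : act 2 n43313 = n92577 := rfl
theorem F142612 : act 7 n43314 = n92577 := d15_2 (iv0 D43313) D43314 (iv2 D92577)
def n92578 : Q := act 3 n43313
theorem D92578 : act 3 n43313 = n92578 := rfl
def n92579 : Q := act 4 n43313
theorem D92579 : act 4 n43313 = n92579 := rfl
def n92580 : Q := act 5 n43313
theorem D92580 : act 5 n43313 = n92580 := rfl
def n92581 : Q := act 6 n43313
theorem D92581 : act 6 n43313 = n92581 := rfl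
def n92582 : Q := act 7 n43313
theorem D92582 : act 7 n43313 = n92582 := rfl
def n92583 : Q := act 4 n43314
theorem D92583 : act 4 n43314 = n92583 := rfl
def n92584 : Q := act 5 n43314
theorem D92584 : act 5 n43314 = n92584 := rfl
def n92585 : Q := act 6 n43314
theorem D92585 : act 6 n43314 = n92585 := rfl
def n92586 : Q := act 0 n43315
theorem D92586 : act 0 n43315 = n92586 := rfl
def n92587 : Q := act 1 n43315
theorem D92587 : act 1 n43315 = n92587 := rfl
theorem F142614 : act 1 n92587 = n90293 := d15_1 D92587 (iv7 D90293) (iv2 F67977)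
def n92588 : Q := act 4 n43315
theorem D92588 : act 4 n43315 = n92588 := rfl
theorem F142615 : act 2 n92588 = n90292 := d1_1 D92588 (iv4 D90292) (iv2 F67977)
def n92589 : Q := act 7 n43315
theorem D92589 : act 7 n43315 = n92589 := rfl
theorem F142616 : act 2 n92589 = n90293 := d4_1 D92589 (iv7 D90293) (iv2 F67977)
theorem F142617 : act 3 n92589 = n43325 := d8_1 D92589 (iv7 D43325) (iv3 F67978)
theorem F142618 : act 5 n92589 = n43316 := d13_1 D92589 (iv7 D43316) D43315
theorem F142619 : act 1 n90293 = n92586 := d15_0 (iv0 D92586) D92589 F142616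
theorem F142620 : act 1 n90291 = n92589 := d15_1 D90291 (iv7 D92589) F67977
theorem F142621 : act 1 n92589 = n90290 := d15_0 (iv0 D90290) D90293 (iv2 F142616)
def n92590 : Q := act 0 n43317
theorem D92590 : act 0 n43317 = n92590 := rfl
theorem F142622 : act 4 n92590 = n90722 := d20_0 (iv1 F139632) (iv4 F139010) F139009 (iv1 F138958) F68090 F32543 (iv1 F62736) F32511 D43317 D92590
theorem F142623 : act 1 n43454 = n92590 := d15_0 (iv0 D92590) F67987 D43454
def n92591 : Q := act 1 n43317
theorem D92591 : act 1 n43317 = n92591 := rfl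
def n92592 : Q := act 2 n43317
theorem D92592 : act 2 n43317 = n92592 := rfl
theorem F142624 : act 3 n92592 = n43441 := d0_2 D43317 D92592 (iv2 D43441) (iv3 D20538) (iv2 F62794)
theorem F142625 : act 4 n92592 = n48084 := d1_2 (iv4 F67986) D92592 (iv2 D48084)
theorem F142626 : act 7 n92592 = n43454 := d4_2 (iv7 F67987) D92592 (iv2 D43454)
theorem F142627 : act 1 n92592 = n43452 := d15_0 (iv0 D43452) (iv7 F67987) D92592
theorem F142628 : act 1 n92591 = n43454 := d15_1 D92591 (iv7 F142626) (iv2 D92592)
theorem F142629 : act 1 n43453 = n92592 := d15_1 D43453 F142626 (iv2 D43454)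
def n92593 : Q := act 5 n43317
theorem D92593 : act 5 n43317 = n92593 := rfl
theorem F142630 : act 3 n92593 = n43318 := d6_1 D92593 (iv5 D43318) D43317
theorem F142631 : act 7 n92593 = n43456 := d13_2 (iv7 F67987) D92593 (iv5 D43456)
def n92594 : Q := act 6 n43317
theorem D92594 : act 6 n43317 = n92594 := rfl
theorem F142632 : act 3 n92594 = n43319 := d7_1 D92594 (iv6 D43319) D43317
theorem F142633 : act 4 n92594 = n48086 := d10_1 D92594 (iv6 D48086) (iv4 F67986)
theorem F142634 : act 5 n44098 = n92594 := d6_0 F142632 F67992 D44098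
def n92595 : Q := act 1 n43318
theorem D92595 : act 1 n43318 = n92595 := rfl
theorem F142635 : act 1 n92595 = n43321 := d15_1 D92595 F67996 (iv2 F67988)
theorem F142636 : act 7 n92595 = n43444 := d15_2 F137770 D92595 (iv2 F137766)
theorem F142637 : act 5 n92595 = n92476 := d17_7 (iv1 F74023) F75533 (iv1 D48076) (iv5 D23202) F32511 D43318 D92595 (iv0 F142304) (iv4 F74022)
theorem F142638 : act 2 n43445 = n92595 := d2_3 F142637 F142300 (iv5 F69028)
def n92596 : Q := act 4 n43318
theorem D92596 : act 4 n43318 = n92596 := rfl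
theorem F142639 : act 2 n92596 = n43446 := d1_1 D92596 (iv4 D43446) (iv2 F67988)
theorem F142640 : act 7 n92596 = n43458 := d11_2 (iv7 F67989) D92596 (iv4 D43458)
def n92597 : Q := act 6 n43318
theorem D92597 : act 6 n43318 = n92597 := rfl
theorem F142641 : act 2 n92597 = n43447 := d3_1 D92597 (iv6 D43447) (iv2 F67988)
theorem F142642 : act 5 n92597 = n44100 := d12_1 D92597 (iv6 D44100) (iv5 F67992) (iv6 D43319) D43318
def n92599 : Q := act 0 n43320
theorem D92599 : act 0 n43320 = n92599 := rfl
theorem F142648 : act 1 n43441 = n92599 := d15_0 (iv0 D92599) F67994 D43441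
def n92600 : Q := act 1 n43320
theorem D92600 : act 1 n43320 = n92600 := rfl
def n92601 : Q := act 2 n43320
theorem D92601 : act 2 n43320 = n92601 := rfl
theorem F142649 : act 3 n92601 = n43454 := d0_2 D43320 D92601 (iv2 D43454) (iv3 D20543) F62792
theorem F142650 : act 7 n92601 = n43441 := d4_2 (iv7 F67994) D92601 (iv2 D43441)
theorem F142651 : act 1 n92601 = n43439 := d15_0 (iv0 D43439) (iv7 F67994) D92601
theorem F142652 : act 1 n92600 = n43441 := d15_1 D92600 (iv7 F142650) (iv2 D92601)
theorem F142653 : act 1 n43440 = n92601 := d15_1 D43440 F142650 (iv2 D43441)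
def n92602 : Q := act 5 n43320
theorem D92602 : act 5 n43320 = n92602 := rfl
theorem F142654 : act 3 n92602 = n43321 := d6_1 D92602 (iv5 D43321) D43320
theorem F142655 : act 7 n92602 = n43442 := d13_2 (iv7 F67994) D92602 (iv5 D43442)
def n92603 : Q := act 4 n43321
theorem D92603 : act 4 n43321 = n92603 := rfl
theorem F142656 : act 2 n92603 = n43458 := d1_1 D92603 (iv4 D43458) (iv2 F67995)
theorem F142657 : act 7 n92603 = n43446 := d11_2 (iv7 F67996) D92603 (iv4 D43446)
def n92604 : Q := act 6 n43321
theorem D92604 : act 6 n43321 = n92604 := rfl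
theorem F142658 : act 2 n92604 = n43459 := d3_1 D92604 (iv6 D43459) (iv2 F67995)
def n92605 : Q := act 3 n43322
theorem D92605 : act 3 n43322 = n92605 := rfl
theorem F142659 : act 7 n92605 = n43467 := d8_2 (iv7 F68328) D92605 (iv3 D43467)
def n92606 : Q := act 4 n43322
theorem D92606 : act 4 n43322 = n92606 := rfl
theorem F142660 : act 2 n92606 = n43463 := d1_1 D92606 (iv4 D43463) (iv2 F68327)
theorem F142661 : act 7 n92606 = n43468 := d11_2 (iv7 F68328) D92606 (iv4 D43468)
def n92607 : Q := act 6 n43322
theorem D92607 : act 6 n43322 = n92607 := rfl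
theorem F142662 : act 2 n92607 = n43465 := d3_1 D92607 (iv6 D43465) (iv2 F68327)
def n92608 : Q := act 3 n43323
theorem D92608 : act 3 n43323 = n92608 := rfl
theorem F142663 : act 5 n92608 = n43897 := d6_2 F67998 D92608 F69017
theorem F142664 : act 7 n92608 = n43462 := d8_2 (iv7 F68325) D92608 (iv3 D43462)
def n92609 : Q := act 4 n43323
theorem D92609 : act 4 n43323 = n92609 := rfl
theorem F142665 : act 2 n92609 = n43468 := d1_1 D92609 (iv4 D43468) (iv2 F68324)
theorem F142666 : act 7 n92609 = n43463 := d11_2 (iv7 F68325) D92609 (iv4 D43463)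
def n92610 : Q := act 6 n43323
theorem D92610 : act 6 n43323 = n92610 := rfl
theorem F142667 : act 2 n92610 = n43470 := d3_1 D92610 (iv6 D43470) (iv2 F68324)
theorem F142668 : act 5 n92610 = n43901 := d12_1 D92610 (iv6 D43901) (iv5 D20795) D20796 F67998
def n92611 : Q := act 0 n43324
theorem D92611 : act 0 n43324 = n92611 := rfl
theorem F142669 : act 4 n92611 = n46832 := d18_3 (iv1 D43323) D43324 D92611 F142417 F142411 (iv0 D43291) (iv4 F67899) (iv0 F69024) F67998
theorem F142670 : act 1 n43475 = n92611 := d18_6 (iv1 F63001) (iv4 D20458) (iv1 F15166) (iv4 F15232) (iv5 F32645) (iv4 F68330) F142669 (iv0 D46832) (iv5 D22488)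
def n92612 : Q := act 1 n43324
theorem D92612 : act 1 n43324 = n92612 := rfl
theorem F142671 : act 1 n92612 = n43475 := d15_1 D92612 (iv7 D43475) (iv2 F67999)
theorem F142672 : act 4 n43947 = n92612 := d18_5 (iv1 F142479) F69026 (iv1 D20831) (iv4 F32977) D43947 F142671 F68330 F68002 (iv5 F142475)
def n92613 : Q := act 3 n43324
theorem D92613 : act 3 n43324 = n92613 := rfl
def n92614 : Q := act 5 n43324
theorem D92614 : act 5 n43324 = n92614 := rfl
theorem F142673 : act 2 n92614 = n43474 := d2_1 D92614 (iv5 D43474) (iv2 F67999)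
theorem F142674 : act 4 n92614 = n43563 := d16_2 D43324 D92614 F68451 F32683 F15238 (iv4 F15232) (iv5 F32645) (iv7 D20550) (iv2 F32505)
theorem F142675 : act 7 n43561 = n92614 := d11_0 F142674 (iv7 D43563) D43561
def n92615 : Q := act 7 n43324
theorem D92615 : act 7 n43324 = n92615 := rfl
theorem F142676 : act 2 n92615 = n43475 := d4_1 D92615 (iv7 D43475) (iv2 F67999)
theorem F142677 : act 4 n92615 = n43325 := d11_1 D92615 (iv7 D43325) D43324
theorem F142678 : act 5 n92615 = n43561 := d13_1 D92615 F142675 (iv5 D92614)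
theorem F142679 : act 1 n43472 = n92615 := d15_1 D43472 (iv7 D92615) F67999
theorem F142680 : act 1 n92615 = n43471 := d15_0 (iv0 D43471) D43475 (iv2 F142676)
def n92616 : Q := act 6 n43325
theorem D92616 : act 6 n43325 = n92616 := rfl
theorem F142681 : act 2 n92616 = n43476 := d3_1 D92616 (iv6 D43476) (iv2 F68000)
theorem F142682 : act 5 n92616 = n90324 := d12_1 D92616 (iv6 D90324) F65178 (iv6 F32508) (iv5 F68001)
def n92617 : Q := act 0 n43326
theorem D92617 : act 0 n43326 = n92617 := rfl
theorem F142683 : act 5 n92617 = n87295 := d17_3 (iv1 F62750) D43326 D92617 F133993 (iv5 F74133) (iv0 D46925) (iv5 D22552) F62718 (iv4 F17257)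
theorem F142684 : act 4 n92617 = n46933 := d18_1 D92617 (iv1 F74147) (iv4 D22572) (iv5 D10704) D10703 (iv0 F62715) (iv4 F67805) F67808 D43326
theorem F142686 : act 1 n43512 = n92617 := d15_0 (iv0 D92617) F68006 (iv2 F68382)
theorem F142688 : act 6 n90999 = n92617 := d21_3 F31946 D42624 D90999 (iv1 F142686) (iv6 F74265) (iv5 F137329) F137330 F127414 F75876 (iv1 D42625)
def n92618 : Q := act 4 n43326
theorem D92618 : act 4 n43326 = n92618 := rfl
theorem F142690 : act 7 n92618 = n43515 := d11_2 (iv7 F68006) D92618 (iv4 D43515)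
theorem F142692 : act 1 n92618 = n48152 := d18_6 (iv1 F62708) (iv4 F17139) D22263 (iv4 F62751) D43326 D92618 (iv4 D48152) (iv0 D23293) (iv5 D10947)
def n92619 : Q := act 5 n43328
theorem D92619 : act 5 n43328 = n92619 := rfl
theorem F142693 : act 2 n92619 = n43488 := d2_1 D92619 (iv5 D43488) F68009
theorem F142694 : act 3 n92619 = n90806 := d6_1 D92619 (iv5 D90806) (iv3 F68014)
theorem F142695 : act 7 n92619 = n43356 := d13_2 (iv7 F68011) D92619 (iv5 D43356)
theorem F142696 : act 0 n92619 = n43947 := d17_2 D43328 D92619 (iv5 D43947) F32977 F32518 F32517 F15238 F15166 D20458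
theorem F142697 : act 1 n92619 = n46832 := d17_6 (iv1 F74024) (iv5 D46843) (iv1 F73962) F73960 F68012 D92619 F142417 (iv0 D92504) F67880
def n92620 : Q := act 0 n43329
theorem D92620 : act 0 n43329 = n92620 := rfl
theorem F142698 : act 4 n92620 = n87970 := d20_0 (iv1 F134959) D87990 (iv3 F134997) (iv1 D43314) F32502 F15158 D9713 D20458 D43329 D92620
theorem F142699 : act 2 n43518 = n92620 := d15_3 (iv0 D92620) (iv0 F68016) (iv7 F68393)
theorem F142700 : act 1 n43519 = n92620 := d15_0 (iv0 D92620) F68015 D43519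
theorem F142701 : act 7 n92620 = n43375 := d15_2 (iv0 F140421) F142700 F68138
theorem F142702 : act 6 n90326 = n92620 := d14_5 F142701 (iv6 D43375) F32575 D42346 (iv7 F138957)
theorem F142703 : act 3 n92620 = n90734 := d0_2 F68391 F142699 (iv2 D90734) (iv3 D42485) (iv2 F65868)
theorem E14713 : n88044 = n46643 := ((c20_11 (iv4 D88044) (iv1 D41106) (iv4 F34736) F34735 D22263 D46466 F73372 D92620 F142698 F134957 (iv1 F126432))).symm
theorem F142704 : act 4 n46643 = n41106 := (sb E14713 (iv4 D88044))
theorem E14714 : n88043 = n46992 := (c20_4 (iv4 F126430) (iv1 F126432) F142704 D88043 (iv1 D46992) (iv3 F73438) F73439 D87757 (iv4 F134735) (iv3 D46701) (iv1 F73806))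
theorem F142705 : act 3 n46992 = n41106 := (sb E14714 (iv3 D88043))
def n92621 : Q := act 2 n43329
theorem D92621 : act 2 n43329 = n92621 := rfl
theorem F142706 : act 3 n92621 = n43491 := d0_2 D43329 D92621 (iv2 D43491) (iv3 D20566) (iv2 F35930)
theorem F142707 : act 7 n92621 = n43519 := d4_2 (iv7 F68015) D92621 (iv2 D43519)
theorem F142708 : act 1 n92621 = n43375 := d15_0 F68395 (iv7 F68015) D92621
theorem F142709 : act 1 n43518 = n92621 := d15_0 F142708 (iv7 F142701) (iv2 F142699)
def n92622 : Q := act 5 n43329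
theorem D92622 : act 5 n43329 = n92622 := rfl
theorem F142710 : act 3 n92622 = n43330 := d6_1 D92622 (iv5 D43330) D43329
theorem F142711 : act 7 n92622 = n43520 := d13_2 (iv7 F68015) D92622 (iv5 D43520)
def n92623 : Q := act 6 n43329
theorem D92623 : act 6 n43329 = n92623 := rfl
theorem F142712 : act 3 n92623 = n43331 := d7_1 D92623 (iv6 D43331) D43329
theorem F142713 : act 0 n90768 = n92623 := d20_4 (iv4 F65919) F74809 F74807 D90768 F142712 F68020 F66531 (iv4 F36592) F36591 D41331
def n92624 : Q := act 1 n43330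
theorem D92624 : act 1 n43330 = n92624 := rfl
theorem F142714 : act 1 n92624 = n43335 := d15_1 D92624 F68031 (iv2 F68017)
theorem F142715 : act 7 n92624 = n43494 := d15_2 F138593 D92624 (iv2 F138590)
theorem F142716 : act 5 n92624 = n92505 := d17_7 (iv1 F67797) F67794 (iv1 F66382) (iv5 D20459) D20458 D43330 D92624 F142422 (iv4 D43539)
theorem F142717 : act 2 n43495 = n92624 := d2_3 F142716 F142418 F69487
def n92625 : Q := act 4 n43330
theorem D92625 : act 4 n43330 = n92625 := rfl
theorem F142718 : act 2 n92625 = n43496 := d1_1 D92625 (iv4 D43496) (iv2 F68017)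
theorem F142719 : act 7 n92625 = n43522 := d11_2 (iv7 F68018) D92625 (iv4 D43522)
def n92626 : Q := act 6 n43330
theorem D92626 : act 6 n43330 = n92626 := rfl
theorem F142720 : act 2 n92626 = n43497 := d3_1 D92626 (iv6 D43497) (iv2 F68017)
def n92627 : Q := act 1 n43331
theorem D92627 : act 1 n43331 = n92627 := rfl
theorem F142721 : act 1 n92627 = n43500 := d15_1 D92627 (iv7 D43500) (iv2 F68019)
theorem F142723 : act 4 n92627 = n46840 := d17_9 (iv1 D46840) F72733 (iv1 D46129) (iv5 D22065) (iv4 F31715) D42119 D90106 (iv5 F138545) D92627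
theorem F142724 : act 6 n90142 = n92627 := d21_3 D19875 D42133 D90142 (iv1 D92627) (iv6 D43331) D43330 (iv1 F138593) (iv5 D90139) (iv6 D42132) (iv1 D19874)
def n92628 : Q := act 3 n43332
theorem D92628 : act 3 n43332 = n92628 := rfl
theorem F142726 : act 7 n92628 = n43526 := d8_2 (iv7 F68022) D92628 (iv3 D43526)
def n92630 : Q := act 0 n43334
theorem D92630 : act 0 n43334 = n92630 := rfl
theorem F142730 : act 3 n92630 = n90340 := d20_5 F15232 (iv1 F15159) D20463 D43334 D92630 F139005 (iv1 D48083) (iv4 F67986) (iv3 D43317) (iv1 F32509)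
theorem F142731 : act 4 n92630 = n47865 := d20_0 (iv1 D47865) (iv4 F65159) (iv3 D42210) (iv1 F31758) (iv3 F15231) F15232 (iv1 F15159) D20463 D43334 D92630
theorem F142732 : act 1 n43491 = n92630 := d15_0 (iv0 D92630) F68029 D43491
def n92631 : Q := act 1 n43334
theorem D92631 : act 1 n43334 = n92631 := rfl
theorem F142733 : act 4 n47864 = n92631 := d20_0 (iv1 D92631) F68028 (iv3 D23186) (iv1 D10915) F7400 F7372 D4952 D10866 D23040 D47864
def n92632 : Q := act 2 n43334
theorem D92632 : act 2 n43334 = n92632 := rfl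
theorem F142734 : act 3 n92632 = n43519 := d0_2 D43334 D92632 (iv2 D43519) (iv3 D20586) (iv2 F35922)
theorem F142735 : act 4 n92632 = n48058 := d1_2 (iv4 F68028) D92632 (iv2 D48058)
theorem F142736 : act 7 n92632 = n43491 := d4_2 (iv7 F68029) D92632 (iv2 D43491)
theorem F142737 : act 1 n92632 = n43489 := d15_0 (iv0 D43489) (iv7 F68029) D92632
theorem F142738 : act 1 n92631 = n43491 := d15_1 D92631 (iv7 F142736) (iv2 D92632)
def n92633 : Q := act 5 n43334
theorem D92633 : act 5 n43334 = n92633 := rfl
theorem F142740 : act 3 n92633 = n43335 := d6_1 D92633 (iv5 D43335) D43334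
theorem F142741 : act 7 n92633 = n43492 := d13_2 (iv7 F68029) D92633 (iv5 D43492)
def n92634 : Q := act 4 n43335
theorem D92634 : act 4 n43335 = n92634 := rfl
theorem F142742 : act 2 n92634 = n43522 := d1_1 D92634 (iv4 D43522) (iv2 F68030)
theorem F142743 : act 7 n92634 = n43496 := d11_2 (iv7 F68031) D92634 (iv4 D43496)
def n92635 : Q := act 6 n43335
theorem D92635 : act 6 n43335 = n92635 := rfl
theorem F142744 : act 2 n92635 = n43523 := d3_1 D92635 (iv6 D43523) (iv2 F68030)
def n92636 : Q := act 6 n43336
theorem D92636 : act 6 n43336 = n92636 := rfl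
theorem F142746 : act 5 n92636 = n43649 := d12_1 D92636 (iv6 F75911) F75910 (iv6 F134029) F134028
def n92637 : Q := act 0 n43337
theorem D92637 : act 0 n43337 = n92637 := rfl
theorem F142751 : act 1 n43339 = n92637 := d15_0 (iv0 D92637) F68034 (iv2 F68039)
def n92639 : Q := act 5 n43337
theorem D92639 : act 5 n43337 = n92639 := rfl
theorem F142755 : act 2 n92639 = n43537 := d2_1 D92639 (iv5 D43537) (iv2 F68033)
theorem F142756 : act 7 n92639 = n43545 := d13_2 (iv7 F68034) D92639 (iv5 D43545)
def n92641 : Q := act 3 n43339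
theorem D92641 : act 3 n43339 = n92641 := rfl
theorem F142760 : act 4 n92641 = n48127 := d5_2 D43339 D92641 (iv3 D48127) (iv4 F66318) F66316
theorem F142761 : act 7 n92641 = n43536 := d8_2 (iv7 F68040) D92641 (iv3 D43536)
def n92642 : Q := act 5 n43339
theorem D92642 : act 5 n43339 = n92642 := rfl
theorem F142762 : act 2 n92642 = n43545 := d2_1 D92642 (iv5 D43545) (iv2 F68039)
theorem F142763 : act 7 n92642 = n43537 := d13_2 (iv7 F68040) D92642 (iv5 D43537)
def n92643 : Q := act 3 n43340
theorem D92643 : act 3 n43340 = n92643 := rfl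
theorem F142764 : act 4 n92643 = n48115 := d5_2 F68051 D92643 (iv3 D48115) (iv4 D23235) D23234
theorem F142765 : act 7 n92643 = n43551 := d8_2 (iv7 F68052) D92643 (iv3 D43551)
def n92644 : Q := act 5 n43340
theorem D92644 : act 5 n43340 = n92644 := rfl
theorem F142766 : act 2 n92644 = n43549 := d2_1 D92644 (iv5 D43549) (iv2 F68055)
theorem F142767 : act 7 n92644 = n43552 := d13_2 (iv7 F68052) D92644 (iv5 D43552)
def n92646 : Q := act 3 n43341
theorem D92646 : act 3 n43341 = n92646 := rfl
theorem F142773 : act 7 n92646 = n43548 := d8_2 F68057 D92646 (iv3 D43548)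
def n92647 : Q := act 5 n43341
theorem D92647 : act 5 n43341 = n92647 := rfl
theorem F142774 : act 2 n92647 = n43552 := d2_1 D92647 (iv5 D43552) F68054
theorem F142775 : act 7 n92647 = n43549 := d13_2 F68057 D92647 (iv5 D43549)
def n92648 : Q := act 0 n43342
theorem D92648 : act 0 n43342 = n92648 := rfl
def n92649 : Q := act 1 n43342
theorem D92649 : act 1 n43342 = n92649 := rfl
def n92650 : Q := act 2 n43342
theorem D92650 : act 2 n43342 = n92650 := rfl
theorem F142778 : act 6 n92650 = n43347 := d3_2 (iv6 F68045) D92650 (iv2 D43347)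
def n92651 : Q := act 5 n43342
theorem D92651 : act 5 n43342 = n92651 := rfl
theorem F142779 : act 3 n92651 = n43343 := d6_1 D92651 (iv5 D43343) D43342
def n92652 : Q := act 7 n43342
theorem D92652 : act 7 n43342 = n92652 := rfl
theorem F142780 : act 3 n92652 = n43344 := d8_1 D92652 (iv7 D43344) D43342
theorem F142781 : act 4 n92652 = n92652 := d11_1 D92652 (iv7 D92652) F68044
def n92653 : Q := act 0 n43343
theorem D92653 : act 0 n43343 = n92653 := rfl
theorem F142783 : act 2 n43559 = n92653 := d15_3 (iv0 D92653) (iv0 F139888) F139887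
theorem F142784 : act 7 n92653 = n43560 := d4_2 F139887 F142783 (iv2 F139886)
theorem F142785 : act 1 n43563 = n92653 := d15_1 F139889 F142784 (iv2 F139886)
def n92654 : Q := act 4 n43343
theorem D92654 : act 4 n43343 = n92654 := rfl
theorem F142786 : act 2 n92654 = n43561 := d1_1 D92654 (iv4 D43561) (iv2 F68046)
theorem F142787 : act 5 n92654 = n43475 := d9_2 D43343 D92654 F68330 F32645 F15232 (iv5 F15238) (iv4 F32683) (iv5 F68451) (iv4 F142674) (iv5 D92614) (iv4 D43324) (iv5 D20454) F15158 D9715 D20467
theorem F142788 : act 7 n43474 = n92654 := d13_0 F142787 (iv7 D43475) D43474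
def n92655 : Q := act 6 n43343
theorem D92655 : act 6 n43343 = n92655 := rfl
theorem F142789 : act 2 n92655 = n43562 := d3_1 D92655 (iv6 D43562) (iv2 F68046)
theorem F142790 : act 5 n92655 = n43349 := d12_1 D92655 (iv6 D43349) (iv5 D20470) (iv6 F32520) D43343
def n92656 : Q := act 7 n43343
theorem D92656 : act 7 n43343 = n92656 := rfl
theorem F142791 : act 2 n92656 = n43563 := d4_1 D92656 (iv7 D43563) (iv2 F68046)
theorem F142792 : act 4 n92656 = n43474 := d11_1 D92656 F142788 (iv4 D92654)
theorem F142793 : act 5 n92656 = n43344 := d13_1 D92656 (iv7 D43344) D43343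
theorem F142794 : act 1 n43560 = n92656 := d15_1 D43560 (iv7 D92656) F68046
theorem F142795 : act 1 n92656 = n43559 := d15_1 F142794 (iv7 F139887) F139886
def n92657 : Q := act 2 n43345
theorem D92657 : act 2 n43345 = n92657 := rfl
theorem F142796 : act 7 n43346 = n92657 := d15_2 (iv0 D43345) D43346 (iv2 D92657)
def n92658 : Q := act 3 n43345
theorem D92658 : act 3 n43345 = n92658 := rfl
theorem F142797 : act 4 n92658 = n91849 := d20_6 (iv4 D9483) F16825 D9719 D20469 D43345 D92658 (iv1 D91849) F67282 (iv3 D42598) (iv1 D20108)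
def n92659 : Q := act 4 n43345
theorem D92659 : act 4 n43345 = n92659 := rfl
def n92660 : Q := act 5 n43345
theorem D92660 : act 5 n43345 = n92660 := rfl
def n92661 : Q := act 6 n43345
theorem D92661 : act 6 n43345 = n92661 := rfl
def n92662 : Q := act 7 n43345
theorem D92662 : act 7 n43345 = n92662 := rfl
theorem F142798 : act 2 n92662 = n43346 := d4_1 D92662 F142796 (iv2 D92657)
def n92663 : Q := act 3 n43346
theorem D92663 : act 3 n43346 = n92663 := rfl
def n92664 : Q := act 4 n43346
theorem D92664 : act 4 n43346 = n92664 := rfl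
def n92665 : Q := act 5 n43346
theorem D92665 : act 5 n43346 = n92665 := rfl
def n92666 : Q := act 6 n43346
theorem D92666 : act 6 n43346 = n92666 := rfl
def n92667 : Q := act 5 n43347
theorem D92667 : act 5 n43347 = n92667 := rfl
theorem F142799 : act 2 n92667 = n43348 := d2_1 D92667 (iv5 D43348) D43347
def n92668 : Q := act 0 n43348
theorem D92668 : act 0 n43348 = n92668 := rfl
def n92669 : Q := act 1 n43348
theorem D92669 : act 1 n43348 = n92669 := rfl
def n92670 : Q := act 4 n43348
theorem D92670 : act 4 n43348 = n92670 := rfl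
theorem F142801 : act 3 n92670 = n92096 := d5_1 D92670 (iv4 D92096) F67397 F32759 (iv3 F68062)
def n92671 : Q := act 6 n43348
theorem D92671 : act 6 n43348 = n92671 := rfl
theorem F142802 : act 3 n92671 = n43349 := d7_1 D92671 (iv6 D43349) (iv3 F68062)
def n92672 : Q := act 0 n43349
theorem D92672 : act 0 n43349 = n92672 := rfl
def n92673 : Q := act 1 n43349
theorem D92673 : act 1 n43349 = n92673 := rfl
theorem F142803 : act 1 n92673 = n43642 := d15_1 D92673 (iv7 D43642) (iv2 F68063)
def n92674 : Q := act 7 n43349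
theorem D92674 : act 7 n43349 = n92674 := rfl
theorem F142804 : act 2 n92674 = n43642 := d4_1 D92674 (iv7 D43642) (iv2 F68063)
theorem F142805 : act 1 n43642 = n92672 := d15_0 (iv0 D92672) D92674 F142804
theorem F142806 : act 1 n43641 = n92674 := d15_1 D43641 (iv7 D92674) F68063
theorem F142807 : act 1 n92674 = n43640 := d15_0 (iv0 D43640) D43642 (iv2 F142804)
def n92675 : Q := act 6 n43350
theorem D92675 : act 6 n43350 = n92675 := rfl
theorem F142808 : act 2 n92675 = n46822 := d3_1 D92675 (iv6 D46822) (iv2 F68072)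
theorem F142809 : act 3 n92675 = n92572 := d7_1 D92675 (iv6 D92572) (iv3 F68065)
theorem F142810 : act 4 n92675 = n87961 := d10_1 D92675 (iv6 D87961) (iv4 F68064)
def n92676 : Q := act 6 n43351
theorem D92676 : act 6 n43351 = n92676 := rfl
theorem F142811 : act 2 n92676 = n46821 := d3_1 D92676 (iv6 D46821) F68070
theorem F142812 : act 3 n92676 = n46822 := d7_1 D92676 (iv6 D46822) F68073
theorem F142813 : act 4 n92676 = n47059 := d10_1 D92676 (iv6 D47059) F68068
def n92677 : Q := act 6 n43352
theorem D92677 : act 6 n43352 = n92677 := rfl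
theorem F142814 : act 2 n92677 = n43353 := d3_1 D92677 (iv6 D43353) D43352
theorem F142815 : act 3 n92677 = n43375 := d7_1 D92677 (iv6 D43375) (iv3 F68074)
theorem F142816 : act 4 n92677 = n46426 := d10_1 D92677 (iv6 D46426) (iv4 F68075)
theorem F142817 : act 0 n90732 = n92677 := d20_10 F142816 F135038 F62984 (iv3 D20538) (iv1 F32512) (iv3 F67980) F67981 (iv1 F67984) D90287 (iv3 F139663)
theorem F142818 : act 7 n90734 = n92677 := d8_0 F142815 (iv7 F142701) F142703
theorem F142819 : act 1 n90733 = n92677 := d15_1 D90733 (iv7 F142818) (iv2 D90734)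
def n92678 : Q := act 0 n43353
theorem D92678 : act 0 n43353 = n92678 := rfl
theorem F142820 : act 3 n92678 = n92579 := d20_5 D20036 F65862 (iv4 F32537) (iv3 F68084) D92678 (iv4 D92579) (iv1 F67983) F65149 F65148 (iv1 F31759)
theorem F142821 : act 1 n90734 = n92678 := d15_0 (iv0 D92678) (iv7 F68086) D90734
def n92679 : Q := act 1 n43353
theorem D92679 : act 1 n43353 = n92679 := rfl
theorem F142822 : act 1 n92679 = n90734 := d15_1 D92679 F142818 F142814
def n92680 : Q := act 5 n43353
theorem D92680 : act 5 n43353 = n92680 := rfl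
theorem F142823 : act 3 n92680 = n43354 := d6_1 D92680 (iv5 D43354) (iv3 F68084)
theorem F142824 : act 6 n92680 = n76650 := d12_2 D43353 D92680 (iv5 D76650) (iv6 D35036) (iv5 F32533)
theorem F142825 : act 7 n92680 = n90735 := d13_2 F68086 D92680 (iv5 D90735)
def n92681 : Q := act 0 n43354
theorem D92681 : act 0 n43354 = n92681 := rfl
theorem F142826 : act 5 n92681 = n89559 := d17_3 (iv1 F65692) D43354 D92681 F137290 F65123 (iv0 D19940) (iv5 D9402) D9401 D19937
theorem F142827 : act 4 n92681 = n90319 := d18_1 D92681 (iv1 F138948) F65578 F31869 F14672 F14624 D19933 (iv0 F65691) D43354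
theorem F142829 : act 1 n90325 = n92681 := d15_0 (iv0 D92681) F68088 (iv2 F138952)
def n92682 : Q := act 5 n43355
theorem D92682 : act 5 n43355 = n92682 := rfl
theorem F142831 : act 2 n92682 = n90489 := d2_1 D92682 (iv5 D90489) (iv2 F68089)
theorem F142832 : act 3 n92682 = n43356 := d6_1 D92682 (iv5 D43356) (iv3 F68090)
theorem F142833 : act 7 n92682 = n90806 := d13_2 F68093 D92682 (iv5 D90806)
def n92683 : Q := act 0 n43356
theorem D92683 : act 0 n43356 = n92683 := rfl
theorem F142834 : act 5 n92683 = n43539 := d17_3 (iv1 F62745) D43356 D92683 (iv4 D43539) (iv5 D20596) (iv0 D9760) (iv5 D4407) D4406 D9757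
theorem F142835 : act 4 n92683 = n43471 := d18_1 D92683 (iv1 F142680) F142677 F68001 F32507 F15168 D9752 (iv0 F62744) D43356
theorem F142836 : act 1 n43488 = n92683 := d15_0 (iv0 D92683) (iv7 F142695) F142693
theorem F142837 : act 2 n46832 = n92683 := d2_3 F142834 F142413 (iv5 F142417)
theorem F142838 : act 7 n43947 = n92683 := d13_0 F142834 F68423 D43947
theorem F142839 : act 7 n43471 = n92612 := d11_2 F142838 F142835 (iv4 F142672)
theorem F142840 : act 2 n92612 = n43472 := d15_3 F142679 F142680 F142839
theorem F142841 : act 2 n43471 = n92611 := d15_3 (iv0 D92611) D92612 (iv7 F142839)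
theorem F142842 : act 7 n92611 = n43472 := d4_2 (iv7 F142839) F142841 (iv2 F142840)
def n92684 : Q := act 1 n43356
theorem D92684 : act 1 n43356 = n92684 := rfl
theorem F142843 : act 1 n92684 = n43488 := d15_1 D92684 F68350 (iv2 F68095)
theorem F142844 : act 7 n92684 = n46832 := d15_2 (iv0 D92683) D92684 F142837
theorem F142845 : act 5 n92684 = n43547 := d17_7 F73952 F73948 (iv1 D46819) (iv5 D22478) (iv4 F32543) D43356 D92684 F142421 F142419
theorem F142846 : act 2 n43947 = n92684 := d2_3 F142845 F68443 D43947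
theorem F142847 : act 4 n43472 = n92684 := d18_3 (iv1 F68004) (iv4 F142677) (iv1 F142679) F142845 (iv4 D43547) (iv0 F67796) (iv4 F142301) (iv0 F142304) (iv5 D43464)
def n92685 : Q := act 4 n43356
theorem D92685 : act 4 n43356 = n92685 := rfl
theorem F142848 : act 2 n92685 = n46833 := d1_1 D92685 (iv4 D46833) (iv2 F68095)
theorem F142849 : act 0 n92685 = n92606 := d18_2 (iv1 D92684) D92685 (iv4 D92606) (iv5 F142475) F142476 F73956 F67840 (iv0 F137196) (iv5 F142845)
theorem F142850 : act 1 n92685 = n92609 := d18_6 (iv1 F32504) (iv4 F62754) (iv1 D22477) (iv4 F32543) D43356 D92685 (iv4 D92609) F67997 F32645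
def n92686 : Q := act 0 n43357
theorem D92686 : act 0 n43357 = n92686 := rfl
def n92687 : Q := act 1 n43357
theorem D92687 : act 1 n43357 = n92687 := rfl
def n92688 : Q := act 5 n43357
theorem D92688 : act 5 n43357 = n92688 := rfl
theorem F142852 : act 2 n92688 = n76517 := d2_1 D92688 (iv5 D76517) (iv2 F68096)
theorem F142853 : act 3 n92688 = n60021 := d6_1 D92688 F94505 (iv3 F68097)
theorem F142854 : act 6 n92688 = n52665 := d12_2 D43357 D92688 (iv5 D52665) (iv6 D25561) (iv5 F32544)
def n92689 : Q := act 7 n43357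
theorem D92689 : act 7 n43357 = n92689 := rfl
theorem F142855 : act 2 n92689 = n76518 := d4_1 D92689 (iv7 D76518) (iv2 F68096)
theorem F142856 : act 3 n92689 = n76509 := d8_1 D92689 (iv7 D76509) (iv3 F68097)
theorem F142857 : act 6 n92689 = n76509 := d14_1 D92689 (iv7 D76509) (iv6 D34947) F32548 D43357
theorem F142859 : act 1 n76516 = n92689 := d15_1 D76516 (iv7 D92689) F68096
theorem F142860 : act 1 n92689 = n76515 := d15_0 (iv0 D76515) D76518 (iv2 F142855)
def n92690 : Q := act 6 n43358
theorem D92690 : act 6 n43358 = n92690 := rfl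
theorem F142861 : act 2 n92690 = n76510 := d3_1 D92690 (iv6 D76510) (iv2 F68098)
theorem F142862 : act 3 n92690 = n43359 := d7_1 D92690 (iv6 D43359) D43358
theorem F142863 : act 4 n92690 = n76510 := d10_1 D92690 (iv6 D76510) (iv4 F68099)
def n92691 : Q := act 0 n43359
theorem D92691 : act 0 n43359 = n92691 := rfl
def n92692 : Q := act 1 n43359
theorem D92692 : act 1 n43359 = n92692 := rfl
theorem F142864 : act 1 n92692 = n76509 := d15_1 D92692 (iv7 D76509) (iv2 F68104)
def n92693 : Q := act 7 n43359
theorem D92693 : act 7 n43359 = n92693 := rfl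
theorem F142865 : act 2 n92693 = n76509 := d4_1 D92693 (iv7 D76509) (iv2 F68104)
theorem F142866 : act 6 n92693 = n76518 := d14_1 D92693 (iv7 D76518) (iv6 D34951) (iv7 F32549) D43359
theorem F142867 : act 1 n76509 = n92691 := d15_0 (iv0 D92691) D92693 F142865
theorem F142868 : act 1 n76508 = n92693 := d15_1 D76508 (iv7 D92693) F68104
theorem F142869 : act 1 n92693 = n76507 := d15_0 (iv0 D76507) D76509 (iv2 F142865)
def n92694 : Q := act 2 n43361
theorem D92694 : act 2 n43361 = n92694 := rfl
theorem F142870 : act 7 n43362 = n92694 := d15_2 (iv0 D43361) D43362 (iv2 D92694)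
def n92695 : Q := act 4 n43361
theorem D92695 : act 4 n43361 = n92695 := rfl
theorem F142871 : act 0 n92695 = n44527 := d20_1 D92695 F70047 F68268 (iv1 F66786) F17864 (iv4 D9138) (iv1 F35617) (iv4 F15186) (iv3 F32558) D43361
def n92696 : Q := act 5 n43361
theorem D92696 : act 5 n43361 = n92696 := rfl
theorem F142872 : act 3 n92696 = n90417 := d6_1 D92696 (iv5 D90417) (iv3 F76029)
def n92697 : Q := act 6 n43361
theorem D92697 : act 6 n43361 = n92697 := rfl
theorem F142873 : act 3 n92697 = n52660 := d7_1 D92697 (iv6 F83202) (iv3 F76029)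
theorem F142874 : act 5 n92697 = n52658 := d21_6 (iv5 F39969) (iv1 F39970) F27050 D20481 D43361 D92697 F142196 (iv5 F67731) (iv6 D43230) (iv1 F32392)
def n92698 : Q := act 7 n43361
theorem D92698 : act 7 n43361 = n92698 := rfl
theorem F142875 : act 2 n92698 = n43362 := d4_1 D92698 F142870 (iv2 D92694)
theorem F142876 : act 3 n92698 = n90418 := d8_1 D92698 (iv7 D90418) (iv3 F76029)
def n92699 : Q := act 3 n43362
theorem D92699 : act 3 n43362 = n92699 := rfl
theorem F142877 : act 2 n92699 = n90419 := d0_1 D92699 (iv3 D90419) (iv2 F139169) (iv3 F142876) F142875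
def n92700 : Q := act 4 n43362
theorem D92700 : act 4 n43362 = n92700 := rfl
theorem F142878 : act 0 n44527 = n92700 := d20_10 (iv4 D92700) (iv1 D43362) (iv4 F36070) F36069 F35640 D11034 F17900 F66772 (iv4 F33426) (iv3 F70046)
theorem F142879 : act 3 n48368 = n92700 := d20_5 (iv4 D5028) D5025 D11021 D23501 D48368 (iv4 D92700) (iv1 D43362) (iv4 F36070) F36069 F35640
theorem F142880 : act 4 n92699 = n90419 := d5_4 (iv4 F76026) F142879 (iv4 D92700) D92699 (iv3 D90419)
theorem F142881 : act 1 n44522 = n92700 := d15_0 (iv0 F142878) (iv7 D44527) (iv2 F70042)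
def n92701 : Q := act 5 n43362
theorem D92701 : act 5 n43362 = n92701 := rfl
theorem F142882 : act 6 n59834 = n92701 := d21_5 F40291 F22672 D13543 D28389 D59834 (iv5 D92701) (iv1 D43362) (iv5 F40314) (iv6 D25493) (iv1 F40289)
def n92702 : Q := act 6 n43362
theorem D92702 : act 6 n43362 = n92702 := rfl
def n92703 : Q := act 0 n43363
theorem D92703 : act 0 n43363 = n92703 := rfl
theorem F142883 : act 1 n47571 = n92703 := d15_0 (iv0 D92703) F68109 D47571
def n92704 : Q := act 1 n43363
theorem D92704 : act 1 n43363 = n92704 := rfl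
theorem F142884 : act 4 n47397 = n92704 := d20_6 F35952 (iv1 F35307) (iv4 D10765) D10764 D22771 D47397 (iv1 D92704) F68108 (iv3 D22341) D22339
theorem F142885 : act 0 n47571 = n92704 := d20_7 F73579 (iv1 F74618) (iv4 F74719) (iv3 D47519) (iv1 F73665) F73662 (iv4 F74811) (iv4 F142884) (iv3 D47397) (iv1 F73581)
def n92705 : Q := act 2 n43363
theorem D92705 : act 2 n43363 = n92705 := rfl
theorem F142886 : act 3 n92705 = n43377 := d0_2 D43363 D92705 (iv2 F68142) F62357 (iv2 F35644)
theorem F142887 : act 4 n92705 = n46622 := d1_2 (iv4 F68108) D92705 (iv2 D46622)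
theorem F142888 : act 7 n92705 = n47571 := d4_2 (iv7 F68109) D92705 (iv2 D47571)
theorem F142889 : act 1 n92705 = n47569 := d15_0 (iv0 D47569) (iv7 F68109) D92705
theorem F142890 : act 1 n47570 = n92705 := d15_1 D47570 F142888 (iv2 D47571)
def n92706 : Q := act 5 n43363
theorem D92706 : act 5 n43363 = n92706 := rfl
theorem F142891 : act 3 n92706 = n43364 := d6_1 D92706 (iv5 D43364) D43363
theorem F142892 : act 7 n92706 = n47572 := d13_2 (iv7 F68109) D92706 (iv5 D47572)
def n92707 : Q := act 1 n43364
theorem D92707 : act 1 n43364 = n92707 := rfl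
theorem F142893 : act 1 n92707 = n43366 := d15_1 D92707 F68117 (iv2 F68111)
theorem F142894 : act 7 n92707 = n47575 := d15_2 F69488 D92707 (iv2 F74820)
theorem F142895 : act 5 n92707 = n87039 := d17_7 F67709 F67697 F68974 (iv5 D22338) (iv4 F35635) D43364 D92707 F133603 F69484
theorem F142896 : act 4 n92707 = n88536 := d17_9 (iv1 F135587) (iv5 F135485) F135486 (iv5 F135543) (iv4 D88516) (iv5 D41321) (iv0 F35634) D43364 D92707
theorem F142897 : act 2 n47574 = n92707 := d1_3 F142896 (iv2 F135592) F135469
def n92708 : Q := act 4 n43364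
theorem D92708 : act 4 n43364 = n92708 := rfl
theorem F142900 : act 5 n92708 = n92464 := d16_1 D92708 (iv4 D92464) F67772 F65430 (iv5 D22868) (iv4 F35633) D43366 F68117 (iv2 F68111)
def n92709 : Q := act 6 n43364
theorem D92709 : act 6 n43364 = n92709 := rfl
def n92710 : Q := act 1 n43365
theorem D92710 : act 1 n43365 = n92710 := rfl
theorem F142905 : act 7 n92710 = n43376 := d15_2 (iv0 F68115) D92710 F68140
theorem F142906 : act 2 n43379 = n92710 := d4_3 F142905 F68140 D43379
theorem F142907 : act 3 n90415 = n92710 := d8_3 F142905 F68141 D90415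
theorem F142908 : act 6 n88514 = n92710 := d14_5 F142905 (iv6 D43376) F32578 D42347 (iv7 F135531)
theorem F142909 : act 1 n92710 = n43377 := d15_0 (iv0 D43377) D43379 F142906
def n92711 : Q := act 2 n43365
theorem D92711 : act 2 n43365 = n92711 := rfl
theorem F142910 : act 3 n92711 = n47571 := d0_2 D43365 D92711 (iv2 D47571) (iv3 D22871) (iv2 F35632)
theorem F142911 : act 4 n92711 = n87702 := d1_2 (iv4 F68113) D92711 (iv2 D87702)
theorem F142912 : act 7 n92711 = n43377 := d4_2 (iv7 F68114) D92711 (iv2 F68142)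
theorem F142913 : act 1 n92711 = n43379 := d15_0 (iv0 F68147) (iv7 F68114) D92711
theorem F142914 : act 1 n43376 = n92711 := d15_0 F142913 (iv7 D43379) (iv2 F68140)
def n92712 : Q := act 5 n43365
theorem D92712 : act 5 n43365 = n92712 := rfl
theorem F142915 : act 3 n92712 = n43366 := d6_1 D92712 (iv5 D43366) D43365
theorem F142916 : act 7 n92712 = n88197 := d13_2 (iv7 F68114) D92712 (iv5 D88197)
def n92713 : Q := act 6 n43365
theorem D92713 : act 6 n43365 = n92713 := rfl
theorem F142917 : act 3 n92713 = n43367 := d7_1 D92713 (iv6 D43367) D43365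
theorem F142918 : act 4 n92713 = n87704 := d10_1 D92713 (iv6 D87704) (iv4 F68113)
def n92714 : Q := act 4 n43366
theorem D92714 : act 4 n43366 = n92714 := rfl
theorem F142921 : act 5 n92714 = n92461 := d9_2 D43366 D92714 (iv4 D92461) (iv5 F73630) (iv4 D46618) (iv5 D22338) (iv4 F35635) D43364 D92708 F142900 (iv4 D92464) F67772 F65430 (iv5 D22868) (iv4 F35633)
theorem F142923 : act 0 n92714 = n88486 := d18_2 F69489 D92714 (iv4 D88486) (iv5 F69441) F69440 (iv0 F67709) (iv4 F69484) (iv0 D44145) D44146
theorem F142924 : act 1 n92714 = n88483 := d18_6 D19435 F63138 (iv1 F63132) (iv4 F35633) D43366 D92714 (iv4 D88483) (iv0 D41302) (iv5 D19437)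
def n92715 : Q := act 6 n43366
theorem D92715 : act 6 n43366 = n92715 := rfl
theorem F142925 : act 2 n92715 = n47577 := d3_1 D92715 (iv6 D47577) (iv2 F68116)
def n92716 : Q := act 5 n43367
theorem D92716 : act 5 n43367 = n92716 := rfl
theorem F142926 : act 2 n92716 = n43942 := d2_1 D92716 F69074 (iv2 F68118)
theorem F142927 : act 7 n92716 = n43943 := d13_2 F68121 D92716 F69077
theorem F142928 : act 0 n92716 = n43858 := d17_2 (iv1 F68947) D92716 (iv5 D43858) (iv4 D20772) (iv5 F15520) (iv0 F35611) F31098 (iv0 F35649) D20843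
theorem F142929 : act 1 n92716 = n43854 := d17_6 D19578 (iv5 F64145) F74809 (iv5 D47568) (iv4 F68119) D92716 (iv5 D43854) F65962 F31342
def n92717 : Q := act 3 n43368
theorem D92717 : act 3 n43368 = n92717 := rfl
theorem F142930 : act 7 n92717 = n90503 := d8_2 (iv7 F68127) D92717 (iv3 D90503)
def n92718 : Q := act 6 n43368
theorem D92718 : act 6 n43368 = n92718 := rfl
theorem F142931 : act 2 n92718 = n90502 := d3_1 D92718 (iv6 D90502) F68128
def n92719 : Q := act 3 n43369
theorem D92719 : act 3 n43369 = n92719 := rfl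
theorem F142932 : act 5 n92719 = n92495 := d6_2 F68124 D92719 F142390
theorem F142933 : act 7 n92719 = n90500 := d8_2 F68126 D92719 (iv3 D90500)
theorem F142934 : act 0 n92719 = n43378 := d21_7 F51580 F51579 F40425 D42178 F136300 D92495 (iv5 F142932) (iv5 D43378) (iv6 D20500) D20497
def n92720 : Q := act 6 n43369
theorem D92720 : act 6 n43369 = n92720 := rfl
theorem F142935 : act 2 n92720 = n90505 := d3_1 D92720 (iv6 D90505) (iv2 F68125)
theorem F142936 : act 5 n92720 = n92497 := d12_1 D92720 (iv6 D92497) (iv5 D43278) D43279 F68124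
def n92721 : Q := act 0 n43370
theorem D92721 : act 0 n43370 = n92721 := rfl
theorem F142937 : act 5 n92721 = n87042 := d17_3 (iv1 F138827) F138825 D92721 (iv4 D87042) (iv5 D40438) (iv0 F63213) (iv5 F69402) F69404 (iv4 F135596)
theorem F142938 : act 4 n92721 = n43412 := d18_1 D92721 (iv1 F68257) D88528 F135572 (iv4 D43869) (iv0 F63632) D88500 F138826 F138825
theorem F142939 : act 1 n88516 = n92721 := d15_0 (iv0 D92721) (iv7 F135446) (iv2 F135541)
theorem F142940 : act 2 n90506 = n92721 := d1_3 F142938 (iv2 F68258) (iv4 F139300)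
theorem F142941 : act 7 n90507 = n92721 := d11_0 F142938 (iv7 F68259) (iv4 F139304)
def n92722 : Q := act 1 n43370
theorem D92722 : act 1 n43370 = n92722 := rfl
theorem F142942 : act 1 n92722 = n88516 := d15_1 D92722 F135542 (iv2 F68129)
theorem F142943 : act 7 n92722 = n90506 := d15_2 (iv0 D92721) D92722 F142940
theorem F142944 : act 4 n92722 = n43413 := d17_9 (iv1 D43413) (iv5 D20524) (iv1 F63136) D41297 D88473 (iv5 F135485) F138826 F138825 D92722
theorem F142945 : act 2 n90507 = n92722 := d1_3 F142944 F68263 (iv4 F139304)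
theorem F142946 : act 5 n92472 = n92722 := d9_0 F142944 (iv5 F68262) (iv4 D40440) (iv5 D19111) D19110 D40438 D87042 (iv5 F142937) F142938 F68256 (iv4 D43253) (iv5 D20406) D20405 D43251 D92472
def n92723 : Q := act 3 n43370
theorem D92723 : act 3 n43370 = n92723 := rfl
def n92724 : Q := act 4 n43371
theorem D92724 : act 4 n43371 = n92724 := rfl
theorem F142947 : act 2 n92724 = n48229 := d1_1 D92724 (iv4 D48229) (iv2 F68130)
theorem F142949 : act 5 n92724 = n47663 := d17_5 (iv1 D42648) F31961 D20494 D43371 D92724 (iv0 D47663) (iv5 D22945) D22943 (iv4 F66691)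
theorem F142950 : act 0 n92724 = n46785 := d18_2 F134010 D92724 F73899 F34986 (iv4 F64233) F64385 (iv4 F64373) F69109 (iv5 F75910)
def n92726 : Q := act 4 n43373
theorem D92726 : act 4 n43373 = n92726 := rfl
theorem F142954 : act 2 n92726 = n92246 := d1_1 D92726 F141873 F127071
theorem F142958 : act 1 n92726 = n46785 := d18_6 (iv1 F16610) (iv4 F34318) (iv1 F34321) (iv4 F66643) D43373 D92726 F73899 (iv0 F34989) (iv5 D10821)
theorem F142959 : act 5 n47664 = n92726 := d17_7 F34987 (iv5 D10826) (iv1 D4935) D4936 D10830 D22945 D47664 F142958 F73899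
def n92728 : Q := act 6 n43377
theorem D92728 : act 6 n43377 = n92728 := rfl
theorem F142961 : act 2 n92728 = n88198 := d3_1 D92728 (iv6 D88198) F68142
theorem F142962 : act 4 n92728 = n88196 := d10_1 D92728 (iv6 D88196) (iv4 F68143)
theorem F142963 : act 5 n92728 = n52649 := d21_6 (iv5 F50402) (iv1 F50405) (iv5 D20499) D20500 D43377 D92728 (iv1 D52649) (iv5 F67852) (iv6 D43272) (iv1 F32454)
def n92729 : Q := act 0 n43378
theorem D92729 : act 0 n43378 = n92729 := rfl
theorem F142964 : act 2 n90500 = n92729 := d15_3 (iv0 D92729) (iv0 F142934) F142933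
def n92730 : Q := act 4 n43378
theorem D92730 : act 4 n43378 = n92730 := rfl
def n92731 : Q := act 7 n43378
theorem D92731 : act 7 n43378 = n92731 := rfl
theorem F142965 : act 3 n92731 = n43391 := d8_1 D92731 (iv7 D43391) (iv3 F68144)
theorem F142966 : act 5 n92731 = n43379 := d13_1 D92731 (iv7 D43379) D43378
def n92732 : Q := act 5 n43380
theorem D92732 : act 5 n43380 = n92732 := rfl
theorem F142967 : act 2 n92732 = n90428 := d2_1 D92732 (iv5 D90428) (iv2 F68151)
theorem F142968 : act 7 n92732 = n90427 := d13_2 (iv7 F68149) D92732 (iv5 D90427)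
theorem F142969 : act 1 n92732 = n76522 := d17_6 (iv1 D48682) D48684 F139275 (iv5 D90495) F68150 D92732 (iv5 D76522) (iv0 F76603) F76601
theorem F142970 : act 4 n92732 = n64859 := d19_2 (iv1 F68148) D92732 (iv3 D64859) (iv1 D30486) (iv5 D14470) F11188 (iv3 D3174) D3172 D7021 F11275 (iv3 F11477) (iv1 F26588) F24642 F12546 (iv3 F12525) (iv1 F12529) (iv5 F18037) (iv4 F36963) (iv3 F65309)
def n92733 : Q := act 1 n43381
theorem D92733 : act 1 n43381 = n92733 := rfl
theorem F142971 : act 1 n92733 = n76337 := d15_1 D92733 F114431 (iv2 F68152)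
theorem F142972 : act 7 n92733 = n90429 := d15_2 (iv0 F105040) D92733 (iv2 F139185)
theorem F142973 : act 5 n92733 = n48710 := d17_7 F82960 D76298 F114383 (iv5 D43410) F32614 D43381 D92733 (iv0 F76659) F51390
theorem F142974 : act 2 n52674 = n92733 := d2_3 F142973 F76656 D52674
theorem F142975 : act 3 n55992 = n92733 := d6_3 F142973 F76657 D55992
def n92734 : Q := act 5 n43382
theorem D92734 : act 5 n43382 = n92734 := rfl
theorem F142976 : act 2 n92734 = n90490 := d2_1 D92734 (iv5 D90490) (iv2 F68157)
theorem F142977 : act 3 n92734 = n43383 := d6_1 D92734 (iv5 D43383) D43382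
theorem F142978 : act 7 n92734 = n90438 := d13_2 (iv7 F68155) D92734 (iv5 D90438)
def n92735 : Q := act 6 n43382
theorem D92735 : act 6 n43382 = n92735 := rfl
theorem F142979 : act 2 n92735 = n90491 := d3_1 D92735 (iv6 D90491) (iv2 F68157)
theorem F142980 : act 3 n92735 = n43384 := d7_1 D92735 (iv6 D43384) D43382
theorem F142981 : act 4 n92735 = n47187 := d10_1 D92735 (iv6 D47187) (iv4 F68154)
theorem F142982 : act 5 n92735 = n90246 := d21_6 (iv5 F50659) (iv1 D32029) (iv5 F31815) D42347 (iv1 F135528) D92735 (iv1 D90246) (iv5 D42180) (iv6 D19908) D19905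
theorem E14715 : n90246 = n90144 := (c6_1 F142982 (iv3 D90144) (iv5 F68161) (iv3 F142980))
theorem F142983 : act 0 n90144 = n42180 := (sb E14715 (iv1 D90246))
theorem F142984 : act 5 n90144 = n92735 := (sb E14715 (iv5 F142982))
theorem F142985 : act 7 n90822 = n92735 := d13_0 (iv5 F142984) (iv7 F142424) F142423
theorem F142986 : act 1 n90491 = n88510 := d15_0 (iv0 F139798) F142985 F142979
theorem F142987 : act 2 n92506 = n90245 := d15_3 (iv0 D90245) (iv0 F142983) (iv7 F142424)
theorem F142988 : act 0 n92735 = n43521 := d20_7 (iv4 D22343) (iv1 F17326) (iv4 F35333) (iv3 F67006) F70675 (iv3 F74469) (iv4 F142981) (iv4 F74121) F74120 F62995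
def n92736 : Q := act 0 n43383
theorem D92736 : act 0 n43383 = n92736 := rfl
theorem F142989 : act 5 n92736 = n43859 := d17_3 D20502 D43383 D92736 F68957 F32944 F66493 (iv5 D10995) (iv0 F66484) (iv4 F15200)
theorem F142990 : act 1 n43386 = n92736 := d15_0 (iv0 D92736) F68159 (iv2 F68171)
theorem F142991 : act 2 n43967 = n92736 := d2_3 F142989 F68956 D43967
def n92737 : Q := act 1 n43383
theorem D92737 : act 1 n43383 = n92737 := rfl
theorem F142993 : act 1 n92737 = n43386 := d15_1 D92737 F68172 (iv2 F68158)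
theorem F142994 : act 7 n92737 = n43967 := d15_2 (iv0 D92736) D92737 F142991
theorem F142995 : act 5 n92737 = n43968 := d17_7 F137201 F137198 (iv1 F74895) (iv5 D43825) F66802 D43383 D92737 F139206 F139202
def n92738 : Q := act 4 n43383
theorem D92738 : act 4 n43383 = n92738 := rfl
theorem F142997 : act 2 n92738 = n90436 := d1_1 D92738 (iv4 D90436) (iv2 F68158)
theorem F142998 : act 7 n92738 = n90440 := d11_2 (iv7 F68159) D92738 (iv4 D90440)
def n92739 : Q := act 6 n43383
theorem D92739 : act 6 n43383 = n92739 := rfl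
theorem F142999 : act 2 n92739 = n90437 := d3_1 D92739 (iv6 D90437) (iv2 F68158)
theorem F143000 : act 5 n92739 = n90146 := d12_1 D92739 (iv6 D90146) (iv5 F68161) (iv6 D43384) D43383
def n92740 : Q := act 0 n43385
theorem D92740 : act 0 n43385 = n92740 := rfl
theorem F143001 : act 4 n92740 = n88191 := d20_2 (iv4 F68169) D92740 (iv3 D88191) (iv1 D41160) (iv3 D19359) F17365 F63107 F63106 (iv3 F74043) F74046
theorem F143002 : act 1 n90432 = n92740 := d15_0 (iv0 D92740) F68170 D90432
def n92741 : Q := act 1 n43385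
theorem D92741 : act 1 n43385 = n92741 := rfl
def n92742 : Q := act 2 n43385
theorem D92742 : act 2 n43385 = n92742 := rfl
theorem F143003 : act 3 n92742 = n88513 := d0_2 D43385 D92742 (iv2 F135525) (iv3 D42294) (iv2 F66841)
theorem F143004 : act 4 n92742 = n47634 := d1_2 (iv4 F68169) D92742 (iv2 D47634)
theorem F143005 : act 7 n92742 = n90432 := d4_2 (iv7 F68170) D92742 (iv2 D90432)
theorem F143006 : act 1 n92742 = n90430 := d15_0 (iv0 D90430) (iv7 F68170) D92742
theorem F143007 : act 1 n92741 = n90432 := d15_1 D92741 (iv7 F143005) (iv2 D92742)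
theorem F143008 : act 1 n90431 = n92742 := d15_1 D90431 F143005 (iv2 D90432)
theorem E14716 : n47634 = n46851 := (c20_7 (iv4 D19432) (iv1 F14228) D19454 D41320 D88513 (iv3 F143003) F143004 (iv1 D46851) F35060 F32612 (iv1 F63136))
theorem F143009 : act 2 n46851 = n22927 := (sb E14716 (iv2 D47634))
theorem F143010 : act 4 n46851 = n92742 := (sb E14716 (iv4 F143004))
def n92743 : Q := act 5 n43385
theorem D92743 : act 5 n43385 = n92743 := rfl
theorem F143011 : act 3 n92743 = n43386 := d6_1 D92743 (iv5 D43386) D43385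
theorem F143012 : act 7 n92743 = n90433 := d13_2 (iv7 F68170) D92743 (iv5 D90433)
def n92744 : Q := act 6 n43385
theorem D92744 : act 6 n43385 = n92744 := rfl
def n92745 : Q := act 4 n43386
theorem D92745 : act 4 n43386 = n92745 := rfl
theorem F143015 : act 2 n92745 = n90440 := d1_1 D92745 (iv4 D90440) (iv2 F68171)
theorem F143016 : act 7 n92745 = n90436 := d11_2 (iv7 F68172) D92745 (iv4 D90436)
def n92746 : Q := act 6 n43386
theorem D92746 : act 6 n43386 = n92746 := rfl
theorem F143017 : act 2 n92746 = n90441 := d3_1 D92746 (iv6 D90441) (iv2 F68171)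
def n92747 : Q := act 6 n43388
theorem D92747 : act 6 n43388 = n92747 := rfl
theorem F143018 : act 2 n92747 = n90446 := d3_1 D92747 (iv6 D90446) (iv2 F68185)
theorem F143019 : act 5 n92747 = n90761 := d12_1 D92747 (iv6 D90761) (iv5 F69468) (iv6 F69467) F69116
def n92748 : Q := act 3 n43389
theorem D92748 : act 3 n43389 = n92748 := rfl
theorem F143020 : act 5 n92748 = n92452 := d6_2 F68177 D92748 F142235
theorem F143021 : act 7 n92748 = n90443 := d8_2 F68186 D92748 (iv3 D90443)
def n92749 : Q := act 6 n43389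
theorem D92749 : act 6 n43389 = n92749 := rfl
theorem F143022 : act 2 n92749 = n90449 := d3_1 D92749 (iv6 D90449) (iv2 F68178)
theorem F143023 : act 5 n92749 = n92454 := d12_1 D92749 (iv6 D92454) (iv5 D43241) D43242 F68177
def n92750 : Q := act 0 n43390
theorem D92750 : act 0 n43390 = n92750 := rfl
theorem F143024 : act 4 n92750 = n43419 := d18_3 (iv1 D43389) D43390 D92750 (iv5 F69034) F69033 (iv0 D20844) (iv4 F32995) (iv0 F135490) F68177
theorem F143025 : act 2 n90450 = n92750 := d1_3 F143024 F68280 F139236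
theorem F143026 : act 7 n90451 = n92750 := d11_0 F143024 F68278 (iv4 F139212)
theorem F143027 : act 1 n90454 = n92750 := d18_6 (iv1 F66709) (iv4 D10994) (iv1 F66483) (iv4 F31799) (iv5 F65314) (iv4 F139213) F143024 (iv0 D43419) (iv5 D20530)
def n92751 : Q := act 1 n43390
theorem D92751 : act 1 n43390 = n92751 := rfl
theorem F143028 : act 1 n92751 = n90454 := d15_1 D92751 (iv7 D90454) (iv2 F68179)
theorem F143029 : act 7 n92751 = n90450 := d15_2 (iv0 D92750) D92751 F143025
theorem F143030 : act 4 n92751 = n43420 := d18_7 F66728 (iv4 D20513) (iv1 D9735) (iv4 F15200) D20504 D43390 D92751 F68270 F65458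
theorem F143031 : act 2 n90451 = n92751 := d1_3 F143030 F68272 (iv4 F139212)
def n92752 : Q := act 3 n43390
theorem D92752 : act 3 n43390 = n92752 := rfl
def n92753 : Q := act 5 n43390
theorem D92753 : act 5 n43390 = n92753 := rfl
theorem F143033 : act 4 n92753 = n90482 := d9_1 D92753 F139246 F65378 F31804 (iv4 F31799) (iv5 F65314) (iv4 F139213) (iv5 F140125) (iv4 D91079) (iv5 D42658) F31963 F14758 (iv4 F15200) D20504 D43390
theorem F143034 : act 7 n92753 = n90480 := d16_8 (iv4 D91079) (iv5 D42658) F31963 F14758 (iv4 F15200) D20504 D43390 D92753 (iv2 F140124)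
def n92754 : Q := act 7 n43390
theorem D92754 : act 7 n43390 = n92754 := rfl
theorem F143035 : act 2 n92754 = n90454 := d4_1 D92754 (iv7 D90454) (iv2 F68179)
theorem F143036 : act 4 n92754 = n43391 := d11_1 D92754 (iv7 D43391) D43390
theorem F143037 : act 5 n92754 = n90480 := d13_1 D92754 (iv7 F143034) (iv5 D92753)
theorem F143038 : act 1 n90451 = n92754 := d15_1 D90451 (iv7 D92754) F68179
theorem F143039 : act 1 n92754 = n90450 := d15_1 F143038 (iv7 F143029) (iv2 F143031)
theorem F143040 : act 0 n90500 = n92731 := d20_4 D43414 (iv1 F139294) (iv4 D90501) D90500 F142965 (iv4 F143036) (iv1 F143038) F139212 (iv3 F68264) (iv1 D43413)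
def n92755 : Q := act 6 n43391
theorem D92755 : act 6 n43391 = n92755 := rfl
theorem F143042 : act 5 n92755 = n88517 := d12_1 D92755 (iv6 D88517) (iv5 D41321) F35625 (iv5 F68181)
def n92756 : Q := act 5 n43392
theorem D92756 : act 5 n43392 = n92756 := rfl
theorem F143043 : act 2 n92756 = n88520 := d2_1 D92756 (iv5 D88520) (iv2 F68188)
theorem F143044 : act 3 n92756 = n43393 := d6_1 D92756 (iv5 D43393) D43392
theorem F143045 : act 7 n92756 = n90456 := d13_2 (iv7 F68190) D92756 (iv5 D90456)
def n92757 : Q := act 6 n43392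
theorem D92757 : act 6 n43392 = n92757 := rfl
theorem F143046 : act 2 n92757 = n88521 := d3_1 D92757 (iv6 D88521) (iv2 F68188)
theorem F143047 : act 3 n92757 = n43394 := d7_1 D92757 (iv6 D43394) D43392
def n92758 : Q := act 4 n43393
theorem D92758 : act 4 n43393 = n92758 := rfl
theorem F143049 : act 2 n92758 = n48312 := d1_1 D92758 (iv4 D48312) (iv2 F68191)
theorem F143050 : act 7 n92758 = n90458 := d11_2 (iv7 F68192) D92758 (iv4 D90458)
def n92759 : Q := act 6 n43393
theorem D92759 : act 6 n43393 = n92759 := rfl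
theorem F143051 : act 2 n92759 = n48313 := d3_1 D92759 (iv6 D48313) (iv2 F68191)
def n92761 : Q := act 5 n43396
theorem D92761 : act 5 n43396 = n92761 := rfl
theorem F143055 : act 2 n92761 = n46531 := d2_1 D92761 (iv5 D46531) (iv2 F68198)
theorem F143056 : act 3 n92761 = n86392 := d6_1 D92761 F132433 F75086
theorem F143057 : act 7 n92761 = n72591 := d13_2 (iv7 F68199) D92761 F109121
theorem F143058 : act 0 n92761 = n47081 := d17_2 (iv1 F68200) D92761 F74336 F64270 (iv5 F54144) F54143 F35032 F68066 F68064
theorem F143059 : act 1 n92761 = n72592 := d17_6 (iv1 D20775) F27767 F27766 (iv5 F32598) D43396 D92761 (iv5 F109124) F72744 (iv4 D43863)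
def n92762 : Q := act 6 n43396
theorem D92762 : act 6 n43396 = n92762 := rfl
theorem F143060 : act 2 n92762 = n46532 := d3_1 D92762 (iv6 D46532) (iv2 F68198)
theorem F143061 : act 4 n92762 = n43397 := d10_1 D92762 (iv6 D43397) D43396
def n92763 : Q := act 0 n43397
theorem D92763 : act 0 n43397 = n92763 := rfl
def n92764 : Q := act 1 n43397
theorem D92764 : act 1 n43397 = n92764 := rfl
def n92765 : Q := act 5 n43397
theorem D92765 : act 5 n43397 = n92765 := rfl
theorem F143063 : act 2 n92765 = n90518 := d2_1 D92765 (iv5 D90518) (iv2 F68202)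
theorem F143064 : act 3 n92765 = n90553 := d6_1 D92765 (iv5 D90553) (iv3 F68203)
theorem F143065 : act 6 n92765 = n54680 := d12_2 D43397 D92765 (iv5 F86493) (iv6 D32576) (iv5 F32598)
def n92766 : Q := act 7 n43397
theorem D92766 : act 7 n43397 = n92766 := rfl
theorem F143066 : act 2 n92766 = n90519 := d4_1 D92766 (iv7 D90519) (iv2 F68202)
theorem F143067 : act 3 n92766 = n90554 := d8_1 D92766 (iv7 D90554) (iv3 F68203)
theorem F143068 : act 6 n92766 = n90514 := d14_1 D92766 (iv7 D90514) (iv6 D42362) F32602 D43397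
theorem F143070 : act 1 n90517 = n92766 := d15_1 D90517 (iv7 D92766) F68202
theorem F143071 : act 1 n92766 = n90516 := d15_0 (iv0 D90516) D90519 (iv2 F143066)
def n92767 : Q := act 6 n43398
theorem D92767 : act 6 n43398 = n92767 := rfl
theorem F143072 : act 2 n92767 = n70285 := d3_1 D92767 (iv6 D70285) (iv2 F68204)
theorem F143073 : act 3 n92767 = n43400 := d7_1 D92767 (iv6 D43400) D43398
theorem F143074 : act 4 n92767 = n90483 := d10_1 D92767 (iv6 D90483) (iv4 F68207)
def n92768 : Q := act 5 n43399
theorem D92768 : act 5 n43399 = n92768 := rfl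
theorem F143075 : act 2 n92768 = n72591 := d2_1 D92768 F109121 (iv2 F68210)
theorem F143076 : act 3 n92768 = n45722 := d6_1 D92768 (iv5 D45722) (iv3 F68214)
theorem F143077 : act 7 n92768 = n46531 := d13_2 (iv7 F68211) D92768 (iv5 D46531)
theorem F143078 : act 4 n92768 = n70194 := d16_2 D43399 D92768 (iv5 D70194) (iv4 D32579) (iv5 D15424) D15423 (iv5 F32598) (iv7 F32602) F32604
theorem F143079 : act 0 n92768 = n72592 := d17_2 (iv1 F68212) D92768 (iv5 F109124) (iv4 D46131) (iv5 F51637) (iv0 F51635) (iv5 F32533) D43351 (iv4 F68068)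
theorem F143080 : act 1 n92768 = n47081 := d17_6 (iv1 F33091) F33089 (iv1 F55258) F55260 D43399 D92768 F74336 (iv0 F68959) (iv4 D43860)
def n92769 : Q := act 6 n43399
theorem D92769 : act 6 n43399 = n92769 := rfl
theorem F143081 : act 2 n92769 = n90510 := d3_1 D92769 (iv6 D90510) (iv2 F68210)
theorem F143082 : act 3 n92769 = n45723 := d7_1 D92769 (iv6 D45723) (iv3 F68214)
theorem F143083 : act 4 n92769 = n43400 := d10_1 D92769 (iv6 D43400) D43399
def n92770 : Q := act 0 n43400
theorem D92770 : act 0 n43400 = n92770 := rfl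
def n92771 : Q := act 1 n43400
theorem D92771 : act 1 n43400 = n92771 := rfl
theorem F143084 : act 1 n92771 = n90514 := d15_1 D92771 (iv7 D90514) (iv2 F68219)
def n92772 : Q := act 5 n43400
theorem D92772 : act 5 n43400 = n92772 := rfl
theorem F143085 : act 2 n92772 = n90513 := d2_1 D92772 (iv5 D90513) (iv2 F68219)
theorem F143086 : act 6 n92772 = n74015 := d12_2 D43400 D92772 (iv5 F114555) (iv6 D76406) F55260
def n92773 : Q := act 7 n43400
theorem D92773 : act 7 n43400 = n92773 := rfl
theorem F143087 : act 2 n92773 = n90514 := d4_1 D92773 (iv7 D90514) (iv2 F68219)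
theorem F143088 : act 6 n92773 = n90519 := d14_1 D92773 (iv7 D90519) (iv6 D42364) (iv7 F32603) D43400
theorem F143089 : act 1 n90514 = n92770 := d15_0 (iv0 D92770) D92773 F143087
theorem F143090 : act 1 n90512 = n92773 := d15_1 D90512 (iv7 D92773) F68219
theorem F143091 : act 1 n92773 = n90511 := d15_0 (iv0 D90511) D90514 (iv2 F143087)
def n92774 : Q := act 5 n43402
theorem D92774 : act 5 n43402 = n92774 := rfl
theorem F143092 : act 2 n92774 = n43407 := d2_1 D92774 (iv5 D43407) (iv2 F68227)
theorem F143093 : act 3 n92774 = n69714 := d6_1 D92774 F106078 (iv3 F68228)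
theorem F143094 : act 6 n92774 = n67902 := d12_2 D43402 D92774 F103977 (iv6 F68225) (iv5 D43401)
def n92775 : Q := act 2 n43405
theorem D92775 : act 2 n43405 = n92775 := rfl
theorem F143095 : act 7 n43406 = n92775 := d15_2 (iv0 D43405) D43406 (iv2 D92775)
def n92776 : Q := act 3 n43405
theorem D92776 : act 3 n43405 = n92776 := rfl
theorem F143096 : act 4 n92776 = n48448 := d20_6 (iv4 D10807) F63119 F15572 (iv3 F32612) D43405 D92776 (iv1 D48448) (iv4 F63613) (iv3 D41294) F31083
theorem F143097 : act 0 n43415 = n92776 := d20_10 F143096 (iv1 D48448) (iv4 F63613) (iv3 D41294) F31083 D22871 F35573 (iv1 F66885) (iv4 F65444) (iv3 F68267)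
theorem F143098 : act 0 n92776 = n43418 := d20_1 (iv4 F143096) (iv4 F70047) F70046 (iv1 F33785) D45005 F70778 (iv1 F73783) (iv4 F75421) F75420 (iv1 F76199)
theorem F143099 : act 3 n47793 = n48448 := d20_5 F66780 F66559 F29057 (iv3 F36064) D47793 (iv4 F143096) F143098 (iv4 F70047) F70046 (iv1 F33785)
def n92777 : Q := act 4 n43405
theorem D92777 : act 4 n43405 = n92777 := rfl
theorem F143100 : act 0 n88191 = n92777 := d20_1 F143001 (iv4 D92777) D92776 F143098 F68268 (iv4 F33049) F66798 (iv4 F66505) D43385 D92740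
def n92778 : Q := act 5 n43405
theorem D92778 : act 5 n43405 = n92778 := rfl
def n92779 : Q := act 7 n43405
theorem D92779 : act 7 n43405 = n92779 := rfl
theorem F143101 : act 2 n92779 = n43406 := d4_1 D92779 F143095 (iv2 D92775)
def n92780 : Q := act 3 n43406
theorem D92780 : act 3 n43406 = n92780 := rfl
def n92781 : Q := act 4 n43406
theorem D92781 : act 4 n43406 = n92781 := rfl
theorem F143102 : act 3 n45725 = n92781 := d20_5 (iv4 D9096) (iv1 F14138) (iv4 F30918) (iv3 F61944) (iv1 F72123) (iv4 D92781) (iv1 D43406) (iv4 F35060) F35059 (iv1 F63093)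
def n92782 : Q := act 5 n43406
theorem D92782 : act 5 n43406 = n92782 := rfl
def n92783 : Q := act 6 n43406
theorem D92783 : act 6 n43406 = n92783 := rfl
def n92784 : Q := act 0 n43407
theorem D92784 : act 0 n43407 = n92784 := rfl
def n92785 : Q := act 1 n43407
theorem D92785 : act 1 n43407 = n92785 := rfl
def n92786 : Q := act 4 n43407
theorem D92786 : act 4 n43407 = n92786 := rfl
def n92787 : Q := act 5 n43408
theorem D92787 : act 5 n43408 = n92787 := rfl
theorem F143103 : act 2 n92787 = n90566 := d2_1 D92787 (iv5 D90566) F83416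
theorem F143104 : act 7 n92787 = n90568 := d13_2 F83423 D92787 (iv5 D90568)
theorem F143105 : act 0 n92787 = n76344 := d17_2 D43408 D92787 (iv5 D76344) (iv4 F55325) D76522 (iv0 F114702) (iv5 D68841) (iv0 F65414) (iv4 F32614)
def n92788 : Q := act 5 n43409
theorem D92788 : act 5 n43409 = n92788 := rfl
theorem F143106 : act 2 n92788 = n90568 := d2_1 D92788 (iv5 D90568) (iv2 F83424)
theorem F143107 : act 3 n92788 = n90539 := d6_1 D92788 (iv5 D90539) (iv3 F68247)
theorem F143108 : act 7 n92788 = n90566 := d13_2 (iv7 F83422) D92788 (iv5 D90566)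
theorem F143109 : act 4 n92788 = n64255 := d16_2 F68246 D92788 (iv5 D64255) F48652 D30313 (iv4 F82951) (iv5 D52530) (iv7 F83426) F83425
theorem F143110 : act 0 n76344 = n92788 := d21_1 D76344 (iv5 D92788) (iv6 F83465) (iv1 D52821) (iv6 D25641) D25640 (iv1 F76734) F76735 D49116 F82963
theorem F143111 : act 0 n64255 = n52490 := d18_2 F143110 F143109 (iv4 D52490) (iv5 D25475) (iv4 F37384) D49088 (iv4 F114387) F114390 D76344
def n92789 : Q := act 0 n43410
theorem D92789 : act 0 n43410 = n92789 := rfl
theorem F143112 : act 5 n92789 = n69709 := d17_3 (iv1 D43409) D43410 D92789 (iv4 F106071) F106583 (iv0 D52535) (iv5 D25502) D25501 F68246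
theorem F143113 : act 6 n69710 = n88542 := d21_3 F143112 (iv1 D69709) D69710 (iv1 D88542) (iv6 D41330) (iv5 D19461) F63137 D20524 (iv6 F68249) D92789
theorem F143114 : act 2 n90569 = n92789 := d15_3 (iv0 D92789) (iv0 F114383) F139400
theorem F143115 : act 7 n92789 = n90570 := d4_2 F139400 F143114 (iv2 F139402)
theorem F143116 : act 1 n69715 = n92789 := d15_1 F114382 F143115 (iv2 F139402)
theorem F143117 : act 3 n88542 = n69712 := d7_1 F143113 (iv6 D69712) (iv3 F106072)
def n92790 : Q := act 4 n43410
theorem D92790 : act 4 n43410 = n92790 := rfl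
theorem F143119 : act 6 n92790 = n43414 := d10_2 (iv6 F68249) D92790 (iv4 D43414)
theorem F143120 : act 5 n92790 = n64353 := d16_1 D92790 (iv4 D64353) D64354 F114432 F114430 (iv4 F65473) (iv5 F106079) F106080 (iv2 F68248)
def n92791 : Q := act 7 n43410
theorem D92791 : act 7 n43410 = n92791 := rfl
theorem F143121 : act 2 n92791 = n69715 := d4_1 D92791 F106080 (iv2 F68248)
theorem F143122 : act 3 n92791 = n54108 := d8_1 D92791 F85413 F76628
theorem F143123 : act 5 n92791 = n43411 := d13_1 D92791 (iv7 D43411) D43410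
theorem F143124 : act 1 n90570 = n92791 := d15_1 D90570 (iv7 D92791) F68248
theorem F143125 : act 1 n92791 = n90569 := d15_1 F143124 (iv7 F139400) F139402
def n92792 : Q := act 3 n43412
theorem D92792 : act 3 n43412 = n92792 := rfl
theorem F143126 : act 2 n92792 = n90542 := d0_1 D92792 (iv3 D90542) (iv2 F68280) (iv3 F68279) F68258
theorem F143127 : act 5 n92792 = n92475 := d6_2 (iv5 F68256) D92792 (iv3 D92475)
theorem F143128 : act 7 n92792 = n90573 := d8_2 F68259 D92792 (iv3 D90573)
def n92793 : Q := act 6 n43412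
theorem D92793 : act 6 n43412 = n92793 := rfl
theorem F143129 : act 2 n92793 = n90572 := d3_1 D92793 (iv6 D90572) F68258
def n92794 : Q := act 6 n43413
theorem D92794 : act 6 n43413 = n92794 := rfl
theorem F143130 : act 2 n92794 = n90574 := d3_1 D92794 (iv6 D90574) (iv2 F68263)
theorem F143131 : act 3 n92794 = n90544 := d7_1 D92794 (iv6 D90544) (iv3 F68264)
theorem F143132 : act 5 n92794 = n89759 := d12_1 D92794 (iv6 D89759) (iv5 D41927) (iv6 F61528) F68262
def n92795 : Q := act 3 n43414
theorem D92795 : act 3 n43414 = n92795 := rfl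
theorem F143133 : act 7 n92795 = n78916 := d8_2 F135465 D92795 F135467
theorem F143134 : act 5 n78917 = n92795 := d13_3 F143133 (iv5 D78916) D78917
def n92796 : Q := act 5 n43414
theorem D92796 : act 5 n43414 = n92796 := rfl
theorem F143135 : act 2 n92796 = n90578 := d2_1 D92796 (iv5 D90578) (iv2 F68265)
theorem F143136 : act 3 n92796 = n78917 := d6_1 D92796 F143134 (iv3 D92795)
theorem F143137 : act 4 n92796 = n44066 := d9_1 D92796 F69402 F63215 F35825 F34857 D41326 D88528 F135572 (iv4 D43869) (iv5 D20779) F15527 (iv5 F17015) F15572 D20524 D43414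
theorem F143138 : act 7 n92796 = n44065 := d13_2 F135465 D92796 (iv5 F135466)
theorem F143140 : act 1 n92796 = n90254 := d17_6 (iv1 D41328) (iv5 D19461) F63137 D20524 D43414 D92796 F138820 (iv0 F135583) (iv4 D88534)
theorem F143141 : act 0 n76459 = n52947 := d20_7 D90254 (iv1 F143140) F143137 F69401 (iv1 F55140) D34928 D76459 F83667 F65110 D42186
def n92797 : Q := act 1 n43415
theorem D92797 : act 1 n43415 = n92797 := rfl
theorem F143142 : act 1 n92797 = n43418 := d15_1 D92797 (iv7 D43418) (iv2 F68266)
theorem F143143 : act 4 n48447 = n92797 := d20_0 (iv1 D92797) (iv4 F70043) (iv3 F70750) F74041 (iv3 F63146) F63147 (iv1 F35312) F35314 D23612 D48447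
def n92798 : Q := act 7 n43415
theorem D92798 : act 7 n43415 = n92798 := rfl
theorem F143144 : act 2 n92798 = n43418 := d4_1 D92798 (iv7 D43418) (iv2 F68266)
theorem F143145 : act 3 n92798 = n90522 := d8_1 D92798 (iv7 D90522) (iv3 F68267)
theorem F143146 : act 6 n92798 = n88526 := d14_1 D92798 F135561 (iv6 D42389) (iv7 F32623) D43415
theorem F143147 : act 1 n43417 = n92798 := d15_1 D43417 (iv7 D92798) F68266
theorem F143148 : act 4 n43417 = n47804 := d20_0 (iv1 D47804) F36070 F32558 D20482 D43363 F68108 D46621 (iv4 F139321) (iv3 F143145) (iv1 F143147)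
theorem F143149 : act 3 n88476 = n43417 := d20_5 F35635 F63129 (iv4 F63138) D41300 D88476 F143148 (iv1 D47804) F36070 F32558 D20482
theorem F143150 : act 1 n92798 = n43416 := d15_0 (iv0 D43416) D43418 (iv2 F143144)
def n92799 : Q := act 2 n43416
theorem D92799 : act 2 n43416 = n92799 := rfl
theorem F143151 : act 7 n43417 = n92799 := d15_2 (iv0 D43416) D43417 (iv2 D92799)
def n92800 : Q := act 3 n43416
theorem D92800 : act 3 n43416 = n92800 := rfl
def n92801 : Q := act 5 n43416
theorem D92801 : act 5 n43416 = n92801 := rfl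
def n92802 : Q := act 6 n43416
theorem D92802 : act 6 n43416 = n92802 := rfl
def n92803 : Q := act 7 n43416
theorem D92803 : act 7 n43416 = n92803 := rfl
theorem F143152 : act 2 n92803 = n43417 := d4_1 D92803 F143151 (iv2 D92799)
def n92804 : Q := act 5 n43417
theorem D92804 : act 5 n43417 = n92804 := rfl
def n92805 : Q := act 6 n43417
theorem D92805 : act 6 n43417 = n92805 := rfl
def n92806 : Q := act 6 n43419
theorem D92806 : act 6 n43419 = n92806 := rfl
theorem F143153 : act 2 n92806 = n90543 := d3_1 D92806 (iv6 D90543) (iv2 F68280)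
theorem F143154 : act 3 n92806 = n90572 := d7_1 D92806 (iv6 D90572) F68279
theorem F143155 : act 5 n92806 = n90634 := d12_1 D92806 (iv6 D90634) (iv5 F69434) (iv6 F69432) F69034
def n92807 : Q := act 3 n43420
theorem D92807 : act 3 n43420 = n92807 := rfl
theorem F143156 : act 2 n92807 = n90573 := d0_1 D92807 (iv3 D90573) (iv2 F68263) F68264 (iv2 F68272)
theorem F143157 : act 5 n92807 = n92471 := d6_2 F68271 D92807 F142287
theorem F143158 : act 7 n92807 = n90542 := d8_2 F68281 D92807 (iv3 D90542)
def n92808 : Q := act 6 n43420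
theorem D92808 : act 6 n43420 = n92808 := rfl
theorem F143159 : act 2 n92808 = n90544 := d3_1 D92808 (iv6 D90544) (iv2 F68272)
theorem F143160 : act 5 n92808 = n92473 := d12_1 D92808 (iv6 D92473) (iv5 D43251) D43252 F68271
def n92809 : Q := act 3 n43421
theorem D92809 : act 3 n43421 = n92809 := rfl
theorem F143161 : act 6 n92809 = n64726 := d7_2 F83014 D92809 F106585
def n92810 : Q := act 5 n43421
theorem D92810 : act 5 n43421 = n92810 := rfl
theorem F143162 : act 2 n92810 = n90548 := d2_1 D92810 (iv5 D90548) (iv2 F68273)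
def n92811 : Q := act 7 n43421
theorem D92811 : act 7 n43421 = n92811 := rfl
theorem F143163 : act 2 n92811 = n90549 := d4_1 D92811 (iv7 D90549) (iv2 F68273)
theorem F143164 : act 4 n92811 = n43422 := d11_1 D92811 (iv7 D43422) D43421
theorem F143165 : act 1 n90546 = n92811 := d15_1 D90546 (iv7 D92811) F68273
theorem F143166 : act 1 n92811 = n90545 := d15_1 F143165 F139364 F139360
def n92812 : Q := act 6 n43422
theorem D92812 : act 6 n43422 = n92812 := rfl
theorem F143167 : act 2 n92812 = n90550 := d3_1 D92812 (iv6 D90550) (iv2 F68274)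
theorem F143168 : act 5 n92812 = n88529 := d12_1 D92812 (iv6 D88529) (iv5 D41326) F63161 (iv5 F68275)
def n92813 : Q := act 5 n43423
theorem D92813 : act 5 n43423 = n92813 := rfl
theorem F143169 : act 2 n92813 = n76301 := d2_1 D92813 (iv5 D76301) (iv2 F106570)
theorem F143170 : act 3 n92813 = n70164 := d6_1 D92813 F106610 (iv3 F87464)
theorem F143171 : act 7 n92813 = n76296 := d13_2 F106568 D92813 (iv5 D76296)
theorem F143172 : act 0 n92813 = n70564 := d17_2 (iv1 F68283) D92813 F107028 F76753 D49055 (iv0 F77437) (iv5 D35910) F40455 (iv4 F51465)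
theorem F143173 : act 1 n92813 = n54770 := d17_6 (iv1 D23765) D23766 D48731 F76733 F68284 D92813 (iv5 D54770) (iv0 F42384) F40535
theorem F143174 : act 0 n61284 = n43891 := d21_1 D61284 F69010 (iv6 F33126) (iv1 F68986) F68991 D54770 (iv1 F143173) (iv5 D92813) (iv6 F114363) (iv1 D61282)
def n92814 : Q := act 5 n43427
theorem D92814 : act 5 n43427 = n92814 := rfl
def n92815 : Q := act 0 n43428
theorem D92815 : act 0 n43428 = n92815 := rfl
theorem F143175 : act 5 n92815 = n52534 := d21_2 D43428 D92815 (iv6 D52534) (iv1 D25501) (iv6 F27048) (iv5 D9741) (iv1 D4402) D4403 D9745 D20533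
theorem F143176 : act 1 n43433 = n92815 := d15_0 (iv0 D92815) (iv7 F139456) F139454
theorem F143177 : act 7 n52817 = n92815 := d13_0 F143175 F82954 D52817
def n92816 : Q := act 1 n43428
theorem D92816 : act 1 n43428 = n92816 := rfl
theorem F143178 : act 1 n92816 = n43433 := d15_1 D92816 (iv7 F114197) F114195
theorem F143179 : act 5 n48728 = n92816 := d21_0 (iv1 D92816) (iv5 D43428) D43429 F95757 F114363 D92813 F143172 F107028 (iv6 F76756) F76726
theorem F143180 : act 2 n92816 = n52817 := d2_1 F143179 (iv5 D52817) (iv2 F83431)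
theorem F143181 : act 3 n92816 = n52838 := d6_1 F143179 (iv5 D52838) (iv3 F76725)
def n92817 : Q := act 4 n43428
theorem D92817 : act 4 n43428 = n92817 := rfl
def n92818 : Q := act 6 n43428
theorem D92818 : act 6 n43428 = n92818 := rfl
def n92819 : Q := act 5 n43429
theorem D92819 : act 5 n43429 = n92819 := rfl
theorem F143182 : act 2 n92819 = n43889 := d2_1 D92819 (iv5 F83010) (iv2 F83007)
theorem F143183 : act 3 n92819 = n49687 := d6_1 D92819 (iv5 D49687) (iv3 F83008)
theorem F143184 : act 7 n92819 = n43888 := d13_2 F95760 D92819 F95765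
theorem F143185 : act 0 n92819 = n43843 := d17_2 (iv1 F95754) D92819 (iv5 D43843) F32919 D20935 D44073 F82966 D49297 (iv4 F95753)
theorem F143186 : act 0 n43891 = n92819 := d21_1 (iv5 F69010) (iv5 D92819) (iv6 D43429) (iv1 F65499) F65496 (iv5 F138891) (iv1 F138892) (iv5 F65506) (iv6 F47672) (iv1 F65522)
def n92820 : Q := act 4 n43433
theorem D92820 : act 4 n43433 = n92820 := rfl
def n92821 : Q := act 6 n43433
theorem D92821 : act 6 n43433 = n92821 := rfl
theorem F143187 : act 3 n92821 = n53092 := d7_1 D92821 (iv6 D53092) (iv3 F83013)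
def n92822 : Q := act 4 n43435
theorem D92822 : act 4 n43435 = n92822 := rfl
def n92823 : Q := act 6 n43435
theorem D92823 : act 6 n43435 = n92823 := rfl
def n92824 : Q := act 4 n43436
theorem D92824 : act 4 n43436 = n92824 := rfl
def n92825 : Q := act 6 n43436
theorem D92825 : act 6 n43436 = n92825 := rfl
theorem F143188 : act 3 n92825 = n76222 := d7_1 D92825 (iv6 D76222) (iv3 F68291)
def n92826 : Q := act 1 n43437
theorem D92826 : act 1 n43437 = n92826 := rfl
def n92827 : Q := act 7 n43437
theorem D92827 : act 7 n43437 = n92827 := rfl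
theorem F143189 : act 3 n92827 = n72646 := d8_1 D92827 (iv7 F110053) (iv3 F110056)
theorem F143190 : act 4 n92827 = n43438 := d11_1 D92827 (iv7 D43438) D43437
theorem F143191 : act 5 n92827 = n72645 := d13_1 D92827 (iv7 F110051) F110057
def n92828 : Q := act 6 n43438
theorem D92828 : act 6 n43438 = n92828 := rfl
theorem F143192 : act 3 n92828 = n90605 := d7_1 D92828 (iv6 D90605) (iv3 F68293)
theorem F143193 : act 5 n92828 = n90605 := d12_1 D92828 (iv6 D90605) F65527 (iv6 F32640) (iv5 F68294)
theorem F143194 : act 7 n92828 = n43476 := d14_2 D43438 D92828 (iv6 D43476) (iv7 D20550) (iv6 F32638)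
def n92829 : Q := act 2 n43439
theorem D92829 : act 2 n43439 = n92829 := rfl
theorem F143195 : act 7 n43440 = n92829 := d15_2 (iv0 D43439) D43440 (iv2 D92829)
def n92830 : Q := act 4 n43439
theorem D92830 : act 4 n43439 = n92830 := rfl
def n92831 : Q := act 5 n43439
theorem D92831 : act 5 n43439 = n92831 := rfl
theorem F143196 : act 3 n92831 = n90651 := d6_1 D92831 (iv5 D90651) (iv3 F138903)
def n92832 : Q := act 6 n43439
theorem D92832 : act 6 n43439 = n92832 := rfl
def n92833 : Q := act 7 n43439
theorem D92833 : act 7 n43439 = n92833 := rfl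
theorem F143198 : act 2 n92833 = n43440 := d4_1 D92833 F143195 (iv2 D92829)
theorem F143199 : act 3 n92833 = n90645 := d8_1 D92833 (iv7 F139558) (iv3 F138903)
def n92834 : Q := act 3 n43440
theorem D92834 : act 3 n43440 = n92834 := rfl
theorem F143200 : act 2 n92834 = n90646 := d0_1 D92834 (iv3 D90646) D90645 (iv3 F143199) F143198
theorem F143201 : act 4 n90789 = n92834 := d20_2 (iv4 F65997) D90789 (iv3 D92834) (iv1 D43440) (iv3 D20538) F62781 (iv1 F35029) F68012 F68014 (iv1 D42528)
theorem F143202 : act 2 n46742 = n90789 := d1_3 F143201 F143200 F139559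
theorem F143203 : act 7 n90790 = n46742 := d15_2 (iv0 D90789) D90790 F143202
theorem F143204 : act 7 n46741 = n90789 := d15_2 F139732 F139730 (iv2 F143202)
theorem F143205 : act 2 n90790 = n46741 := d4_3 F143204 (iv2 F143202) (iv7 F143203)
def n92835 : Q := act 4 n43440
theorem D92835 : act 4 n43440 = n92835 := rfl
theorem F143206 : act 3 n46774 = n92835 := d20_5 (iv4 D20647) F62491 D19322 D41048 (iv1 F73887) (iv4 D92835) (iv1 D43440) (iv4 F62984) (iv3 D41012) (iv1 F62504)
def n92838 : Q := act 5 n43441
theorem D92838 : act 5 n43441 = n92838 := rfl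
theorem F143207 : act 2 n92838 = n43442 := d2_1 D92838 (iv5 D43442) D43441
def n92839 : Q := act 6 n43441
theorem D92839 : act 6 n43441 = n92839 := rfl
theorem F143208 : act 2 n92839 = n43443 := d3_1 D92839 (iv6 D43443) D43441
def n92840 : Q := act 0 n43442
theorem D92840 : act 0 n43442 = n92840 := rfl
def n92841 : Q := act 1 n43442
theorem D92841 : act 1 n43442 = n92841 := rfl
def n92842 : Q := act 4 n43442
theorem D92842 : act 4 n43442 = n92842 := rfl
def n92843 : Q := act 6 n43442
theorem D92843 : act 6 n43442 = n92843 := rfl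
theorem F143209 : act 3 n92843 = n43447 := d7_1 D92843 (iv6 D43447) (iv3 F68295)
def n92844 : Q := act 0 n43443
theorem D92844 : act 0 n43443 = n92844 := rfl
def n92845 : Q := act 1 n43443
theorem D92845 : act 1 n43443 = n92845 := rfl
def n92846 : Q := act 5 n43443
theorem D92846 : act 5 n43443 = n92846 := rfl
theorem F143210 : act 3 n92846 = n43450 := d6_1 D92846 (iv5 D43450) (iv3 F68296)
theorem F143211 : act 7 n44095 = n92846 := d8_0 F143210 F68310 D44095
def n92847 : Q := act 7 n43443
theorem D92847 : act 7 n43443 = n92847 := rfl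
theorem F143212 : act 3 n92847 = n43451 := d8_1 D92847 (iv7 D43451) (iv3 F68296)
theorem F143213 : act 5 n92847 = n44095 := d13_1 D92847 F143211 (iv5 D92846)
theorem F143214 : act 6 n92847 = n88503 := d14_1 D92847 F135492 F135475 F67994 D43443
def n92848 : Q := act 3 n43444
theorem D92848 : act 3 n43444 = n92848 := rfl
theorem F143215 : act 2 n92848 = n90630 := d0_1 D92848 (iv3 D90630) (iv2 F133615) (iv3 F137767) F137766
theorem F143216 : act 5 n92848 = n92519 := d6_2 (iv5 F68297) D92848 F142470
def n92849 : Q := act 4 n43444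
theorem D92849 : act 4 n43444 = n92849 := rfl
theorem F143217 : act 0 n92849 = n43522 := d18_2 D43444 D92849 (iv4 D43522) (iv5 D20587) (iv4 D9757) F15167 (iv4 F32507) F32512 D20540
theorem F143218 : act 1 n92849 = n43496 := d18_6 (iv1 D43946) F32977 (iv1 F35653) (iv4 F67899) (iv5 F68297) D92849 (iv4 D43496) D43495 (iv5 F69487)
def n92850 : Q := act 6 n43444
theorem D92850 : act 6 n43444 = n92850 := rfl
theorem F143219 : act 5 n92850 = n92521 := d12_1 D92850 (iv6 D92521) (iv5 D43288) D43289 (iv5 F68297)
def n92851 : Q := act 4 n43445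
theorem D92851 : act 4 n43445 = n92851 := rfl
theorem F143220 : act 0 n92851 = n43496 := d18_2 (iv1 F68299) D92851 (iv4 D43496) (iv5 D20567) (iv4 D9752) (iv0 D4405) (iv4 F6340) D9747 D20545
theorem F143221 : act 1 n92851 = n43522 := d18_6 D92504 F142411 (iv1 F67905) (iv4 F69026) (iv5 F69028) D92851 (iv4 D43522) F68354 F68353
def n92852 : Q := act 6 n43445
theorem D92852 : act 6 n43445 = n92852 := rfl
theorem F143222 : act 3 n92852 = n90634 := d7_1 D92852 (iv6 D90634) F69435
theorem F143223 : act 5 n92852 = n90572 := d12_1 D92852 (iv6 D90572) F65475 F69027 (iv5 F69028)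
def n92853 : Q := act 0 n43446
theorem D92853 : act 0 n43446 = n92853 := rfl
theorem F143224 : act 4 n92853 = n90139 := d18_3 (iv1 D43445) D43446 D92853 (iv5 D90139) (iv4 F67840) F73954 F65918 D43902 (iv5 F69028)
theorem F143225 : act 3 n90139 = n90810 := d20_3 D43446 D92853 F143224 (iv1 D90810) F66007 D42532 (iv1 F139547) (iv4 D90633) F69435 (iv1 D43445)
theorem F143226 : act 1 n43458 = n92853 := d15_0 (iv0 D92853) (iv7 F142657) F142656
theorem F143227 : act 5 n90810 = n90136 := d6_2 D90139 F143225 F138585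
theorem F143228 : act 5 n90813 = n92491 := d21_0 (iv1 F142383) F142250 (iv6 F142251) (iv1 D90133) D90136 (iv5 F143227) (iv1 D90810) (iv5 D42530) D42531 D90813
theorem F143229 : act 7 n92728 = n90813 := d13_0 F143228 F142459 (iv5 F142963)
def n92854 : Q := act 1 n43446
theorem D92854 : act 1 n43446 = n92854 := rfl
theorem F143230 : act 1 n92854 = n43458 := d15_1 D92854 (iv7 F142640) F142639
theorem F143231 : act 4 n92854 = n92624 := d18_7 F63000 F17225 D10682 (iv4 F62781) D20540 D43446 D92854 F142714 (iv5 D43335)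
def n92855 : Q := act 3 n43446
theorem D92855 : act 3 n43446 = n92855 := rfl
def n92856 : Q := act 5 n43446
theorem D92856 : act 5 n43446 = n92856 := rfl
theorem F143232 : act 4 n92856 = n43560 := d16_2 D43446 D92856 F74011 (iv4 D46841) (iv5 D22498) F62793 D20545 (iv7 F67989) F67988
def n92857 : Q := act 6 n43446
theorem D92857 : act 6 n43446 = n92857 := rfl
theorem F143233 : act 4 n92857 = n43447 := d10_1 D92857 (iv6 D43447) D43446
def n92858 : Q := act 0 n43447
theorem D92858 : act 0 n43447 = n92858 := rfl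
def n92859 : Q := act 1 n43447
theorem D92859 : act 1 n43447 = n92859 := rfl
def n92860 : Q := act 5 n43447
theorem D92860 : act 5 n43447 = n92860 := rfl
theorem F143234 : act 2 n92860 = n44100 := d2_1 D92860 (iv5 F142642) F142641
theorem F143235 : act 6 n92860 = n43450 := d12_2 D43447 D92860 (iv5 D43450) (iv6 D20541) D20540
def n92861 : Q := act 7 n43447
theorem D92861 : act 7 n43447 = n92861 := rfl
def n92862 : Q := act 4 n43450
theorem D92862 : act 4 n43450 = n92862 := rfl
theorem F143236 : act 2 n92862 = n44099 := d1_1 D92862 (iv4 D44099) (iv2 F68300)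
theorem F143237 : act 7 n92862 = n44096 := d11_2 (iv7 F68310) D92862 (iv4 D44096)
def n92863 : Q := act 2 n43452
theorem D92863 : act 2 n43452 = n92863 := rfl
theorem F143239 : act 7 n43453 = n92863 := d15_2 (iv0 D43452) D43453 (iv2 D92863)
theorem F143240 : act 3 n92863 = n90611 := d8_1 F143239 (iv7 D90611) (iv3 F139640)
def n92864 : Q := act 3 n43452
theorem D92864 : act 3 n43452 = n92864 := rfl
theorem F143241 : act 2 n92864 = n90612 := d0_1 D92864 (iv3 D90612) (iv2 F139501) (iv3 F143240) (iv2 D92863)
theorem F143242 : act 0 n92864 = n90281 := d20_10 F138868 (iv1 F134958) F68392 (iv3 F68391) (iv1 F65198) D42236 F65227 D47838 (iv4 F139638) D92864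
def n92866 : Q := act 6 n43452
theorem D92866 : act 6 n43452 = n92866 := rfl
def n92867 : Q := act 7 n43452
theorem D92867 : act 7 n43452 = n92867 := rfl
def n92868 : Q := act 5 n43453
theorem D92868 : act 5 n43453 = n92868 := rfl
theorem F143244 : act 3 n92868 = n90609 := d6_1 D92868 (iv5 D90609) (iv3 F139640)
def n92869 : Q := act 6 n43453
theorem D92869 : act 6 n43453 = n92869 := rfl
def n92870 : Q := act 4 n43454
theorem D92870 : act 4 n43454 = n92870 := rfl
theorem F143246 : act 2 n92870 = n43455 := d1_1 D92870 (iv4 D43455) D43454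
theorem F143247 : act 7 n92870 = n48084 := d11_2 F142626 D92870 (iv4 F142625)
theorem F143248 : act 3 n92870 = n46998 := d20_3 (iv4 F142622) (iv1 F142623) D92870 (iv1 D46998) F35139 F33417 F66016 D20052 D42476 D90722
theorem F143249 : act 0 n48082 = n92870 := d20_1 (iv4 F139007) (iv4 D92870) (iv3 F142649) (iv1 F142653) D92834 (iv4 F143201) (iv1 F139726) (iv4 F138960) F138959 (iv1 F139013)
theorem E14717 : n48103 = n46998 := ((c0_1 F143248 (iv2 D48103) (iv3 D23226) (iv2 F62798) (iv3 F68311) (iv2 F143246))).symm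
theorem F143250 : act 2 n46998 = n23226 := (sb E14717 (iv2 D48103))
theorem F143251 : act 4 n46998 = n87912 := (sb E14717 (iv4 F134908))
theorem F143253 : act 1 n90739 = n48084 := d15_1 (iv0 F139670) (iv7 F143247) F143246
def n92871 : Q := act 5 n43454
theorem D92871 : act 5 n43454 = n92871 := rfl
theorem F143254 : act 2 n92871 = n43456 := d2_1 D92871 (iv5 D43456) D43454
def n92872 : Q := act 6 n43454
theorem D92872 : act 6 n43454 = n92872 := rfl
theorem F143255 : act 2 n92872 = n43457 := d3_1 D92872 (iv6 D43457) D43454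
def n92873 : Q := act 5 n43455
theorem D92873 : act 5 n43455 = n92873 := rfl
theorem F143256 : act 3 n92873 = n47996 := d6_1 D92873 (iv5 D47996) (iv3 F68311)
theorem F143257 : act 7 n92873 = n48085 := d13_2 (iv7 F68312) D92873 (iv5 D48085)
def n92874 : Q := act 0 n43456
theorem D92874 : act 0 n43456 = n92874 := rfl
def n92875 : Q := act 1 n43456
theorem D92875 : act 1 n43456 = n92875 := rfl
def n92876 : Q := act 4 n43456
theorem D92876 : act 4 n43456 = n92876 := rfl
def n92877 : Q := act 6 n43456
theorem D92877 : act 6 n43456 = n92877 := rfl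
theorem F143258 : act 3 n92877 = n43459 := d7_1 D92877 (iv6 D43459) (iv3 F68313)
def n92878 : Q := act 0 n43457
theorem D92878 : act 0 n43457 = n92878 := rfl
def n92879 : Q := act 1 n43457
theorem D92879 : act 1 n43457 = n92879 := rfl
def n92880 : Q := act 5 n43457
theorem D92880 : act 5 n43457 = n92880 := rfl
theorem F143259 : act 3 n92880 = n43460 := d6_1 D92880 (iv5 D43460) (iv3 F68314)
def n92881 : Q := act 3 n43458
theorem D92881 : act 3 n43458 = n92881 := rfl
def n92882 : Q := act 5 n43458
theorem D92882 : act 5 n43458 = n92882 := rfl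
def n92883 : Q := act 6 n43458
theorem D92883 : act 6 n43458 = n92883 := rfl
theorem F143261 : act 4 n92883 = n43459 := d10_1 D92883 (iv6 D43459) D43458
def n92884 : Q := act 0 n43459
theorem D92884 : act 0 n43459 = n92884 := rfl
def n92885 : Q := act 1 n43459
theorem D92885 : act 1 n43459 = n92885 := rfl
theorem F143262 : act 6 n52817 = n92885 := d21_3 F83441 (iv1 F76762) D52817 (iv1 D92885) (iv6 D43459) (iv5 D20545) (iv1 D9747) D9748 (iv6 F32638) D43435
theorem F143263 : act 5 n92885 = n52816 := d12_1 F143262 (iv6 D52816) (iv5 D25638) D25639 D52817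
def n92886 : Q := act 5 n43459
theorem D92886 : act 5 n43459 = n92886 := rfl
theorem F143264 : act 6 n92886 = n43460 := d12_2 D43459 D92886 (iv5 D43460) (iv6 D20546) D20545
def n92887 : Q := act 7 n43459
theorem D92887 : act 7 n43459 = n92887 := rfl
def n92888 : Q := act 4 n43460
theorem D92888 : act 4 n43460 = n92888 := rfl
theorem F143265 : act 5 n92888 = n88483 := d16_1 D92888 (iv4 D88483) F69275 F69274 (iv5 F73620) F73621 (iv5 F133610) F133613 (iv2 F133595)
theorem F143266 : act 0 n92888 = n89557 := d17_0 (iv5 F139292) F139293 F135572 (iv4 D43869) (iv5 D20779) (iv0 F63171) D40438 (iv0 F68315) D92888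
theorem F143267 : act 1 n92888 = n90251 := d18_6 F65431 F65430 F63332 (iv4 F62983) D43460 D92888 (iv4 D90251) (iv0 F135516) (iv5 D88511)
def n92889 : Q := act 0 n43462
theorem D92889 : act 0 n43462 = n92889 := rfl
def n92890 : Q := act 1 n43462
theorem D92890 : act 1 n43462 = n92890 := rfl
def n92891 : Q := act 2 n43462
theorem D92891 : act 2 n43462 = n92891 := rfl
def n92892 : Q := act 4 n43462
theorem D92892 : act 4 n43462 = n92892 := rfl
def n92893 : Q := act 5 n43462
theorem D92893 : act 5 n43462 = n92893 := rfl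
theorem F143268 : act 3 n92893 = n43464 := d6_1 D92893 (iv5 D43464) D43462
theorem F143269 : act 7 n92893 = n43897 := d13_2 F142664 D92893 (iv5 F142663)
def n92894 : Q := act 6 n43462
theorem D92894 : act 6 n43462 = n92894 := rfl
theorem F143270 : act 3 n92894 = n43465 := d7_1 D92894 (iv6 D43465) D43462
def n92895 : Q := act 0 n43463
theorem D92895 : act 0 n43463 = n92895 := rfl
theorem F143271 : act 4 n92895 = n92619 := d18_3 D20547 D43463 D92895 (iv5 D92619) (iv4 F68012) F35029 (iv4 F62781) (iv0 D9746) D9748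
theorem F143272 : act 1 n43468 = n92895 := d15_0 (iv0 D92895) (iv7 F142666) F142665
theorem F143273 : act 7 n92895 = n92685 := d15_2 F73972 F143272 F142848
def n92896 : Q := act 3 n43463
theorem D92896 : act 3 n43463 = n92896 := rfl
def n92897 : Q := act 5 n43463
theorem D92897 : act 5 n43463 = n92897 := rfl
theorem F143274 : act 4 n92897 = n43552 := d16_2 D43463 D92897 (iv5 D43552) (iv4 F65904) (iv5 F65901) F68322 (iv5 D43469) (iv7 F68328) F68327
def n92898 : Q := act 6 n43463
theorem D92898 : act 6 n43463 = n92898 := rfl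
theorem F143275 : act 4 n92898 = n43465 := d10_1 D92898 (iv6 D43465) D43463
def n92899 : Q := act 0 n43465
theorem D92899 : act 0 n43465 = n92899 := rfl
def n92900 : Q := act 1 n43465
theorem D92900 : act 1 n43465 = n92900 := rfl
def n92901 : Q := act 5 n43465
theorem D92901 : act 5 n43465 = n92901 := rfl
theorem F143276 : act 6 n92901 = n48311 := d12_2 D43465 D92901 (iv5 F142296) (iv6 F142295) (iv5 D43464)
def n92902 : Q := act 7 n43465
theorem D92902 : act 7 n43465 = n92902 := rfl
def n92903 : Q := act 0 n43467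
theorem D92903 : act 0 n43467 = n92903 := rfl
def n92904 : Q := act 1 n43467
theorem D92904 : act 1 n43467 = n92904 := rfl
def n92905 : Q := act 2 n43467
theorem D92905 : act 2 n43467 = n92905 := rfl
def n92906 : Q := act 4 n43467
theorem D92906 : act 4 n43467 = n92906 := rfl
def n92907 : Q := act 5 n43467
theorem D92907 : act 5 n43467 = n92907 := rfl
theorem F143277 : act 3 n92907 = n43469 := d6_1 D92907 (iv5 D43469) D43467
theorem F143278 : act 4 n44828 = n92907 := d5_0 F143277 (iv4 F68322) F33538 (iv4 F33549) (iv3 F70409)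
theorem F143279 : act 6 n43845 = n92907 := d7_0 F143277 F68320 D43845
def n92908 : Q := act 6 n43467
theorem D92908 : act 6 n43467 = n92908 := rfl
theorem F143280 : act 3 n92908 = n43470 := d7_1 D92908 (iv6 D43470) D43467
def n92909 : Q := act 3 n43468
theorem D92909 : act 3 n43468 = n92909 := rfl
def n92910 : Q := act 5 n43468
theorem D92910 : act 5 n43468 = n92910 := rfl
theorem F143281 : act 4 n92910 = n43549 := d9_1 D92910 (iv5 D43549) F68056 D46843 F74022 (iv5 D43464) D43463 D92897 F143274 (iv5 D43552) (iv4 F65904) (iv5 F65901) F68322 (iv5 D43469) D43468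
def n92911 : Q := act 6 n43468
theorem D92911 : act 6 n43468 = n92911 := rfl
theorem F143282 : act 4 n92911 = n43470 := d10_1 D92911 (iv6 D43470) D43468
def n92912 : Q := act 0 n43470
theorem D92912 : act 0 n43470 = n92912 := rfl
def n92913 : Q := act 1 n43470
theorem D92913 : act 1 n43470 = n92913 := rfl
def n92914 : Q := act 5 n43470
theorem D92914 : act 5 n43470 = n92914 := rfl
theorem F143283 : act 2 n92914 = n43901 := d2_1 D92914 (iv5 F142668) F142667
theorem F143284 : act 6 n92914 = n43846 := d12_2 D43470 D92914 (iv5 D43846) (iv6 F68320) (iv5 D43469)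
def n92915 : Q := act 7 n43470
theorem D92915 : act 7 n43470 = n92915 := rfl
def n92916 : Q := act 3 n43471
theorem D92916 : act 3 n43471 = n92916 := rfl
def n92917 : Q := act 5 n43471
theorem D92917 : act 5 n43471 = n92917 := rfl
theorem F143285 : act 4 n92917 = n43545 := d16_2 F142835 D92917 (iv5 D43545) (iv4 D20600) D20601 D43547 (iv5 F142845) F142844 F142837
def n92918 : Q := act 6 n43471
theorem D92918 : act 6 n43471 = n92918 := rfl
def n92919 : Q := act 3 n43472
theorem D92919 : act 3 n43472 = n92919 := rfl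
def n92920 : Q := act 5 n43472
theorem D92920 : act 5 n43472 = n92920 := rfl
theorem F143286 : act 4 n92920 = n43537 := d9_1 D92920 (iv5 D43537) (iv4 D20595) D20596 D43539 (iv5 F142834) F142835 D92917 F143285 (iv5 D43545) (iv4 D20600) D20601 D43547 (iv5 F142845) (iv4 F142847)
def n92921 : Q := act 6 n43472
theorem D92921 : act 6 n43472 = n92921 := rfl
def n92922 : Q := act 0 n43473
theorem D92922 : act 0 n43473 = n92922 := rfl
def n92923 : Q := act 1 n43473
theorem D92923 : act 1 n43473 = n92923 := rfl
def n92924 : Q := act 2 n43473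
theorem D92924 : act 2 n43473 = n92924 := rfl
theorem F143287 : act 4 n92924 = n72752 := d1_2 (iv4 F68329) D92924 F109235
theorem F143288 : act 6 n92924 = n72751 := d3_2 F110058 D92924 (iv2 F110052)
def n92925 : Q := act 5 n43473
theorem D92925 : act 5 n43473 = n92925 := rfl
theorem F143289 : act 3 n92925 = n43474 := d6_1 D92925 (iv5 D43474) D43473
def n92926 : Q := act 7 n43473
theorem D92926 : act 7 n43473 = n92926 := rfl
theorem F143290 : act 3 n92926 = n43475 := d8_1 D92926 (iv7 D43475) D43473
theorem F143291 : act 4 n92926 = n90714 := d11_1 D92926 (iv7 D90714) (iv4 F68329)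
def n92927 : Q := act 0 n43474
theorem D92927 : act 0 n43474 = n92927 := rfl
theorem F143292 : act 5 n92927 = n43496 := d17_3 (iv1 D43472) D43474 D92927 (iv4 D43496) (iv5 D20567) (iv0 F62744) D43356 D92684 (iv4 F142847)
theorem F143293 : act 4 n92927 = n43527 := d18_3 (iv1 F142795) F142792 D92927 (iv5 D43527) (iv4 D20589) F32668 D43501 (iv0 F73989) F73988
theorem F143294 : act 1 n43561 = n92927 := d15_0 (iv0 D92927) F142788 F142786
def n92928 : Q := act 1 n43474
theorem D92928 : act 1 n43474 = n92928 := rfl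
theorem F143295 : act 1 n92928 = n43561 := d15_1 D92928 F142675 F142673
theorem F143296 : act 5 n92928 = n43522 := d17_7 (iv1 F68298) (iv5 D20545) (iv1 D9747) D9748 D20549 D43474 D92928 (iv0 F143217) (iv4 D92849)
theorem F143297 : act 4 n43507 = n92928 := d9_15 F143296 (iv4 D43522) (iv5 D20587) (iv4 D9757) D9758 D20589 D43527 (iv4 F143293) F143292 (iv4 D43496) (iv5 D20567) (iv4 D9752) D9753 D20572 D43507
def n92929 : Q := act 6 n43474
theorem D92929 : act 6 n43474 = n92929 := rfl
def n92930 : Q := act 6 n43475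
theorem D92930 : act 6 n43475 = n92930 := rfl
theorem F143298 : act 4 n92930 = n43476 := d10_1 D92930 (iv6 D43476) (iv4 F68330)
def n92931 : Q := act 0 n43476
theorem D92931 : act 0 n43476 = n92931 := rfl
def n92932 : Q := act 1 n43476
theorem D92932 : act 1 n43476 = n92932 := rfl
def n92933 : Q := act 0 n43477
theorem D92933 : act 0 n43477 = n92933 := rfl
theorem F143299 : act 1 n48058 = n92933 := d15_0 (iv0 D92933) F68334 D48058
theorem F143300 : act 4 n90299 = n92933 := d20_0 (iv1 F143299) (iv4 F142735) F142734 F140421 F62308 (iv4 F32367) F65640 F31760 D42210 D90299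
theorem F143301 : act 0 n47893 = n44920 := d20_4 (iv4 F143300) (iv1 F138895) D90653 (iv3 F139564) F70591 F33681 (iv1 F62632) D20560 D43477 D92933
def n92934 : Q := act 1 n43477
theorem D92934 : act 1 n43477 = n92934 := rfl
theorem F143302 : act 4 n90300 = n92934 := d20_0 (iv1 D92934) F68333 (iv3 D20566) D20564 D43487 F68347 (iv1 F74056) (iv4 F138917) F138916 (iv1 F138900)
theorem F143303 : act 3 n92599 = n90300 := d20_5 F62723 (iv1 F35023) F62754 D43320 D92599 F143302 (iv1 D92934) F68333 (iv3 D20566) D20564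
theorem F143304 : act 0 n48058 = n92934 := d20_1 F142735 (iv4 F143302) (iv3 F143303) (iv1 F142648) (iv3 F142624) F142625 (iv1 F143253) (iv4 D90739) F139572 (iv1 F142737)
def n92935 : Q := act 2 n43477
theorem D92935 : act 2 n43477 = n92935 := rfl
theorem F143305 : act 3 n92935 = n48048 := d0_2 D43477 D92935 (iv2 D48048) (iv3 D23183) (iv2 F35944)
theorem F143306 : act 4 n92935 = n43491 := d1_2 (iv4 F68333) D92935 (iv2 D43491)
theorem F143307 : act 7 n92935 = n48058 := d4_2 (iv7 F68334) D92935 (iv2 D48058)
theorem F143308 : act 1 n92935 = n48056 := d15_0 (iv0 D48056) (iv7 F68334) D92935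
theorem E14718 : n90647 = n48056 := (c20_1 D90647 (iv1 F143308) F143306 (iv3 F142706) (iv1 F142709) (iv3 F68391) F65869 (iv1 F65533) (iv4 D20036) D20035 D42438)
theorem F143309 : act 4 n48056 = n42438 := (sb E14718 (iv4 D90647))
theorem F143310 : act 1 n48057 = n92935 := d15_1 D48057 F143307 (iv2 D48058)
def n92936 : Q := act 5 n43477
theorem D92936 : act 5 n43477 = n92936 := rfl
theorem F143311 : act 3 n92936 = n43478 := d6_1 D92936 (iv5 D43478) D43477
theorem F143312 : act 7 n92936 = n48059 := d13_2 (iv7 F68334) D92936 (iv5 D48059)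
def n92937 : Q := act 6 n43477
theorem D92937 : act 6 n43477 = n92937 := rfl
theorem F143313 : act 3 n92937 = n43479 := d7_1 D92937 (iv6 D43479) D43477
theorem F143314 : act 4 n92937 = n43493 := d10_1 D92937 (iv6 D43493) (iv4 F68333)
theorem F143315 : act 5 n45475 = n92937 := d6_0 F143313 F68339 D45475
def n92938 : Q := act 1 n43478
theorem D92938 : act 1 n43478 = n92938 := rfl
theorem F143316 : act 1 n92938 = n47990 := d15_1 D92938 F75375 (iv2 F68335)
theorem F143317 : act 7 n92938 = n48051 := d15_2 F138052 D92938 (iv2 F138048)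
theorem F143318 : act 5 n92938 = n89831 := d17_7 F134871 F75632 (iv1 D43481) (iv5 D20561) D20560 D43478 D92938 (iv0 F137884) (iv4 F134870)
def n92939 : Q := act 4 n43478
theorem D92939 : act 4 n43478 = n92939 := rfl
theorem F143320 : act 2 n92939 = n48053 := d1_1 D92939 (iv4 D48053) (iv2 F68335)
theorem F143321 : act 7 n92939 = n48061 := d11_2 (iv7 F68336) D92939 (iv4 D48061)
def n92940 : Q := act 6 n43478
theorem D92940 : act 6 n43478 = n92940 := rfl
theorem F143322 : act 2 n92940 = n48054 := d3_1 D92940 (iv6 D48054) (iv2 F68335)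
theorem F143323 : act 5 n92940 = n45477 := d12_1 D92940 (iv6 D45477) (iv5 F68339) (iv6 D43479) D43478
def n92941 : Q := act 1 n43479
theorem D92941 : act 1 n43479 = n92941 := rfl
theorem F143324 : act 1 n92941 = n45473 := d15_1 D92941 F71721 (iv2 F68337)
theorem F143326 : act 4 n92941 = n45016 := d17_9 (iv1 F70807) (iv5 D21746) (iv1 D10365) (iv5 D4694) (iv4 F6790) D10352 D21695 (iv5 F68339) D92941
theorem F143327 : act 6 n48415 = n92941 := d21_3 D21664 D45401 (iv5 F76120) (iv1 D92941) (iv6 D43479) D43478 (iv1 F138052) (iv5 D89906) (iv6 D42009) F35853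
def n92943 : Q := act 1 n43482
theorem D92943 : act 1 n43482 = n92943 := rfl
theorem F143333 : act 7 n92943 = n48093 := d15_2 (iv0 F75631) D92943 (iv2 F75629)
theorem F143334 : act 4 n92943 = n45018 := d18_7 (iv1 D10905) (iv4 F17710) F32655 (iv4 D20560) D20561 D43482 D92943 (iv0 F70815) F36126
theorem F143336 : act 6 n45017 = n92943 := d10_0 F143334 (iv6 D45018) D45017
def n92948 : Q := act 0 n43487
theorem D92948 : act 0 n43487 = n92948 := rfl
theorem F143347 : act 4 n92948 = n87989 := d20_2 (iv4 F68347) D92948 (iv3 D87989) (iv1 D41078) F30975 (iv4 F17183) D22351 (iv4 F66348) F66347 F66350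
theorem F143348 : act 3 n92948 = n92583 := d20_5 (iv4 F32511) (iv1 F62737) (iv4 F62723) D43487 D92948 (iv4 D92583) (iv1 D43314) F32503 F32502 D20452
theorem F143349 : act 1 n46823 = n92948 := d15_0 (iv0 D92948) F68349 (iv2 F73963)
def n92949 : Q := act 1 n43487
theorem D92949 : act 1 n43487 = n92949 := rfl
theorem F143350 : act 4 n47089 = n92949 := d20_6 (iv4 F62953) F62951 F17257 (iv3 F17255) D22647 D47089 (iv1 D92949) F68347 F35079 (iv1 F34739)
def n92950 : Q := act 2 n43487
theorem D92950 : act 2 n43487 = n92950 := rfl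
theorem F143351 : act 3 n92950 = n90326 := d0_2 D43487 D92950 (iv2 F138955) (iv3 F68014) (iv2 F68009)
theorem F143352 : act 4 n92950 = n46858 := d1_2 (iv4 F68347) D92950 F74060
theorem F143353 : act 6 n92950 = n90734 := d3_2 (iv6 F68348) D92950 (iv2 D90734)
theorem F143354 : act 7 n92950 = n46823 := d4_2 (iv7 F68349) D92950 F73963
theorem F143355 : act 1 n92950 = n46825 := d15_0 (iv0 D46825) (iv7 F68349) D92950
theorem F143356 : act 1 n92949 = n46823 := d15_1 D92949 (iv7 F143354) (iv2 D92950)
theorem F143357 : act 1 n46826 = n92950 := d15_1 D46826 F143354 F73963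
def n92951 : Q := act 5 n43487
theorem D92951 : act 5 n43487 = n92951 := rfl
theorem F143358 : act 3 n92951 = n43488 := d6_1 D92951 (iv5 D43488) D43487
theorem F143359 : act 7 n92951 = n46827 := d13_2 (iv7 F68349) D92951 (iv5 D46827)
def n92952 : Q := act 4 n43488
theorem D92952 : act 4 n43488 = n92952 := rfl
theorem F143360 : act 2 n92952 = n92895 := d1_1 D92952 F143271 F142693
theorem F143361 : act 7 n92952 = n46833 := d11_2 (iv7 F68350) D92952 (iv4 D46833)
theorem F143362 : act 0 n92952 = n92609 := d18_2 (iv1 F142836) D92952 (iv4 D92609) (iv5 F67998) (iv4 F65918) (iv0 F73952) (iv4 F142419) F142422 (iv5 F142834)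
theorem F143363 : act 1 n92952 = n92606 := d18_6 D20452 (iv4 F32511) (iv1 F62737) (iv4 F62723) D43488 D92952 (iv4 D92606) (iv0 D43322) (iv5 D20454)
def n92953 : Q := act 6 n43488
theorem D92953 : act 6 n43488 = n92953 := rfl
theorem F143364 : act 5 n92953 = n90737 := d12_1 D92953 (iv6 D90737) (iv5 D42486) (iv6 F65973) D43488
def n92954 : Q := act 2 n43489
theorem D92954 : act 2 n43489 = n92954 := rfl
theorem F143365 : act 7 n43490 = n92954 := d15_2 (iv0 D43489) D43490 (iv2 D92954)
def n92955 : Q := act 5 n43489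
theorem D92955 : act 5 n43489 = n92955 := rfl
theorem F143366 : act 3 n92955 = n90740 := d6_1 D92955 (iv5 D90740) F139572
def n92956 : Q := act 6 n43489
theorem D92956 : act 6 n43489 = n92956 := rfl
theorem F143367 : act 3 n92956 = n90741 := d7_1 D92956 (iv6 D90741) F139572
def n92957 : Q := act 7 n43489
theorem D92957 : act 7 n43489 = n92957 := rfl
theorem F143368 : act 2 n92957 = n43490 := d4_1 D92957 F143365 (iv2 D92954)
theorem F143369 : act 3 n92957 = n90742 := d8_1 D92957 (iv7 D90742) F139572
def n92958 : Q := act 3 n43490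
theorem D92958 : act 3 n43490 = n92958 := rfl
theorem F143370 : act 2 n92958 = n90743 := d0_1 D92958 (iv3 D90743) (iv2 F139671) (iv3 F143369) F143368
theorem F143371 : act 4 n92958 = n90743 := d5_2 F139568 D92958 (iv3 D90743) D90744 (iv3 F139673)
theorem F143372 : act 0 n92958 = n92579 := d20_10 (iv4 D92579) (iv1 F67983) F65149 F65148 (iv1 F31759) D20035 D42441 D90656 F139568 D92958
theorem F143373 : act 0 n90287 = n90743 := d20_1 D90287 (iv4 F143371) (iv3 D92958) (iv1 D43490) (iv3 D20566) (iv4 D9752) (iv1 F15168) (iv4 F32507) (iv3 F67980) (iv1 F67984)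
theorem F143374 : act 0 n92583 = n92958 := d20_1 D92583 F143371 (iv3 D90743) (iv1 D42493) (iv3 D20058) (iv4 D9450) (iv1 F14626) (iv4 F31757) (iv3 F65148) (iv1 F67976)
def n92961 : Q := act 5 n43491
theorem D92961 : act 5 n43491 = n92961 := rfl
theorem F143375 : act 2 n92961 = n43492 := d2_1 D92961 (iv5 D43492) D43491
def n92962 : Q := act 6 n43491
theorem D92962 : act 6 n43491 = n92962 := rfl
theorem F143376 : act 2 n92962 = n43493 := d3_1 D92962 (iv6 D43493) D43491
def n92963 : Q := act 0 n43492
theorem D92963 : act 0 n43492 = n92963 := rfl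
def n92964 : Q := act 1 n43492
theorem D92964 : act 1 n43492 = n92964 := rfl
def n92965 : Q := act 4 n43492
theorem D92965 : act 4 n43492 = n92965 := rfl
def n92966 : Q := act 6 n43492
theorem D92966 : act 6 n43492 = n92966 := rfl
theorem F143377 : act 3 n92966 = n43497 := d7_1 D92966 (iv6 D43497) (iv3 F68351)
def n92967 : Q := act 0 n43493
theorem D92967 : act 0 n43493 = n92967 := rfl
def n92968 : Q := act 1 n43493
theorem D92968 : act 1 n43493 = n92968 := rfl
def n92969 : Q := act 5 n43493
theorem D92969 : act 5 n43493 = n92969 := rfl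
def n92970 : Q := act 7 n43493
theorem D92970 : act 7 n43493 = n92970 := rfl
theorem F143379 : act 3 n92970 = n43500 := d8_1 D92970 (iv7 D43500) (iv3 F68352)
theorem F143380 : act 6 n92970 = n88501 := d14_1 D92970 (iv7 F135507) F135506 F68029 D43493
def n92971 : Q := act 3 n43494
theorem D92971 : act 3 n43494 = n92971 := rfl
theorem F143381 : act 5 n92971 = n92502 := d6_2 (iv5 F68353) D92971 F142406
def n92972 : Q := act 4 n43494
theorem D92972 : act 4 n43494 = n92972 := rfl
theorem F143382 : act 2 n92972 = n92853 := d1_1 D92972 F143224 F138590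
theorem F143383 : act 7 n92972 = n92854 := d11_2 F142715 D92972 F143231
theorem F143384 : act 0 n92972 = n92603 := d18_2 D43494 D92972 (iv4 D92603) (iv5 D43321) (iv4 F62754) F35023 (iv4 F62723) (iv0 D20564) D20567
theorem F143385 : act 1 n92972 = n92596 := d18_6 F142303 (iv4 F68322) (iv1 F70404) (iv4 F67880) (iv5 F68353) D92972 (iv4 D92596) D92595 F142637
def n92973 : Q := act 6 n43494
theorem D92973 : act 6 n43494 = n92973 := rfl
theorem F143386 : act 5 n92973 = n52741 := d12_1 D92973 F83340 (iv5 D43281) D43282 (iv5 F68353)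
def n92974 : Q := act 3 n43495
theorem D92974 : act 3 n43495 = n92974 := rfl
theorem F143387 : act 7 n92974 = n90810 := d8_2 F138591 D92974 (iv3 F143225)
theorem F143388 : act 2 n92974 = n90809 := d15_3 (iv0 D90809) D90810 (iv7 F143387)
def n92975 : Q := act 4 n43495
theorem D92975 : act 4 n43495 = n92975 := rfl
theorem F143389 : act 2 n92975 = n92854 := d1_1 D92975 F143231 (iv2 F142717)
theorem F143390 : act 7 n92975 = n92853 := d11_2 F138591 D92975 F143224
theorem F143391 : act 0 n92975 = n92596 := d18_2 (iv1 F68355) D92975 (iv4 D92596) (iv5 D43318) (iv4 F32511) F62736 (iv4 F32543) F62745 D20587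
theorem F143392 : act 1 n92975 = n92603 := d18_6 (iv1 F68318) (iv4 F74022) (iv1 F74023) F70401 F69487 D92975 (iv4 D92603) (iv0 F137769) (iv5 D89770)
def n92976 : Q := act 6 n43495
theorem D92976 : act 6 n43495 = n92976 := rfl
theorem F143393 : act 5 n92976 = n90502 := d12_1 D92976 (iv6 D90502) (iv5 F69483) F69486 F69487
def n92977 : Q := act 3 n43496
theorem D92977 : act 3 n43496 = n92977 := rfl
def n92978 : Q := act 6 n43496
theorem D92978 : act 6 n43496 = n92978 := rfl
theorem F143394 : act 4 n92978 = n43497 := d10_1 D92978 (iv6 D43497) D43496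
def n92979 : Q := act 0 n43497
theorem D92979 : act 0 n43497 = n92979 := rfl
def n92980 : Q := act 1 n43497
theorem D92980 : act 1 n43497 = n92980 := rfl
def n92982 : Q := act 7 n43497
theorem D92982 : act 7 n43497 = n92982 := rfl
def n92983 : Q := act 3 n43498
theorem D92983 : act 3 n43498 = n92983 := rfl
theorem F143396 : act 6 n92983 = n90822 := d7_2 F68357 D92983 (iv3 D90822)
theorem F143397 : act 7 n92983 = n90439 := d8_2 (iv7 F68356) D92983 F139195
theorem F143398 : act 0 n92983 = n43969 := d20_4 (iv4 F72806) (iv1 F75544) F75546 D92983 (iv3 D43969) (iv4 D20843) F35649 (iv4 F31121) (iv3 F36591) (iv1 F69290)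
def n92984 : Q := act 4 n43499
theorem D92984 : act 4 n43499 = n92984 := rfl
theorem F143399 : act 2 n92984 = n44102 := d1_1 D92984 F138547 F138546
theorem F143400 : act 7 n92984 = n44101 := d11_2 (iv7 F138540) D92984 F138542
theorem F143401 : act 0 n92984 = n44024 := d18_2 (iv1 F138551) D92984 (iv4 D44024) (iv5 D20902) F15669 D9940 D20910 F65049 (iv5 F138550)
theorem F143402 : act 1 n92984 = n44105 := d18_6 F135481 F68302 (iv1 D20576) (iv4 F32660) D43499 D92984 F69445 F69284 F135482
def n92986 : Q := act 5 n43501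
theorem D92986 : act 5 n43501 = n92986 := rfl
def n92987 : Q := act 6 n43501
theorem D92987 : act 6 n43501 = n92987 := rfl
theorem F143407 : act 4 n92987 = n43502 := d10_1 D92987 (iv6 D43502) D43501
def n93000 : Q := act 0 n43507
theorem D93000 : act 0 n43507 = n93000 := rfl
theorem F143422 : act 5 n93000 = n43534 := d17_1 D93000 (iv1 F68416) D43545 (iv4 F143285) (iv5 D92917) (iv0 D43471) D43474 D92928 (iv4 F143297)
def n93008 : Q := act 4 n43512
theorem D93008 : act 4 n43512 = n93008 := rfl
theorem F143442 : act 2 n93008 = n43515 := d1_1 D93008 (iv4 D43515) (iv2 F68382)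
theorem F143444 : act 0 n93008 = n48152 := d18_2 (iv1 F142686) D93008 (iv4 D48152) F63002 (iv4 F64475) F74126 (iv4 F127131) (iv0 F133995) (iv5 F142683)
theorem F143445 : act 1 n93008 = n48153 := d18_6 (iv1 F17145) (iv4 F17233) (iv1 F34739) (iv4 F62953) D43512 D93008 (iv4 D48153) (iv0 F62701) (iv5 D22270)
def n93009 : Q := act 3 n43515
theorem D93009 : act 3 n43515 = n93009 := rfl
theorem F143446 : act 4 n93009 = n43526 := d5_2 D43515 D93009 (iv3 D43526) (iv4 D20589) (iv3 F32674)
def n93010 : Q := act 5 n43518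
theorem D93010 : act 5 n43518 = n93010 := rfl
theorem F143448 : act 3 n93010 = n90325 := d6_1 D93010 (iv5 D90325) F68391
theorem F143449 : act 7 n93010 = n87972 := d13_2 (iv7 F68393) D93010 (iv5 D87972)
def n93011 : Q := act 5 n43519
theorem D93011 : act 5 n43519 = n93011 := rfl
theorem F143450 : act 2 n93011 = n43520 := d2_1 D93011 (iv5 D43520) D43519
def n93012 : Q := act 6 n43519
theorem D93012 : act 6 n43519 = n93012 := rfl
theorem F143451 : act 2 n93012 = n43521 := d3_1 D93012 (iv6 D43521) D43519
theorem F143452 : act 1 n93012 = n90491 := d15_0 F142986 F135513 (iv2 F143451)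
def n93013 : Q := act 0 n43520
theorem D93013 : act 0 n43520 = n93013 := rfl
def n93014 : Q := act 1 n43520
theorem D93014 : act 1 n43520 = n93014 := rfl
theorem F143453 : act 3 n90329 = n93014 := d20_3 D42434 D90635 F139548 (iv1 D93014) F68396 D43522 (iv1 F143221) (iv4 D92851) (iv3 F69435) (iv1 D42433)
theorem F143454 : act 6 n71928 = n93014 := d21_9 (iv5 D43520) (iv1 F68395) (iv5 F108453) (iv6 D71952) (iv1 D33243) (iv6 F52468) (iv5 D33236) D33234 D71928 (iv1 D93014)
theorem F143455 : act 5 n93014 = n92458 := d12_1 F143454 (iv6 D92458) (iv5 F108436) (iv6 D71929) D71928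
theorem F143456 : act 7 n93014 = n90759 := d8_2 F138969 F143453 (iv3 D90759)
theorem F143457 : act 2 n90759 = n93013 := d15_3 (iv0 D93013) D93014 F143456
def n93015 : Q := act 4 n43520
theorem D93015 : act 4 n43520 = n93015 := rfl
def n93016 : Q := act 6 n43520
theorem D93016 : act 6 n43520 = n93016 := rfl
theorem F143458 : act 3 n93016 = n43523 := d7_1 D93016 (iv6 D43523) (iv3 F68396)
theorem F143459 : act 0 n71942 = n93016 := d21_4 (iv5 D16048) D16046 D33239 D71942 (iv6 D93016) (iv5 D43520) (iv1 F68395) (iv5 F108453) (iv6 D71952) (iv1 D33243)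
def n93017 : Q := act 0 n43521
theorem D93017 : act 0 n43521 = n93017 := rfl
theorem F143460 : act 2 n90822 = n93017 := d15_3 (iv0 D93017) (iv0 F142988) (iv7 F142985)
theorem F143461 : act 5 n93017 = n90245 := d2_2 F142423 F143460 (iv2 F142987)
theorem F143462 : act 7 n93017 = n90491 := d4_2 (iv7 F142985) F143460 (iv2 F142979)
theorem F143463 : act 1 n90822 = n93012 := d15_0 F143452 (iv7 F143462) (iv2 F143460)
def n93018 : Q := act 5 n43521
theorem D93018 : act 5 n43521 = n93018 := rfl
theorem F143464 : act 3 n93018 = n43525 := d6_1 D93018 (iv5 D43525) (iv3 F68397)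
theorem F143465 : act 0 n92494 = n93018 := d21_1 D92494 (iv5 D93018) (iv6 D43521) (iv1 F68395) (iv6 D43375) F51580 F51579 F40425 D42178 F136300
def n93019 : Q := act 3 n43522
theorem D93019 : act 3 n43522 = n93019 := rfl
def n93020 : Q := act 6 n43522
theorem D93020 : act 6 n43522 = n93020 := rfl
theorem F143466 : act 4 n93020 = n43523 := d10_1 D93020 (iv6 D43523) D43522
def n93021 : Q := act 0 n43523
theorem D93021 : act 0 n43523 = n93021 := rfl
def n93022 : Q := act 1 n43523
theorem D93022 : act 1 n43523 = n93022 := rfl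
theorem F143467 : act 6 n52745 = n93022 := d21_3 (iv5 D25607) D25605 D52745 (iv1 D93022) (iv6 D43523) (iv5 D20587) (iv1 F62745) D43356 (iv6 F83346) (iv1 D52748)
def n93023 : Q := act 5 n43523
theorem D93023 : act 5 n43523 = n93023 := rfl
theorem F143468 : act 6 n93023 = n43525 := d12_2 D43523 D93023 (iv5 D43525) (iv6 D20588) D20587
def n93024 : Q := act 7 n43523
theorem D93024 : act 7 n43523 = n93024 := rfl
def n93025 : Q := act 3 n43524
theorem D93025 : act 3 n43524 = n93025 := rfl
theorem F143469 : act 4 n93025 = n88206 := d5_2 F69229 D93025 F135143 F62378 (iv3 F69226)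
theorem F143470 : act 5 n93025 = n52648 := d6_2 (iv5 F68398) D93025 F142456
theorem F143471 : act 6 n93025 = n90768 := d7_2 F68401 D93025 (iv3 D90768)
theorem F143472 : act 7 n93025 = n88198 := d8_2 (iv7 F68400) D93025 F135137
theorem F143473 : act 0 n93025 = n90815 := d20_4 F63625 F69230 F69229 D93025 F139795 F66010 F66495 (iv4 F36551) F36550 D41306
theorem F143474 : act 1 n92728 = n90815 := d15_0 (iv0 F143473) F143472 (iv2 F142961)
theorem F143475 : act 1 n90808 = n92728 := d15_0 F143474 (iv7 D90815) (iv2 F139791)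
theorem F143476 : act 2 n90813 = n93025 := d4_3 F143472 (iv2 F142961) F143229
theorem F143477 : act 1 n93025 = n90808 := d15_0 F143475 F143229 F143476
def n93026 : Q := act 4 n43525
theorem D93026 : act 4 n43525 = n93026 := rfl
theorem F143478 : act 5 n93026 = n88488 := d16_1 D93026 F135468 F74819 F69309 (iv5 F35654) D41309 D88502 (iv7 F135509) F135508
theorem F143479 : act 0 n93026 = n87042 := d17_0 (iv5 F142937) (iv1 F142939) F135543 (iv4 D43248) (iv5 D20401) D20400 D43244 F68403 D93026
theorem F143480 : act 1 n93026 = n92472 := d18_6 (iv1 F63635) F63619 F35619 (iv4 F32676) D43525 D93026 (iv4 D92472) F133612 F133610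
def n93027 : Q := act 0 n43526
theorem D93027 : act 0 n43526 = n93027 := rfl
def n93028 : Q := act 1 n43526
theorem D93028 : act 1 n43526 = n93028 := rfl
def n93029 : Q := act 2 n43526
theorem D93029 : act 2 n43526 = n93029 := rfl
def n93030 : Q := act 5 n43526
theorem D93030 : act 5 n43526 = n93030 := rfl
def n93031 : Q := act 6 n43527
theorem D93031 : act 6 n43527 = n93031 := rfl
def n93032 : Q := act 3 n43528
theorem D93032 : act 3 n43528 = n93032 := rfl
theorem F143482 : act 4 n93032 = n89541 := d5_2 D43528 D93032 (iv3 D89541) (iv4 F68389) F68386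
theorem F143483 : act 7 n93032 = n44142 := d8_2 (iv7 F68404) D93032 F69482
def n93033 : Q := act 3 n43531
theorem D93033 : act 3 n43531 = n93033 := rfl
theorem F143484 : act 4 n93033 = n43536 := d5_2 D43531 D93033 (iv3 D43536) (iv4 D20595) D20594
theorem F143485 : act 7 n93033 = n48127 := d8_2 (iv7 F68406) D93033 (iv3 D48127)
def n93035 : Q := act 6 n43531
theorem D93035 : act 6 n43531 = n93035 := rfl
theorem F143489 : act 4 n93035 = n43533 := d10_1 D93035 (iv6 D43533) D43531
def n93039 : Q := act 3 n43534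
theorem D93039 : act 3 n43534 = n93039 := rfl
theorem F143503 : act 4 n93039 = n46964 := d5_2 (iv4 F68415) D93039 F74180 F35127 (iv3 F35054)
theorem F143504 : act 7 n93039 = n46846 := d8_2 F68417 D93039 (iv3 D46846)
def n93040 : Q := act 6 n43534
theorem D93040 : act 6 n43534 = n93040 := rfl
theorem F143506 : act 4 n93040 = n46848 := d10_1 D93040 (iv6 D46848) (iv4 F68415)
def n93041 : Q := act 3 n43535
theorem D93041 : act 3 n43535 = n93041 := rfl
theorem F143511 : act 6 n93041 = n43576 := d7_2 (iv6 F68421) D93041 (iv3 D43576)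
def n93042 : Q := act 0 n43536
theorem D93042 : act 0 n43536 = n93042 := rfl
def n93043 : Q := act 1 n43536
theorem D93043 : act 1 n43536 = n93043 := rfl
def n93044 : Q := act 2 n43536
theorem D93044 : act 2 n43536 = n93044 := rfl
def n93045 : Q := act 5 n43536
theorem D93045 : act 5 n43536 = n93045 := rfl
theorem F143512 : act 3 n93045 = n43537 := d6_1 D93045 (iv5 D43537) D43536
def n93046 : Q := act 6 n43536
theorem D93046 : act 6 n43536 = n93046 := rfl
def n93047 : Q := act 0 n43537
theorem D93047 : act 0 n43537 = n93047 := rfl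
theorem F143514 : act 5 n93047 = n90848 := d17_3 (iv1 D43535) D43537 D93047 F139832 (iv5 F73984) F73953 F70406 (iv0 F68053) F68420
theorem F143515 : act 1 n43545 = n93047 := d15_0 (iv0 D93047) (iv7 F142763) F142762
def n93048 : Q := act 1 n43537
theorem D93048 : act 1 n43537 = n93048 := rfl
theorem F143518 : act 1 n93048 = n43545 := d15_1 D93048 (iv7 F142756) F142755
def n93049 : Q := act 6 n43537
theorem D93049 : act 6 n43537 = n93049 := rfl
def n93054 : Q := act 3 n43539
theorem D93054 : act 3 n43539 = n93054 := rfl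
theorem F143535 : act 7 n93054 = n43941 := d8_2 (iv7 F68423) D93054 F69073
def n93056 : Q := act 0 n43544
theorem D93056 : act 0 n43544 = n93056 := rfl
def n93057 : Q := act 1 n43544
theorem D93057 : act 1 n43544 = n93057 := rfl
def n93058 : Q := act 2 n43544
theorem D93058 : act 2 n43544 = n93058 := rfl
def n93059 : Q := act 5 n43544
theorem D93059 : act 5 n43544 = n93059 := rfl
theorem F143540 : act 3 n93059 = n43545 := d6_1 D93059 (iv5 D43545) D43544
def n93060 : Q := act 6 n43544
theorem D93060 : act 6 n43544 = n93060 := rfl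
theorem F143541 : act 3 n93060 = n43546 := d7_1 D93060 (iv6 D43546) D43544
theorem F143542 : act 7 n90835 = n93060 := d8_0 F143541 (iv7 F68442) D90835
def n93061 : Q := act 6 n43545
theorem D93061 : act 6 n43545 = n93061 := rfl
def n93062 : Q := act 5 n43546
theorem D93062 : act 5 n43546 = n93062 := rfl
def n93063 : Q := act 3 n43547
theorem D93063 : act 3 n43547 = n93063 := rfl
theorem F143546 : act 4 n93063 = n46082 := d5_2 D43547 D93063 F72648 (iv4 F66299) F66300
theorem F143547 : act 6 n93063 = n43853 := d7_2 (iv6 F68444) D93063 (iv3 D43853)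
def n93064 : Q := act 0 n43548
theorem D93064 : act 0 n43548 = n93064 := rfl
def n93065 : Q := act 1 n43548
theorem D93065 : act 1 n43548 = n93065 := rfl
def n93066 : Q := act 2 n43548
theorem D93066 : act 2 n43548 = n93066 := rfl
def n93067 : Q := act 5 n43548
theorem D93067 : act 5 n43548 = n93067 := rfl
theorem F143548 : act 3 n93067 = n43549 := d6_1 D93067 (iv5 D43549) D43548
def n93068 : Q := act 6 n43548
theorem D93068 : act 6 n43548 = n93068 := rfl
theorem F143549 : act 3 n93068 = n43550 := d7_1 D93068 (iv6 D43550) D43548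
def n93069 : Q := act 0 n43549
theorem D93069 : act 0 n43549 = n93069 := rfl
theorem F143550 : act 5 n93069 = n90852 := d17_3 D20603 D43549 D93069 (iv4 D90852) (iv5 F67794) F67797 (iv5 D20596) (iv0 D9760) D9762
theorem F143551 : act 1 n43552 = n93069 := d15_0 (iv0 D93069) (iv7 F142775) F142774
theorem F143553 : act 7 n92986 = n93069 := d13_0 F143550 F139847 D92986
def n93070 : Q := act 1 n43549
theorem D93070 : act 1 n43549 = n93070 := rfl
theorem F143554 : act 1 n93070 = n43552 := d15_1 D93070 (iv7 F142767) F142766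
theorem F143556 : act 5 n93070 = n43682 := d17_7 D48075 F75525 (iv1 F74024) (iv5 D46843) (iv4 F68056) D43549 D93070 (iv0 F75540) (iv4 D48077)
def n93071 : Q := act 6 n43549
theorem D93071 : act 6 n43549 = n93071 := rfl
def n93072 : Q := act 5 n43550
theorem D93072 : act 5 n43550 = n93072 := rfl
theorem F143559 : act 0 n93072 = n90193 := d17_2 F138635 D93072 (iv5 D90193) F65085 F31737 D42157 (iv5 F65075) (iv0 F66672) (iv4 F75920)
def n93074 : Q := act 0 n43551
theorem D93074 : act 0 n43551 = n93074 := rfl
def n93075 : Q := act 1 n43551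
theorem D93075 : act 1 n43551 = n93075 := rfl
def n93076 : Q := act 2 n43551
theorem D93076 : act 2 n43551 = n93076 := rfl
def n93077 : Q := act 4 n43551
theorem D93077 : act 4 n43551 = n93077 := rfl
theorem F143566 : act 3 n93077 = n44842 := d5_1 D93077 (iv4 D44842) (iv3 F65902) F65904 D43551
theorem F143567 : act 7 n93077 = n48115 := d11_2 F142765 D93077 (iv4 F142764)
def n93078 : Q := act 5 n43551
theorem D93078 : act 5 n43551 = n93078 := rfl
theorem F143568 : act 3 n93078 = n43552 := d6_1 D93078 (iv5 D43552) D43551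
def n93079 : Q := act 6 n43551
theorem D93079 : act 6 n43551 = n93079 := rfl
theorem F143569 : act 3 n93079 = n43553 := d7_1 D93079 (iv6 D43553) D43551
def n93080 : Q := act 6 n43552
theorem D93080 : act 6 n43552 = n93080 := rfl
def n93081 : Q := act 5 n43553
theorem D93081 : act 5 n43553 = n93081 := rfl
def n93083 : Q := act 2 n43554
theorem D93083 : act 2 n43554 = n93083 := rfl
theorem F143576 : act 7 n43555 = n93083 := d15_2 (iv0 D43554) D43555 (iv2 D93083)
def n93084 : Q := act 3 n43554
theorem D93084 : act 3 n43554 = n93084 := rfl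
def n93085 : Q := act 4 n43554
theorem D93085 : act 4 n43554 = n93085 := rfl
def n93086 : Q := act 5 n43554
theorem D93086 : act 5 n43554 = n93086 := rfl
def n93087 : Q := act 6 n43554
theorem D93087 : act 6 n43554 = n93087 := rfl
def n93088 : Q := act 7 n43554
theorem D93088 : act 7 n43554 = n93088 := rfl
theorem F143577 : act 2 n93088 = n43555 := d4_1 D93088 F143576 (iv2 D93083)
def n93089 : Q := act 3 n43555
theorem D93089 : act 3 n43555 = n93089 := rfl
def n93090 : Q := act 4 n43555
theorem D93090 : act 4 n43555 = n93090 := rfl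
def n93091 : Q := act 5 n43555
theorem D93091 : act 5 n43555 = n93091 := rfl
def n93092 : Q := act 6 n43555
theorem D93092 : act 6 n43555 = n93092 := rfl
def n93094 : Q := act 1 n43556
theorem D93094 : act 1 n43556 = n93094 := rfl
theorem F143581 : act 1 n93094 = n43558 := d15_1 D93094 (iv7 D43558) D43556
def n93095 : Q := act 5 n43556
theorem D93095 : act 5 n43556 = n93095 := rfl
theorem F143582 : act 2 n93095 = n43557 := d2_1 D93095 (iv5 D43557) D43556
def n93096 : Q := act 0 n43557
theorem D93096 : act 0 n43557 = n93096 := rfl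
def n93097 : Q := act 1 n43557
theorem D93097 : act 1 n43557 = n93097 := rfl
def n93098 : Q := act 4 n43557
theorem D93098 : act 4 n43557 = n93098 := rfl
def n93099 : Q := act 6 n43557
theorem D93099 : act 6 n43557 = n93099 := rfl
theorem F143583 : act 3 n93099 = n43562 := d7_1 D93099 (iv6 D43562) (iv3 F68447)
theorem F143584 : act 5 n93099 = n43637 := d12_1 D93099 (iv6 D43637) (iv5 D20638) (iv6 F32682) D43557
def n93100 : Q := act 7 n43557
theorem D93100 : act 7 n43557 = n93100 := rfl
theorem F143585 : act 3 n93100 = n43563 := d8_1 D93100 (iv7 D43563) (iv3 F68447)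
theorem F143586 : act 5 n93100 = n43558 := d13_1 D93100 (iv7 D43558) D43557
def n93103 : Q := act 3 n43560
theorem D93103 : act 3 n43560 = n93103 := rfl
def n93104 : Q := act 6 n43560
theorem D93104 : act 6 n43560 = n93104 := rfl
def n93105 : Q := act 3 n43561
theorem D93105 : act 3 n43561 = n93105 := rfl
def n93106 : Q := act 6 n43561
theorem D93106 : act 6 n43561 = n93106 := rfl
theorem F143587 : act 4 n93106 = n43562 := d10_1 D93106 (iv6 D43562) D43561
def n93107 : Q := act 0 n43562
theorem D93107 : act 0 n43562 = n93107 := rfl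
def n93108 : Q := act 1 n43562
theorem D93108 : act 1 n43562 = n93108 := rfl
def n93109 : Q := act 7 n43562
theorem D93109 : act 7 n43562 = n93109 := rfl
theorem F143588 : act 5 n93109 = n43642 := d13_1 D93109 (iv7 D43642) (iv5 F68450)
def n93110 : Q := act 6 n43563
theorem D93110 : act 6 n43563 = n93110 := rfl
def n93111 : Q := act 5 n43564
theorem D93111 : act 5 n43564 = n93111 := rfl
theorem F143589 : act 7 n93111 = n43646 := d13_2 (iv7 F68453) D93111 (iv5 D43646)
def n93113 : Q := act 0 n43569
theorem D93113 : act 0 n43569 = n93113 := rfl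
theorem F143597 : act 1 n87225 = n93113 := d15_0 (iv0 D93113) F68474 D87225
def n93114 : Q := act 1 n43569
theorem D93114 : act 1 n43569 = n93114 := rfl
def n93115 : Q := act 2 n43569
theorem D93115 : act 2 n43569 = n93115 := rfl
theorem F143598 : act 3 n93115 = n87215 := d0_2 D43569 D93115 (iv2 D87215) (iv3 D40516) (iv2 F32697)
theorem F143599 : act 4 n93115 = n43579 := d1_2 (iv4 F68473) D93115 (iv2 D43579)
theorem F143600 : act 7 n93115 = n87225 := d4_2 (iv7 F68474) D93115 (iv2 D87225)
theorem F143601 : act 1 n93115 = n87223 := d15_0 (iv0 D87223) (iv7 F68474) D93115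
theorem F143602 : act 1 n93114 = n87225 := d15_1 D93114 (iv7 F143600) (iv2 D93115)
def n93116 : Q := act 6 n43569
theorem D93116 : act 6 n43569 = n93116 := rfl
theorem F143605 : act 4 n93116 = n43581 := d10_1 D93116 (iv6 D43581) (iv4 F68473)
def n93117 : Q := act 5 n43570
theorem D93117 : act 5 n43570 = n93117 := rfl
def n93119 : Q := act 0 n43574
theorem D93119 : act 0 n43574 = n93119 := rfl
theorem F143610 : act 3 n93119 = n92664 := d20_5 (iv4 D20120) (iv1 F30718) (iv4 F32703) D43574 D93119 (iv4 D92664) (iv1 D43346) F32527 (iv3 D20469) (iv1 F31950)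
def n93121 : Q := act 2 n43574
theorem D93121 : act 2 n43574 = n93121 := rfl
theorem F143612 : act 3 n93121 = n90942 := d0_2 D43574 D93121 (iv2 D90942) (iv3 D42598) F32705
theorem F143613 : act 4 n93121 = n47691 := d1_2 (iv4 F68484) D93121 (iv2 D47691)
def n93125 : Q := act 2 n43576
theorem D93125 : act 2 n43576 = n93125 := rfl
theorem F143621 : act 3 n93125 = n88737 := d0_2 D43576 D93125 (iv2 D88737) (iv3 D41424) F32710
def n93126 : Q := act 2 n43577
theorem D93126 : act 2 n43577 = n93126 := rfl
theorem F143630 : act 7 n43578 = n93126 := d15_2 (iv0 D43577) D43578 (iv2 D93126)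
def n93127 : Q := act 3 n43577
theorem D93127 : act 3 n43577 = n93127 := rfl
def n93128 : Q := act 4 n43577
theorem D93128 : act 4 n43577 = n93128 := rfl
def n93129 : Q := act 5 n43577
theorem D93129 : act 5 n43577 = n93129 := rfl
def n93130 : Q := act 6 n43577
theorem D93130 : act 6 n43577 = n93130 := rfl
def n93131 : Q := act 7 n43577
theorem D93131 : act 7 n43577 = n93131 := rfl
theorem F143633 : act 2 n93131 = n43578 := d4_1 D93131 F143630 (iv2 D93126)
def n93132 : Q := act 3 n43578
theorem D93132 : act 3 n43578 = n93132 := rfl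
def n93133 : Q := act 4 n43578
theorem D93133 : act 4 n43578 = n93133 := rfl
theorem F143634 : act 3 n87066 = n93133 := d20_5 (iv4 D11085) (iv1 F16843) D19121 D40454 D87066 (iv4 D93133) (iv1 D43578) (iv4 F68473) (iv3 D43569) F32699
def n93134 : Q := act 5 n43578
theorem D93134 : act 5 n43578 = n93134 := rfl
def n93135 : Q := act 6 n43578
theorem D93135 : act 6 n43578 = n93135 := rfl
def n93136 : Q := act 5 n43579
theorem D93136 : act 5 n43579 = n93136 := rfl
theorem F143635 : act 2 n93136 = n43580 := d2_1 D93136 (iv5 D43580) D43579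
theorem F143636 : act 3 n93136 = n91018 := d6_1 D93136 (iv5 D91018) (iv3 F68491)
theorem F143637 : act 7 n93136 = n90957 := d13_2 (iv7 F68492) D93136 (iv5 D90957)
def n93137 : Q := act 6 n43579
theorem D93137 : act 6 n43579 = n93137 := rfl
theorem F143641 : act 3 n93137 = n91019 := d7_1 D93137 (iv6 D91019) (iv3 F68491)
def n93138 : Q := act 0 n43580
theorem D93138 : act 0 n43580 = n93138 := rfl
def n93139 : Q := act 1 n43580
theorem D93139 : act 1 n43580 = n93139 := rfl
theorem F143643 : act 1 n93139 = n90957 := d15_1 D93139 (iv7 F143637) F143635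
def n93140 : Q := act 4 n43580
theorem D93140 : act 4 n43580 = n93140 := rfl
theorem F143644 : act 7 n93140 = n90961 := d11_2 (iv7 F68497) D93140 (iv4 D90961)
def n93141 : Q := act 6 n43580
theorem D93141 : act 6 n43580 = n93141 := rfl
theorem F143645 : act 3 n93141 = n43582 := d7_1 D93141 (iv6 D43582) (iv3 F68496)
def n93146 : Q := act 0 n43582
theorem D93146 : act 0 n43582 = n93146 := rfl
def n93147 : Q := act 1 n43582
theorem D93147 : act 1 n43582 = n93147 := rfl
theorem F143649 : act 1 n93147 = n91031 := d15_1 D93147 (iv7 D91031) (iv2 F68499)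
def n93148 : Q := act 5 n43582
theorem D93148 : act 5 n43582 = n93148 := rfl
theorem F143651 : act 6 n93148 = n43585 := d12_2 D43582 D93148 (iv5 D43585) (iv6 D20617) D20616
def n93149 : Q := act 7 n43582
theorem D93149 : act 7 n43582 = n93149 := rfl
theorem F143652 : act 2 n93149 = n91031 := d4_1 D93149 (iv7 D91031) (iv2 F68499)
theorem F143654 : act 1 n91031 = n93146 := d15_0 (iv0 D93146) D93149 F143652
theorem F143655 : act 1 n91029 = n93149 := d15_1 D91029 (iv7 D93149) F68499
theorem F143656 : act 1 n93149 = n91028 := d15_0 (iv0 D91028) D91031 (iv2 F143652)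
def n93164 : Q := act 3 n43592
theorem D93164 : act 3 n43592 = n93164 := rfl
theorem F143699 : act 7 n93164 = n91009 := d8_2 (iv7 F141576) D93164 (iv3 D91009)
def n93165 : Q := act 4 n43592
theorem D93165 : act 4 n43592 = n93165 := rfl
theorem F143701 : act 7 n93165 = n91010 := d11_2 (iv7 F141576) D93165 (iv4 D91010)
def n93166 : Q := act 5 n43592
theorem D93166 : act 5 n43592 = n93166 := rfl
theorem F143703 : act 7 n93166 = n91011 := d13_2 (iv7 F141576) D93166 (iv5 D91011)
def n93168 : Q := act 5 n43593
theorem D93168 : act 5 n43593 = n93168 := rfl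
theorem F143705 : act 2 n93168 = n91011 := d2_1 D93168 (iv5 D91011) (iv2 F141572)
theorem F143706 : act 7 n93168 = n91016 := d13_2 (iv7 F141574) D93168 (iv5 D91016)
def n93170 : Q := act 5 n43594
theorem D93170 : act 5 n43594 = n93170 := rfl
theorem F143708 : act 2 n93170 = n43595 := d2_1 D93170 (iv5 D43595) D43594
theorem F143710 : act 7 n93170 = n91018 := d13_2 (iv7 F68526) D93170 (iv5 D91018)
theorem F143711 : act 1 n91021 = n93170 := d15_1 D91021 F143710 F140066
theorem F143712 : act 1 n93170 = n91020 := d15_0 (iv0 D91020) (iv7 F68531) (iv2 F143708)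
def n93171 : Q := act 6 n43594
theorem D93171 : act 6 n43594 = n93171 := rfl
def n93172 : Q := act 0 n43595
theorem D93172 : act 0 n43595 = n93172 := rfl
theorem F143715 : act 1 n91018 = n93172 := d15_0 (iv0 D93172) F68531 (iv2 F140066)
def n93173 : Q := act 1 n43595
theorem D93173 : act 1 n43595 = n93173 := rfl
theorem F143716 : act 1 n93173 = n91018 := d15_1 D93173 (iv7 F143710) F143708
def n93174 : Q := act 4 n43595
theorem D93174 : act 4 n43595 = n93174 := rfl
theorem F143717 : act 7 n93174 = n91022 := d11_2 (iv7 F68531) D93174 (iv4 D91022)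
def n93183 : Q := act 7 n43597
theorem D93183 : act 7 n43597 = n93183 := rfl
theorem F143726 : act 6 n93183 = n91031 := d14_1 D93183 (iv7 D91031) (iv6 D42637) (iv7 F32732) D43597
def n93196 : Q := act 2 n43604
theorem D93196 : act 2 n43604 = n93196 := rfl
theorem F143773 : act 7 n43605 = n93196 := d15_2 (iv0 D43604) D43605 (iv2 D93196)
def n93197 : Q := act 3 n43604
theorem D93197 : act 3 n43604 = n93197 := rfl
theorem F143774 : act 4 n93197 = n87224 := d20_6 (iv4 D19511) D19510 (iv4 F31246) D20629 D43604 D93197 (iv1 D87224) F61653 (iv3 D20109) (iv1 F31248)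
def n93198 : Q := act 4 n43604
theorem D93198 : act 4 n43604 = n93198 := rfl
def n93199 : Q := act 5 n43604
theorem D93199 : act 5 n43604 = n93199 := rfl
def n93200 : Q := act 6 n43604
theorem D93200 : act 6 n43604 = n93200 := rfl
def n93201 : Q := act 7 n43604
theorem D93201 : act 7 n43604 = n93201 := rfl
theorem F143775 : act 2 n93201 = n43605 := d4_1 D93201 F143773 (iv2 D93196)
def n93202 : Q := act 3 n43605
theorem D93202 : act 3 n43605 = n93202 := rfl
def n93203 : Q := act 4 n43605
theorem D93203 : act 4 n43605 = n93203 := rfl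
theorem F143776 : act 3 n91677 = n93203 := d20_5 (iv4 D19837) F17546 D20250 D42864 D91677 (iv4 D93203) (iv1 D43605) D43607 F68552 (iv1 F61370)
def n93204 : Q := act 5 n43605
theorem D93204 : act 5 n43605 = n93204 := rfl
def n93205 : Q := act 6 n43605
theorem D93205 : act 6 n43605 = n93205 := rfl
def n93206 : Q := act 4 n43606
theorem D93206 : act 4 n43606 = n93206 := rfl
theorem F143777 : act 2 n93206 = n43607 := d1_1 D93206 (iv4 D43607) D43606
def n93207 : Q := act 5 n43606
theorem D93207 : act 5 n43606 = n93207 := rfl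
theorem F143779 : act 2 n93207 = n43608 := d2_1 D93207 (iv5 D43608) D43606
theorem F143780 : act 3 n93207 = n91208 := d6_1 D93207 F140246 F140045
theorem F143781 : act 7 n93207 = n91199 := d13_2 F139963 D93207 F140241
theorem F143782 : act 1 n91198 = n93207 := d15_1 D91198 F143781 (iv2 D91199)
theorem F143783 : act 1 n93207 = n91197 := d15_0 (iv0 D91197) (iv7 F68554) (iv2 F143779)
def n93208 : Q := act 6 n43606
theorem D93208 : act 6 n43606 = n93208 := rfl
theorem F143784 : act 2 n93208 = n43609 := d3_1 D93208 (iv6 D43609) D43606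
def n93209 : Q := act 1 n43607
theorem D93209 : act 1 n43607 = n93209 := rfl
def n93210 : Q := act 5 n43607
theorem D93210 : act 5 n43607 = n93210 := rfl
theorem F143786 : act 3 n93210 = n86880 := d6_1 D93210 F133290 (iv3 F68552)
def n93211 : Q := act 6 n43607
theorem D93211 : act 6 n43607 = n93211 := rfl
theorem F143787 : act 3 n93211 = n86889 := d7_1 D93211 (iv6 D86889) (iv3 F68552)
theorem F143788 : act 4 n93211 = n43609 := d10_1 D93211 (iv6 D43609) D43607
def n93212 : Q := act 0 n43608
theorem D93212 : act 0 n43608 = n93212 := rfl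
theorem F143789 : act 1 n91199 = n93212 := d15_0 (iv0 D93212) F68554 D91199
def n93213 : Q := act 1 n43608
theorem D93213 : act 1 n43608 = n93213 := rfl
theorem F143790 : act 1 n93213 = n91199 := d15_1 D93213 (iv7 F143781) F143779
def n93214 : Q := act 4 n43608
theorem D93214 : act 4 n43608 = n93214 := rfl
theorem F143791 : act 3 n93214 = n93174 := d5_1 D93214 (iv4 D93174) F68530 (iv4 F32744) (iv3 F68553)
theorem F143792 : act 7 n93214 = n91200 := d11_2 (iv7 F68554) D93214 (iv4 D91200)
def n93215 : Q := act 6 n43608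
theorem D93215 : act 6 n43608 = n93215 := rfl
theorem F143793 : act 3 n93215 = n43610 := d7_1 D93215 (iv6 D43610) (iv3 F68553)
def n93216 : Q := act 0 n43609
theorem D93216 : act 0 n43609 = n93216 := rfl
def n93217 : Q := act 1 n43609
theorem D93217 : act 1 n43609 = n93217 := rfl
def n93218 : Q := act 5 n43609
theorem D93218 : act 5 n43609 = n93218 := rfl
theorem F143794 : act 3 n93218 = n43613 := d6_1 D93218 (iv5 D43613) (iv3 F68555)
def n93220 : Q := act 0 n43610
theorem D93220 : act 0 n43610 = n93220 := rfl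
def n93221 : Q := act 1 n43610
theorem D93221 : act 1 n43610 = n93221 := rfl
theorem F143796 : act 1 n93221 = n91214 := d15_1 D93221 (iv7 D91214) (iv2 F68556)
def n93222 : Q := act 5 n43610
theorem D93222 : act 5 n43610 = n93222 := rfl
theorem F143798 : act 6 n93222 = n43613 := d12_2 D43610 D93222 (iv5 D43613) (iv6 D20631) D20630
def n93223 : Q := act 7 n43610
theorem D93223 : act 7 n43610 = n93223 := rfl
theorem F143799 : act 2 n93223 = n91214 := d4_1 D93223 (iv7 D91214) (iv2 F68556)
theorem F143801 : act 6 n93223 = n91205 := d14_1 D93223 (iv7 D91205) (iv6 D42699) (iv7 F32743) D43610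
theorem F143802 : act 1 n91214 = n93220 := d15_0 (iv0 D93220) D93223 F143799
theorem F143803 : act 1 n91212 = n93223 := d15_1 D91212 (iv7 D93223) F68556
theorem F143804 : act 1 n93223 = n91211 := d15_0 (iv0 D91211) D91214 (iv2 F143799)
def n93224 : Q := act 0 n43613
theorem D93224 : act 0 n43613 = n93224 := rfl
theorem F143805 : act 5 n93224 = n92987 := d17_3 F135837 D43613 D93224 F143407 F68363 (iv0 D20618) F15612 (iv0 F35797) D42982
def n93225 : Q := act 1 n43613
theorem D93225 : act 1 n43613 = n93225 := rfl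
theorem F143806 : act 5 n48327 = n93225 := d21_6 (iv5 F32754) F32755 (iv5 D20140) D20141 F63434 D48327 (iv1 D93225) (iv5 D43613) (iv6 D20631) (iv1 F31728)
def n93226 : Q := act 4 n43613
theorem D93226 : act 4 n43613 = n93226 := rfl
def n93228 : Q := act 2 n43615
theorem D93228 : act 2 n43615 = n93228 := rfl
theorem F143808 : act 7 n43616 = n93228 := d15_2 (iv0 D43615) D43616 (iv2 D93228)
def n93229 : Q := act 3 n43615
theorem D93229 : act 3 n43615 = n93229 := rfl
theorem F143809 : act 4 n93229 = n90991 := d20_6 F31927 F31704 F30719 D20632 D43615 D93229 (iv1 D90991) F66451 (iv3 D20122) (iv1 F31926)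
def n93230 : Q := act 4 n43615
theorem D93230 : act 4 n43615 = n93230 := rfl
def n93231 : Q := act 5 n43615
theorem D93231 : act 5 n43615 = n93231 := rfl
def n93232 : Q := act 6 n43615
theorem D93232 : act 6 n43615 = n93232 := rfl
def n93233 : Q := act 7 n43615
theorem D93233 : act 7 n43615 = n93233 := rfl
theorem F143810 : act 2 n93233 = n43616 := d4_1 D93233 F143808 (iv2 D93228)
def n93234 : Q := act 3 n43616
theorem D93234 : act 3 n43616 = n93234 := rfl
def n93235 : Q := act 4 n43616
theorem D93235 : act 4 n43616 = n93235 := rfl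
theorem F143811 : act 3 n87213 = n93235 := d20_5 (iv4 D40306) (iv1 F32694) (iv4 F32696) D40516 D87213 (iv4 D93235) (iv1 D43616) (iv4 F61552) (iv3 D40454) (iv1 F61363)
def n93236 : Q := act 5 n43616
theorem D93236 : act 5 n43616 = n93236 := rfl
def n93237 : Q := act 6 n43616
theorem D93237 : act 6 n43616 = n93237 := rfl
def n93238 : Q := act 5 n43617
theorem D93238 : act 5 n43617 = n93238 := rfl
theorem F143812 : act 2 n93238 = n43618 := d2_1 D93238 (iv5 D43618) D43617
theorem F143814 : act 7 n93238 = n91208 := d13_2 F140047 D93238 F140246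
theorem F143815 : act 1 n91207 = n93238 := d15_1 D91207 F143814 (iv2 D91208)
theorem F143816 : act 1 n93238 = n91206 := d15_0 (iv0 D91206) (iv7 F68561) (iv2 F143812)
def n93240 : Q := act 0 n43618
theorem D93240 : act 0 n43618 = n93240 := rfl
theorem F143818 : act 1 n91208 = n93240 := d15_0 (iv0 D93240) F68561 D91208
def n93241 : Q := act 1 n43618
theorem D93241 : act 1 n43618 = n93241 := rfl
theorem F143819 : act 1 n93241 = n91208 := d15_1 D93241 (iv7 F143814) F143812
def n93242 : Q := act 4 n43618
theorem D93242 : act 4 n43618 = n93242 := rfl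
theorem F143820 : act 3 n93242 = n93140 := d5_1 D93242 (iv4 D93140) F68496 (iv4 F32748) (iv3 F68560)
theorem F143821 : act 7 n93242 = n91209 := d11_2 (iv7 F68561) D93242 (iv4 D91209)
def n93243 : Q := act 6 n43618
theorem D93243 : act 6 n43618 = n93243 := rfl
theorem F143822 : act 3 n93243 = n43620 := d7_1 D93243 (iv6 D43620) (iv3 F68560)
def n93250 : Q := act 5 n43620
theorem D93250 : act 5 n43620 = n93250 := rfl
theorem F143827 : act 6 n93250 = n43621 := d12_2 D43620 D93250 (iv5 D43621) (iv6 D20634) D20633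
def n93251 : Q := act 7 n43620
theorem D93251 : act 7 n43620 = n93251 := rfl
theorem F143829 : act 4 n93251 = n93149 := d11_1 D93251 (iv7 D93149) (iv4 F68564)
theorem F143830 : act 6 n93251 = n91214 := d14_1 D93251 (iv7 D91214) (iv6 D42701) (iv7 F32749) D43620
def n93253 : Q := act 1 n43621
theorem D93253 : act 1 n43621 = n93253 := rfl
theorem F143835 : act 5 n90161 = n93253 := d21_6 D9781 (iv1 F31971) (iv5 D20137) D20138 (iv1 F66671) D90161 (iv1 D93253) (iv5 D43621) (iv6 D20634) (iv1 D9779)
def n93256 : Q := act 0 n43624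
theorem D93256 : act 0 n43624 = n93256 := rfl
def n93257 : Q := act 1 n43624
theorem D93257 : act 1 n43624 = n93257 := rfl
def n93258 : Q := act 5 n43624
theorem D93258 : act 5 n43624 = n93258 := rfl
theorem F143837 : act 3 n93258 = n43626 := d6_1 D93258 (iv5 D43626) D43624
theorem F143838 : act 7 n93258 = n91177 := d13_2 (iv7 F141305) D93258 F140227
def n93259 : Q := act 6 n43624
theorem D93259 : act 6 n43624 = n93259 := rfl
def n93261 : Q := act 4 n43626
theorem D93261 : act 4 n43626 = n93261 := rfl
theorem F143842 : act 2 n93261 = n91182 := d1_1 D93261 (iv4 D91182) (iv2 F141303)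
theorem F143843 : act 7 n93261 = n91178 := d11_2 (iv7 F141304) D93261 (iv4 D91178)
def n93262 : Q := act 6 n43626
theorem D93262 : act 6 n43626 = n93262 := rfl
theorem F143844 : act 2 n93262 = n91183 := d3_1 D93262 (iv6 D91183) (iv2 F141303)
def n93263 : Q := act 0 n43627
theorem D93263 : act 0 n43627 = n93263 := rfl
def n93266 : Q := act 7 n43627
theorem D93266 : act 7 n43627 = n93266 := rfl
def n93267 : Q := act 0 n43629
theorem D93267 : act 0 n43629 = n93267 := rfl
theorem F143845 : act 4 n93267 = n87223 := d20_0 (iv1 F143601) F143599 F68491 (iv1 F68528) F141573 (iv4 F141571) (iv1 F141046) (iv4 D43630) D43629 D93267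
def n93270 : Q := act 4 n43629
theorem D93270 : act 4 n43629 = n93270 := rfl
theorem F143846 : act 3 n93270 = n48535 := d5_1 D93270 (iv4 D48535) F68567 (iv4 D43630) D43629
theorem F143847 : act 7 n93270 = n87263 := d11_2 F141670 D93270 (iv4 F141668)
theorem F143848 : act 0 n93128 = n93270 := d20_1 D93128 (iv4 D93270) (iv3 D43629) (iv1 D20636) (iv3 D9780) (iv4 D4421) D4419 D9771 D20615 D43577
theorem F143849 : act 0 n93270 = n93133 := d20_10 (iv4 D93133) (iv1 D43578) (iv4 F68473) (iv3 D43569) F32699 D23672 F36815 D23677 D48535 (iv3 F143846)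
theorem F143850 : act 0 n93132 = n92659 := d20_10 (iv4 D92659) (iv1 F138625) F138623 F138622 (iv1 F67387) D43629 D93270 F143849 (iv4 D93133) D93132
def n93274 : Q := act 4 n43631
theorem D93274 : act 4 n43631 = n93274 := rfl
theorem F143858 : act 5 n93274 = n93261 := d16_1 D93274 (iv4 D93261) (iv5 D43626) D43625 F68857 (iv4 D43625) D43626 F141304 (iv2 F141301)
def n93280 : Q := act 6 n43633
theorem D93280 : act 6 n43633 = n93280 := rfl
theorem F143860 : act 2 n93280 = n43637 := d3_1 D93280 (iv6 D43637) (iv2 F68568)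
def n93281 : Q := act 3 n43636
theorem D93281 : act 3 n43636 = n93281 := rfl
theorem F143861 : act 4 n93281 = n43638 := d5_2 D43636 D93281 (iv3 D43638) (iv4 D20639) (iv3 F32753)
theorem F143862 : act 7 n93281 = n92670 := d8_2 F141674 D93281 F142801
def n93282 : Q := act 6 n43636
theorem D93282 : act 6 n43636 = n93282 := rfl
theorem F143863 : act 4 n93282 = n43637 := d10_1 D93282 (iv6 D43637) D43636
def n93283 : Q := act 0 n43637
theorem D93283 : act 0 n43637 = n93283 := rfl
def n93284 : Q := act 1 n43637
theorem D93284 : act 1 n43637 = n93284 := rfl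
def n93285 : Q := act 7 n43637
theorem D93285 : act 7 n43637 = n93285 := rfl
theorem F143864 : act 3 n93285 = n43642 := d8_1 D93285 (iv7 D43642) (iv3 F68569)
def n93286 : Q := act 0 n43638
theorem D93286 : act 0 n43638 = n93286 := rfl
def n93287 : Q := act 1 n43638
theorem D93287 : act 1 n43638 = n93287 := rfl
def n93288 : Q := act 2 n43638
theorem D93288 : act 2 n43638 = n93288 := rfl
theorem F143868 : act 7 n93288 = n92667 := d4_2 (iv7 F68571) D93288 F142799
theorem F143869 : act 1 n93288 = n92668 := d15_0 (iv0 D92668) (iv7 F68571) D93288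
theorem F143871 : act 1 n92669 = n93288 := d15_1 D92669 F143868 F142799
def n93289 : Q := act 6 n43638
theorem D93289 : act 6 n43638 = n93289 := rfl
theorem F143872 : act 3 n93289 = n43639 := d7_1 D93289 (iv6 D43639) D43638
def n93290 : Q := act 0 n43639
theorem D93290 : act 0 n43639 = n93290 := rfl
def n93291 : Q := act 1 n43639
theorem D93291 : act 1 n43639 = n93291 := rfl
def n93292 : Q := act 5 n43639
theorem D93292 : act 5 n43639 = n93292 := rfl
theorem F143873 : act 6 n93292 = n90184 := d12_2 D43639 D93292 (iv5 D90184) (iv6 D42156) (iv5 F32754)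
def n93293 : Q := act 7 n43639
theorem D93293 : act 7 n43639 = n93293 := rfl
theorem F143874 : act 4 n93293 = n43642 := d11_1 D93293 (iv7 D43642) (iv4 F68572)
theorem F143875 : act 6 n93293 = n92674 := d14_1 D93293 (iv7 D92674) (iv6 D43349) (iv7 F32757) D43639
def n93294 : Q := act 2 n43640
theorem D93294 : act 2 n43640 = n93294 := rfl
theorem F143876 : act 7 n43641 = n93294 := d15_2 (iv0 D43640) D43641 (iv2 D93294)
def n93295 : Q := act 3 n43640
theorem D93295 : act 3 n43640 = n93295 := rfl
def n93296 : Q := act 4 n43640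
theorem D93296 : act 4 n43640 = n93296 := rfl
def n93297 : Q := act 5 n43640
theorem D93297 : act 5 n43640 = n93297 := rfl
def n93298 : Q := act 6 n43640
theorem D93298 : act 6 n43640 = n93298 := rfl
def n93299 : Q := act 7 n43640
theorem D93299 : act 7 n43640 = n93299 := rfl
theorem F143877 : act 2 n93299 = n43641 := d4_1 D93299 F143876 (iv2 D93294)
def n93300 : Q := act 3 n43641
theorem D93300 : act 3 n43641 = n93300 := rfl
def n93301 : Q := act 4 n43641
theorem D93301 : act 4 n43641 = n93301 := rfl
def n93302 : Q := act 5 n43641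
theorem D93302 : act 5 n43641 = n93302 := rfl
def n93303 : Q := act 6 n43641
theorem D93303 : act 6 n43641 = n93303 := rfl
def n93304 : Q := act 6 n43642
theorem D93304 : act 6 n43642 = n93304 := rfl
theorem F143878 : act 2 n93304 = n93293 := d3_1 D93304 F143875 F142804
theorem F143879 : act 4 n93304 = n92674 := d10_1 D93304 (iv6 F143875) F143874
theorem F143880 : act 7 n93304 = n43643 := d14_2 D43642 D93304 (iv6 D43643) (iv7 D20641) D20640
theorem F143881 : act 1 n93291 = n93304 := d15_1 D93291 F143880 F68573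
theorem F143882 : act 1 n93304 = n93290 := d15_0 (iv0 D93290) D93293 (iv2 F143878)
def n93305 : Q := act 0 n43643
theorem D93305 : act 0 n43643 = n93305 := rfl
theorem F143883 : act 1 n93293 = n93305 := d15_0 (iv0 D93305) (iv7 F143880) F143878
def n93306 : Q := act 1 n43643
theorem D93306 : act 1 n43643 = n93306 := rfl
theorem F143884 : act 1 n93306 = n93293 := d15_1 D93306 (iv7 D93293) (iv2 F68573)
def n93307 : Q := act 5 n43643
theorem D93307 : act 5 n43643 = n93307 := rfl
theorem F143885 : act 2 n93307 = n93292 := d2_1 D93307 (iv5 D93292) (iv2 F68573)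
theorem F143886 : act 6 n93307 = n43646 := d12_2 D43643 D93307 (iv5 D43646) (iv6 D20642) (iv5 F32760)
def n93312 : Q := act 0 n43646
theorem D93312 : act 0 n43646 = n93312 := rfl
def n93313 : Q := act 1 n43646
theorem D93313 : act 1 n43646 = n93313 := rfl
def n93314 : Q := act 4 n43646
theorem D93314 : act 4 n43646 = n93314 := rfl
def n93320 : Q := act 2 n43651
theorem D93320 : act 2 n43651 = n93320 := rfl
theorem F143896 : act 3 n93320 = n46749 := d0_2 D43651 D93320 (iv2 F73863) F62139 (iv2 F62505)
theorem F143897 : act 4 n93320 = n47076 := d1_2 (iv4 F68581) D93320 F74325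
theorem F143898 : act 6 n93320 = n87760 := d3_2 (iv6 F68582) D93320 F134732
theorem F143899 : act 7 n93320 = n47072 := d4_2 (iv7 F68583) D93320 F74320
theorem F143900 : act 1 n93320 = n46701 := d15_0 (iv0 F73820) (iv7 F68583) D93320
theorem F143901 : act 1 n87762 = n47072 := d15_1 (iv0 F134738) (iv7 F143899) (iv2 D93320)
theorem F143902 : act 1 n47079 = n93320 := d15_1 D47079 F143899 F74320
theorem E14721 : n47090 = n46488 := ((c20_11 (iv4 D47090) (iv1 F74328) (iv4 F143897) F143896 (iv1 D46749) (iv3 D22414) F66068 (iv1 D19267) (iv4 F17155) (iv3 F34770) D46488)).symm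
theorem F143903 : act 4 n46488 = n22647 := (sb E14721 (iv4 D47090))
def n93321 : Q := act 5 n43651
theorem D93321 : act 5 n43651 = n93321 := rfl
theorem F143904 : act 3 n93321 = n43652 := d6_1 D93321 (iv5 D43652) D43651
theorem F143905 : act 7 n93321 = n47080 := d13_2 (iv7 F68583) D93321 (iv5 D47080)
def n93322 : Q := act 4 n43652
theorem D93322 : act 4 n43652 = n93322 := rfl
theorem F143906 : act 2 n93322 = n87928 := d1_1 D93322 F134924 (iv2 F68584)
theorem F143907 : act 7 n93322 = n48197 := d11_2 (iv7 F68585) D93322 (iv4 D48197)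
theorem F143908 : act 5 n93322 = n87952 := d16_1 D93322 (iv4 D87952) (iv5 D41063) (iv4 D19327) (iv5 D9078) (iv4 F14154) D19313 D41024 (iv2 F68584)
theorem F143909 : act 0 n93322 = n87925 := d18_2 (iv1 F68587) D93322 F134923 (iv5 F66321) F61747 (iv0 F61494) (iv4 F133565) (iv0 F134916) (iv5 D87919)
theorem F143910 : act 1 n93322 = n87924 := d18_6 (iv1 F62728) (iv4 D9792) D9789 D20647 D43652 D93322 F134920 (iv0 D41123) (iv5 D19348)
def n93323 : Q := act 6 n43652
theorem D93323 : act 6 n43652 = n93323 := rfl
theorem F143911 : act 2 n93323 = n87929 := d3_1 D93323 (iv6 D87929) (iv2 F68584)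
theorem F143912 : act 5 n93323 = n87821 := d12_1 D93323 (iv6 D87821) F62009 (iv6 F62506) D43652
def n93324 : Q := act 3 n43653
theorem D93324 : act 3 n43653 = n93324 := rfl
def n93325 : Q := act 5 n43653
theorem D93325 : act 5 n43653 = n93325 := rfl
theorem F143914 : act 2 n93325 = n87954 := d2_1 D93325 F134945 (iv2 F68588)
theorem F143915 : act 4 n93325 = n87927 := d9_1 D93325 (iv5 D87927) (iv4 D41023) (iv5 D19313) F14154 D9078 D19327 D41063 D87952 (iv5 F143908) (iv4 D93322) (iv5 D43652) (iv4 D20647) D20648 D43653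
theorem F143916 : act 7 n93325 = n48201 := d13_2 (iv7 F68589) D93325 (iv5 D48201)
theorem F143918 : act 1 n93325 = n87950 := d15_0 (iv0 D87950) D87954 (iv2 F143914)
def n93326 : Q := act 0 n43654
theorem D93326 : act 0 n43654 = n93326 := rfl
theorem F143919 : act 1 n46443 = n93326 := d15_0 (iv0 D93326) F68595 (iv2 F73316)
def n93327 : Q := act 1 n43654
theorem D93327 : act 1 n43654 = n93327 := rfl
theorem F143920 : act 1 n93327 = n46443 := d15_1 D93327 F73318 (iv2 F68593)
def n93328 : Q := act 5 n43654
theorem D93328 : act 5 n43654 = n93328 := rfl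
theorem F143921 : act 2 n93328 = n46775 := d2_1 D93328 (iv5 D46775) (iv2 F68593)
theorem F143922 : act 3 n93328 = n43655 := d6_1 D93328 (iv5 D43655) D43654
theorem F143923 : act 7 n93328 = n87930 := d13_2 (iv7 F68595) D93328 (iv5 D87930)
def n93329 : Q := act 6 n43654
theorem D93329 : act 6 n43654 = n93329 := rfl
theorem F143924 : act 2 n93329 = n46776 := d3_1 D93329 (iv6 D46776) (iv2 F68593)
theorem F143925 : act 3 n93329 = n43656 := d7_1 D93329 (iv6 D43656) D43654
def n93330 : Q := act 4 n43655
theorem D93330 : act 4 n43655 = n93330 := rfl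
theorem F143927 : act 2 n93330 = n43664 := d1_1 D93330 (iv4 D43664) (iv2 F68596)
theorem F143928 : act 7 n93330 = n87932 := d11_2 (iv7 F68597) D93330 (iv4 D87932)
def n93331 : Q := act 6 n43655
theorem D93331 : act 6 n43655 = n93331 := rfl
theorem F143929 : act 2 n93331 = n43665 := d3_1 D93331 (iv6 D43665) (iv2 F68596)
def n93333 : Q := act 5 n43657
theorem D93333 : act 5 n43657 = n93333 := rfl
theorem F143933 : act 7 n93333 = n87935 := d13_2 (iv7 F68601) D93333 (iv5 D87935)
theorem F143934 : act 1 n93333 = n91707 := d17_6 (iv1 F66159) (iv5 D10963) (iv1 F62495) D20656 D43657 D93333 (iv5 D91707) F70666 (iv4 D20716)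
def n93335 : Q := act 0 n43659
theorem D93335 : act 0 n43659 = n93335 := rfl
theorem F143941 : act 3 n93335 = n47095 := d20_5 F62945 F68615 (iv4 D43660) D43659 D93335 (iv4 D47095) (iv1 D22648) (iv4 F35207) F35206 D23320
theorem F143942 : act 1 n47127 = n93335 := d15_0 (iv0 D93335) F68609 (iv2 F74370)
def n93336 : Q := act 1 n43659
theorem D93336 : act 1 n43659 = n93336 := rfl
theorem F143943 : act 4 n92578 = n93336 := d20_6 (iv4 D20463) (iv1 D9714) (iv4 F15158) (iv3 F32502) D43313 D92578 (iv1 D93336) F68610 (iv3 F68014) (iv1 F68010)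
theorem F143944 : act 0 n90646 = n92578 := d20_10 F143943 (iv1 D93336) F68610 (iv3 F68014) (iv1 F68010) D43334 F68028 D48056 F143309 D90646
theorem F143945 : act 0 n47127 = n93336 := d20_1 (iv4 F74372) (iv4 F143943) (iv3 D92578) (iv1 F67983) F65148 F31757 (iv1 F14625) D9455 D20077 (iv1 F68094)
def n93337 : Q := act 2 n43659
theorem D93337 : act 2 n43659 = n93337 := rfl
theorem F143946 : act 3 n93337 = n88037 := d0_2 D43659 D93337 F135041 F62338 (iv2 F62732)
theorem F143947 : act 4 n93337 = n90326 := d1_2 (iv4 F68610) D93337 (iv2 F138955)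
theorem F143948 : act 6 n93337 = n87970 := d3_2 (iv6 F68608) D93337 F134956
theorem F143949 : act 7 n93337 = n47127 := d4_2 (iv7 F68609) D93337 F74370
theorem F143950 : act 1 n93337 = n47130 := d15_0 (iv0 D47130) (iv7 F68609) D93337
theorem F143951 : act 1 n47131 = n93337 := d15_1 D47131 F143949 F74370
def n93338 : Q := act 5 n43659
theorem D93338 : act 5 n43659 = n93338 := rfl
theorem F143952 : act 3 n93338 = n43661 := d6_1 D93338 (iv5 D43661) D43659
theorem F143953 : act 7 n93338 = n47132 := d13_2 (iv7 F68609) D93338 (iv5 D47132)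
def n93339 : Q := act 5 n43660
theorem D93339 : act 5 n43660 = n93339 := rfl
theorem F143955 : act 3 n93339 = n46820 := d6_1 D93339 F73960 (iv3 F68612)
theorem F143959 : act 4 n93339 = n43719 := d18_5 F62490 D9792 D20658 D43660 D93339 (iv0 D43719) (iv4 D20707) F66157 (iv5 D9078)
def n93340 : Q := act 4 n43661
theorem D93340 : act 4 n43661 = n93340 := rfl
theorem F143960 : act 2 n93340 = n88072 := d1_1 D93340 F135067 (iv2 F68617)
theorem F143961 : act 7 n93340 = n47139 := d11_2 (iv7 F68618) D93340 (iv4 D47139)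
theorem F143963 : act 1 n93340 = n88068 := d18_6 D23320 F62945 F68615 (iv4 D43660) D43661 D93340 F135060 (iv0 D48195) (iv5 D23322)
def n93341 : Q := act 6 n43661
theorem D93341 : act 6 n43661 = n93341 := rfl
theorem F143964 : act 2 n93341 = n88073 := d3_1 D93341 (iv6 D88073) (iv2 F68617)
theorem F143965 : act 5 n93341 = n88025 := d12_1 D93341 (iv6 D88025) F62332 (iv6 F62733) D43661
def n93342 : Q := act 3 n43662
theorem D93342 : act 3 n43662 = n93342 := rfl
def n93343 : Q := act 4 n43662
theorem D93343 : act 4 n43662 = n93343 := rfl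
def n93344 : Q := act 6 n43662
theorem D93344 : act 6 n43662 = n93344 := rfl
def n93345 : Q := act 3 n43663
theorem D93345 : act 3 n43663 = n93345 := rfl
def n93346 : Q := act 4 n43663
theorem D93346 : act 4 n43663 = n93346 := rfl
def n93347 : Q := act 6 n43663
theorem D93347 : act 6 n43663 = n93347 := rfl
theorem F143966 : act 2 n93347 = n88257 := d3_1 D93347 F135182 F69143
theorem F143967 : act 5 n93347 = n87709 := d12_1 D93347 (iv6 D87709) (iv5 F64443) F69146 (iv5 F69147)
def n93348 : Q := act 0 n43664
theorem D93348 : act 0 n43664 = n93348 := rfl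
theorem F143968 : act 4 n93348 = n87906 := d18_3 (iv1 D43663) D43664 D93348 F134904 (iv4 D43984) (iv0 D20868) (iv4 F33012) D43979 (iv5 F69147)
theorem F143969 : act 1 n87932 = n93348 := d15_0 (iv0 D93348) (iv7 F68686) (iv2 F134928)
def n93349 : Q := act 1 n43664
theorem D93349 : act 1 n43664 = n93349 := rfl
theorem F143970 : act 1 n93349 = n87932 := d15_1 D93349 (iv7 F143928) F143927
theorem F143971 : act 4 n93349 = n87907 := d18_7 (iv1 D19312) F14154 F62490 D9792 D20660 D43664 D93349 F134906 (iv5 D41019)
def n93350 : Q := act 3 n43664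
theorem D93350 : act 3 n43664 = n93350 := rfl
def n93351 : Q := act 5 n43664
theorem D93351 : act 5 n43664 = n93351 := rfl
theorem F143972 : act 4 n93351 = n87935 := d16_2 D43664 D93351 (iv5 D87935) (iv4 D41051) (iv5 D19323) D19322 D41049 (iv7 F68597) F68596
theorem F143973 : act 0 n93351 = n87952 := d17_2 (iv1 D93349) D93351 (iv5 F143908) (iv4 D93322) (iv5 D43652) F62504 D41014 D87907 (iv4 F143971)
theorem F143974 : act 1 n93351 = n87927 := d17_6 (iv1 D41124) (iv5 D19348) (iv1 F62728) D20660 D43664 D93351 (iv5 D87927) D87925 F134923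
def n93352 : Q := act 6 n43664
theorem D93352 : act 6 n43664 = n93352 := rfl
theorem F143975 : act 4 n93352 = n43665 := d10_1 D93352 (iv6 D43665) D43664
def n93353 : Q := act 0 n43665
theorem D93353 : act 0 n43665 = n93353 := rfl
def n93354 : Q := act 1 n43665
theorem D93354 : act 1 n43665 = n93354 := rfl
def n93356 : Q := act 7 n43665
theorem D93356 : act 7 n43665 = n93356 := rfl
def n93358 : Q := act 4 n43666
theorem D93358 : act 4 n43666 = n93358 := rfl
theorem F143983 : act 0 n93358 = n47511 := d17_0 F74710 F72801 F64039 F62639 D44291 F133458 (iv5 F135255) (iv0 F135257) D93358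
theorem F143984 : act 1 n87585 = n86953 := d18_6 D43666 D93358 F143983 (iv4 F75867) F75866 D87585 (iv4 D86953) (iv0 F68623) (iv5 D43668)
theorem F143986 : act 0 n87584 = n89042 := d20_4 D86953 (iv1 F143984) (iv4 D87585) D87584 F136718 (iv4 F72684) (iv1 F72686) F72683 F70516 F68623
def n93359 : Q := act 3 n43667
theorem D93359 : act 3 n43667 = n93359 := rfl
theorem F143987 : act 7 n93359 = n47198 := d8_2 (iv7 F69656) D93359 F74481
def n93360 : Q := act 4 n43667
theorem D93360 : act 4 n43667 = n93360 := rfl
theorem F143988 : act 6 n93360 = n46659 := d10_2 F140460 D93360 (iv4 F140459)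
theorem F143990 : act 5 n93360 = n45657 := d17_5 F62581 D40808 (iv1 F69657) (iv5 F69715) D93360 (iv0 F71999) (iv5 D41510) F64015 F64013
theorem F143991 : act 0 n93360 = n45536 := d17_0 (iv5 D45536) (iv1 F69630) (iv5 D41504) F31277 D40373 (iv0 F68623) (iv5 D43668) D43667 D93360
theorem F143992 : act 1 n93360 = n47511 := d18_8 F72801 F69761 (iv1 D44315) (iv4 D21097) F15859 (iv4 F32770) D43667 D93360 F74710
def n93361 : Q := act 4 n43668
theorem D93361 : act 4 n43668 = n93361 := rfl
theorem F143997 : act 1 n93361 = n87594 := d18_6 F135268 (iv4 D43681) (iv1 D20667) (iv4 F32770) D43668 D93361 F134467 F133404 (iv5 F135267)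
theorem F143998 : act 0 n89068 = n87555 := d20_4 D82490 (iv1 F136764) (iv4 D89069) D89068 F134447 (iv4 F134467) (iv1 F143997) (iv4 D93361) (iv3 F70516) F70518
def n93362 : Q := act 1 n43670
theorem D93362 : act 1 n43670 = n93362 := rfl
theorem F144000 : act 4 n93362 = n46834 := d18_7 F137152 (iv4 F133439) (iv1 F133443) (iv4 D43984) F66180 D43670 D93362 F75575 (iv5 F137150)
theorem F144001 : act 5 n93362 = n87950 := d18_9 (iv1 F143918) F143915 (iv1 F143974) F143972 (iv5 D87935) (iv4 D41051) (iv0 F62517) D43670 D93362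
def n93365 : Q := act 4 n43671
theorem D93365 : act 4 n43671 = n93365 := rfl
theorem F144003 : act 6 n93365 = n45020 := d10_2 (iv6 F68627) D93365 F70820
theorem F144006 : act 0 n47909 = n93365 := d20_1 (iv4 F75233) (iv4 D93365) (iv3 D43671) (iv1 D20663) F15261 D9798 D20673 F32787 D23271 F63325
def n93369 : Q := act 4 n43673
theorem D93369 : act 4 n43673 = n93369 := rfl
theorem F144010 : act 0 n93369 = n46454 := d17_0 (iv5 D46454) (iv1 D22258) D22259 (iv4 F67288) D91857 (iv0 F141216) (iv5 D87935) F68630 D93369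
theorem F144011 : act 5 n93369 = n45792 := d18_4 (iv1 D20663) D20664 D43673 D93369 F72281 (iv0 D43978) F33012 D20869 F66185
def n93370 : Q := act 5 n43673
theorem D93370 : act 5 n43673 = n93370 := rfl
theorem F144014 : act 1 n93370 = n43736 := d17_6 (iv1 F73356) F65883 (iv1 F72282) (iv5 F144011) (iv4 D93369) D93370 (iv5 D43736) D43734 (iv4 F73354)
def n93373 : Q := act 5 n43674
theorem D93373 : act 5 n43674 = n93373 := rfl
theorem F144018 : act 0 n93373 = n43736 := d17_2 (iv1 F68631) D93373 (iv5 D43736) (iv4 D20716) F15542 D20869 F66185 F62516 D41051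
def n93379 : Q := act 0 n43676
theorem D93379 : act 0 n43676 = n93379 := rfl
theorem F144024 : act 5 n93379 = n43719 := d17_3 (iv1 D43674) D43676 D93379 (iv4 F143959) (iv5 D93339) (iv0 F68615) D46453 F75665 F75660
theorem F144025 : act 1 n87935 = n93379 := d15_0 (iv0 D93379) (iv7 F68703) (iv2 F134932)
theorem F144026 : act 7 n93379 = n91707 := d15_2 (iv0 F141216) F144025 (iv2 F141214)
theorem F144027 : act 4 n88071 = n93379 := d16_2 D41125 D88071 F144024 (iv4 F143959) (iv5 D93339) (iv4 D43660) D43661 F68618 F35243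
def n93380 : Q := act 4 n43676
theorem D93380 : act 4 n43676 = n93380 := rfl
theorem F144028 : act 5 n93380 = n87932 := d9_2 D43676 D93380 (iv4 D87932) (iv5 D41049) (iv4 D19322) D19323 D41051 D87935 (iv4 F143972) (iv5 D93351) (iv4 D43664) (iv5 D20660) (iv4 D9792) D9793 D20664
theorem F144029 : act 0 n93380 = n87927 := d18_2 F141215 D93380 (iv4 F143915) (iv5 D93325) (iv4 D43653) (iv0 F66156) D20707 (iv0 F67290) D91857
theorem F144030 : act 1 n93380 = n87952 := d18_6 (iv1 F75578) (iv4 D43672) (iv1 D20663) D20664 D43676 D93380 (iv4 D87952) D87951 F134943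
def n93386 : Q := act 3 n43679
theorem D93386 : act 3 n43679 = n93386 := rfl
theorem F144043 : act 4 n93386 = n47486 := d5_2 D43679 D93386 F74670 (iv4 F68137) F68136
def n93387 : Q := act 4 n43680
theorem D93387 : act 4 n43680 = n93387 := rfl
theorem F144045 : act 2 n93387 = n48091 := d1_1 D93387 (iv4 F75562) (iv2 F72016)
theorem F144046 : act 7 n93387 = n45007 := d11_2 (iv7 F68641) D93387 F70784
theorem F144047 : act 0 n93387 = n45541 := d18_2 (iv1 F76091) D93387 (iv4 D45541) (iv5 D21746) D21745 F71808 F71807 F71809 (iv5 F68345)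
theorem F144048 : act 0 n45534 = n93387 := d20_1 D45534 (iv4 D93387) (iv3 D43680) (iv1 D20667) F15262 (iv4 F14806) (iv1 F7481) (iv4 F7494) (iv3 F17945) (iv1 F66737)
def n93388 : Q := act 3 n43681
theorem D93388 : act 3 n43681 = n93388 := rfl
theorem F144049 : act 7 n93388 = n48258 := d8_2 (iv7 F68642) D93388 F75865
theorem F144050 : act 0 n47599 = n93388 := d20_4 (iv4 F69100) (iv1 F69102) F66270 D47599 (iv3 D93388) (iv4 D43681) (iv1 D20667) (iv4 F32770) (iv3 F33635) (iv1 F66256)
def n93398 : Q := act 5 n43685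
theorem D93398 : act 5 n43685 = n93398 := rfl
theorem F144067 : act 3 n93398 = n43686 := d6_1 D93398 (iv5 D43686) D43685
def n93434 : Q := act 3 n43698
theorem D93434 : act 3 n43698 = n93434 := rfl
theorem F144120 : act 7 n93434 = n93342 := d8_2 (iv7 F69141) D93434 (iv3 D93342)
def n93435 : Q := act 4 n43698
theorem D93435 : act 4 n43698 = n93435 := rfl
theorem F144121 : act 2 n93435 = n93346 := d1_1 D93435 (iv4 D93346) (iv2 F69143)
theorem F144123 : act 0 n93435 = n87908 := d18_2 D43698 D93435 (iv4 D87908) (iv5 D41014) (iv4 F62778) F62776 F33733 F62731 D20694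
theorem F144124 : act 1 n93435 = n87915 := d18_6 (iv1 F134169) F134166 F137153 F137149 F134198 D93435 (iv4 D87915) F134905 F134904
def n93436 : Q := act 3 n43699
theorem D93436 : act 3 n43699 = n93436 := rfl
theorem F144125 : act 5 n93436 = n89243 := d6_2 (iv5 F68684) D93436 F136966
theorem F144126 : act 7 n93436 = n93345 := d8_2 F69142 D93436 (iv3 D93345)
def n93437 : Q := act 4 n43699
theorem D93437 : act 4 n43699 = n93437 := rfl
theorem F144128 : act 7 n93437 = n93346 := d11_2 F69142 D93437 (iv4 D93346)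
theorem F144129 : act 0 n93437 = n87915 := d18_2 (iv1 F68683) D93437 (iv4 D87915) (iv5 D41019) (iv4 F62578) (iv0 F62961) F34733 (iv0 F62726) D43655
theorem F144130 : act 1 n93437 = n87908 := d18_6 F133442 F133439 F72233 F70230 (iv5 F68684) D93437 (iv4 D87908) D87907 (iv5 F134907)
def n93438 : Q := act 6 n43699
theorem D93438 : act 6 n43699 = n93438 := rfl
theorem F144131 : act 2 n93438 = n93344 := d3_1 D93438 (iv6 D93344) F69140
theorem F144132 : act 5 n93438 = n89245 := d12_1 D93438 (iv6 D89245) (iv5 D41696) D41697 (iv5 F68684)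
def n93439 : Q := act 0 n43700
theorem D93439 : act 0 n43700 = n93439 := rfl
theorem F144133 : act 1 n93330 = n93439 := d15_0 (iv0 D93439) F68686 (iv2 F143927)
def n93440 : Q := act 1 n43700
theorem D93440 : act 1 n43700 = n93440 := rfl
theorem F144134 : act 1 n93440 = n93330 := d15_1 D93440 F143928 F134928
theorem F144135 : act 4 n93440 = n89727 := d18_7 (iv1 F36444) F30962 F62486 D9808 D20694 D43700 D93440 F137722 (iv5 D48192)
theorem F144136 : act 2 n93348 = n93440 := d1_3 F144135 F137720 (iv4 F143968)
theorem F144137 : act 7 n93349 = n93440 := d11_0 F144135 F137721 (iv4 F143971)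
theorem F144138 : act 2 n93349 = n93439 := d15_3 (iv0 D93439) D93440 (iv7 F144137)
theorem F144139 : act 7 n93439 = n93348 := d4_2 (iv7 F144137) F144138 F144136
def n93441 : Q := act 3 n43700
theorem D93441 : act 3 n43700 = n93441 := rfl
theorem F144140 : act 7 n93441 = n93350 := d8_2 (iv7 F68686) D93441 (iv3 D93350)
def n93442 : Q := act 5 n43700
theorem D93442 : act 5 n43700 = n93442 := rfl
theorem F144142 : act 7 n93442 = n93351 := d13_2 (iv7 F68686) D93442 (iv5 D93351)
theorem F144143 : act 4 n93442 = n93333 := d16_2 D43700 D93442 (iv5 D93333) (iv4 D43657) (iv5 D20656) D20655 D43655 F68597 (iv2 F63074)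
def n93443 : Q := act 6 n43700
theorem D93443 : act 6 n43700 = n93443 := rfl
theorem F144144 : act 4 n93443 = n43701 := d10_1 D93443 (iv6 D43701) D43700
def n93444 : Q := act 0 n43701
theorem D93444 : act 0 n43701 = n93444 := rfl
def n93445 : Q := act 1 n43701
theorem D93445 : act 1 n43701 = n93445 := rfl
def n93446 : Q := act 5 n43701
theorem D93446 : act 5 n43701 = n93446 := rfl
theorem F144145 : act 6 n93446 = n43702 := d12_2 D43701 D93446 (iv5 D43702) (iv6 D20695) D20694
def n93447 : Q := act 7 n43701
theorem D93447 : act 7 n43701 = n93447 := rfl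
theorem F144146 : act 6 n93447 = n93356 := d14_1 D93447 (iv7 D93356) (iv6 D43665) (iv7 F32819) D43701
def n93448 : Q := act 4 n43702
theorem D93448 : act 4 n43702 = n93448 := rfl
theorem F144147 : act 5 n93448 = n88208 := d16_1 D93448 (iv4 D88208) F62360 F61898 (iv5 F31013) D41224 D88329 F135249 (iv2 F133497)
def n93449 : Q := act 0 n43704
theorem D93449 : act 0 n43704 = n93449 := rfl
theorem F144148 : act 4 n93449 = n46453 := d18_3 D20696 D43704 D93449 (iv5 D46453) (iv4 F62945) (iv0 D23320) F17808 F62485 D9809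
def n93450 : Q := act 1 n43704
theorem D93450 : act 1 n43704 = n93450 := rfl
theorem F144152 : act 1 n93450 = n43705 := d15_1 D93450 F68694 (iv2 F68691)
theorem F144154 : act 4 n93450 = n46454 := d18_7 (iv1 F137189) F137194 F134916 F133565 F63058 D43704 D93450 (iv0 F144010) F144011
def n93452 : Q := act 5 n43704
theorem D93452 : act 5 n43704 = n93452 := rfl
theorem F144160 : act 0 n93452 = n87943 := d17_2 (iv1 D93450) D93452 (iv5 D87943) F68591 F65883 (iv0 F70664) (iv5 F75657) (iv0 F75664) (iv4 F144154)
theorem F144161 : act 1 n93452 = n87940 := d17_6 (iv1 F66157) D20708 F66175 F63058 D43704 D93452 (iv5 D87940) (iv0 D41060) (iv4 D19327)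
def n93455 : Q := act 6 n43705
theorem D93455 : act 6 n43705 = n93455 := rfl
theorem F144167 : act 2 n93455 = n91891 := d3_1 D93455 F141269 (iv2 F68693)
theorem F144168 : act 4 n93455 = n43706 := d10_1 D93455 (iv6 D43706) D43705
def n93457 : Q := act 5 n43707
theorem D93457 : act 5 n43707 = n93457 := rfl
theorem F144173 : act 7 n93457 = n93370 := d13_2 (iv7 F75667) D93457 (iv5 D93370)
theorem F144174 : act 0 n93457 = n87937 := d17_2 D43707 D93457 (iv5 D87937) (iv4 D41058) (iv5 F30966) (iv0 F61494) F63058 (iv0 D20696) D20698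
def n93465 : Q := act 1 n43710
theorem D93465 : act 1 n43710 = n93465 := rfl
theorem F144192 : act 1 n93465 = n93333 := d15_1 D93465 F143933 F134932
theorem F144194 : act 5 n93465 = n43734 := d17_7 F66127 F30968 F62486 D9809 D20698 D43710 D93465 F68754 (iv4 D43717)
def n93466 : Q := act 4 n43710
theorem D93466 : act 4 n43710 = n93466 := rfl
theorem F144196 : act 2 n93466 = n93351 := d1_1 D93466 F143972 F134932
theorem F144197 : act 5 n93466 = n93330 := d9_2 D43710 D93466 (iv4 D93330) (iv5 D43655) (iv4 D20655) D20656 D43657 D93333 (iv4 F144143) (iv5 D93442) (iv4 D43700) (iv5 D20694) (iv4 D9808) D9809 D20698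
def n93484 : Q := act 3 n43717
theorem D93484 : act 3 n43717 = n93484 := rfl
theorem F144220 : act 7 n93484 = n87936 := d8_2 (iv7 F68724) D93484 (iv3 D87936)
def n93485 : Q := act 5 n43717
theorem D93485 : act 5 n43717 = n93485 := rfl
theorem F144221 : act 2 n93485 = n43721 := d2_1 D93485 (iv5 D43721) (iv2 F68723)
theorem F144222 : act 7 n93485 = n87937 := d13_2 (iv7 F68724) D93485 (iv5 D87937)
def n93486 : Q := act 6 n43717
theorem D93486 : act 6 n43717 = n93486 := rfl
theorem F144225 : act 2 n93486 = n43722 := d3_1 D93486 (iv6 D43722) (iv2 F68723)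
def n93493 : Q := act 4 n43721
theorem D93493 : act 4 n43721 = n93493 := rfl
theorem F144233 : act 5 n93493 = n87925 := d16_1 D93493 F134923 (iv5 F66321) F61747 F30966 D41058 D87937 (iv7 F144222) F144221
def n93496 : Q := act 1 n43722
theorem D93496 : act 1 n43722 = n93496 := rfl
theorem F144234 : act 4 n47611 = n93496 := d20_6 (iv4 F67254) (iv1 F68784) F68781 (iv3 F73914) (iv1 F73918) (iv3 F74868) (iv1 D93496) F68733 F32837 F32164
theorem F144235 : act 6 n93496 = n47610 := d10_2 D47611 F144234 (iv4 D47610)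
def n93521 : Q := act 3 n43734
theorem D93521 : act 3 n43734 = n93521 := rfl
theorem F144264 : act 7 n93521 = n91856 := d8_2 (iv7 F70668) D93521 F141212
def n93524 : Q := act 2 n43735
theorem D93524 : act 2 n43735 = n93524 := rfl
def n93527 : Q := act 4 n43736
theorem D93527 : act 4 n43736 = n93527 := rfl
theorem F144276 : act 7 n93527 = n93493 := d11_2 (iv7 F68757) D93527 (iv4 D93493)
def n93528 : Q := act 6 n43736
theorem D93528 : act 6 n43736 = n93528 := rfl
def n93538 : Q := act 4 n43739
theorem D93538 : act 4 n43739 = n93538 := rfl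
def n93564 : Q := act 5 n43747
theorem D93564 : act 5 n43747 = n93564 := rfl
theorem F144314 : act 3 n93564 = n46947 := d6_1 D93564 (iv5 D46947) (iv3 F68775)
def n93582 : Q := act 4 n43753
theorem D93582 : act 4 n43753 = n93582 := rfl
def n93585 : Q := act 4 n43754
theorem D93585 : act 4 n43754 = n93585 := rfl
theorem F144334 : act 2 n93585 = n43755 := d1_1 D93585 (iv4 D43755) D43754
def n93686 : Q := act 3 n43792
theorem D93686 : act 3 n43792 = n93686 := rfl
theorem F144434 : act 2 n93686 = n91009 := d0_1 D93686 (iv3 D91009) (iv2 F141572) F141573 (iv2 F141569)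
def n93693 : Q := act 0 n43795
theorem D93693 : act 0 n43795 = n93693 := rfl
theorem F144443 : act 5 n93693 = n90071 := d17_3 (iv1 D43793) D43795 D93693 (iv4 D90071) (iv5 F137578) F140210 F133919 D87256 (iv4 F140100)
theorem F144444 : act 1 n43814 = n93693 := d15_0 (iv0 D93693) F141645 (iv2 F141646)
def n93694 : Q := act 1 n43795
theorem D93694 : act 1 n43795 = n93694 := rfl
theorem F144447 : act 1 n93694 = n43814 := d15_1 D93694 (iv7 F141653) F141652
theorem F144449 : act 5 n93694 = n91055 := d17_7 (iv1 F135633) F14970 D9826 F68846 D20736 D43795 D93694 F140098 (iv4 D42989)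
theorem F144451 : act 3 n91056 = n93694 := d6_3 F144449 (iv3 D91055) D91056
def n93695 : Q := act 4 n43795
theorem D93695 : act 4 n43795 = n93695 := rfl
theorem F144455 : act 1 n93695 = n91189 := d18_6 (iv1 D20636) F15251 D9826 D20736 D43795 D93695 F140237 F68856 (iv5 D43631)
def n93718 : Q := act 5 n43811
theorem D93718 : act 5 n43811 = n93718 := rfl
theorem F144467 : act 0 n93718 = n88581 := d17_2 F68860 D93718 (iv5 D88581) (iv4 D41341) F137534 F32194 F32130 F32189 D42958
theorem F144468 : act 1 n93718 = n88563 := d17_6 F133939 (iv5 F137544) F137543 F68842 D43811 D93718 (iv5 D88563) D88561 F135621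
def n93726 : Q := act 4 n43814
theorem D93726 : act 4 n43814 = n93726 := rfl
theorem F144478 : act 0 n93726 = n91189 := d18_2 (iv1 F144444) D93726 F140237 F66912 F31978 F135633 D42989 (iv0 F138428) (iv5 F144443)
def n93751 : Q := act 1 n43822
theorem D93751 : act 1 n43822 = n93751 := rfl
theorem F144496 : act 1 n93751 = n88407 := d15_1 D93751 (iv7 D88407) (iv2 F68867)
theorem F144498 : act 3 n90013 = n93751 := d20_3 (iv4 F74989) (iv1 F136059) (iv4 F142332) (iv1 D93751) F68868 F67831 (iv1 F138674) (iv4 D88727) F138666 (iv1 F63869)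
def n93752 : Q := act 7 n43822
theorem D93752 : act 7 n43822 = n93752 := rfl
theorem F144501 : act 3 n93752 = n92482 := d8_1 D93752 (iv7 D92482) (iv3 F68868)
theorem F144502 : act 5 n93752 = n90925 := d13_1 D93752 (iv7 D90925) (iv5 F68869)
def n93753 : Q := act 5 n43823
theorem D93753 : act 5 n43823 = n93753 := rfl
theorem F144510 : act 1 n93753 = n44849 := d17_6 F65938 D44001 (iv1 F74409) (iv5 D47147) F68872 D93753 (iv5 D44849) (iv0 F72328) (iv4 F64436)
theorem F144511 : act 4 n93753 = n91304 := d18_5 (iv1 F17838) (iv4 F17280) (iv1 F35251) F68872 D93753 (iv0 D91304) F66936 F66138 (iv5 D23366)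
theorem F144512 : act 6 n93753 = n87199 := d21_3 F70689 (iv1 F68870) D93753 (iv1 F139960) F139958 F135840 (iv1 F135841) (iv5 F133689) (iv6 D47645) F72335
theorem E14722 : n91734 = n91304 := (c10_3 F144512 (iv4 F133849) D91734 (iv4 F144511))
theorem F144513 : act 6 n91304 = n42886 := (sb E14722 (iv6 D91734))
def n93755 : Q := act 2 n43829
theorem D93755 : act 2 n43829 = n93755 := rfl
theorem F144518 : act 7 n43830 = n93755 := d15_2 (iv0 D43829) D43830 (iv2 D93755)
def n93756 : Q := act 3 n43829
theorem D93756 : act 3 n43829 = n93756 := rfl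
theorem F144519 : act 4 n93756 = n87048 := d20_6 F14760 F7277 D9847 D20752 D43829 D93756 (iv1 D87048) (iv4 F65257) (iv3 D42249) (iv1 F31777)
theorem F144520 : act 0 n92001 = n93756 := d20_10 F144519 (iv1 D87048) (iv4 F65257) (iv3 D42249) (iv1 F31777) (iv3 F31977) F31978 F133753 (iv4 F135640) (iv3 F141499)
theorem F144521 : act 1 n91998 = n93756 := d15_0 (iv0 F144520) (iv7 D92001) D91998
def n93757 : Q := act 4 n43829
theorem D93757 : act 4 n43829 = n93757 := rfl
def n93758 : Q := act 5 n43829
theorem D93758 : act 5 n43829 = n93758 := rfl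
def n93759 : Q := act 6 n43829
theorem D93759 : act 6 n43829 = n93759 := rfl
def n93760 : Q := act 7 n43829
theorem D93760 : act 7 n43829 = n93760 := rfl
theorem F144523 : act 2 n93760 = n43830 := d4_1 D93760 F144518 (iv2 D93755)
def n93761 : Q := act 3 n43830
theorem D93761 : act 3 n43830 = n93761 := rfl
def n93762 : Q := act 4 n43830
theorem D93762 : act 4 n43830 = n93762 := rfl
theorem F144525 : act 3 n87047 = n93762 := d20_5 (iv4 D8977) (iv1 F16776) D19115 D40446 D87047 (iv4 D93762) (iv1 D43830) (iv4 F61571) (iv3 D40472) (iv1 D19128)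
def n93763 : Q := act 5 n43830
theorem D93763 : act 5 n43830 = n93763 := rfl
def n93764 : Q := act 6 n43830
theorem D93764 : act 6 n43830 = n93764 := rfl
def n93765 : Q := act 5 n43831
theorem D93765 : act 5 n43831 = n93765 := rfl
theorem F144526 : act 2 n93765 = n43832 := d2_1 D93765 (iv5 D43832) D43831
theorem F144527 : act 3 n93765 = n91058 := d6_1 D93765 (iv5 D91058) (iv3 F68893)
theorem F144528 : act 7 n93765 = n90228 := d13_2 (iv7 F68894) D93765 (iv5 D90228)
theorem F144529 : act 1 n90230 = n93765 := d15_1 D90230 F144528 F138793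
theorem F144530 : act 1 n93765 = n90229 := d15_0 (iv0 D90229) (iv7 F68899) (iv2 F144526)
def n93766 : Q := act 0 n43832
theorem D93766 : act 0 n43832 = n93766 := rfl
theorem F144531 : act 1 n90228 = n93766 := d15_0 (iv0 D93766) F68899 (iv2 F138793)
def n93767 : Q := act 1 n43832
theorem D93767 : act 1 n43832 = n93767 := rfl
theorem F144532 : act 1 n93767 = n90228 := d15_1 D93767 (iv7 F144528) F144526
def n93768 : Q := act 4 n43832
theorem D93768 : act 4 n43832 = n93768 := rfl
def n93769 : Q := act 6 n43832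
theorem D93769 : act 6 n43832 = n93769 := rfl
theorem F144534 : act 3 n93769 = n43833 := d7_1 D93769 (iv6 D43833) (iv3 F68898)
def n93770 : Q := act 0 n43833
theorem D93770 : act 0 n43833 = n93770 := rfl
def n93771 : Q := act 1 n43833
theorem D93771 : act 1 n43833 = n93771 := rfl
theorem F144535 : act 1 n93771 = n91071 := d15_1 D93771 (iv7 D91071) (iv2 F68900)
def n93772 : Q := act 7 n43833
theorem D93772 : act 7 n43833 = n93772 := rfl
theorem F144536 : act 2 n93772 = n91071 := d4_1 D93772 (iv7 D91071) (iv2 F68900)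
theorem F144537 : act 6 n93772 = n90239 := d14_1 D93772 (iv7 D90239) (iv6 D42176) (iv7 F32906) D43833
theorem F144538 : act 1 n91071 = n93770 := d15_0 (iv0 D93770) D93772 F144536
theorem F144539 : act 1 n91069 = n93772 := d15_1 D91069 (iv7 D93772) F68900
theorem F144540 : act 1 n93772 = n91068 := d15_0 (iv0 D91068) D91071 (iv2 F144536)
def n93773 : Q := act 6 n43834
theorem D93773 : act 6 n43834 = n93773 := rfl
theorem F144541 : act 3 n93773 = n43836 := d7_1 D93773 (iv6 D43836) D43834
theorem F144542 : act 4 n93773 = n86948 := d10_1 D93773 (iv6 D86948) (iv4 F68902)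
theorem F144543 : act 5 n93773 = n71778 := d12_1 D93773 (iv6 D71778) F52404 F55282 (iv5 F68901)
def n93774 : Q := act 6 n43835
theorem D93774 : act 6 n43835 = n93774 := rfl
theorem F144544 : act 3 n93774 = n46132 := d7_1 D93774 (iv6 D46132) (iv3 F68904)
theorem F144545 : act 4 n93774 = n43836 := d10_1 D93774 (iv6 D43836) D43835
def n93776 : Q := act 1 n43836
theorem D93776 : act 1 n43836 = n93776 := rfl
def n93777 : Q := act 5 n43836
theorem D93777 : act 5 n43836 = n93777 := rfl
theorem F144546 : act 2 n93777 = n52929 := d2_1 D93777 F83645 F69254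
theorem F144547 : act 3 n93777 = n71778 := d6_1 D93777 (iv5 F144543) F144541
theorem F144548 : act 6 n93777 = n52928 := d12_2 D43836 D93777 F83643 F65486 (iv5 F68080)
theorem F144549 : act 4 n74998 = n93777 := d10_3 F144548 F83642 D74998
def n93778 : Q := act 7 n43836
theorem D93778 : act 7 n43836 = n93778 := rfl
def n93779 : Q := act 0 n43838
theorem D93779 : act 0 n43838 = n93779 := rfl
theorem F144550 : act 4 n93779 = n49127 := d20_2 F68985 D93779 F77576 (iv1 F77202) F77205 (iv4 F50577) F54252 (iv4 F54249) (iv3 F77569) F77571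
theorem F144551 : act 3 n93779 = n52975 := d20_5 (iv4 F65509) (iv1 D20934) (iv4 F32919) (iv3 F68907) D93779 F83697 F94565 F94562 F82397 (iv1 D49682)
theorem F144552 : act 2 n52880 = n93779 := d15_3 (iv0 D93779) (iv0 F69408) D52880
theorem F144553 : act 7 n93779 = n49123 := d4_2 D52880 F144552 F77568
theorem F144554 : act 1 n52878 = n93779 := d15_1 D52878 F144553 F77568
theorem F144555 : act 6 n52973 = n93779 := d7_0 F144551 (iv6 D52975) D52973
def n93780 : Q := act 5 n43838
theorem D93780 : act 5 n43838 = n93780 := rfl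
theorem F144556 : act 3 n93780 = n43843 := d6_1 D93780 (iv5 D43843) (iv3 F68907)
theorem F144557 : act 6 n93780 = n43841 := d12_2 D43838 D93780 (iv5 D43841) (iv6 D20760) D20759
def n93781 : Q := act 7 n43838
theorem D93781 : act 7 n43838 = n93781 := rfl
theorem F144558 : act 2 n93781 = n52878 := d4_1 D93781 F83549 F68983
theorem F144559 : act 3 n93781 = n43844 := d8_1 D93781 (iv7 D43844) (iv3 F68907)
theorem F144560 : act 4 n93781 = n52878 := d11_1 D93781 F83549 F68985
theorem F144561 : act 6 n93781 = n52878 := d14_1 D93781 F83549 (iv6 D43880) F32954 D43838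
theorem F144562 : act 1 n49123 = n93781 := d15_1 (iv0 F77571) (iv7 D93781) (iv2 F68983)
theorem F144563 : act 1 n93781 = n52880 := d15_1 F144562 (iv7 D52880) (iv2 F77568)
def n93782 : Q := act 2 n43839
theorem D93782 : act 2 n43839 = n93782 := rfl
theorem F144564 : act 7 n43840 = n93782 := d15_2 (iv0 D43839) D43840 (iv2 D93782)
def n93783 : Q := act 3 n43839
theorem D93783 : act 3 n43839 = n93783 := rfl
def n93784 : Q := act 4 n43839
theorem D93784 : act 4 n43839 = n93784 := rfl
theorem F144565 : act 3 n46137 = n93784 := d20_5 F62869 (iv1 D10515) (iv4 F16713) (iv3 F34543) D46137 (iv4 D93784) (iv1 F69264) F69260 F69259 (iv1 F33064)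
def n93785 : Q := act 5 n43839
theorem D93785 : act 5 n43839 = n93785 := rfl
def n93786 : Q := act 6 n43839
theorem D93786 : act 6 n43839 = n93786 := rfl
theorem F144566 : act 5 n93786 = n90291 := d21_6 D42198 F77511 (iv5 D20759) D20760 D43839 D93786 (iv1 D90291) (iv5 D42204) (iv6 D19925) D19923
def n93787 : Q := act 7 n43839
theorem D93787 : act 7 n43839 = n93787 := rfl
theorem F144567 : act 2 n93787 = n43840 := d4_1 D93787 F144564 (iv2 D93782)
def n93788 : Q := act 3 n43840
theorem D93788 : act 3 n43840 = n93788 := rfl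
theorem F144568 : act 4 n93788 = n86950 := d20_6 (iv4 D9955) (iv1 F15679) (iv4 F33061) (iv3 F69259) (iv1 F69263) D93788 (iv1 D86950) (iv4 F65039) F65038 F62850
def n93789 : Q := act 4 n43840
theorem D93789 : act 4 n43840 = n93789 := rfl
def n93790 : Q := act 5 n43840
theorem D93790 : act 5 n43840 = n93790 := rfl
def n93791 : Q := act 6 n43840
theorem D93791 : act 6 n43840 = n93791 := rfl
def n93792 : Q := act 0 n43841
theorem D93792 : act 0 n43841 = n93792 := rfl
def n93793 : Q := act 1 n43841
theorem D93793 : act 1 n43841 = n93793 := rfl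
theorem F144569 : act 5 n92581 = n93793 := d21_6 F68080 (iv1 F65484) F31861 D20451 D43313 D92581 (iv1 D93793) (iv5 D43841) (iv6 D20760) D20758
def n93794 : Q := act 4 n43841
theorem D93794 : act 4 n43841 = n93794 := rfl
def n93795 : Q := act 7 n43841
theorem D93795 : act 7 n43841 = n93795 := rfl
theorem F144570 : act 3 n93795 = n43852 := d8_1 D93795 (iv7 D43852) (iv3 F68908)
theorem F144571 : act 5 n93795 = n43842 := d13_1 D93795 (iv7 D43842) D43841
def n93796 : Q := act 4 n43843
theorem D93796 : act 4 n43843 = n93796 := rfl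
theorem F144572 : act 2 n93796 = n43890 := d1_1 D93796 (iv4 D43890) (iv2 F68911)
theorem F144573 : act 6 n93796 = n43851 := d10_2 (iv6 F68912) D93796 (iv4 D43851)
def n93797 : Q := act 7 n43843
theorem D93797 : act 7 n43843 = n93797 := rfl
theorem F144574 : act 2 n93797 = n43891 := d4_1 D93797 (iv7 D43891) (iv2 F68911)
theorem F144575 : act 5 n93797 = n43844 := d13_1 D93797 (iv7 D43844) D43843
theorem F144576 : act 1 n43889 = n93797 := d15_1 D43889 (iv7 D93797) F68911
theorem F144577 : act 1 n93797 = n43888 := d15_1 F144576 (iv7 F143184) F143182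
def n93798 : Q := act 0 n43845
theorem D93798 : act 0 n43845 = n93798 := rfl
theorem F144578 : act 1 n43905 = n93798 := d15_0 (iv0 D93798) F68919 D43905
def n93799 : Q := act 1 n43845
theorem D93799 : act 1 n43845 = n93799 := rfl
def n93800 : Q := act 2 n43845
theorem D93800 : act 2 n43845 = n93800 := rfl
theorem F144579 : act 3 n93800 = n43894 := d0_2 D43845 D93800 (iv2 D43894) (iv3 D20793) (iv2 F63408)
theorem F144580 : act 4 n93800 = n44826 := d1_2 (iv4 F68918) D93800 (iv2 D44826)
theorem F144581 : act 7 n93800 = n43905 := d4_2 (iv7 F68919) D93800 (iv2 D43905)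
theorem F144583 : act 1 n93799 = n43905 := d15_1 D93799 (iv7 F144581) (iv2 D93800)
theorem F144584 : act 1 n43904 = n93800 := d15_1 D43904 F144581 (iv2 D43905)
theorem F144585 : act 4 n43904 = n45465 := d20_0 (iv1 D45465) (iv4 F69304) (iv3 D44030) F62904 (iv3 F34543) F34544 D22135 F69014 (iv3 F144579) (iv1 F144584)
theorem F144586 : act 3 n44076 = n43904 := d20_5 F16713 D10514 (iv4 F62864) D20938 D44076 F144585 (iv1 D45465) (iv4 F69304) (iv3 D44030) F62904
theorem F144587 : act 3 n44785 = n45465 := d20_5 F34009 (iv1 F66247) F35773 D21327 D44785 (iv4 F144585) (iv1 D43904) D43906 F69029 F66331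
def n93801 : Q := act 5 n43845
theorem D93801 : act 5 n43845 = n93801 := rfl
theorem F144588 : act 3 n93801 = n43846 := d6_1 D93801 (iv5 D43846) D43845
theorem F144589 : act 7 n93801 = n43907 := d13_2 (iv7 F68919) D93801 (iv5 D43907)
def n93802 : Q := act 1 n43846
theorem D93802 : act 1 n43846 = n93802 := rfl
theorem F144590 : act 1 n93802 = n43848 := d15_1 D93802 F68926 (iv2 F68920)
theorem F144592 : act 5 n93802 = n43948 := d17_7 F74809 (iv5 D47568) (iv1 F65924) (iv5 D21348) F32926 D43846 D93802 F69084 (iv4 F65919)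
def n93803 : Q := act 4 n43846
theorem D93803 : act 4 n43846 = n93803 := rfl
theorem F144594 : act 2 n93803 = n43900 := d1_1 D93803 (iv4 D43900) (iv2 F68920)
theorem F144595 : act 7 n93803 = n43909 := d11_2 (iv7 F68921) D93803 (iv4 D43909)
theorem F144596 : act 5 n93803 = n90644 := d16_1 D93803 (iv4 D90644) (iv5 D42436) (iv4 F65548) (iv5 F65858) F65857 D43848 F68926 (iv2 F68920)
def n93804 : Q := act 0 n43847
theorem D93804 : act 0 n43847 = n93804 := rfl
theorem F144597 : act 1 n43894 = n93804 := d15_0 (iv0 D93804) F68924 D43894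
def n93805 : Q := act 1 n43847
theorem D93805 : act 1 n43847 = n93805 := rfl
def n93806 : Q := act 2 n43847
theorem D93806 : act 2 n43847 = n93806 := rfl
theorem F144598 : act 3 n93806 = n43905 := d0_2 D43847 D93806 (iv2 D43905) (iv3 D20798) (iv2 F63411)
theorem F144599 : act 4 n93806 = n46270 := d1_2 (iv4 F68923) D93806 (iv2 F72930)
theorem F144600 : act 7 n93806 = n43894 := d4_2 (iv7 F68924) D93806 (iv2 D43894)
theorem F144601 : act 1 n93806 = n43892 := d15_0 (iv0 D43892) (iv7 F68924) D93806
theorem F144602 : act 1 n93805 = n43894 := d15_1 D93805 (iv7 F144600) (iv2 D93806)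
theorem F144603 : act 1 n43893 = n93806 := d15_1 D43893 F144600 (iv2 D43894)
def n93807 : Q := act 5 n43847
theorem D93807 : act 5 n43847 = n93807 := rfl
theorem F144604 : act 3 n93807 = n43848 := d6_1 D93807 (iv5 D43848) D43847
theorem F144605 : act 7 n93807 = n43896 := d13_2 (iv7 F68924) D93807 (iv5 D43896)
def n93808 : Q := act 6 n43847
theorem D93808 : act 6 n43847 = n93808 := rfl
theorem F144606 : act 3 n93808 = n43849 := d7_1 D93808 (iv6 D43849) D43847
theorem F144607 : act 4 n93808 = n46287 := d10_1 D93808 (iv6 D46287) (iv4 F68923)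
def n93809 : Q := act 4 n43848
theorem D93809 : act 4 n43848 = n93809 := rfl
theorem F144608 : act 2 n93809 = n43909 := d1_1 D93809 (iv4 D43909) (iv2 F68925)
theorem F144609 : act 7 n93809 = n43900 := d11_2 (iv7 F68926) D93809 (iv4 D43900)
def n93810 : Q := act 6 n43848
theorem D93810 : act 6 n43848 = n93810 := rfl
theorem F144610 : act 2 n93810 = n43910 := d3_1 D93810 (iv6 D43910) (iv2 F68925)
def n93811 : Q := act 3 n43850
theorem D93811 : act 3 n43850 = n93811 := rfl
theorem F144611 : act 7 n93811 = n43918 := d8_2 (iv7 F68930) D93811 (iv3 D43918)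
def n93812 : Q := act 4 n43850
theorem D93812 : act 4 n43850 = n93812 := rfl
theorem F144612 : act 2 n93812 = n43916 := d1_1 D93812 (iv4 D43916) F68929
theorem F144613 : act 5 n93812 = n93809 := d9_2 F70391 D93812 (iv4 D93809) (iv5 D43848) (iv4 F65857) F65858 F65548 D42436 D90644 (iv5 F144596) (iv4 D93803) (iv5 D43846) (iv4 F32926) D21348 D44817
theorem F144614 : act 7 n93812 = n43919 := d11_2 (iv7 F68930) D93812 (iv4 D43919)
theorem F144615 : act 1 n93812 = n92418 := d18_6 (iv1 F68947) F68119 (iv1 F65924) D44817 F70391 D93812 (iv4 D92418) (iv0 F69125) (iv5 D43970)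
def n93813 : Q := act 6 n43850
theorem D93813 : act 6 n43850 = n93813 := rfl
theorem F144616 : act 2 n93813 = n43917 := d3_1 D93813 (iv6 D43917) F68929
def n93814 : Q := act 0 n43851
theorem D93814 : act 0 n43851 = n93814 := rfl
theorem F144617 : act 4 n93814 = n89020 := d18_3 F65555 D43851 D93814 F136658 (iv4 D43855) (iv0 F35607) (iv4 F63672) F65552 D42436
theorem F144618 : act 2 n43921 = n93814 := d15_3 (iv0 D93814) (iv0 F139698) F139697
theorem F144619 : act 1 n43925 = n93814 := d15_0 (iv0 D93814) (iv7 F69044) (iv2 F69046)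
theorem F144620 : act 7 n93814 = n43922 := d15_2 F139699 F144619 (iv2 F139696)
def n93815 : Q := act 3 n43851
theorem D93815 : act 3 n43851 = n93815 := rfl
def n93816 : Q := act 6 n43852
theorem D93816 : act 6 n43852 = n93816 := rfl
theorem F144621 : act 2 n93816 = n43926 := d3_1 D93816 (iv6 D43926) (iv2 F68933)
def n93817 : Q := act 5 n43853
theorem D93817 : act 5 n43853 = n93817 := rfl
theorem F144622 : act 3 n93817 = n43854 := d6_1 D93817 (iv5 D43854) D43853
theorem F144623 : act 7 n93817 = n43961 := d13_2 (iv7 F68938) D93817 (iv5 D43961)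
def n93818 : Q := act 1 n43854
theorem D93818 : act 1 n43854 = n93818 := rfl
theorem F144624 : act 1 n93818 = n43858 := d15_1 D93818 F68955 (iv2 F68940)
theorem F144625 : act 7 n93818 = n43942 := d15_2 F142929 D93818 (iv2 F142926)
theorem F144626 : act 5 n93818 = n43949 := d17_7 D20825 (iv5 F35609) F35607 (iv5 D20769) D20768 D43854 D93818 (iv0 D43949) (iv4 D20827)
theorem F144627 : act 2 n43943 = n93818 := d2_3 F144626 (iv2 F69086) (iv5 F69077)
def n93819 : Q := act 4 n43854
theorem D93819 : act 4 n43854 = n93819 := rfl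
theorem F144628 : act 2 n93819 = n43944 := d1_1 D93819 (iv4 D43944) (iv2 F68940)
theorem F144629 : act 7 n93819 = n43963 := d11_2 (iv7 F68941) D93819 (iv4 D43963)
theorem F144630 : act 5 n93819 = n90770 := d16_1 D93819 (iv4 D90770) (iv5 D42502) F31884 F15520 D20772 D43858 F68955 (iv2 F68940)
theorem F144631 : act 0 n93819 = n88547 := d18_2 (iv1 D93818) D93819 (iv4 D88547) (iv5 D41333) F31121 (iv0 F35649) D20843 F69087 (iv5 F144626)
def n93820 : Q := act 6 n43854
theorem D93820 : act 6 n43854 = n93820 := rfl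
theorem F144632 : act 2 n93820 = n43945 := d3_1 D93820 (iv6 D43945) (iv2 F68940)
def n93821 : Q := act 3 n43855
theorem D93821 : act 3 n43855 = n93821 := rfl
theorem F144633 : act 6 n93821 = n90815 := d7_2 (iv6 F68943) D93821 F139795
theorem F144634 : act 7 n93821 = n43969 := d8_2 (iv7 F68944) D93821 (iv3 D43969)
def n93822 : Q := act 0 n43857
theorem D93822 : act 0 n43857 = n93822 := rfl
theorem F144636 : act 4 n93822 = n45493 := d20_0 (iv1 D45493) (iv4 F69265) (iv3 D44018) (iv1 F33063) F15690 F15534 (iv1 F15519) D20772 D43857 D93822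
theorem F144637 : act 1 n43939 = n93822 := d15_0 (iv0 D93822) F68953 D43939
def n93823 : Q := act 1 n43857
theorem D93823 : act 1 n43857 = n93823 := rfl
theorem F144638 : act 4 n45492 = n93823 := d20_0 (iv1 D93823) F68952 (iv3 D21332) (iv1 D10178) (iv3 F6789) F6790 D4692 D10356 D21712 D45492
theorem F144639 : act 3 n44824 = n45492 := d20_5 F6682 D4624 D10183 D21353 D44824 F144638 (iv1 D93823) F68952 (iv3 D21332) (iv1 D10178)
def n93824 : Q := act 2 n43857
theorem D93824 : act 2 n43857 = n93824 := rfl
theorem F144640 : act 3 n93824 = n43960 := d0_2 D43857 D93824 (iv2 D43960) (iv3 D20840) (iv2 F35748)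
theorem F144641 : act 4 n93824 = n44798 := d1_2 (iv4 F68952) D93824 (iv2 D44798)
theorem F144642 : act 7 n93824 = n43939 := d4_2 (iv7 F68953) D93824 (iv2 D43939)
theorem F144643 : act 1 n93824 = n43937 := d15_0 (iv0 D43937) (iv7 F68953) D93824
theorem F144644 : act 1 n93823 = n43939 := d15_1 D93823 (iv7 F144642) (iv2 D93824)
theorem F144645 : act 1 n43938 = n93824 := d15_1 D43938 F144642 (iv2 D43939)
def n93825 : Q := act 5 n43857
theorem D93825 : act 5 n43857 = n93825 := rfl
theorem F144646 : act 3 n93825 = n43858 := d6_1 D93825 (iv5 D43858) D43857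
theorem F144647 : act 7 n93825 = n43940 := d13_2 (iv7 F68953) D93825 (iv5 D43940)
def n93826 : Q := act 6 n43857
theorem D93826 : act 6 n43857 = n93826 := rfl
theorem F144648 : act 3 n93826 = n43859 := d7_1 D93826 (iv6 D43859) D43857
theorem F144649 : act 4 n93826 = n44800 := d10_1 D93826 (iv6 D44800) (iv4 F68952)
def n93827 : Q := act 4 n43858
theorem D93827 : act 4 n43858 = n93827 := rfl
theorem F144650 : act 2 n93827 = n43963 := d1_1 D93827 (iv4 D43963) (iv2 F68954)
theorem F144651 : act 5 n93827 = n93814 := d9_2 D43858 D93827 F144617 F136658 (iv4 D43855) (iv5 D20769) D20768 D43854 D93819 F144630 (iv4 D90770) (iv5 D42502) F31884 F15520 D20772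
theorem F144652 : act 7 n93827 = n43944 := d11_2 (iv7 F68955) D93827 (iv4 D43944)
theorem F144653 : act 1 n93827 = n88547 := d18_6 (iv1 F32924) F15534 (iv1 F15519) D20772 D43858 D93827 (iv4 D88547) (iv0 F68922) (iv5 D43846)
def n93828 : Q := act 6 n43858
theorem D93828 : act 6 n43858 = n93828 := rfl
theorem F144654 : act 2 n93828 = n43964 := d3_1 D93828 (iv6 D43964) (iv2 F68954)
def n93829 : Q := act 5 n43860
theorem D93829 : act 5 n43860 = n93829 := rfl
theorem F144655 : act 2 n93829 = n72940 := d2_1 D93829 F109447 (iv2 F68958)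
theorem F144656 : act 3 n93829 = n86508 := d6_1 D93829 F132703 F71559
theorem F144657 : act 4 n93829 = n73078 := d9_1 D93829 (iv5 F114937) F114935 F85786 (iv4 F52296) F52297 D43863 (iv5 F74236) (iv4 F90717) (iv5 F90718) (iv4 D32604) F24979 (iv4 F47733) (iv5 F47734) D43860
theorem F144658 : act 7 n93829 = n72941 := d13_2 F69344 D93829 F109450
theorem F144659 : act 0 n93829 = n58283 := d17_2 F72745 D93829 F92141 F73428 (iv5 F72752) (iv0 F85372) F85370 F64158 D46131
theorem F144660 : act 1 n93829 = n72942 := d17_6 (iv1 D20002) D20005 F47735 (iv5 F47734) D43860 D93829 F109454 (iv0 D46530) F34803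
def n93830 : Q := act 6 n43860
theorem D93830 : act 6 n43860 = n93830 := rfl
theorem F144661 : act 2 n93830 = n88804 := d3_1 D93830 (iv6 D88804) (iv2 F68958)
theorem F144662 : act 4 n93830 = n43861 := d10_1 D93830 (iv6 D43861) D43860
def n93831 : Q := act 0 n43861
theorem D93831 : act 0 n43861 = n93831 := rfl
def n93832 : Q := act 1 n43861
theorem D93832 : act 1 n43861 = n93832 := rfl
def n93833 : Q := act 7 n43861
theorem D93833 : act 7 n43861 = n93833 := rfl
def n93834 : Q := act 6 n43862
theorem D93834 : act 6 n43862 = n93834 := rfl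
theorem F144663 : act 3 n93834 = n43864 := d7_1 D93834 (iv6 D43864) D43862
theorem F144664 : act 4 n93834 = n45990 := d10_1 D93834 (iv6 D45990) (iv4 F68961)
def n93835 : Q := act 6 n43863
theorem D93835 : act 6 n43863 = n93835 := rfl
theorem F144665 : act 3 n93835 = n88590 := d7_1 D93835 (iv6 D88590) (iv3 F68963)
theorem F144666 : act 4 n93835 = n43864 := d10_1 D93835 (iv6 D43864) D43863
def n93836 : Q := act 0 n43864
theorem D93836 : act 0 n43864 = n93836 := rfl
def n93837 : Q := act 1 n43864
theorem D93837 : act 1 n43864 = n93837 := rfl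
def n93838 : Q := act 7 n43864
theorem D93838 : act 7 n43864 = n93838 := rfl
def n93839 : Q := act 2 n43865
theorem D93839 : act 2 n43865 = n93839 := rfl
theorem F144667 : act 7 n43866 = n93839 := d15_2 (iv0 D43865) D43866 (iv2 D93839)
def n93840 : Q := act 4 n43865
theorem D93840 : act 4 n43865 = n93840 := rfl
def n93841 : Q := act 5 n43865
theorem D93841 : act 5 n43865 = n93841 := rfl
def n93842 : Q := act 6 n43865
theorem D93842 : act 6 n43865 = n93842 := rfl
def n93843 : Q := act 7 n43865
theorem D93843 : act 7 n43865 = n93843 := rfl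
theorem F144668 : act 2 n93843 = n43866 := d4_1 D93843 F144667 (iv2 D93839)
def n93844 : Q := act 3 n43866
theorem D93844 : act 3 n43866 = n93844 := rfl
def n93845 : Q := act 4 n43866
theorem D93845 : act 4 n43866 = n93845 := rfl
theorem F144669 : act 3 n93845 = n88592 := d20_3 (iv4 F114567) (iv1 F114570) D93845 (iv1 D88592) F63690 F31127 D19470 D41351 D88602 (iv1 F136672)
def n93846 : Q := act 5 n43866
theorem D93846 : act 5 n43866 = n93846 := rfl
theorem F144670 : act 6 n54673 = n93846 := d21_5 (iv5 D26442) (iv1 D12620) D12621 D26444 D54673 (iv5 D93846) (iv1 D43866) (iv5 F55257) (iv6 D34911) (iv1 F42285)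
def n93847 : Q := act 6 n43866
theorem D93847 : act 6 n43866 = n93847 := rfl
def n93848 : Q := act 3 n43868
theorem D93848 : act 3 n43868 = n93848 := rfl
theorem F144671 : act 5 n93848 = n88475 := d6_2 (iv5 F68970) D93848 (iv3 D88475)
def n93849 : Q := act 6 n43868
theorem D93849 : act 6 n43868 = n93849 := rfl
theorem F144672 : act 2 n93849 = n88507 := d3_1 D93849 (iv6 D88507) F68971
def n93850 : Q := act 3 n43869
theorem D93850 : act 3 n43869 = n93850 := rfl
def n93851 : Q := act 6 n43870
theorem D93851 : act 6 n43870 = n93851 := rfl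
theorem F144673 : act 2 n93851 = n52988 := d3_1 D93851 F83717 F69400
theorem F144674 : act 7 n93851 = n52980 := d14_2 D43870 D93851 (iv6 D52980) (iv7 F55127) F55126
theorem F144675 : act 1 n52986 = n93851 := d15_1 D52986 F144674 F83704
theorem F144676 : act 1 n93851 = n52985 := d15_0 (iv0 D52985) D52988 (iv2 F144673)
def n93852 : Q := act 2 n43871
theorem D93852 : act 2 n43871 = n93852 := rfl
theorem F144677 : act 7 n43872 = n93852 := d15_2 (iv0 D43871) D43872 (iv2 D93852)
def n93853 : Q := act 3 n43871
theorem D93853 : act 3 n43871 = n93853 := rfl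
def n93854 : Q := act 5 n43871
theorem D93854 : act 5 n43871 = n93854 := rfl
def n93855 : Q := act 6 n43871
theorem D93855 : act 6 n43871 = n93855 := rfl
def n93856 : Q := act 7 n43871
theorem D93856 : act 7 n43871 = n93856 := rfl
theorem F144678 : act 2 n93856 = n43872 := d4_1 D93856 F144677 (iv2 D93852)
def n93857 : Q := act 5 n43872
theorem D93857 : act 5 n43872 = n93857 := rfl
def n93858 : Q := act 6 n43872
theorem D93858 : act 6 n43872 = n93858 := rfl
def n93859 : Q := act 0 n43873
theorem D93859 : act 0 n43873 = n93859 := rfl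
def n93860 : Q := act 1 n43873
theorem D93860 : act 1 n43873 = n93860 := rfl
def n93861 : Q := act 7 n43873
theorem D93861 : act 7 n43873 = n93861 := rfl
theorem F144679 : act 3 n93861 = n43878 := d8_1 D93861 (iv7 D43878) (iv3 F68975)
theorem F144680 : act 5 n93861 = n43874 := d13_1 D93861 (iv7 D43874) D43873
theorem F144681 : act 6 n93861 = n53002 := d14_1 D93861 (iv7 D53002) F40637 (iv7 F51811) (iv6 F68976)
def n93863 : Q := act 3 n43876
theorem D93863 : act 3 n43876 = n93863 := rfl
theorem F144683 : act 5 n93863 = n90457 := d6_2 F68980 D93863 F139218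
def n93864 : Q := act 6 n43876
theorem D93864 : act 6 n43876 = n93864 := rfl
theorem F144684 : act 5 n93864 = n90459 := d12_1 D93864 (iv6 D90459) (iv5 D42317) D42318 F68980
def n93865 : Q := act 3 n43877
theorem D93865 : act 3 n43877 = n93865 := rfl
def n93866 : Q := act 5 n43877
theorem D93866 : act 5 n43877 = n93866 := rfl
theorem F144685 : act 4 n93866 = n91112 := d16_2 D43877 D93866 F140154 F66892 F65034 (iv4 F33098) (iv5 F69374) (iv7 D44057) F33096
theorem F144686 : act 7 n91111 = n93866 := d11_0 F144685 (iv7 D91112) D91111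
def n93867 : Q := act 7 n43877
theorem D93867 : act 7 n43877 = n93867 := rfl
theorem F144687 : act 4 n93867 = n43878 := d11_1 D93867 (iv7 D43878) D43877
theorem F144688 : act 5 n93867 = n91111 := d13_1 D93867 F144686 (iv5 D93866)
theorem F144689 : act 1 n92510 = n93867 := d15_1 (iv0 F142435) (iv7 D93867) (iv2 F69372)
theorem F144690 : act 1 n93867 = n92507 := d15_1 F144689 F142426 (iv2 F142433)
def n93868 : Q := act 6 n43878
theorem D93868 : act 6 n43878 = n93868 := rfl
theorem F144691 : act 3 n93868 = n53002 := d7_1 D93868 (iv6 F144681) F144679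
theorem F144692 : act 5 n93868 = n52988 := d12_1 D93868 F83717 F69402 F33119 (iv5 F68981)
theorem F144693 : act 7 n93868 = n52987 := d14_2 D43878 D93868 F83715 F77545 F68287
def n93869 : Q := act 5 n43880
theorem D93869 : act 5 n43880 = n93869 := rfl
theorem F144694 : act 2 n93869 = n93780 := d2_1 D93869 (iv5 D93780) (iv2 F68983)
theorem F144695 : act 3 n93869 = n43882 := d6_1 D93869 (iv5 D43882) (iv3 F68984)
theorem F144696 : act 6 n93869 = n44016 := d12_2 D43880 D93869 (iv5 D44016) (iv6 D20899) (iv5 F32953)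
def n93870 : Q := act 5 n43881
theorem D93870 : act 5 n43881 = n93870 := rfl
theorem F144697 : act 2 n93870 = n44070 := d2_1 D93870 (iv5 D44070) F68988
theorem F144698 : act 3 n93870 = n54773 := d6_1 D93870 (iv5 D54773) F68989
theorem F144699 : act 7 n93870 = n44068 := d13_2 (iv7 F68987) D93870 (iv5 D44068)
def n93871 : Q := act 4 n43882
theorem D93871 : act 4 n43882 = n93871 := rfl
theorem F144701 : act 6 n93871 = n44024 := d10_2 (iv6 F68993) D93871 (iv4 D44024)
def n93872 : Q := act 7 n43882
theorem D93872 : act 7 n43882 = n93872 := rfl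
theorem F144702 : act 2 n93872 = n44075 := d4_1 D93872 (iv7 D44075) (iv2 F68992)
theorem F144703 : act 5 n93872 = n43883 := d13_1 D93872 (iv7 D43883) D43882
theorem F144704 : act 1 n44073 = n93872 := d15_1 D44073 (iv7 D93872) F68992
theorem F144705 : act 1 n93872 = n44072 := d15_1 F144704 (iv7 F139485) F139483
def n93873 : Q := act 5 n43884
theorem D93873 : act 5 n43884 = n93873 := rfl
theorem F144706 : act 2 n93873 = n52172 := d2_1 D93873 F82487 (iv2 F68999)
theorem F144707 : act 7 n93873 = n52167 := d13_2 (iv7 F69000) D93873 (iv5 D52167)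
theorem F144708 : act 0 n93873 = n52169 := d21_1 D93873 (iv5 F82482) (iv6 D35911) F37010 (iv6 D20398) (iv5 D9675) F7285 D10512 D22072 F69001
theorem F144709 : act 0 n52168 = n93873 := d21_1 (iv5 F139270) (iv5 D93873) (iv6 F83331) (iv1 F83332) F82924 D90428 (iv1 F139182) (iv5 D69726) F51391 D61276
def n93874 : Q := act 0 n43885
theorem D93874 : act 0 n43885 = n93874 := rfl
theorem F144710 : act 5 n93874 = n61282 := d21_2 D43885 D93874 F114363 (iv1 D43423) (iv6 D20532) F15226 (iv1 D4487) D4488 D9878 D20788
theorem F144711 : act 1 n43887 = n93874 := d15_0 (iv0 D93874) (iv7 F107879) F107877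
def n93875 : Q := act 1 n43885
theorem D93875 : act 1 n43885 = n93875 := rfl
theorem F144712 : act 1 n93875 = n43887 := d15_1 D93875 (iv7 F97665) F97663
theorem F144713 : act 5 n93875 = n61281 := d17_7 D61276 (iv5 F139270) F144709 (iv5 D93873) (iv4 D43884) D43885 D93875 (iv0 D61281) F46649
def n93876 : Q := act 4 n43885
theorem D93876 : act 4 n43885 = n93876 := rfl
def n93877 : Q := act 6 n43885
theorem D93877 : act 6 n43885 = n93877 := rfl
def n93878 : Q := act 4 n43887
theorem D93878 : act 4 n43887 = n93878 := rfl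
def n93879 : Q := act 6 n43887
theorem D93879 : act 6 n43887 = n93879 := rfl
theorem F144714 : act 3 n93879 = n48736 := d7_1 D93879 F76739 (iv3 F69008)
theorem F144715 : act 5 n93879 = n48733 := d12_1 D93879 (iv6 D48733) (iv5 D23766) (iv6 F65514) D43887
def n93880 : Q := act 4 n43888
theorem D93880 : act 4 n43888 = n93880 := rfl
def n93881 : Q := act 6 n43888
theorem D93881 : act 6 n43888 = n93881 := rfl
def n93882 : Q := act 4 n43889
theorem D93882 : act 4 n43889 = n93882 := rfl
def n93883 : Q := act 6 n43889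
theorem D93883 : act 6 n43889 = n93883 := rfl
theorem F144716 : act 3 n93883 = n61519 := d7_1 D93883 (iv6 D61519) (iv3 F83011)
def n93884 : Q := act 0 n43890
theorem D93884 : act 0 n43890 = n93884 := rfl
theorem F144717 : act 4 n93884 = n49304 := d18_3 (iv1 D43889) D43890 D93884 (iv5 D49304) F37664 (iv0 F114354) F114356 (iv0 D62613) F83010
def n93885 : Q := act 1 n43890
theorem D93885 : act 1 n43890 = n93885 := rfl
def n93886 : Q := act 3 n43890
theorem D93886 : act 3 n43890 = n93886 := rfl
theorem F144718 : act 6 n93886 = n43923 := d7_2 (iv6 F69009) D93886 (iv3 D43923)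
def n93887 : Q := act 5 n43890
theorem D93887 : act 5 n43890 = n93887 := rfl
def n93888 : Q := act 7 n43890
theorem D93888 : act 7 n43890 = n93888 := rfl
theorem F144719 : act 4 n93888 = n43891 := d11_1 D93888 (iv7 D43891) D43890
def n93889 : Q := act 6 n43891
theorem D93889 : act 6 n43891 = n93889 := rfl
theorem F144720 : act 7 n93889 = n43926 := d14_2 D43891 D93889 (iv6 D43926) (iv7 D20805) (iv6 F32957)
def n93890 : Q := act 2 n43892
theorem D93890 : act 2 n43892 = n93890 := rfl
theorem F144721 : act 7 n43893 = n93890 := d15_2 (iv0 D43892) D43893 (iv2 D93890)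
def n93891 : Q := act 3 n43892
theorem D93891 : act 3 n43892 = n93891 := rfl
theorem F144722 : act 4 n93891 = n44797 := d20_6 F31342 D19578 (iv4 F65917) D20793 D43892 D93891 (iv1 D44797) (iv4 F68952) (iv3 D43857) F65958
def n93892 : Q := act 4 n43892
theorem D93892 : act 4 n43892 = n93892 := rfl
def n93893 : Q := act 5 n43892
theorem D93893 : act 5 n43892 = n93893 := rfl
def n93894 : Q := act 6 n43892
theorem D93894 : act 6 n43892 = n93894 := rfl
def n93895 : Q := act 7 n43892
theorem D93895 : act 7 n43892 = n93895 := rfl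
theorem F144723 : act 2 n93895 = n43893 := d4_1 D93895 F144721 (iv2 D93890)
def n93896 : Q := act 3 n43893
theorem D93896 : act 3 n43893 = n93896 := rfl
theorem F144724 : act 4 n46317 = n93896 := d20_2 (iv4 F63030) D46317 (iv3 D93896) (iv1 D43893) (iv3 D20793) F65917 (iv1 F64144) (iv4 F67719) F69476 (iv1 D44139)
def n93897 : Q := act 4 n43893
theorem D93897 : act 4 n43893 = n93897 := rfl
theorem F144725 : act 3 n93897 = n88988 := d20_3 (iv4 F144599) (iv1 F144603) D93897 (iv1 D88988) (iv3 D41546) (iv4 D19562) (iv1 F14378) (iv4 F17034) (iv3 F34605) (iv1 F72928)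
def n93898 : Q := act 5 n43893
theorem D93898 : act 5 n43893 = n93898 := rfl
def n93900 : Q := act 5 n43894
theorem D93900 : act 5 n43894 = n93900 := rfl
theorem F144726 : act 2 n93900 = n43896 := d2_1 D93900 (iv5 D43896) D43894
def n93901 : Q := act 6 n43894
theorem D93901 : act 6 n43894 = n93901 := rfl
theorem F144727 : act 2 n93901 = n43897 := d3_1 D93901 (iv6 D43897) D43894
theorem F144728 : act 4 n93901 = n46285 := d10_1 D93901 (iv6 D46285) F69014
def n93902 : Q := act 5 n43895
theorem D93902 : act 5 n43895 = n93902 := rfl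
theorem F144729 : act 2 n93902 = n46284 := d2_1 D93902 (iv5 D46284) (iv2 F69013)
theorem F144730 : act 3 n93902 = n86942 := d6_1 D93902 (iv5 D86942) (iv3 F69011)
theorem F144731 : act 7 n93902 = n46286 := d13_2 (iv7 F69012) D93902 (iv5 D46286)
def n93903 : Q := act 0 n43896
theorem D93903 : act 0 n43896 = n93903 := rfl
def n93904 : Q := act 1 n43896
theorem D93904 : act 1 n43896 = n93904 := rfl
def n93905 : Q := act 4 n43896
theorem D93905 : act 4 n43896 = n93905 := rfl
def n93906 : Q := act 6 n43896
theorem D93906 : act 6 n43896 = n93906 := rfl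
theorem F144732 : act 3 n93906 = n43901 := d7_1 D93906 (iv6 D43901) (iv3 F69016)
def n93907 : Q := act 0 n43897
theorem D93907 : act 0 n43897 = n93907 := rfl
def n93908 : Q := act 1 n43897
theorem D93908 : act 1 n43897 = n93908 := rfl
def n93909 : Q := act 3 n43898
theorem D93909 : act 3 n43898 = n93909 := rfl
theorem F144733 : act 5 n93909 = n88521 := d6_2 (iv5 F69018) D93909 F135550
def n93910 : Q := act 4 n43898
theorem D93910 : act 4 n43898 = n93910 := rfl
theorem F144734 : act 2 n93910 = n88547 := d1_1 D93910 (iv4 D88547) F69020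
theorem F144735 : act 5 n93910 = n88547 := d16_1 D93910 (iv4 D88547) (iv5 D41333) F31121 (iv5 F31098) (iv4 F63641) F69023 F69022 F69020
theorem F144736 : act 0 n93910 = n43963 := d17_0 F69115 (iv1 F69049) (iv5 D43924) (iv4 D20804) (iv5 D9881) D9880 D20800 F69019 D93910
theorem F144737 : act 1 n93910 = n43944 := d18_6 (iv1 D42501) F31884 (iv1 F35608) (iv4 F63672) (iv5 F69018) D93910 (iv4 D43944) D43943 F69077
def n93911 : Q := act 6 n43898
theorem D93911 : act 6 n43898 = n93911 := rfl
theorem F144738 : act 2 n93911 = n88543 := d3_1 D93911 F135600 F69020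
theorem F144739 : act 5 n93911 = n88523 := d12_1 D93911 (iv6 D88523) (iv5 D41323) D41324 (iv5 F69018)
def n93912 : Q := act 4 n43899
theorem D93912 : act 4 n43899 = n93912 := rfl
theorem F144740 : act 7 n93912 = n88547 := d11_2 (iv7 F69022) D93912 (iv4 D88547)
theorem F144741 : act 0 n93912 = n43944 := d17_0 F69128 (iv1 D43922) D43924 F69043 F68934 F32927 D20795 D43899 D93912
theorem F144742 : act 1 n93912 = n43963 := d18_6 (iv1 F68945) (iv4 D43855) (iv1 F35612) (iv4 F63641) F69023 D93912 (iv4 D43963) F69075 F69074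
def n93913 : Q := act 6 n43899
theorem D93913 : act 6 n43899 = n93913 := rfl
theorem F144743 : act 5 n93913 = n88507 := d12_1 D93913 (iv6 D88507) (iv5 D41312) D41313 F69023
def n93914 : Q := act 0 n43900
theorem D93914 : act 0 n43900 = n93914 := rfl
theorem F144744 : act 4 n93914 = n92716 := d18_1 D93914 F142928 D93827 F144651 F144617 (iv0 D89020) D89021 F136662 F69042
theorem F144745 : act 1 n43909 = n93914 := d15_0 (iv0 D93914) (iv7 F144609) F144608
def n93915 : Q := act 1 n43900
theorem D93915 : act 1 n43900 = n93915 := rfl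
theorem F144746 : act 1 n93915 = n43909 := d15_1 D93915 (iv7 F144595) F144594
theorem F144747 : act 4 n93915 = n93818 := d18_7 F65958 F31342 D19578 (iv4 F65917) D20795 D43900 D93915 F144624 (iv5 D43858)
def n93916 : Q := act 3 n43900
theorem D93916 : act 3 n43900 = n93916 := rfl
def n93917 : Q := act 6 n43900
theorem D93917 : act 6 n43900 = n93917 := rfl
theorem F144748 : act 4 n93917 = n43901 := d10_1 D93917 (iv6 D43901) D43900
def n93918 : Q := act 0 n43901
theorem D93918 : act 0 n43901 = n93918 := rfl
def n93919 : Q := act 1 n43901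
theorem D93919 : act 1 n43901 = n93919 := rfl
def n93920 : Q := act 7 n43901
theorem D93920 : act 7 n43901 = n93920 := rfl
def n93921 : Q := act 2 n43903
theorem D93921 : act 2 n43903 = n93921 := rfl
theorem F144749 : act 7 n43904 = n93921 := d15_2 (iv0 D43903) D43904 (iv2 D93921)
def n93922 : Q := act 3 n43903
theorem D93922 : act 3 n43903 = n93922 := rfl
theorem F144750 : act 4 n93922 = n46079 := d20_6 F67719 (iv1 F64143) F65907 D20798 D43903 D93922 (iv1 D46079) (iv4 F68937) (iv3 D43853) (iv1 F67722)
def n93923 : Q := act 4 n43903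
theorem D93923 : act 4 n43903 = n93923 := rfl
def n93926 : Q := act 7 n43903
theorem D93926 : act 7 n43903 = n93926 := rfl
theorem F144751 : act 2 n93926 = n43904 := d4_1 D93926 F144749 (iv2 D93921)
def n93927 : Q := act 5 n43904
theorem D93927 : act 5 n43904 = n93927 := rfl
def n93928 : Q := act 6 n43904
theorem D93928 : act 6 n43904 = n93928 := rfl
def n93929 : Q := act 4 n43905
theorem D93929 : act 4 n43905 = n93929 := rfl
theorem F144752 : act 2 n93929 = n43906 := d1_1 D93929 (iv4 D43906) D43905
theorem F144753 : act 7 n93929 = n44826 := d11_2 F144581 D93929 (iv4 F144580)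
theorem F144755 : act 3 n44852 = n93929 := d0_0 F144752 F69029 F63385 D21373 D44852
theorem F144756 : act 1 n93929 = n44824 := d15_0 (iv0 D44824) (iv7 F69030) (iv2 F144752)
def n93930 : Q := act 5 n43905
theorem D93930 : act 5 n43905 = n93930 := rfl
theorem F144757 : act 2 n93930 = n43907 := d2_1 D93930 (iv5 D43907) D43905
def n93931 : Q := act 6 n43905
theorem D93931 : act 6 n43905 = n93931 := rfl
theorem F144758 : act 2 n93931 = n43908 := d3_1 D93931 (iv6 D43908) D43905
def n93932 : Q := act 0 n43906
theorem D93932 : act 0 n43906 = n93932 := rfl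
theorem F144759 : act 4 n93932 = n44118 := d20_0 (iv1 D44118) (iv4 F69448) (iv3 D44107) F33140 F16478 F16013 (iv1 F15988) D21243 (iv3 F69029) D93932
theorem F144760 : act 1 n44826 = n93932 := d15_0 (iv0 D93932) F69030 D44826
def n93933 : Q := act 1 n43906
theorem D93933 : act 1 n43906 = n93933 := rfl
theorem F144761 : act 1 n93933 = n44826 := d15_1 D93933 (iv7 F144753) F144752
theorem F144762 : act 4 n44117 = n93933 := d20_0 (iv1 D93933) (iv4 D43906) (iv3 D20798) (iv1 D9880) (iv3 F6603) F6604 D4542 D9955 D20966 D44117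
theorem F144763 : act 3 n43937 = n44117 := d20_5 F6512 D4490 D9885 D20821 D43937 F144762 (iv1 D93933) (iv4 D43906) (iv3 D20798) (iv1 D9880)
def n93934 : Q := act 5 n43906
theorem D93934 : act 5 n43906 = n93934 := rfl
theorem F144764 : act 3 n93934 = n44634 := d6_1 D93934 (iv5 D44634) (iv3 F69029)
theorem F144765 : act 7 n93934 = n44827 := d13_2 (iv7 F69030) D93934 (iv5 D44827)
def n93935 : Q := act 0 n43907
theorem D93935 : act 0 n43907 = n93935 := rfl
def n93936 : Q := act 1 n43907
theorem D93936 : act 1 n43907 = n93936 := rfl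
def n93937 : Q := act 4 n43907
theorem D93937 : act 4 n43907 = n93937 := rfl
def n93938 : Q := act 6 n43907
theorem D93938 : act 6 n43907 = n93938 := rfl
theorem F144766 : act 3 n93938 = n43910 := d7_1 D93938 (iv6 D43910) (iv3 F69031)
def n93939 : Q := act 0 n43908
theorem D93939 : act 0 n43908 = n93939 := rfl
def n93940 : Q := act 1 n43908
theorem D93940 : act 1 n43908 = n93940 := rfl
def n93941 : Q := act 5 n43908
theorem D93941 : act 5 n43908 = n93941 := rfl
theorem F144767 : act 3 n93941 = n43913 := d6_1 D93941 (iv5 D43913) (iv3 F69032)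
def n93942 : Q := act 7 n43908
theorem D93942 : act 7 n43908 = n93942 := rfl
theorem F144768 : act 3 n93942 = n43914 := d8_1 D93942 (iv7 D43914) (iv3 F69032)
def n93943 : Q := act 3 n43909
theorem D93943 : act 3 n43909 = n93943 := rfl
def n93944 : Q := act 6 n43909
theorem D93944 : act 6 n43909 = n93944 := rfl
theorem F144769 : act 4 n93944 = n43910 := d10_1 D93944 (iv6 D43910) D43909
def n93945 : Q := act 0 n43910
theorem D93945 : act 0 n43910 = n93945 := rfl
def n93946 : Q := act 1 n43910
theorem D93946 : act 1 n43910 = n93946 := rfl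
def n93947 : Q := act 5 n43910
theorem D93947 : act 5 n43910 = n93947 := rfl
theorem F144770 : act 6 n93947 = n43913 := d12_2 D43910 D93947 (iv5 D43913) (iv6 D20801) D20800
def n93948 : Q := act 7 n43910
theorem D93948 : act 7 n43910 = n93948 := rfl
def n93949 : Q := act 4 n43913
theorem D93949 : act 4 n43913 = n93949 := rfl
theorem F144771 : act 0 n93949 = n92745 := d18_2 F69038 D93949 (iv4 D92745) (iv5 D43386) F66505 (iv0 F66798) F33049 (iv0 F66787) D42317
theorem F144772 : act 1 n93949 = n92738 := d18_6 (iv1 F69121) (iv4 F67713) (iv1 F69035) F65912 D43913 D93949 (iv4 D92738) D92737 F142995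
def n93950 : Q := act 0 n43915
theorem D93950 : act 0 n43915 = n93950 := rfl
def n93951 : Q := act 1 n43915
theorem D93951 : act 1 n43915 = n93951 := rfl
def n93952 : Q := act 2 n43915
theorem D93952 : act 2 n43915 = n93952 := rfl
def n93953 : Q := act 4 n43915
theorem D93953 : act 4 n43915 = n93953 := rfl
def n93954 : Q := act 6 n43915
theorem D93954 : act 6 n43915 = n93954 := rfl
theorem F144773 : act 3 n93954 = n43917 := d7_1 D93954 (iv6 D43917) D43915
def n93955 : Q := act 0 n43916
theorem D93955 : act 0 n43916 = n93955 := rfl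
theorem F144774 : act 5 n93955 = n89021 := d17_1 D93955 F136661 F69041 (iv4 D43909) (iv5 D20800) F32925 (iv5 F68934) F68936 D43916
theorem F144775 : act 4 n93955 = n90769 := d18_1 D93955 (iv1 D90769) D90770 (iv5 F144630) (iv4 D93819) D93818 (iv4 F144747) F144746 (iv5 F69041)
theorem F144776 : act 1 n43919 = n93955 := d15_0 (iv0 D93955) (iv7 F139557) F139556
theorem F144777 : act 7 n93955 = n92418 := d15_2 F136662 F144776 F142142
def n93956 : Q := act 3 n43916
theorem D93956 : act 3 n43916 = n93956 := rfl
theorem F144778 : act 5 n93956 = n93943 := d6_2 (iv5 F69041) D93956 (iv3 D93943)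
def n93957 : Q := act 6 n43916
theorem D93957 : act 6 n43916 = n93957 := rfl
theorem F144779 : act 4 n93957 = n43917 := d10_1 D93957 (iv6 D43917) D43916
def n93958 : Q := act 0 n43917
theorem D93958 : act 0 n43917 = n93958 := rfl
def n93959 : Q := act 1 n43917
theorem D93959 : act 1 n43917 = n93959 := rfl
def n93960 : Q := act 5 n43917
theorem D93960 : act 5 n43917 = n93960 := rfl
theorem F144780 : act 6 n93960 = n89767 := d12_2 D43917 D93960 F137760 F135494 F65920
def n93961 : Q := act 7 n43917
theorem D93961 : act 7 n43917 = n93961 := rfl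
def n93962 : Q := act 0 n43918
theorem D93962 : act 0 n43918 = n93962 := rfl
def n93963 : Q := act 1 n43918
theorem D93963 : act 1 n43918 = n93963 := rfl
def n93964 : Q := act 2 n43918
theorem D93964 : act 2 n43918 = n93964 := rfl
def n93965 : Q := act 4 n43918
theorem D93965 : act 4 n43918 = n93965 := rfl
def n93966 : Q := act 6 n43918
theorem D93966 : act 6 n43918 = n93966 := rfl
theorem F144781 : act 3 n93966 = n43920 := d7_1 D93966 (iv6 D43920) D43918
def n93967 : Q := act 3 n43919
theorem D93967 : act 3 n43919 = n93967 := rfl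
theorem F144782 : act 5 n93967 = n93916 := d6_2 (iv5 F69042) D93967 (iv3 D93916)
def n93968 : Q := act 6 n43919
theorem D93968 : act 6 n43919 = n93968 := rfl
theorem F144783 : act 4 n93968 = n43920 := d10_1 D93968 (iv6 D43920) D43919
def n93969 : Q := act 0 n43920
theorem D93969 : act 0 n43920 = n93969 := rfl
def n93970 : Q := act 1 n43920
theorem D93970 : act 1 n43920 = n93970 := rfl
def n93971 : Q := act 7 n43920
theorem D93971 : act 7 n43920 = n93971 := rfl
def n93972 : Q := act 3 n43921
theorem D93972 : act 3 n43921 = n93972 := rfl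
def n93973 : Q := act 6 n43921
theorem D93973 : act 6 n43921 = n93973 := rfl
def n93974 : Q := act 3 n43922
theorem D93974 : act 3 n43922 = n93974 := rfl
def n93975 : Q := act 6 n43922
theorem D93975 : act 6 n43922 = n93975 := rfl
def n93976 : Q := act 0 n43923
theorem D93976 : act 0 n43923 = n93976 := rfl
def n93977 : Q := act 1 n43923
theorem D93977 : act 1 n43923 = n93977 := rfl
def n93978 : Q := act 2 n43923
theorem D93978 : act 2 n43923 = n93978 := rfl
def n93979 : Q := act 5 n43923
theorem D93979 : act 5 n43923 = n93979 := rfl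
theorem F144784 : act 3 n93979 = n43924 := d6_1 D93979 (iv5 D43924) D43923
theorem F144785 : act 7 n93815 = n93979 := d8_0 F144784 F69044 D93815
def n93980 : Q := act 7 n43923
theorem D93980 : act 7 n43923 = n93980 := rfl
theorem F144786 : act 3 n93980 = n43925 := d8_1 D93980 (iv7 D43925) D43923
theorem F144787 : act 5 n93980 = n93815 := d13_1 D93980 F144785 (iv5 D93979)
def n93981 : Q := act 6 n43924
theorem D93981 : act 6 n43924 = n93981 := rfl
theorem F144788 : act 4 n93981 = n93816 := d10_1 D93981 (iv6 D93816) (iv4 F69043)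
def n93982 : Q := act 6 n43925
theorem D93982 : act 6 n43925 = n93982 := rfl
theorem F144789 : act 2 n93982 = n93981 := d3_1 D93982 (iv6 D93981) (iv2 F69046)
theorem F144790 : act 4 n93982 = n43926 := d10_1 D93982 (iv6 D43926) (iv4 F69047)
def n93983 : Q := act 0 n43926
theorem D93983 : act 0 n43926 = n93983 := rfl
def n93984 : Q := act 1 n43926
theorem D93984 : act 1 n43926 = n93984 := rfl
def n93985 : Q := act 0 n43928
theorem D93985 : act 0 n43928 = n93985 := rfl
theorem F144791 : act 1 n44798 = n93985 := d15_0 (iv0 D93985) F69054 D44798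
def n93986 : Q := act 1 n43928
theorem D93986 : act 1 n43928 = n93986 := rfl
def n93987 : Q := act 2 n43928
theorem D93987 : act 2 n43928 = n93987 := rfl
theorem F144792 : act 3 n93987 = n44787 := d0_2 D43928 D93987 (iv2 D44787) (iv3 D21327) (iv2 F35768)
theorem F144793 : act 4 n93987 = n43939 := d1_2 (iv4 F69053) D93987 (iv2 D43939)
theorem F144794 : act 7 n93987 = n44798 := d4_2 (iv7 F69054) D93987 (iv2 D44798)
theorem F144795 : act 1 n93987 = n44796 := d15_0 (iv0 D44796) (iv7 F69054) D93987
theorem F144796 : act 1 n93986 = n44798 := d15_1 D93986 (iv7 F144794) (iv2 D93987)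
theorem F144797 : act 4 n44086 = n44796 := d20_0 (iv1 F144795) F144793 (iv3 F142357) (iv1 F142360) (iv3 F69110) F65048 (iv1 F34538) (iv4 F62869) D20943 D44086
theorem F144798 : act 1 n44797 = n93987 := d15_1 D44797 F144794 (iv2 D44798)
theorem E14723 : n93891 = n44087 := (c20_1 (iv4 F144722) (iv1 D44087) D44089 F69436 F63063 (iv3 F61809) F61810 D40751 (iv4 F70361) (iv3 F144792) (iv1 F144798))
theorem F144799 : act 3 n44087 = n43892 := (sb E14723 (iv3 D93891))
theorem F144800 : act 4 n44087 = n44797 := (sb E14723 F144722)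
theorem F144801 : act 3 n45452 = n44797 := d20_5 F30854 D19208 (iv4 F62906) D21686 D45452 (iv4 F144800) (iv1 D44087) D44089 F69436 F63063
def n93988 : Q := act 5 n43928
theorem D93988 : act 5 n43928 = n93988 := rfl
theorem F144803 : act 7 n93988 = n44799 := d13_2 (iv7 F69054) D93988 (iv5 D44799)
def n93989 : Q := act 6 n43928
theorem D93989 : act 6 n43928 = n93989 := rfl
theorem F144804 : act 3 n93989 = n43930 := d7_1 D93989 (iv6 D43930) D43928
theorem F144805 : act 4 n93989 = n43941 := d10_1 D93989 (iv6 D43941) (iv4 F69053)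
theorem F144806 : act 5 n48066 = n93989 := d6_0 F144804 F69060 D48066
def n93990 : Q := act 1 n43929
theorem D93990 : act 1 n43929 = n93990 := rfl
theorem F144807 : act 1 n93990 = n44623 := d15_1 D93990 F70154 (iv2 F69055)
theorem F144808 : act 7 n93990 = n44790 := d15_2 (iv0 F69057) D93990 (iv2 F70368)
theorem F144809 : act 5 n93990 = n44836 := d17_7 (iv1 F66276) F66275 (iv1 F66290) (iv5 D20816) D20815 D43929 D93990 F70420 (iv4 F66251)
def n93991 : Q := act 4 n43929
theorem D93991 : act 4 n43929 = n93991 := rfl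
theorem F144811 : act 2 n93991 = n44792 := d1_1 D93991 (iv4 D44792) (iv2 F69055)
theorem F144812 : act 7 n93991 = n44801 := d11_2 (iv7 F69056) D93991 (iv4 D44801)
def n93992 : Q := act 6 n43929
theorem D93992 : act 6 n43929 = n93992 := rfl
theorem F144814 : act 5 n93992 = n48068 := d12_1 D93992 (iv6 D48068) (iv5 F69060) (iv6 D43930) D43929
def n93993 : Q := act 3 n43931
theorem D93993 : act 3 n43931 = n93993 := rfl
theorem F144815 : act 4 n93993 = n43950 := d5_2 D43931 D93993 (iv3 D43950) (iv4 D20827) (iv3 F32973)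
theorem F144816 : act 7 n93993 = n48473 := d8_2 (iv7 F69063) D93993 (iv3 D48473)
def n93994 : Q := act 0 n43935
theorem D93994 : act 0 n43935 = n93994 := rfl
theorem F144817 : act 3 n93994 = n93789 := d20_5 (iv4 F32926) (iv1 F65823) (iv4 F65790) D43935 D93994 (iv4 D93789) (iv1 D43840) F32917 F32916 D20762
theorem F144818 : act 1 n89015 = n93994 := d15_0 (iv0 D93994) F69070 (iv2 F136652)
def n93995 : Q := act 1 n43935
theorem D93995 : act 1 n43935 = n93995 := rfl
theorem F144819 : act 4 n89165 = n93995 := d20_6 F66244 (iv1 D19155) (iv4 F14412) (iv3 F31385) D41653 D89165 (iv1 D93995) F69069 F64182 (iv1 F31369)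
theorem F144820 : act 0 n89015 = n93995 := d20_7 F136859 (iv1 F134133) D87377 (iv3 F134151) (iv1 D46032) (iv3 F64179) (iv4 F136654) (iv4 F144819) (iv3 D89165) (iv1 F136862)
def n93996 : Q := act 2 n43935
theorem D93996 : act 2 n43935 = n93996 := rfl
theorem F144821 : act 3 n93996 = n90242 := d0_2 D43935 D93996 F138806 (iv3 F69476) F67718
theorem F144822 : act 4 n93996 = n89029 := d1_2 (iv4 F69069) D93996 F136696
theorem F144823 : act 7 n93996 = n89015 := d4_2 (iv7 F69070) D93996 F136652
theorem F144824 : act 1 n93996 = n89016 := d15_0 (iv0 D89016) (iv7 F69070) D93996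
theorem F144825 : act 1 n89017 = n93996 := d15_1 D89017 F144823 F136652
def n93997 : Q := act 5 n43935
theorem D93997 : act 5 n43935 = n93997 := rfl
theorem F144826 : act 3 n93997 = n43936 := d6_1 D93997 (iv5 D43936) D43935
theorem F144827 : act 7 n93997 = n89018 := d13_2 (iv7 F69070) D93997 (iv5 D89018)
def n93998 : Q := act 4 n43936
theorem D93998 : act 4 n43936 = n93998 := rfl
theorem F144828 : act 2 n93998 = n93955 := d1_1 D93998 F144775 (iv2 F139695)
theorem F144829 : act 7 n93998 = n89021 := d11_2 (iv7 F69071) D93998 (iv4 D89021)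
theorem F144830 : act 5 n93998 = n92418 := d16_1 D93998 (iv4 D92418) (iv5 D43225) F32385 F31335 (iv4 F32385) D43225 (iv7 F139693) (iv2 F139695)
theorem F144831 : act 0 n93998 = n90644 := d18_2 F69091 D93998 (iv4 D90644) (iv5 D42436) (iv4 F65548) (iv0 F65860) (iv4 F69085) (iv0 D43949) D43951
theorem F144832 : act 1 n93998 = n93812 := d18_6 D20762 (iv4 F32926) (iv1 F65823) (iv4 F65790) D43936 D93998 (iv4 D93812) (iv0 D43850) (iv5 D20764)
def n93999 : Q := act 6 n43936
theorem D93999 : act 6 n43936 = n93999 := rfl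
def n94000 : Q := act 2 n43937
theorem D94000 : act 2 n43937 = n94000 := rfl
theorem F144833 : act 7 n43938 = n94000 := d15_2 (iv0 D43937) D43938 (iv2 D94000)
def n94001 : Q := act 4 n43937
theorem D94001 : act 4 n43937 = n94001 := rfl
def n94002 : Q := act 5 n43937
theorem D94002 : act 5 n43937 = n94002 := rfl
def n94003 : Q := act 6 n43937
theorem D94003 : act 6 n43937 = n94003 := rfl
def n94004 : Q := act 7 n43937
theorem D94004 : act 7 n43937 = n94004 := rfl
theorem F144835 : act 2 n94004 = n43938 := d4_1 D94004 F144833 (iv2 D94000)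
def n94005 : Q := act 3 n43938
theorem D94005 : act 3 n43938 = n94005 := rfl
def n94006 : Q := act 4 n43938
theorem D94006 : act 4 n43938 = n94006 := rfl
theorem F144836 : act 0 n44089 = n94006 := d20_10 (iv4 D94006) (iv1 D43938) (iv4 F69053) (iv3 D43928) F32970 (iv3 F16478) F16479 (iv1 F16280) D21533 (iv3 F69436)
theorem F144837 : act 3 n93932 = n94006 := d20_5 F16013 (iv1 F15988) D21243 (iv3 F69029) D93932 (iv4 D94006) (iv1 D43938) (iv4 F69053) (iv3 D43928) F32970
theorem F144838 : act 0 n94005 = n93784 := d20_10 (iv4 D93784) (iv1 F69264) F69260 F69259 (iv1 F33064) D20943 D44089 F144836 (iv4 D94006) D94005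
theorem F144839 : act 1 n45494 = n94006 := d15_0 (iv0 F144836) F69437 D45494
def n94009 : Q := act 5 n43939
theorem D94009 : act 5 n43939 = n94009 := rfl
theorem F144840 : act 2 n94009 = n43940 := d2_1 D94009 (iv5 D43940) D43939
def n94010 : Q := act 6 n43939
theorem D94010 : act 6 n43939 = n94010 := rfl
theorem F144841 : act 2 n94010 = n43941 := d3_1 D94010 (iv6 D43941) D43939
def n94011 : Q := act 0 n43940
theorem D94011 : act 0 n43940 = n94011 := rfl
def n94012 : Q := act 1 n43940
theorem D94012 : act 1 n43940 = n94012 := rfl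
def n94013 : Q := act 4 n43940
theorem D94013 : act 4 n43940 = n94013 := rfl
def n94014 : Q := act 6 n43940
theorem D94014 : act 6 n43940 = n94014 := rfl
theorem F144842 : act 3 n94014 = n43945 := d7_1 D94014 (iv6 D43945) (iv3 F69072)
def n94015 : Q := act 0 n43941
theorem D94015 : act 0 n43941 = n94015 := rfl
def n94016 : Q := act 1 n43941
theorem D94016 : act 1 n43941 = n94016 := rfl
def n94017 : Q := act 5 n43941
theorem D94017 : act 5 n43941 = n94017 := rfl
theorem F144843 : act 3 n94017 = n43947 := d6_1 D94017 (iv5 D43947) (iv3 F69073)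
def n94018 : Q := act 3 n43942
theorem D94018 : act 3 n43942 = n94018 := rfl
theorem F144844 : act 5 n94018 = n47573 := d6_2 (iv5 F69074) D94018 F74813
def n94019 : Q := act 4 n43942
theorem D94019 : act 4 n43942 = n94019 := rfl
theorem F144845 : act 2 n94019 = n93914 := d1_1 D94019 F144744 F142926
theorem F144846 : act 7 n94019 = n93915 := d11_2 F144625 D94019 F144747
theorem F144847 : act 5 n94019 = n93914 := d16_1 D94019 F144744 (iv5 D92716) F68119 D47568 F74807 (iv5 F69077) (iv7 F142927) F142926
theorem F144848 : act 0 n94019 = n93809 := d17_0 (iv5 F144613) (iv1 F144832) F144830 (iv4 D92418) (iv5 D43225) F65890 D20841 F69075 D94019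
theorem F144849 : act 1 n94019 = n93803 := d18_6 F69083 (iv4 F65928) (iv1 D22878) (iv4 F35574) (iv5 F69074) D94019 (iv4 D93803) D93802 F144592
def n94020 : Q := act 6 n43942
theorem D94020 : act 6 n43942 = n94020 := rfl
theorem F144850 : act 5 n94020 = n47577 := d12_1 D94020 (iv6 D47577) (iv5 D22872) D22873 (iv5 F69074)
def n94021 : Q := act 3 n43943
theorem D94021 : act 3 n43943 = n94021 := rfl
theorem F144851 : act 5 n94021 = n90768 := d6_2 (iv5 F69077) D94021 (iv3 D90768)
def n94022 : Q := act 4 n43943
theorem D94022 : act 4 n43943 = n94022 := rfl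
theorem F144852 : act 2 n94022 = n93915 := d1_1 D94022 F144747 (iv2 F144627)
theorem F144853 : act 5 n94022 = n93915 := d9_2 (iv5 F69077) D94022 F144747 F144626 F69085 (iv5 D22879) (iv4 F35574) (iv5 F69074) D94019 F144847 F144744 (iv5 D92716) F68119 D47568 F74807
theorem F144854 : act 7 n94022 = n93914 := d11_2 F142927 D94022 F144744
theorem F144855 : act 0 n94022 = n93803 := d17_0 F144596 (iv1 F142143) (iv5 F144830) (iv4 D93998) (iv5 D43936) (iv0 D20819) D20822 D43943 D94022
theorem F144856 : act 1 n94022 = n93809 := d18_6 D41331 (iv4 F65919) F74809 F74807 (iv5 F69077) D94022 (iv4 D93809) F68927 (iv5 D41333)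
def n94023 : Q := act 6 n43943
theorem D94023 : act 6 n43943 = n94023 := rfl
theorem F144857 : act 5 n94023 = n90255 := d12_1 D94023 (iv6 D90255) (iv5 F68398) (iv6 F68401) (iv5 F69077)
def n94024 : Q := act 3 n43944
theorem D94024 : act 3 n43944 = n94024 := rfl
theorem F144858 : act 5 n94024 = n93974 := d6_2 (iv5 F69128) D94024 (iv3 D93974)
def n94025 : Q := act 6 n43944
theorem D94025 : act 6 n43944 = n94025 := rfl
theorem F144859 : act 4 n94025 = n43945 := d10_1 D94025 (iv6 D43945) D43944
def n94026 : Q := act 0 n43945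
theorem D94026 : act 0 n43945 = n94026 := rfl
def n94027 : Q := act 1 n43945
theorem D94027 : act 1 n43945 = n94027 := rfl
def n94028 : Q := act 5 n43945
theorem D94028 : act 5 n43945 = n94028 := rfl
theorem F144860 : act 6 n94028 = n43947 := d12_2 D43945 D94028 (iv5 D43947) (iv6 D20823) D20822
def n94029 : Q := act 7 n43945
theorem D94029 : act 7 n43945 = n94029 := rfl
def n94030 : Q := act 3 n43946
theorem D94030 : act 3 n43946 = n94030 := rfl
theorem F144861 : act 5 n94030 = n92974 := d6_2 (iv5 F69487) D94030 (iv3 D92974)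
theorem F144862 : act 7 n94030 = n90136 := d8_2 (iv7 F69078) D94030 F138585
theorem F144863 : act 0 n94030 = n90868 := d20_4 (iv4 F74022) (iv1 F74023) F70401 D94030 (iv3 D90868) (iv4 D42562) F65127 (iv4 F61526) (iv3 F64680) (iv1 F68318)
def n94031 : Q := act 3 n43948
theorem D94031 : act 3 n43948 = n94031 := rfl
theorem F144865 : act 6 n94031 = n88475 := d7_2 (iv6 F69081) D94031 (iv3 D88475)
theorem F144866 : act 7 n94031 = n88521 := d8_2 (iv7 F69082) D94031 F135550
def n94032 : Q := act 3 n43949
theorem D94032 : act 3 n43949 = n94032 := rfl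
theorem F144867 : act 4 n94032 = n47592 := d5_2 (iv4 F69085) D94032 F74847 F35957 (iv3 F35576)
theorem F144868 : act 7 n94032 = n47573 := d8_2 (iv7 F69088) D94032 F74813
def n94033 : Q := act 0 n43950
theorem D94033 : act 0 n43950 = n94033 := rfl
theorem F144869 : act 1 n90748 = n94033 := d15_0 (iv0 D94033) F69089 (iv2 F139677)
def n94034 : Q := act 1 n43950
theorem D94034 : act 1 n43950 = n94034 := rfl
def n94035 : Q := act 2 n43950
theorem D94035 : act 2 n43950 = n94035 := rfl
theorem F144870 : act 7 n94035 = n90748 := d4_2 (iv7 F69089) D94035 F139677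
theorem F144871 : act 1 n94035 = n90753 := d15_0 (iv0 D90753) (iv7 F69089) D94035
theorem F144872 : act 1 n94034 = n90748 := d15_1 D94034 (iv7 F144870) (iv2 D94035)
theorem F144873 : act 1 n90754 = n94035 := d15_1 D90754 F144870 F139677
def n94036 : Q := act 5 n43950
theorem D94036 : act 5 n43950 = n94036 := rfl
theorem F144874 : act 3 n94036 = n43951 := d6_1 D94036 (iv5 D43951) D43950
theorem F144875 : act 7 n94036 = n90755 := d13_2 (iv7 F69089) D94036 (iv5 D90755)
def n94037 : Q := act 6 n43950
theorem D94037 : act 6 n43950 = n94037 := rfl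
theorem F144876 : act 3 n94037 = n43952 := d7_1 D94037 (iv6 D43952) D43950
theorem F144877 : act 7 n94037 = n90344 := d14_2 (iv7 F69089) D94037 (iv6 D90344) F65228 D42496
def n94038 : Q := act 6 n43951
theorem D94038 : act 6 n43951 = n94038 := rfl
theorem F144878 : act 4 n94038 = n93973 := d10_1 D94038 (iv6 D93973) (iv4 F69093)
def n94039 : Q := act 3 n43954
theorem D94039 : act 3 n43954 = n94039 := rfl
theorem F144880 : act 5 n94039 = n81425 := d6_2 (iv5 F74586) D94039 F125251
theorem F144881 : act 6 n94039 = n44114 := d7_2 F139757 D94039 (iv3 F139753)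
theorem F144883 : act 0 n94039 = n89860 := d20_4 (iv4 F33632) (iv1 F72164) F74590 D94039 F137928 (iv4 F142243) (iv1 D92455) F67764 F63951 F65755
theorem F144884 : act 4 n94039 = n44857 := d20_6 (iv4 F67764) F135490 F32995 (iv3 F32994) D43954 D94039 (iv1 F137889) (iv4 D89832) (iv3 F136289) (iv1 D88871)
theorem F144885 : act 0 n82480 = n94039 := d20_4 (iv4 F63963) F72662 (iv4 F66279) (iv3 F127099) (iv3 D94039) (iv4 F74590) (iv1 F136237) F136239 F65787 (iv1 D41494)
def n94040 : Q := act 5 n43959
theorem D94040 : act 5 n43959 = n94040 := rfl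
theorem F144886 : act 3 n94040 = n90108 := d6_1 D94040 F138550 F69110
theorem F144887 : act 7 n94040 = n90103 := d13_2 (iv7 F69111) D94040 (iv5 D90103)
def n94041 : Q := act 5 n43960
theorem D94041 : act 5 n43960 = n94041 := rfl
theorem F144888 : act 2 n94041 = n43961 := d2_1 D94041 (iv5 D43961) D43960
def n94042 : Q := act 6 n43960
theorem D94042 : act 6 n43960 = n94042 := rfl
theorem F144889 : act 2 n94042 = n43962 := d3_1 D94042 (iv6 D43962) D43960
def n94043 : Q := act 0 n43961
theorem D94043 : act 0 n43961 = n94043 := rfl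
def n94044 : Q := act 1 n43961
theorem D94044 : act 1 n43961 = n94044 := rfl
def n94045 : Q := act 4 n43961
theorem D94045 : act 4 n43961 = n94045 := rfl
def n94046 : Q := act 6 n43961
theorem D94046 : act 6 n43961 = n94046 := rfl
theorem F144890 : act 3 n94046 = n43964 := d7_1 D94046 (iv6 D43964) (iv3 F69113)
def n94047 : Q := act 0 n43962
theorem D94047 : act 0 n43962 = n94047 := rfl
def n94048 : Q := act 5 n43962
theorem D94048 : act 5 n43962 = n94048 := rfl
theorem F144891 : act 3 n94048 = n43967 := d6_1 D94048 (iv5 D43967) (iv3 F69114)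
theorem F144892 : act 0 n88197 = n94048 := d21_1 D88197 (iv5 D94048) (iv6 D43962) (iv1 F69112) (iv6 D43271) (iv5 F65399) (iv1 F65402) (iv5 F41583) D43376 F73768
def n94049 : Q := act 7 n43962
theorem D94049 : act 7 n43962 = n94049 := rfl
theorem F144893 : act 3 n94049 = n43968 := d8_1 D94049 (iv7 D43968) (iv3 F69114)
def n94050 : Q := act 3 n43963
theorem D94050 : act 3 n43963 = n94050 := rfl
theorem F144894 : act 5 n94050 = n93972 := d6_2 (iv5 F69115) D94050 (iv3 D93972)
def n94051 : Q := act 6 n43963
theorem D94051 : act 6 n43963 = n94051 := rfl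
theorem F144895 : act 4 n94051 = n43964 := d10_1 D94051 (iv6 D43964) D43963
def n94052 : Q := act 0 n43964
theorem D94052 : act 0 n43964 = n94052 := rfl
def n94053 : Q := act 1 n43964
theorem D94053 : act 1 n43964 = n94053 := rfl
def n94054 : Q := act 5 n43964
theorem D94054 : act 5 n43964 = n94054 := rfl
theorem F144896 : act 6 n94054 = n43967 := d12_2 D43964 D94054 (iv5 D43967) (iv6 D20842) D20841
def n94055 : Q := act 7 n43964
theorem D94055 : act 7 n43964 = n94055 := rfl
def n94056 : Q := act 3 n43965
theorem D94056 : act 3 n43965 = n94056 := rfl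
theorem F144897 : act 5 n94056 = n68857 := d6_2 (iv5 F69116) D94056 (iv3 F142375)
theorem F144898 : act 7 n94056 = n90250 := d8_2 F69117 D94056 F138817
theorem F144899 : act 0 n94056 = n93032 := d20_4 (iv4 F72353) (iv1 F142138) F142134 D94056 (iv3 D93032) (iv4 D43528) (iv1 F35807) D40440 F61527 (iv1 F75903)
theorem F144900 : act 1 n92490 = n93032 := d15_0 (iv0 F144899) F144898 (iv2 F142369)
def n94057 : Q := act 4 n43967
theorem D94057 : act 4 n43967 = n94057 := rfl
theorem F144901 : act 0 n94057 = n48312 := d18_2 (iv1 F69118) D94057 (iv4 D48312) (iv5 D23477) (iv4 D11003) (iv0 F66487) (iv4 F32588) F32592 D42291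
theorem F144902 : act 1 n94057 = n90458 := d18_6 (iv1 D92474) F67789 F35811 (iv4 F32995) D43967 D94057 (iv4 D90458) F75933 (iv5 F142296)
def n94058 : Q := act 0 n43969
theorem D94058 : act 0 n43969 = n94058 := rfl
theorem F144903 : act 2 n90439 = n94058 := d15_3 (iv0 D94058) (iv0 F143398) F143397
theorem F144904 : act 6 n94058 = n88513 := d3_2 D90439 F144903 (iv2 F135525)
def n94059 : Q := act 2 n43969
theorem D94059 : act 2 n43969 = n94059 := rfl
theorem F144905 : act 3 n94059 = n90748 := d0_2 D43969 D94059 F139677 F65633 F35774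
theorem F144906 : act 6 n94059 = n90327 := d3_2 (iv6 F69123) D94059 (iv2 D90327)
def n94060 : Q := act 5 n43969
theorem D94060 : act 5 n43969 = n94060 := rfl
theorem F144907 : act 3 n94060 = n43970 := d6_1 D94060 (iv5 D43970) D43969
theorem F144908 : act 0 n94060 = n92487 := d21_7 (iv5 F40425) F67745 F67742 D43355 F68092 (iv6 F69123) D94060 (iv5 D92487) (iv6 D43271) (iv1 F32448)
theorem F144909 : act 0 n69730 = n92506 := d21_7 D94060 F144908 (iv5 D92487) (iv6 D43271) (iv1 F32448) D42178 (iv5 F106107) F142423 (iv6 F143396) F143398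
theorem F144910 : act 1 n94060 = n94040 := d15_1 (iv0 F144908) F144887 (iv2 F142361)
def n94061 : Q := act 6 n43970
theorem D94061 : act 6 n43970 = n94061 := rfl
theorem F144911 : act 2 n94061 = n90766 := d3_1 D94061 F139691 (iv2 F69124)
theorem F144912 : act 4 n94061 = n93975 := d10_1 D94061 (iv6 D93975) (iv4 F69127)
theorem F144913 : act 5 n94061 = n90332 := d12_1 D94061 (iv6 D90332) (iv5 D42228) (iv6 F32996) D43970
def n94063 : Q := act 3 n43971
theorem D94063 : act 3 n43971 = n94063 := rfl
theorem F144919 : act 6 n94063 = n90336 := d7_2 (iv6 F69130) D94063 (iv3 D90336)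
def n94065 : Q := act 0 n43972
theorem D94065 : act 0 n43972 = n94065 := rfl
theorem F144923 : act 3 n94065 = n89170 := d20_5 (iv4 F66226) (iv1 F34358) (iv4 F65817) D43972 D94065 (iv4 D89170) (iv1 D41654) F31386 F30821 D19183
theorem F144924 : act 1 n89199 = n94065 := d15_0 (iv0 D94065) F69131 (iv2 F136905)
def n94066 : Q := act 1 n43972
theorem D94066 : act 1 n43972 = n94066 := rfl
theorem F144925 : act 4 n93783 = n94066 := d20_6 (iv4 D20772) (iv1 D9871) (iv4 F15518) (iv3 F32916) D43839 D93783 (iv1 D94066) F69477 (iv3 F69476) (iv1 F67721)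
theorem F144926 : act 0 n89199 = n94066 := d20_1 (iv4 F136907) (iv4 F144925) (iv3 D93783) (iv1 F69264) F69259 F33061 (iv1 F15678) D9960 D20985 (iv1 F69480)
def n94067 : Q := act 2 n43972
theorem D94067 : act 2 n43972 = n94067 := rfl
theorem F144927 : act 4 n94067 = n90242 := d1_2 (iv4 F69477) D94067 F138806
theorem F144928 : act 7 n94067 = n89199 := d4_2 (iv7 F69131) D94067 F136905
theorem F144929 : act 1 n94067 = n89200 := d15_0 (iv0 D89200) (iv7 F69131) D94067
theorem F144930 : act 1 n89201 = n94067 := d15_1 D89201 F144928 F136905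
def n94068 : Q := act 5 n43972
theorem D94068 : act 5 n43972 = n94068 := rfl
theorem F144931 : act 3 n94068 = n43973 := d6_1 D94068 (iv5 D43973) D43972
def n94069 : Q := act 4 n43973
theorem D94069 : act 4 n43973 = n94069 := rfl
theorem F144934 : act 5 n94069 = n45810 := d16_1 D94069 (iv4 D45810) (iv5 D21905) F16643 F7153 (iv4 F16643) D21905 (iv7 F69207) F69206
theorem F144935 : act 0 n94069 = n87423 := d18_2 F69162 D94069 (iv4 D87423) (iv5 F72357) (iv4 D45816) F72325 F72323 (iv0 D43981) D43983
theorem F144936 : act 1 n94069 = n87420 := d18_6 D19183 (iv4 F66226) (iv1 F34358) (iv4 F65817) D43973 D94069 (iv4 D87420) (iv0 D40630) (iv5 D19185)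
def n94070 : Q := act 6 n43973
theorem D94070 : act 6 n43973 = n94070 := rfl
def n94071 : Q := act 3 n43974
theorem D94071 : act 3 n43974 = n94071 := rfl
theorem F144937 : act 5 n94071 = n87704 := d6_2 (iv5 F69133) D94071 F134615
def n94072 : Q := act 4 n43974
theorem D94072 : act 4 n43974 = n94072 := rfl
theorem F144938 : act 2 n94072 = n88244 := d1_1 D94072 (iv4 D88244) F69134
theorem F144939 : act 5 n94072 = n88244 := d16_1 D94072 (iv4 D88244) (iv5 D41182) (iv4 F34883) (iv5 F35404) (iv4 F62382) (iv5 F69136) F69135 F69134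
theorem F144940 : act 0 n94072 = n87415 := d17_0 (iv5 F134176) (iv1 F144936) F144934 (iv4 D45810) (iv5 D21905) (iv0 F65812) D43991 F69191 D94072
theorem F144941 : act 1 n94072 = n87412 := d18_6 (iv1 F66268) F66269 D44846 F70444 (iv5 F69133) D94072 (iv4 D87412) D87411 F134165
def n94073 : Q := act 6 n43974
theorem D94073 : act 6 n43974 = n94073 := rfl
theorem F144942 : act 2 n94073 = n88242 := d3_1 D94073 F135171 F69134
theorem F144943 : act 5 n94073 = n87706 := d12_1 D94073 (iv6 D87706) (iv5 D40854) D40855 (iv5 F69133)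
def n94074 : Q := act 3 n43975
theorem D94074 : act 3 n43975 = n94074 := rfl
theorem F144944 : act 5 n94074 = n88237 := d6_2 (iv5 F69136) D94074 F135167
theorem F144945 : act 7 n94074 = n88236 := d8_2 (iv7 F69135) D94074 F135166
def n94075 : Q := act 4 n43975
theorem D94075 : act 4 n43975 = n94075 := rfl
theorem F144946 : act 7 n94075 = n88244 := d11_2 (iv7 F69135) D94075 (iv4 D88244)
theorem F144947 : act 0 n94075 = n87412 := d17_0 (iv5 F134178) F134179 (iv5 F144934) (iv4 D94069) (iv5 D43973) (iv0 D20861) D20863 D43975 D94075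
theorem F144948 : act 1 n94075 = n87415 := d18_6 D41253 (iv4 F72229) F72228 (iv4 F62382) (iv5 F69136) D94075 (iv4 D87415) F70440 (iv5 D41255)
def n94076 : Q := act 6 n43975
theorem D94076 : act 6 n43975 = n94076 := rfl
def n94077 : Q := act 0 n43976
theorem D94077 : act 0 n43976 = n94077 := rfl
theorem F144949 : act 5 n94077 = n88371 := d17_1 D94077 F135330 F134210 (iv4 F134209) (iv5 D87438) F66334 (iv5 F69133) (iv0 D43974) D43976
theorem F144950 : act 4 n94077 = n87728 := d18_3 (iv1 D43975) D43976 D94077 (iv5 D87728) F61978 F66146 (iv4 F31999) (iv0 F65970) (iv5 F69136)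
theorem F144951 : act 2 n88371 = n94077 := d1_3 F144950 F134659 D88371
def n94078 : Q := act 1 n43976
theorem D94078 : act 1 n43976 = n94078 := rfl
theorem F144952 : act 7 n94078 = n88371 := d15_2 (iv0 D94077) D94078 F144951
theorem F144953 : act 4 n94078 = n88372 := d18_7 F66211 F30627 (iv1 F66167) D9896 D20863 D43976 D94078 F135335 (iv5 D44844)
def n94080 : Q := act 5 n43976
theorem D94080 : act 5 n43976 = n94080 := rfl
theorem F144955 : act 7 n94080 = n87425 := d13_2 F69213 D94080 (iv5 F134210)
theorem F144956 : act 4 n94080 = n45809 := d16_2 D43976 D94080 (iv5 F72320) F62028 (iv5 F66118) D20882 D43991 F69189 F66324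
theorem F144957 : act 0 n94080 = n86946 := d17_2 (iv1 D94078) D94080 (iv5 F134186) F134185 F61734 F61444 D86942 F135334 (iv4 F144953)
theorem F144958 : act 1 n94080 = n87429 := d17_6 (iv1 D45809) (iv5 D21905) (iv1 F65811) D20863 D43976 D94080 F134186 (iv0 F144957) F144956
def n94081 : Q := act 6 n43976
theorem D94081 : act 6 n43976 = n94081 := rfl
def n94082 : Q := act 0 n43977
theorem D94082 : act 0 n43977 = n94082 := rfl
def n94083 : Q := act 1 n43977
theorem D94083 : act 1 n43977 = n94083 := rfl
def n94084 : Q := act 5 n43977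
theorem D94084 : act 5 n43977 = n94084 := rfl
theorem F144960 : act 2 n94084 = n88067 := d2_1 D94084 F135059 F134193
theorem F144962 : act 6 n94084 = n43980 := d12_2 D43977 D94084 (iv5 D43980) (iv6 D20864) D20863
def n94085 : Q := act 7 n43977
theorem D94085 : act 7 n43977 = n94085 := rfl
def n94086 : Q := act 3 n43978
theorem D94086 : act 3 n43978 = n94086 := rfl
theorem F144963 : act 4 n94086 = n90136 := d5_2 F72281 D94086 F138585 (iv4 F67840) (iv3 F72280)
theorem F144964 : act 5 n94086 = n93342 := d6_2 (iv5 F69137) D94086 (iv3 D93342)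
theorem F144965 : act 6 n94086 = n89206 := d7_2 (iv6 F69138) D94086 (iv3 D89206)
def n94087 : Q := act 3 n43979
theorem D94087 : act 3 n43979 = n94087 := rfl
theorem F144966 : act 4 n94087 = n89546 := d5_2 F69145 D94087 F137269 F64475 (iv3 F64446)
theorem F144967 : act 5 n94087 = n93345 := d6_2 F69147 D94087 (iv3 D93345)
theorem F144968 : act 6 n94087 = n89495 := d7_2 F69146 D94087 (iv3 D89495)
theorem F144969 : act 7 n94087 = n89243 := d8_2 (iv7 F69144) D94087 F136966
def n94088 : Q := act 4 n43980
theorem D94088 : act 4 n43980 = n94088 := rfl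
theorem F144970 : act 2 n94088 = n87925 := d1_1 D94088 F134923 (iv2 F69148)
theorem F144971 : act 7 n94088 = n87924 := d11_2 (iv7 F69150) D94088 F134920
theorem F144972 : act 0 n94088 = n48197 := d18_2 (iv1 F69151) D94088 (iv4 D48197) (iv5 D23322) F17808 F62485 D9808 F62725 (iv5 F62344)
theorem F144973 : act 1 n94088 = n87928 := d18_6 (iv1 F134168) (iv4 D43986) (iv1 D20869) (iv4 F33012) D43980 D94088 F134924 F75744 (iv5 F134167)
def n94089 : Q := act 3 n43981
theorem D94089 : act 3 n43981 = n94089 := rfl
theorem F144974 : act 4 n94089 = n90768 := d5_2 F72323 D94089 (iv3 D90768) (iv4 F74807) F74804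
theorem F144975 : act 6 n94089 = n88206 := d7_2 F69156 D94089 F135143
theorem F144976 : act 7 n94089 = n87704 := d8_2 (iv7 F69155) D94089 F134615
def n94090 : Q := act 0 n43982
theorem D94090 : act 0 n43982 = n94090 := rfl
theorem F144977 : act 5 n94090 = n45652 := d17_1 D94090 (iv1 F71986) (iv5 D41547) (iv4 D19562) D19563 F62634 (iv5 F69173) (iv0 D43987) (iv4 F69157)
theorem F144979 : act 6 n94090 = n46788 := d21_5 D19644 (iv1 F64376) (iv5 F64377) (iv6 F69158) D94090 F73908 (iv1 F135769) F135767 F63720 (iv1 F31267)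
def n94091 : Q := act 4 n43983
theorem D94091 : act 4 n43983 = n94091 := rfl
theorem F144983 : act 2 n94091 = n87425 := d1_1 D94091 (iv4 F134209) F134205
def n94092 : Q := act 6 n43983
theorem D94092 : act 6 n43983 = n94092 := rfl
def n94093 : Q := act 3 n43984
theorem D94093 : act 3 n43984 = n94093 := rfl
theorem F144987 : act 4 n94093 = n89472 := d5_2 D43984 D94093 F137141 (iv4 F67821) F67820
theorem F144988 : act 6 n94093 = n89470 := d7_2 (iv6 F69165) D94093 F137136
def n94094 : Q := act 4 n43985
theorem D94094 : act 4 n43985 = n94094 := rfl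
theorem F144989 : act 2 n94094 = n44833 := d1_1 D94094 F70414 F71464
theorem F144991 : act 7 n94094 = n44691 := d11_2 (iv7 F69168) D94094 F70265
theorem F144992 : act 0 n94094 = n44632 := d18_2 (iv1 F69170) D94094 F70180 F33468 D23240 F75594 F75593 F75595 D43532
theorem F144993 : act 1 n94094 = n44835 := d18_6 F63325 (iv4 F75233) F144006 (iv4 D93365) (iv5 F69166) D94094 F70415 F63417 (iv5 F36357)
def n94095 : Q := act 3 n43986
theorem D94095 : act 3 n43986 = n94095 := rfl
theorem F144994 : act 7 n94095 = n89724 := d8_2 (iv7 F69172) D94095 F137719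
theorem F144995 : act 0 n89580 = n94095 := d20_4 (iv4 F127104) (iv1 F137331) (iv4 D89581) D89580 (iv3 D94095) (iv4 D43986) (iv1 D20869) (iv4 F33012) (iv3 F34250) (iv1 F74769)
def n94096 : Q := act 4 n43987
theorem D94096 : act 4 n43987 = n94096 := rfl
theorem F144997 : act 6 n94096 = n46756 := d10_2 (iv6 F69174) D94096 F134007
theorem F144999 : act 5 n94096 = n88966 := d17_5 F62633 D10416 D21826 (iv5 F69173) D94096 F136542 (iv5 D41540) F31310 F17034
theorem F145001 : act 1 n94096 = n46327 := d18_6 (iv1 F127402) (iv4 F73033) (iv1 F73035) (iv4 D45658) (iv5 F69173) D94096 (iv4 F135196) (iv0 F135199) (iv5 F127399)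
def n94097 : Q := act 5 n43988
theorem D94097 : act 5 n43988 = n94097 := rfl
theorem F145002 : act 3 n94097 = n43989 := d6_1 D94097 (iv5 D43989) D43988
theorem F145003 : act 7 n94097 = n86937 := d13_2 (iv7 F69179) D94097 (iv5 D86937)
theorem F145004 : act 0 n46325 = n94097 := d20_4 D41645 (iv1 F135200) (iv4 D46326) D46325 F145002 (iv4 F134181) (iv1 F134183) F134180 F66931 (iv1 D41644)
def n94098 : Q := act 6 n43989
theorem D94098 : act 6 n43989 = n94098 := rfl
theorem F145005 : act 2 n94098 = n87430 := d3_1 D94098 (iv6 D87430) (iv2 F69181)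
def n94099 : Q := act 5 n43990
theorem D94099 : act 5 n43990 = n94099 := rfl
theorem F145007 : act 2 n94099 = n46341 := d2_1 D94099 (iv5 D46341) (iv2 F69185)
theorem F145008 : act 3 n94099 = n43991 := d6_1 D94099 (iv5 D43991) D43990
theorem F145009 : act 7 n94099 = n87431 := d13_2 (iv7 F69187) D94099 (iv5 D87431)
def n94100 : Q := act 6 n43990
theorem D94100 : act 6 n43990 = n94100 := rfl
theorem F145010 : act 2 n94100 = n46342 := d3_1 D94100 (iv6 D46342) (iv2 F69185)
theorem F145011 : act 3 n94100 = n43992 := d7_1 D94100 (iv6 D43992) D43990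
theorem F145012 : act 4 n94100 = n94100 := d10_1 D94100 (iv6 D94100) F69186
def n94101 : Q := act 4 n43991
theorem D94101 : act 4 n43991 = n94101 := rfl
theorem F145013 : act 2 n94101 = n43998 := d1_1 D94101 (iv4 D43998) (iv2 F69188)
theorem F145014 : act 5 n94101 = n94091 := d9_2 D43991 D94101 (iv4 D94091) (iv5 D43983) (iv4 D20867) (iv5 D9897) D9896 D20863 D43976 D94080 F144956 (iv5 F72320) F62028 (iv5 F66118) D20882
theorem F145015 : act 7 n94101 = n87433 := d11_2 (iv7 F69189) D94101 (iv4 D87433)
theorem F145016 : act 0 n94101 = n94078 := d18_2 (iv1 F69191) D94101 F144953 F135333 F63566 (iv0 F31038) D40653 F66334 (iv5 F69133)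
theorem F145017 : act 1 n94101 = n94077 := d18_6 (iv1 F61444) F30826 F66150 D20882 D43991 D94101 F144950 F134662 (iv5 D86942)
def n94102 : Q := act 6 n43991
theorem D94102 : act 6 n43991 = n94102 := rfl
theorem F145018 : act 2 n94102 = n43999 := d3_1 D94102 (iv6 D43999) (iv2 F69188)
def n94103 : Q := act 4 n43993
theorem D94103 : act 4 n43993 = n94103 := rfl
theorem F145019 : act 2 n94103 = n44004 := d1_1 D94103 (iv4 D44004) F69196
theorem F145020 : act 6 n94103 = n44279 := d10_2 (iv6 F69194) D94103 (iv4 D44279)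
theorem F145021 : act 7 n94103 = n44005 := d11_2 (iv7 F69197) D94103 (iv4 D44005)
theorem F145022 : act 5 n94103 = n87745 := d17_5 (iv1 D10974) D10975 D23372 (iv5 F69195) D94103 (iv0 D87745) (iv5 D40885) (iv0 F66874) (iv4 D23369)
theorem F145023 : act 0 n94103 = n87016 := d17_0 F134175 (iv1 D48239) (iv5 D23391) (iv4 D10979) D10980 D23395 (iv5 F66191) F69198 D94103
theorem F145024 : act 1 n94103 = n44845 := d18_6 F64448 D44956 (iv1 F75805) (iv4 D48222) (iv5 F69195) D94103 F70442 (iv0 F72328) D41792
def n94104 : Q := act 0 n43995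
theorem D94104 : act 0 n43995 = n94104 := rfl
theorem F145025 : act 4 n94104 = n81872 := d20_0 (iv1 D81872) (iv4 F58463) F58462 F72749 F69011 F66308 (iv1 F34356) (iv4 F65808) D43995 D94104
theorem F145026 : act 1 n45800 = n94104 := d15_0 (iv0 D94104) F69205 (iv2 F72302)
def n94105 : Q := act 2 n43995
theorem D94105 : act 2 n43995 = n94105 := rfl
theorem F145027 : act 3 n94105 = n94067 := d0_2 D43995 D94105 (iv2 D94067) (iv3 D43972) F65816
theorem F145028 : act 4 n94105 = n46034 := d1_2 (iv4 F69204) D94105 F72617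
theorem F145029 : act 6 n94105 = n81874 := d3_2 F69702 D94105 F125897
theorem F145030 : act 7 n94105 = n45800 := d4_2 (iv7 F69205) D94105 F72302
theorem F145031 : act 1 n94105 = n45801 := d15_0 (iv0 D45801) (iv7 F69205) D94105
theorem F145032 : act 1 n45802 = n94105 := d15_1 D45802 F145030 F72302
theorem F145033 : act 4 n45802 = n88899 := d20_0 (iv1 D88899) F64019 F31298 D19556 D41536 (iv4 F69291) (iv1 F138808) (iv4 F144927) (iv3 F145027) (iv1 F145032)
theorem F145034 : act 3 n89099 = n45802 := d20_5 F62885 (iv1 F58735) F58732 (iv3 F64259) (iv1 F136811) F145033 (iv1 D88899) F64019 F31298 D19556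
theorem F145035 : act 0 n86917 = n87372 := d20_7 F126453 (iv1 F136393) (iv4 F145033) (iv3 F145034) (iv1 D89099) (iv3 F127383) (iv4 F133372) (iv4 D87372) F72621 (iv1 F126457)
def n94106 : Q := act 5 n43995
theorem D94106 : act 5 n43995 = n94106 := rfl
theorem F145037 : act 7 n94106 = n45803 := d13_2 (iv7 F69205) D94106 (iv5 D45803)
def n94107 : Q := act 4 n43996
theorem D94107 : act 4 n43996 = n94107 := rfl
theorem F145039 : act 7 n94107 = n45810 := d11_2 (iv7 F69207) D94107 (iv4 D45810)
def n94109 : Q := act 3 n43997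
theorem D94109 : act 3 n43997 = n94109 := rfl
theorem F145042 : act 5 n94109 = n94089 := d6_2 (iv5 F69212) D94109 (iv3 D94089)
theorem F145043 : act 7 n94109 = n94071 := d8_2 (iv7 F69211) D94109 (iv3 D94071)
def n94110 : Q := act 4 n43997
theorem D94110 : act 4 n43997 = n94110 := rfl
theorem F145044 : act 2 n94110 = n94075 := d1_1 D94110 (iv4 D94075) F69209
theorem F145045 : act 5 n94110 = n94075 := d9_2 (iv5 F69212) D94110 (iv4 D94075) F69136 F62382 F35404 F34883 D41182 D88244 (iv5 F144939) (iv4 D94072) F69133 (iv4 F70444) (iv5 F72322) F72323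
theorem F145046 : act 7 n94110 = n94072 := d11_2 (iv7 F69211) D94110 (iv4 D94072)
def n94111 : Q := act 6 n43997
theorem D94111 : act 6 n43997 = n94111 := rfl
theorem F145047 : act 2 n94111 = n94076 := d3_1 D94111 (iv6 D94076) F69209
theorem F145048 : act 5 n94111 = n86993 := d12_1 D94111 (iv6 D86993) (iv5 F63559) F69156 (iv5 F69212)
def n94112 : Q := act 0 n43998
theorem D94112 : act 0 n43998 = n94112 := rfl
theorem F145049 : act 5 n94112 = n94078 := d17_1 D94112 (iv1 D94078) D94080 F144956 (iv5 F72320) F69154 (iv5 F69212) (iv0 D43997) D43998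
theorem F145050 : act 4 n94112 = n87411 := d18_1 D94112 (iv1 D87411) D87412 (iv5 F134178) (iv4 D87423) F69183 (iv4 F134181) F134187 (iv5 F134210)
theorem F145051 : act 2 n94078 = n94112 := d15_3 (iv0 D94112) (iv0 F135330) (iv7 F144952)
theorem F145052 : act 1 n87433 = n94112 := d15_0 (iv0 D94112) F69213 (iv2 F134191)
theorem F145053 : act 7 n94112 = n94077 := d15_2 F135331 F145052 (iv2 F144951)
def n94113 : Q := act 3 n43998
theorem D94113 : act 3 n43998 = n94113 := rfl
def n94114 : Q := act 6 n43998
theorem D94114 : act 6 n43998 = n94114 := rfl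
theorem F145055 : act 4 n94114 = n43999 := d10_1 D94114 (iv6 D43999) D43998
def n94115 : Q := act 0 n43999
theorem D94115 : act 0 n43999 = n94115 := rfl
def n94116 : Q := act 1 n43999
theorem D94116 : act 1 n43999 = n94116 := rfl
def n94117 : Q := act 5 n43999
theorem D94117 : act 5 n43999 = n94117 := rfl
theorem F145056 : act 6 n94117 = n44001 := d12_2 D43999 D94117 (iv5 D44001) (iv6 D20887) D20886
def n94118 : Q := act 7 n43999
theorem D94118 : act 7 n43999 = n94118 := rfl
theorem F145057 : act 6 n94118 = n94085 := d14_1 D94118 (iv7 D94085) (iv6 D43977) (iv7 F33032) D43999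
def n94119 : Q := act 3 n44000
theorem D94119 : act 3 n44000 = n94119 := rfl
theorem F145058 : act 4 n94119 = n94056 := d5_2 (iv4 F72337) D94119 (iv3 D94056) (iv4 F142134) F142133
theorem F145059 : act 5 n94119 = n47201 := d6_2 (iv5 F72338) D94119 (iv3 D47201)
theorem F145060 : act 7 n94119 = n86979 := d8_2 F72339 D94119 F133494
def n94120 : Q := act 4 n44001
theorem D94120 : act 4 n44001 = n94120 := rfl
def n94121 : Q := act 3 n44004
theorem D94121 : act 3 n44004 = n94121 := rfl
theorem F145061 : act 7 n94121 = n87011 := d8_2 (iv7 F69222) D94121 F133544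
def n94122 : Q := act 5 n44004
theorem D94122 : act 5 n44004 = n94122 := rfl
theorem F145062 : act 2 n94122 = n87745 := d2_1 D94122 (iv5 F145022) F145019
theorem F145063 : act 7 n94122 = n87017 := d13_2 (iv7 F69222) D94122 (iv5 D87017)
theorem F145064 : act 0 n94122 = n48233 := d17_2 F69724 D94122 (iv5 D48233) F66739 (iv5 F70689) (iv0 F72335) (iv5 F64452) F72333 (iv4 F66305)
theorem F145065 : act 1 n94122 = n48185 := d17_6 (iv1 D5002) D5003 D10987 (iv5 F66192) D44004 D94122 (iv5 D48185) F66800 (iv4 D10984)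
theorem F145066 : act 4 n94122 = n47207 := d18_5 F65938 F33033 D20888 D44004 D94122 (iv0 D47207) (iv4 D22709) D22708 (iv5 F64437)
def n94123 : Q := act 3 n44005
theorem D94123 : act 3 n44005 = n94123 := rfl
theorem F145067 : act 6 n94123 = n46012 := d7_2 (iv6 F69224) D94123 F72591
def n94124 : Q := act 5 n44005
theorem D94124 : act 5 n44005 = n94124 := rfl
theorem F145068 : act 2 n94124 = n87017 := d2_1 D94124 (iv5 D87017) (iv2 F69223)
theorem F145069 : act 7 n94124 = n87745 := d13_2 F145021 D94124 (iv5 F145022)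
theorem F145070 : act 0 n94124 = n48185 := d17_2 F137963 D94124 (iv5 D48185) F36431 (iv5 F63785) D88625 F135845 F69725 D89872
theorem F145071 : act 1 n94124 = n48233 := d17_6 (iv1 F17840) (iv5 F36501) (iv1 F36503) (iv5 F66195) D44005 D94124 (iv5 D48233) (iv0 D23388) (iv4 D10979)
theorem F145072 : act 4 n47208 = n94124 := d18_7 (iv1 F36520) (iv4 D10984) (iv1 D5002) (iv4 F7341) D10745 D22709 D47208 F145071 (iv5 D48233)
def n94125 : Q := act 6 n44007
theorem D94125 : act 6 n44007 = n94125 := rfl
theorem F145075 : act 5 n94125 = n89624 := d12_1 D94125 (iv6 D89624) (iv5 F69237) (iv6 D44008) D44007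
theorem F145077 : act 0 n94125 = n46844 := d21_4 F32690 D20895 D44007 D94125 (iv6 D46844) D46843 (iv1 F74023) F75533 F75535 (iv1 D43566)
def n94126 : Q := act 6 n44012
theorem D94126 : act 6 n44012 = n94126 := rfl
theorem F145078 : act 2 n94126 = n93774 := d3_1 D94126 (iv6 D93774) (iv2 F69248)
theorem F145080 : act 4 n94126 = n44013 := d10_1 D94126 (iv6 D44013) D44012
theorem F145081 : act 5 n94126 = n49134 := d12_1 D94126 (iv6 D49134) (iv5 F54362) D34882 (iv5 F69250)
def n94127 : Q := act 0 n44013
theorem D94127 : act 0 n44013 = n94127 := rfl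
def n94128 : Q := act 1 n44013
theorem D94128 : act 1 n44013 = n94128 := rfl
def n94129 : Q := act 7 n44013
theorem D94129 : act 7 n44013 = n94129 := rfl
theorem F145083 : act 2 n94129 = n93778 := d4_1 D94129 (iv7 D93778) (iv2 F69254)
theorem F145084 : act 6 n94129 = n93778 := d14_1 D94129 (iv7 D93778) (iv6 D43836) F68083 D44013
theorem F145085 : act 1 n93778 = n94127 := d15_0 (iv0 D94127) D94129 F145083
theorem F145086 : act 1 n93776 = n94129 := d15_1 D93776 (iv7 D94129) F69254
def n94130 : Q := act 2 n44014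
theorem D94130 : act 2 n44014 = n94130 := rfl
theorem F145088 : act 7 n44015 = n94130 := d15_2 (iv0 D44014) D44015 (iv2 D94130)
def n94131 : Q := act 3 n44014
theorem D94131 : act 3 n44014 = n94131 := rfl
def n94132 : Q := act 4 n44014
theorem D94132 : act 4 n44014 = n94132 := rfl
theorem F145089 : act 3 n94132 = n89016 := d20_9 F144822 (iv1 F136699) (iv4 F69269) (iv3 D44020) (iv1 D20901) (iv3 F33056) F33057 D44014 D94132 (iv1 F144824)
def n94133 : Q := act 5 n44014
theorem D94133 : act 5 n44014 = n94133 := rfl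
def n94134 : Q := act 6 n44014
theorem D94134 : act 6 n44014 = n94134 := rfl
theorem F145090 : act 5 n94134 = n92587 := d21_6 D43311 F77509 F32953 D20899 D44014 D94134 (iv1 D92587) (iv5 D43315) (iv6 D20451) D20450
def n94135 : Q := act 7 n44014
theorem D94135 : act 7 n44014 = n94135 := rfl
def n94136 : Q := act 3 n44015
theorem D94136 : act 3 n44015 = n94136 := rfl
theorem F145092 : act 4 n94136 = n89201 := d20_6 (iv4 D9885) (iv1 F15526) (iv4 F32923) (iv3 F68909) (iv1 F69255) D94136 (iv1 D89201) (iv4 F67716) F67715 F65889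
def n94137 : Q := act 4 n44015
theorem D94137 : act 4 n44015 = n94137 := rfl
def n94138 : Q := act 5 n44015
theorem D94138 : act 5 n44015 = n94138 := rfl
def n94139 : Q := act 6 n44015
theorem D94139 : act 6 n44015 = n94139 := rfl
def n94140 : Q := act 0 n44016
theorem D94140 : act 0 n44016 = n94140 := rfl
def n94141 : Q := act 1 n44016
theorem D94141 : act 1 n44016 = n94141 := rfl
theorem F145093 : act 1 n94141 = n93795 := d15_1 D94141 (iv7 D93795) (iv2 F69256)
theorem F145094 : act 5 n90284 = n94141 := d21_6 (iv5 F68081) (iv1 F65143) (iv5 D19924) D19925 D42202 D90284 (iv1 D94141) (iv5 D44016) (iv6 D20899) D20898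
def n94142 : Q := act 4 n44016
theorem D94142 : act 4 n44016 = n94142 := rfl
theorem F145095 : act 2 n94142 = n93794 := d1_1 D94142 (iv4 D93794) (iv2 F69256)
def n94143 : Q := act 7 n44016
theorem D94143 : act 7 n44016 = n94143 := rfl
theorem F145096 : act 2 n94143 = n93795 := d4_1 D94143 (iv7 D93795) (iv2 F69256)
theorem F145097 : act 3 n94143 = n44025 := d8_1 D94143 (iv7 D44025) (iv3 F69257)
theorem F145098 : act 5 n94143 = n44017 := d13_1 D94143 (iv7 D44017) D44016
theorem F145099 : act 1 n93795 = n94140 := d15_0 (iv0 D94140) D94143 F145096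
theorem F145100 : act 1 n93793 = n94143 := d15_1 D93793 (iv7 D94143) F69256
theorem F145101 : act 1 n94143 = n93792 := d15_0 (iv0 D93792) D93795 (iv2 F145096)
def n94144 : Q := act 0 n44018
theorem D94144 : act 0 n44018 = n94144 := rfl
theorem F145102 : act 4 n94144 = n93985 := d20_0 (iv1 F144791) (iv4 F144641) F144640 F136750 F65038 F31715 (iv1 F62662) F33065 D44018 D94144
theorem F145103 : act 1 n44088 = n94144 := d15_0 (iv0 D94144) F69266 D44088
def n94145 : Q := act 1 n44018
theorem D94145 : act 1 n44018 = n94145 := rfl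
def n94146 : Q := act 2 n44018
theorem D94146 : act 2 n44018 = n94146 := rfl
theorem F145104 : act 3 n94146 = n44078 := d0_2 D44018 D94146 (iv2 D44078) (iv3 D20938) (iv2 F62872)
theorem F145105 : act 4 n94146 = n45494 := d1_2 (iv4 F69265) D94146 (iv2 D45494)
theorem F145106 : act 7 n94146 = n44088 := d4_2 (iv7 F69266) D94146 (iv2 D44088)
theorem F145107 : act 1 n94146 = n44086 := d15_0 (iv0 D44086) (iv7 F69266) D94146
theorem F145108 : act 1 n94145 = n44088 := d15_1 D94145 (iv7 F145106) (iv2 D94146)
theorem F145109 : act 1 n44087 = n94146 := d15_1 D44087 F145106 (iv2 D44088)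
def n94149 : Q := act 4 n44019
theorem D94149 : act 4 n44019 = n94149 := rfl
def n94150 : Q := act 0 n44020
theorem D94150 : act 0 n44020 = n94150 := rfl
theorem F145118 : act 1 n44078 = n94150 := d15_0 (iv0 D94150) F69270 D44078
def n94151 : Q := act 1 n44020
theorem D94151 : act 1 n44020 = n94151 := rfl
def n94152 : Q := act 2 n44020
theorem D94152 : act 2 n44020 = n94152 := rfl
theorem F145119 : act 3 n94152 = n44088 := d0_2 D44020 D94152 (iv2 D44088) (iv3 D20943) (iv2 F62874)
theorem F145120 : act 4 n94152 = n89027 := d1_2 (iv4 F69269) D94152 (iv2 F136691)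
theorem F145121 : act 7 n94152 = n44078 := d4_2 (iv7 F69270) D94152 (iv2 D44078)
theorem F145122 : act 1 n94152 = n44076 := d15_0 (iv0 D44076) (iv7 F69270) D94152
theorem F145124 : act 1 n44077 = n94152 := d15_1 D44077 F145121 (iv2 D44078)
theorem F145125 : act 4 n94145 = n93986 := d20_0 (iv1 D93986) F69053 (iv3 D20821) D20819 D43935 F69069 (iv1 F136689) (iv4 F145120) F145119 (iv1 F145108)
theorem F145126 : act 3 n93804 = n94145 := d20_5 F65790 (iv1 F65855) F65857 D43847 D93804 F145125 (iv1 D93986) F69053 (iv3 D20821) D20819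
def n94154 : Q := act 6 n44020
theorem D94154 : act 6 n44020 = n94154 := rfl
theorem F145129 : act 3 n94154 = n44022 := d7_1 D94154 (iv6 D44022) D44020
theorem F145130 : act 4 n94154 = n89038 := d10_1 D94154 (iv6 D89038) (iv4 F69269)
theorem F145131 : act 5 n88482 = n94154 := d6_0 F145129 (iv5 F69275) D88482
def n94155 : Q := act 4 n44021
theorem D94155 : act 4 n44021 = n94155 := rfl
def n94156 : Q := act 6 n44021
theorem D94156 : act 6 n44021 = n94156 := rfl
theorem F145135 : act 5 n94156 = n88484 := d12_1 D94156 (iv6 D88484) F69275 (iv6 D44022) D44021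
def n94157 : Q := act 3 n44023
theorem D94157 : act 3 n44023 = n94157 := rfl
theorem F145136 : act 7 n94157 = n44098 := d8_2 (iv7 F69283) D94157 (iv3 D44098)
def n94158 : Q := act 4 n44023
theorem D94158 : act 4 n44023 = n94158 := rfl
theorem F145137 : act 2 n94158 = n44096 := d1_1 D94158 (iv4 D44096) F69282
theorem F145138 : act 7 n94158 = n44099 := d11_2 (iv7 F69283) D94158 (iv4 D44099)
def n94159 : Q := act 6 n44023
theorem D94159 : act 6 n44023 = n94159 := rfl
theorem F145140 : act 2 n94159 = n44097 := d3_1 D94159 (iv6 D44097) F69282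
def n94160 : Q := act 0 n44024
theorem D94160 : act 0 n44024 = n94160 := rfl
theorem F145141 : act 4 n94160 = n46141 := d18_3 F68301 D44024 D94160 F135522 F135519 (iv0 F63652) (iv4 F68194) F68307 D43450
theorem F145142 : act 2 n44101 = n94160 := d15_3 (iv0 D94160) (iv0 F143401) F143400
theorem F145143 : act 7 n94160 = n44102 := d4_2 F143400 F145142 (iv2 F143399)
theorem F145144 : act 1 n44105 = n94160 := d15_1 F143402 F145143 (iv2 F143399)
def n94163 : Q := act 7 n44024
theorem D94163 : act 7 n44024 = n94163 := rfl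
theorem F145151 : act 1 n44102 = n94163 := d15_1 D44102 (iv7 D94163) F69285
theorem F145152 : act 1 n94163 = n44101 := d15_1 F145151 (iv7 F143400) F143399
def n94164 : Q := act 6 n44025
theorem D94164 : act 6 n44025 = n94164 := rfl
theorem F145154 : act 5 n94164 = n93816 := d12_1 D94164 (iv6 D93816) F68934 (iv6 F33062) (iv5 F69287)
def n94165 : Q := act 5 n44026
theorem D94165 : act 5 n44026 = n94165 := rfl
theorem F145155 : act 3 n94165 = n44027 := d6_1 D94165 (iv5 D44027) D44026
theorem F145156 : act 7 n94165 = n44141 := d13_2 (iv7 F69292) D94165 (iv5 D44141)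
def n94166 : Q := act 1 n44027
theorem D94166 : act 1 n44027 = n94166 := rfl
theorem F145157 : act 1 n94166 = n44031 := d15_1 D94166 F69307 (iv2 F69294)
theorem F145159 : act 5 n94166 = n92627 := d17_7 (iv1 F68023) F69298 (iv1 D44028) (iv5 D20907) D20906 D44027 D94166 F142721 F68359
def n94167 : Q := act 4 n44027
theorem D94167 : act 4 n44027 = n94167 := rfl
def n94168 : Q := act 6 n44027
theorem D94168 : act 6 n44027 = n94168 := rfl
theorem F145163 : act 2 n94168 = n44125 := d3_1 D94168 (iv6 D44125) (iv2 F69294)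
def n94174 : Q := act 0 n44030
theorem D94174 : act 0 n44030 = n94174 := rfl
theorem F145182 : act 3 n94174 = n93822 := d20_5 F15691 (iv1 F15670) D20910 D44030 D94174 F144636 (iv1 D45493) (iv4 F69265) (iv3 D44018) (iv1 F33063)
theorem F145183 : act 4 n94174 = n44825 := d20_0 (iv1 D44825) (iv4 F68918) (iv3 D43845) (iv1 F32924) (iv3 F15690) F15691 (iv1 F15670) D20910 D44030 D94174
theorem F145184 : act 1 n44119 = n94174 := d15_0 (iv0 D94174) F69305 D44119
def n94175 : Q := act 1 n44030
theorem D94175 : act 1 n44030 = n94175 := rfl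
theorem F145185 : act 4 n44824 = n94175 := d20_0 (iv1 D94175) F69304 (iv3 D21691) (iv1 D10351) F6789 F6682 D4624 D10183 D21353 D44824
theorem F145186 : act 0 n44119 = n94175 := d20_10 (iv4 F145185) (iv1 F144756) (iv4 D93929) (iv3 F144598) (iv1 F144603) D93896 (iv4 F144724) (iv1 F136536) (iv4 F138802) F138801
def n94176 : Q := act 2 n44030
theorem D94176 : act 2 n44030 = n94176 := rfl
theorem F145187 : act 3 n94176 = n44140 := d0_2 D44030 D94176 (iv2 D44140) (iv3 D20985) (iv2 F35901)
theorem F145188 : act 4 n94176 = n45466 := d1_2 (iv4 F69304) D94176 (iv2 D45466)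
theorem F145189 : act 7 n94176 = n44119 := d4_2 (iv7 F69305) D94176 (iv2 D44119)
theorem F145190 : act 1 n94176 = n44117 := d15_0 (iv0 D44117) (iv7 F69305) D94176
theorem F145191 : act 1 n44118 = n94176 := d15_1 D44118 F145189 (iv2 D44119)
def n94177 : Q := act 5 n44030
theorem D94177 : act 5 n44030 = n94177 := rfl
theorem F145192 : act 3 n94177 = n44031 := d6_1 D94177 (iv5 D44031) D44030
theorem F145193 : act 7 n94177 = n44120 := d13_2 (iv7 F69305) D94177 (iv5 D44120)
def n94178 : Q := act 6 n44030
theorem D94178 : act 6 n44030 = n94178 := rfl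
theorem F145194 : act 3 n94178 = n44032 := d7_1 D94178 (iv6 D44032) D44030
theorem F145195 : act 4 n94178 = n45468 := d10_1 D94178 (iv6 D45468) (iv4 F69304)
def n94180 : Q := act 6 n44031
theorem D94180 : act 6 n44031 = n94180 := rfl
theorem F145198 : act 2 n94180 = n44144 := d3_1 D94180 (iv6 D44144) (iv2 F69306)
def n94195 : Q := act 0 n44038
theorem D94195 : act 0 n44038 = n94195 := rfl
theorem F145224 : act 5 n94195 = n45486 := d17_3 (iv1 D44036) D44038 D94195 (iv4 D45486) (iv5 D21707) F62662 D22065 D46129 F72735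
def n94198 : Q := act 6 n44038
theorem D94198 : act 6 n44038 = n94198 := rfl
theorem F145236 : act 5 n94198 = n44044 := d12_1 D94198 (iv6 D44044) (iv5 D20917) (iv6 F33073) D44038
def n94213 : Q := act 4 n44043
theorem D94213 : act 4 n44043 = n94213 := rfl
theorem F145250 : act 3 n94213 = n44246 := d5_1 D94213 (iv4 D44246) F33223 (iv4 F33085) (iv3 F69339)
def n94218 : Q := act 6 n44045
theorem D94218 : act 6 n44045 = n94218 := rfl
theorem F145260 : act 2 n94218 = n93835 := d3_1 D94218 (iv6 D93835) (iv2 F69343)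
theorem F145261 : act 4 n94218 = n44046 := d10_1 D94218 (iv6 D44046) D44045
def n94219 : Q := act 0 n44046
theorem D94219 : act 0 n44046 = n94219 := rfl
def n94220 : Q := act 1 n44046
theorem D94220 : act 1 n44046 = n94220 := rfl
def n94221 : Q := act 5 n44046
theorem D94221 : act 5 n44046 = n94221 := rfl
theorem F145263 : act 2 n94221 = n71480 := d2_1 D94221 F108014 (iv2 F69345)
theorem F145264 : act 3 n94221 = n76498 := d6_1 D94221 (iv5 D76498) (iv3 F69346)
theorem F145265 : act 6 n94221 = n62818 := d12_2 D44046 D94221 (iv5 D62818) (iv6 F50224) (iv5 F50227)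
def n94222 : Q := act 7 n44046
theorem D94222 : act 7 n44046 = n94222 := rfl
theorem F145266 : act 2 n94222 = n93838 := d4_1 D94222 (iv7 D93838) (iv2 F69345)
theorem F145268 : act 6 n94222 = n93833 := d14_1 D94222 (iv7 D93833) (iv6 D43861) F34102 D44046
theorem F145271 : act 1 n94222 = n93836 := d15_0 (iv0 D93836) D93838 (iv2 F145266)
def n94223 : Q := act 6 n44047
theorem D94223 : act 6 n44047 = n94223 := rfl
theorem F145272 : act 2 n94223 = n76500 := d3_1 D94223 (iv6 D76500) (iv2 F69347)
theorem F145273 : act 3 n94223 = n44048 := d7_1 D94223 (iv6 D44048) D44047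
theorem F145274 : act 4 n94223 = n88910 := d10_1 D94223 (iv6 D88910) (iv4 F69348)
def n94224 : Q := act 0 n44048
theorem D94224 : act 0 n44048 = n94224 := rfl
def n94225 : Q := act 1 n44048
theorem D94225 : act 1 n44048 = n94225 := rfl
theorem F145275 : act 1 n94225 = n93833 := d15_1 D94225 (iv7 D93833) (iv2 F69355)
def n94226 : Q := act 5 n44048
theorem D94226 : act 5 n44048 = n94226 := rfl
theorem F145276 : act 2 n94226 = n62770 := d2_1 D94226 F97944 (iv2 F69355)
theorem F145277 : act 6 n94226 = n62765 := d12_2 D44048 D94226 (iv5 D62765) F68234 F68231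
def n94227 : Q := act 7 n44048
theorem D94227 : act 7 n44048 = n94227 := rfl
theorem F145279 : act 6 n94227 = n93838 := d14_1 D94227 (iv7 D93838) (iv6 D43864) (iv7 F34107) D44048
def n94228 : Q := act 0 n44049
theorem D94228 : act 0 n44049 = n94228 := rfl
def n94229 : Q := act 1 n44049
theorem D94229 : act 1 n44049 = n94229 := rfl
theorem F145283 : act 1 n94229 = n44053 := d15_1 D94229 (iv7 D44053) (iv2 F69356)
theorem F145284 : act 3 n94229 = n44062 := d20_5 (iv4 F63475) (iv1 F32444) (iv4 F33098) (iv3 F69361) (iv1 F145283) F136673 (iv1 D44739) F33519 F31716 D19873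
def n94230 : Q := act 7 n44049
theorem D94230 : act 7 n44049 = n94230 := rfl
theorem F145285 : act 2 n94230 = n44053 := d4_1 D94230 (iv7 D44053) (iv2 F69356)
theorem F145286 : act 3 n94230 = n76483 := d8_1 D94230 F114636 (iv3 F69357)
theorem F145287 : act 4 n94230 = n88874 := d11_1 D94230 F136305 (iv4 F69358)
theorem F145288 : act 6 n94230 = n76424 := d14_1 D94230 (iv7 D76424) F55273 (iv7 F33090) D44049
theorem F145289 : act 1 n44053 = n94228 := d15_0 (iv0 D94228) D94230 F145285
theorem F145290 : act 1 n44051 = n94230 := d15_1 D44051 (iv7 D94230) F69356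
theorem F145291 : act 0 n44050 = n94230 := d20_10 F145287 (iv1 F136304) (iv4 F137285) (iv3 F142253) (iv1 F142256) F67851 (iv4 F70320) F114612 (iv4 D76472) (iv3 F136452)
def n94231 : Q := act 2 n44050
theorem D94231 : act 2 n44050 = n94231 := rfl
theorem F145292 : act 7 n44051 = n94231 := d15_2 (iv0 D44050) D44051 (iv2 D94231)
def n94232 : Q := act 4 n44050
theorem D94232 : act 4 n44050 = n94232 := rfl
def n94233 : Q := act 5 n44050
theorem D94233 : act 5 n44050 = n94233 := rfl
theorem F145293 : act 3 n94233 = n76473 := d6_1 D94233 (iv5 D76473) (iv3 F136452)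
def n94234 : Q := act 6 n44050
theorem D94234 : act 6 n44050 = n94234 := rfl
theorem F145294 : act 3 n94234 = n76474 := d7_1 D94234 (iv6 D76474) (iv3 F136452)
def n94235 : Q := act 7 n44050
theorem D94235 : act 7 n44050 = n94235 := rfl
theorem F145295 : act 2 n94235 = n44051 := d4_1 D94235 F145292 (iv2 D94231)
theorem F145296 : act 3 n94235 = n76475 := d8_1 D94235 (iv7 D76475) (iv3 F136452)
def n94236 : Q := act 3 n44051
theorem D94236 : act 3 n44051 = n94236 := rfl
theorem F145297 : act 2 n94236 = n76476 := d0_1 D94236 (iv3 D76476) (iv2 F114615) (iv3 F145296) F145295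
theorem F145298 : act 4 n94236 = n89498 := d5_2 F136206 D94236 F137203 (iv4 D88827) D88826
theorem F145299 : act 2 n89498 = n46000 := d1_1 F145298 (iv4 F114616) (iv2 F145297)
theorem F145300 : act 7 n45999 = n89498 := d15_2 F137209 F137207 F145299
theorem F145301 : act 7 n89499 = n46000 := d15_2 (iv0 D89498) D89499 (iv2 F145299)
theorem F145302 : act 2 n45999 = n89499 := d4_3 F145301 (iv2 F145299) (iv7 F145300)
def n94237 : Q := act 5 n44051
theorem D94237 : act 5 n44051 = n94237 := rfl
def n94238 : Q := act 6 n44051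
theorem D94238 : act 6 n44051 = n94238 := rfl
def n94239 : Q := act 1 n44052
theorem D94239 : act 1 n44052 = n94239 := rfl
theorem F145303 : act 7 n94239 = n76435 := d15_2 (iv0 F142436) D94239 (iv2 D76435)
theorem F145304 : act 2 n76439 = n94239 := d4_3 F145303 (iv2 D76435) D76439
theorem F145305 : act 3 n94239 = n76458 := d0_2 (iv3 F114592) F145304 (iv2 D76458) (iv3 D34928) (iv2 F55290)
theorem F145306 : act 1 n94239 = n76433 := d15_0 (iv0 D76433) D76439 F145304
theorem F145307 : act 7 n76433 = n48749 := d15_2 D94239 F145306 F76770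
theorem F145308 : act 5 n94230 = n76433 := d13_3 F145307 F76771 D94230
def n94240 : Q := act 4 n44052
theorem D94240 : act 4 n44052 = n94240 := rfl
theorem F145309 : act 2 n94240 = n81677 := d1_1 D94240 F125612 F76770
theorem F145310 : act 6 n94240 = n53004 := d10_2 (iv6 F69360) D94240 (iv4 D53004)
def n94241 : Q := act 7 n44052
theorem D94241 : act 7 n44052 = n94241 := rfl
theorem F145311 : act 2 n94241 = n76433 := d4_1 D94241 F145307 F76770
theorem F145312 : act 3 n94241 = n44057 := d8_1 D94241 (iv7 D44057) (iv3 F69359)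
theorem F145313 : act 5 n94241 = n44053 := d13_1 D94241 (iv7 D44053) D44052
def n94242 : Q := act 3 n44054
theorem D94242 : act 3 n44054 = n94242 := rfl
theorem F145314 : act 2 n94242 = n93848 := d0_1 D94242 (iv3 D93848) (iv2 F68971) F68979 F69369
theorem F145315 : act 7 n94242 = n93863 := d8_2 F69370 D94242 (iv3 D93863)
def n94243 : Q := act 6 n44054
theorem D94243 : act 6 n44054 = n94243 := rfl
def n94244 : Q := act 6 n44055
theorem D94244 : act 6 n44055 = n94244 := rfl
theorem F145317 : act 2 n94244 = n93864 := d3_1 D94244 (iv6 D93864) (iv2 F69366)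
theorem F145319 : act 5 n94244 = n48296 := d12_1 D94244 (iv6 D48296) (iv5 D23449) D23450 F69365
def n94245 : Q := act 3 n44056
theorem D94245 : act 3 n44056 = n94245 := rfl
def n94246 : Q := act 5 n44056
theorem D94246 : act 5 n44056 = n94246 := rfl
theorem F145320 : act 2 n94246 = n93866 := d2_1 D94246 (iv5 D93866) (iv2 F69372)
def n94247 : Q := act 7 n44056
theorem D94247 : act 7 n44056 = n94247 := rfl
theorem F145321 : act 2 n94247 = n93867 := d4_1 D94247 (iv7 D93867) (iv2 F69372)
theorem F145322 : act 4 n94247 = n44057 := d11_1 D94247 (iv7 D44057) D44056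
theorem F145323 : act 1 n90145 = n94247 := d15_1 (iv0 F138598) (iv7 D94247) F69372
theorem F145324 : act 1 n94247 = n90141 := d15_1 F145323 (iv7 F142434) F142433
theorem F145325 : act 0 n94241 = n76314 := d20_4 D90141 (iv1 F145324) F145322 (iv3 F145312) (iv3 D76314) (iv4 F136674) (iv1 D26991) (iv4 F37017) F37016 D42133
theorem F145326 : act 1 n48749 = n76314 := d15_0 (iv0 F145325) (iv7 D94241) (iv2 F76770)
theorem F145327 : act 5 n90528 = n76314 := d21_6 (iv5 F52297) F52298 (iv5 D20005) D20006 D42367 D90528 (iv1 F145326) F76771 (iv6 D44049) (iv1 F33093)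
theorem F145328 : act 3 n76316 = n90528 := d6_3 F145327 (iv3 D76314) D76316
theorem E14724 : n90525 = n88525 := (c7_4 F135564 F145328 (iv6 D90528) D90525)
theorem F145329 : act 3 n88525 = n42367 := (sb E14724 (iv3 D90525))
def n94248 : Q := act 6 n44057
theorem D94248 : act 6 n44057 = n94248 := rfl
theorem F145330 : act 2 n94248 = n93868 := d3_1 D94248 (iv6 D93868) (iv2 F69373)
theorem F145331 : act 5 n94248 = n93851 := d12_1 D94248 (iv6 D93851) F68972 (iv6 F33099) (iv5 F69374)
def n94249 : Q := act 6 n44058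
theorem D94249 : act 6 n44058 = n94249 := rfl
theorem F145332 : act 2 n94249 = n93834 := d3_1 D94249 (iv6 D93834) (iv2 F69377)
theorem F145333 : act 3 n94249 = n44059 := d7_1 D94249 (iv6 D44059) D44058
theorem F145334 : act 4 n94249 = n88912 := d10_1 D94249 (iv6 D88912) (iv4 F69380)
def n94250 : Q := act 0 n44059
theorem D94250 : act 0 n44059 = n94250 := rfl
def n94251 : Q := act 1 n44059
theorem D94251 : act 1 n44059 = n94251 := rfl
def n94252 : Q := act 7 n44059
theorem D94252 : act 7 n44059 = n94252 := rfl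
theorem F145336 : act 2 n94252 = n76499 := d4_1 D94252 (iv7 D76499) (iv2 F69381)
theorem F145337 : act 6 n94252 = n76503 := d14_1 D94252 (iv7 D76503) (iv6 D34944) F33109 D44059
theorem F145338 : act 1 n76499 = n94250 := d15_0 (iv0 D94250) D94252 F145336
def n94253 : Q := act 0 n44060
theorem D94253 : act 0 n44060 = n94253 := rfl
def n94254 : Q := act 1 n44060
theorem D94254 : act 1 n44060 = n94254 := rfl
theorem F145341 : act 1 n94254 = n76503 := d15_1 D94254 (iv7 D76503) (iv2 F69382)
def n94255 : Q := act 7 n44060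
theorem D94255 : act 7 n44060 = n94255 := rfl
theorem F145342 : act 2 n94255 = n76503 := d4_1 D94255 (iv7 D76503) (iv2 F69382)
theorem F145343 : act 3 n94255 = n93833 := d8_1 D94255 (iv7 D93833) (iv3 F69383)
theorem F145344 : act 6 n94255 = n76499 := d14_1 D94255 (iv7 D76499) (iv6 D34942) (iv7 F33107) D44060
theorem F145345 : act 1 n76503 = n94253 := d15_0 (iv0 D94253) D94255 F145342
theorem F145347 : act 1 n94255 = n76501 := d15_0 (iv0 D76501) D76503 (iv2 F145342)
def n94256 : Q := act 2 n44061
theorem D94256 : act 2 n44061 = n94256 := rfl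
theorem F145348 : act 7 n44062 = n94256 := d15_2 (iv0 D44061) D44062 (iv2 D94256)
def n94257 : Q := act 3 n44061
theorem D94257 : act 3 n44061 = n94257 := rfl
theorem F145349 : act 4 n94257 = n89499 := d20_6 F63532 F63530 (iv4 F15687) (iv3 F33111) D44061 D94257 (iv1 D89499) (iv4 F65113) F65112 (iv1 F32408)
theorem F145350 : act 7 n76476 = n94257 := d11_0 F145349 F145301 (iv4 F114616)
theorem E14725 : n76470 = n44061 := ((c8_2 F145350 (iv3 D94257) (iv7 F114611) D76476)).symm
theorem E14726 : n94256 = n34932 := ((D94256).symm.trans (sb E14725 (iv2 D76470)))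
theorem F145351 : act 7 n44061 = n34933 := (sb E14725 (iv7 F114611))
theorem F145352 : act 2 n34932 = n44061 := (sb E14726 (iv2 D94256))
theorem E14727 : n76475 = n44062 := ((D76475).symm.trans (sb E14726 (iv7 F145348)))
theorem F145353 : act 2 n44062 = n34933 := (sb E14727 F114615)
theorem E14728 : n94235 = n94229 := ((((iv3 F145284)).symm.trans (sb E14727 (iv3 F145296)))).symm
theorem F145354 : act 7 n44062 = n34932 := (sb E14727 (iv7 D76475))
theorem F145355 : act 2 n94229 = n44051 := (sb E14728 F145295)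
theorem F145356 : act 7 n94229 = n44050 := (sb E14728 (iv7 D94235))
theorem E14729 : n94231 = n94228 := (c15_4 (iv0 D94228) D94229 F145356 D94231)
theorem F145357 : act 2 n94228 = n44050 := (sb E14729 (iv2 D94231))
theorem F145358 : act 7 n94228 = n44051 := (sb E14729 (iv7 F145292))
theorem F145359 : act 7 n76472 = n44739 := d11_2 F145354 D76472 (iv4 F136673)
theorem F145360 : act 7 n76473 = n75148 := d13_2 F145354 D76473 F112691
theorem F145361 : act 7 n89833 = n44720 := d8_2 F145359 (iv3 F137890) F114613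
theorem F145362 : act 2 n44739 = n76477 := d15_3 F136447 (iv0 F136450) F145359
theorem F145363 : act 2 n76472 = n44738 := d15_3 (iv0 D44738) D44739 (iv7 F145359)
theorem F145364 : act 7 n44738 = n76477 := d4_2 (iv7 F145359) F145363 (iv2 F145362)
theorem F145365 : act 2 n44720 = n89834 := d15_3 (iv0 F137893) F137891 F145361
theorem F145366 : act 2 n89833 = n44721 := d15_3 F137897 F137896 (iv7 F145361)
theorem F145367 : act 7 n44721 = n89834 := d4_2 (iv7 F145361) F145366 (iv2 F145365)
theorem F145368 : act 2 n52848 = n75148 := d2_3 F112691 F145353 (iv5 F83499)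
theorem E14730 : n75144 = n25650 := (c3_4 D52848 F145368 (iv6 D75148) D75144)
theorem E14731 : n52844 = n34412 := ((D52844).symm.trans (sb E14730 (iv2 D75144)))
theorem E14732 : n52849 = n34413 := ((D52849).symm.trans (sb E14730 (iv7 F112690)))
theorem F145369 : act 2 n34412 = n25650 := (sb E14731 (iv2 D52844))
theorem E14733 : n52789 = n48734 := ((((iv4 F136453)).symm.trans (sb E14731 (iv4 F136456)))).symm
theorem E14734 : n75149 = n25651 := ((D75149).symm.trans (sb E14731 (iv7 F83498)))
theorem E14735 : n75151 = n52794 := ((D75151).symm.trans (sb E14732 (iv4 F136457)))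
theorem F145370 : act 7 n34413 = n25650 := (sb E14732 (iv7 D52849))
theorem F145371 : act 2 n48734 = n25624 := (sb E14733 (iv2 D52789))
theorem F145372 : act 7 n48734 = n25625 := (sb E14733 (iv7 F83396))
theorem F145373 : act 2 n25651 = n34413 := (sb E14734 F112692)
theorem F145374 : act 7 n25651 = n34412 := (sb E14734 (iv7 D75149))
theorem F145375 : act 4 n52794 = n34413 := (sb E14735 (iv4 D75151))
theorem F145376 : act 7 n75145 = n52850 := d8_2 F145374 D75145 (iv3 D52850)
theorem F145377 : act 7 n75147 = n52852 := d13_2 F145374 D75147 (iv5 D52852)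
theorem F145378 : act 2 n75152 = n52852 := d2_3 (iv5 D52852) F145373 D75152
theorem F145379 : act 2 n75153 = n52853 := d3_3 (iv6 D52853) F145373 D75153
theorem E14736 : n52794 = n48735 := (c15_4 F76737 F76743 F145372 (iv2 F83397))
theorem F145380 : act 2 n48735 = n25625 := (sb E14736 F83397)
theorem F145381 : act 4 n48735 = n34413 := (sb E14736 F145375)
theorem F145382 : act 7 n48735 = n25624 := (sb E14736 (iv7 D52794))
theorem F145383 : act 7 n52845 = n75150 := d8_2 F145370 D52845 (iv3 D75150)
theorem F145384 : act 7 n52847 = n75152 := d13_2 F145370 D52847 (iv5 D75152)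
theorem F145385 : act 2 n75147 = n52847 := d4_3 F145384 F145378 (iv7 F145377)
def n94258 : Q := act 5 n44061
theorem D94258 : act 5 n44061 = n94258 := rfl
theorem F145386 : act 2 n94258 = n76473 := d2_1 D94258 (iv5 D76473) F145352
theorem F145387 : act 7 n94258 = n52848 := d13_2 (iv7 F145351) D94258 F83499
def n94259 : Q := act 6 n44061
theorem D94259 : act 6 n44061 = n94259 := rfl
theorem F145388 : act 2 n94259 = n76474 := d3_1 D94259 (iv6 D76474) F145352
def n94260 : Q := act 6 n44062
theorem D94260 : act 6 n44062 = n94260 := rfl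
theorem F145389 : act 2 n94260 = n76478 := d3_1 D94260 (iv6 D76478) (iv2 F145353)
def n94261 : Q := act 3 n44064
theorem D94261 : act 3 n44064 = n94261 := rfl
theorem F145390 : act 2 n94261 = n93863 := d0_1 D94261 (iv3 D93863) (iv2 F69366) F69367 (iv2 F69396)
theorem F145391 : act 5 n94261 = n88472 := d6_2 F69395 D94261 F135451
theorem F145392 : act 7 n94261 = n93848 := d8_2 (iv7 F69394) D94261 (iv3 D93848)
def n94262 : Q := act 6 n44064
theorem D94262 : act 6 n44064 = n94262 := rfl
theorem F145394 : act 5 n94262 = n88474 := d12_1 D94262 (iv6 D88474) (iv5 D41297) D41298 F69395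
def n94263 : Q := act 5 n44067
theorem D94263 : act 5 n44067 = n94263 := rfl
theorem F145395 : act 2 n94263 = n49227 := d2_1 D94263 F77749 (iv2 F69405)
theorem F145396 : act 3 n94263 = n54809 := d6_1 D94263 F86722 (iv3 F69406)
theorem F145397 : act 7 n94263 = n54792 := d13_2 (iv7 F69407) D94263 (iv5 D54792)
def n94264 : Q := act 1 n44068
theorem D94264 : act 1 n44068 = n94264 := rfl
theorem F145398 : act 1 n94264 = n44070 := d15_1 D94264 (iv7 F77917) F77915
theorem F145399 : act 5 n49203 = n94264 := d21_0 (iv1 D94264) (iv5 D44068) D44069 (iv1 F83433) (iv6 D52534) D52533 F139188 F40358 (iv6 F37544) D49203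
theorem F145400 : act 3 n94264 = n93875 := d6_1 F145399 F144713 (iv3 F95755)
def n94265 : Q := act 4 n44068
theorem D94265 : act 4 n44068 = n94265 := rfl
def n94266 : Q := act 6 n44068
theorem D94266 : act 6 n44068 = n94266 := rfl
def n94267 : Q := act 4 n44070
theorem D94267 : act 4 n44070 = n94267 := rfl
def n94268 : Q := act 6 n44070
theorem D94268 : act 6 n44070 = n94268 := rfl
theorem F145401 : act 3 n94268 = n49195 := d7_1 D94268 (iv6 D49195) (iv3 F69412)
def n94269 : Q := act 4 n44072
theorem D94269 : act 4 n44072 = n94269 := rfl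
def n94270 : Q := act 6 n44072
theorem D94270 : act 6 n44072 = n94270 := rfl
def n94271 : Q := act 4 n44073
theorem D94271 : act 4 n44073 = n94271 := rfl
def n94272 : Q := act 6 n44073
theorem D94272 : act 6 n44073 = n94272 := rfl
theorem F145402 : act 3 n94272 = n49301 := d7_1 D94272 (iv6 D49301) (iv3 F82965)
def n94273 : Q := act 0 n44074
theorem D94273 : act 0 n44074 = n94273 := rfl
theorem F145403 : act 4 n94273 = n61277 := d18_3 (iv1 D44073) D44074 D94273 (iv5 D61277) (iv4 F46649) D61282 (iv4 F114361) F114359 (iv5 F82966)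
def n94274 : Q := act 1 n44074
theorem D94274 : act 1 n44074 = n94274 := rfl
def n94275 : Q := act 3 n44074
theorem D94275 : act 3 n44074 = n94275 := rfl
theorem F145404 : act 4 n94275 = n93886 := d5_2 D44074 D94275 (iv3 D93886) (iv4 D43890) (iv3 F33123)
theorem F145405 : act 6 n94275 = n44103 := d7_2 (iv6 F69418) D94275 (iv3 D44103)
def n94276 : Q := act 5 n44074
theorem D94276 : act 5 n44074 = n94276 := rfl
def n94277 : Q := act 7 n44074
theorem D94277 : act 7 n44074 = n94277 := rfl
theorem F145406 : act 4 n94277 = n44075 := d11_1 D94277 (iv7 D44075) D44074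
def n94278 : Q := act 6 n44075
theorem D94278 : act 6 n44075 = n94278 := rfl
theorem F145407 : act 3 n94278 = n93889 := d7_1 D94278 (iv6 D93889) (iv3 F69419)
theorem F145408 : act 5 n94278 = n93889 := d12_1 D94278 (iv6 D93889) F69010 (iv6 F33126) (iv5 F69420)
theorem F145409 : act 7 n94278 = n44106 := d14_2 D44075 D94278 (iv6 D44106) (iv7 D20950) (iv6 F33124)
def n94279 : Q := act 2 n44076
theorem D94279 : act 2 n44076 = n94279 := rfl
theorem F145410 : act 7 n44077 = n94279 := d15_2 (iv0 D44076) D44077 (iv2 D94279)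
def n94280 : Q := act 4 n44076
theorem D94280 : act 4 n44076 = n94280 := rfl
def n94281 : Q := act 5 n44076
theorem D94281 : act 5 n44076 = n94281 := rfl
theorem F145411 : act 3 n94281 = n93927 := d6_1 D94281 (iv5 D93927) (iv3 F144586)
def n94282 : Q := act 6 n44076
theorem D94282 : act 6 n44076 = n94282 := rfl
def n94283 : Q := act 7 n44076
theorem D94283 : act 7 n44076 = n94283 := rfl
theorem F145413 : act 2 n94283 = n44077 := d4_1 D94283 F145410 (iv2 D94279)
theorem F145414 : act 3 n94283 = n93921 := d8_1 D94283 (iv7 F144749) (iv3 F144586)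
def n94284 : Q := act 3 n44077
theorem D94284 : act 3 n44077 = n94284 := rfl
theorem F145415 : act 2 n94284 = n93922 := d0_1 D94284 (iv3 D93922) D93921 (iv3 F145414) F145413
theorem F145416 : act 4 n89061 = n94284 := d20_2 (iv4 F65933) D89061 (iv3 D94284) (iv1 D44077) (iv3 D20938) F62864 (iv1 F34539) (iv4 F65048) F69110 (iv1 D43959)
theorem F145417 : act 2 n46079 = n89061 := d1_3 F145416 F145415 F144750
theorem F145418 : act 7 n89062 = n46079 := d15_2 (iv0 D89061) D89062 F145417
theorem F145419 : act 7 n46078 = n89061 := d15_2 F136749 F136747 (iv2 F145417)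
theorem F145420 : act 2 n89062 = n46078 := d4_3 F145419 (iv2 F145417) (iv7 F145418)
def n94285 : Q := act 4 n44077
theorem D94285 : act 4 n44077 = n94285 := rfl
theorem F145421 : act 3 n94285 = n46112 := d20_3 (iv4 F145120) (iv1 F145124) D94285 (iv1 D46112) (iv3 D22037) (iv4 D10500) (iv1 F14402) (iv4 F31366) (iv3 F64182) (iv1 F136689)
def n94288 : Q := act 5 n44078
theorem D94288 : act 5 n44078 = n94288 := rfl
theorem F145422 : act 2 n94288 = n44079 := d2_1 D94288 (iv5 D44079) D44078
def n94289 : Q := act 6 n44078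
theorem D94289 : act 6 n44078 = n94289 := rfl
theorem F145423 : act 2 n94289 = n44080 := d3_1 D94289 (iv6 D44080) D44078
theorem F145424 : act 4 n94289 = n89036 := d10_1 D94289 (iv6 D89036) (iv4 F69421)
def n94290 : Q := act 0 n44079
theorem D94290 : act 0 n44079 = n94290 := rfl
def n94291 : Q := act 1 n44079
theorem D94291 : act 1 n44079 = n94291 := rfl
def n94292 : Q := act 4 n44079
theorem D94292 : act 4 n44079 = n94292 := rfl
def n94293 : Q := act 6 n44079
theorem D94293 : act 6 n44079 = n94293 := rfl
theorem F145425 : act 3 n94293 = n44084 := d7_1 D94293 (iv6 D44084) (iv3 F69422)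
def n94294 : Q := act 0 n44080
theorem D94294 : act 0 n44080 = n94294 := rfl
def n94295 : Q := act 1 n44080
theorem D94295 : act 1 n44080 = n94295 := rfl
def n94298 : Q := act 6 n44081
theorem D94298 : act 6 n44081 = n94298 := rfl
theorem F145430 : act 5 n94298 = n92759 := d12_1 D94298 (iv6 D92759) (iv5 D43393) D43394 (iv5 F69424)
def n94299 : Q := act 4 n44082
theorem D94299 : act 4 n44082 = n94299 := rfl
theorem F145432 : act 1 n94299 = n44143 := d18_6 F135524 F135519 F63651 (iv4 F68302) F69427 D94299 (iv4 D44143) F69463 F69462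
def n94301 : Q := act 0 n44083
theorem D94301 : act 0 n44083 = n94301 := rfl
theorem F145435 : act 4 n94301 = n90442 := d18_3 (iv1 D44082) D44083 D94301 (iv5 D90442) (iv4 F69242) F72772 F62985 D43449 F69427
theorem F145436 : act 3 n90442 = n94044 := d20_3 D44083 D94301 F145435 (iv1 D94044) F69113 D43963 (iv1 F144742) (iv4 D93912) (iv3 F69428) (iv1 D44082)
def n94306 : Q := act 0 n44084
theorem D94306 : act 0 n44084 = n94306 := rfl
def n94307 : Q := act 1 n44084
theorem D94307 : act 1 n44084 = n94307 := rfl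
def n94308 : Q := act 7 n44084
theorem D94308 : act 7 n44084 = n94308 := rfl
def n94309 : Q := act 2 n44086
theorem D94309 : act 2 n44086 = n94309 := rfl
theorem F145443 : act 7 n44087 = n94309 := d15_2 (iv0 D44086) D44087 (iv2 D94309)
theorem F145444 : act 3 n94309 = n93895 := d8_1 F145443 (iv7 D93895) (iv3 F144799)
def n94310 : Q := act 3 n44086
theorem D94310 : act 3 n44086 = n94310 := rfl
theorem F145445 : act 2 n94310 = n93896 := d0_1 D94310 (iv3 D93896) (iv2 F144723) (iv3 F145444) (iv2 D94309)
theorem F145446 : act 4 n94310 = n88962 := d20_6 F65048 (iv1 F34538) (iv4 F62869) D20943 D44086 D94310 (iv1 D88962) (iv4 F69291) (iv3 D44026) (iv1 F65050)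
theorem F145447 : act 0 n94310 = n93783 := d20_10 F144925 (iv1 D94066) F69477 (iv3 F69476) (iv1 F67721) D43857 F68952 D44796 (iv4 F144797) D94310
theorem F145448 : act 0 n45494 = n94001 := d20_1 F145105 (iv4 D94001) F144763 (iv1 F145190) F145187 (iv4 F72973) (iv1 F136537) (iv4 F145446) (iv3 D94310) (iv1 F145107)
theorem F145449 : act 2 n88962 = n46317 := d1_1 F145446 F144724 (iv2 F145445)
theorem F145450 : act 7 n46318 = n88962 := d15_2 (iv0 D46317) D46318 F145449
theorem F145451 : act 7 n88961 = n46317 := d15_2 F136537 F136533 (iv2 F145449)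
theorem F145452 : act 2 n46318 = n88961 := d4_3 F145451 (iv2 F145449) (iv7 F145450)
def n94313 : Q := act 7 n44086
theorem D94313 : act 7 n44086 = n94313 := rfl
theorem F145453 : act 2 n94313 = n44087 := d4_1 D94313 F145443 (iv2 D94309)
def n94314 : Q := act 5 n44087
theorem D94314 : act 5 n44087 = n94314 := rfl
theorem F145454 : act 3 n94314 = n93893 := d6_1 D94314 (iv5 D93893) (iv3 F144799)
def n94315 : Q := act 6 n44087
theorem D94315 : act 6 n44087 = n94315 := rfl
def n94316 : Q := act 4 n44088
theorem D94316 : act 4 n44088 = n94316 := rfl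
theorem F145456 : act 2 n94316 = n44089 := d1_1 D94316 (iv4 D44089) D44088
theorem F145459 : act 0 n45492 = n94316 := d20_1 (iv4 F144638) (iv4 D94316) (iv3 F145119) (iv1 F145124) D94284 (iv4 F145416) (iv1 F136743) (iv4 F142358) F142357 (iv1 F144644)
def n94317 : Q := act 5 n44088
theorem D94317 : act 5 n44088 = n94317 := rfl
theorem F145461 : act 2 n94317 = n44090 := d2_1 D94317 (iv5 D44090) D44088
def n94318 : Q := act 6 n44088
theorem D94318 : act 6 n44088 = n94318 := rfl
theorem F145462 : act 2 n94318 = n44091 := d3_1 D94318 (iv6 D44091) D44088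
def n94319 : Q := act 5 n44089
theorem D94319 : act 5 n44089 = n94319 := rfl
theorem F145463 : act 3 n94319 = n45098 := d6_1 D94319 (iv5 D45098) (iv3 F69436)
theorem F145464 : act 7 n94319 = n45495 := d13_2 (iv7 F69437) D94319 (iv5 D45495)
def n94320 : Q := act 0 n44090
theorem D94320 : act 0 n44090 = n94320 := rfl
def n94321 : Q := act 1 n44090
theorem D94321 : act 1 n44090 = n94321 := rfl
def n94322 : Q := act 4 n44090
theorem D94322 : act 4 n44090 = n94322 := rfl
def n94323 : Q := act 6 n44090
theorem D94323 : act 6 n44090 = n94323 := rfl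
theorem F145465 : act 3 n94323 = n44093 := d7_1 D94323 (iv6 D44093) (iv3 F69438)
def n94324 : Q := act 0 n44091
theorem D94324 : act 0 n44091 = n94324 := rfl
def n94325 : Q := act 1 n44091
theorem D94325 : act 1 n44091 = n94325 := rfl
def n94326 : Q := act 7 n44091
theorem D94326 : act 7 n44091 = n94326 := rfl
theorem F145466 : act 3 n94326 = n44094 := d8_1 D94326 (iv7 D44094) (iv3 F69439)
theorem F145467 : act 4 n94326 = n89863 := d11_1 D94326 (iv7 F138100) F138098
theorem F145468 : act 5 n94326 = n88485 := d13_1 D94326 (iv7 F135580) F135579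
def n94330 : Q := act 0 n44093
theorem D94330 : act 0 n44093 = n94330 := rfl
def n94331 : Q := act 1 n44093
theorem D94331 : act 1 n44093 = n94331 := rfl
def n94332 : Q := act 7 n44093
theorem D94332 : act 7 n44093 = n94332 := rfl
def n94333 : Q := act 0 n44095
theorem D94333 : act 0 n44095 = n94333 := rfl
def n94334 : Q := act 1 n44095
theorem D94334 : act 1 n44095 = n94334 := rfl
def n94335 : Q := act 2 n44095
theorem D94335 : act 2 n44095 = n94335 := rfl
def n94336 : Q := act 4 n44095
theorem D94336 : act 4 n44095 = n94336 := rfl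
def n94337 : Q := act 6 n44095
theorem D94337 : act 6 n44095 = n94337 := rfl
theorem F145471 : act 3 n94337 = n44097 := d7_1 D94337 (iv6 D44097) D44095
def n94339 : Q := act 3 n44096
theorem D94339 : act 3 n44096 = n94339 := rfl
def n94340 : Q := act 5 n44096
theorem D94340 : act 5 n44096 = n94340 := rfl
theorem F145475 : act 4 n94340 = n44164 := d16_2 D44096 D94340 (iv5 D44164) (iv4 F62991) (iv5 F62988) (iv4 F67991) F67992 (iv7 F69283) (iv2 F69282)
def n94341 : Q := act 6 n44096
theorem D94341 : act 6 n44096 = n94341 := rfl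
theorem F145476 : act 4 n94341 = n44097 := d10_1 D94341 (iv6 D44097) D44096
def n94342 : Q := act 0 n44097
theorem D94342 : act 0 n44097 = n94342 := rfl
def n94343 : Q := act 1 n44097
theorem D94343 : act 1 n44097 = n94343 := rfl
def n94344 : Q := act 5 n44097
theorem D94344 : act 5 n44097 = n94344 := rfl
theorem F145477 : act 6 n94344 = n87041 := d12_2 D44097 D94344 F133610 (iv6 F68308) (iv5 F68309)
theorem F145478 : act 0 n94344 = n52829 := d21_4 (iv5 D41312) D41310 (iv5 F133610) (iv6 F145477) (iv6 D52829) F46143 (iv1 D16898) D16900 (iv6 F33116) (iv1 F63640)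
def n94345 : Q := act 7 n44097
theorem D94345 : act 7 n44097 = n94345 := rfl
def n94346 : Q := act 0 n44098
theorem D94346 : act 0 n44098 = n94346 := rfl
def n94347 : Q := act 1 n44098
theorem D94347 : act 1 n44098 = n94347 := rfl
def n94348 : Q := act 2 n44098
theorem D94348 : act 2 n44098 = n94348 := rfl
def n94349 : Q := act 4 n44098
theorem D94349 : act 4 n44098 = n94349 := rfl
def n94350 : Q := act 6 n44098
theorem D94350 : act 6 n44098 = n94350 := rfl
theorem F145479 : act 3 n94350 = n44100 := d7_1 D94350 (iv6 D44100) D44098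
def n94351 : Q := act 3 n44099
theorem D94351 : act 3 n44099 = n94351 := rfl
def n94352 : Q := act 5 n44099
theorem D94352 : act 5 n44099 = n94352 := rfl
def n94353 : Q := act 6 n44099
theorem D94353 : act 6 n44099 = n94353 := rfl
theorem F145481 : act 4 n94353 = n44100 := d10_1 D94353 (iv6 D44100) D44099
def n94354 : Q := act 0 n44100
theorem D94354 : act 0 n44100 = n94354 := rfl
def n94355 : Q := act 1 n44100
theorem D94355 : act 1 n44100 = n94355 := rfl
def n94356 : Q := act 7 n44100
theorem D94356 : act 7 n44100 = n94356 := rfl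
def n94357 : Q := act 3 n44101
theorem D94357 : act 3 n44101 = n94357 := rfl
def n94358 : Q := act 5 n44101
theorem D94358 : act 5 n44101 = n94358 := rfl
def n94359 : Q := act 6 n44101
theorem D94359 : act 6 n44101 = n94359 := rfl
def n94360 : Q := act 3 n44102
theorem D94360 : act 3 n44102 = n94360 := rfl
def n94361 : Q := act 5 n44102
theorem D94361 : act 5 n44102 = n94361 := rfl
def n94362 : Q := act 6 n44102
theorem D94362 : act 6 n44102 = n94362 := rfl
def n94363 : Q := act 0 n44103
theorem D94363 : act 0 n44103 = n94363 := rfl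
def n94364 : Q := act 1 n44103
theorem D94364 : act 1 n44103 = n94364 := rfl
def n94365 : Q := act 2 n44103
theorem D94365 : act 2 n44103 = n94365 := rfl
theorem F145484 : act 4 n94365 = n93978 := d1_2 (iv4 F69444) D94365 (iv2 D93978)
def n94366 : Q := act 5 n44103
theorem D94366 : act 5 n44103 = n94366 := rfl
theorem F145485 : act 3 n94366 = n44104 := d6_1 D94366 (iv5 D44104) D44103
def n94367 : Q := act 7 n44103
theorem D94367 : act 7 n44103 = n94367 := rfl
theorem F145486 : act 3 n94367 = n44105 := d8_1 D94367 (iv7 D44105) D44103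
theorem F145487 : act 4 n94367 = n93980 := d11_1 D94367 (iv7 D93980) (iv4 F69444)
def n94368 : Q := act 0 n44104
theorem D94368 : act 0 n44104 = n94368 := rfl
theorem F145488 : act 5 n94368 = n44124 := d17_3 (iv1 D44102) D44104 D94368 (iv4 D44124) (iv5 D20967) (iv0 F62850) D42119 D90106 (iv4 F138547)
def n94374 : Q := act 0 n44107
theorem D94374 : act 0 n44107 = n94374 := rfl
theorem F145495 : act 1 n45466 = n94374 := d15_0 (iv0 D94374) F69449 D45466
theorem F145496 : act 4 n93798 = n94374 := d20_0 (iv1 F145495) (iv4 F145188) F145187 F136557 F67715 F32385 (iv1 F65822) F32926 D43845 D93798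
theorem E14737 : n89104 = n44852 := ((c20_4 (iv4 F145496) (iv1 F144578) D93929 (iv3 F144755) (iv1 D89104) F64244 F34011 (iv1 F62687) D20960 D44107 D94374)).symm
theorem F145497 : act 0 n44852 = n41632 := (sb E14737 (iv1 D89104))
def n94375 : Q := act 1 n44107
theorem D94375 : act 1 n44107 = n94375 := rfl
theorem F145498 : act 4 n93799 = n94375 := d20_0 (iv1 D94375) F69448 (iv3 D20966) D20964 D44115 F69456 (iv1 F72928) (iv4 F144599) F144598 (iv1 F144583)
theorem F145499 : act 3 n94150 = n93799 := d20_5 F62671 (iv1 F34533) (iv4 F62875) D44020 D94150 F145498 (iv1 D94375) F69448 (iv3 D20966) D20964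
theorem F145500 : act 0 n45466 = n94375 := d20_1 F145188 (iv4 F145498) (iv3 F145499) (iv1 F145118) (iv3 F145104) F145105 F145448 (iv4 D94001) F144763 (iv1 F145190)
def n94376 : Q := act 2 n44107
theorem D94376 : act 2 n44107 = n94376 := rfl
theorem F145501 : act 3 n94376 = n45454 := d0_2 D44107 D94376 (iv2 D45454) (iv3 D21686) (iv2 F35946)
theorem F145502 : act 4 n94376 = n44119 := d1_2 (iv4 F69448) D94376 (iv2 D44119)
theorem F145503 : act 7 n94376 = n45466 := d4_2 (iv7 F69449) D94376 (iv2 D45466)
theorem F145504 : act 1 n94376 = n45464 := d15_0 (iv0 D45464) (iv7 F69449) D94376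
theorem E14738 : n93923 = n45464 := (c20_1 D93923 (iv1 F145504) F145502 (iv3 F138801) (iv1 F138804) (iv3 F69476) F67719 (iv1 F64143) F65907 D20798 D43903)
theorem F145505 : act 4 n45464 = n43903 := (sb E14738 (iv4 D93923))
theorem F145506 : act 1 n45465 = n94376 := d15_1 D45465 F145503 (iv2 D45466)
def n94378 : Q := act 1 n44108
theorem D94378 : act 1 n44108 = n94378 := rfl
theorem F145509 : act 1 n94378 = n45087 := d15_1 D94378 F70994 (iv2 F69450)
theorem F145510 : act 7 n94378 = n45457 := d15_2 F76215 D94378 (iv2 F76212)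
theorem F145511 : act 5 n94378 = n92941 := d17_7 (iv1 F75858) F71969 (iv1 D44110) (iv5 D20961) D20960 D44108 D94378 F143324 F75860
def n94379 : Q := act 4 n44108
theorem D94379 : act 4 n44108 = n94379 := rfl
theorem F145513 : act 2 n94379 = n45459 := d1_1 D94379 (iv4 D45459) (iv2 F69450)
theorem F145514 : act 7 n94379 = n45469 := d11_2 (iv7 F69451) D94379 (iv4 D45469)
def n94380 : Q := act 6 n44108
theorem D94380 : act 6 n44108 = n94380 := rfl
theorem F145515 : act 2 n94380 = n45460 := d3_1 D94380 (iv6 D45460) (iv2 F69450)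
theorem F145516 : act 5 n94380 = n47853 := d12_1 D94380 (iv6 D47853) (iv5 F64858) F64857 D44108
def n94386 : Q := act 0 n44115
theorem D94386 : act 0 n44115 = n94386 := rfl
theorem F145535 : act 3 n94386 = n94137 := d20_5 (iv4 F33065) (iv1 F62688) (iv4 F62671) D44115 D94386 (iv4 D94137) (iv1 D44015) F33057 F33056 D20900
def n94387 : Q := act 1 n44115
theorem D94387 : act 1 n44115 = n94387 := rfl
def n94388 : Q := act 2 n44115
theorem D94388 : act 2 n44115 = n94388 := rfl
theorem F145537 : act 3 n94388 = n92488 := d0_2 D44115 D94388 F142364 (iv3 F69110) F65047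
theorem F145538 : act 4 n94388 = n46272 := d1_2 (iv4 F69456) D94388 F72932
theorem F145540 : act 7 n94388 = n46134 := d4_2 (iv7 F69458) D94388 F72746
theorem F145541 : act 1 n94388 = n46137 := d15_0 (iv0 D46137) (iv7 F69458) D94388
theorem F145543 : act 1 n46138 = n94388 := d15_1 D46138 F145540 F72746
def n94389 : Q := act 5 n44115
theorem D94389 : act 5 n44115 = n94389 := rfl
theorem F145544 : act 3 n94389 = n44116 := d6_1 D94389 (iv5 D44116) D44115
theorem F145545 : act 7 n94389 = n46139 := d13_2 (iv7 F69458) D94389 (iv5 D46139)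
def n94390 : Q := act 4 n44116
theorem D94390 : act 4 n44116 = n94390 := rfl
theorem F145547 : act 7 n94390 = n46142 := d11_2 (iv7 F69459) D94390 (iv4 D46142)
def n94391 : Q := act 6 n44116
theorem D94391 : act 6 n44116 = n94391 := rfl
theorem F145550 : act 5 n94391 = n93999 := d12_1 D94391 (iv6 D93999) (iv5 D43936) F65791 D44116
def n94392 : Q := act 2 n44117
theorem D94392 : act 2 n44117 = n94392 := rfl
theorem F145551 : act 7 n44118 = n94392 := d15_2 (iv0 D44117) D44118 (iv2 D94392)
def n94393 : Q := act 5 n44117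
theorem D94393 : act 5 n44117 = n94393 := rfl
theorem F145552 : act 3 n94393 = n94002 := d6_1 D94393 (iv5 D94002) F144763
def n94394 : Q := act 6 n44117
theorem D94394 : act 6 n44117 = n94394 := rfl
theorem F145553 : act 3 n94394 = n94003 := d7_1 D94394 (iv6 D94003) F144763
def n94395 : Q := act 7 n44117
theorem D94395 : act 7 n44117 = n94395 := rfl
theorem F145554 : act 2 n94395 = n44118 := d4_1 D94395 F145551 (iv2 D94392)
theorem F145555 : act 3 n94395 = n94004 := d8_1 D94395 (iv7 D94004) F144763
def n94396 : Q := act 3 n44118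
theorem D94396 : act 3 n44118 = n94396 := rfl
theorem F145556 : act 2 n94396 = n94005 := d0_1 D94396 (iv3 D94005) (iv2 F144835) (iv3 F145555) F145554
theorem F145557 : act 4 n94396 = n94005 := d5_2 F144759 D94396 (iv3 D94005) D94006 (iv3 F144837)
theorem F145558 : act 0 n94396 = n94132 := d20_10 (iv4 D94132) (iv1 F69262) F68910 F68909 (iv1 F32925) D20798 D43906 D93932 F144759 D94396
theorem F145559 : act 0 n93789 = n94005 := d20_1 D93789 (iv4 F145557) (iv3 D94396) (iv1 D44118) (iv3 D20966) (iv4 D9955) (iv1 F15679) (iv4 F33061) (iv3 F69259) (iv1 F69263)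
theorem F145560 : act 0 n94137 = n94396 := d20_1 D94137 F145557 (iv3 D94005) (iv1 D43938) (iv3 D20821) (iv4 D9885) (iv1 F15526) (iv4 F32923) (iv3 F68909) (iv1 F69255)
def n94399 : Q := act 5 n44119
theorem D94399 : act 5 n44119 = n94399 := rfl
theorem F145561 : act 2 n94399 = n44120 := d2_1 D94399 (iv5 D44120) D44119
def n94400 : Q := act 6 n44119
theorem D94400 : act 6 n44119 = n94400 := rfl
theorem F145562 : act 2 n94400 = n44121 := d3_1 D94400 (iv6 D44121) D44119
def n94401 : Q := act 0 n44120
theorem D94401 : act 0 n44120 = n94401 := rfl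
def n94402 : Q := act 1 n44120
theorem D94402 : act 1 n44120 = n94402 := rfl
def n94403 : Q := act 4 n44120
theorem D94403 : act 4 n44120 = n94403 := rfl
def n94404 : Q := act 6 n44120
theorem D94404 : act 6 n44120 = n94404 := rfl
theorem F145563 : act 3 n94404 = n44125 := d7_1 D94404 (iv6 D44125) (iv3 F69460)
def n94405 : Q := act 0 n44121
theorem D94405 : act 0 n44121 = n94405 := rfl
def n94406 : Q := act 1 n44121
theorem D94406 : act 1 n44121 = n94406 := rfl
def n94407 : Q := act 5 n44121
theorem D94407 : act 5 n44121 = n94407 := rfl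
theorem F145564 : act 3 n94407 = n44127 := d6_1 D94407 (iv5 D44127) (iv3 F69461)
def n94410 : Q := act 6 n44122
theorem D94410 : act 6 n44122 = n94410 := rfl
theorem F145570 : act 5 n94410 = n92746 := d12_1 D94410 (iv6 D92746) (iv5 D43386) D43387 (iv5 F69462)
def n94411 : Q := act 3 n44123
theorem D94411 : act 3 n44123 = n94411 := rfl
theorem F145571 : act 5 n94411 = n92983 := d6_2 F69465 D94411 (iv3 D92983)
theorem F145572 : act 7 n94411 = n94044 := d8_2 F139197 D94411 (iv3 F145436)
theorem F145573 : act 2 n94411 = n94043 := d15_3 (iv0 D94043) D94044 (iv7 F145572)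
def n94412 : Q := act 4 n44123
theorem D94412 : act 4 n44123 = n94412 := rfl
theorem F145576 : act 0 n94412 = n94149 := d18_2 (iv1 F69464) D94412 (iv4 D94149) (iv5 D44019) (iv4 F33065) F62662 (iv4 F31715) F62851 D20986
theorem F145577 : act 1 n94412 = n94155 := d18_6 (iv1 F69290) (iv4 F72806) (iv1 F75544) F75546 F69465 D94412 (iv4 D94155) (iv0 F75940) (iv5 D48314)
theorem F145578 : act 0 n94411 = n93817 := d20_4 D94155 (iv1 F145577) (iv4 D94412) D94411 F144622 D93819 F144631 (iv4 D88547) (iv3 F75938) F75940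
def n94413 : Q := act 6 n44123
theorem D94413 : act 6 n44123 = n94413 := rfl
theorem F145579 : act 5 n94413 = n92508 := d12_1 D94413 (iv6 D92508) F67889 F68357 F69465
theorem F145580 : act 0 n94413 = n52171 := d21_4 F135522 F135521 F69465 D94413 (iv6 D52171) (iv5 D25338) (iv1 F55475) D46140 F72755 D46141
def n94415 : Q := act 6 n44124
theorem D94415 : act 6 n44124 = n94415 := rfl
theorem F145581 : act 4 n94415 = n44125 := d10_1 D94415 (iv6 D44125) D44124
def n94416 : Q := act 0 n44125
theorem D94416 : act 0 n44125 = n94416 := rfl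
def n94417 : Q := act 1 n44125
theorem D94417 : act 1 n44125 = n94417 := rfl
def n94418 : Q := act 5 n44125
theorem D94418 : act 5 n44125 = n94418 := rfl
theorem F145582 : act 6 n94418 = n44127 := d12_2 D44125 D94418 (iv5 D44127) (iv6 D20968) D20967
def n94419 : Q := act 7 n44125
theorem D94419 : act 7 n44125 = n94419 := rfl
def n94420 : Q := act 3 n44126
theorem D94420 : act 3 n44126 = n94420 := rfl
theorem F145583 : act 5 n94420 = n90759 := d6_2 (iv5 F69468) D94420 (iv3 D90759)
theorem F145584 : act 6 n94420 = n94056 := d7_2 F69467 D94420 (iv3 D94056)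
theorem F145586 : act 0 n94420 = n93063 := d20_4 F71740 (iv1 F71741) F71733 D94420 (iv3 D93063) (iv4 D43547) F35942 (iv4 F64681) F64680 (iv1 F65567)
def n94442 : Q := act 5 n44139
theorem D94442 : act 5 n44139 = n94442 := rfl
theorem F145619 : act 3 n94442 = n90769 := d6_1 D94442 F139694 F69476
def n94443 : Q := act 5 n44140
theorem D94443 : act 5 n44140 = n94443 := rfl
theorem F145621 : act 2 n94443 = n44141 := d2_1 D94443 (iv5 D44141) D44140
def n94444 : Q := act 6 n44140
theorem D94444 : act 6 n44140 = n94444 := rfl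
theorem F145622 : act 2 n94444 = n44142 := d3_1 D94444 (iv6 D44142) D44140
theorem F145623 : act 1 n94444 = n92490 := d15_0 F144900 F143483 (iv2 F145622)
def n94445 : Q := act 0 n44141
theorem D94445 : act 0 n44141 = n94445 := rfl
def n94446 : Q := act 1 n44141
theorem D94446 : act 1 n44141 = n94446 := rfl
theorem F145624 : act 3 n92716 = n94446 := d20_3 D43900 D93914 F144744 (iv1 D94446) F69481 D44143 (iv1 F145432) (iv4 D94299) F69428 (iv1 D43899)
theorem F145625 : act 5 n94446 = n92713 := d6_2 D92716 F145624 F142917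
theorem F145626 : act 7 n94446 = n94021 := d8_2 (iv7 F142927) F145624 (iv3 D94021)
theorem F145627 : act 2 n94021 = n94445 := d15_3 (iv0 D94445) D94446 F145626
def n94447 : Q := act 4 n44141
theorem D94447 : act 4 n44141 = n94447 := rfl
def n94448 : Q := act 6 n44141
theorem D94448 : act 6 n44141 = n94448 := rfl
theorem F145628 : act 3 n94448 = n44144 := d7_1 D94448 (iv6 D44144) (iv3 F69481)
def n94449 : Q := act 0 n44142
theorem D94449 : act 0 n44142 = n94449 := rfl
theorem F145629 : act 5 n94449 = n90492 := d21_0 (iv1 F139262) F135535 F142908 (iv1 D92710) D92713 (iv5 F145625) (iv1 D94446) (iv5 D44141) D44142 D94449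
theorem F145630 : act 2 n94056 = n94449 := d15_3 (iv0 D94449) (iv0 F138819) (iv7 F144898)
theorem F145631 : act 7 n94449 = n92490 := d4_2 (iv7 F144898) F145630 F142369
theorem F145632 : act 1 n94056 = n94444 := d15_0 F145623 (iv7 F145631) (iv2 F145630)
def n94450 : Q := act 5 n44142
theorem D94450 : act 5 n44142 = n94450 := rfl
theorem F145633 : act 3 n94450 = n44146 := d6_1 D94450 (iv5 D44146) (iv3 F69482)
theorem F145634 : act 0 n92734 = n94450 := d21_1 D92734 (iv5 D94450) (iv6 D44142) (iv1 F69480) (iv6 D42177) (iv5 F50659) (iv1 D32029) (iv5 F31815) D42347 (iv1 F135528)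
def n94452 : Q := act 6 n44143
theorem D94452 : act 6 n44143 = n94452 := rfl
theorem F145635 : act 4 n94452 = n44144 := d10_1 D94452 (iv6 D44144) D44143
def n94453 : Q := act 0 n44144
theorem D94453 : act 0 n44144 = n94453 := rfl
def n94454 : Q := act 1 n44144
theorem D94454 : act 1 n44144 = n94454 := rfl
theorem F145636 : act 6 n52168 = n94454 := d21_3 (iv5 D61277) D61276 (iv5 F139270) (iv1 D94454) (iv6 D44144) (iv5 D20986) (iv1 F62851) D42119 (iv6 F138534) F138536
def n94455 : Q := act 5 n44144
theorem D94455 : act 5 n44144 = n94455 := rfl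
theorem F145637 : act 6 n94455 = n44146 := d12_2 D44144 D94455 (iv5 D44146) (iv6 D20987) D20986
def n94456 : Q := act 7 n44144
theorem D94456 : act 7 n44144 = n94456 := rfl
def n94457 : Q := act 3 n44145
theorem D94457 : act 3 n44145 = n94457 := rfl
theorem F145638 : act 4 n94457 = n88249 := d5_2 (iv4 F69484) D94457 F135172 (iv4 F64428) (iv3 F67707)
theorem F145639 : act 5 n94457 = n90500 := d6_2 (iv5 F69483) D94457 (iv3 D90500)
theorem F145640 : act 6 n94457 = n94030 := d7_2 (iv6 F69486) D94457 (iv3 D94030)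
theorem F145641 : act 7 n94457 = n92495 := d8_2 F69485 D94457 F142390
theorem F145642 : act 0 n94457 = n94049 := d20_4 F69274 (iv1 F67710) (iv4 F69484) D94457 F144893 F69120 (iv1 F35767) (iv4 F61511) (iv3 F61527) (iv1 F69277)
theorem F145643 : act 1 n90244 = n94049 := d15_0 (iv0 F145642) F145641 F142389
theorem F145644 : act 1 n94042 = n90244 := d15_0 F145643 (iv7 D94049) (iv2 F144889)
theorem F145645 : act 2 n94457 = n94047 := d15_3 (iv0 D94047) (iv0 F142392) (iv7 F145641)
theorem F145646 : act 5 n94047 = n92729 := d2_2 (iv5 F145639) F145645 (iv2 F142964)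
theorem F145647 : act 7 n94047 = n90244 := d4_2 (iv7 F145641) F145645 (iv2 F142389)
theorem F145648 : act 1 n94457 = n94042 := d15_0 F145644 (iv7 F145647) (iv2 F145645)
def n94528 : Q := act 1 n44179
theorem D94528 : act 1 n44179 = n94528 := rfl
theorem F145714 : act 3 n44202 = n94528 := d20_3 (iv4 F69564) (iv1 F69567) (iv4 F73090) (iv1 D94528) F69518 (iv4 F33210) (iv1 F69603) (iv4 D44195) F66650 (iv1 F33204)
theorem F145716 : act 6 n94528 = n45514 := d7_2 (iv6 F73091) F145714 F71784
def n94545 : Q := act 5 n44187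
theorem D94545 : act 5 n44187 = n94545 := rfl
theorem F145767 : act 2 n94545 = n44188 := d2_1 D94545 (iv5 D44188) D44187
def n94546 : Q := act 6 n44187
theorem D94546 : act 6 n44187 = n94546 := rfl
theorem F145769 : act 2 n94546 = n44189 := d3_1 D94546 (iv6 D44189) D44187
def n94555 : Q := act 0 n44190
theorem D94555 : act 0 n44190 = n94555 := rfl
def n94557 : Q := act 5 n44190
theorem D94557 : act 5 n44190 = n94557 := rfl
theorem F145777 : act 6 n94557 = n44193 := d12_2 D44190 D94557 (iv5 D44193) (iv6 D21011) D21010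
def n94558 : Q := act 7 n44190
theorem D94558 : act 7 n44190 = n94558 := rfl
def n94595 : Q := act 5 n44209
theorem D94595 : act 5 n44209 = n94595 := rfl
theorem F145825 : act 6 n94595 = n44212 := d12_2 D44209 D94595 (iv5 D44212) (iv6 D21019) D21018
def n94596 : Q := act 7 n44209
theorem D94596 : act 7 n44209 = n94596 := rfl
theorem F145826 : act 2 n94596 = n94558 := d4_1 D94596 (iv7 D94558) (iv2 F69560)
theorem F145830 : act 1 n94596 = n94555 := d15_0 (iv0 D94555) D94558 (iv2 F145826)
def n94641 : Q := act 5 n44226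
theorem D94641 : act 5 n44226 = n94641 := rfl
def n94706 : Q := act 2 n44251
theorem D94706 : act 2 n44251 = n94706 := rfl
theorem F145977 : act 3 n94706 = n46087 := d0_2 D44251 D94706 (iv2 F72652) F61867 (iv2 F62587)
theorem F145978 : act 6 n94706 = n87366 := d3_2 (iv6 F69618) D94706 F134131
theorem F145979 : act 7 n94706 = n86917 := d4_2 (iv7 F69619) D94706 F133370
theorem F145980 : act 1 n94706 = n46036 := d15_0 (iv0 F72625) (iv7 F69619) D94706
theorem F145981 : act 1 n86918 = n94706 := d15_1 D86918 F145979 F133370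
def n94707 : Q := act 5 n44251
theorem D94707 : act 5 n44251 = n94707 := rfl
theorem F145982 : act 3 n94707 = n44252 := d6_1 D94707 (iv5 D44252) D44251
theorem F145983 : act 7 n94707 = n86919 := d13_2 (iv7 F69619) D94707 (iv5 D86919)
def n94709 : Q := act 6 n44252
theorem D94709 : act 6 n44252 = n94709 := rfl
theorem F145990 : act 5 n94709 = n87430 := d12_1 D94709 (iv6 D87430) F61734 (iv6 F62588) D44252
def n94712 : Q := act 5 n44254
theorem D94712 : act 5 n44254 = n94712 := rfl
theorem F145998 : act 2 n94712 = n46113 := d2_1 D94712 (iv5 D46113) (iv2 F69632)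
theorem F145999 : act 3 n94712 = n44255 := d6_1 D94712 (iv5 D44255) D44254
theorem F146000 : act 7 n94712 = n87596 := d13_2 (iv7 F69634) D94712 (iv5 D87596)
def n94713 : Q := act 6 n44254
theorem D94713 : act 6 n44254 = n94713 := rfl
theorem F146001 : act 2 n94713 = n46114 := d3_1 D94713 (iv6 D46114) (iv2 F69632)
theorem F146002 : act 3 n94713 = n44256 := d7_1 D94713 (iv6 D44256) D44254
def n94714 : Q := act 4 n44255
theorem D94714 : act 4 n44255 = n94714 := rfl
theorem F146005 : act 7 n94714 = n87598 := d11_2 (iv7 F69636) D94714 (iv4 D87598)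
def n94715 : Q := act 6 n44255
theorem D94715 : act 6 n44255 = n94715 := rfl
def n94719 : Q := act 0 n44259
theorem D94719 : act 0 n44259 = n94719 := rfl
theorem F146014 : act 1 n81866 = n94719 := d15_0 (iv0 D94719) F69650 (iv2 F125889)
def n94720 : Q := act 1 n44259
theorem D94720 : act 1 n44259 = n94720 := rfl
theorem F146015 : act 4 n94131 = n94720 := d20_6 (iv4 D20910) (iv1 D9940) (iv4 F15669) (iv3 F33056) D44014 D94131 (iv1 D94720) F69648 (iv3 F69110) (iv1 F65049)
theorem F146016 : act 0 n93922 = n94131 := d20_10 F146015 (iv1 D94720) F69648 (iv3 F69110) (iv1 F65049) D44030 F69304 D45464 F145505 D93922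
theorem F146017 : act 0 n81866 = n94720 := d20_1 (iv4 F125891) (iv4 F146015) (iv3 D94131) (iv1 F69262) F68909 F32923 (iv1 F15525) D9890 D20840 (iv1 F69112)
def n94721 : Q := act 2 n44259
theorem D94721 : act 2 n44259 = n94721 := rfl
theorem F146018 : act 3 n94721 = n81874 := d0_2 D44259 D94721 F125897 (iv3 D44290) (iv2 F63035)
theorem F146019 : act 4 n94721 = n92488 := d1_2 (iv4 F69648) D94721 F142364
theorem F146021 : act 7 n94721 = n81866 := d4_2 (iv7 F69650) D94721 F125889
theorem F146022 : act 1 n94721 = n86949 := d15_0 (iv0 D86949) (iv7 F69650) D94721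
theorem F146023 : act 1 n86950 = n94721 := d15_1 D86950 F146021 F125889
def n94722 : Q := act 5 n44259
theorem D94722 : act 5 n44259 = n94722 := rfl
theorem F146025 : act 7 n94722 = n86951 := d13_2 (iv7 F69650) D94722 (iv5 D86951)
def n94729 : Q := act 4 n44262
theorem D94729 : act 4 n44262 = n94729 := rfl
def n94732 : Q := act 1 n44263
theorem D94732 : act 1 n44263 = n94732 := rfl
theorem F146033 : act 4 n94732 = n87574 := d18_7 (iv1 D19230) F14117 F62564 D10016 D21049 D44263 D94732 F134459 (iv5 D40767)
def n94733 : Q := act 3 n44263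
theorem D94733 : act 3 n44263 = n94733 := rfl
def n94738 : Q := act 7 n44264
theorem D94738 : act 7 n44264 = n94738 := rfl
def n94739 : Q := act 3 n44265
theorem D94739 : act 3 n44265 = n94739 := rfl
theorem F146039 : act 5 n94739 = n91270 := d6_2 (iv5 F69658) D94739 (iv3 D91270)
theorem F146040 : act 6 n94739 = n86908 := d7_2 (iv6 F69659) D94739 (iv3 D86908)
def n94740 : Q := act 3 n44266
theorem D94740 : act 3 n44266 = n94740 := rfl
theorem F146041 : act 5 n94740 = n91273 := d6_2 F69666 D94740 (iv3 D91273)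
theorem F146042 : act 7 n94740 = n86988 := d8_2 (iv7 F69665) D94740 F133503
def n94741 : Q := act 1 n44267
theorem D94741 : act 1 n44267 = n94741 := rfl
theorem F146046 : act 4 n46143 = n94741 := d20_0 (iv1 D94741) (iv4 D44267) (iv3 F69474) (iv1 D44136) F33158 D20988 (iv1 F69471) (iv4 F71785) (iv3 F71784) (iv1 F72762)
def n94765 : Q := act 5 n44277
theorem D94765 : act 5 n44277 = n94765 := rfl
theorem F146079 : act 2 n94765 = n87032 := d2_1 D94765 (iv5 D87032) (iv2 F69683)
theorem F146080 : act 7 n94765 = n87802 := d13_2 F140535 D94765 (iv5 F140536)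
theorem F146081 : act 0 n94765 = n47883 := d17_2 (iv1 F69689) D94765 (iv5 D47883) (iv4 D23055) D23056 D47886 F75179 F72769 F72765
theorem F146082 : act 1 n94765 = n48210 := d17_6 (iv1 F66048) D9518 D20172 F66131 D44277 D94765 (iv5 D48210) (iv0 D23346) F17822
theorem F146083 : act 4 n94765 = n91276 := d18_5 (iv1 D44266) F33233 D21055 D44277 D94765 (iv0 D91276) (iv4 D42723) D42722 F69666
theorem F146084 : act 2 n91276 = n91369 := d1_1 F146083 F140504 (iv2 F146079)
theorem F146085 : act 7 n91276 = n91368 := d11_2 (iv7 F146080) F146083 F140502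
theorem F146086 : act 2 n91368 = n91277 := d15_3 F140455 F140456 F146085
theorem F146087 : act 7 n91369 = n91277 := d4_2 (iv7 F146085) F146084 (iv2 F146086)
def n94766 : Q := act 3 n44279
theorem D94766 : act 3 n44279 = n94766 := rfl
theorem F146088 : act 7 n94766 = n87027 := d8_2 (iv7 F69687) D94766 F133584
def n94767 : Q := act 5 n44279
theorem D94767 : act 5 n44279 = n94767 := rfl
theorem F146089 : act 2 n94767 = n87802 := d2_1 D94767 (iv5 F140536) F140533
theorem F146090 : act 7 n94767 = n87032 := d13_2 (iv7 F69687) D94767 (iv5 D87032)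
theorem F146091 : act 1 n94767 = n47883 := d17_6 (iv1 F66045) D20197 (iv1 F32032) (iv5 F66337) D44279 D94767 (iv5 D47883) F66120 F30945
theorem F146092 : act 4 n94767 = n91277 := d18_5 F134805 (iv4 D87830) (iv1 F62526) D44279 D94767 F140455 (iv4 D91352) F66979 (iv5 F69658)
theorem F146093 : act 0 n94767 = n48210 := d21_1 D94767 (iv5 D48210) (iv6 F72355) F72358 (iv6 D40866) D40865 (iv1 F134647) F134649 (iv6 F134781) (iv1 F134782)
def n94798 : Q := act 5 n44290
theorem D94798 : act 5 n44290 = n94798 := rfl
theorem F146125 : act 7 n94798 = n88900 := d13_2 (iv7 F69703) D94798 (iv5 D88900)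
def n94799 : Q := act 4 n44291
theorem D94799 : act 4 n44291 = n94799 := rfl
theorem F146128 : act 0 n94799 = n87588 := d18_2 (iv1 F133458) D94799 (iv4 D87588) (iv5 F75741) F75740 (iv0 F143991) (iv4 D93360) (iv0 F135256) F135255
theorem F146129 : act 1 n94799 = n87585 := d18_6 D19229 (iv4 F62862) F62859 F62639 D44291 D94799 (iv4 D87585) (iv0 D40769) (iv5 D19231)
def n94801 : Q := act 3 n44292
theorem D94801 : act 3 n44292 = n94801 := rfl
def n94802 : Q := act 4 n44292
theorem D94802 : act 4 n44292 = n94802 := rfl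
theorem F146133 : act 2 n94802 = n94729 := d1_1 D94802 (iv4 D94729) F69714
theorem F146135 : act 0 n94802 = n87575 := d18_2 D44292 D94802 (iv4 D87575) (iv5 D40762) (iv4 F62862) F62860 F31277 (iv0 F62664) D21081
def n94803 : Q := act 6 n44292
theorem D94803 : act 6 n44292 = n94803 := rfl
theorem F146137 : act 5 n94803 = n89248 := d12_1 D94803 (iv6 D89248) (iv5 F75202) D91378 F140520
def n94804 : Q := act 3 n44293
theorem D94804 : act 3 n44293 = n94804 := rfl
theorem F146138 : act 5 n94804 = n47198 := d6_2 F69709 D94804 F74481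
def n94805 : Q := act 4 n44293
theorem D94805 : act 4 n44293 = n94805 := rfl
theorem F146141 : act 7 n94805 = n94729 := d11_2 F69712 D94805 (iv4 D94729)
theorem F146142 : act 0 n94805 = n87582 := d18_2 (iv1 F69708) D94805 (iv4 D87582) (iv5 D40767) (iv4 F62621) (iv0 F62629) F62639 F33276 D44255
theorem F146144 : act 1 n94802 = n87582 := d15_0 (iv0 F146142) F146141 (iv2 F146133)
def n94806 : Q := act 6 n44293
theorem D94806 : act 6 n44293 = n94806 := rfl
theorem F146146 : act 5 n94806 = n47200 := d12_1 D94806 (iv6 D47200) (iv5 D22705) D22706 F69709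
def n94807 : Q := act 0 n44294
theorem D94807 : act 0 n44294 = n94807 := rfl
def n94808 : Q := act 1 n44294
theorem D94808 : act 1 n44294 = n94808 := rfl
theorem F146148 : act 1 n94808 = n94714 := d15_1 D94808 F146005 F134471
def n94809 : Q := act 3 n44294
theorem D94809 : act 3 n44294 = n94809 := rfl
theorem F146154 : act 7 n94809 = n94733 := d8_2 (iv7 F69716) D94809 (iv3 D94733)
def n94810 : Q := act 5 n44294
theorem D94810 : act 5 n44294 = n94810 := rfl
def n94811 : Q := act 6 n44294
theorem D94811 : act 6 n44294 = n94811 := rfl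
theorem F146158 : act 4 n94811 = n44295 := d10_1 D94811 (iv6 D44295) D44294
def n94812 : Q := act 0 n44295
theorem D94812 : act 0 n44295 = n94812 := rfl
def n94813 : Q := act 1 n44295
theorem D94813 : act 1 n44295 = n94813 := rfl
def n94814 : Q := act 5 n44295
theorem D94814 : act 5 n44295 = n94814 := rfl
theorem F146159 : act 2 n94814 = n88209 := d2_1 D94814 F135148 F134472
theorem F146160 : act 6 n94814 = n44296 := d12_2 D44295 D94814 (iv5 D44296) (iv6 D21082) D21081
def n94815 : Q := act 7 n44295
theorem D94815 : act 7 n44295 = n94815 := rfl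
theorem F146161 : act 6 n94815 = n94738 := d14_1 D94815 (iv7 D94738) (iv6 D44264) (iv7 F33277) D44295
def n94816 : Q := act 4 n44296
theorem D94816 : act 4 n44296 = n94816 := rfl
theorem F146162 : act 2 n94816 = n88208 := d1_1 D94816 (iv4 D88208) (iv2 F69717)
theorem F146163 : act 7 n94816 = n88210 := d11_2 (iv7 F69718) D94816 (iv4 D88210)
theorem F146164 : act 0 n94816 = n87726 := d18_2 (iv1 F69719) D94816 (iv4 D87726) (iv5 D40865) (iv4 D19264) F14133 (iv4 F14160) (iv0 F17306) D22822
theorem F146165 : act 1 n94816 = n87723 := d18_6 (iv1 F133559) (iv4 D40425) F62498 (iv4 F33278) D44296 D94816 (iv4 D87723) D87722 F134649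
def n94822 : Q := act 5 n44300
theorem D94822 : act 5 n44300 = n94822 := rfl
theorem F146181 : act 0 n44310 = n94822 := d21_1 D44310 (iv5 D94822) (iv6 F134511) (iv1 D87628) (iv6 D40827) D40826 (iv1 F69814) (iv5 D44350) (iv6 F64035) F64037
def n94974 : Q := act 5 n44349
theorem D94974 : act 5 n44349 = n94974 := rfl
theorem F146337 : act 3 n94974 = n44350 := d6_1 D94974 (iv5 D44350) D44349
theorem F146338 : act 7 n94974 = n94974 := d13_2 F69810 D94974 (iv5 D94974)
def n95228 : Q := act 0 n44474
theorem D95228 : act 0 n44474 = n95228 := rfl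
theorem F146758 : act 3 n95228 = n81922 := d20_5 (iv4 F13259) (iv1 F15941) D21154 D44474 D95228 (iv4 D81922) (iv1 D37512) (iv4 F33833) (iv3 D21513) F16263
theorem F146759 : act 1 n81570 = n95228 := d15_0 (iv0 D95228) F69989 D81570
def n95229 : Q := act 1 n44474
theorem D95229 : act 1 n44474 = n95229 := rfl
def n95230 : Q := act 2 n44474
theorem D95230 : act 2 n44474 = n95230 := rfl
theorem F146760 : act 3 n95230 = n70877 := d0_2 D44474 D95230 (iv2 F107378) (iv3 D37266) (iv2 F33383)
theorem F146761 : act 4 n95230 = n80082 := d1_2 (iv4 F69988) D95230 (iv2 D80082)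
theorem F146762 : act 7 n95230 = n81570 := d4_2 (iv7 F69989) D95230 (iv2 D81570)
theorem F146763 : act 1 n95230 = n81568 := d15_0 (iv0 D81568) (iv7 F69989) D95230
theorem F146764 : act 1 n95229 = n81570 := d15_1 D95229 (iv7 F146762) (iv2 D95230)
theorem F146765 : act 1 n81569 = n95230 := d15_1 D81569 F146762 (iv2 D81570)
def n95232 : Q := act 5 n44475
theorem D95232 : act 5 n44475 = n95232 := rfl
theorem F146770 : act 7 n95232 = n81757 := d13_2 F121465 D95232 (iv5 D81757)
theorem F146771 : act 0 n84479 = n95232 := d21_7 D21569 (iv1 F58153) (iv5 D37190) D37191 F121221 D38958 D84479 (iv5 D95232) (iv6 D44475) F33385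
def n95233 : Q := act 6 n44479
theorem D95233 : act 6 n44479 = n95233 := rfl
theorem F146772 : act 3 n95233 = n44480 := d7_1 D95233 (iv6 D44480) D44479
theorem F146773 : act 4 n95233 = n57269 := d10_1 D95233 (iv6 D57269) (iv4 F69994)
def n95234 : Q := act 5 n44480
theorem D95234 : act 5 n44480 = n95234 := rfl
theorem F146774 : act 2 n95234 = n81433 := d2_1 D95234 (iv5 D81433) (iv2 F69997)
def n95235 : Q := act 7 n44480
theorem D95235 : act 7 n44480 = n95235 := rfl
theorem F146775 : act 2 n95235 = n58149 := d4_1 D95235 (iv7 F120901) (iv2 F69997)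
theorem F146777 : act 6 n95235 = n81436 := d14_1 D95235 (iv7 D81436) (iv6 D37191) (iv7 F33390) D44480
theorem F146778 : act 1 n58115 = n95235 := d15_1 (iv0 F120903) (iv7 D95235) F69997
theorem F146779 : act 1 n95235 = n58112 := d15_1 F146778 F116961 (iv2 F116952)
def n95236 : Q := act 4 n44483
theorem D95236 : act 4 n44483 = n95236 := rfl
theorem F146780 : act 6 n95236 = n44505 := d10_2 (iv6 F69999) D95236 (iv4 D44505)
theorem F146781 : act 1 n95236 = n58184 := d18_6 (iv1 F44720) D27720 (iv1 F120801) F69998 D44483 D95236 (iv4 D58184) F91923 F91921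
theorem F146782 : act 0 n95236 = n58179 := d20_1 D95236 (iv4 D58179) D58178 (iv1 F128399) F59251 (iv4 F59323) (iv1 F127830) F127832 D88749 (iv1 F136130)
def n95238 : Q := act 0 n44485
theorem D95238 : act 0 n44485 = n95238 := rfl
theorem F146787 : act 3 n95238 = n83680 := d20_5 (iv4 F13613) (iv1 F15944) D21158 D44485 D95238 F128753 (iv1 D39083) (iv4 F44707) (iv3 D27702) F22027
theorem F146788 : act 2 n81428 = n95238 := d15_3 (iv0 D95238) (iv0 F129485) (iv7 F128749)
theorem F146789 : act 1 n81429 = n95238 := d15_0 (iv0 D95238) F70001 D81429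
theorem F146790 : act 7 n95238 = n81427 := d15_2 (iv0 F129496) F146789 F128748
def n95239 : Q := act 2 n44485
theorem D95239 : act 2 n44485 = n95239 := rfl
theorem F146791 : act 3 n95239 = n57567 := d0_2 D44485 D95239 F90721 F44416 (iv2 F33393)
theorem F146792 : act 4 n95239 = n77020 := d1_2 (iv4 F70000) D95239 (iv2 D77020)
theorem F146793 : act 7 n95239 = n81429 := d4_2 (iv7 F70001) D95239 (iv2 D81429)
theorem F146794 : act 1 n95239 = n81427 := d15_0 (iv0 D81427) (iv7 F70001) D95239
theorem F146795 : act 1 n81428 = n95239 := d15_0 F146794 (iv7 F146790) (iv2 F146788)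
def n95240 : Q := act 6 n44485
theorem D95240 : act 6 n44485 = n95240 := rfl
theorem F146796 : act 3 n95240 = n44486 := d7_1 D95240 (iv6 D44486) D44485
theorem F146797 : act 4 n95240 = n77022 := d10_1 D95240 (iv6 D77022) (iv4 F70000)
theorem F146798 : act 7 n84467 = n95240 := d8_0 F146796 F121266 D84467
def n95241 : Q := act 5 n44486
theorem D95241 : act 5 n44486 = n95241 := rfl
theorem F146799 : act 2 n95241 = n81435 := d2_1 D95241 (iv5 D81435) (iv2 F70002)
theorem F146800 : act 7 n95241 = n84468 := d13_2 (iv7 F121266) D95241 (iv5 D84468)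
def n95242 : Q := act 7 n44489
theorem D95242 : act 7 n44489 = n95242 := rfl
theorem F146802 : act 4 n95242 = n84514 := d11_1 D95242 F129666 F125356
theorem F146803 : act 5 n95242 = n44490 := d13_1 D95242 (iv7 D44490) D44489
theorem F146804 : act 0 n55764 = n95242 := d20_10 F146802 (iv1 F129661) (iv4 D38991) D38990 F121036 (iv3 F122925) F122926 (iv1 F122930) (iv4 D55765) D55764
def n95244 : Q := act 6 n44492
theorem D95244 : act 6 n44492 = n95244 := rfl
theorem F146807 : act 2 n95244 = n78098 := d3_1 D95244 (iv6 D78098) (iv2 F121788)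
theorem F146808 : act 3 n95244 = n44495 := d7_1 D95244 (iv6 D44495) D44492
theorem F146809 : act 4 n95244 = n57783 := d10_1 D95244 (iv6 D57783) (iv4 F121799)
theorem F146810 : act 0 n81811 = n57783 := d20_7 F129591 D84448 F129592 F126077 (iv1 F29883) (iv3 F58322) (iv4 F125750) (iv4 F146809) F146808 (iv1 F129593)
def n95245 : Q := act 3 n44493
theorem D95245 : act 3 n44493 = n95245 := rfl
theorem F146811 : act 4 n95245 = n57780 := d5_2 D44493 D95245 (iv3 D57780) (iv4 F121799) (iv3 D44492)
theorem F146812 : act 7 n95245 = n81455 := d8_2 (iv7 F126064) D95245 (iv3 D81455)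
def n95246 : Q := act 5 n44493
theorem D95246 : act 5 n44493 = n95246 := rfl
theorem F146813 : act 2 n95246 = n81452 := d2_1 D95246 (iv5 D81452) F126072
theorem F146814 : act 7 n95246 = n81457 := d13_2 (iv7 F126064) D95246 (iv5 D81457)
def n95247 : Q := act 6 n44493
theorem D95247 : act 6 n44493 = n95247 := rfl
theorem F146815 : act 2 n95247 = n81453 := d3_1 D95247 (iv6 D81453) F126072
theorem F146816 : act 4 n95247 = n44495 := d10_1 D95247 (iv6 D44495) D44493
theorem F146817 : act 7 n84505 = n95247 := d15_2 (iv0 F125700) F129637 F146815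
def n95248 : Q := act 0 n44494
theorem D95248 : act 0 n44494 = n95248 := rfl
theorem F146818 : act 5 n95248 = n81733 := d17_3 D21160 D44494 D95248 F125651 D81737 (iv0 F126186) (iv5 D81477) (iv0 F126043) F29667
theorem F146819 : act 1 n44499 = n95248 := d15_0 (iv0 D95248) F121846 F121839
theorem F146820 : act 6 n55732 = n95248 := d21_9 (iv5 D44499) (iv1 D21161) D21162 F33398 D21167 D44509 F70021 (iv1 F121220) D55732 (iv1 F146819)
theorem F146821 : act 3 n95248 = n55744 := d7_1 F146820 (iv6 D55744) (iv3 F88168)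
def n95249 : Q := act 1 n44494
theorem D95249 : act 1 n44494 = n95249 := rfl
theorem F146822 : act 1 n95249 = n44499 := d15_1 D95249 (iv7 F121836) F121847
def n95250 : Q := act 4 n44494
theorem D95250 : act 4 n44494 = n95250 := rfl
theorem F146823 : act 1 n95250 = n86028 := d18_6 (iv1 D21555) (iv4 F33916) (iv1 F126052) (iv4 D44493) D44494 D95250 (iv4 D86028) F126014 (iv5 D45154)
theorem F146824 : act 1 n84486 = n95250 := d15_0 F146823 F131973 (iv2 F129612)
def n95251 : Q := act 6 n44494
theorem D95251 : act 6 n44494 = n95251 := rfl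
def n95252 : Q := act 1 n44495
theorem D95252 : act 1 n44495 = n95252 := rfl
theorem F146825 : act 6 n45941 = n95252 := d21_3 F33388 (iv1 F121461) D45941 (iv1 D95252) (iv6 D44495) D44494 D95248 F146818 (iv6 D81733) (iv1 F121458)
def n95253 : Q := act 7 n44495
theorem D95253 : act 7 n44495 = n95253 := rfl
theorem F146827 : act 4 n95253 = n84505 := d11_1 D95253 F146817 F146816
theorem F146828 : act 5 n95253 = n87045 := d13_1 D95253 F133627 (iv5 F122208)
theorem F146829 : act 5 n81632 = n84505 := d17_3 (iv1 D37303) D37304 D81632 (iv4 F146827) F146828 (iv0 D87045) (iv5 D40444) (iv0 F115866) (iv4 F116760)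
theorem F146830 : act 4 n87045 = n81646 := d18_5 F117030 (iv4 F60003) D84505 (iv4 F146827) F146828 (iv0 D81646) (iv4 D37317) D37316 (iv5 F58262)
theorem F146831 : act 6 n95253 = n79487 := d21_3 D40444 D87045 (iv5 F146828) (iv1 D79487) (iv6 D36190) D36189 D79482 F122075 (iv6 D77160) F115866
theorem F146832 : act 7 n79487 = n44977 := d14_2 D95253 F146831 (iv6 D44977) F121830 D44495
theorem E14756 : n79486 = n44500 := ((c15_4 (iv0 D79486) D79487 F146832 F121840)).symm
theorem F146833 : act 1 n44500 = n36190 := (sb E14756 (iv0 D79486))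
theorem F146834 : act 3 n77838 = n95253 := d20_5 (iv4 F123960) F123510 F56202 (iv3 F56201) D77838 F146827 (iv1 F129637) F125699 (iv3 F125668) F125671
theorem F146835 : act 5 n80207 = n77838 := d6_0 F146834 F146828 F133632
def n95254 : Q := act 3 n44498
theorem D95254 : act 3 n44498 = n95254 := rfl
theorem F146837 : act 4 n95254 = n78121 := d5_2 D44498 D95254 (iv3 D78121) (iv4 D35621) F121782
def n95255 : Q := act 5 n44498
theorem D95255 : act 5 n44498 = n95255 := rfl
theorem F146839 : act 2 n95255 = n81457 := d2_1 D95255 (iv5 D81457) (iv2 F126063)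
theorem F146840 : act 7 n95255 = n81452 := d13_2 F126073 D95255 (iv5 D81452)
theorem F146841 : act 1 n81457 = n81794 := d15_0 F125722 (iv7 F146840) F146839
theorem F146842 : act 0 n81458 = n85629 := d21_4 D81794 (iv1 F146841) (iv5 D81457) D81458 (iv6 D85629) D85628 F131291 (iv5 D81589) D81590 F131293
theorem F146843 : act 0 n79478 = n44977 := d18_0 F126192 F146842 F131294 F116842 D45287 (iv0 F134242) (iv4 D87450) (iv0 F122066) F122065
def n95256 : Q := act 6 n44498
theorem D95256 : act 6 n44498 = n95256 := rfl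
theorem F146845 : act 4 n95256 = n44500 := d10_1 D95256 (iv6 D44500) D44498
theorem F146846 : act 0 n58153 = n95256 := d20_1 (iv4 F91953) F146845 F121785 (iv1 F121366) F88886 (iv4 F46241) (iv1 F57064) F57066 (iv3 F126061) (iv1 D58161)
def n95257 : Q := act 4 n44499
theorem D95257 : act 4 n44499 = n95257 := rfl
theorem F146848 : act 1 n95257 = n84486 := d18_6 F126006 (iv4 F58163) (iv1 F126050) (iv4 D44498) D44499 D95257 F129613 (iv0 F126039) (iv5 D18824)
def n95258 : Q := act 6 n44499
theorem D95258 : act 6 n44499 = n95258 := rfl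
theorem F146849 : act 2 n95258 = n87061 := d3_1 D95258 F133661 F121839
theorem F146850 : act 3 n95258 = n78125 := d7_1 D95258 (iv6 D78125) (iv3 F121784)
theorem F146851 : act 0 n45581 = n95258 := d21_4 F33410 (iv1 F30744) D21763 (iv6 F71865) (iv6 D95258) (iv5 D44499) (iv1 D21161) D21162 F33398 D21167
theorem F146852 : act 7 n78487 = n95258 := d8_0 F146850 F121866 D78487
theorem E14757 : n87062 = n78487 := (c15_2 (iv0 D87061) D87062 F146852 F146849)
theorem F146853 : act 0 n78487 = n40452 := (sb E14757 (iv1 D87062))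
def n95259 : Q := act 0 n44500
theorem D95259 : act 0 n44500 = n95259 := rfl
theorem F146854 : act 6 n95259 = n85638 := d21_5 (iv5 F146818) (iv1 F146819) (iv5 D44499) D44500 D95259 F131323 F133765 (iv5 D87172) D87173 F133768
theorem F146855 : act 5 n95259 = n80871 := d21_0 (iv1 F134247) F134244 (iv6 F70526) F121459 D81733 (iv5 F146818) (iv1 F146819) (iv5 D44499) D44500 D95259
theorem F146856 : act 2 n79489 = n95259 := d15_3 (iv0 D95259) F146833 D79489
theorem F146857 : act 4 n95259 = n85640 := d1_2 F131274 F146856 F131331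
theorem F146858 : act 7 n95259 = n79478 := d4_2 D79489 F146856 F122062
theorem F146859 : act 1 n79489 = n44977 := d15_0 (iv0 F146843) (iv7 F146858) (iv2 F146856)
theorem F146860 : act 1 n79487 = n95259 := d15_1 D79487 F146858 F122062
theorem F146861 : act 6 n80826 = n45580 := d21_3 (iv5 F146855) (iv1 F146860) F126745 (iv1 D45580) (iv6 D21762) (iv5 D10384) (iv1 F17429) D21428 (iv6 F70533) (iv1 F124592)
theorem E14758 : n80829 = n80445 := (c21_5 F126745 (iv1 D80826) (iv5 D36911) D36912 D80829 (iv6 D80445) D80444 (iv1 F131246) (iv5 F131323) (iv6 F146854) (iv1 F146860))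
theorem F146862 : act 1 n80445 = n36912 := (sb E14758 (iv0 D80829))
theorem F146863 : act 7 n80830 = n79108 := d15_2 F146862 D80830 (iv2 F123650)
def n95260 : Q := act 7 n44500
theorem D95260 : act 7 n44500 = n95260 := rfl
theorem F146864 : act 2 n95260 = n79487 := d4_1 D95260 F146832 F121840
theorem F146865 : act 3 n95260 = n56202 := d8_1 D95260 F122570 (iv3 F121785)
theorem F146866 : act 1 n79478 = n95260 := d15_1 (iv0 F146843) (iv7 D95260) (iv2 F121840)
theorem F146867 : act 1 n95260 = n79489 := d15_1 F146866 (iv7 D79489) (iv2 F122062)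
def n95261 : Q := act 4 n44501
theorem D95261 : act 4 n44501 = n95261 := rfl
theorem F146868 : act 2 n95261 = n81497 := d1_1 D95261 F133776 (iv2 F133773)
theorem F146870 : act 0 n95261 = n81501 := d18_2 D44501 D95261 F125352 F58167 (iv4 F58163) (iv0 F126051) (iv4 D44493) (iv0 D21160) D21162
def n95262 : Q := act 5 n44501
theorem D95262 : act 5 n44501 = n95262 := rfl
theorem F146871 : act 7 n95262 = n87173 := d13_2 (iv7 F133771) D95262 F133769
theorem F146872 : act 6 n95262 = n80830 := d21_3 D21162 D44501 D95262 (iv1 D80830) (iv6 D36912) D36911 D80825 F124537 (iv6 D44500) (iv1 D21161)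
def n95263 : Q := act 6 n44501
theorem D95263 : act 6 n44501 = n95263 := rfl
theorem F146873 : act 5 n95263 = n79626 := d21_6 (iv5 D21165) (iv1 D10087) D10088 (iv6 F33398) D44501 D95263 (iv1 D79626) F57007 (iv6 D36261) (iv1 F33403)
def n95264 : Q := act 4 n44502
theorem D95264 : act 4 n44502 = n95264 := rfl
theorem F146875 : act 7 n95264 = n81497 := d11_2 F133772 D95264 F133776
theorem F146876 : act 0 n95264 = n45158 := d18_2 (iv1 F70719) D95264 (iv4 D45158) (iv5 D21556) (iv4 F33916) (iv0 F126049) (iv4 D44498) F33754 (iv5 F70717)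
theorem F146877 : act 0 n81501 = n95264 := d20_1 (iv4 F125352) (iv4 D95264) F120372 (iv1 D35625) F28203 D17266 (iv1 F45056) (iv4 D18853) D18852 F116793
theorem F146878 : act 1 n95261 = n45158 := d15_0 (iv0 F146876) F146875 (iv2 F146868)
theorem F146879 : act 4 n81792 = n95262 := d18_3 F116834 (iv4 F58312) D81792 (iv5 D95262) D95261 F146878 (iv4 D45158) D45157 F116701
def n95265 : Q := act 6 n44502
theorem D95265 : act 6 n44502 = n95265 := rfl
theorem F146880 : act 3 n95265 = n56198 := d7_1 D95265 F121378 (iv3 F120372)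
theorem F146881 : act 5 n95265 = n80524 := d12_1 D95265 F123796 (iv5 D79105) D79106 F120371
theorem F146882 : act 0 n95251 = n79543 := d21_4 (iv5 D21162) D21160 D44494 D95251 (iv6 D79543) D79542 (iv1 F136133) (iv5 F146881) (iv6 D95265) (iv1 D44502)
theorem F146883 : act 7 n79482 = n95265 := d13_0 F146881 F123797 (iv5 F122075)
theorem F146884 : act 2 n95265 = n79483 := d15_3 F136113 (iv0 F136110) F146883
theorem F146885 : act 6 n79483 = n44979 := d3_2 D95265 F146884 F133770
def n95266 : Q := act 3 n44503
theorem D95266 : act 3 n44503 = n95266 := rfl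
theorem F146886 : act 6 n95266 = n44512 := d7_2 (iv6 F70009) D95266 (iv3 D44512)
def n95267 : Q := act 5 n44503
theorem D95267 : act 5 n44503 = n95267 := rfl
def n95268 : Q := act 3 n44505
theorem D95268 : act 3 n44505 = n95268 := rfl
theorem F146887 : act 4 n95268 = n78765 := d5_2 D44505 D95268 (iv3 D78765) F56525 F44557
def n95269 : Q := act 5 n44505
theorem D95269 : act 5 n44505 = n95269 := rfl
theorem F146888 : act 2 n95269 = n81513 := d2_1 D95269 F125362 F70721
theorem F146889 : act 7 n95269 = n81514 := d13_2 F70726 D95269 F125364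
theorem F146890 : act 4 n95269 = n44567 := d16_2 D44505 D95269 F70085 F61551 F31915 F16944 D21165 (iv7 F33758) F33756
theorem F146891 : act 0 n95269 = n75162 := d17_2 (iv1 F70012) D95269 (iv5 D75162) (iv4 D34419) (iv5 D16689) (iv0 F12241) D8832 D18864 D39867
theorem F146892 : act 1 n95269 = n45162 := d17_6 (iv1 D21168) (iv5 D10088) D10086 D21164 D44505 D95269 (iv5 D45162) (iv0 F70024) (iv4 D44510)
def n95270 : Q := act 3 n44506
theorem D95270 : act 3 n44506 = n95270 := rfl
theorem F146893 : act 4 n95270 = n78459 := d5_2 D44506 D95270 (iv3 D78459) (iv4 D35753) (iv3 F33401)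
def n95271 : Q := act 5 n44506
theorem D95271 : act 5 n44506 = n95271 := rfl
theorem F146894 : act 2 n95271 = n81514 := d2_1 D95271 F125364 F70725
theorem F146895 : act 4 n95271 = n44566 := d9_1 D95271 F70082 (iv4 D40306) (iv5 D19053) (iv4 F16950) D21164 D44505 D95269 F146890 F70085 F61551 F31915 F16944 D21165 D44506
theorem F146896 : act 7 n95271 = n81513 := d13_2 F70722 D95271 F125362
theorem F146897 : act 0 n95271 = n45162 := d17_2 (iv1 F70014) D95271 (iv5 D45162) (iv4 D21559) (iv5 D10299) (iv0 F16329) D21504 F33810 D39864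
theorem F146898 : act 1 n95271 = n75162 := d17_6 (iv1 F33411) (iv5 D17502) F16752 D21165 D44506 D95271 (iv5 D75162) (iv0 F70018) (iv4 D44508)
def n95272 : Q := act 6 n44506
theorem D95272 : act 6 n44506 = n95272 := rfl
theorem F146899 : act 4 n95272 = n44507 := d10_1 D95272 (iv6 D44507) D44506
def n95273 : Q := act 0 n44507
theorem D95273 : act 0 n44507 = n95273 := rfl
def n95274 : Q := act 1 n44507
theorem D95274 : act 1 n44507 = n95274 := rfl
theorem F146900 : act 5 n79543 = n95274 := d21_0 (iv1 D95274) (iv5 F70027) (iv6 D44511) (iv1 D21168) (iv6 F33398) (iv5 D21162) D21160 D44494 D95251 F146882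
theorem F146901 : act 3 n95274 = n79277 := d6_1 F146900 (iv5 F121663) (iv3 F122178)
theorem F146902 : act 7 n79707 = n95274 := d8_0 F146901 F121662 D79707
theorem F146903 : act 2 n79707 = n95273 := d15_3 (iv0 D95273) D95274 (iv7 F146902)
theorem F146904 : act 3 n95273 = n89645 := d0_2 D79707 F146903 (iv2 F137430) (iv3 F119076) F89172
def n95275 : Q := act 7 n44507
theorem D95275 : act 7 n44507 = n95275 := rfl
theorem F146905 : act 3 n95275 = n78464 := d8_1 D95275 (iv7 D78464) (iv3 F70015)
def n95276 : Q := act 3 n44508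
theorem D95276 : act 3 n44508 = n95276 := rfl
theorem F146907 : act 4 n95276 = n57937 := d5_2 D44508 D95276 (iv3 D57937) F44571 F42973
theorem F146908 : act 7 n95276 = n81506 := d8_2 (iv7 F70017) D95276 (iv3 D81506)
def n95277 : Q := act 5 n44508
theorem D95277 : act 5 n44508 = n95277 := rfl
theorem F146909 : act 2 n95277 = n81504 := d2_1 D95277 (iv5 D81504) (iv2 F70016)
theorem F146910 : act 7 n95277 = n81507 := d13_2 (iv7 F70017) D95277 (iv5 D81507)
theorem F146911 : act 4 n95277 = n44560 := d16_2 D44508 D95277 (iv5 D44560) F33434 F32896 (iv4 F33406) (iv5 F33413) F33765 (iv2 F33763)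
theorem F146912 : act 0 n95277 = n75166 := d17_2 (iv1 F70019) D95277 (iv5 D75166) (iv4 D34422) (iv5 D16694) (iv0 D7778) D7780 (iv0 F16327) D21559
theorem F146913 : act 1 n95277 = n75174 := d17_6 (iv1 F57003) F57001 F30743 (iv5 F33410) D44508 D95277 (iv5 D75174) (iv0 F70723) (iv4 D44982)
def n95278 : Q := act 1 n44509
theorem D95278 : act 1 n44509 = n95278 := rfl
theorem F146916 : act 3 n83287 = n95278 := d20_3 (iv4 F127745) (iv1 F127746) D83287 (iv1 D95278) (iv3 F87585) (iv4 F91661) (iv1 F121570) (iv4 D57430) (iv3 F120682) (iv1 F58999)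
theorem F146917 : act 5 n80821 = n95278 := d21_6 (iv5 D4652) (iv1 F6693) D10208 D21427 (iv1 F120972) D80821 (iv1 D95278) F70021 (iv6 D21429) (iv1 F16138)
theorem F146918 : act 2 n95278 = n80831 := d2_1 F146917 (iv5 D80831) (iv2 F124526)
theorem F146919 : act 4 n84368 = n95278 := d1_0 F146918 F124545 F129469
def n95279 : Q := act 7 n44509
theorem D95279 : act 7 n44509 = n95279 := rfl
theorem F146921 : act 5 n95279 = n44897 := d13_1 D95279 (iv7 D44897) (iv5 F70021)
theorem F146922 : act 1 n80831 = n95279 := d15_1 (iv0 F124543) (iv7 D95279) F70020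
def n95280 : Q := act 3 n44510
theorem D95280 : act 3 n44510 = n95280 := rfl
theorem F146925 : act 4 n95280 = n79998 := d5_2 D44510 D95280 (iv3 D79998) (iv4 D36439) F33414
theorem F146926 : act 7 n95280 = n81503 := d8_2 (iv7 F70023) D95280 (iv3 D81503)
def n95281 : Q := act 5 n44510
theorem D95281 : act 5 n44510 = n95281 := rfl
theorem F146927 : act 2 n95281 = n81507 := d2_1 D95281 (iv5 D81507) (iv2 F70022)
theorem F146928 : act 4 n95281 = n44557 := d9_1 D95281 (iv5 D44557) F33431 (iv5 D19832) (iv4 F30741) (iv5 F33410) D44508 D95277 F146911 (iv5 D44560) F33434 F32896 (iv4 F33406) (iv5 F33413) D44510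
theorem F146929 : act 7 n95281 = n81504 := d13_2 (iv7 F70023) D95281 (iv5 D81504)
def n95282 : Q := act 6 n44510
theorem D95282 : act 6 n44510 = n95282 := rfl
theorem F146933 : act 4 n95282 = n44511 := d10_1 D95282 (iv6 D44511) D44510
def n95283 : Q := act 0 n44511
theorem D95283 : act 0 n44511 = n95283 := rfl
def n95284 : Q := act 1 n44511
theorem D95284 : act 1 n44511 = n95284 := rfl
def n95285 : Q := act 7 n44511
theorem D95285 : act 7 n44511 = n95285 := rfl
theorem F146934 : act 3 n95285 = n80003 := d8_1 D95285 (iv7 D80003) (iv3 F70026)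
theorem F146935 : act 5 n95285 = n95275 := d13_1 D95285 (iv7 D95275) (iv5 F70027)
theorem F146936 : act 6 n95285 = n95242 := d14_1 D95285 (iv7 D95242) F70005 (iv7 F33765) D44511
def n95286 : Q := act 0 n44512
theorem D95286 : act 0 n44512 = n95286 := rfl
def n95287 : Q := act 1 n44512
theorem D95287 : act 1 n44512 = n95287 := rfl
def n95288 : Q := act 2 n44512
theorem D95288 : act 2 n44512 = n95288 := rfl
def n95289 : Q := act 5 n44512
theorem D95289 : act 5 n44512 = n95289 := rfl
theorem F146937 : act 3 n95289 = n44513 := d6_1 D95289 (iv5 D44513) D44512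
def n95290 : Q := act 6 n44513
theorem D95290 : act 6 n44513 = n95290 := rfl
theorem F146938 : act 4 n95290 = n87179 := d10_1 D95290 (iv6 D87179) (iv4 F70028)
def n95291 : Q := act 0 n44514
theorem D95291 : act 0 n44514 = n95291 := rfl
def n95292 : Q := act 1 n44514
theorem D95292 : act 1 n44514 = n95292 := rfl
def n95293 : Q := act 5 n44514
theorem D95293 : act 5 n44514 = n95293 := rfl
theorem F146939 : act 6 n95293 = n44515 := d12_2 D44514 D95293 (iv5 D44515) (iv6 D21171) D21170
def n95294 : Q := act 7 n44514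
theorem D95294 : act 7 n44514 = n95294 := rfl
def n95295 : Q := act 4 n44515
theorem D95295 : act 4 n44515 = n95295 := rfl
def n95296 : Q := act 7 n44515
theorem D95296 : act 7 n44515 = n95296 := rfl
theorem F146940 : act 2 n95296 = n47863 := d4_1 D95296 F75139 F70589
theorem F146941 : act 5 n95296 = n44516 := d13_1 D95296 (iv7 D44516) D44515
theorem F146942 : act 1 n45502 = n95296 := d15_1 (iv0 F71753) (iv7 D95296) (iv2 F70589)
def n95297 : Q := act 0 n44517
theorem D95297 : act 0 n44517 = n95297 := rfl
def n95298 : Q := act 1 n44517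
theorem D95298 : act 1 n44517 = n95298 := rfl
def n95299 : Q := act 5 n44517
theorem D95299 : act 5 n44517 = n95299 := rfl
def n95300 : Q := act 7 n44517
theorem D95300 : act 7 n44517 = n95300 := rfl
theorem F146943 : act 4 n95300 = n76518 := d11_1 D95300 (iv7 D76518) (iv4 F70033)
def n95301 : Q := act 6 n44518
theorem D95301 : act 6 n44518 = n95301 := rfl
theorem F146944 : act 3 n95301 = n44520 := d7_1 D95301 (iv6 D44520) D44518
def n95302 : Q := act 6 n44519
theorem D95302 : act 6 n44519 = n95302 := rfl
theorem F146945 : act 2 n95302 = n76271 := d3_1 D95302 (iv6 D76271) (iv2 F70034)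
theorem F146946 : act 4 n95302 = n52706 := d10_1 D95302 (iv6 D52706) (iv4 F70035)
def n95303 : Q := act 0 n44520
theorem D95303 : act 0 n44520 = n95303 := rfl
def n95304 : Q := act 1 n44520
theorem D95304 : act 1 n44520 = n95304 := rfl
def n95305 : Q := act 5 n44520
theorem D95305 : act 5 n44520 = n95305 := rfl
def n95306 : Q := act 7 n44520
theorem D95306 : act 7 n44520 = n95306 := rfl
theorem F146947 : act 4 n95306 = n76509 := d11_1 D95306 (iv7 D76509) (iv4 F70039)
def n95307 : Q := act 6 n44521
theorem D95307 : act 6 n44521 = n95307 := rfl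
theorem F146948 : act 2 n95307 = n44523 := d3_1 D95307 (iv6 D44523) (iv2 F70040)
theorem F146949 : act 4 n95307 = n70565 := d10_1 D95307 (iv6 D70565) (iv4 F70041)
def n95308 : Q := act 0 n44522
theorem D95308 : act 0 n44522 = n95308 := rfl
def n95309 : Q := act 5 n44522
theorem D95309 : act 5 n44522 = n95309 := rfl
theorem F146950 : act 2 n95309 = n44526 := d2_1 D95309 (iv5 D44526) (iv2 F70042)
def n95310 : Q := act 7 n44522
theorem D95310 : act 7 n44522 = n95310 := rfl
theorem F146951 : act 2 n95310 = n44527 := d4_1 D95310 (iv7 D44527) (iv2 F70042)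
theorem F146952 : act 4 n95310 = n92798 := d11_1 D95310 (iv7 D92798) (iv4 F70043)
theorem F146953 : act 6 n95310 = n48370 := d14_1 D95310 F76030 (iv6 D44927) F33693 D44522
theorem E14759 : n95308 = n92695 := ((c15_1 (iv0 F142871) (iv0 D95308) D95310 F146951)).symm
theorem F146954 : act 1 n92695 = n44522 := (sb E14759 (iv0 D95308))
theorem F146955 : act 1 n44525 = n95310 := d15_1 D44525 (iv7 D95310) F70042
theorem F146956 : act 0 n44524 = n95310 := d20_1 (iv4 F135438) F146952 F143145 (iv1 F139324) D90530 F139332 F139255 F139253 (iv3 F68106) (iv1 F135444)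
def n95311 : Q := act 0 n44523
theorem D95311 : act 0 n44523 = n95311 := rfl
def n95312 : Q := act 1 n44523
theorem D95312 : act 1 n44523 = n95312 := rfl
def n95313 : Q := act 5 n44523
theorem D95313 : act 5 n44523 = n95313 := rfl
theorem F146957 : act 3 n95313 = n44532 := d6_1 D95313 (iv5 D44532) (iv3 F70044)
theorem F146958 : act 6 n95313 = n44526 := d12_2 D44523 D95313 (iv5 D44526) (iv6 D21176) D21175
def n95314 : Q := act 7 n44523
theorem D95314 : act 7 n44523 = n95314 := rfl
theorem F146959 : act 3 n95314 = n44533 := d8_1 D95314 (iv7 D44533) (iv3 F70044)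
def n95315 : Q := act 2 n44524
theorem D95315 : act 2 n44524 = n95315 := rfl
theorem F146960 : act 7 n44525 = n95315 := d15_2 (iv0 D44524) D44525 (iv2 D95315)
def n95316 : Q := act 5 n44524
theorem D95316 : act 5 n44524 = n95316 := rfl
def n95317 : Q := act 6 n44524
theorem D95317 : act 6 n44524 = n95317 := rfl
def n95318 : Q := act 7 n44524
theorem D95318 : act 7 n44524 = n95318 := rfl
theorem F146961 : act 2 n95318 = n44525 := d4_1 D95318 F146960 (iv2 D95315)
def n95319 : Q := act 3 n44525
theorem D95319 : act 3 n44525 = n95319 := rfl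
def n95320 : Q := act 5 n44525
theorem D95320 : act 5 n44525 = n95320 := rfl
def n95321 : Q := act 6 n44525
theorem D95321 : act 6 n44525 = n95321 := rfl
def n95322 : Q := act 0 n44526
theorem D95322 : act 0 n44526 = n95322 := rfl
def n95323 : Q := act 1 n44526
theorem D95323 : act 1 n44526 = n95323 := rfl
def n95324 : Q := act 4 n44526
theorem D95324 : act 4 n44526 = n95324 := rfl
def n95325 : Q := act 7 n44526
theorem D95325 : act 7 n44526 = n95325 := rfl
theorem F146962 : act 3 n95325 = n44543 := d8_1 D95325 (iv7 D44543) (iv3 F70045)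
theorem F146963 : act 5 n95325 = n44527 := d13_1 D95325 (iv7 D44527) D44526
def n95326 : Q := act 4 n44528
theorem D95326 : act 4 n44528 = n95326 := rfl
theorem F146964 : act 7 n95326 = n89102 := d11_2 (iv7 F70050) D95326 (iv4 D89102)
theorem F146965 : act 5 n95326 = n77603 := d16_7 F116494 (iv5 D47216) (iv4 D22713) (iv5 F29317) (iv4 F33470) (iv5 F70049) D95326 F116560 F116558
theorem F146966 : act 0 n95326 = n56965 := d18_2 F70747 D95326 F90047 (iv5 D46973) (iv4 D22590) (iv0 D10710) D10713 F33780 D44990
theorem F146967 : act 1 n95326 = n76643 := d18_6 F70954 F70951 (iv1 D37851) (iv4 F33470) (iv5 F70049) D95326 F114966 (iv0 F120354) F120352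
def n95327 : Q := act 6 n44528
theorem D95327 : act 6 n44528 = n95327 := rfl
theorem F146968 : act 3 n95327 = n44529 := d7_1 D95327 (iv6 D44529) D44528
def n95328 : Q := act 0 n44529
theorem D95328 : act 0 n44529 = n95328 := rfl
def n95329 : Q := act 1 n44529
theorem D95329 : act 1 n44529 = n95329 := rfl
def n95330 : Q := act 5 n44529
theorem D95330 : act 5 n44529 = n95330 := rfl
theorem F146969 : act 6 n95330 = n44636 := d12_2 D44529 D95330 (iv5 D44636) (iv6 D21246) (iv5 F33425)
def n95331 : Q := act 7 n44529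
theorem D95331 : act 7 n44529 = n95331 := rfl
def n95332 : Q := act 2 n44530
theorem D95332 : act 2 n44530 = n95332 := rfl
theorem F146970 : act 7 n44531 = n95332 := d15_2 (iv0 D44530) D44531 (iv2 D95332)
def n95333 : Q := act 3 n44530
theorem D95333 : act 3 n44530 = n95333 := rfl
def n95334 : Q := act 4 n44530
theorem D95334 : act 4 n44530 = n95334 := rfl
def n95335 : Q := act 5 n44530
theorem D95335 : act 5 n44530 = n95335 := rfl
def n95336 : Q := act 6 n44530
theorem D95336 : act 6 n44530 = n95336 := rfl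
def n95338 : Q := act 3 n44531
theorem D95338 : act 3 n44531 = n95338 := rfl
def n95340 : Q := act 5 n44531
theorem D95340 : act 5 n44531 = n95340 := rfl
def n95341 : Q := act 6 n44531
theorem D95341 : act 6 n44531 = n95341 := rfl
def n95342 : Q := act 0 n44532
theorem D95342 : act 0 n44532 = n95342 := rfl
def n95343 : Q := act 1 n44532
theorem D95343 : act 1 n44532 = n95343 := rfl
def n95344 : Q := act 4 n44532
theorem D95344 : act 4 n44532 = n95344 := rfl
theorem F146972 : act 6 n95344 = n44542 := d10_2 (iv6 F70052) D95344 (iv4 D44542)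
def n95345 : Q := act 7 n44532
theorem D95345 : act 7 n44532 = n95345 := rfl
theorem F146973 : act 5 n95345 = n44533 := d13_1 D95345 (iv7 D44533) D44532
def n95346 : Q := act 0 n44534
theorem D95346 : act 0 n44534 = n95346 := rfl
def n95347 : Q := act 1 n44534
theorem D95347 : act 1 n44534 = n95347 := rfl
def n95348 : Q := act 2 n44534
theorem D95348 : act 2 n44534 = n95348 := rfl
theorem F146974 : act 3 n95348 = n44597 := d0_2 D44534 D95348 (iv2 F70774) (iv3 D45002) F66864
def n95349 : Q := act 5 n44534
theorem D95349 : act 5 n44534 = n95349 := rfl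
theorem F146975 : act 3 n95349 = n44535 := d6_1 D95349 (iv5 D44535) D44534
def n95350 : Q := act 6 n44534
theorem D95350 : act 6 n44534 = n95350 := rfl
theorem F146976 : act 3 n95350 = n44536 := d7_1 D95350 (iv6 D44536) D44534
theorem F146977 : act 4 n95350 = n91408 := d10_1 D95350 F140606 F73785
def n95351 : Q := act 1 n44535
theorem D95351 : act 1 n44535 = n95351 := rfl
theorem F146978 : act 1 n95351 = n44538 := d15_1 D95351 (iv7 F70776) F70775
theorem F146979 : act 7 n95351 = n89871 := d15_2 F70457 D95351 F137957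
theorem F146980 : act 5 n95351 = n89832 := d17_7 F144883 F137926 (iv1 F125241) (iv5 D42263) (iv4 F66726) D44535 D95351 F137889 (iv4 F144884)
theorem F146981 : act 2 n89874 = n95351 := d2_3 F146980 F137885 D89874
def n95352 : Q := act 4 n44535
theorem D95352 : act 4 n44535 = n95352 := rfl
def n95353 : Q := act 6 n44535
theorem D95353 : act 6 n44535 = n95353 := rfl
def n95354 : Q := act 7 n44536
theorem D95354 : act 7 n44536 = n95354 := rfl
theorem F146982 : act 2 n95354 = n47898 := d4_1 D95354 (iv7 F75217) F70777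
theorem F146983 : act 4 n95354 = n90085 := d11_1 D95354 F138474 (iv4 F70053)
theorem F146984 : act 5 n95354 = n45348 := d13_1 D95354 F71475 (iv5 F70267)
theorem F146985 : act 6 n95354 = n93387 := d14_1 D95354 F144046 (iv6 D45007) F66781 D44536
theorem F146986 : act 1 n47900 = n95354 := d15_1 F75224 (iv7 D95354) (iv2 F70777)
def n95355 : Q := act 5 n44537
theorem D95355 : act 5 n44537 = n95355 := rfl
theorem F146988 : act 3 n95355 = n44538 := d6_1 D95355 (iv5 D44538) D44537
def n95356 : Q := act 6 n44537
theorem D95356 : act 6 n44537 = n95356 := rfl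
theorem F146989 : act 3 n95356 = n44539 := d7_1 D95356 (iv6 D44539) D44537
def n95357 : Q := act 4 n44538
theorem D95357 : act 4 n44538 = n95357 := rfl
def n95358 : Q := act 6 n44538
theorem D95358 : act 6 n44538 = n95358 := rfl
def n95359 : Q := act 5 n44539
theorem D95359 : act 5 n44539 = n95359 := rfl
theorem F146991 : act 7 n95359 = n45498 := d13_2 F75559 D95359 (iv5 F75561)
def n95360 : Q := act 3 n44540
theorem D95360 : act 3 n44540 = n95360 := rfl
def n95361 : Q := act 4 n44540
theorem D95361 : act 4 n44540 = n95361 := rfl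
theorem F146994 : act 1 n95361 = n48022 := d18_6 F70372 (iv4 F68949) (iv1 F139141) F139140 F137951 D95361 (iv4 D48022) D48021 (iv5 F75453)
def n95362 : Q := act 6 n44540
theorem D95362 : act 6 n44540 = n95362 := rfl
def n95363 : Q := act 3 n44541
theorem D95363 : act 3 n44541 = n95363 := rfl
theorem F146995 : act 5 n95363 = n89364 := d6_2 F71535 D95363 F137036
theorem F146996 : act 0 n95363 = n44598 := d21_7 D44590 (iv1 F70246) (iv5 D44674) D44675 F136666 D89364 (iv5 F146995) (iv5 D44598) (iv6 D21214) D21211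
def n95364 : Q := act 4 n44541
theorem D95364 : act 4 n44541 = n95364 := rfl
theorem F146997 : act 0 n95364 = n48022 := d18_2 (iv1 F70792) D95364 (iv4 D48022) (iv5 D23175) F17727 D19949 (iv4 F66743) F33791 (iv5 F70790)
def n95365 : Q := act 6 n44541
theorem D95365 : act 6 n44541 = n95365 := rfl
def n95366 : Q := act 0 n44542
theorem D95366 : act 0 n44542 = n95366 := rfl
theorem F146998 : act 4 n95366 = n47797 := d18_3 (iv1 D44541) D44542 D95366 (iv5 F137876) F137875 F64749 D41986 F71538 F71535
def n95367 : Q := act 3 n44542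
theorem D95367 : act 3 n44542 = n95367 := rfl
def n95368 : Q := act 5 n44542
theorem D95368 : act 5 n44542 = n95368 := rfl
def n95369 : Q := act 7 n44542
theorem D95369 : act 7 n44542 = n95369 := rfl
theorem F146999 : act 4 n95369 = n44543 := d11_1 D95369 (iv7 D44543) D44542
def n95370 : Q := act 6 n44543
theorem D95370 : act 6 n44543 = n95370 := rfl
theorem F147000 : act 5 n95370 = n48373 := d12_1 D95370 (iv6 D48373) (iv5 D23502) (iv6 F63221) (iv5 F70056)
def n95371 : Q := act 5 n44544
theorem D95371 : act 5 n44544 = n95371 := rfl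
theorem F147001 : act 2 n95371 = n48376 := d2_1 D95371 (iv5 D48376) (iv2 F70057)
theorem F147002 : act 3 n95371 = n44545 := d6_1 D95371 (iv5 D44545) D44544
def n95372 : Q := act 6 n44544
theorem D95372 : act 6 n44544 = n95372 := rfl
theorem F147003 : act 2 n95372 = n48377 := d3_1 D95372 (iv6 D48377) (iv2 F70057)
theorem F147004 : act 3 n95372 = n44546 := d7_1 D95372 (iv6 D44546) D44544
theorem F147005 : act 4 n95372 = n95372 := d10_1 D95372 (iv6 D95372) F70058
def n95373 : Q := act 4 n44545
theorem D95373 : act 4 n44545 = n95373 := rfl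
theorem F147006 : act 2 n95373 = n48389 := d1_1 D95373 (iv4 D48389) (iv2 F70059)
def n95374 : Q := act 6 n44545
theorem D95374 : act 6 n44545 = n95374 := rfl
theorem F147007 : act 2 n95374 = n48390 := d3_1 D95374 (iv6 D48390) (iv2 F70059)
def n95376 : Q := act 5 n44547
theorem D95376 : act 5 n44547 = n95376 := rfl
theorem F147009 : act 2 n95376 = n48429 := d2_1 D95376 (iv5 D48429) (iv2 F70062)
def n95377 : Q := act 6 n44547
theorem D95377 : act 6 n44547 = n95377 := rfl
theorem F147011 : act 4 n95377 = n44548 := d10_1 D95377 (iv6 D44548) D44547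
def n95378 : Q := act 3 n44549
theorem D95378 : act 3 n44549 = n95378 := rfl
theorem F147012 : act 4 n95378 = n95378 := d5_2 D44549 D95378 (iv3 D95378) (iv4 D44549) F63217
def n95379 : Q := act 5 n44549
theorem D95379 : act 5 n44549 = n95379 := rfl
theorem F147013 : act 2 n95379 = n48488 := d2_1 D95379 (iv5 D48488) (iv2 F70065)
def n95380 : Q := act 6 n44549
theorem D95380 : act 6 n44549 = n95380 := rfl
theorem F147014 : act 2 n95380 = n48489 := d3_1 D95380 (iv6 D48489) (iv2 F70065)
def n95381 : Q := act 3 n44551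
theorem D95381 : act 3 n44551 = n95381 := rfl
def n95382 : Q := act 5 n44551
theorem D95382 : act 5 n44551 = n95382 := rfl
def n95383 : Q := act 6 n44551
theorem D95383 : act 6 n44551 = n95383 := rfl
def n95385 : Q := act 5 n44552
theorem D95385 : act 5 n44552 = n95385 := rfl
def n95386 : Q := act 0 n44553
theorem D95386 : act 0 n44553 = n95386 := rfl
def n95387 : Q := act 1 n44553
theorem D95387 : act 1 n44553 = n95387 := rfl
def n95388 : Q := act 2 n44553
theorem D95388 : act 2 n44553 = n95388 := rfl
theorem F147017 : act 4 n95388 = n91124 := d1_2 (iv4 F70069) D95388 F140161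
theorem F147018 : act 6 n95388 = n44564 := d3_2 (iv6 F70070) D95388 (iv2 D44564)
def n95389 : Q := act 5 n44553
theorem D95389 : act 5 n44553 = n95389 := rfl
theorem F147019 : act 3 n95389 = n44554 := d6_1 D95389 (iv5 D44554) D44553
def n95390 : Q := act 7 n44553
theorem D95390 : act 7 n44553 = n95390 := rfl
theorem F147020 : act 3 n95390 = n44555 := d8_1 D95390 (iv7 D44555) D44553
theorem F147021 : act 4 n95390 = n91132 := d11_1 D95390 (iv7 D91132) (iv4 F70069)
def n95393 : Q := act 4 n44554
theorem D95393 : act 4 n44554 = n95393 := rfl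
def n95394 : Q := act 6 n44554
theorem D95394 : act 6 n44554 = n95394 := rfl
theorem F147024 : act 5 n95394 = n44569 := d12_1 D95394 (iv6 D44569) (iv5 D21200) (iv6 F33429) D44554
def n95395 : Q := act 7 n44554
theorem D95395 : act 7 n44554 = n95395 := rfl
theorem F147025 : act 5 n95395 = n44555 := d13_1 D95395 (iv7 D44555) D44554
def n95396 : Q := act 0 n44556
theorem D95396 : act 0 n44556 = n95396 := rfl
def n95397 : Q := act 1 n44556
theorem D95397 : act 1 n44556 = n95397 := rfl
def n95398 : Q := act 2 n44556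
theorem D95398 : act 2 n44556 = n95398 := rfl
theorem F147026 : act 4 n95398 = n89990 := d1_2 (iv4 F70072) D95398 (iv2 D89990)
def n95399 : Q := act 5 n44556
theorem D95399 : act 5 n44556 = n95399 := rfl
def n95400 : Q := act 6 n44556
theorem D95400 : act 6 n44556 = n95400 := rfl
theorem F147028 : act 3 n95400 = n44558 := d7_1 D95400 (iv6 D44558) D44556
def n95401 : Q := act 6 n44557
theorem D95401 : act 6 n44557 = n95401 := rfl
def n95403 : Q := act 1 n44559
theorem D95403 : act 1 n44559 = n95403 := rfl
def n95404 : Q := act 2 n44559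
theorem D95404 : act 2 n44559 = n95404 := rfl
theorem F147030 : act 4 n95404 = n89660 := d1_2 (iv4 F70076) D95404 (iv2 D89660)
def n95405 : Q := act 5 n44559
theorem D95405 : act 5 n44559 = n95405 := rfl
def n95406 : Q := act 6 n44559
theorem D95406 : act 6 n44559 = n95406 := rfl
def n95407 : Q := act 6 n44560
theorem D95407 : act 6 n44560 = n95407 := rfl
def n95409 : Q := act 7 n44561
theorem D95409 : act 7 n44561 = n95409 := rfl
theorem F147034 : act 4 n95409 = n93752 := d11_1 D95409 (iv7 D93752) (iv4 F70079)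
def n95410 : Q := act 2 n44562
theorem D95410 : act 2 n44562 = n95410 := rfl
theorem F147035 : act 7 n44563 = n95410 := d15_2 (iv0 D44562) D44563 (iv2 D95410)
def n95411 : Q := act 5 n44562
theorem D95411 : act 5 n44562 = n95411 := rfl
def n95412 : Q := act 6 n44562
theorem D95412 : act 6 n44562 = n95412 := rfl
def n95413 : Q := act 7 n44562
theorem D95413 : act 7 n44562 = n95413 := rfl
theorem F147036 : act 2 n95413 = n44563 := d4_1 D95413 F147035 (iv2 D95410)
def n95414 : Q := act 3 n44563
theorem D95414 : act 3 n44563 = n95414 := rfl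
def n95415 : Q := act 5 n44563
theorem D95415 : act 5 n44563 = n95415 := rfl
def n95416 : Q := act 6 n44563
theorem D95416 : act 6 n44563 = n95416 := rfl
def n95417 : Q := act 5 n44564
theorem D95417 : act 5 n44564 = n95417 := rfl
theorem F147037 : act 2 n95417 = n44565 := d2_1 D95417 (iv5 D44565) D44564
def n95418 : Q := act 0 n44565
theorem D95418 : act 0 n44565 = n95418 := rfl
def n95419 : Q := act 1 n44565
theorem D95419 : act 1 n44565 = n95419 := rfl
def n95420 : Q := act 4 n44565
theorem D95420 : act 4 n44565 = n95420 := rfl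
def n95421 : Q := act 6 n44565
theorem D95421 : act 6 n44565 = n95421 := rfl
theorem F147038 : act 3 n95421 = n44569 := d7_1 D95421 (iv6 D44569) (iv3 F70081)
def n95422 : Q := act 3 n44566
theorem D95422 : act 3 n44566 = n95422 := rfl
theorem F147039 : act 5 n95422 = n86882 := d6_2 (iv5 F70082) D95422 (iv3 D86882)
def n95423 : Q := act 6 n44566
theorem D95423 : act 6 n44566 = n95423 := rfl
def n95424 : Q := act 3 n44567
theorem D95424 : act 3 n44567 = n95424 := rfl
theorem F147040 : act 5 n95424 = n87064 := d6_2 (iv5 F70085) D95424 (iv3 D87064)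
def n95425 : Q := act 6 n44567
theorem D95425 : act 6 n44567 = n95425 := rfl
def n95426 : Q := act 3 n44568
theorem D95426 : act 3 n44568 = n95426 := rfl
theorem F147041 : act 5 n95426 = n79574 := d6_2 (iv5 F70086) D95426 (iv3 D79574)
def n95427 : Q := act 6 n44568
theorem D95427 : act 6 n44568 = n95427 := rfl
theorem F147042 : act 4 n95427 = n44569 := d10_1 D95427 (iv6 D44569) D44568
def n95428 : Q := act 0 n44569
theorem D95428 : act 0 n44569 = n95428 := rfl
def n95429 : Q := act 1 n44569
theorem D95429 : act 1 n44569 = n95429 := rfl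
def n95430 : Q := act 7 n44569
theorem D95430 : act 7 n44569 = n95430 := rfl
def n95431 : Q := act 6 n44573
theorem D95431 : act 6 n44573 = n95431 := rfl
theorem F147043 : act 2 n95431 = n87741 := d3_1 D95431 (iv6 D87741) (iv2 F72108)
def n95432 : Q := act 6 n44574
theorem D95432 : act 6 n44574 = n95432 := rfl
theorem F147044 : act 2 n95432 = n87740 := d3_1 D95432 (iv6 D87740) F72107
theorem F147045 : act 3 n95432 = n46670 := d7_1 D95432 (iv6 D46670) F70096
def n95433 : Q := act 6 n44575
theorem D95433 : act 6 n44575 = n95433 := rfl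
theorem F147046 : act 2 n95433 = n44577 := d3_1 D95433 (iv6 D44577) D44575
theorem F147047 : act 3 n95433 = n46425 := d7_1 D95433 (iv6 D46425) (iv3 F70098)
theorem F147048 : act 4 n95433 = n44593 := d10_1 D95433 (iv6 D44593) (iv4 F70099)
theorem F147049 : act 7 n88290 = n95433 := d11_0 F147048 (iv7 F76173) (iv4 F135202)
theorem F147050 : act 0 n88288 = n95433 := d20_10 F147048 (iv1 F76171) F70771 (iv3 D22802) (iv1 F34323) (iv3 F72127) F72128 (iv1 F72131) D87679 (iv3 F135201)
theorem F147051 : act 1 n88289 = n95433 := d15_1 D88289 (iv7 F147049) (iv2 D88290)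
def n95434 : Q := act 6 n44576
theorem D95434 : act 6 n44576 = n95434 := rfl
def n95435 : Q := act 0 n44577
theorem D95435 : act 0 n44577 = n95435 := rfl
theorem F147053 : act 1 n88290 = n95435 := d15_0 (iv0 D95435) (iv7 F70108) D88290
def n95436 : Q := act 1 n44577
theorem D95436 : act 1 n44577 = n95436 := rfl
theorem F147054 : act 1 n95436 = n88290 := d15_1 D95436 F147049 F147046
def n95437 : Q := act 5 n44577
theorem D95437 : act 5 n44577 = n95437 := rfl
theorem F147055 : act 3 n95437 = n44579 := d6_1 D95437 (iv5 D44579) (iv3 F70106)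
theorem F147056 : act 7 n95437 = n88291 := d13_2 F70108 D95437 (iv5 D88291)
def n95439 : Q := act 1 n44578
theorem D95439 : act 1 n44578 = n95439 := rfl
theorem F147057 : act 1 n95439 = n87392 := d15_1 D95439 (iv7 D87392) (iv2 F70109)
def n95440 : Q := act 5 n44578
theorem D95440 : act 5 n44578 = n95440 := rfl
theorem F147059 : act 6 n95440 = n44579 := d12_2 D44578 D95440 (iv5 D44579) (iv6 D21204) D21203
def n95442 : Q := act 0 n44579
theorem D95442 : act 0 n44579 = n95442 := rfl
theorem F147065 : act 5 n95442 = n86914 := d17_3 (iv1 F63096) D44579 D95442 (iv4 D86914) (iv5 D40324) (iv0 D19060) F13911 D9058 D19264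
theorem F147066 : act 4 n95442 = n87713 := d18_1 D95442 (iv1 F134627) F62386 F30992 F14160 F14136 D19261 (iv0 F63095) D44579
theorem F147067 : act 2 n87021 = n95442 := d15_3 (iv0 D95442) (iv0 F137686) F137685
theorem F147068 : act 1 n87717 = n95442 := d15_0 (iv0 D95442) F70111 (iv2 F134630)
theorem F147069 : act 7 n95442 = n87034 := d15_2 F137687 F147068 (iv2 F137684)
def n95444 : Q := act 5 n44582
theorem D95444 : act 5 n44582 = n95444 := rfl
def n95445 : Q := act 3 n44587
theorem D95445 : act 3 n44587 = n95445 := rfl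
theorem F147073 : act 4 n95445 = n57302 := d5_2 D44587 D95445 (iv3 D57302) (iv4 F70115) (iv3 D44586)
theorem F147074 : act 7 n95445 = n57733 := d8_2 F116753 D95445 (iv3 F116751)
theorem F147075 : act 0 n95445 = n85709 := d20_4 F59760 (iv1 F33670) D44587 D95445 (iv3 D85709) (iv4 D39598) (iv1 D18751) (iv4 F29975) (iv3 D18731) D18729
def n95446 : Q := act 5 n44587
theorem D95446 : act 5 n44587 = n95446 := rfl
def n95447 : Q := act 5 n44589
theorem D95447 : act 5 n44589 = n95447 := rfl
theorem F147079 : act 6 n95447 = n44910 := d12_2 D44589 D95447 (iv5 D44910) F70116 (iv5 D44588)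
theorem F147080 : act 0 n95447 = n55733 := d17_2 (iv1 F129579) D95447 (iv5 F88170) (iv4 D37354) D37355 F125637 F125635 F125442 (iv4 F129575)
theorem F147081 : act 4 n95447 = n84478 := d17_4 (iv1 F70522) (iv5 F129576) (iv1 F129579) D95447 (iv5 F129607) F125682 (iv5 D37396) F58300 (iv4 F121326)
theorem F147082 : act 0 n45941 = n95447 := d21_1 D45941 (iv5 D95447) (iv6 D44589) (iv1 D21209) (iv6 D10118) (iv5 D4600) (iv1 F6657) D10082 D21155 (iv1 F121461)
theorem F147083 : act 0 n56335 = n77160 := d21_10 (iv5 F122075) F136110 (iv5 D88745) F131259 F131260 (iv6 F147079) (iv5 D95447) (iv1 F125721) (iv5 D56334) D56335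
def n95448 : Q := act 4 n44590
theorem D95448 : act 4 n44590 = n95448 := rfl
theorem F147085 : act 5 n95448 = n56963 := d9_2 D44590 D95448 F90045 (iv5 D47005) (iv4 D22602) (iv5 D10714) D10713 D22599 D46995 (iv5 F123200) (iv4 F123362) F123361 F107102 F51872 F34785
theorem F147086 : act 0 n95448 = n76659 := d17_0 F114990 (iv1 F90531) (iv5 F136817) (iv4 D89102) (iv5 D41631) F34055 D44674 F70246 D95448
theorem F147087 : act 1 n95448 = n56989 := d18_8 D57343 (iv4 F127493) F127496 (iv4 D73039) D73040 F109562 F70246 D95448 F90069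
def n95449 : Q := act 6 n44590
theorem D95449 : act 6 n44590 = n95449 := rfl
def n95450 : Q := act 0 n44591
theorem D95450 : act 0 n44591 = n95450 := rfl
theorem F147088 : act 2 n47777 = n95450 := d15_3 (iv0 D95450) F75213 (iv7 F75050)
theorem F147089 : act 3 n95450 = n47866 := d0_2 D47777 F147088 (iv2 D47866) (iv3 D23040) (iv2 F63379)
theorem F147090 : act 4 n95450 = n46871 := d1_2 (iv4 F75048) F147088 F74086
theorem F147091 : act 7 n95450 = n47893 := d4_2 (iv7 F75050) F147088 (iv2 D47893)
theorem F147092 : act 1 n47892 = n95450 := d15_1 D47892 F147091 (iv2 D47893)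
def n95451 : Q := act 5 n44591
theorem D95451 : act 5 n44591 = n95451 := rfl
def n95452 : Q := act 7 n44591
theorem D95452 : act 7 n44591 = n95452 := rfl
theorem F147093 : act 2 n95452 = n47892 := d4_1 D95452 F75212 F70590
theorem F147094 : act 1 n47893 = n95452 := d15_1 (iv0 F143301) (iv7 D95452) (iv2 F70590)
theorem F147095 : act 1 n95452 = n47777 := d15_1 F147094 F75050 D47893
def n95453 : Q := act 6 n44592
theorem D95453 : act 6 n44592 = n95453 := rfl
theorem F147096 : act 2 n95453 = n44596 := d3_1 D95453 (iv6 D44596) (iv2 F70118)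
def n95454 : Q := act 5 n44593
theorem D95454 : act 5 n44593 = n95454 := rfl
theorem F147097 : act 2 n95454 = n44598 := d2_1 D95454 (iv5 D44598) (iv2 F70120)
def n95455 : Q := act 4 n44594
theorem D95455 : act 4 n44594 = n95455 := rfl
theorem F147098 : act 2 n95455 = n89102 := d1_1 D95455 (iv4 D89102) F70122
theorem F147099 : act 5 n95455 = n77602 := d16_1 D95455 F116494 (iv5 D47216) (iv4 D22713) (iv5 F29317) (iv4 F33470) (iv5 F70049) F70050 F70122
theorem F147100 : act 0 n95455 = n76643 := d17_0 (iv5 F123195) (iv1 F123199) F123200 (iv4 D46995) (iv5 D22599) F33780 D44990 F70748 D95455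
theorem F147101 : act 1 n95455 = n56965 := d18_6 (iv1 F127110) (iv4 D82482) (iv1 F58705) (iv4 F33500) (iv5 F70121) D95455 F90047 (iv0 F109579) F109577
def n95456 : Q := act 6 n44594
theorem D95456 : act 6 n44594 = n95456 := rfl
theorem F147102 : act 2 n95456 = n89103 := d3_1 D95456 (iv6 D89103) F70122
def n95457 : Q := act 5 n44595
theorem D95457 : act 5 n44595 = n95457 := rfl
theorem F147103 : act 2 n95457 = n74999 := d2_1 D95457 F112535 (iv2 F109573)
theorem F147104 : act 7 n95457 = n75000 := d13_2 F70755 D95457 F112537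
theorem F147105 : act 1 n95457 = n75001 := d17_8 (iv1 F57387) (iv5 D18346) D18342 D38489 F59327 D57641 F120178 D95457 F112538
theorem F147106 : act 1 n55442 = n95457 := d15_0 F147105 (iv7 F116240) F116238
def n95458 : Q := act 6 n44595
theorem D95458 : act 6 n44595 = n95458 := rfl
theorem F147107 : act 4 n95458 = n44596 := d10_1 D95458 (iv6 D44596) D44595
def n95459 : Q := act 0 n44596
theorem D95459 : act 0 n44596 = n95459 := rfl
def n95460 : Q := act 1 n44596
theorem D95460 : act 1 n44596 = n95460 := rfl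
def n95461 : Q := act 5 n44596
theorem D95461 : act 5 n44596 = n95461 := rfl
theorem F147108 : act 3 n95461 = n44601 := d6_1 D95461 (iv5 D44601) (iv3 F70123)
theorem F147109 : act 6 n95461 = n44598 := d12_2 D44596 D95461 (iv5 D44598) (iv6 D21214) D21213
def n95462 : Q := act 7 n44596
theorem D95462 : act 7 n44596 = n95462 := rfl
theorem F147110 : act 3 n95462 = n44602 := d8_1 D95462 (iv7 D44602) (iv3 F70123)
def n95463 : Q := act 5 n44597
theorem D95463 : act 5 n44597 = n95463 := rfl
def n95464 : Q := act 6 n44597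
theorem D95464 : act 6 n44597 = n95464 := rfl
def n95465 : Q := act 0 n44598
theorem D95465 : act 0 n44598 = n95465 := rfl
def n95466 : Q := act 4 n44598
theorem D95466 : act 4 n44598 = n95466 := rfl
def n95467 : Q := act 2 n44599
theorem D95467 : act 2 n44599 = n95467 := rfl
theorem F147111 : act 7 n44600 = n95467 := d15_2 (iv0 D44599) D44600 (iv2 D95467)
def n95468 : Q := act 3 n44599
theorem D95468 : act 3 n44599 = n95468 := rfl
def n95469 : Q := act 4 n44599
theorem D95469 : act 4 n44599 = n95469 := rfl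
def n95470 : Q := act 5 n44599
theorem D95470 : act 5 n44599 = n95470 := rfl
def n95471 : Q := act 6 n44599
theorem D95471 : act 6 n44599 = n95471 := rfl
def n95472 : Q := act 7 n44599
theorem D95472 : act 7 n44599 = n95472 := rfl
def n95473 : Q := act 3 n44600
theorem D95473 : act 3 n44600 = n95473 := rfl
def n95474 : Q := act 4 n44600
theorem D95474 : act 4 n44600 = n95474 := rfl
def n95475 : Q := act 5 n44600
theorem D95475 : act 5 n44600 = n95475 := rfl
def n95476 : Q := act 6 n44600
theorem D95476 : act 6 n44600 = n95476 := rfl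
def n95477 : Q := act 0 n44601
theorem D95477 : act 0 n44601 = n95477 := rfl
def n95478 : Q := act 1 n44601
theorem D95478 : act 1 n44601 = n95478 := rfl
def n95479 : Q := act 4 n44601
theorem D95479 : act 4 n44601 = n95479 := rfl
theorem F147113 : act 6 n95479 = n44607 := d10_2 (iv6 F70125) D95479 (iv4 D44607)
def n95480 : Q := act 7 n44601
theorem D95480 : act 7 n44601 = n95480 := rfl
theorem F147114 : act 5 n95480 = n44602 := d13_1 D95480 (iv7 D44602) D44601
def n95481 : Q := act 4 n44603
theorem D95481 : act 4 n44603 = n95481 := rfl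
theorem F147115 : act 0 n95481 = n48461 := d18_2 (iv1 F135294) D95481 (iv4 D48461) F36755 (iv4 F62927) (iv0 F67688) (iv4 F70261) (iv0 F70262) (iv5 F135292)
theorem F147116 : act 1 n95481 = n48458 := d18_6 (iv1 F35592) (iv4 F30834) F35589 (iv4 F63147) D44603 D95481 (iv4 D48458) (iv0 D23619) (iv5 D11068)
def n95482 : Q := act 6 n44603
theorem D95482 : act 6 n44603 = n95482 := rfl
def n95483 : Q := act 3 n44605
theorem D95483 : act 3 n44605 = n95483 := rfl
def n95484 : Q := act 4 n44605
theorem D95484 : act 4 n44605 = n95484 := rfl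
theorem F147117 : act 0 n95484 = n48451 := d18_2 D44605 D95484 (iv4 D48451) (iv5 D23613) (iv4 F35314) F35312 (iv4 F63147) (iv0 D21216) D21218
theorem F147118 : act 1 n95484 = n48011 := d18_6 D42020 (iv4 F127430) (iv1 F137049) F137048 F71798 D95484 (iv4 D48011) (iv0 F64884) (iv5 D42022)
def n95485 : Q := act 6 n44605
theorem D95485 : act 6 n44605 = n95485 := rfl
def n95486 : Q := act 3 n44606
theorem D95486 : act 3 n44606 = n95486 := rfl
def n95487 : Q := act 4 n44606
theorem D95487 : act 4 n44606 = n95487 := rfl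
theorem F147119 : act 0 n95487 = n48011 := d18_2 (iv1 F70131) D95487 (iv4 D48011) (iv5 D23168) (iv4 F30834) F35590 D19399 (iv0 F31029) D23502
theorem F147120 : act 1 n95487 = n48451 := d18_6 (iv1 F64877) (iv4 F133571) (iv1 D87023) (iv4 F71448) F71449 D95487 (iv4 D48451) F75425 F75423
def n95488 : Q := act 6 n44606
theorem D95488 : act 6 n44606 = n95488 := rfl
def n95489 : Q := act 3 n44607
theorem D95489 : act 3 n44607 = n95489 := rfl
def n95490 : Q := act 6 n44609
theorem D95490 : act 6 n44609 = n95490 := rfl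
theorem F147121 : act 3 n95490 = n87458 := d7_1 D95490 (iv6 D87458) (iv3 F70133)
theorem F147122 : act 4 n95490 = n44611 := d10_1 D95490 (iv6 D44611) D44609
def n95491 : Q := act 6 n44610
theorem D95491 : act 6 n44610 = n95491 := rfl
theorem F147123 : act 2 n95491 = n70068 := d3_1 D95491 (iv6 D70068) F70958
theorem F147124 : act 4 n95491 = n76658 := d10_1 D95491 (iv6 D76658) (iv4 F70135)
def n95492 : Q := act 0 n44611
theorem D95492 : act 0 n44611 = n95492 := rfl
def n95493 : Q := act 1 n44611
theorem D95493 : act 1 n44611 = n95493 := rfl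
def n95494 : Q := act 5 n44611
theorem D95494 : act 5 n44611 = n95494 := rfl
def n95495 : Q := act 7 n44611
theorem D95495 : act 7 n44611 = n95495 := rfl
def n95496 : Q := act 3 n44612
theorem D95496 : act 3 n44612 = n95496 := rfl
theorem F147125 : act 4 n95496 = n83504 := d5_2 (iv4 F70138) D95496 F128608 F74081 F55603
theorem F147126 : act 5 n95496 = n46503 := d6_2 (iv5 F70137) D95496 F73480
theorem F147127 : act 7 n95496 = n46982 := d8_2 (iv7 F70967) D95496 F74199
theorem F147128 : act 2 n95496 = n46973 := d15_3 (iv0 F109579) F109578 (iv7 F147127)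
theorem F147129 : act 0 n78996 = n95496 := d17_0 F147126 F75417 (iv5 F109608) (iv4 D73106) (iv5 F87727) F147106 (iv5 D95457) (iv0 F120177) (iv4 F120175)
def n95497 : Q := act 6 n44612
theorem D95497 : act 6 n44612 = n95497 := rfl
theorem F147130 : act 4 n95497 = n70051 := d10_1 D95497 (iv6 D70051) (iv4 F70138)
def n95498 : Q := act 0 n44613
theorem D95498 : act 0 n44613 = n95498 := rfl
def n95499 : Q := act 1 n44613
theorem D95499 : act 1 n44613 = n95499 := rfl
def n95500 : Q := act 5 n44613
theorem D95500 : act 5 n44613 = n95500 := rfl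
theorem F147131 : act 3 n95500 = n44620 := d6_1 D95500 (iv5 D44620) (iv3 F70140)
theorem F147132 : act 6 n95500 = n44616 := d12_2 D44613 D95500 (iv5 D44616) (iv6 D21232) D21231
def n95501 : Q := act 7 n44613
theorem D95501 : act 7 n44613 = n95501 := rfl
theorem F147133 : act 3 n95501 = n44621 := d8_1 D95501 (iv7 D44621) (iv3 F70140)
def n95502 : Q := act 2 n44614
theorem D95502 : act 2 n44614 = n95502 := rfl
theorem F147134 : act 7 n44615 = n95502 := d15_2 (iv0 D44614) D44615 (iv2 D95502)
def n95503 : Q := act 3 n44614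
theorem D95503 : act 3 n44614 = n95503 := rfl
def n95504 : Q := act 4 n44614
theorem D95504 : act 4 n44614 = n95504 := rfl
theorem F147135 : act 3 n87466 = n95504 := d20_5 F62902 (iv1 D19209) (iv4 F30854) (iv3 F61809) D87466 (iv4 D95504) (iv1 F70981) F70977 F70976 (iv1 F33864)
def n95505 : Q := act 5 n44614
theorem D95505 : act 5 n44614 = n95505 := rfl
def n95506 : Q := act 6 n44614
theorem D95506 : act 6 n44614 = n95506 := rfl
def n95507 : Q := act 7 n44614
theorem D95507 : act 7 n44614 = n95507 := rfl
theorem F147136 : act 2 n95507 = n44615 := d4_1 D95507 F147134 (iv2 D95502)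
def n95508 : Q := act 4 n44615
theorem D95508 : act 4 n44615 = n95508 := rfl
def n95509 : Q := act 5 n44615
theorem D95509 : act 5 n44615 = n95509 := rfl
def n95510 : Q := act 6 n44615
theorem D95510 : act 6 n44615 = n95510 := rfl
def n95511 : Q := act 0 n44616
theorem D95511 : act 0 n44616 = n95511 := rfl
def n95512 : Q := act 1 n44616
theorem D95512 : act 1 n44616 = n95512 := rfl
def n95513 : Q := act 4 n44616
theorem D95513 : act 4 n44616 = n95513 := rfl
def n95514 : Q := act 7 n44616
theorem D95514 : act 7 n44616 = n95514 := rfl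
theorem F147137 : act 3 n95514 = n44628 := d8_1 D95514 (iv7 D44628) (iv3 F70141)
theorem F147138 : act 5 n95514 = n44617 := d13_1 D95514 (iv7 D44617) D44616
def n95515 : Q := act 2 n44618
theorem D95515 : act 2 n44618 = n95515 := rfl
theorem F147139 : act 7 n44619 = n95515 := d15_2 (iv0 D44618) D44619 (iv2 D95515)
def n95516 : Q := act 3 n44618
theorem D95516 : act 3 n44618 = n95516 := rfl
def n95517 : Q := act 4 n44618
theorem D95517 : act 4 n44618 = n95517 := rfl
def n95518 : Q := act 5 n44618
theorem D95518 : act 5 n44618 = n95518 := rfl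
def n95519 : Q := act 6 n44618
theorem D95519 : act 6 n44618 = n95519 := rfl
theorem F147140 : act 5 n95519 = n47826 := d21_6 (iv5 D10341) (iv1 F6784) D10145 D21233 D44618 D95519 (iv1 D47826) (iv5 D23014) (iv6 D10859) (iv1 F16456)
def n95520 : Q := act 7 n44618
theorem D95520 : act 7 n44618 = n95520 := rfl
theorem F147141 : act 2 n95520 = n44619 := d4_1 D95520 F147139 (iv2 D95515)
def n95521 : Q := act 3 n44619
theorem D95521 : act 3 n44619 = n95521 := rfl
def n95522 : Q := act 4 n44619
theorem D95522 : act 4 n44619 = n95522 := rfl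
def n95523 : Q := act 5 n44619
theorem D95523 : act 5 n44619 = n95523 := rfl
def n95524 : Q := act 6 n44619
theorem D95524 : act 6 n44619 = n95524 := rfl
def n95525 : Q := act 0 n44620
theorem D95525 : act 0 n44620 = n95525 := rfl
def n95526 : Q := act 1 n44620
theorem D95526 : act 1 n44620 = n95526 := rfl
theorem F147142 : act 1 n95526 = n44784 := d15_1 D95526 (iv7 D44784) (iv2 F70145)
theorem F147143 : act 5 n48036 = n95526 := d21_6 F16471 (iv1 D4972) D4973 D10913 D23179 D48036 (iv1 D95526) (iv5 D44620) (iv6 D21233) (iv1 F16469)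
def n95527 : Q := act 4 n44620
theorem D95527 : act 4 n44620 = n95527 := rfl
theorem F147144 : act 2 n95527 = n44783 := d1_1 D95527 (iv4 D44783) (iv2 F70145)
theorem F147145 : act 6 n95527 = n44627 := d10_2 (iv6 F70146) D95527 (iv4 D44627)
def n95528 : Q := act 7 n44620
theorem D95528 : act 7 n44620 = n95528 := rfl
theorem F147146 : act 2 n95528 = n44784 := d4_1 D95528 (iv7 D44784) (iv2 F70145)
theorem F147147 : act 5 n95528 = n44621 := d13_1 D95528 (iv7 D44621) D44620
theorem F147148 : act 1 n44784 = n95525 := d15_0 (iv0 D95525) D95528 F147146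
theorem F147149 : act 1 n44782 = n95528 := d15_1 D44782 (iv7 D95528) F70145
theorem F147150 : act 1 n95528 = n44781 := d15_0 (iv0 D44781) D44784 (iv2 F147146)
def n95529 : Q := act 0 n44622
theorem D95529 : act 0 n44622 = n95529 := rfl
theorem F147151 : act 3 n95529 = n94375 := d20_5 (iv4 F65892) F66200 (iv4 F66283) D44622 D95529 (iv4 F145498) (iv1 D93799) F68918 (iv3 D21353) D21351
theorem F147152 : act 1 n44787 = n95529 := d15_0 (iv0 D95529) F70152 D44787
def n95530 : Q := act 1 n44622
theorem D95530 : act 1 n44622 = n95530 := rfl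
def n95531 : Q := act 2 n44622
theorem D95531 : act 2 n44622 = n95531 := rfl
theorem F147153 : act 3 n95531 = n44798 := d0_2 D44622 D95531 (iv2 D44798) (iv3 D21332) (iv2 F35771)
theorem F147154 : act 4 n95531 = n46088 := d1_2 (iv4 F70151) D95531 (iv2 D46088)
theorem F147155 : act 7 n95531 = n44787 := d4_2 (iv7 F70152) D95531 (iv2 D44787)
theorem F147156 : act 1 n95531 = n44785 := d15_0 (iv0 D44785) (iv7 F70152) D95531
theorem F147157 : act 1 n95530 = n44787 := d15_1 D95530 (iv7 F147155) (iv2 D95531)
theorem F147158 : act 1 n44786 = n95531 := d15_1 D44786 F147155 (iv2 D44787)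
def n95532 : Q := act 5 n44622
theorem D95532 : act 5 n44622 = n95532 := rfl
theorem F147159 : act 3 n95532 = n44623 := d6_1 D95532 (iv5 D44623) D44622
theorem F147160 : act 7 n95532 = n44788 := d13_2 (iv7 F70152) D95532 (iv5 D44788)
def n95533 : Q := act 4 n44623
theorem D95533 : act 4 n44623 = n95533 := rfl
theorem F147161 : act 2 n95533 = n44801 := d1_1 D95533 (iv4 D44801) (iv2 F70153)
theorem F147162 : act 7 n95533 = n44792 := d11_2 (iv7 F70154) D95533 (iv4 D44792)
def n95534 : Q := act 6 n44623
theorem D95534 : act 6 n44623 = n95534 := rfl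
theorem F147163 : act 2 n95534 = n44802 := d3_1 D95534 (iv6 D44802) (iv2 F70153)
def n95535 : Q := act 3 n44625
theorem D95535 : act 3 n44625 = n95535 := rfl
theorem F147164 : act 5 n95535 = n93993 := d6_2 (iv5 F70157) D95535 (iv3 D93993)
theorem F147165 : act 7 n95535 = n44808 := d8_2 F70159 D95535 (iv3 D44808)
def n95536 : Q := act 4 n44625
theorem D95536 : act 4 n44625 = n95536 := rfl
theorem F147166 : act 2 n95536 = n44806 := d1_1 D95536 (iv4 D44806) F70158
theorem F147167 : act 7 n95536 = n44809 := d11_2 F70159 D95536 (iv4 D44809)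
theorem F147168 : act 5 n95536 = n95533 := d16_1 D95536 (iv4 D95533) (iv5 D44623) F66283 F66284 F65622 (iv5 F70163) F70162 F70158
def n95537 : Q := act 6 n44625
theorem D95537 : act 6 n44625 = n95537 := rfl
theorem F147169 : act 2 n95537 = n44807 := d3_1 D95537 (iv6 D44807) F70158
def n95538 : Q := act 3 n44626
theorem D95538 : act 3 n44626 = n95538 := rfl
theorem F147170 : act 5 n95538 = n47833 := d6_2 (iv5 F70163) D95538 F75115
theorem F147171 : act 7 n95538 = n44805 := d8_2 (iv7 F70162) D95538 (iv3 D44805)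
def n95539 : Q := act 4 n44626
theorem D95539 : act 4 n44626 = n95539 := rfl
theorem F147172 : act 2 n95539 = n44809 := d1_1 D95539 (iv4 D44809) F70164
theorem F147173 : act 5 n95539 = n93991 := d9_2 (iv5 F70163) D95539 (iv4 D93991) (iv5 D43929) (iv4 D20815) D20816 D43931 (iv5 F70157) D95536 F147168 (iv4 D95533) (iv5 D44623) F66283 F66284 F65622
theorem F147174 : act 7 n95539 = n44806 := d11_2 (iv7 F70162) D95539 (iv4 D44806)
def n95540 : Q := act 6 n44626
theorem D95540 : act 6 n44626 = n95540 := rfl
theorem F147175 : act 2 n95540 = n44810 := d3_1 D95540 (iv6 D44810) F70164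
theorem F147176 : act 5 n95540 = n47837 := d12_1 D95540 (iv6 D47837) (iv5 D23017) D23018 (iv5 F70163)
def n95541 : Q := act 0 n44627
theorem D95541 : act 0 n44627 = n95541 := rfl
theorem F147177 : act 1 n44815 = n95541 := d15_0 (iv0 D95541) (iv7 F70383) (iv2 F70385)
def n95542 : Q := act 1 n44627
theorem D95542 : act 1 n44627 = n95542 := rfl
theorem F147178 : act 1 n95542 = n44815 := d15_1 D95542 (iv7 D44815) (iv2 F70165)
theorem F147179 : act 4 n47874 = n95542 := d18_5 F69064 F36662 (iv1 F63192) (iv4 F36090) D47874 F147178 F70386 F70160 F70157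
theorem F147180 : act 2 n95542 = n44812 := d1_1 F147179 (iv4 F70460) (iv2 F75152)
theorem F147181 : act 7 n95542 = n44811 := d11_2 (iv7 F75153) F147179 (iv4 F70430)
theorem F147182 : act 2 n44811 = n95541 := d15_3 (iv0 D95541) D95542 F147181
theorem F147183 : act 7 n44812 = n95541 := d4_2 (iv7 F147181) F147180 (iv2 F147182)
def n95543 : Q := act 3 n44627
theorem D95543 : act 3 n44627 = n95543 := rfl
def n95544 : Q := act 6 n44628
theorem D95544 : act 6 n44628 = n95544 := rfl
theorem F147184 : act 2 n95544 = n44816 := d3_1 D95544 (iv6 D44816) (iv2 F70166)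
def n95545 : Q := act 5 n44629
theorem D95545 : act 5 n44629 = n95545 := rfl
theorem F147185 : act 2 n95545 = n44823 := d2_1 D95545 (iv5 D44823) F70171
theorem F147186 : act 7 n95545 = n44636 := d13_2 (iv7 F70173) D95545 (iv5 D44636)
theorem F147187 : act 0 n95545 = n47874 := d17_2 D44629 D95545 (iv5 D47874) F36090 F17657 F15988 F6684 F15992 D21239
def n95546 : Q := act 0 n44630
theorem D95546 : act 0 n44630 = n95546 := rfl
theorem F147189 : act 2 n44851 = n95546 := d15_3 (iv0 D95546) (iv0 F70176) (iv7 F70452)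
theorem F147190 : act 1 n44852 = n95546 := d15_0 (iv0 D95546) F70175 D44852
theorem F147191 : act 7 n95546 = n44673 := d15_2 (iv0 F145497) F147190 F70242
def n95547 : Q := act 2 n44630
theorem D95547 : act 2 n44630 = n95547 := rfl
theorem F147192 : act 3 n95547 = n44826 := d0_2 D44630 D95547 (iv2 D44826) (iv3 D21353) (iv2 F63371)
theorem F147193 : act 4 n95547 = n46283 := d1_2 (iv4 F70174) D95547 F72944
theorem F147194 : act 7 n95547 = n44852 := d4_2 (iv7 F70175) D95547 (iv2 D44852)
theorem F147195 : act 1 n95547 = n44673 := d15_0 F70453 (iv7 F70175) D95547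
theorem F147196 : act 1 n44851 = n95547 := d15_0 F147195 (iv7 F147191) (iv2 F147189)
def n95548 : Q := act 5 n44630
theorem D95548 : act 5 n44630 = n95548 := rfl
theorem F147197 : act 3 n95548 = n44631 := d6_1 D95548 (iv5 D44631) D44630
theorem F147198 : act 7 n95548 = n44853 := d13_2 (iv7 F70175) D95548 (iv5 D44853)
def n95549 : Q := act 6 n44630
theorem D95549 : act 6 n44630 = n95549 := rfl
theorem F147199 : act 3 n95549 = n44632 := d7_1 D95549 (iv6 D44632) D44630
theorem F147200 : act 4 n95549 = n87410 := d10_1 D95549 (iv6 D87410) (iv4 F70174)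
def n95550 : Q := act 0 n44631
theorem D95550 : act 0 n44631 = n95550 := rfl
theorem F147201 : act 5 n95550 = n44838 := d17_3 (iv1 F66333) D44631 D95550 F70425 (iv5 F66275) F66276 (iv5 F66248) F66247 (iv4 F34009)
theorem F147202 : act 1 n44634 = n95550 := d15_0 (iv0 D95550) F70178 (iv2 F70184)
theorem F147203 : act 2 n44829 = n95550 := d2_3 F147201 (iv2 F70426) (iv5 F70410)
theorem F147204 : act 7 n44830 = n95550 := d13_0 F147201 (iv7 F75148) (iv5 F75151)
def n95551 : Q := act 1 n44631
theorem D95551 : act 1 n44631 = n95551 := rfl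
theorem F147205 : act 1 n95551 = n44634 := d15_1 D95551 F70185 (iv2 F70177)
theorem F147206 : act 7 n95551 = n44829 := d15_2 (iv0 D95550) D95551 F147203
theorem F147207 : act 5 n95551 = n44837 := d17_7 D21357 F63195 (iv1 F63190) (iv5 D21240) D21239 D44631 D95551 (iv0 D44837) (iv4 D21359)
theorem F147208 : act 2 n44830 = n95551 := d2_3 F147207 F75150 (iv5 F75151)
def n95552 : Q := act 4 n44631
theorem D95552 : act 4 n44631 = n95552 := rfl
theorem F147209 : act 2 n95552 = n44831 := d1_1 D95552 (iv4 D44831) (iv2 F70177)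
theorem F147210 : act 7 n95552 = n44855 := d11_2 (iv7 F70178) D95552 (iv4 D44855)
theorem F147211 : act 5 n95552 = n95542 := d16_1 D95552 (iv4 F147179) (iv5 D47874) F36090 F17657 D21243 D44634 F70185 (iv2 F70177)
theorem F147212 : act 0 n95552 = n48474 := d18_2 (iv1 D95551) D95552 (iv4 D48474) (iv5 D23625) F17936 F63251 D21376 F70422 (iv5 F147207)
def n95553 : Q := act 6 n44631
theorem D95553 : act 6 n44631 = n95553 := rfl
theorem F147213 : act 2 n95553 = n44832 := d3_1 D95553 (iv6 D44832) (iv2 F70177)
def n95554 : Q := act 5 n44632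
theorem D95554 : act 5 n44632 = n95554 := rfl
theorem F147214 : act 2 n95554 = n44834 := d2_1 D95554 (iv5 D44834) (iv2 F70179)
theorem F147215 : act 7 n95554 = n87864 := d13_2 F137947 D95554 (iv5 F137948)
theorem F147216 : act 0 n95554 = n44921 := d17_2 F144992 D95554 (iv5 D44921) F33681 D40972 D87848 F134826 (iv0 F69169) D94094
theorem F147217 : act 1 n95554 = n48081 := d17_6 (iv1 F17720) (iv5 F36242) (iv1 F36244) (iv5 F33468) (iv4 F70180) D95554 (iv5 D48081) (iv0 D23205) (iv4 D10920)
theorem F147218 : act 4 n48070 = n95554 := d18_7 (iv1 F36312) (iv4 D10925) (iv1 D4976) (iv4 F7401) D10916 D23191 D48070 F147217 (iv5 D48081)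
def n95555 : Q := act 3 n44633
theorem D95555 : act 3 n44633 = n95555 := rfl
theorem F147219 : act 7 n95555 = n44860 := d8_2 (iv7 F70182) D95555 (iv3 D44860)
def n95556 : Q := act 5 n44633
theorem D95556 : act 5 n44633 = n95556 := rfl
theorem F147221 : act 2 n95556 = n44840 := d2_1 D95556 (iv5 D44840) (iv2 F70181)
theorem F147222 : act 7 n95556 = n44861 := d13_2 (iv7 F70182) D95556 (iv5 D44861)
theorem F147225 : act 4 n95556 = n95541 := d18_5 (iv1 F66291) F36738 (iv1 F63190) D44633 D95556 (iv0 D95541) (iv4 D44627) D44626 F70163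
def n95557 : Q := act 4 n44634
theorem D95557 : act 4 n44634 = n95557 := rfl
theorem F147226 : act 2 n95557 = n44855 := d1_1 D95557 (iv4 D44855) (iv2 F70184)
theorem F147227 : act 5 n95557 = n95541 := d9_2 D44634 D95557 (iv4 F147225) (iv5 D95556) (iv4 D44633) (iv5 D21240) D21239 D44631 D95552 F147211 (iv4 F147179) (iv5 D47874) F36090 F17657 D21243
theorem F147228 : act 7 n95557 = n44831 := d11_2 (iv7 F70185) D95557 (iv4 D44831)
theorem F147229 : act 1 n95557 = n48474 := d18_6 F32970 F16013 (iv1 F15988) D21243 D44634 D95557 (iv4 D48474) (iv0 F69057) (iv5 D43929)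
def n95558 : Q := act 6 n44634
theorem D95558 : act 6 n44634 = n95558 := rfl
theorem F147230 : act 2 n95558 = n44856 := d3_1 D95558 (iv6 D44856) (iv2 F70184)
def n95559 : Q := act 5 n44635
theorem D95559 : act 5 n44635 = n95559 := rfl
theorem F147231 : act 3 n95559 = n44636 := d6_1 D95559 (iv5 D44636) (iv3 F70186)
def n95560 : Q := act 4 n44636
theorem D95560 : act 4 n44636 = n95560 := rfl
theorem F147232 : act 0 n95560 = n95536 := d18_2 F70458 D95560 (iv4 D95536) F70157 (iv4 D43931) F66290 (iv4 F70425) F70424 D44861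
theorem F147233 : act 1 n95560 = n95539 := d18_6 (iv1 F33461) F66283 (iv1 D37846) (iv4 F33473) D44636 D95560 (iv4 D95539) F70161 F33527
def n95563 : Q := act 5 n44637
theorem D95563 : act 5 n44637 = n95563 := rfl
def n95564 : Q := act 7 n44637
theorem D95564 : act 7 n44637 = n95564 := rfl
theorem F147234 : act 4 n95564 = n92426 := d11_1 D95564 (iv7 D92426) (iv4 F70188)
def n95565 : Q := act 6 n44638
theorem D95565 : act 6 n44638 = n95565 := rfl
theorem F147235 : act 3 n95565 = n44639 := d7_1 D95565 (iv6 D44639) D44638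
def n95566 : Q := act 0 n44639
theorem D95566 : act 0 n44639 = n95566 := rfl
def n95567 : Q := act 1 n44639
theorem D95567 : act 1 n44639 = n95567 := rfl
def n95568 : Q := act 5 n44639
theorem D95568 : act 5 n44639 = n95568 := rfl
def n95569 : Q := act 7 n44639
theorem D95569 : act 7 n44639 = n95569 := rfl
theorem F147236 : act 4 n95569 = n92421 := d11_1 D95569 (iv7 D92421) (iv4 F70190)
def n95570 : Q := act 0 n44640
theorem D95570 : act 0 n44640 = n95570 := rfl
theorem F147237 : act 4 n95570 = n92439 := d20_8 (iv4 F40638) (iv1 F43576) F136674 D76314 (iv1 F145326) (iv3 F88600) F88601 D95570 F142186 (iv1 F76695)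
def n95571 : Q := act 1 n44640
theorem D95571 : act 1 n44640 = n95571 := rfl
theorem F147238 : act 4 n95571 = n92440 := d18_7 (iv1 F142172) D92436 (iv1 F142185) F71429 (iv5 F88602) F88601 D95571 F142187 (iv5 F142170)
def n95572 : Q := act 5 n44640
theorem D95572 : act 5 n44640 = n95572 := rfl
theorem F147239 : act 3 n95572 = n44650 := d6_1 D95572 (iv5 D44650) (iv3 F70191)
theorem F147240 : act 6 n95572 = n44643 := d12_2 D44640 D95572 (iv5 D44643) (iv6 D21250) D21249
def n95573 : Q := act 7 n44640
theorem D95573 : act 7 n44640 = n95573 := rfl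
theorem F147241 : act 3 n95573 = n44651 := d8_1 D95573 (iv7 D44651) (iv3 F70191)
def n95574 : Q := act 2 n44641
theorem D95574 : act 2 n44641 = n95574 := rfl
theorem F147242 : act 7 n44642 = n95574 := d15_2 (iv0 D44641) D44642 (iv2 D95574)
def n95575 : Q := act 5 n44641
theorem D95575 : act 5 n44641 = n95575 := rfl
def n95576 : Q := act 6 n44641
theorem D95576 : act 6 n44641 = n95576 := rfl
def n95577 : Q := act 7 n44641
theorem D95577 : act 7 n44641 = n95577 := rfl
theorem F147243 : act 2 n95577 = n44642 := d4_1 D95577 F147242 (iv2 D95574)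
def n95578 : Q := act 3 n44642
theorem D95578 : act 3 n44642 = n95578 := rfl
def n95579 : Q := act 5 n44642
theorem D95579 : act 5 n44642 = n95579 := rfl
def n95580 : Q := act 6 n44642
theorem D95580 : act 6 n44642 = n95580 := rfl
def n95581 : Q := act 0 n44643
theorem D95581 : act 0 n44643 = n95581 := rfl
def n95582 : Q := act 1 n44643
theorem D95582 : act 1 n44643 = n95582 := rfl
def n95583 : Q := act 4 n44643
theorem D95583 : act 4 n44643 = n95583 := rfl
def n95584 : Q := act 2 n44644
theorem D95584 : act 2 n44644 = n95584 := rfl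
theorem F147244 : act 3 n95584 = n44676 := d0_2 D44644 D95584 (iv2 F70249) F35138 F33482
theorem F147245 : act 5 n95584 = n44917 := d2_2 (iv5 F70193) D95584 (iv2 D44917)
theorem F147246 : act 7 n95584 = n87852 := d4_2 (iv7 F70194) D95584 F134835
theorem F147247 : act 1 n95584 = n70062 := d15_0 (iv0 F106461) (iv7 F70194) D95584
theorem F147248 : act 1 n87854 = n95584 := d15_0 F147247 (iv7 F134270) (iv2 F134845)
def n95585 : Q := act 4 n44644
theorem D95585 : act 4 n44644 = n95585 := rfl
theorem F147250 : act 5 n95585 = n80732 := d16_1 D95585 (iv4 D80732) F72248 (iv4 F72246) F51885 (iv4 F62123) D87852 (iv7 F147246) (iv2 D95584)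
theorem F147251 : act 1 n95585 = n45391 := d18_6 (iv1 D22998) (iv4 F34682) F34684 (iv4 F33672) (iv5 F70193) D95585 (iv4 D45391) D45390 F71600
def n95586 : Q := act 6 n44644
theorem D95586 : act 6 n44644 = n95586 := rfl
theorem F147252 : act 3 n95586 = n44645 := d7_1 D95586 (iv6 D44645) D44644
def n95587 : Q := act 0 n44645
theorem D95587 : act 0 n44645 = n95587 := rfl
def n95588 : Q := act 1 n44645
theorem D95588 : act 1 n44645 = n95588 := rfl
theorem F147253 : act 1 n95588 = n95294 := d15_1 D95588 (iv7 D95294) (iv2 F70195)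
def n95589 : Q := act 5 n44645
theorem D95589 : act 5 n44645 = n95589 := rfl
theorem F147254 : act 2 n95589 = n95293 := d2_1 D95589 (iv5 D95293) (iv2 F70195)
theorem F147255 : act 6 n95589 = n44919 := d12_2 D44645 D95589 (iv5 D44919) (iv6 D21438) (iv5 F33480)
def n95590 : Q := act 7 n44645
theorem D95590 : act 7 n44645 = n95590 := rfl
theorem F147256 : act 2 n95590 = n95294 := d4_1 D95590 (iv7 D95294) (iv2 F70195)
theorem F147257 : act 6 n95590 = n87863 := d14_1 D95590 (iv7 D87863) (iv6 D40979) F33483 D44645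
theorem F147258 : act 1 n95294 = n95587 := d15_0 (iv0 D95587) D95590 F147256
theorem F147259 : act 1 n95292 = n95590 := d15_1 D95292 (iv7 D95590) F70195
theorem F147260 : act 1 n95590 = n95291 := d15_0 (iv0 D95291) D95294 (iv2 F147256)
def n95591 : Q := act 4 n44646
theorem D95591 : act 4 n44646 = n95591 := rfl
theorem F147262 : act 7 n95591 = n46995 := d11_2 (iv7 F70197) D95591 (iv4 D46995)
theorem F147263 : act 5 n95591 = n80199 := d16_1 D95591 (iv4 F130117) F130114 (iv4 D46989) (iv5 D22597) (iv4 F33774) (iv5 F70248) F70250 (iv2 F70199)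
def n95592 : Q := act 6 n44646
theorem D95592 : act 6 n44646 = n95592 := rfl
theorem F147266 : act 3 n95592 = n44647 := d7_1 D95592 (iv6 D44647) D44646
def n95593 : Q := act 0 n44647
theorem D95593 : act 0 n44647 = n95593 := rfl
def n95594 : Q := act 1 n44647
theorem D95594 : act 1 n44647 = n95594 := rfl
theorem F147267 : act 1 n95594 = n87863 := d15_1 D95594 (iv7 D87863) (iv2 F70200)
def n95595 : Q := act 5 n44647
theorem D95595 : act 5 n44647 = n95595 := rfl
theorem F147268 : act 2 n95595 = n87862 := d2_1 D95595 (iv5 D87862) (iv2 F70200)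
theorem F147269 : act 6 n95595 = n44921 := d12_2 D44647 D95595 (iv5 D44921) (iv6 D21440) (iv5 F33486)
def n95596 : Q := act 7 n44647
theorem D95596 : act 7 n44647 = n95596 := rfl
theorem F147270 : act 2 n95596 = n87863 := d4_1 D95596 (iv7 D87863) (iv2 F70200)
theorem F147271 : act 6 n95596 = n95294 := d14_1 D95596 (iv7 D95294) (iv6 D44514) (iv7 F33485) D44647
theorem F147272 : act 1 n87863 = n95593 := d15_0 (iv0 D95593) D95596 F147270
theorem F147273 : act 1 n87861 = n95596 := d15_1 D87861 (iv7 D95596) F70200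
theorem F147274 : act 1 n95596 = n87860 := d15_0 (iv0 D87860) D87863 (iv2 F147270)
def n95597 : Q := act 2 n44648
theorem D95597 : act 2 n44648 = n95597 := rfl
theorem F147275 : act 7 n44649 = n95597 := d15_2 (iv0 D44648) D44649 (iv2 D95597)
def n95598 : Q := act 3 n44648
theorem D95598 : act 3 n44648 = n95598 := rfl
def n95599 : Q := act 4 n44648
theorem D95599 : act 4 n44648 = n95599 := rfl
def n95600 : Q := act 5 n44648
theorem D95600 : act 5 n44648 = n95600 := rfl
def n95601 : Q := act 6 n44648
theorem D95601 : act 6 n44648 = n95601 := rfl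
theorem F147276 : act 5 n95601 = n95478 := d21_6 F33425 (iv1 D10150) D10152 D21253 D44648 D95601 (iv1 D95478) (iv5 D44601) (iv6 D21215) (iv1 F33424)
def n95602 : Q := act 7 n44648
theorem D95602 : act 7 n44648 = n95602 := rfl
def n95603 : Q := act 3 n44649
theorem D95603 : act 3 n44649 = n95603 := rfl
def n95604 : Q := act 4 n44649
theorem D95604 : act 4 n44649 = n95604 := rfl
def n95605 : Q := act 5 n44649
theorem D95605 : act 5 n44649 = n95605 := rfl
def n95606 : Q := act 6 n44649
theorem D95606 : act 6 n44649 = n95606 := rfl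
def n95607 : Q := act 0 n44650
theorem D95607 : act 0 n44650 = n95607 := rfl
def n95608 : Q := act 1 n44650
theorem D95608 : act 1 n44650 = n95608 := rfl
def n95609 : Q := act 4 n44650
theorem D95609 : act 4 n44650 = n95609 := rfl
theorem F147278 : act 6 n95609 = n44660 := d10_2 (iv6 F70201) D95609 (iv4 D44660)
def n95610 : Q := act 7 n44650
theorem D95610 : act 7 n44650 = n95610 := rfl
theorem F147279 : act 5 n95610 = n44651 := d13_1 D95610 (iv7 D44651) D44650
def n95611 : Q := act 0 n44652
theorem D95611 : act 0 n44652 = n95611 := rfl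
def n95612 : Q := act 1 n44652
theorem D95612 : act 1 n44652 = n95612 := rfl
def n95613 : Q := act 2 n44652
theorem D95613 : act 2 n44652 = n95613 := rfl
theorem F147280 : act 3 n95613 = n44679 := d0_2 D44652 D95613 (iv2 F70252) F64368 (iv2 F63442)
def n95614 : Q := act 5 n44652
theorem D95614 : act 5 n44652 = n95614 := rfl
theorem F147281 : act 3 n95614 = n44653 := d6_1 D95614 (iv5 D44653) D44652
def n95615 : Q := act 6 n44652
theorem D95615 : act 6 n44652 = n95615 := rfl
theorem F147282 : act 3 n95615 = n44654 := d7_1 D95615 (iv6 D44654) D44652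
theorem F147283 : act 4 n95615 = n94123 := d10_1 D95615 F145067 F72592
def n95616 : Q := act 4 n44653
theorem D95616 : act 4 n44653 = n95616 := rfl
theorem F147284 : act 0 n95616 = n89844 := d18_2 F76084 D95616 (iv4 D89844) F64760 (iv4 F62466) (iv0 D41240) D41242 F63083 D48411
theorem F147285 : act 1 n95616 = n89847 := d18_6 F35863 F16464 D20382 (iv4 F63436) D44653 D95616 (iv4 D89847) F64811 (iv5 D42001)
def n95617 : Q := act 6 n44653
theorem D95617 : act 6 n44653 = n95617 := rfl
def n95618 : Q := act 1 n44655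
theorem D95618 : act 1 n44655 = n95618 := rfl
theorem F147286 : act 7 n95618 = n44675 := d15_2 (iv0 F70205) D95618 F70247
theorem F147287 : act 2 n44681 = n95618 := d4_3 F147286 F70247 D44681
theorem F147288 : act 6 n89883 = n95618 := d14_5 F147286 (iv6 D44675) (iv7 F34058) D45364 (iv7 F137979)
theorem F147289 : act 1 n95618 = n44679 := d15_0 (iv0 D44679) D44681 F147287
def n95619 : Q := act 2 n44655
theorem D95619 : act 2 n44655 = n95619 := rfl
theorem F147290 : act 4 n95619 = n88858 := d1_2 (iv4 F70203) D95619 (iv2 D88858)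
theorem F147291 : act 7 n95619 = n44679 := d4_2 (iv7 F70204) D95619 (iv2 F70252)
theorem F147292 : act 1 n95619 = n44681 := d15_0 (iv0 F70257) (iv7 F70204) D95619
theorem F147293 : act 1 n44675 = n95619 := d15_0 F147292 (iv7 D44681) (iv2 F70247)
def n95620 : Q := act 5 n44655
theorem D95620 : act 5 n44655 = n95620 := rfl
theorem F147294 : act 3 n95620 = n44656 := d6_1 D95620 (iv5 D44656) D44655
theorem F147295 : act 7 n95620 = n89363 := d13_2 (iv7 F70204) D95620 (iv5 D89363)
def n95621 : Q := act 6 n44655
theorem D95621 : act 6 n44655 = n95621 := rfl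
theorem F147296 : act 3 n95621 = n44657 := d7_1 D95621 (iv6 D44657) D44655
theorem F147297 : act 4 n95621 = n88860 := d10_1 D95621 (iv6 D88860) (iv4 F70203)
def n95622 : Q := act 4 n44656
theorem D95622 : act 4 n44656 = n95622 := rfl
theorem F147298 : act 0 n95622 = n89847 := d18_2 (iv1 F75587) D95622 (iv4 D89847) F64761 (iv4 F63079) (iv0 F74575) (iv4 F75582) (iv0 D48108) D48109
theorem F147299 : act 1 n95622 = n89844 := d18_6 D19771 D41968 (iv1 F64757) (iv4 F63438) D44656 D95622 (iv4 D89844) (iv0 D41971) (iv5 D19774)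
def n95623 : Q := act 6 n44656
theorem D95623 : act 6 n44656 = n95623 := rfl
def n95624 : Q := act 5 n44657
theorem D95624 : act 5 n44657 = n95624 := rfl
theorem F147300 : act 2 n95624 = n47869 := d2_1 D95624 F75143 F71547
theorem F147301 : act 7 n95624 = n47870 := d13_2 F71751 D95624 (iv5 F75146)
theorem F147302 : act 0 n95624 = n47781 := d17_2 F137333 D95624 (iv5 D47781) (iv4 D22991) D22992 F63399 (iv5 D19813) D19812 D42025
theorem F147303 : act 1 n95624 = n47778 := d17_6 (iv1 F66030) D42474 (iv1 F138994) F138996 (iv4 F70206) D95624 (iv5 D47778) F66357 F33675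
def n95625 : Q := act 3 n44658
theorem D95625 : act 3 n44658 = n95625 := rfl
def n95626 : Q := act 4 n44658
theorem D95626 : act 4 n44658 = n95626 := rfl
theorem F147304 : act 0 n95626 = n89837 := d18_2 D44658 D95626 (iv4 D89837) (iv5 D41969) D41968 (iv0 F64756) (iv4 F63436) (iv0 D21254) D21256
theorem F147305 : act 1 n95626 = n45417 := d18_6 (iv1 F62975) (iv4 F62971) F64839 (iv4 F76127) F76126 D95626 (iv4 D45417) D45416 (iv5 F71658)
def n95627 : Q := act 6 n44658
theorem D95627 : act 6 n44658 = n95627 := rfl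
def n95628 : Q := act 3 n44659
theorem D95628 : act 3 n44659 = n95628 := rfl
theorem F147306 : act 5 n95628 = n47371 := d6_2 (iv5 F70209) D95628 F74564
theorem F147307 : act 0 n95628 = n44680 := d21_7 (iv5 F70121) (iv1 F70748) (iv5 D44990) D44991 F74041 D47371 (iv5 F147306) (iv5 D44680) (iv6 D21277) D21274
def n95629 : Q := act 4 n44659
theorem D95629 : act 4 n44659 = n95629 := rfl
theorem F147308 : act 0 n95629 = n45417 := d18_2 (iv1 F70208) D95629 (iv4 D45417) (iv5 D21673) F16464 D20383 (iv4 F63438) (iv0 F63200) D41999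
theorem F147309 : act 1 n95629 = n89837 := d18_6 D23547 D48413 F76112 (iv4 F70127) (iv5 F70209) D95629 (iv4 D89837) F64838 (iv5 D23550)
def n95630 : Q := act 6 n44659
theorem D95630 : act 6 n44659 = n95630 := rfl
theorem F147310 : act 5 n95630 = n95482 := d12_1 D95630 (iv6 D95482) (iv5 D44603) D44604 (iv5 F70209)
def n95631 : Q := act 3 n44660
theorem D95631 : act 3 n44660 = n95631 := rfl
def n95632 : Q := act 6 n44661
theorem D95632 : act 6 n44661 = n95632 := rfl
theorem F147311 : act 2 n95632 = n87335 := d3_1 D95632 (iv6 D87335) (iv2 F71572)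
theorem F147312 : act 3 n95632 = n88798 := d7_1 D95632 (iv6 D88798) (iv3 F70210)
def n95633 : Q := act 6 n44662
theorem D95633 : act 6 n44662 = n95633 := rfl
theorem F147313 : act 2 n95633 = n87334 := d3_1 D95633 (iv6 D87334) F71573
theorem F147314 : act 3 n95633 = n45992 := d7_1 D95633 (iv6 D45992) F71575
def n95634 : Q := act 0 n44663
theorem D95634 : act 0 n44663 = n95634 := rfl
theorem F147315 : act 3 n95634 = n88822 := d20_5 (iv4 F63426) (iv1 D21271) (iv4 F33495) (iv3 F70213) D95634 (iv4 D88822) (iv1 F136197) F136193 F136192 (iv1 F64331)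
def n95635 : Q := act 1 n44663
theorem D95635 : act 1 n44663 = n95635 := rfl
def n95637 : Q := act 0 n44664
theorem D95637 : act 0 n44664 = n95637 := rfl
theorem F147317 : act 5 n95637 = n91357 := d17_3 F64601 D44664 D95637 (iv4 D91357) F66987 (iv0 D41894) (iv5 D19720) D19719 D41891
theorem F147319 : act 1 n87353 = n95637 := d15_0 (iv0 D95637) (iv7 F137668) F137667
theorem F147320 : act 7 n95637 = n87351 := d15_2 F134110 F147319 F134108
def n95638 : Q := act 4 n44664
theorem D95638 : act 4 n44664 = n95638 := rfl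
theorem F147321 : act 2 n95638 = n87352 := d1_1 D95638 (iv4 D87352) (iv2 F70215)
theorem F147322 : act 0 n95638 = n89247 := d18_2 F75841 D95638 (iv4 D89247) (iv5 F75202) F75201 (iv0 D47889) (iv4 F75170) (iv0 F75171) D48243
theorem F147323 : act 1 n95638 = n89250 := d18_6 (iv1 F64331) (iv4 F63426) (iv1 D21271) (iv4 F33495) D44664 D95638 (iv4 D89250) F136931 F136930
def n95639 : Q := act 6 n44669
theorem D95639 : act 6 n44669 = n95639 := rfl
theorem F147328 : act 5 n95639 = n94528 := d21_6 (iv5 D10831) F15465 D19136 (iv6 F33497) D44669 D95639 (iv1 D94528) F69520 (iv6 D42592) F31921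
def n95641 : Q := act 3 n44671
theorem D95641 : act 3 n44671 = n95641 := rfl
theorem F147336 : act 6 n95641 = n86871 := d7_2 (iv6 F70239) D95641 (iv3 D86871)
def n95643 : Q := act 5 n44673
theorem D95643 : act 5 n44673 = n95643 := rfl
theorem F147337 : act 2 n95643 = n89105 := d2_1 D95643 (iv5 D89105) (iv2 F70242)
def n95644 : Q := act 6 n44674
theorem D95644 : act 6 n44674 = n95644 := rfl
theorem F147338 : act 2 n95644 = n44678 := d3_1 D95644 (iv6 D44678) (iv2 F70244)
theorem F147339 : act 3 n95644 = n53001 := d7_1 D95644 F83722 F71422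
def n95645 : Q := act 5 n44675
theorem D95645 : act 5 n44675 = n95645 := rfl
theorem F147340 : act 2 n95645 = n44680 := d2_1 D95645 (iv5 D44680) (iv2 F70247)
def n95646 : Q := act 4 n44676
theorem D95646 : act 4 n44676 = n95646 := rfl
theorem F147341 : act 2 n95646 = n46995 := d1_1 D95646 (iv4 D46995) F70249
theorem F147342 : act 5 n95646 = n80198 := d9_2 (iv5 F70248) D95646 (iv4 F128487) F128488 (iv4 D46506) (iv5 D22292) (iv4 F33676) (iv5 F70196) D95591 F147263 (iv4 F130117) F130114 (iv4 D46989) (iv5 D22597) (iv4 F33774)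
theorem F147344 : act 0 n77604 = n95646 := d19_0 F147342 (iv4 F128487) (iv3 D83366) (iv1 F59264) F58960 (iv4 F127656) F127655 (iv1 F108267) F86983 F56788 (iv3 F56787) (iv1 D33075) (iv5 F44364) F44363 (iv3 D13142) D13140 (iv5 F44245) (iv4 F56139) (iv3 F116500)
def n95647 : Q := act 6 n44676
theorem D95647 : act 6 n44676 = n95647 := rfl
theorem F147345 : act 2 n95647 = n46996 := d3_1 D95647 (iv6 D46996) F70249
def n95648 : Q := act 6 n44677
theorem D95648 : act 6 n44677 = n95648 := rfl
theorem F147346 : act 4 n95648 = n44678 := d10_1 D95648 (iv6 D44678) D44677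
def n95649 : Q := act 0 n44678
theorem D95649 : act 0 n44678 = n95649 := rfl
def n95650 : Q := act 1 n44678
theorem D95650 : act 1 n44678 = n95650 := rfl
def n95651 : Q := act 5 n44678
theorem D95651 : act 5 n44678 = n95651 := rfl
theorem F147347 : act 3 n95651 = n44684 := d6_1 D95651 (iv5 D44684) (iv3 F70251)
theorem F147348 : act 6 n95651 = n44680 := d12_2 D44678 D95651 (iv5 D44680) (iv6 D21277) D21276
def n95652 : Q := act 7 n44678
theorem D95652 : act 7 n44678 = n95652 := rfl
theorem F147349 : act 3 n95652 = n44685 := d8_1 D95652 (iv7 D44685) (iv3 F70251)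
def n95653 : Q := act 5 n44679
theorem D95653 : act 5 n44679 = n95653 := rfl
theorem F147350 : act 2 n95653 = n89363 := d2_1 D95653 (iv5 D89363) F70252
def n95654 : Q := act 6 n44679
theorem D95654 : act 6 n44679 = n95654 := rfl
theorem F147351 : act 2 n95654 = n89364 := d3_1 D95654 (iv6 D89364) F70252
theorem F147352 : act 4 n95654 = n89362 := d10_1 D95654 (iv6 D89362) (iv4 F70253)
def n95655 : Q := act 0 n44680
theorem D95655 : act 0 n44680 = n95655 := rfl
def n95656 : Q := act 4 n44680
theorem D95656 : act 4 n44680 = n95656 := rfl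
def n95657 : Q := act 7 n44680
theorem D95657 : act 7 n44680 = n95657 := rfl
theorem F147353 : act 3 n95657 = n44695 := d8_1 D95657 (iv7 D44695) (iv3 F70254)
theorem F147354 : act 5 n95657 = n44681 := d13_1 D95657 (iv7 D44681) D44680
def n95658 : Q := act 2 n44682
theorem D95658 : act 2 n44682 = n95658 := rfl
theorem F147355 : act 7 n44683 = n95658 := d15_2 (iv0 D44682) D44683 (iv2 D95658)
def n95659 : Q := act 3 n44682
theorem D95659 : act 3 n44682 = n95659 := rfl
def n95660 : Q := act 4 n44682
theorem D95660 : act 4 n44682 = n95660 := rfl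
def n95661 : Q := act 5 n44682
theorem D95661 : act 5 n44682 = n95661 := rfl
def n95662 : Q := act 6 n44682
theorem D95662 : act 6 n44682 = n95662 := rfl
theorem F147356 : act 5 n95662 = n95343 := d21_6 (iv5 D19206) F14106 D10161 D21278 D44682 D95662 (iv1 D95343) (iv5 D44532) (iv6 D21178) (iv1 F30853)
def n95663 : Q := act 7 n44682
theorem D95663 : act 7 n44682 = n95663 := rfl
def n95664 : Q := act 3 n44683
theorem D95664 : act 3 n44683 = n95664 := rfl
def n95665 : Q := act 4 n44683
theorem D95665 : act 4 n44683 = n95665 := rfl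
def n95666 : Q := act 5 n44683
theorem D95666 : act 5 n44683 = n95666 := rfl
def n95667 : Q := act 6 n44683
theorem D95667 : act 6 n44683 = n95667 := rfl
def n95668 : Q := act 0 n44684
theorem D95668 : act 0 n44684 = n95668 := rfl
def n95669 : Q := act 1 n44684
theorem D95669 : act 1 n44684 = n95669 := rfl
def n95670 : Q := act 4 n44684
theorem D95670 : act 4 n44684 = n95670 := rfl
theorem F147358 : act 6 n95670 = n44694 := d10_2 (iv6 F70258) D95670 (iv4 D44694)
def n95671 : Q := act 7 n44684
theorem D95671 : act 7 n44684 = n95671 := rfl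
theorem F147359 : act 5 n95671 = n44685 := d13_1 D95671 (iv7 D44685) D44684
def n95672 : Q := act 5 n44686
theorem D95672 : act 5 n44686 = n95672 := rfl
theorem F147360 : act 3 n95672 = n44687 := d6_1 D95672 (iv5 D44687) D44686
def n95673 : Q := act 6 n44686
theorem D95673 : act 6 n44686 = n95673 := rfl
theorem F147361 : act 3 n95673 = n44688 := d7_1 D95673 (iv6 D44688) D44686
theorem F147362 : act 4 n95673 = n89462 := d10_1 D95673 (iv6 D89462) (iv4 F70259)
theorem F147363 : act 0 n95673 = n44854 := d20_4 (iv4 F135311) F135310 (iv4 F70261) (iv3 F147361) F70455 F33568 (iv1 F63240) (iv4 F64764) F64763 D41981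
def n95674 : Q := act 0 n44687
theorem D95674 : act 0 n44687 = n95674 := rfl
theorem F147364 : act 5 n95674 = n47782 := d17_3 D21279 D44687 D95674 F75066 (iv5 F64786) (iv0 D41990) (iv5 D19786) F63244 (iv4 F16005)
theorem F147365 : act 1 n44690 = n95674 := d15_0 (iv0 D95674) (iv7 F71459) F71458
theorem F147366 : act 2 n47899 = n95674 := d2_3 F147364 F75065 D47899
def n95675 : Q := act 1 n44687
theorem D95675 : act 1 n44687 = n95675 := rfl
theorem F147367 : act 1 n95675 = n44690 := d15_1 D95675 (iv7 F71446) F71445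
theorem F147368 : act 7 n95675 = n47899 := d15_2 (iv0 D95674) D95675 F147366
theorem F147369 : act 5 n95675 = n47900 := d17_7 F138476 (iv5 F137709) (iv1 F137710) (iv5 D87454) (iv4 F63701) D44687 D95675 F146986 F146983
def n95676 : Q := act 4 n44687
theorem D95676 : act 4 n44687 = n95676 := rfl
def n95677 : Q := act 6 n44687
theorem D95677 : act 6 n44687 = n95677 := rfl
def n95678 : Q := act 0 n44689
theorem D95678 : act 0 n44689 = n95678 := rfl
theorem F147370 : act 4 n95678 = n89357 := d20_2 (iv4 F70264) D95678 (iv3 D89357) (iv1 D41729) (iv3 D19637) D19638 (iv1 F58702) (iv4 F63954) D88873 F136298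
def n95679 : Q := act 1 n44689
theorem D95679 : act 1 n44689 = n95679 := rfl
def n95680 : Q := act 2 n44689
theorem D95680 : act 2 n44689 = n95680 := rfl
theorem F147371 : act 3 n95680 = n89882 := d0_2 D44689 D95680 (iv2 F137975) (iv3 D45345) (iv2 F63470)
theorem F147372 : act 4 n95680 = n88922 := d1_2 (iv4 F70264) D95680 (iv2 F136480)
def n95681 : Q := act 5 n44689
theorem D95681 : act 5 n44689 = n95681 := rfl
theorem F147373 : act 3 n95681 = n44690 := d6_1 D95681 (iv5 D44690) D44689
def n95682 : Q := act 6 n44689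
theorem D95682 : act 6 n44689 = n95682 := rfl
theorem F147374 : act 3 n95682 = n44691 := d7_1 D95682 (iv6 D44691) D44689
theorem F147375 : act 4 n95682 = n89724 := d10_1 D95682 (iv6 D89724) (iv4 F70264)
def n95683 : Q := act 4 n44690
theorem D95683 : act 4 n44690 = n95683 := rfl
def n95684 : Q := act 6 n44690
theorem D95684 : act 6 n44690 = n95684 := rfl
def n95685 : Q := act 3 n44692
theorem D95685 : act 3 n44692 = n95685 := rfl
def n95686 : Q := act 4 n44692
theorem D95686 : act 4 n44692 = n95686 := rfl
theorem F147376 : act 1 n95686 = n45403 := d18_6 (iv1 F75130) (iv4 F134681) F139783 F139782 F75216 D95686 (iv4 D45403) D45402 (iv5 F71616)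
theorem F147377 : act 0 n95685 = n89884 := d20_4 D45403 (iv1 F147376) (iv4 D95686) D95685 F137983 D89885 F137988 (iv4 D48409) (iv3 F71618) (iv1 D45402)
def n95687 : Q := act 6 n44692
theorem D95687 : act 6 n44692 = n95687 := rfl
def n95688 : Q := act 3 n44693
theorem D95688 : act 3 n44693 = n95688 := rfl
theorem F147378 : act 5 n95688 = n95350 := d6_2 F70267 D95688 F146976
def n95689 : Q := act 4 n44693
theorem D95689 : act 4 n44693 = n95689 := rfl
theorem F147379 : act 0 n95689 = n45403 := d18_2 (iv1 F71474) D95689 (iv4 D45403) (iv5 D21664) (iv4 F30850) (iv0 F63709) (iv4 F63429) F34034 (iv5 F71472)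
def n95690 : Q := act 6 n44693
theorem D95690 : act 6 n44693 = n95690 := rfl
theorem F147380 : act 5 n95690 = n95353 := d12_1 D95690 (iv6 D95353) (iv5 D44535) D44536 F70267
def n95691 : Q := act 0 n44694
theorem D95691 : act 0 n44694 = n95691 := rfl
theorem F147381 : act 4 n95691 = n44746 := d18_3 (iv1 D44693) D44694 D95691 F70337 F36658 F66745 (iv4 F36118) F75068 F70267
def n95692 : Q := act 1 n44694
theorem D95692 : act 1 n44694 = n95692 := rfl
theorem F147382 : act 4 n95692 = n44747 := d18_7 (iv1 F63262) (iv4 D21289) (iv1 D10164) (iv4 F16005) D21281 D44694 D95692 F71626 F71625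
def n95693 : Q := act 3 n44694
theorem D95693 : act 3 n44694 = n95693 := rfl
def n95694 : Q := act 5 n44694
theorem D95694 : act 5 n44694 = n95694 := rfl
def n95695 : Q := act 7 n44694
theorem D95695 : act 7 n44694 = n95695 := rfl
theorem F147383 : act 4 n95695 = n44695 := d11_1 D95695 (iv7 D44695) D44694
def n95696 : Q := act 6 n44695
theorem D95696 : act 6 n44695 = n95696 := rfl
theorem F147384 : act 5 n95696 = n89886 := d12_1 D95696 (iv6 D89886) (iv5 D41999) F63202 (iv5 F70268)
def n95697 : Q := act 5 n44696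
theorem D95697 : act 5 n44696 = n95697 := rfl
theorem F147385 : act 2 n95697 = n89889 := d2_1 D95697 (iv5 D89889) (iv2 F70269)
theorem F147386 : act 3 n95697 = n44697 := d6_1 D95697 (iv5 D44697) D44696
def n95698 : Q := act 6 n44696
theorem D95698 : act 6 n44696 = n95698 := rfl
theorem F147387 : act 2 n95698 = n89890 := d3_1 D95698 (iv6 D89890) (iv2 F70269)
theorem F147388 : act 3 n95698 = n44698 := d7_1 D95698 (iv6 D44698) D44696
def n95699 : Q := act 4 n44697
theorem D95699 : act 4 n44697 = n95699 := rfl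
theorem F147390 : act 2 n95699 = n89904 := d1_1 D95699 (iv4 D89904) (iv2 F70271)
def n95700 : Q := act 6 n44697
theorem D95700 : act 6 n44697 = n95700 := rfl
theorem F147391 : act 2 n95700 = n89905 := d3_1 D95700 (iv6 D89905) (iv2 F70271)
def n95701 : Q := act 3 n44699
theorem D95701 : act 3 n44699 = n95701 := rfl
def n95706 : Q := act 0 n44701
theorem D95706 : act 0 n44701 = n95706 := rfl
theorem F147399 : act 5 n95706 = n45034 := d21_2 (iv5 F70279) D95706 (iv6 F76421) F76420 (iv6 D42041) F31614 (iv1 F66783) (iv5 F64786) (iv6 F75609) (iv1 F75610)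
theorem F147400 : act 6 n95706 = n48491 := d21_5 F64893 F33555 F33506 D44701 D95706 (iv5 F76422) (iv1 F76424) (iv5 D43214) F32354 D42027
def n95716 : Q := act 2 n44704
theorem D95716 : act 2 n44704 = n95716 := rfl
theorem F147412 : act 6 n95716 = n87177 := d3_2 (iv6 F70281) D95716 (iv2 D87177)
def n95719 : Q := act 0 n44705
theorem D95719 : act 0 n44705 = n95719 := rfl
def n95720 : Q := act 1 n44705
theorem D95720 : act 1 n44705 = n95720 := rfl
theorem F147415 : act 5 n95720 = n89722 := d17_7 (iv1 F64788) (iv5 D21290) (iv1 D10164) D10165 D21294 D44705 D95720 (iv0 F137970) (iv4 D89875)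
def n95721 : Q := act 4 n44705
theorem D95721 : act 4 n44705 = n95721 := rfl
def n95723 : Q := act 7 n44705
theorem D95723 : act 7 n44705 = n95723 := rfl
theorem F147417 : act 5 n95723 = n44706 := d13_1 D95723 (iv7 D44706) D44705
def n95724 : Q := act 6 n44707
theorem D95724 : act 6 n44707 = n95724 := rfl
theorem F147418 : act 2 n95724 = n88797 := d3_1 D95724 (iv6 D88797) (iv2 F70283)
theorem F147419 : act 3 n95724 = n94218 := d7_1 D95724 (iv6 D94218) (iv3 F70284)
theorem F147420 : act 4 n95724 = n44709 := d10_1 D95724 (iv6 D44709) D44707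
def n95725 : Q := act 6 n44708
theorem D95725 : act 6 n44708 = n95725 := rfl
theorem F147421 : act 3 n95725 = n70566 := d7_1 D95725 (iv6 D70566) (iv3 F70286)
def n95726 : Q := act 0 n44709
theorem D95726 : act 0 n44709 = n95726 := rfl
def n95727 : Q := act 1 n44709
theorem D95727 : act 1 n44709 = n95727 := rfl
def n95728 : Q := act 5 n44709
theorem D95728 : act 5 n44709 = n95728 := rfl
def n95729 : Q := act 7 n44709
theorem D95729 : act 7 n44709 = n95729 := rfl
def n95730 : Q := act 6 n44710
theorem D95730 : act 6 n44710 = n95730 := rfl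
theorem F147422 : act 3 n95730 = n44713 := d7_1 D95730 (iv6 D44713) D44710
theorem F147423 : act 4 n95730 = n87334 := d10_1 D95730 (iv6 D87334) (iv4 F70288)
def n95731 : Q := act 6 n44711
theorem D95731 : act 6 n44711 = n95731 := rfl
theorem F147424 : act 3 n95731 = n88589 := d7_1 D95731 (iv6 D88589) (iv3 F70290)
theorem F147425 : act 4 n95731 = n44713 := d10_1 D95731 (iv6 D44713) D44711
def n95732 : Q := act 6 n44712
theorem D95732 : act 6 n44712 = n95732 := rfl
def n95735 : Q := act 5 n44713
theorem D95735 : act 5 n44713 = n95735 := rfl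
def n95736 : Q := act 7 n44713
theorem D95736 : act 7 n44713 = n95736 := rfl
def n95737 : Q := act 4 n44714
theorem D95737 : act 4 n44714 = n95737 := rfl
theorem F147426 : act 2 n95737 = n44718 := d1_1 D95737 (iv4 D44718) (iv2 F70294)
theorem F147427 : act 3 n95737 = n52690 := d5_1 D95737 (iv4 D52690) F40458 D25582 (iv3 F70295)
theorem F147428 : act 1 n95737 = n95585 := d18_6 (iv1 D40691) F30851 D19224 (iv4 F33509) D44714 D95737 (iv4 D95585) (iv0 F134274) (iv5 D87459)
def n95738 : Q := act 6 n44714
theorem D95738 : act 6 n44714 = n95738 := rfl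
theorem F147429 : act 2 n95738 = n44719 := d3_1 D95738 (iv6 D44719) (iv2 F70294)
theorem F147430 : act 3 n95738 = n52703 := d7_1 D95738 F83272 (iv3 F70295)
def n95739 : Q := act 5 n44715
theorem D95739 : act 5 n44715 = n95739 := rfl
theorem F147431 : act 2 n95739 = n44722 := d2_1 D95739 (iv5 D44722) (iv2 F70296)
def n95740 : Q := act 4 n44716
theorem D95740 : act 4 n44716 = n95740 := rfl
theorem F147432 : act 3 n95740 = n52644 := d5_1 D95740 F83184 F43587 (iv4 F56637) (iv3 F70298)
theorem F147433 : act 7 n95740 = n71779 := d11_2 (iv7 F71595) D95740 F108242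
theorem F147434 : act 5 n95740 = n80739 := d16_7 (iv4 F94679) (iv5 F134359) F134358 F126382 F73516 F70299 D95740 F124231 (iv2 D60133)
theorem F147435 : act 0 n95740 = n79371 := d17_0 (iv5 D79371) F56878 D60230 (iv4 F94791) (iv5 D44712) F34083 D45387 F71588 D95740
def n95741 : Q := act 6 n44716
theorem D95741 : act 6 n44716 = n95741 := rfl
theorem F147436 : act 3 n95741 = n78993 := d7_1 D95741 (iv6 D78993) (iv3 F70298)
def n95742 : Q := act 6 n44717
theorem D95742 : act 6 n44717 = n95742 := rfl
def n95743 : Q := act 1 n44718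
theorem D95743 : act 1 n44718 = n95743 := rfl
theorem F147437 : act 4 n95743 = n95584 := d18_7 (iv1 F71392) F61807 (iv1 F34484) F31292 D21299 D44718 D95743 F147247 F106460
theorem F147438 : act 2 n95585 = n95743 := d1_3 F147437 (iv2 D95584) D95585
def n95744 : Q := act 5 n44718
theorem D95744 : act 5 n44718 = n95744 := rfl
theorem F147439 : act 3 n95744 = n78064 := d6_1 D95744 (iv5 F125530) F125529
theorem F147440 : act 4 n95744 = n88105 := d16_2 D44718 D95744 F135086 (iv4 D87878) F62134 F34487 D45387 F71587 F70294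
def n95745 : Q := act 6 n44718
theorem D95745 : act 6 n44718 = n95745 := rfl
theorem F147441 : act 4 n95745 = n44719 := d10_1 D95745 (iv6 D44719) D44718
def n95746 : Q := act 0 n44719
theorem D95746 : act 0 n44719 = n95746 := rfl
def n95747 : Q := act 1 n44719
theorem D95747 : act 1 n44719 = n95747 := rfl
def n95748 : Q := act 5 n44719
theorem D95748 : act 5 n44719 = n95748 := rfl
theorem F147442 : act 3 n95748 = n44725 := d6_1 D95748 (iv5 D44725) (iv3 F70300)
theorem F147443 : act 6 n95748 = n44722 := d12_2 D44719 D95748 (iv5 D44722) (iv6 D21300) D21299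
def n95749 : Q := act 7 n44719
theorem D95749 : act 7 n44719 = n95749 := rfl
theorem F147444 : act 3 n95749 = n44726 := d8_1 D95749 (iv7 D44726) (iv3 F70300)
def n95750 : Q := act 4 n44720
theorem D95750 : act 4 n44720 = n95750 := rfl
theorem F147445 : act 2 n95750 = n88821 := d1_1 D95750 F137892 (iv2 F145365)
theorem F147446 : act 3 n95750 = n94232 := d5_1 D95750 (iv4 D94232) F136452 D76472 (iv3 F114613)
theorem F147447 : act 0 n89357 = n95750 := d20_1 F147370 (iv4 D95750) F114613 F136450 F70333 F33520 (iv1 F63710) (iv4 F63429) D44689 D95678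
def n95751 : Q := act 5 n44720
theorem D95751 : act 5 n44720 = n95751 := rfl
def n95752 : Q := act 6 n44720
theorem D95752 : act 6 n44720 = n95752 := rfl
def n95753 : Q := act 3 n44721
theorem D95753 : act 3 n44721 = n95753 := rfl
def n95754 : Q := act 4 n44721
theorem D95754 : act 4 n44721 = n95754 := rfl
theorem F147448 : act 7 n95754 = n88821 := d11_2 (iv7 F145367) D95754 F137892
theorem F147449 : act 3 n95754 = n88811 := d20_3 (iv4 F137894) (iv1 F137897) D95754 (iv1 D88811) F63910 F31394 D19718 D41889 (iv3 F136472) (iv1 F136474)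
theorem E14760 : n88825 = n88811 := ((c8_2 (iv7 F147448) F147449 (iv7 D88825) D88821)).symm
theorem F147450 : act 2 n88811 = n41470 := (sb E14760 F136205)
theorem F147451 : act 7 n88811 = n41469 := (sb E14760 (iv7 D88825))
theorem E14761 : n88820 = n88810 := (c15_4 (iv0 D88810) D88811 F147451 D88820)
theorem F147452 : act 2 n88810 = n41469 := (sb E14761 (iv2 D88820))
theorem F147453 : act 7 n88810 = n41470 := (sb E14761 (iv7 F136203))
theorem F147454 : act 1 n89357 = n95754 := d15_1 (iv0 F147447) F147448 (iv2 F147445)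
def n95755 : Q := act 5 n44721
theorem D95755 : act 5 n44721 = n95755 := rfl
def n95756 : Q := act 6 n44721
theorem D95756 : act 6 n44721 = n95756 := rfl
def n95757 : Q := act 0 n44722
theorem D95757 : act 0 n44722 = n95757 := rfl
def n95758 : Q := act 1 n44722
theorem D95758 : act 1 n44722 = n95758 := rfl
def n95759 : Q := act 4 n44722
theorem D95759 : act 4 n44722 = n95759 := rfl
def n95760 : Q := act 2 n44723
theorem D95760 : act 2 n44723 = n95760 := rfl
theorem F147455 : act 7 n44724 = n95760 := d15_2 (iv0 D44723) D44724 (iv2 D95760)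
def n95761 : Q := act 3 n44723
theorem D95761 : act 3 n44723 = n95761 := rfl
def n95762 : Q := act 4 n44723
theorem D95762 : act 4 n44723 = n95762 := rfl
def n95763 : Q := act 5 n44723
theorem D95763 : act 5 n44723 = n95763 := rfl
def n95764 : Q := act 6 n44723
theorem D95764 : act 6 n44723 = n95764 := rfl
def n95766 : Q := act 3 n44724
theorem D95766 : act 3 n44724 = n95766 := rfl
def n95767 : Q := act 4 n44724
theorem D95767 : act 4 n44724 = n95767 := rfl
def n95768 : Q := act 5 n44724
theorem D95768 : act 5 n44724 = n95768 := rfl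
def n95769 : Q := act 6 n44724
theorem D95769 : act 6 n44724 = n95769 := rfl
def n95770 : Q := act 0 n44725
theorem D95770 : act 0 n44725 = n95770 := rfl
def n95771 : Q := act 1 n44725
theorem D95771 : act 1 n44725 = n95771 := rfl
def n95772 : Q := act 4 n44725
theorem D95772 : act 4 n44725 = n95772 := rfl
theorem F147457 : act 6 n95772 = n44728 := d10_2 (iv6 F70302) D95772 (iv4 D44728)
def n95773 : Q := act 7 n44725
theorem D95773 : act 7 n44725 = n95773 := rfl
theorem F147458 : act 5 n95773 = n44726 := d13_1 D95773 (iv7 D44726) D44725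
def n95774 : Q := act 3 n44727
theorem D95774 : act 3 n44727 = n95774 := rfl
theorem F147459 : act 5 n95774 = n48380 := d6_2 (iv5 F70303) D95774 (iv3 D48380)
def n95775 : Q := act 6 n44727
theorem D95775 : act 6 n44727 = n95775 := rfl
theorem F147460 : act 2 n95775 = n48417 := d3_1 D95775 (iv6 D48417) F70304
def n95776 : Q := act 0 n44728
theorem D95776 : act 0 n44728 = n95776 := rfl
theorem F147461 : act 5 n95776 = n88349 := d17_1 D95776 (iv1 F135305) (iv5 F137912) (iv4 D89847) F64761 F36652 (iv5 F70303) (iv0 D44727) D44728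
theorem F147462 : act 4 n95776 = n45378 := d18_1 D95776 (iv1 F71550) D89820 F137858 (iv4 D44607) D44606 D95487 F147120 F76205
theorem F147463 : act 1 n89901 = n95776 := d15_0 (iv0 D95776) (iv7 F137901) (iv2 F138038)
theorem F147464 : act 2 n95626 = n95776 := d1_3 F147462 F71556 D95626
theorem F147465 : act 7 n95629 = n95776 := d11_0 F147462 F71554 D95629
def n95777 : Q := act 1 n44728
theorem D95777 : act 1 n44728 = n95777 := rfl
theorem F147466 : act 1 n95777 = n89901 := d15_1 D95777 F138040 F71660
theorem F147467 : act 7 n95777 = n95626 := d15_2 (iv0 D95776) D95777 F147464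
theorem F147468 : act 5 n95777 = n95481 := d17_7 (iv1 F36753) (iv5 D23518) (iv1 F17932) D23613 D48451 F76205 D95777 F147116 (iv4 D48458)
theorem F147469 : act 4 n95777 = n45379 := d18_7 F63223 F63199 F61486 F32361 D21304 D44728 D95777 F71551 (iv5 D41959)
def n95778 : Q := act 3 n44728
theorem D95778 : act 3 n44728 = n95778 := rfl
def n95779 : Q := act 6 n44729
theorem D95779 : act 6 n44729 = n95779 := rfl
theorem F147471 : act 3 n95779 = n44730 := d7_1 D95779 (iv6 D44730) D44729
theorem F147472 : act 4 n95779 = n87335 := d10_1 D95779 (iv6 D87335) (iv4 F70306)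
def n95780 : Q := act 0 n44730
theorem D95780 : act 0 n44730 = n95780 := rfl
def n95781 : Q := act 1 n44730
theorem D95781 : act 1 n44730 = n95781 := rfl
def n95782 : Q := act 5 n44730
theorem D95782 : act 5 n44730 = n95782 := rfl
def n95783 : Q := act 7 n44730
theorem D95783 : act 7 n44730 = n95783 := rfl
def n95784 : Q := act 6 n44731
theorem D95784 : act 6 n44731 = n95784 := rfl
theorem F147474 : act 2 n95784 = n78997 := d3_1 D95784 (iv6 D78997) (iv2 F70309)
theorem F147475 : act 4 n95784 = n52707 := d10_1 D95784 (iv6 D52707) (iv4 F70310)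
def n95785 : Q := act 0 n44732
theorem D95785 : act 0 n44732 = n95785 := rfl
def n95786 : Q := act 1 n44732
theorem D95786 : act 1 n44732 = n95786 := rfl
def n95787 : Q := act 5 n44732
theorem D95787 : act 5 n44732 = n95787 := rfl
def n95788 : Q := act 7 n44732
theorem D95788 : act 7 n44732 = n95788 := rfl
theorem F147476 : act 4 n95788 = n94255 := d11_1 D95788 (iv7 D94255) (iv4 F70313)
def n95789 : Q := act 5 n44734
theorem D95789 : act 5 n44734 = n95789 := rfl
theorem F147477 : act 2 n95789 = n44740 := d2_1 D95789 (iv5 D44740) (iv2 F70319)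
def n95790 : Q := act 7 n44734
theorem D95790 : act 7 n44734 = n95790 := rfl
theorem F147478 : act 2 n95790 = n44741 := d4_1 D95790 (iv7 D44741) (iv2 F70319)
theorem F147479 : act 4 n95790 = n52664 := d11_1 D95790 (iv7 D52664) (iv4 F70320)
theorem F147480 : act 6 n95790 = n89899 := d14_1 D95790 F138031 (iv6 D45408) F34115 D44734
theorem F147481 : act 1 n44739 = n95790 := d15_1 D44739 (iv7 D95790) F70319
theorem F147482 : act 1 n95790 = n44738 := d15_1 F147481 F145364 (iv2 F145362)
theorem F147483 : act 0 n45332 = n92431 := d20_7 (iv4 F147479) (iv1 F147481) (iv4 F136673) (iv3 F145284) (iv1 D94229) F69357 (iv4 F71429) (iv4 D92431) F114626 (iv1 F83217)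
def n95791 : Q := act 3 n44735
theorem D95791 : act 3 n44735 = n95791 := rfl
theorem F147484 : act 5 n95791 = n48012 := d6_2 (iv5 F70321) D95791 (iv3 D48012)
theorem F147485 : act 7 n95791 = n78991 := d8_2 F70324 D95791 (iv3 D78991)
theorem F147486 : act 0 n95791 = n70067 := d20_4 (iv4 F43589) (iv1 F77546) F77549 D95791 (iv3 D70067) (iv4 F105246) (iv1 F106285) (iv4 F120155) (iv3 D78985) F56632
def n95792 : Q := act 6 n44735
theorem D95792 : act 6 n44735 = n95792 := rfl
theorem F147487 : act 2 n95792 = n78993 := d3_1 D95792 (iv6 D78993) F70323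
def n95793 : Q := act 6 n44736
theorem D95793 : act 6 n44736 = n95793 := rfl
theorem F147488 : act 2 n95793 = n78992 := d3_1 D95793 (iv6 D78992) F70329
theorem F147489 : act 4 n95793 = n70289 := d10_1 D95793 (iv6 D70289) (iv4 F70328)
def n95794 : Q := act 0 n44737
theorem D95794 : act 0 n44737 = n95794 := rfl
def n95795 : Q := act 1 n44737
theorem D95795 : act 1 n44737 = n95795 := rfl
def n95796 : Q := act 5 n44737
theorem D95796 : act 5 n44737 = n95796 := rfl
theorem F147490 : act 3 n95796 = n44744 := d6_1 D95796 (iv5 D44744) (iv3 F70330)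
theorem F147491 : act 6 n95796 = n44740 := d12_2 D44737 D95796 (iv5 D44740) (iv6 D21310) D21309
def n95797 : Q := act 7 n44737
theorem D95797 : act 7 n44737 = n95797 := rfl
theorem F147492 : act 3 n95797 = n44745 := d8_1 D95797 (iv7 D44745) (iv3 F70330)
theorem F147493 : act 4 n95797 = n78980 := d11_1 D95797 F120152 (iv4 F70331)
theorem F147494 : act 6 n95797 = n78979 := d14_1 D95797 (iv7 D78979) F56625 (iv7 F33516) D44737
def n95798 : Q := act 3 n44738
theorem D95798 : act 3 n44738 = n95798 := rfl
def n95799 : Q := act 5 n44738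
theorem D95799 : act 5 n44738 = n95799 := rfl
def n95800 : Q := act 6 n44738
theorem D95800 : act 6 n44738 = n95800 := rfl
theorem F147495 : act 4 n95800 = n94259 := d10_1 D95800 (iv6 D94259) (iv4 F137982)
def n95801 : Q := act 5 n44739
theorem D95801 : act 5 n44739 = n95801 := rfl
def n95802 : Q := act 6 n44739
theorem D95802 : act 6 n44739 = n95802 := rfl
theorem F147496 : act 4 n95802 = n94260 := d10_1 D95802 (iv6 D94260) F136673
def n95803 : Q := act 0 n44740
theorem D95803 : act 0 n44740 = n95803 := rfl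
def n95804 : Q := act 1 n44740
theorem D95804 : act 1 n44740 = n95804 := rfl
def n95805 : Q := act 4 n44740
theorem D95805 : act 4 n44740 = n95805 := rfl
def n95806 : Q := act 7 n44740
theorem D95806 : act 7 n44740 = n95806 := rfl
theorem F147497 : act 3 n95806 = n44749 := d8_1 D95806 (iv7 D44749) (iv3 F70332)
theorem F147498 : act 5 n95806 = n44741 := d13_1 D95806 (iv7 D44741) D44740
def n95807 : Q := act 2 n44742
theorem D95807 : act 2 n44742 = n95807 := rfl
theorem F147499 : act 7 n44743 = n95807 := d15_2 (iv0 D44742) D44743 (iv2 D95807)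
def n95808 : Q := act 3 n44742
theorem D95808 : act 3 n44742 = n95808 := rfl
def n95809 : Q := act 4 n44742
theorem D95809 : act 4 n44742 = n95809 := rfl
def n95810 : Q := act 5 n44742
theorem D95810 : act 5 n44742 = n95810 := rfl
def n95811 : Q := act 6 n44742
theorem D95811 : act 6 n44742 = n95811 := rfl
def n95812 : Q := act 7 n44742
theorem D95812 : act 7 n44742 = n95812 := rfl
def n95813 : Q := act 3 n44743
theorem D95813 : act 3 n44743 = n95813 := rfl
def n95814 : Q := act 4 n44743
theorem D95814 : act 4 n44743 = n95814 := rfl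
def n95815 : Q := act 5 n44743
theorem D95815 : act 5 n44743 = n95815 := rfl
def n95816 : Q := act 6 n44743
theorem D95816 : act 6 n44743 = n95816 := rfl
def n95817 : Q := act 0 n44744
theorem D95817 : act 0 n44744 = n95817 := rfl
def n95818 : Q := act 1 n44744
theorem D95818 : act 1 n44744 = n95818 := rfl
def n95819 : Q := act 4 n44744
theorem D95819 : act 4 n44744 = n95819 := rfl
theorem F147501 : act 6 n95819 = n44748 := d10_2 (iv6 F70336) D95819 (iv4 D44748)
def n95820 : Q := act 7 n44744
theorem D95820 : act 7 n44744 = n95820 := rfl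
theorem F147502 : act 5 n95820 = n44745 := d13_1 D95820 (iv7 D44745) D44744
def n95821 : Q := act 6 n44746
theorem D95821 : act 6 n44746 = n95821 := rfl
def n95822 : Q := act 3 n44747
theorem D95822 : act 3 n44747 = n95822 := rfl
theorem F147504 : act 5 n95822 = n95372 := d6_2 F70339 D95822 F147004
def n95823 : Q := act 6 n44747
theorem D95823 : act 6 n44747 = n95823 := rfl
theorem F147505 : act 5 n95823 = n95374 := d12_1 D95823 (iv6 D95374) (iv5 D44545) D44546 F70339
def n95824 : Q := act 0 n44748
theorem D95824 : act 0 n44748 = n95824 := rfl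
theorem F147506 : act 4 n95824 = n45348 := d18_3 (iv1 D44747) D44748 D95824 (iv5 F146984) F146983 F138475 F65226 (iv0 F75126) F70339
theorem F147507 : act 2 n95686 = n95824 := d1_3 F147506 F71476 D95686
theorem F147508 : act 7 n95689 = n95824 := d11_0 F147506 F71475 D95689
def n95825 : Q := act 1 n44748
theorem D95825 : act 1 n44748 = n95825 := rfl
theorem F147509 : act 7 n95825 = n95686 := d15_2 (iv0 D95824) D95825 F147507
theorem F147510 : act 4 n95825 = n45349 := d18_7 (iv1 F34028) F63473 (iv1 D19854) (iv4 F16010) D21314 D44748 D95825 F71467 F70268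
theorem F147511 : act 2 n95689 = n95825 := d1_3 F147510 F71469 D95689
def n95826 : Q := act 3 n44748
theorem D95826 : act 3 n44748 = n95826 := rfl
def n95827 : Q := act 5 n44748
theorem D95827 : act 5 n44748 = n95827 := rfl
def n95828 : Q := act 7 n44748
theorem D95828 : act 7 n44748 = n95828 := rfl
theorem F147512 : act 4 n95828 = n44749 := d11_1 D95828 (iv7 D44749) D44748
theorem F147513 : act 1 n95689 = n95828 := d15_1 (iv0 F147379) (iv7 D95828) (iv2 F71623)
theorem F147514 : act 1 n95828 = n95686 := d15_1 F147513 (iv7 F147509) (iv2 F147511)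
def n95829 : Q := act 6 n44749
theorem D95829 : act 6 n44749 = n95829 := rfl
theorem F147515 : act 5 n95829 = n89902 := d12_1 D95829 (iv6 D89902) (iv5 D42007) F35819 (iv5 F70340)
def n95830 : Q := act 4 n44750
theorem D95830 : act 4 n44750 = n95830 := rfl
theorem F147516 : act 2 n95830 = n44751 := d1_1 D95830 (iv4 D44751) D44750
theorem F147517 : act 1 n95830 = n87464 := d18_6 (iv1 D40975) F30953 D19306 (iv4 F36063) (iv5 F70341) D95830 (iv4 D87464) D87463 F134280
def n95831 : Q := act 6 n44750
theorem D95831 : act 6 n44750 = n95831 := rfl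
theorem F147518 : act 2 n95831 = n44752 := d3_1 D95831 (iv6 D44752) D44750
def n95832 : Q := act 0 n44751
theorem D95832 : act 0 n44751 = n95832 := rfl
theorem F147519 : act 4 n95832 = n44934 := d18_3 F70293 D44751 D95832 F70629 F34006 (iv0 F31294) F31292 D21297 D44712
theorem F147520 : act 7 n87464 = n95832 := d11_0 F147519 F70630 D87464
def n95833 : Q := act 1 n44751
theorem D95833 : act 1 n44751 = n95833 := rfl
theorem F147521 : act 4 n87461 = n95833 := d20_6 F16274 D17932 F29103 (iv3 F33449) D44594 (iv3 F134276) (iv1 D95833) (iv4 D44751) (iv3 D21316) (iv1 F16277)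
theorem F147522 : act 2 n95833 = n87464 := d1_1 F147521 (iv4 D87464) (iv2 F134275)
def n95834 : Q := act 5 n44751
theorem D95834 : act 5 n44751 = n95834 := rfl
theorem F147523 : act 3 n95834 = n77107 := d6_1 D95834 F125403 F125402
theorem F147525 : act 0 n95834 = n80732 := d19_4 D38273 D83145 F128185 (iv3 F147523) (iv5 F147250) (iv4 D95585) (iv3 D44644) (iv1 F33481) (iv5 D10161) (iv4 D4617) D4616 (iv1 F12150) (iv5 D4740) F6530 (iv3 F6547) F6545 (iv5 F13338) (iv4 F13536) D18280
def n95835 : Q := act 6 n44751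
theorem D95835 : act 6 n44751 = n95835 := rfl
def n95836 : Q := act 0 n44752
theorem D95836 : act 0 n44752 = n95836 := rfl
def n95837 : Q := act 1 n44752
theorem D95837 : act 1 n44752 = n95837 := rfl
def n95838 : Q := act 5 n44752
theorem D95838 : act 5 n44752 = n95838 := rfl
theorem F147528 : act 6 n95838 = n47795 := d12_2 D44752 D95838 (iv5 D47795) (iv6 D23000) (iv5 F33521)
def n95839 : Q := act 7 n44752
theorem D95839 : act 7 n44752 = n95839 := rfl
def n95840 : Q := act 2 n44753
theorem D95840 : act 2 n44753 = n95840 := rfl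
theorem F147530 : act 7 n44754 = n95840 := d15_2 (iv0 D44753) D44754 (iv2 D95840)
def n95846 : Q := act 3 n44754
theorem D95846 : act 3 n44754 = n95846 := rfl
def n95847 : Q := act 4 n44754
theorem D95847 : act 4 n44754 = n95847 := rfl
def n95848 : Q := act 5 n44754
theorem D95848 : act 5 n44754 = n95848 := rfl
def n95849 : Q := act 6 n44754
theorem D95849 : act 6 n44754 = n95849 := rfl
def n95850 : Q := act 0 n44755
theorem D95850 : act 0 n44755 = n95850 := rfl
def n95851 : Q := act 1 n44755
theorem D95851 : act 1 n44755 = n95851 := rfl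
theorem F147532 : act 5 n95811 = n95851 := d21_6 (iv5 D10278) F6747 D10171 D21311 D44742 D95811 (iv1 D95851) (iv5 D44755) (iv6 D21317) (iv1 F16277)
def n95852 : Q := act 4 n44755
theorem D95852 : act 4 n44755 = n95852 := rfl
theorem F147533 : act 6 n95852 = n47798 := d10_2 (iv6 F70343) D95852 (iv4 D47798)
def n95853 : Q := act 7 n44755
theorem D95853 : act 7 n44755 = n95853 := rfl
theorem F147534 : act 5 n95853 = n44756 := d13_1 D95853 (iv7 D44756) D44755
def n95854 : Q := act 6 n44757
theorem D95854 : act 6 n44757 = n95854 := rfl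
theorem F147535 : act 2 n95854 = n44758 := d3_1 D95854 (iv6 D44758) D44757
theorem F147536 : act 4 n95854 = n49056 := d10_1 D95854 (iv6 D49056) (iv4 F70344)
def n95855 : Q := act 0 n44758
theorem D95855 : act 0 n44758 = n95855 := rfl
def n95856 : Q := act 1 n44758
theorem D95856 : act 1 n44758 = n95856 := rfl
def n95857 : Q := act 5 n44758
theorem D95857 : act 5 n44758 = n95857 := rfl
theorem F147537 : act 3 n95857 = n44761 := d6_1 D95857 (iv5 D44761) (iv3 F70348)
theorem F147538 : act 6 n95857 = n47805 := d12_2 D44758 D95857 (iv5 D47805) (iv6 D23008) (iv5 F33522)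
def n95858 : Q := act 7 n44758
theorem D95858 : act 7 n44758 = n95858 := rfl
theorem F147539 : act 3 n95858 = n44762 := d8_1 D95858 (iv7 D44762) (iv3 F70348)
def n95859 : Q := act 2 n44759
theorem D95859 : act 2 n44759 = n95859 := rfl
theorem F147540 : act 7 n44760 = n95859 := d15_2 (iv0 D44759) D44760 (iv2 D95859)
def n95860 : Q := act 3 n44759
theorem D95860 : act 3 n44759 = n95860 := rfl
def n95861 : Q := act 4 n44759
theorem D95861 : act 4 n44759 = n95861 := rfl
def n95862 : Q := act 5 n44759
theorem D95862 : act 5 n44759 = n95862 := rfl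
def n95863 : Q := act 6 n44759
theorem D95863 : act 6 n44759 = n95863 := rfl
def n95864 : Q := act 7 n44759
theorem D95864 : act 7 n44759 = n95864 := rfl
theorem F147541 : act 2 n95864 = n44760 := d4_1 D95864 F147540 (iv2 D95859)
def n95865 : Q := act 3 n44760
theorem D95865 : act 3 n44760 = n95865 := rfl
def n95866 : Q := act 4 n44760
theorem D95866 : act 4 n44760 = n95866 := rfl
def n95867 : Q := act 5 n44760
theorem D95867 : act 5 n44760 = n95867 := rfl
def n95868 : Q := act 6 n44760
theorem D95868 : act 6 n44760 = n95868 := rfl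
def n95869 : Q := act 0 n44761
theorem D95869 : act 0 n44761 = n95869 := rfl
def n95870 : Q := act 1 n44761
theorem D95870 : act 1 n44761 = n95870 := rfl
theorem F147542 : act 5 n95764 = n95870 := d21_6 (iv5 D4622) D4620 D10168 D21301 D44723 D95764 (iv1 D95870) (iv5 D44761) (iv6 D21319) (iv1 D10174)
def n95871 : Q := act 4 n44761
theorem D95871 : act 4 n44761 = n95871 := rfl
theorem F147543 : act 6 n95871 = n47807 := d10_2 (iv6 F70349) D95871 (iv4 D47807)
def n95872 : Q := act 7 n44761
theorem D95872 : act 7 n44761 = n95872 := rfl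
theorem F147544 : act 5 n95872 = n44762 := d13_1 D95872 (iv7 D44762) D44761
def n95873 : Q := act 3 n44763
theorem D95873 : act 3 n44763 = n95873 := rfl
theorem F147545 : act 5 n95873 = n57564 := d6_2 F74246 D95873 (iv3 F90716)
def n95874 : Q := act 4 n44763
theorem D95874 : act 4 n44763 = n95874 := rfl
theorem F147546 : act 5 n95874 = n46556 := d16_1 D95874 (iv4 F91676) F91675 F72602 F74225 D46548 (iv5 F73551) (iv7 F74244) (iv2 F74245)
theorem F147547 : act 3 n79080 = n95874 := d20_5 (iv4 D26285) F20802 D26177 D54104 F123202 (iv4 D95874) (iv1 F70350) (iv4 F70352) F70351 F50209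
def n95875 : Q := act 6 n44763
theorem D95875 : act 6 n44763 = n95875 := rfl
def n95876 : Q := act 3 n44764
theorem D95876 : act 3 n44764 = n95876 := rfl
def n95877 : Q := act 4 n44764
theorem D95877 : act 4 n44764 = n95877 := rfl
theorem F147548 : act 5 n95877 = n46557 := d9_2 (iv5 F73551) D95877 F91684 F91683 F72562 F74235 D46553 F74246 D95874 F147546 (iv4 F91676) F91675 F72602 F74225 D46548
def n95878 : Q := act 6 n44764
theorem D95878 : act 6 n44764 = n95878 := rfl
def n95879 : Q := act 6 n44765
theorem D95879 : act 6 n44765 = n95879 := rfl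
theorem F147549 : act 2 n95879 = n44766 := d3_1 D95879 (iv6 D44766) D44765
theorem F147550 : act 3 n95879 = n68570 := d7_1 D95879 F104761 (iv3 F70351)
def n95880 : Q := act 0 n44766
theorem D95880 : act 0 n44766 = n95880 := rfl
def n95881 : Q := act 1 n44766
theorem D95881 : act 1 n44766 = n95881 := rfl
def n95882 : Q := act 5 n44766
theorem D95882 : act 5 n44766 = n95882 := rfl
def n95883 : Q := act 7 n44766
theorem D95883 : act 7 n44766 = n95883 := rfl
theorem F147553 : act 3 n95883 = n44770 := d8_1 D95883 (iv7 D44770) (iv3 F70355)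
def n95884 : Q := act 2 n44767
theorem D95884 : act 2 n44767 = n95884 := rfl
theorem F147554 : act 7 n44768 = n95884 := d15_2 (iv0 D44767) D44768 (iv2 D95884)
def n95885 : Q := act 3 n44767
theorem D95885 : act 3 n44767 = n95885 := rfl
def n95886 : Q := act 4 n44767
theorem D95886 : act 4 n44767 = n95886 := rfl
def n95887 : Q := act 5 n44767
theorem D95887 : act 5 n44767 = n95887 := rfl
def n95888 : Q := act 6 n44767
theorem D95888 : act 6 n44767 = n95888 := rfl
def n95889 : Q := act 7 n44767
theorem D95889 : act 7 n44767 = n95889 := rfl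
theorem F147555 : act 2 n95889 = n44768 := d4_1 D95889 F147554 (iv2 D95884)
def n95890 : Q := act 3 n44768
theorem D95890 : act 3 n44768 = n95890 := rfl
def n95891 : Q := act 4 n44768
theorem D95891 : act 4 n44768 = n95891 := rfl
def n95892 : Q := act 5 n44768
theorem D95892 : act 5 n44768 = n95892 := rfl
def n95893 : Q := act 6 n44768
theorem D95893 : act 6 n44768 = n95893 := rfl
def n95894 : Q := act 0 n44769
theorem D95894 : act 0 n44769 = n95894 := rfl
def n95895 : Q := act 1 n44769
theorem D95895 : act 1 n44769 = n95895 := rfl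
theorem F147556 : act 5 n84417 = n95895 := d21_6 F29106 (iv1 D8691) D8692 D18488 D38924 D84417 (iv1 D95895) (iv5 D44769) (iv6 D21321) (iv1 F29105)
def n95897 : Q := act 7 n44769
theorem D95897 : act 7 n44769 = n95897 := rfl
theorem F147557 : act 5 n95897 = n44770 := d13_1 D95897 (iv7 D44770) D44769
def n95900 : Q := act 3 n44771
theorem D95900 : act 3 n44771 = n95900 := rfl
theorem F147560 : act 7 n95900 = n44777 := d8_2 F70357 D95900 (iv3 D44777)
def n95901 : Q := act 4 n44771
theorem D95901 : act 4 n44771 = n95901 := rfl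
theorem F147561 : act 2 n95901 = n44773 := d1_1 D95901 (iv4 D44773) D44771
theorem F147562 : act 7 n95901 = n44778 := d11_2 F70357 D95901 (iv4 D44778)
def n95902 : Q := act 5 n44771
theorem D95902 : act 5 n44771 = n95902 := rfl
theorem F147563 : act 2 n95902 = n44774 := d2_1 D95902 (iv5 D44774) D44771
theorem F147564 : act 7 n95902 = n44779 := d13_2 F70357 D95902 (iv5 D44779)
def n95903 : Q := act 6 n44771
theorem D95903 : act 6 n44771 = n95903 := rfl
theorem F147565 : act 2 n95903 = n44775 := d3_1 D95903 (iv6 D44775) D44771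
def n95904 : Q := act 0 n44772
theorem D95904 : act 0 n44772 = n95904 := rfl
def n95905 : Q := act 1 n44772
theorem D95905 : act 1 n44772 = n95905 := rfl
def n95906 : Q := act 2 n44772
theorem D95906 : act 2 n44772 = n95906 := rfl
def n95907 : Q := act 4 n44772
theorem D95907 : act 4 n44772 = n95907 := rfl
def n95908 : Q := act 5 n44772
theorem D95908 : act 5 n44772 = n95908 := rfl
theorem F147566 : act 3 n95908 = n44774 := d6_1 D95908 (iv5 D44774) D44772
def n95909 : Q := act 6 n44772
theorem D95909 : act 6 n44772 = n95909 := rfl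
theorem F147567 : act 3 n95909 = n44775 := d7_1 D95909 (iv6 D44775) D44772
def n95910 : Q := act 7 n44772
theorem D95910 : act 7 n44772 = n95910 := rfl
theorem F147568 : act 3 n95910 = n44776 := d8_1 D95910 (iv7 D44776) D44772
def n95911 : Q := act 0 n44773
theorem D95911 : act 0 n44773 = n95911 := rfl
def n95912 : Q := act 1 n44773
theorem D95912 : act 1 n44773 = n95912 := rfl
theorem F147569 : act 1 n95912 = n44778 := d15_1 D95912 (iv7 F147562) F147561
def n95913 : Q := act 3 n44773
theorem D95913 : act 3 n44773 = n95913 := rfl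
def n95914 : Q := act 5 n44773
theorem D95914 : act 5 n44773 = n95914 := rfl
def n95915 : Q := act 6 n44773
theorem D95915 : act 6 n44773 = n95915 := rfl
theorem F147570 : act 4 n95915 = n44775 := d10_1 D95915 (iv6 D44775) D44773
def n95916 : Q := act 7 n44773
theorem D95916 : act 7 n44773 = n95916 := rfl
theorem F147571 : act 2 n95916 = n44778 := d4_1 D95916 (iv7 F147562) F147561
theorem F147572 : act 4 n95916 = n44776 := d11_1 D95916 (iv7 D44776) D44773
theorem F147573 : act 1 n44778 = n95911 := d15_0 (iv0 D95911) D95916 F147571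
def n95917 : Q := act 0 n44774
theorem D95917 : act 0 n44774 = n95917 := rfl
theorem F147574 : act 5 n95917 = n95816 := d21_2 D44774 D95917 (iv6 D95816) (iv1 D44743) (iv6 D21311) (iv5 D10171) (iv1 D4621) D4622 D10176 D21322
def n95918 : Q := act 1 n44774
theorem D95918 : act 1 n44774 = n95918 := rfl
theorem F147575 : act 1 n95918 = n44779 := d15_1 D95918 (iv7 F147564) F147563
def n95919 : Q := act 4 n44774
theorem D95919 : act 4 n44774 = n95919 := rfl
def n95920 : Q := act 6 n44774
theorem D95920 : act 6 n44774 = n95920 := rfl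
def n95921 : Q := act 7 n44774
theorem D95921 : act 7 n44774 = n95921 := rfl
theorem F147576 : act 2 n95921 = n44779 := d4_1 D95921 (iv7 F147564) F147563
theorem F147577 : act 5 n95921 = n44776 := d13_1 D95921 (iv7 D44776) D44774
theorem F147578 : act 1 n44779 = n95917 := d15_0 (iv0 D95917) D95921 F147576
def n95922 : Q := act 0 n44775
theorem D95922 : act 0 n44775 = n95922 := rfl
def n95923 : Q := act 1 n44775
theorem D95923 : act 1 n44775 = n95923 := rfl
def n95924 : Q := act 5 n44775
theorem D95924 : act 5 n44775 = n95924 := rfl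
theorem F147579 : act 0 n95924 = n47770 := d21_7 (iv5 D10171) (iv1 D4621) D4622 D10176 D21322 D44775 D95924 (iv5 D47770) (iv6 D22982) F17639
theorem F147580 : act 1 n95924 = n47828 := d15_1 (iv0 F147579) (iv7 D47828) (iv2 F75028)
def n95925 : Q := act 7 n44775
theorem D95925 : act 7 n44775 = n95925 := rfl
def n95926 : Q := act 6 n44776
theorem D95926 : act 6 n44776 = n95926 := rfl
theorem F147581 : act 2 n95926 = n44780 := d3_1 D95926 (iv6 D44780) (iv2 F70358)
def n95927 : Q := act 0 n44777
theorem D95927 : act 0 n44777 = n95927 := rfl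
def n95928 : Q := act 1 n44777
theorem D95928 : act 1 n44777 = n95928 := rfl
def n95929 : Q := act 2 n44777
theorem D95929 : act 2 n44777 = n95929 := rfl
def n95930 : Q := act 4 n44777
theorem D95930 : act 4 n44777 = n95930 := rfl
def n95931 : Q := act 5 n44777
theorem D95931 : act 5 n44777 = n95931 := rfl
theorem F147582 : act 3 n95931 = n44779 := d6_1 D95931 (iv5 D44779) D44777
def n95932 : Q := act 6 n44777
theorem D95932 : act 6 n44777 = n95932 := rfl
theorem F147583 : act 3 n95932 = n44780 := d7_1 D95932 (iv6 D44780) D44777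
def n95933 : Q := act 3 n44778
theorem D95933 : act 3 n44778 = n95933 := rfl
def n95934 : Q := act 5 n44778
theorem D95934 : act 5 n44778 = n95934 := rfl
def n95935 : Q := act 6 n44778
theorem D95935 : act 6 n44778 = n95935 := rfl
def n95936 : Q := act 4 n44779
theorem D95936 : act 4 n44779 = n95936 := rfl
def n95937 : Q := act 6 n44779
theorem D95937 : act 6 n44779 = n95937 := rfl
def n95938 : Q := act 0 n44780
theorem D95938 : act 0 n44780 = n95938 := rfl
def n95939 : Q := act 1 n44780
theorem D95939 : act 1 n44780 = n95939 := rfl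
def n95940 : Q := act 5 n44780
theorem D95940 : act 5 n44780 = n95940 := rfl
theorem F147585 : act 0 n95763 = n95940 := d21_1 D95763 (iv5 D95940) (iv6 D44780) (iv1 D21323) (iv6 D10176) (iv5 D4622) D4620 D10168 D21301 D44723
def n95941 : Q := act 7 n44780
theorem D95941 : act 7 n44780 = n95941 := rfl
def n95942 : Q := act 2 n44781
theorem D95942 : act 2 n44781 = n95942 := rfl
theorem F147586 : act 7 n44782 = n95942 := d15_2 (iv0 D44781) D44782 (iv2 D95942)
def n95943 : Q := act 3 n44781
theorem D95943 : act 3 n44781 = n95943 := rfl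
def n95944 : Q := act 4 n44781
theorem D95944 : act 4 n44781 = n95944 := rfl
def n95945 : Q := act 5 n44781
theorem D95945 : act 5 n44781 = n95945 := rfl
def n95946 : Q := act 6 n44781
theorem D95946 : act 6 n44781 = n95946 := rfl
def n95947 : Q := act 7 n44781
theorem D95947 : act 7 n44781 = n95947 := rfl
theorem F147587 : act 2 n95947 = n44782 := d4_1 D95947 F147586 (iv2 D95942)
def n95948 : Q := act 3 n44782
theorem D95948 : act 3 n44782 = n95948 := rfl
def n95949 : Q := act 4 n44782
theorem D95949 : act 4 n44782 = n95949 := rfl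
def n95950 : Q := act 5 n44782
theorem D95950 : act 5 n44782 = n95950 := rfl
theorem F147588 : act 6 n95950 = n47985 := d21_3 (iv5 F147147) (iv1 F147149) D95950 (iv1 F75369) F36293 (iv5 F75112) (iv1 F147580) (iv5 D95924) (iv6 D44775) (iv1 F70150)
def n95951 : Q := act 6 n44782
theorem D95951 : act 6 n44782 = n95951 := rfl
def n95952 : Q := act 0 n44783
theorem D95952 : act 0 n44783 = n95952 := rfl
def n95953 : Q := act 1 n44783
theorem D95953 : act 1 n44783 = n95953 := rfl
def n95954 : Q := act 3 n44783
theorem D95954 : act 3 n44783 = n95954 := rfl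
theorem F147589 : act 6 n95954 = n44813 := d7_2 (iv6 F70359) D95954 (iv3 D44813)
def n95955 : Q := act 5 n44783
theorem D95955 : act 5 n44783 = n95955 := rfl
def n95956 : Q := act 7 n44783
theorem D95956 : act 7 n44783 = n95956 := rfl
theorem F147590 : act 4 n95956 = n44784 := d11_1 D95956 (iv7 D44784) D44783
def n95957 : Q := act 6 n44784
theorem D95957 : act 6 n44784 = n95957 := rfl
theorem F147591 : act 7 n95957 = n44816 := d14_2 D44784 D95957 (iv6 D44816) (iv7 D21338) (iv6 F33524)
def n95958 : Q := act 2 n44785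
theorem D95958 : act 2 n44785 = n95958 := rfl
theorem F147592 : act 7 n44786 = n95958 := d15_2 (iv0 D44785) D44786 (iv2 D95958)
def n95959 : Q := act 4 n44785
theorem D95959 : act 4 n44785 = n95959 := rfl
theorem F147593 : act 3 n95959 = n94280 := d5_1 D95959 (iv4 D94280) F144586 F144585 (iv3 F144587)
def n95960 : Q := act 5 n44785
theorem D95960 : act 5 n44785 = n95960 := rfl
def n95961 : Q := act 6 n44785
theorem D95961 : act 6 n44785 = n95961 := rfl
def n95962 : Q := act 7 n44785
theorem D95962 : act 7 n44785 = n95962 := rfl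
theorem F147594 : act 2 n95962 = n44786 := d4_1 D95962 F147592 (iv2 D95958)
def n95963 : Q := act 3 n44786
theorem D95963 : act 3 n44786 = n95963 := rfl
theorem F147595 : act 4 n87577 = n95963 := d20_2 (iv4 F63048) D87577 (iv3 D95963) (iv1 D44786) (iv3 D21327) (iv4 F35773) F66246 (iv4 F70170) F71791 (iv1 D45518)
def n95964 : Q := act 4 n44786
theorem D95964 : act 4 n44786 = n95964 := rfl
theorem F147596 : act 3 n95964 = n89078 := d20_3 (iv4 F147154) (iv1 F147158) D95964 (iv1 F136785) (iv3 D44254) (iv4 D21044) F62560 (iv4 F30890) (iv3 F61867) (iv1 F72656)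
def n95965 : Q := act 5 n44786
theorem D95965 : act 5 n44786 = n95965 := rfl
def n95967 : Q := act 5 n44787
theorem D95967 : act 5 n44787 = n95967 := rfl
def n95968 : Q := act 6 n44787
theorem D95968 : act 6 n44787 = n95968 := rfl
theorem F147598 : act 2 n95968 = n44789 := d3_1 D95968 (iv6 D44789) D44787
theorem F147599 : act 4 n95968 = n87551 := d10_1 D95968 (iv6 D87551) (iv4 F70361)
def n95969 : Q := act 0 n44788
theorem D95969 : act 0 n44788 = n95969 := rfl
def n95970 : Q := act 1 n44788
theorem D95970 : act 1 n44788 = n95970 := rfl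
def n95971 : Q := act 4 n44788
theorem D95971 : act 4 n44788 = n95971 := rfl
def n95972 : Q := act 6 n44788
theorem D95972 : act 6 n44788 = n95972 := rfl
theorem F147600 : act 3 n95972 = n44793 := d7_1 D95972 (iv6 D44793) (iv3 F70362)
def n95973 : Q := act 0 n44789
theorem D95973 : act 0 n44789 = n95973 := rfl
def n95974 : Q := act 1 n44789
theorem D95974 : act 1 n44789 = n95974 := rfl
def n95975 : Q := act 5 n44789
theorem D95975 : act 5 n44789 = n95975 := rfl
theorem F147601 : act 3 n95975 = n44794 := d6_1 D95975 (iv5 D44794) (iv3 F70363)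
theorem F147602 : act 7 n48063 = n95975 := d8_0 F147601 (iv7 F75383) D48063
def n95976 : Q := act 7 n44789
theorem D95976 : act 7 n44789 = n95976 := rfl
theorem F147603 : act 3 n95976 = n44795 := d8_1 D95976 (iv7 D44795) (iv3 F70363)
theorem F147604 : act 5 n95976 = n48063 := d13_1 D95976 F147602 (iv5 D95975)
def n95977 : Q := act 3 n44790
theorem D95977 : act 3 n44790 = n95977 := rfl
theorem F147605 : act 5 n95977 = n48444 := d6_2 (iv5 F70364) D95977 F76187
def n95978 : Q := act 4 n44790
theorem D95978 : act 4 n44790 = n95978 := rfl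
theorem F147606 : act 2 n95978 = n48474 := d1_1 D95978 (iv4 D48474) F70368
theorem F147607 : act 5 n95978 = n48474 := d16_1 D95978 (iv4 D48474) (iv5 D23625) F17936 (iv5 F17906) (iv4 F36662) (iv5 F70371) F70370 F70368
theorem F147608 : act 0 n95978 = n44855 := d17_0 F70456 (iv1 F70388) (iv5 D44814) (iv4 D21337) (iv5 D10179) D10178 D21333 F70366 D95978
theorem F147609 : act 1 n95978 = n44831 := d18_6 (iv1 D47873) F36090 F63191 (iv4 F36738) (iv5 F70364) D95978 (iv4 D44831) D44830 F75151
def n95979 : Q := act 6 n44790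
theorem D95979 : act 6 n44790 = n95979 := rfl
theorem F147610 : act 2 n95979 = n48470 := d3_1 D95979 F76237 F70368
theorem F147611 : act 5 n95979 = n48446 := d12_1 D95979 (iv6 D48446) (iv5 D23610) D23611 (iv5 F70364)
def n95980 : Q := act 4 n44791
theorem D95980 : act 4 n44791 = n95980 := rfl
theorem F147613 : act 0 n95980 = n44831 := d17_0 F70461 (iv1 D44812) D44814 F70382 F70167 F33466 D21329 D44791 D95980
theorem F147614 : act 1 n95980 = n44855 := d18_6 (iv1 F70183) (iv4 D44633) F63189 (iv4 F36662) (iv5 F70371) D95980 (iv4 D44855) F70411 F70410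
def n95981 : Q := act 6 n44791
theorem D95981 : act 6 n44791 = n95981 := rfl
theorem F147615 : act 5 n95981 = n48417 := d12_1 D95981 (iv6 D48417) (iv5 D23550) D23551 (iv5 F70371)
def n95982 : Q := act 0 n44792
theorem D95982 : act 0 n44792 = n95982 := rfl
theorem F147616 : act 4 n95982 = n95550 := d18_3 (iv1 D44791) D44792 D95982 F147201 F70425 F66289 F65622 F66286 (iv5 F70371)
theorem F147617 : act 1 n44801 = n95982 := d15_0 (iv0 D95982) (iv7 F147162) F147161
def n95983 : Q := act 1 n44792
theorem D95983 : act 1 n44792 = n95983 := rfl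
theorem F147618 : act 1 n95983 = n44801 := d15_1 D95983 (iv7 F144812) F144811
theorem F147619 : act 4 n95983 = n95551 := d18_7 F66331 F34009 (iv1 F66247) F35773 D21329 D44792 D95983 F147205 (iv5 D44634)
def n95984 : Q := act 3 n44792
theorem D95984 : act 3 n44792 = n95984 := rfl
def n95985 : Q := act 6 n44792
theorem D95985 : act 6 n44792 = n95985 := rfl
theorem F147620 : act 4 n95985 = n44793 := d10_1 D95985 (iv6 D44793) D44792
def n95986 : Q := act 0 n44793
theorem D95986 : act 0 n44793 = n95986 := rfl
def n95987 : Q := act 1 n44793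
theorem D95987 : act 1 n44793 = n95987 := rfl
def n95988 : Q := act 5 n44793
theorem D95988 : act 5 n44793 = n95988 := rfl
theorem F147622 : act 6 n95988 = n44794 := d12_2 D44793 D95988 (iv5 D44794) (iv6 D21330) D21329
def n95989 : Q := act 7 n44793
theorem D95989 : act 7 n44793 = n95989 := rfl
def n95990 : Q := act 4 n44794
theorem D95990 : act 4 n44794 = n95990 := rfl
theorem F147623 : act 2 n95990 = n48067 := d1_1 D95990 (iv4 D48067) (iv2 F70373)
theorem F147624 : act 7 n95990 = n48064 := d11_2 F75383 D95990 (iv4 D48064)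
def n95991 : Q := act 2 n44796
theorem D95991 : act 2 n44796 = n95991 := rfl
theorem F147625 : act 4 n95991 = n94309 := d1_2 F144797 D95991 (iv2 D94309)
theorem F147626 : act 7 n44797 = n95991 := d15_2 (iv0 D44796) D44797 (iv2 D95991)
def n95992 : Q := act 3 n44796
theorem D95992 : act 3 n44796 = n95992 := rfl
theorem F147627 : act 4 n95992 = n87408 := d20_6 F70170 (iv1 F66237) F32943 D21332 D44796 D95992 (iv1 D87408) (iv4 F70174) (iv3 D44630) D44629
theorem F147628 : act 3 n88962 = n87408 := d5_5 (iv4 F147627) (iv3 D95992) (iv4 F144797) D94310 F145446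
def n95995 : Q := act 7 n44796
theorem D95995 : act 7 n44796 = n95995 := rfl
theorem F147630 : act 2 n95995 = n44797 := d4_1 D95995 F147626 (iv2 D95991)
theorem F147631 : act 4 n95995 = n94313 := d11_1 D95995 (iv7 D94313) F144797
def n95996 : Q := act 5 n44797
theorem D95996 : act 5 n44797 = n95996 := rfl
def n95997 : Q := act 6 n44797
theorem D95997 : act 6 n44797 = n95997 := rfl
def n95998 : Q := act 5 n44798
theorem D95998 : act 5 n44798 = n95998 := rfl
theorem F147633 : act 2 n95998 = n44799 := d2_1 D95998 (iv5 D44799) D44798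
def n95999 : Q := act 6 n44798
theorem D95999 : act 6 n44798 = n95999 := rfl
theorem F147634 : act 2 n95999 = n44800 := d3_1 D95999 (iv6 D44800) D44798
def n96000 : Q := act 0 n44799
theorem D96000 : act 0 n44799 = n96000 := rfl
def n96001 : Q := act 1 n44799
theorem D96001 : act 1 n44799 = n96001 := rfl
def n96002 : Q := act 4 n44799
theorem D96002 : act 4 n44799 = n96002 := rfl
def n96003 : Q := act 6 n44799
theorem D96003 : act 6 n44799 = n96003 := rfl
theorem F147635 : act 3 n96003 = n44802 := d7_1 D96003 (iv6 D44802) (iv3 F70376)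
def n96004 : Q := act 0 n44800
theorem D96004 : act 0 n44800 = n96004 := rfl
def n96005 : Q := act 1 n44800
theorem D96005 : act 1 n44800 = n96005 := rfl
def n96006 : Q := act 5 n44800
theorem D96006 : act 5 n44800 = n96006 := rfl
theorem F147636 : act 3 n96006 = n44803 := d6_1 D96006 (iv5 D44803) (iv3 F70377)
def n96007 : Q := act 3 n44801
theorem D96007 : act 3 n44801 = n96007 := rfl
def n96008 : Q := act 6 n44801
theorem D96008 : act 6 n44801 = n96008 := rfl
theorem F147637 : act 4 n96008 = n44802 := d10_1 D96008 (iv6 D44802) D44801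
def n96009 : Q := act 0 n44802
theorem D96009 : act 0 n44802 = n96009 := rfl
def n96010 : Q := act 1 n44802
theorem D96010 : act 1 n44802 = n96010 := rfl
def n96011 : Q := act 5 n44802
theorem D96011 : act 5 n44802 = n96011 := rfl
theorem F147638 : act 6 n96011 = n44803 := d12_2 D44802 D96011 (iv5 D44803) (iv6 D21334) D21333
def n96012 : Q := act 7 n44802
theorem D96012 : act 7 n44802 = n96012 := rfl
def n96013 : Q := act 4 n44803
theorem D96013 : act 4 n44803 = n96013 := rfl
def n96014 : Q := act 0 n44805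
theorem D96014 : act 0 n44805 = n96014 := rfl
def n96015 : Q := act 1 n44805
theorem D96015 : act 1 n44805 = n96015 := rfl
def n96016 : Q := act 2 n44805
theorem D96016 : act 2 n44805 = n96016 := rfl
def n96017 : Q := act 4 n44805
theorem D96017 : act 4 n44805 = n96017 := rfl
def n96018 : Q := act 6 n44805
theorem D96018 : act 6 n44805 = n96018 := rfl
theorem F147639 : act 3 n96018 = n44807 := d7_1 D96018 (iv6 D44807) D44805
def n96019 : Q := act 0 n44806
theorem D96019 : act 0 n44806 = n96019 := rfl
theorem F147640 : act 4 n96019 = n95545 := d18_1 D96019 F147187 F147179 (iv5 F147211) (iv4 D95552) D95551 (iv4 F147619) F147618 (iv5 F70380)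
theorem F147641 : act 1 n44809 = n96019 := d15_0 (iv0 D96019) (iv7 F147174) F147172
theorem F147642 : act 7 n95560 = n96019 := d11_0 F147640 F147186 D95560
def n96020 : Q := act 1 n44806
theorem D96020 : act 1 n44806 = n96020 := rfl
theorem F147643 : act 1 n96020 = n44809 := d15_1 D96020 (iv7 F147167) F147166
theorem F147644 : act 5 n96020 = n96019 := d17_7 (iv1 F70169) F70167 (iv1 F33465) D21333 D44801 (iv5 F70380) D96020 (iv0 D96019) (iv4 D44806)
theorem F147645 : act 4 n96020 = n45326 := d18_7 F66341 F62465 D41243 F66251 (iv5 F66252) D44806 D96020 (iv0 F75154) (iv5 D47874)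
theorem F147646 : act 2 n95560 = n96020 := d1_3 F147645 F71407 D95560
def n96021 : Q := act 3 n44806
theorem D96021 : act 3 n44806 = n96021 := rfl
theorem F147647 : act 5 n96021 = n96007 := d6_2 (iv5 F70380) D96021 (iv3 D96007)
def n96022 : Q := act 6 n44806
theorem D96022 : act 6 n44806 = n96022 := rfl
theorem F147648 : act 4 n96022 = n44807 := d10_1 D96022 (iv6 D44807) D44806
def n96023 : Q := act 0 n44807
theorem D96023 : act 0 n44807 = n96023 := rfl
def n96024 : Q := act 1 n44807
theorem D96024 : act 1 n44807 = n96024 := rfl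
def n96025 : Q := act 5 n44807
theorem D96025 : act 5 n44807 = n96025 := rfl
theorem F147649 : act 6 n96025 = n89903 := d12_2 D44807 D96025 F138042 F76115 (iv5 F66252)
def n96026 : Q := act 7 n44807
theorem D96026 : act 7 n44807 = n96026 := rfl
def n96027 : Q := act 0 n44808
theorem D96027 : act 0 n44808 = n96027 := rfl
def n96028 : Q := act 1 n44808
theorem D96028 : act 1 n44808 = n96028 := rfl
def n96029 : Q := act 2 n44808
theorem D96029 : act 2 n44808 = n96029 := rfl
def n96030 : Q := act 4 n44808
theorem D96030 : act 4 n44808 = n96030 := rfl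
def n96031 : Q := act 6 n44808
theorem D96031 : act 6 n44808 = n96031 := rfl
theorem F147650 : act 3 n96031 = n44810 := d7_1 D96031 (iv6 D44810) D44808
def n96032 : Q := act 3 n44809
theorem D96032 : act 3 n44809 = n96032 := rfl
theorem F147651 : act 5 n96032 = n95984 := d6_2 (iv5 F70381) D96032 (iv3 D95984)
def n96033 : Q := act 6 n44809
theorem D96033 : act 6 n44809 = n96033 := rfl
theorem F147652 : act 4 n96033 = n44810 := d10_1 D96033 (iv6 D44810) D44809
def n96034 : Q := act 0 n44810
theorem D96034 : act 0 n44810 = n96034 := rfl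
def n96035 : Q := act 1 n44810
theorem D96035 : act 1 n44810 = n96035 := rfl
def n96036 : Q := act 7 n44810
theorem D96036 : act 7 n44810 = n96036 := rfl
def n96037 : Q := act 3 n44811
theorem D96037 : act 3 n44811 = n96037 := rfl
def n96038 : Q := act 6 n44811
theorem D96038 : act 6 n44811 = n96038 := rfl
def n96039 : Q := act 3 n44812
theorem D96039 : act 3 n44812 = n96039 := rfl
def n96040 : Q := act 6 n44812
theorem D96040 : act 6 n44812 = n96040 := rfl
def n96041 : Q := act 0 n44813
theorem D96041 : act 0 n44813 = n96041 := rfl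
def n96042 : Q := act 1 n44813
theorem D96042 : act 1 n44813 = n96042 := rfl
def n96043 : Q := act 2 n44813
theorem D96043 : act 2 n44813 = n96043 := rfl
def n96044 : Q := act 5 n44813
theorem D96044 : act 5 n44813 = n96044 := rfl
theorem F147653 : act 3 n96044 = n44814 := d6_1 D96044 (iv5 D44814) D44813
theorem F147654 : act 7 n95543 = n96044 := d8_0 F147653 F70383 D95543
def n96045 : Q := act 7 n44813
theorem D96045 : act 7 n44813 = n96045 := rfl
theorem F147655 : act 3 n96045 = n44815 := d8_1 D96045 (iv7 D44815) D44813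
theorem F147656 : act 5 n96045 = n95543 := d13_1 D96045 F147654 (iv5 D96044)
def n96046 : Q := act 6 n44814
theorem D96046 : act 6 n44814 = n96046 := rfl
theorem F147657 : act 4 n96046 = n95544 := d10_1 D96046 (iv6 D95544) (iv4 F70382)
def n96047 : Q := act 6 n44815
theorem D96047 : act 6 n44815 = n96047 := rfl
theorem F147658 : act 2 n96047 = n96046 := d3_1 D96047 (iv6 D96046) (iv2 F70385)
theorem F147659 : act 4 n96047 = n44816 := d10_1 D96047 (iv6 D44816) (iv4 F70386)
def n96048 : Q := act 0 n44816
theorem D96048 : act 0 n44816 = n96048 := rfl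
def n96049 : Q := act 1 n44816
theorem D96049 : act 1 n44816 = n96049 := rfl
def n96050 : Q := act 3 n44817
theorem D96050 : act 3 n44817 = n96050 := rfl
theorem F147660 : act 4 n96050 = n44839 := d5_2 D44817 D96050 (iv3 D44839) (iv4 D21359) (iv3 F33537)
theorem F147661 : act 5 n96050 = n93811 := d6_2 (iv5 F70391) D96050 (iv3 D93811)
theorem F147662 : act 6 n96050 = n90667 := d7_2 F70394 D96050 F139579
theorem F147663 : act 7 n96050 = n88546 := d8_2 (iv7 F70390) D96050 (iv3 D88546)
def n96051 : Q := act 0 n44822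
theorem D96051 : act 0 n44822 = n96051 := rfl
theorem F147664 : act 4 n96051 = n89117 := d20_2 (iv4 F70407) D96051 (iv3 D89117) (iv1 D41636) F31377 (iv4 F29323) (iv1 F62896) (iv4 D22145) D22144 F69180
theorem F147665 : act 3 n96051 = n95508 := d20_5 (iv4 D20815) D20812 F65892 D44822 D96051 (iv4 D95508) (iv1 D44615) F33459 F33458 F32972
def n96052 : Q := act 1 n44822
theorem D96052 : act 1 n44822 = n96052 := rfl
def n96053 : Q := act 2 n44822
theorem D96053 : act 2 n44822 = n96053 := rfl
theorem F147666 : act 4 n96053 = n88969 := d1_2 (iv4 F70407) D96053 (iv2 F136549)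
def n96054 : Q := act 5 n44822
theorem D96054 : act 5 n44822 = n96054 := rfl
theorem F147667 : act 3 n96054 = n44823 := d6_1 D96054 (iv5 D44823) D44822
def n96055 : Q := act 4 n44823
theorem D96055 : act 4 n44823 = n96055 := rfl
theorem F147668 : act 2 n96055 = n96019 := d1_1 D96055 F147640 F147185
theorem F147669 : act 7 n96055 = n96020 := d11_2 F71408 D96055 F147645
theorem F147670 : act 5 n96055 = n95560 := d16_1 D96055 (iv4 D95560) (iv5 D44636) F33473 F29315 (iv4 F33473) D44636 (iv7 F147186) F147185
theorem F147671 : act 0 n96055 = n95539 := d18_2 F70428 D96055 (iv4 D95539) F70163 (iv4 F65622) (iv0 F66287) (iv4 F70421) (iv0 D44837) D44840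
theorem F147672 : act 1 n96055 = n95536 := d18_6 F32972 (iv4 D20815) D20812 F65892 D44823 D96055 (iv4 D95536) (iv0 D44625) (iv5 D21235)
def n96056 : Q := act 6 n44823
theorem D96056 : act 6 n44823 = n96056 := rfl
def n96057 : Q := act 2 n44824
theorem D96057 : act 2 n44824 = n96057 := rfl
def n96058 : Q := act 5 n44824
theorem D96058 : act 5 n44824 = n96058 := rfl
def n96059 : Q := act 6 n44824
theorem D96059 : act 6 n44824 = n96059 := rfl
def n96060 : Q := act 7 n44824
theorem D96060 : act 7 n44824 = n96060 := rfl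
def n96061 : Q := act 3 n44825
theorem D96061 : act 3 n44825 = n96061 := rfl
theorem F147675 : act 0 n96061 = n95504 := d20_10 (iv4 D95504) (iv1 F70981) F70977 F70976 (iv1 F33864) D21691 (iv4 F69304) D94174 F145183 D96061
def n96064 : Q := act 5 n44826
theorem D96064 : act 5 n44826 = n96064 := rfl
theorem F147676 : act 2 n96064 = n44827 := d2_1 D96064 (iv5 D44827) D44826
def n96065 : Q := act 6 n44826
theorem D96065 : act 6 n44826 = n96065 := rfl
theorem F147677 : act 2 n96065 = n44828 := d3_1 D96065 (iv6 D44828) D44826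
def n96066 : Q := act 0 n44827
theorem D96066 : act 0 n44827 = n96066 := rfl
def n96067 : Q := act 1 n44827
theorem D96067 : act 1 n44827 = n96067 := rfl
def n96068 : Q := act 4 n44827
theorem D96068 : act 4 n44827 = n96068 := rfl
def n96069 : Q := act 6 n44827
theorem D96069 : act 6 n44827 = n96069 := rfl
theorem F147678 : act 3 n96069 = n44832 := d7_1 D96069 (iv6 D44832) (iv3 F70408)
def n96070 : Q := act 0 n44828
theorem D96070 : act 0 n44828 = n96070 := rfl
def n96071 : Q := act 1 n44828
theorem D96071 : act 1 n44828 = n96071 := rfl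
def n96072 : Q := act 5 n44828
theorem D96072 : act 5 n44828 = n96072 := rfl
theorem F147679 : act 3 n96072 = n44834 := d6_1 D96072 (iv5 D44834) (iv3 F70409)
def n96073 : Q := act 7 n44828
theorem D96073 : act 7 n44828 = n96073 := rfl
theorem F147680 : act 3 n96073 = n44835 := d8_1 D96073 (iv7 D44835) (iv3 F70409)
def n96074 : Q := act 3 n44829
theorem D96074 : act 3 n44829 = n96074 := rfl
theorem F147681 : act 5 n96074 = n88346 := d6_2 (iv5 F70410) D96074 F135289
def n96075 : Q := act 4 n44829
theorem D96075 : act 4 n44829 = n96075 := rfl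
theorem F147682 : act 2 n96075 = n95982 := d1_1 D96075 F147616 (iv2 F147203)
theorem F147683 : act 7 n96075 = n95983 := d11_2 F147206 D96075 F147619
theorem F147684 : act 5 n96075 = n95982 := d16_1 D96075 F147616 F147201 F70425 (iv5 F66275) (iv4 F75149) (iv5 F75151) F147204 (iv2 F147203)
theorem F147685 : act 0 n96075 = n95533 := d17_0 (iv5 F147168) (iv1 F147672) F147670 (iv4 D95560) (iv5 D44636) F66217 D21374 F70411 D96075
theorem F147686 : act 1 n96075 = n93991 := d18_6 F70419 (iv4 F36757) (iv1 F66272) (iv4 F62465) (iv5 F70410) D96075 (iv4 D93991) D93990 F144809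
def n96076 : Q := act 6 n44829
theorem D96076 : act 6 n44829 = n96076 := rfl
theorem F147687 : act 5 n96076 = n88350 := d12_1 D96076 (iv6 D88350) (iv5 D41238) D41239 (iv5 F70410)
def n96077 : Q := act 3 n44830
theorem D96077 : act 3 n44830 = n96077 := rfl
def n96078 : Q := act 4 n44830
theorem D96078 : act 4 n44830 = n96078 := rfl
theorem F147688 : act 2 n96078 = n95983 := d1_1 D96078 F147619 (iv2 F147208)
theorem F147689 : act 5 n96078 = n95983 := d9_2 (iv5 F75151) D96078 F147619 F147207 F70421 (iv5 D41245) (iv4 F62465) (iv5 F70410) D96075 F147684 F147616 F147201 F70425 (iv5 F66275) (iv4 F75149)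
theorem F147690 : act 7 n96078 = n95982 := d11_2 (iv7 F147204) D96078 F147616
theorem F147691 : act 0 n96078 = n93991 := d17_0 (iv5 F147173) (iv1 F147233) (iv5 F147670) (iv4 D96055) (iv5 D44823) (iv0 D21351) D21354 D44830 D96078
theorem F147692 : act 1 n96078 = n95533 := d18_6 D23623 (iv4 F66251) (iv1 F66276) (iv4 F75149) (iv5 F75151) D96078 (iv4 D95533) F70155 (iv5 D23625)
def n96079 : Q := act 6 n44830
theorem D96079 : act 6 n44830 = n96079 := rfl
def n96080 : Q := act 3 n44831
theorem D96080 : act 3 n44831 = n96080 := rfl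
theorem F147693 : act 5 n96080 = n96039 := d6_2 (iv5 F70461) D96080 (iv3 D96039)
def n96081 : Q := act 6 n44831
theorem D96081 : act 6 n44831 = n96081 := rfl
theorem F147694 : act 4 n96081 = n44832 := d10_1 D96081 (iv6 D44832) D44831
def n96082 : Q := act 0 n44832
theorem D96082 : act 0 n44832 = n96082 := rfl
def n96083 : Q := act 1 n44832
theorem D96083 : act 1 n44832 = n96083 := rfl
def n96084 : Q := act 5 n44832
theorem D96084 : act 5 n44832 = n96084 := rfl
theorem F147695 : act 6 n96084 = n44834 := d12_2 D44832 D96084 (iv5 D44834) (iv6 D21355) D21354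
def n96085 : Q := act 7 n44832
theorem D96085 : act 7 n44832 = n96085 := rfl
def n96086 : Q := act 3 n44833
theorem D96086 : act 3 n44833 = n96086 := rfl
theorem F147696 : act 0 n96086 = n89936 := d20_4 (iv4 F134870) F134871 (iv4 F70414) D96086 (iv3 D89936) (iv4 D42025) (iv1 D19812) (iv4 F31579) (iv3 F64842) (iv1 F75386)
def n96087 : Q := act 1 n44834
theorem D96087 : act 1 n44834 = n96087 := rfl
theorem F147697 : act 1 n96087 = n87864 := d15_1 D96087 (iv7 F147215) F147214
theorem F147698 : act 7 n96087 = n44921 := d15_2 (iv0 F70413) D96087 F70593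
theorem F147699 : act 5 n96087 = n44922 := d17_7 (iv1 F17718) (iv5 F17740) F33560 (iv5 D21364) (iv4 F33549) D44834 D96087 F70598 (iv4 D23156)
theorem F147700 : act 2 n48081 = n96087 := d2_3 F147699 F70594 D48081
def n96088 : Q := act 4 n44834
theorem D96088 : act 4 n44834 = n96088 := rfl
theorem F147701 : act 2 n96088 = n48070 := d1_1 D96088 F147218 F147214
theorem F147702 : act 0 n96088 = n47992 := d18_2 (iv1 D96087) D96088 (iv4 D47992) (iv5 D23152) F17710 D10905 D23159 F70597 (iv5 F147699)
theorem F147703 : act 1 n96088 = n48073 := d18_6 F137933 F64770 F63235 (iv4 F33549) D44834 D96088 F75522 F75379 F137934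
def n96089 : Q := act 7 n44834
theorem D96089 : act 7 n44834 = n96089 := rfl
theorem F147704 : act 2 n96089 = n87864 := d4_1 D96089 (iv7 F147215) F147214
theorem F147705 : act 5 n96089 = n44835 := d13_1 D96089 (iv7 D44835) D44834
theorem F147706 : act 1 n48081 = n96089 := d15_1 F147217 (iv7 D96089) (iv2 F147214)
theorem F147707 : act 1 n96089 = n44921 := d15_1 F147706 (iv7 F147698) (iv2 F147700)
theorem F147708 : act 4 n48069 = n96089 := d18_3 (iv1 D23190) D23191 D48069 F147705 F70415 F63417 (iv4 F64843) (iv0 F69061) F69060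
theorem F147709 : act 7 n96088 = n48069 := d11_0 F147708 (iv7 D96089) D96088
def n96090 : Q := act 3 n44836
theorem D96090 : act 3 n44836 = n96090 := rfl
theorem F147711 : act 6 n96090 = n48380 := d7_2 (iv6 F70417) D96090 (iv3 D48380)
theorem F147712 : act 7 n96090 = n48444 := d8_2 (iv7 F70418) D96090 F76187
def n96091 : Q := act 3 n44837
theorem D96091 : act 3 n44837 = n96091 := rfl
theorem F147713 : act 4 n96091 = n88363 := d5_2 (iv4 F70421) D96091 F135325 F63566 (iv3 F63086)
def n96092 : Q := act 3 n44838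
theorem D96092 : act 3 n44838 = n96092 := rfl
theorem F147715 : act 4 n96092 = n46604 := d5_2 (iv4 F70425) D96092 F73605 (iv4 F69100) F69104
theorem F147716 : act 6 n96092 = n44945 := d7_2 F70427 D96092 (iv3 D44945)
def n96093 : Q := act 0 n44839
theorem D96093 : act 0 n44839 = n96093 := rfl
theorem F147717 : act 4 n96093 = n92968 := d20_0 (iv1 D92968) (iv4 F143314) F143313 F68340 F36751 F17936 F63250 D21359 D44839 D96093
def n96094 : Q := act 1 n44839
theorem D96094 : act 1 n44839 = n96094 := rfl
theorem F147718 : act 4 n92967 = n96094 := d20_0 (iv1 D96094) (iv4 F147660) (iv3 D96050) F70392 F68304 F68302 (iv1 D20576) (iv4 F32660) (iv3 F68352) D92967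
theorem F147719 : act 3 n90753 = n92967 := d20_5 F63641 F35611 (iv4 F31884) (iv3 F65633) D90753 F147718 (iv1 D96094) (iv4 F147660) (iv3 D96050) F70392
def n96095 : Q := act 2 n44839
theorem D96095 : act 2 n44839 = n96095 := rfl
def n96096 : Q := act 5 n44839
theorem D96096 : act 5 n44839 = n96096 := rfl
theorem F147720 : act 3 n96096 = n44840 := d6_1 D96096 (iv5 D44840) D44839
def n96097 : Q := act 6 n44839
theorem D96097 : act 6 n44839 = n96097 := rfl
theorem F147721 : act 3 n96097 = n44841 := d7_1 D96097 (iv6 D44841) D44839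
theorem F147722 : act 4 n96097 = n90667 := d10_1 D96097 (iv6 F147662) F147660
def n96098 : Q := act 6 n44840
theorem D96098 : act 6 n44840 = n96098 := rfl
theorem F147724 : act 4 n96098 = n96038 := d10_1 D96098 (iv6 D96038) (iv4 F70430)
def n96100 : Q := act 1 n44842
theorem D96100 : act 1 n44842 = n96100 := rfl
theorem F147731 : act 4 n96100 = n87849 := d18_7 F134871 (iv4 F70414) (iv1 D44833) F33549 D21364 D44842 D96100 F134834 D87870
def n96101 : Q := act 5 n44842
theorem D96101 : act 5 n44842 = n96101 := rfl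
theorem F147733 : act 2 n96101 = n48122 := d2_1 D96101 (iv5 D48122) (iv2 F70433)
theorem F147734 : act 7 n96101 = n48116 := d13_2 (iv7 F70434) D96101 (iv5 D48116)
def n96102 : Q := act 0 n44843
theorem D96102 : act 0 n44843 = n96102 := rfl
theorem F147735 : act 1 n46283 = n96102 := d15_0 (iv0 D96102) F70437 (iv2 F72944)
def n96103 : Q := act 1 n44843
theorem D96103 : act 1 n44843 = n96103 := rfl
def n96104 : Q := act 2 n44843
theorem D96104 : act 2 n44843 = n96104 := rfl
theorem F147736 : act 3 n96104 = n46270 := d0_2 D44843 D96104 (iv2 F72930) F66229 (iv2 F66227)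
theorem F147737 : act 4 n96104 = n44852 := d1_2 (iv4 F70436) D96104 (iv2 D44852)
theorem F147738 : act 7 n96104 = n46283 := d4_2 (iv7 F70437) D96104 F72944
theorem F147739 : act 1 n96104 = n87407 := d15_0 (iv0 D87407) (iv7 F70437) D96104
theorem F147740 : act 1 n96103 = n46283 := d15_1 D96103 (iv7 F147738) (iv2 D96104)
theorem F147741 : act 1 n87408 = n96104 := d15_1 D87408 F147738 F72944
def n96105 : Q := act 5 n44843
theorem D96105 : act 5 n44843 = n96105 := rfl
theorem F147742 : act 3 n96105 = n44844 := d6_1 D96105 (iv5 D44844) D44843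
theorem F147743 : act 7 n96105 = n87409 := d13_2 (iv7 F70437) D96105 (iv5 D87409)
def n96106 : Q := act 6 n44843
theorem D96106 : act 6 n44843 = n96106 := rfl
theorem F147744 : act 3 n96106 = n44845 := d7_1 D96106 (iv6 D44845) D44843
theorem F147745 : act 4 n96106 = n44854 := d10_1 D96106 (iv6 D44854) (iv4 F70436)
def n96107 : Q := act 4 n44844
theorem D96107 : act 4 n44844 = n96107 := rfl
theorem F147746 : act 2 n96107 = n87415 := d1_1 D96107 (iv4 D87415) (iv2 F70438)
theorem F147747 : act 7 n96107 = n87412 := d11_2 (iv7 F70439) D96107 (iv4 D87412)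
theorem F147748 : act 0 n96107 = n94110 := d17_0 F145045 F144947 (iv5 F134178) (iv4 D87423) (iv5 F72357) F72359 (iv5 F135333) F135335 D96107
theorem F147749 : act 1 n96107 = n88244 := d18_6 (iv1 F66209) F65808 F65814 D21370 D44844 D96107 (iv4 D88244) (iv0 F66322) (iv5 D40650)
def n96108 : Q := act 6 n44844
theorem D96108 : act 6 n44844 = n96108 := rfl
theorem F147750 : act 2 n96108 = n87416 := d3_1 D96108 (iv6 D87416) (iv2 F70438)
def n96109 : Q := act 6 n44847
theorem D96109 : act 6 n44847 = n96109 := rfl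
theorem F147753 : act 4 n96109 = n91363 := d10_1 D96109 F140490 F72337
theorem F147754 : act 7 n96109 = n88622 := d14_2 (iv7 F72332) D96109 (iv6 D88622) F63771 D41782
theorem F147755 : act 0 n96109 = n46144 := d21_4 D21466 D44955 (iv5 F72331) D96109 (iv6 D46144) D46143 F72760 (iv5 F71786) (iv6 D44954) (iv1 D21465)
theorem F147756 : act 5 n96109 = n47885 := d21_6 (iv5 F35404) (iv1 F65766) (iv5 D21371) D21372 D44847 D96109 (iv1 F75174) (iv5 D46637) F34890 (iv1 F65975)
theorem F147757 : act 0 n46662 = n96109 := d21_4 F17310 D22828 (iv5 F64438) (iv6 F73747) (iv6 D96109) F72331 (iv1 F135855) F135852 F68877 (iv1 F63110)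
def n96110 : Q := act 5 n44851
theorem D96110 : act 5 n44851 = n96110 := rfl
theorem F147759 : act 7 n96110 = n89105 := d13_2 (iv7 F70452) D96110 (iv5 D89105)
def n96111 : Q := act 5 n44852
theorem D96111 : act 5 n44852 = n96111 := rfl
theorem F147760 : act 2 n96111 = n44853 := d2_1 D96111 (iv5 D44853) D44852
def n96112 : Q := act 6 n44852
theorem D96112 : act 6 n44852 = n96112 := rfl
theorem F147761 : act 2 n96112 = n44854 := d3_1 D96112 (iv6 D44854) D44852
def n96113 : Q := act 0 n44853
theorem D96113 : act 0 n44853 = n96113 := rfl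
def n96114 : Q := act 1 n44853
theorem D96114 : act 1 n44853 = n96114 := rfl
def n96115 : Q := act 4 n44853
theorem D96115 : act 4 n44853 = n96115 := rfl
def n96116 : Q := act 6 n44853
theorem D96116 : act 6 n44853 = n96116 := rfl
theorem F147762 : act 3 n96116 = n44856 := d7_1 D96116 (iv6 D44856) (iv3 F70454)
def n96117 : Q := act 0 n44854
theorem D96117 : act 0 n44854 = n96117 := rfl
def n96118 : Q := act 5 n44854
theorem D96118 : act 5 n44854 = n96118 := rfl
theorem F147763 : act 3 n96118 = n44859 := d6_1 D96118 (iv5 D44859) (iv3 F70455)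
def n96119 : Q := act 3 n44855
theorem D96119 : act 3 n44855 = n96119 := rfl
theorem F147765 : act 5 n96119 = n96037 := d6_2 (iv5 F70456) D96119 (iv3 D96037)
def n96120 : Q := act 6 n44855
theorem D96120 : act 6 n44855 = n96120 := rfl
theorem F147766 : act 4 n96120 = n44856 := d10_1 D96120 (iv6 D44856) D44855
def n96121 : Q := act 0 n44856
theorem D96121 : act 0 n44856 = n96121 := rfl
def n96122 : Q := act 1 n44856
theorem D96122 : act 1 n44856 = n96122 := rfl
def n96123 : Q := act 5 n44856
theorem D96123 : act 5 n44856 = n96123 := rfl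
theorem F147767 : act 6 n96123 = n44859 := d12_2 D44856 D96123 (iv5 D44859) (iv6 D21375) D21374
def n96124 : Q := act 7 n44856
theorem D96124 : act 7 n44856 = n96124 := rfl
def n96125 : Q := act 3 n44857
theorem D96125 : act 3 n44857 = n96125 := rfl
theorem F147768 : act 4 n96125 = n89372 := d5_2 F144884 D96125 F137042 F74590 D94039
theorem F147769 : act 7 n96125 = n89364 := d8_2 F71542 D96125 F137036
theorem F147770 : act 0 n96125 = n89927 := d20_4 (iv4 F127100) F144885 F144884 D96125 (iv3 D89927) (iv4 D42019) (iv1 D19809) D19810 F31582 D41975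
theorem F147771 : act 1 n95654 = n89927 := d15_0 (iv0 F147770) F147769 (iv2 F147351)
def n96126 : Q := act 4 n44859
theorem D96126 : act 4 n44859 = n96126 := rfl
theorem F147772 : act 0 n96126 = n48454 := d18_2 (iv1 F70457) D96126 (iv4 D48454) (iv5 D23617) F17933 (iv0 F66711) (iv4 F33788) F33792 D44535
theorem F147773 : act 1 n96126 = n95373 := d18_6 (iv1 D89828) F64734 F63297 (iv4 F33568) D44859 D96126 (iv4 D95373) F76208 (iv5 F137872)
def n96127 : Q := act 0 n44860
theorem D96127 : act 0 n44860 = n96127 := rfl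
def n96128 : Q := act 1 n44860
theorem D96128 : act 1 n44860 = n96128 := rfl
theorem F147774 : act 3 n48091 = n96128 := d20_3 F75860 (iv1 F75858) F75562 (iv1 D96128) (iv3 D44860) (iv4 D21376) (iv1 F63251) (iv4 F17936) (iv3 F36751) (iv1 F71722)
theorem F147775 : act 7 n96128 = n95356 := d8_2 (iv7 F75559) F147774 F146989
theorem F147776 : act 2 n95356 = n96127 := d15_3 (iv0 D96127) D96128 F147775
theorem F147777 : act 6 n96127 = n48436 := d3_2 D95356 F147776 (iv2 F76168)
def n96129 : Q := act 2 n44860
theorem D96129 : act 2 n44860 = n96129 := rfl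
theorem F147778 : act 6 n96129 = n95450 := d3_2 F75049 D96129 (iv2 F147088)
def n96130 : Q := act 5 n44860
theorem D96130 : act 5 n44860 = n96130 := rfl
theorem F147779 : act 3 n96130 = n44861 := d6_1 D96130 (iv5 D44861) D44860
theorem F147780 : act 0 n96130 = n95643 := d21_7 D45363 (iv1 F71516) F70196 D44920 F75051 F75049 D96130 (iv5 D95643) (iv6 D44673) (iv1 F34059)
theorem F147781 : act 1 n96130 = n96110 := d15_1 (iv0 F147780) F147759 (iv2 F147337)
def n96131 : Q := act 6 n44861
theorem D96131 : act 6 n44861 = n96131 := rfl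
theorem F147782 : act 4 n96131 = n96040 := d10_1 D96131 (iv6 D96040) (iv4 F70460)
def n96134 : Q := act 0 n44863
theorem D96134 : act 0 n44863 = n96134 := rfl
theorem F147783 : act 3 n96134 = n88899 := d20_5 F66240 (iv1 F30779) (iv4 F66232) D44863 D96134 (iv4 F145033) (iv1 D45802) F34392 F16697 D10494
theorem F147784 : act 1 n82486 = n96134 := d15_0 (iv0 D96134) F70463 (iv2 F127120)
def n96135 : Q := act 1 n44863
theorem D96135 : act 1 n44863 = n96135 := rfl
theorem F147785 : act 4 n95503 = n96135 := d20_6 (iv4 D21243) (iv1 D10148) (iv4 F15987) (iv3 F33458) D44614 D95503 (iv1 D96135) F71792 (iv3 F71791) (iv1 F70172)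
theorem F147786 : act 0 n82486 = n96135 := d20_1 (iv4 F127122) (iv4 F147785) (iv3 D95503) (iv1 F70981) F70976 F33862 (iv1 F16288) D10361 D21732 (iv1 F71795)
def n96136 : Q := act 2 n44863
theorem D96136 : act 2 n44863 = n96136 := rfl
theorem F147787 : act 3 n96136 = n89159 := d0_2 D44863 D96136 F136858 F64281 (iv2 F66231)
theorem F147788 : act 6 n96136 = n89101 := d3_2 (iv6 F70462) D96136 F136813
theorem F147789 : act 7 n96136 = n82486 := d4_2 (iv7 F70463) D96136 F127120
theorem F147790 : act 1 n96136 = n82487 := d15_0 (iv0 D82487) (iv7 F70463) D96136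
theorem F147791 : act 1 n82488 = n96136 := d15_1 D82488 F147789 F127120
def n96137 : Q := act 5 n44863
theorem D96137 : act 5 n44863 = n96137 := rfl
theorem F147793 : act 7 n96137 = n82489 := d13_2 (iv7 F70463) D96137 (iv5 D82489)
def n96138 : Q := act 6 n44864
theorem D96138 : act 6 n44864 = n96138 := rfl
theorem F147794 : act 2 n96138 = n89197 := d3_1 D96138 (iv6 D89197) (iv2 F70464)
def n96139 : Q := act 3 n44865
theorem D96139 : act 3 n44865 = n96139 := rfl
theorem F147796 : act 5 n96139 = n46604 := d6_2 (iv5 F70468) D96139 F73605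
def n96140 : Q := act 4 n44865
theorem D96140 : act 4 n44865 = n96140 := rfl
theorem F147797 : act 2 n96140 = n47427 := d1_1 D96140 (iv4 D47427) F70470
theorem F147798 : act 5 n96140 = n47427 := d16_1 D96140 (iv4 D47427) (iv5 D22782) (iv4 F35343) (iv5 F62398) F62397 (iv5 F70473) F70472 F70470
theorem F147799 : act 0 n96140 = n46091 := d17_0 (iv5 F72667) (iv1 F136895) (iv5 D89195) (iv4 D41673) (iv5 D19618) (iv0 F66225) D41622 F70469 D96140
theorem F147800 : act 1 n96140 = n46084 := d18_6 (iv1 F64197) (iv4 F65838) D43953 F69100 (iv5 F70468) D96140 (iv4 D46084) D46083 F72650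
def n96141 : Q := act 6 n44865
theorem D96141 : act 6 n44865 = n96141 := rfl
theorem F147802 : act 5 n96141 = n46606 := d12_1 D96141 (iv6 D46606) (iv5 D22328) D22329 (iv5 F70468)
def n96142 : Q := act 3 n44866
theorem D96142 : act 3 n44866 = n96142 := rfl
theorem F147803 : act 5 n96142 = n47420 := d6_2 (iv5 F70473) D96142 F74625
theorem F147804 : act 7 n96142 = n47419 := d8_2 (iv7 F70472) D96142 F74624
def n96143 : Q := act 4 n44866
theorem D96143 : act 4 n44866 = n96143 := rfl
theorem F147805 : act 7 n96143 = n47427 := d11_2 (iv7 F70472) D96143 (iv4 D47427)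
theorem F147806 : act 0 n96143 = n46084 := d17_0 (iv5 F72675) F72676 D89195 F136892 (iv5 D44864) (iv0 D21392) D21394 D44866 D96143
theorem F147807 : act 1 n96143 = n46091 := d18_6 D22887 (iv4 F66270) F62401 F62397 (iv5 F70473) D96143 (iv4 D46091) F65852 (iv5 D22889)
def n96144 : Q := act 6 n44866
theorem D96144 : act 6 n44866 = n96144 := rfl
theorem F147808 : act 2 n96144 = n89431 := d3_1 D96144 F137103 (iv2 F70508)
theorem F147809 : act 5 n96144 = n88866 := d12_1 D96144 (iv6 D88866) F63937 (iv6 F62395) (iv5 F70473)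
def n96145 : Q := act 0 n44867
theorem D96145 : act 0 n44867 = n96145 := rfl
theorem F147810 : act 5 n96145 = n47600 := d17_1 D96145 F74851 F72712 (iv4 F72711) (iv5 D46121) F66257 (iv5 F70468) (iv0 D44865) D44867
theorem F147811 : act 4 n96145 = n46636 := d18_1 D96145 F73677 D89066 (iv5 F136763) (iv4 D89069) (iv0 D41602) D41604 D89075 F136781
theorem F147812 : act 1 n89082 = n96145 := d15_0 (iv0 D96145) (iv7 F70512) (iv2 F136793)
theorem F147813 : act 2 n47600 = n96145 := d1_3 F147811 F73675 D47600
def n96146 : Q := act 1 n44867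
theorem D96146 : act 1 n44867 = n96146 := rfl
theorem F147814 : act 1 n96146 = n89082 := d15_1 D96146 F136795 F72696
theorem F147815 : act 7 n96146 = n47600 := d15_2 (iv0 D96145) D96146 F147813
theorem F147816 : act 4 n96146 = n47601 := d17_9 (iv1 F74855) (iv5 D41595) (iv1 F31368) (iv5 F34504) (iv4 F72688) F72689 D89075 F136781 D96146
def n96147 : Q := act 3 n44867
theorem D96147 : act 3 n44867 = n96147 := rfl
def n96148 : Q := act 6 n44867
theorem D96148 : act 6 n44867 = n96148 := rfl
theorem F147818 : act 4 n96148 = n44868 := d10_1 D96148 (iv6 D44868) D44867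
def n96149 : Q := act 0 n44868
theorem D96149 : act 0 n44868 = n96149 := rfl
def n96150 : Q := act 1 n44868
theorem D96150 : act 1 n44868 = n96150 := rfl
def n96151 : Q := act 5 n44868
theorem D96151 : act 5 n44868 = n96151 := rfl
theorem F147819 : act 2 n96151 = n47118 := d2_1 D96151 F74354 F72698
theorem F147821 : act 6 n96151 = n44871 := d12_2 D44868 D96151 (iv5 D44871) (iv6 D21395) D21394
def n96152 : Q := act 7 n44868
theorem D96152 : act 7 n44868 = n96152 := rfl
def n96153 : Q := act 3 n44869
theorem D96153 : act 3 n44869 = n96153 := rfl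
theorem F147823 : act 6 n96153 = n88597 := d7_2 (iv6 F73007) D96153 (iv3 D88597)
def n96154 : Q := act 3 n44870
theorem D96154 : act 3 n44870 = n96154 := rfl
theorem F147824 : act 7 n96154 = n89472 := d8_2 (iv7 F73004) D96154 F137141
def n96155 : Q := act 4 n44871
theorem D96155 : act 4 n44871 = n96155 := rfl
theorem F147825 : act 2 n96155 = n46920 := d1_1 D96155 F74131 (iv2 F70475)
theorem F147826 : act 7 n96155 = n46919 := d11_2 (iv7 F70483) D96155 F74130
theorem F147827 : act 0 n96155 = n46472 := d18_2 (iv1 F70477) D96155 (iv4 D46472) (iv5 D22265) F17139 F62708 D10946 F62576 (iv5 F35228)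
theorem F147828 : act 1 n96155 = n46923 := d18_6 (iv1 F73384) (iv4 D44878) (iv1 D21401) (iv4 F33588) D44871 D96155 F74132 F73390 F73393
def n96156 : Q := act 3 n44873
theorem D96156 : act 3 n44873 = n96156 := rfl
theorem F147829 : act 6 n96156 = n47379 := d7_2 F70489 D96156 F74569
theorem F147830 : act 7 n96156 = n46604 := d8_2 (iv7 F70488) D96156 F73605
def n96157 : Q := act 3 n44876
theorem D96157 : act 3 n44876 = n96157 := rfl
theorem F147832 : act 6 n96157 = n88605 := d7_2 (iv6 F70499) D96157 (iv3 D88605)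
theorem F147833 : act 7 n96157 = n89546 := d8_2 (iv7 F70500) D96157 F137269
def n96158 : Q := act 3 n44878
theorem D96158 : act 3 n44878 = n96158 := rfl
theorem F147834 : act 6 n96158 = n88883 := d7_2 (iv6 F70506) D96158 (iv3 D88883)
theorem F147835 : act 7 n96158 = n89612 := d8_2 (iv7 F70507) D96158 F137394
def n96159 : Q := act 3 n44879
theorem D96159 : act 3 n44879 = n96159 := rfl
theorem F147836 : act 5 n96159 = n96156 := d6_2 (iv5 F70511) D96159 (iv3 D96156)
theorem F147837 : act 7 n96159 = n96139 := d8_2 (iv7 F70510) D96159 (iv3 D96139)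
def n96160 : Q := act 4 n44879
theorem D96160 : act 4 n44879 = n96160 := rfl
theorem F147838 : act 2 n96160 = n96143 := d1_1 D96160 (iv4 D96143) F70508
theorem F147839 : act 5 n96160 = n96143 := d9_2 (iv5 F70511) D96160 (iv4 D96143) F70473 (iv4 F62397) F62398 F35343 D22782 D47427 (iv5 F147798) (iv4 D96140) F70468 (iv4 F69100) (iv5 F74580) F74579
theorem F147840 : act 7 n96160 = n96140 := d11_2 (iv7 F70510) D96160 (iv4 D96140)
theorem F147841 : act 0 n96160 = n89059 := d17_0 (iv5 F136769) F136771 (iv5 F136900) F136899 F64294 (iv0 F66218) D22038 F70509 D96160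
theorem F147842 : act 1 n96160 = n89066 := d18_6 (iv1 F72665) F72664 F74583 F74579 (iv5 F70511) D96160 (iv4 D89066) (iv0 F73677) (iv5 D46636)
def n96161 : Q := act 0 n44880
theorem D96161 : act 0 n44880 = n96161 := rfl
theorem F147843 : act 5 n96161 = n96146 := d17_1 D96161 (iv1 D96146) (iv5 F136781) F136780 (iv5 F66130) F70487 (iv5 F70511) (iv0 D44879) D44880
theorem F147844 : act 4 n96161 = n46083 := d18_1 D96161 (iv1 D46083) D46084 (iv5 F72675) (iv4 D46102) F64203 (iv4 F72684) F72690 (iv5 F72712)
theorem F147845 : act 2 n96146 = n96161 := d15_3 (iv0 D96161) (iv0 F74851) (iv7 F147815)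
theorem F147846 : act 1 n46115 = n96161 := d15_0 (iv0 D96161) F70512 (iv2 F72696)
theorem F147847 : act 7 n96161 = n96145 := d15_2 F74852 F147846 (iv2 F147813)
def n96162 : Q := act 3 n44880
theorem D96162 : act 3 n44880 = n96162 := rfl
theorem F147848 : act 4 n96162 = n94809 := d5_2 D44880 D96162 (iv3 D94809) (iv4 D44294) (iv3 F33629)
theorem F147849 : act 7 n96162 = n96147 := d8_2 (iv7 F70512) D96162 (iv3 D96147)
def n96163 : Q := act 6 n44880
theorem D96163 : act 6 n44880 = n96163 := rfl
theorem F147850 : act 4 n96163 = n44881 := d10_1 D96163 (iv6 D44881) D44880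
def n96164 : Q := act 0 n44881
theorem D96164 : act 0 n44881 = n96164 := rfl
def n96165 : Q := act 1 n44881
theorem D96165 : act 1 n44881 = n96165 := rfl
def n96166 : Q := act 5 n44881
theorem D96166 : act 5 n44881 = n96166 := rfl
theorem F147851 : act 3 n96166 = n94814 := d6_1 D96166 (iv5 D94814) (iv3 F70513)
theorem F147852 : act 6 n96166 = n44883 := d12_2 D44881 D96166 (iv5 D44883) (iv6 D21418) D21417
def n96167 : Q := act 7 n44881
theorem D96167 : act 7 n44881 = n96167 := rfl
theorem F147853 : act 3 n96167 = n94815 := d8_1 D96167 (iv7 D94815) (iv3 F70513)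
theorem F147854 : act 6 n96167 = n96152 := d14_1 D96167 (iv7 D96152) (iv6 D44868) (iv7 F33630) D44881
def n96168 : Q := act 4 n44883
theorem D96168 : act 4 n44883 = n96168 := rfl
def n96170 : Q := act 3 n44885
theorem D96170 : act 3 n44885 = n96170 := rfl
theorem F147859 : act 6 n96170 = n47941 := d7_2 (iv6 F70520) D96170 (iv3 D47941)
def n96171 : Q := act 5 n44885
theorem D96171 : act 5 n44885 = n96171 := rfl
theorem F147860 : act 0 n96171 = n47655 := d17_2 F75817 D96171 (iv5 D47655) F72216 (iv5 F74586) (iv0 D43954) D43956 (iv0 F69107) D48229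
def n96175 : Q := act 6 n44888
theorem D96175 : act 6 n44888 = n96175 := rfl
theorem F147865 : act 3 n96175 = n45767 := d7_1 D96175 (iv6 D45767) (iv3 F121331)
theorem F147866 : act 4 n96175 = n81557 := d10_1 D96175 (iv6 D81557) (iv4 F121332)
theorem F147867 : act 0 n96175 = n95262 := d21_10 (iv5 D95262) (iv1 F70720) F70717 F33752 (iv1 F33666) D44914 (iv5 F121424) F129578 F129576 D96175
theorem F147868 : act 0 n79106 = n96175 := d21_4 (iv5 F131271) F124048 (iv5 D79105) D79106 (iv6 D96175) (iv5 F129576) (iv1 F129579) D95447 F147079 (iv1 F131269)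
def n96178 : Q := act 5 n44896
theorem D96178 : act 5 n44896 = n96178 := rfl
theorem F147873 : act 2 n96178 = n84444 := d2_1 D96178 (iv5 D84444) F121501
theorem F147875 : act 7 n96178 = n84432 := d13_2 F121502 D96178 (iv5 D84432)
theorem F147876 : act 6 n95273 = n96178 := d21_5 (iv5 D17502) F16752 D21165 D44507 D95273 (iv5 D96178) (iv1 D44896) (iv5 F70021) (iv6 D44509) (iv1 F33411)
def n96179 : Q := act 6 n44896
theorem D96179 : act 6 n44896 = n96179 := rfl
theorem F147878 : act 3 n96179 = n83233 := d7_1 D96179 (iv6 D83233) (iv3 F121499)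
theorem F147879 : act 4 n96179 = n84351 := d10_1 D96179 (iv6 D84351) (iv4 F121500)
theorem F147880 : act 7 n96179 = n95252 := d14_2 F121502 D96179 (iv6 F146825) F129577 (iv6 D84433)
def n96180 : Q := act 4 n44900
theorem D96180 : act 4 n44900 = n96180 := rfl
theorem F147881 : act 2 n96180 = n95236 := d1_1 D96180 (iv4 D95236) (iv2 F70551)
theorem F147882 : act 6 n96180 = n44982 := d10_2 (iv6 F70553) D96180 (iv4 D44982)
theorem F147883 : act 1 n96180 = n81776 := d18_6 (iv1 F44712) D58115 F120903 F58150 D44900 D96180 (iv4 D81776) (iv0 F58308) F44731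
def n96181 : Q := act 6 n44902
theorem D96181 : act 6 n44902 = n96181 := rfl
theorem F147884 : act 2 n96181 = n84378 := d3_1 D96181 (iv6 D84378) F126884
def n96182 : Q := act 3 n44903
theorem D96182 : act 3 n44903 = n96182 := rfl
theorem F147885 : act 5 n96182 = n57693 := d6_2 (iv5 F90161) D96182 F90873
theorem F147886 : act 7 n96182 = n84376 := d8_2 (iv7 F126883) D96182 (iv3 D84376)
theorem F147887 : act 0 n84340 = n96182 := d20_4 (iv4 D46540) (iv1 F59424) (iv4 F59921) D84340 (iv3 D96182) (iv4 F126882) F126890 (iv4 F115112) (iv3 F128744) (iv1 F128745)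
def n96183 : Q := act 6 n44903
theorem D96183 : act 6 n44903 = n96183 := rfl
theorem F147888 : act 2 n96183 = n84375 := d3_1 D96183 (iv6 D84375) (iv2 F126885)
def n96184 : Q := act 5 n44904
theorem D96184 : act 5 n44904 = n96184 := rfl
theorem F147889 : act 2 n96184 = n44905 := d2_1 D96184 (iv5 D44905) D44904
theorem F147890 : act 3 n96184 = n48744 := d6_1 D96184 F76764 (iv3 F70561)
theorem F147891 : act 7 n96184 = n81690 := d13_2 (iv7 F70563) D96184 F125620
theorem F147892 : act 0 n96184 = n57480 := d17_2 (iv1 F70564) D96184 (iv5 F90652) D81655 (iv5 F127922) (iv0 F127925) (iv5 F120315) (iv0 F129484) (iv4 D84373)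
theorem F147893 : act 1 n96184 = n81652 := d17_6 D45874 F72441 (iv1 F88729) (iv5 F88732) (iv4 F70562) D96184 (iv5 D81652) (iv0 D37319) (iv4 F34447)
def n96185 : Q := act 6 n44904
theorem D96185 : act 6 n44904 = n96185 := rfl
theorem F147894 : act 2 n96185 = n44906 := d3_1 D96185 (iv6 D44906) D44904
theorem F147896 : act 4 n96185 = n83158 := d10_1 D96185 (iv6 D83158) (iv4 F70562)
theorem F147897 : act 0 n96185 = n85577 := d20_1 (iv4 F147896) (iv4 F131225) (iv3 D83005) (iv1 F127921) F127918 F59391 (iv1 F29922) D18660 D39363 (iv1 F128218)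
theorem F147898 : act 7 n96185 = n85578 := d15_2 D85577 (iv0 F147897) (iv2 D85578)
theorem F147899 : act 1 n96185 = n85576 := d15_0 (iv0 D85576) F70571 (iv2 F147894)
def n96186 : Q := act 0 n44905
theorem D96186 : act 0 n44905 = n96186 := rfl
theorem F147900 : act 3 n96186 = n54793 := d20_5 F58157 (iv1 F33701) (iv4 F33661) (iv3 F70567) D96186 (iv4 D54793) (iv1 F42430) D26537 F42491 D37194
theorem F147901 : act 1 n81690 = n96186 := d15_0 (iv0 D96186) F70568 D81690
theorem F147902 : act 5 n96186 = n45207 := d17_7 F42496 D54863 (iv1 F86807) F86809 F72363 (iv5 F125620) F147901 (iv0 D45207) F33962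
theorem F147903 : act 4 n96186 = n57476 := d17_9 (iv1 F94774) (iv5 D57107) (iv1 D27379) D27381 D57113 (iv5 F90161) F70565 (iv5 F125620) F147901
theorem F147904 : act 2 n57480 = n96186 := d1_3 F147903 F90649 D57480
theorem F147905 : act 7 n81652 = n96186 := d11_0 F147903 (iv7 F114790) (iv4 F125558)
def n96187 : Q := act 1 n44905
theorem D96187 : act 1 n44905 = n96187 := rfl
theorem F147906 : act 1 n96187 = n81690 := d15_1 D96187 (iv7 F147891) F147889
theorem F147907 : act 7 n96187 = n57480 := d15_2 (iv0 D96186) D96187 F147904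
theorem F147908 : act 5 n96187 = n45208 := d17_7 (iv1 F72452) (iv5 D35450) D35446 F56154 (iv4 F33657) D44905 D96187 F71250 (iv4 F72448)
theorem F147909 : act 4 n96187 = n57216 := d17_9 (iv1 F94772) (iv5 D57105) (iv1 F87702) (iv5 F107821) F125582 (iv5 F125583) (iv0 D44902) D44905 D96187
theorem F147910 : act 2 n81652 = n96187 := d1_3 F147909 (iv2 F114788) (iv4 F125558)
def n96188 : Q := act 4 n44905
theorem D96188 : act 4 n44905 = n96188 := rfl
theorem F147911 : act 3 n96188 = n44993 := d5_1 D96188 (iv4 D44993) F33781 (iv4 F33661) (iv3 F70567)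
def n96189 : Q := act 6 n44905
theorem D96189 : act 6 n44905 = n96189 := rfl
def n96191 : Q := act 1 n44906
theorem D96191 : act 1 n44906 = n96191 := rfl
theorem F147915 : act 1 n96191 = n85578 := d15_1 D96191 (iv7 F147898) F147894
def n96192 : Q := act 5 n44906
theorem D96192 : act 5 n44906 = n96192 := rfl
theorem F147916 : act 3 n96192 = n44908 := d6_1 D96192 (iv5 D44908) (iv3 F70569)
def n96193 : Q := act 0 n44907
theorem D96193 : act 0 n44907 = n96193 := rfl
def n96194 : Q := act 1 n44907
theorem D96194 : act 1 n44907 = n96194 := rfl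
theorem F147918 : act 1 n96194 = n81701 := d15_1 D96194 (iv7 D81701) (iv2 F70572)
def n96196 : Q := act 7 n44907
theorem D96196 : act 7 n44907 = n96196 := rfl
theorem F147921 : act 2 n96196 = n81701 := d4_1 D96196 (iv7 D81701) (iv2 F70572)
theorem F147924 : act 1 n81701 = n96193 := d15_0 (iv0 D96193) D96196 F147921
def n96197 : Q := act 0 n44908
theorem D96197 : act 0 n44908 = n96197 := rfl
theorem F147927 : act 5 n96197 = n75979 := d17_3 (iv1 F59767) D44908 D96197 (iv4 D75979) (iv5 D34724) F116630 (iv5 F17012) (iv0 F116659) D13290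
theorem F147928 : act 1 n58578 = n96197 := d15_0 (iv0 D96197) F70575 (iv2 F92544)
def n96198 : Q := act 1 n44908
theorem D96198 : act 1 n44908 = n96198 := rfl
theorem F147933 : act 5 n55600 = n96198 := d21_6 (iv5 F17730) (iv1 F29100) (iv5 D17930) D17931 (iv1 F59740) (iv6 F87943) (iv1 D96198) (iv5 D44908) (iv6 D21433) F16148
def n96200 : Q := act 5 n44915
theorem D96200 : act 5 n44915 = n96200 := rfl
theorem F147937 : act 2 n96200 = n87463 := d2_1 D96200 F134280 (iv2 F73476)
theorem F147938 : act 3 n96200 = n69924 := d6_1 D96200 F106361 F75343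
theorem F147939 : act 7 n96200 = n70053 := d13_2 F73475 D96200 F106446
theorem F147940 : act 0 n96200 = n87461 := d17_2 D44915 D96200 (iv5 D87461) F61807 D40746 F72639 F72636 F34943 (iv4 F33672)
theorem F147941 : act 1 n96200 = n44934 := d17_6 F132440 (iv5 F128824) F128826 (iv5 D46980) (iv4 F70578) D96200 F70629 D45323 (iv4 F132439)
def n96201 : Q := act 6 n44915
theorem D96201 : act 6 n44915 = n96201 := rfl
theorem F147942 : act 2 n96201 = n87851 := d3_1 D96201 (iv6 D87851) (iv2 F73476)
theorem F147943 : act 4 n96201 = n46981 := d10_1 D96201 (iv6 D46981) (iv4 F70578)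
def n96202 : Q := act 5 n44916
theorem D96202 : act 5 n44916 = n96202 := rfl
theorem F147944 : act 2 n96202 = n70053 := d2_1 D96202 F106446 F73474
theorem F147945 : act 3 n96202 = n87463 := d6_1 D96202 F134280 (iv3 F73513)
theorem F147946 : act 7 n96202 = n87463 := d13_2 (iv7 F73477) D96202 F134280
theorem F147947 : act 4 n96202 = n80740 := d16_2 F70580 D96202 (iv5 D80740) (iv4 D36867) D36868 (iv4 F74197) (iv5 D46980) (iv7 F73472) F73471
theorem F147948 : act 0 n96202 = n44934 := d17_2 F70581 D96202 F70629 F34006 D40353 (iv0 F64072) F64070 F34940 (iv4 F62123)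
theorem F147949 : act 1 n96202 = n87461 := d17_6 F127117 (iv5 F132703) (iv1 D86508) (iv5 F62333) F70580 D96202 (iv5 D87461) F71392 (iv4 F127114)
def n96203 : Q := act 6 n44916
theorem D96203 : act 6 n44916 = n96203 := rfl
theorem F147950 : act 2 n96203 = n87850 := d3_1 D96203 (iv6 D87850) F73474
theorem F147951 : act 3 n96203 = n87851 := d7_1 D96203 (iv6 D87851) (iv3 F73513)
theorem F147952 : act 4 n96203 = n88026 := d10_1 D96203 (iv6 D88026) F70580
def n96204 : Q := act 6 n44917
theorem D96204 : act 6 n44917 = n96204 := rfl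
theorem F147953 : act 2 n96204 = n44918 := d3_1 D96204 (iv6 D44918) D44917
theorem F147954 : act 3 n96204 = n44989 := d7_1 D96204 (iv6 D44989) (iv3 F70582)
theorem F147955 : act 4 n96204 = n46680 := d10_1 D96204 (iv6 D46680) (iv4 F70583)
def n96205 : Q := act 0 n44918
theorem D96205 : act 0 n44918 = n96205 := rfl
def n96206 : Q := act 1 n44918
theorem D96206 : act 1 n44918 = n96206 := rfl
def n96207 : Q := act 5 n44918
theorem D96207 : act 5 n44918 = n96207 := rfl
theorem F147956 : act 3 n96207 = n44919 := d6_1 D96207 (iv5 D44919) (iv3 F70587)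
def n96208 : Q := act 0 n44919
theorem D96208 : act 0 n44919 = n96208 := rfl
theorem F147958 : act 2 n89935 = n96208 := d15_3 (iv0 D96208) (iv0 F71753) (iv7 F138128)
theorem F147959 : act 1 n95296 = n96208 := d15_0 (iv0 D96208) (iv7 F75139) (iv2 F146940)
theorem F147960 : act 7 n96208 = n89937 := d15_2 F146942 F147959 F138133
def n96209 : Q := act 4 n44919
theorem D96209 : act 4 n44919 = n96209 := rfl
theorem F147961 : act 2 n96209 = n95295 := d1_1 D96209 (iv4 D95295) (iv2 F70589)
theorem F147962 : act 0 n96209 = n47849 := d18_2 F71753 D96209 (iv4 D47849) (iv5 F75046) F133579 (iv0 D87024) (iv4 F71548) (iv0 F71549) D45502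
theorem F147963 : act 1 n96209 = n47852 := d18_6 (iv1 F36042) (iv4 F31764) F66027 (iv4 F33675) D44919 D96209 (iv4 D47852) F75042 F75040
def n96210 : Q := act 5 n44920
theorem D96210 : act 5 n44920 = n96210 := rfl
theorem F147964 : act 2 n96210 = n95451 := d2_1 D96210 (iv5 D95451) (iv2 F70590)
theorem F147965 : act 3 n96210 = n44921 := d6_1 D96210 (iv5 D44921) (iv3 F70591)
def n96211 : Q := act 4 n44921
theorem D96211 : act 4 n44921 = n96211 := rfl
theorem F147966 : act 2 n96211 = n87865 := d1_1 D96211 (iv4 D87865) (iv2 F70593)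
theorem F147967 : act 1 n96211 = n95990 := d18_6 (iv1 F36227) (iv4 F62947) (iv1 D40971) (iv4 F33681) D44921 D96211 (iv4 D95990) (iv0 F70375) F36295
def n96212 : Q := act 0 n44923
theorem D96212 : act 0 n44923 = n96212 := rfl
def n96213 : Q := act 1 n44923
theorem D96213 : act 1 n44923 = n96213 := rfl
def n96214 : Q := act 5 n44923
theorem D96214 : act 5 n44923 = n96214 := rfl
theorem F147969 : act 2 n96214 = n95305 := d2_1 D96214 (iv5 D95305) (iv2 F70599)
theorem F147970 : act 3 n96214 = n95299 := d6_1 D96214 (iv5 D95299) (iv3 F70600)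
def n96215 : Q := act 7 n44923
theorem D96215 : act 7 n44923 = n96215 := rfl
theorem F147971 : act 2 n96215 = n95306 := d4_1 D96215 (iv7 D95306) (iv2 F70599)
theorem F147972 : act 3 n96215 = n95300 := d8_1 D96215 (iv7 D95300) (iv3 F70600)
theorem F147973 : act 4 n96215 = n92693 := d11_1 D96215 (iv7 D92693) (iv4 F70601)
theorem F147974 : act 6 n96215 = n95300 := d14_1 D96215 (iv7 D95300) (iv6 D44517) F33686 D44923
theorem F147976 : act 1 n95304 = n96215 := d15_1 D95304 (iv7 D96215) F70599
theorem F147977 : act 1 n96215 = n95303 := d15_0 (iv0 D95303) D95306 (iv2 F147971)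
def n96216 : Q := act 6 n44924
theorem D96216 : act 6 n44924 = n96216 := rfl
theorem F147978 : act 2 n96216 = n95301 := d3_1 D96216 (iv6 D95301) (iv2 F70602)
theorem F147979 : act 3 n96216 = n44925 := d7_1 D96216 (iv6 D44925) D44924
theorem F147980 : act 4 n96216 = n95301 := d10_1 D96216 (iv6 D95301) (iv4 F70603)
def n96217 : Q := act 0 n44925
theorem D96217 : act 0 n44925 = n96217 := rfl
def n96218 : Q := act 1 n44925
theorem D96218 : act 1 n44925 = n96218 := rfl
theorem F147981 : act 1 n96218 = n95300 := d15_1 D96218 (iv7 D95300) (iv2 F70605)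
def n96219 : Q := act 5 n44925
theorem D96219 : act 5 n44925 = n96219 := rfl
theorem F147982 : act 2 n96219 = n95299 := d2_1 D96219 (iv5 D95299) (iv2 F70605)
def n96220 : Q := act 7 n44925
theorem D96220 : act 7 n44925 = n96220 := rfl
theorem F147983 : act 2 n96220 = n95300 := d4_1 D96220 (iv7 D95300) (iv2 F70605)
theorem F147984 : act 4 n96220 = n92689 := d11_1 D96220 (iv7 D92689) (iv4 F70606)
theorem F147985 : act 6 n96220 = n95306 := d14_1 D96220 (iv7 D95306) (iv6 D44520) (iv7 F33687) D44925
theorem F147986 : act 1 n95300 = n96217 := d15_0 (iv0 D96217) D96220 F147983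
def n96221 : Q := act 6 n44926
theorem D96221 : act 6 n44926 = n96221 := rfl
theorem F147989 : act 2 n96221 = n44930 := d3_1 D96221 (iv6 D44930) (iv2 F70607)
theorem F147990 : act 3 n96221 = n95453 := d7_1 D96221 (iv6 D95453) (iv3 F70608)
theorem F147991 : act 4 n96221 = n79097 := d10_1 D96221 (iv6 D79097) (iv4 F70609)
def n96222 : Q := act 5 n44927
theorem D96222 : act 5 n44927 = n96222 := rfl
theorem F147992 : act 2 n96222 = n44933 := d2_1 D96222 (iv5 D44933) (iv2 F70613)
theorem F147993 : act 3 n96222 = n95454 := d6_1 D96222 (iv5 D95454) (iv3 F70614)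
def n96223 : Q := act 6 n44928
theorem D96223 : act 6 n44928 = n96223 := rfl
theorem F147994 : act 2 n96223 = n78981 := d3_1 D96223 (iv6 D78981) F70620
theorem F147995 : act 3 n96223 = n76318 := d7_1 D96223 (iv6 D76318) (iv3 F70618)
theorem F147996 : act 4 n96223 = n52631 := d10_1 D96223 (iv6 D52631) (iv4 F70617)
def n96224 : Q := act 3 n44929
theorem D96224 : act 3 n44929 = n96224 := rfl
theorem F147997 : act 2 n96224 = n69031 := d0_1 D96224 F105247 F70620 F70618 F70626
theorem F147998 : act 4 n96224 = n69022 := d5_2 (iv4 F70625) D96224 F105232 (iv4 F83129) F83127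
theorem F147999 : act 5 n96224 = n45329 := d6_2 (iv5 F70624) D96224 (iv3 D45329)
theorem F148000 : act 7 n96224 = n69031 := d8_2 (iv7 F70623) D96224 F105247
theorem F148001 : act 0 n96224 = n69924 := d20_10 (iv4 D69924) F51557 (iv4 F41403) F33852 F16276 D21318 (iv4 F42488) F42489 (iv4 F70625) D96224
theorem F148002 : act 1 n96224 = n69924 := d15_1 (iv0 F148001) F106360 (iv2 F106359)
def n96225 : Q := act 6 n44929
theorem D96225 : act 6 n44929 = n96225 := rfl
theorem F148003 : act 2 n96225 = n76318 := d3_1 D96225 (iv6 D76318) F70626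
theorem F148004 : act 4 n96225 = n52705 := d10_1 D96225 (iv6 D52705) (iv4 F70625)
def n96226 : Q := act 0 n44930
theorem D96226 : act 0 n44930 = n96226 := rfl
def n96227 : Q := act 1 n44930
theorem D96227 : act 1 n44930 = n96227 := rfl
def n96228 : Q := act 5 n44930
theorem D96228 : act 5 n44930 = n96228 := rfl
theorem F148005 : act 3 n96228 = n44941 := d6_1 D96228 (iv5 D44941) (iv3 F70627)
theorem F148006 : act 6 n96228 = n44933 := d12_2 D44930 D96228 (iv5 D44933) (iv6 D21445) D21444
def n96229 : Q := act 7 n44930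
theorem D96229 : act 7 n44930 = n96229 := rfl
theorem F148007 : act 3 n96229 = n44942 := d8_1 D96229 (iv7 D44942) (iv3 F70627)
theorem F148008 : act 6 n96229 = n95314 := d14_1 D96229 (iv7 D95314) (iv6 D44523) (iv7 F33697) D44930
def n96230 : Q := act 2 n44931
theorem D96230 : act 2 n44931 = n96230 := rfl
theorem F148009 : act 7 n44932 = n96230 := d15_2 (iv0 D44931) D44932 (iv2 D96230)
def n96231 : Q := act 5 n44931
theorem D96231 : act 5 n44931 = n96231 := rfl
theorem F148010 : act 3 n96231 = n95316 := d6_1 D96231 (iv5 D95316) (iv3 F135439)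
def n96232 : Q := act 6 n44931
theorem D96232 : act 6 n44931 = n96232 := rfl
theorem F148011 : act 3 n96232 = n95317 := d7_1 D96232 (iv6 D95317) (iv3 F135439)
def n96233 : Q := act 7 n44931
theorem D96233 : act 7 n44931 = n96233 := rfl
theorem F148012 : act 2 n96233 = n44932 := d4_1 D96233 F148009 (iv2 D96230)
theorem F148013 : act 3 n96233 = n95318 := d8_1 D96233 (iv7 D95318) (iv3 F135439)
def n96234 : Q := act 3 n44932
theorem D96234 : act 3 n44932 = n96234 := rfl
theorem F148014 : act 2 n96234 = n95319 := d0_1 D96234 (iv3 D95319) (iv2 F146961) (iv3 F148013) F148012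
theorem F148015 : act 4 n96234 = n95319 := d5_2 F139161 D96234 (iv3 D95319) (iv4 F135436) (iv3 F139160)
def n96235 : Q := act 5 n44932
theorem D96235 : act 5 n44932 = n96235 := rfl
def n96236 : Q := act 6 n44932
theorem D96236 : act 6 n44932 = n96236 := rfl
def n96237 : Q := act 0 n44933
theorem D96237 : act 0 n44933 = n96237 := rfl
def n96238 : Q := act 1 n44933
theorem D96238 : act 1 n44933 = n96238 := rfl
def n96239 : Q := act 4 n44933
theorem D96239 : act 4 n44933 = n96239 := rfl
def n96240 : Q := act 2 n44934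
theorem D96240 : act 2 n44934 = n96240 := rfl
theorem F148016 : act 3 n96240 = n44992 := d0_2 D44934 D96240 (iv2 F70752) (iv3 D44528) F33702
theorem F148017 : act 5 n96240 = n45324 := d2_2 (iv5 F70629) D96240 (iv2 D45324)
theorem F148018 : act 7 n96240 = n87461 := d4_2 (iv7 F70630) D96240 F134275
theorem F148019 : act 1 n96240 = n70053 := d15_0 (iv0 F106447) (iv7 F70630) D96240
theorem F148020 : act 1 n87463 = n96240 := d15_0 F148019 (iv7 F147939) F147937
def n96241 : Q := act 6 n44934
theorem D96241 : act 6 n44934 = n96241 := rfl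
theorem F148021 : act 3 n96241 = n44935 := d7_1 D96241 (iv6 D44935) D44934
def n96242 : Q := act 0 n44935
theorem D96242 : act 0 n44935 = n96242 := rfl
def n96243 : Q := act 1 n44935
theorem D96243 : act 1 n44935 = n96243 := rfl
theorem F148022 : act 1 n96243 = n95331 := d15_1 D96243 (iv7 D95331) (iv2 F70631)
def n96244 : Q := act 5 n44935
theorem D96244 : act 5 n44935 = n96244 := rfl
theorem F148023 : act 2 n96244 = n95330 := d2_1 D96244 (iv5 D95330) (iv2 F70631)
theorem F148024 : act 6 n96244 = n45326 := d12_2 D44935 D96244 (iv5 D45326) (iv6 D21609) (iv5 F33700)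
def n96245 : Q := act 7 n44935
theorem D96245 : act 7 n44935 = n96245 := rfl
theorem F148025 : act 2 n96245 = n95331 := d4_1 D96245 (iv7 D95331) (iv2 F70631)
theorem F148026 : act 6 n96245 = n87474 := d14_1 D96245 (iv7 D87474) (iv6 D40696) F33703 D44935
theorem F148027 : act 1 n95331 = n96242 := d15_0 (iv0 D96242) D96245 F148025
theorem F148028 : act 1 n95329 = n96245 := d15_1 D95329 (iv7 D96245) F70631
theorem F148029 : act 1 n96245 = n95328 := d15_0 (iv0 D95328) D95331 (iv2 F148025)
def n96246 : Q := act 0 n44936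
theorem D96246 : act 0 n44936 = n96246 := rfl
def n96247 : Q := act 1 n44936
theorem D96247 : act 1 n44936 = n96247 := rfl
theorem F148030 : act 1 n96247 = n87474 := d15_1 D96247 (iv7 D87474) (iv2 F70632)
def n96248 : Q := act 5 n44936
theorem D96248 : act 5 n44936 = n96248 := rfl
theorem F148031 : act 2 n96248 = n87473 := d2_1 D96248 (iv5 D87473) (iv2 F70632)
theorem F148032 : act 6 n96248 = n45327 := d12_2 D44936 D96248 (iv5 D45327) (iv6 D21610) (iv5 F33706)
def n96249 : Q := act 7 n44936
theorem D96249 : act 7 n44936 = n96249 := rfl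
theorem F148033 : act 2 n96249 = n87474 := d4_1 D96249 (iv7 D87474) (iv2 F70632)
theorem F148034 : act 6 n96249 = n95331 := d14_1 D96249 (iv7 D95331) (iv6 D44529) (iv7 F33705) D44936
theorem F148035 : act 1 n87474 = n96246 := d15_0 (iv0 D96246) D96249 F148033
theorem F148037 : act 1 n96249 = n87471 := d15_0 (iv0 D87471) D87474 (iv2 F148033)
def n96250 : Q := act 1 n44937
theorem D96250 : act 1 n44937 = n96250 := rfl
theorem F148038 : act 1 n96250 = n48744 := d15_1 D96250 (iv7 F86650) F86648
theorem F148039 : act 7 n96250 = n76587 := d15_2 F108416 D96250 F114846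
theorem F148040 : act 5 n96250 = n45215 := d17_7 (iv1 F57753) F56767 (iv1 F51933) F51937 F43350 (iv5 F70634) D96250 F71273 F58267
theorem F148041 : act 4 n96250 = n55990 := d17_9 F88613 (iv5 D34824) F27645 D33219 D71885 F108376 (iv0 D44960) (iv5 F70634) D96250
theorem F148042 : act 2 n78897 = n96250 := d1_3 F148041 F88610 D78897
theorem F148043 : act 3 n70307 = n96250 := d20_5 (iv4 D32627) (iv1 D15448) D15449 D32629 D70307 F148041 F88613 (iv4 F55770) (iv3 D35099) (iv1 F51687)
theorem F148044 : act 5 n70546 = n70307 := d6_0 F148043 F148040 (iv3 F108063)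
def n96251 : Q := act 6 n44937
theorem D96251 : act 6 n44937 = n96251 := rfl
theorem F148045 : act 3 n96251 = n44938 := d7_1 D96251 (iv6 D44938) D44937
theorem F148046 : act 4 n96251 = n48739 := d10_1 D96251 (iv6 D48739) (iv4 F70633)
def n96252 : Q := act 0 n44938
theorem D96252 : act 0 n44938 = n96252 := rfl
def n96253 : Q := act 1 n44938
theorem D96253 : act 1 n44938 = n96253 := rfl
def n96254 : Q := act 5 n44938
theorem D96254 : act 5 n44938 = n96254 := rfl
def n96255 : Q := act 7 n44938
theorem D96255 : act 7 n44938 = n96255 := rfl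
theorem F148051 : act 4 n96255 = n44942 := d11_1 D96255 (iv7 D44942) (iv4 F70637)
def n96256 : Q := act 2 n44939
theorem D96256 : act 2 n44939 = n96256 := rfl
theorem F148056 : act 7 n44940 = n96256 := d15_2 (iv0 D44939) D44940 (iv2 D96256)
def n96257 : Q := act 3 n44939
theorem D96257 : act 3 n44939 = n96257 := rfl
def n96258 : Q := act 4 n44939
theorem D96258 : act 4 n44939 = n96258 := rfl
def n96259 : Q := act 5 n44939
theorem D96259 : act 5 n44939 = n96259 := rfl
def n96260 : Q := act 6 n44939
theorem D96260 : act 6 n44939 = n96260 := rfl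
theorem F148057 : act 5 n96260 = n95669 := d21_6 F33486 (iv1 D10219) D10221 D21449 D44939 D96260 (iv1 D95669) (iv5 D44684) (iv6 D21278) (iv1 F33484)
def n96261 : Q := act 7 n44939
theorem D96261 : act 7 n44939 = n96261 := rfl
theorem F148058 : act 2 n96261 = n44940 := d4_1 D96261 F148056 (iv2 D96256)
def n96262 : Q := act 3 n44940
theorem D96262 : act 3 n44940 = n96262 := rfl
def n96263 : Q := act 4 n44940
theorem D96263 : act 4 n44940 = n96263 := rfl
def n96264 : Q := act 5 n44940
theorem D96264 : act 5 n44940 = n96264 := rfl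
def n96265 : Q := act 6 n44940
theorem D96265 : act 6 n44940 = n96265 := rfl
def n96266 : Q := act 0 n44941
theorem D96266 : act 0 n44941 = n96266 := rfl
def n96267 : Q := act 1 n44941
theorem D96267 : act 1 n44941 = n96267 := rfl
theorem F148059 : act 1 n96267 = n95480 := d15_1 D96267 (iv7 D95480) (iv2 F70639)
def n96268 : Q := act 4 n44941
theorem D96268 : act 4 n44941 = n96268 := rfl
theorem F148060 : act 2 n96268 = n95479 := d1_1 D96268 (iv4 D95479) (iv2 F70639)
theorem F148061 : act 6 n96268 = n44949 := d10_2 (iv6 F70640) D96268 (iv4 D44949)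
def n96269 : Q := act 7 n44941
theorem D96269 : act 7 n44941 = n96269 := rfl
theorem F148062 : act 2 n96269 = n95480 := d4_1 D96269 (iv7 D95480) (iv2 F70639)
theorem F148063 : act 5 n96269 = n44942 := d13_1 D96269 (iv7 D44942) D44941
theorem F148064 : act 1 n95480 = n96266 := d15_0 (iv0 D96266) D96269 F148062
theorem F148065 : act 1 n95478 = n96269 := d15_1 D95478 (iv7 D96269) F70639
theorem F148066 : act 1 n96269 = n95477 := d15_0 (iv0 D95477) D95480 (iv2 F148062)
def n96270 : Q := act 0 n44943
theorem D96270 : act 0 n44943 = n96270 := rfl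
theorem F148067 : act 1 n88344 = n96270 := d15_0 (iv0 D96270) F70647 D88344
def n96271 : Q := act 1 n44943
theorem D96271 : act 1 n44943 = n96271 := rfl
theorem F148068 : act 4 n88222 = n96271 := d20_6 (iv4 F63106) (iv1 F63110) F17181 D19362 D41173 D88222 (iv1 D96271) F70646 (iv3 D40862) D40861
theorem F148069 : act 0 n88344 = n96271 := d20_7 F74676 (iv1 F73666) (iv4 F74869) (iv3 F74870) (iv1 F74614) (iv3 F74613) (iv4 F135287) (iv4 F148068) (iv3 D88222) (iv1 F74678)
def n96272 : Q := act 2 n44943
theorem D96272 : act 2 n44943 = n96272 := rfl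
theorem F148070 : act 3 n96272 = n44995 := d0_2 D44943 D96272 (iv2 F70757) (iv3 F63146) F63145
theorem F148071 : act 4 n96272 = n87719 := d1_2 (iv4 F70646) D96272 (iv2 D87719)
theorem F148072 : act 7 n96272 = n88344 := d4_2 (iv7 F70647) D96272 (iv2 D88344)
theorem F148073 : act 1 n96272 = n88342 := d15_0 (iv0 D88342) (iv7 F70647) D96272
theorem F148074 : act 1 n88343 = n96272 := d15_1 D88343 F148072 (iv2 D88344)
def n96273 : Q := act 5 n44943
theorem D96273 : act 5 n44943 = n96273 := rfl
theorem F148075 : act 3 n96273 = n44944 := d6_1 D96273 (iv5 D44944) D44943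
theorem F148076 : act 7 n96273 = n88345 := d13_2 (iv7 F70647) D96273 (iv5 D88345)
def n96274 : Q := act 4 n44944
theorem D96274 : act 4 n44944 = n96274 := rfl
theorem F148077 : act 2 n96274 = n95481 := d1_1 D96274 (iv4 D95481) (iv2 F70648)
theorem F148078 : act 7 n96274 = n88349 := d11_2 (iv7 F70649) D96274 (iv4 D88349)
theorem F148079 : act 5 n96274 = n95629 := d16_1 D96274 (iv4 D95629) F70209 F70127 (iv5 D41235) (iv4 F63179) D44946 F70654 (iv2 F70648)
theorem F148080 : act 0 n96274 = n48392 := d18_2 F137940 D96274 (iv4 D48392) (iv5 F64867) (iv4 F127430) (iv0 F127432) (iv4 F71448) (iv0 F71451) D89864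
theorem F148081 : act 1 n96274 = n48395 := d18_6 (iv1 F35641) F17654 (iv1 F35638) (iv4 F63174) D44944 D96274 (iv4 D48395) F36735 (iv5 D23610)
def n96275 : Q := act 6 n44944
theorem D96275 : act 6 n44944 = n96275 := rfl
theorem F148082 : act 2 n96275 = n95482 := d3_1 D96275 (iv6 D95482) (iv2 F70648)
def n96276 : Q := act 1 n44945
theorem D96276 : act 1 n44945 = n96276 := rfl
theorem F148083 : act 7 n96276 = n44991 := d15_2 (iv0 F70652) D96276 F70749
theorem F148084 : act 3 n95310 = n96276 := d20_3 (iv4 F135534) (iv1 F143150) (iv4 F146952) (iv1 D96276) (iv3 D44945) F63179 F35639 (iv4 F17654) (iv3 F36069) D47803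
theorem F148085 : act 2 n96276 = n44997 := d0_1 F148084 F70760 F33787 (iv3 F70046) (iv2 F146951)
theorem F148086 : act 6 n96276 = n48437 := d7_2 (iv6 F146953) F148084 F76172
theorem F148087 : act 1 n96276 = n44995 := d15_0 (iv0 D44995) D44997 (iv2 F148085)
def n96277 : Q := act 2 n44945
theorem D96277 : act 2 n44945 = n96277 := rfl
theorem F148088 : act 3 n96277 = n88344 := d0_2 D44945 D96277 (iv2 D88344) (iv3 D41237) (iv2 F63178)
theorem F148089 : act 4 n96277 = n46602 := d1_2 (iv4 F70650) D96277 (iv2 D46602)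
theorem F148090 : act 7 n96277 = n44995 := d4_2 (iv7 F70651) D96277 (iv2 F70757)
theorem F148091 : act 1 n96277 = n44997 := d15_0 (iv0 F70762) (iv7 F70651) D96277
theorem F148092 : act 1 n44991 = n96277 := d15_0 F148091 (iv7 D44997) (iv2 F70749)
def n96278 : Q := act 5 n44945
theorem D96278 : act 5 n44945 = n96278 := rfl
def n96279 : Q := act 4 n44946
theorem D96279 : act 4 n44946 = n96279 := rfl
theorem F148095 : act 2 n96279 = n88349 := d1_1 D96279 (iv4 D88349) (iv2 F70653)
theorem F148096 : act 5 n96279 = n95626 := d9_2 D44946 D96279 (iv4 D95626) (iv5 F76126) F76127 (iv5 D40860) (iv4 F63174) D44944 D96274 F148079 (iv4 D95629) F70209 F70127 (iv5 D41235) (iv4 F63179)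
theorem F148097 : act 7 n96279 = n95481 := d11_2 (iv7 F70654) D96279 (iv4 D95481)
theorem F148098 : act 0 n96279 = n48395 := d18_2 F71803 D96279 (iv4 D48395) F64880 (iv4 F133571) (iv0 F137047) F137048 (iv0 D45524) D45525
theorem F148099 : act 1 n96279 = n48392 := d18_6 D11032 D23523 (iv1 F36644) (iv4 F63179) D44946 D96279 (iv4 D48392) (iv0 D23530) (iv5 D11035)
def n96280 : Q := act 6 n44946
theorem D96280 : act 6 n44946 = n96280 := rfl
theorem F148100 : act 2 n96280 = n88350 := d3_1 D96280 (iv6 D88350) (iv2 F70653)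
def n96281 : Q := act 3 n44947
theorem D96281 : act 3 n44947 = n96281 := rfl
theorem F148101 : act 7 n96281 = n95486 := d8_2 (iv7 F71453) D96281 (iv3 D95486)
def n96282 : Q := act 4 n44947
theorem D96282 : act 4 n44947 = n96282 := rfl
theorem F148102 : act 2 n96282 = n95484 := d1_1 D96282 (iv4 D95484) (iv2 F71455)
theorem F148103 : act 7 n96282 = n95487 := d11_2 (iv7 F71453) D96282 (iv4 D95487)
theorem F148104 : act 5 n96282 = n95622 := d16_1 D96282 (iv4 D95622) (iv5 D44656) F63438 D43219 (iv4 F70261) (iv5 F70657) (iv7 F71454) (iv2 F71455)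
theorem F148105 : act 0 n96282 = n48385 := d17_0 F76056 (iv1 F147305) (iv5 F148096) (iv4 D96279) (iv5 D44946) F63177 D23603 F70655 D96282
theorem F148106 : act 1 n96282 = n47807 := d18_6 F64817 (iv4 F62927) (iv1 F67682) (iv4 F138094) F138093 D96282 (iv4 D47807) D47806 (iv5 F75104)
def n96283 : Q := act 6 n44947
theorem D96283 : act 6 n44947 = n96283 := rfl
theorem F148107 : act 2 n96283 = n95485 := d3_1 D96283 (iv6 D95485) (iv2 F71455)
def n96284 : Q := act 3 n44948
theorem D96284 : act 3 n44948 = n96284 := rfl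
theorem F148108 : act 5 n96284 = n95673 := d6_2 (iv5 F70657) D96284 F147361
theorem F148109 : act 7 n96284 = n95483 := d8_2 F71454 D96284 (iv3 D95483)
theorem F148110 : act 0 n96284 = n44996 := d21_7 (iv5 F70248) (iv1 F71517) (iv5 D45363) D45364 F136448 D95673 (iv5 F148108) (iv5 D44996) (iv6 D21484) D21481
def n96285 : Q := act 4 n44948
theorem D96285 : act 4 n44948 = n96285 := rfl
theorem F148111 : act 2 n96285 = n95487 := d1_1 D96285 (iv4 D95487) F71450
theorem F148112 : act 5 n96285 = n95616 := d9_2 (iv5 F70657) D96285 (iv4 D95616) (iv5 D44653) F63436 D43217 (iv4 F138094) F138093 D96282 F148104 (iv4 D95622) (iv5 D44656) F63438 D43219 (iv4 F70261)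
theorem F148113 : act 7 n96285 = n95484 := d11_2 F71454 D96285 (iv4 D95484)
theorem F148114 : act 0 n96285 = n47807 := d17_0 (iv5 F137900) (iv1 F147309) (iv5 F148079) (iv4 D96274) (iv5 D44944) (iv0 D21450) D21452 D44948 D96285
theorem F148115 : act 1 n96285 = n48385 := d18_6 D41981 (iv4 F135311) F135310 (iv4 F70261) (iv5 F70657) D96285 (iv4 D48385) F64769 (iv5 D41982)
def n96286 : Q := act 6 n44948
theorem D96286 : act 6 n44948 = n96286 := rfl
theorem F148116 : act 2 n96286 = n95488 := d3_1 D96286 (iv6 D95488) F71450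
theorem F148117 : act 5 n96286 = n95677 := d12_1 D96286 (iv6 D95677) (iv5 D44687) D44688 (iv5 F70657)
def n96287 : Q := act 3 n44949
theorem D96287 : act 3 n44949 = n96287 := rfl
def n96288 : Q := act 4 n44951
theorem D96288 : act 4 n44951 = n96288 := rfl
theorem F148118 : act 2 n96288 = n47610 := d1_1 D96288 (iv4 D47610) (iv2 F70670)
theorem F148120 : act 5 n96288 = n48288 := d17_5 F64448 (iv5 D21466) D21464 D44951 D96288 (iv0 D48288) (iv5 D23432) D23430 (iv4 F64450)
def n96290 : Q := act 4 n44953
theorem D96290 : act 4 n44953 = n96290 := rfl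
theorem F148126 : act 6 n96290 = n91683 := d10_2 F70679 D96290 F140936
theorem F148127 : act 7 n96290 = n47610 := d11_2 (iv7 F70678) D96290 (iv4 D47610)
theorem F148129 : act 1 n96290 = n48244 := d18_6 (iv1 F17840) (iv4 F35254) (iv1 F35257) (iv4 F66813) D44953 D96290 (iv4 D48244) (iv0 D23394) (iv5 D10980)
theorem F148130 : act 5 n48289 = n96290 := d17_7 (iv1 F36524) (iv5 D10985) (iv1 D5002) D5003 D10989 D23432 D48289 F148129 (iv4 D48244)
def n96291 : Q := act 6 n44955
theorem D96291 : act 6 n44955 = n96291 := rfl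
theorem F148137 : act 5 n96291 = n88623 := d12_1 D96291 (iv6 F135834) (iv5 F147756) (iv6 D96109) F72331
def n96292 : Q := act 3 n44956
theorem D96292 : act 3 n44956 = n96292 := rfl
theorem F148138 : act 4 n96292 = n45021 := d5_2 D44956 D96292 (iv3 D45021) (iv4 D21502) (iv3 F33734)
theorem F148139 : act 6 n96292 = n44958 := d7_2 (iv6 F70687) D96292 (iv3 D44958)
def n96293 : Q := act 5 n44956
theorem D96293 : act 5 n44956 = n96293 := rfl
def n96294 : Q := act 0 n44958
theorem D96294 : act 0 n44958 = n96294 := rfl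
def n96295 : Q := act 1 n44958
theorem D96295 : act 1 n44958 = n96295 := rfl
def n96296 : Q := act 2 n44958
theorem D96296 : act 2 n44958 = n96296 := rfl
theorem F148140 : act 4 n96296 = n45045 := d1_2 (iv4 F70691) D96296 (iv2 D45045)
def n96297 : Q := act 5 n44958
theorem D96297 : act 5 n44958 = n96297 := rfl
theorem F148141 : act 3 n96297 = n44959 := d6_1 D96297 (iv5 D44959) D44958
def n96298 : Q := act 4 n44959
theorem D96298 : act 4 n44959 = n96298 := rfl
theorem F148142 : act 5 n96298 = n77259 := d9_2 D44959 D96298 F116021 (iv5 D39974) F30169 D19859 (iv4 F64935) (iv5 F133320) (iv4 F134053) (iv5 D87312) (iv4 D40560) (iv5 D19159) F14040 D10246 D21469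
theorem F148144 : act 1 n96298 = n86720 := d18_6 F31637 (iv4 F31180) (iv1 F31182) D21469 D44959 D96298 F133005 (iv0 F64947) (iv5 D42063)
def n96299 : Q := act 6 n44959
theorem D96299 : act 6 n44959 = n96299 := rfl
def n96300 : Q := act 3 n44960
theorem D96300 : act 3 n44960 = n96300 := rfl
theorem F148145 : act 7 n96300 = n84388 := d8_2 F129514 D96300 (iv3 D84388)
theorem F148146 : act 0 n96300 = n84342 := d20_4 (iv4 F53009) (iv1 F107856) F107857 D96300 (iv3 D84342) (iv4 F59922) (iv1 F59423) D46540 F73534 F61044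
theorem F148147 : act 4 n96300 = n81517 := d20_6 F29062 (iv1 F16138) D10248 D21470 D44960 D96300 (iv1 D81517) F58173 (iv3 D17897) (iv1 F29061)
def n96301 : Q := act 6 n44960
theorem D96301 : act 6 n44960 = n96301 := rfl
theorem F148148 : act 2 n96301 = n84395 := d3_1 D96301 (iv6 D84395) (iv2 F129515)
def n96302 : Q := act 3 n44961
theorem D96302 : act 3 n44961 = n96302 := rfl
theorem F148149 : act 5 n96302 = n70260 := d6_2 (iv5 F107853) D96302 (iv3 F107852)
theorem F148150 : act 7 n96302 = n70426 := d8_2 (iv7 F129517) D96302 F129529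
theorem F148151 : act 0 n96302 = n70428 := d20_4 F120289 (iv1 F110121) F110123 D96302 F106890 F83610 (iv1 F42576) (iv4 F40624) (iv3 F83680) (iv1 F120292)
theorem F148152 : act 0 n54329 = n96302 := d20_4 F27886 (iv1 F21499) (iv4 F41706) D54329 (iv3 D96302) (iv4 F110123) (iv1 D73423) F53009 (iv3 D32675) (iv1 F27888)
theorem F148153 : act 2 n96302 = n70427 := d15_3 F128735 F128736 (iv7 F148150)
def n96303 : Q := act 6 n44961
theorem D96303 : act 6 n44961 = n96303 := rfl
theorem F148154 : act 2 n96303 = n84391 := d3_1 D96303 (iv6 D84391) (iv2 F129516)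
def n96304 : Q := act 6 n44962
theorem D96304 : act 6 n44962 = n96304 := rfl
def n96310 : Q := act 5 n44965
theorem D96310 : act 5 n44965 = n96310 := rfl
theorem F148163 : act 2 n96310 = n58671 := d2_1 D96310 (iv5 D58671) (iv2 F121719)
theorem F148164 : act 7 n96310 = n81477 := d13_2 F126009 D96310 (iv5 D81477)
theorem F148165 : act 1 n86023 = n96310 := d15_1 D86023 F148164 F126189
theorem F148166 : act 1 n96310 = n86022 := d15_0 (iv0 D86022) (iv7 F92664) (iv2 F148163)
theorem E14762 : n81557 = n75995 := (c17_8 D34735 (iv5 F116804) F71150 (iv5 D45154) (iv4 F125978) D96310 F148166 F131961 (iv0 D75995) F54964)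
theorem F148167 : act 2 n75995 = n37356 := (sb E14762 F125437)
theorem F148168 : act 4 n75995 = n96175 := (sb E14762 (iv4 F147866))
theorem F148169 : act 5 n75995 = n86022 := (sb E14762 (iv5 F131961))
theorem F148170 : act 6 n75995 = n37250 := (sb E14762 (iv6 D81557))
theorem E14763 : n81738 = n75996 := ((c15_2 (iv0 D75995) D75996 (iv7 D81738) (iv2 F148167))).symm
theorem F148171 : act 5 n75996 = n86023 := (sb E14763 F131966)
theorem F148172 : act 7 n75996 = n37356 := (sb E14763 (iv7 D81738))
def n96311 : Q := act 6 n44965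
theorem D96311 : act 6 n44965 = n96311 := rfl
theorem F148173 : act 2 n96311 = n58672 := d3_1 D96311 (iv6 D58672) (iv2 F121719)
theorem F148174 : act 4 n96311 = n45155 := d10_1 D96311 (iv6 D45155) (iv4 F125978)
theorem F148175 : act 0 n96311 = n85622 := d21_4 F148169 (iv1 F148166) (iv5 D96310) D96311 (iv6 D85622) (iv5 F113902) (iv1 D75992) (iv5 D34729) D34730 D75995
theorem F148176 : act 1 n96311 = n58128 := d15_1 (iv0 F148175) (iv7 F131332) F131331
def n96312 : Q := act 0 n44966
theorem D96312 : act 0 n44966 = n96312 := rfl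
theorem F148177 : act 5 n96312 = n75998 := d17_3 (iv1 D44965) D44966 D96312 F113888 F54967 F116794 (iv5 D21556) D21555 (iv4 F125978)
theorem F148178 : act 7 n75997 = n96312 := d13_0 F148177 (iv7 D75998) D75997
theorem F148179 : act 0 n96312 = n84386 := d21_1 (iv5 F148177) F129507 F59953 (iv1 F44994) D58576 (iv5 F125635) (iv1 F125637) (iv5 D37355) D37356 F125652
theorem F148180 : act 2 n96312 = n84384 := d15_3 (iv0 D84384) (iv0 F113887) F148178
def n96313 : Q := act 1 n44966
theorem D96313 : act 1 n44966 = n96313 := rfl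
theorem F148182 : act 7 n96313 = n84384 := d15_2 (iv0 D96312) D96313 (iv2 F148180)
theorem F148183 : act 5 n75978 = n96313 := d21_6 D13228 (iv1 F29096) (iv5 D17927) D17928 (iv1 F59777) D75978 (iv1 D96313) (iv5 D44966) (iv6 D21471) F16208
def n96314 : Q := act 4 n44966
theorem D96314 : act 4 n44966 = n96314 := rfl
def n96315 : Q := act 7 n44966
theorem D96315 : act 7 n44966 = n96315 := rfl
theorem F148187 : act 5 n96315 = n44967 := d13_1 D96315 (iv7 D44967) D44966
theorem F148188 : act 1 n75997 = n96315 := d15_1 (iv0 F113887) (iv7 D96315) F70703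
def n96316 : Q := act 0 n44971
theorem D96316 : act 0 n44971 = n96316 := rfl
theorem F148190 : act 5 n96316 = n96175 := d17_3 D21472 D44971 D96316 (iv4 F148168) F148169 (iv0 D86022) (iv5 D39798) (iv0 F121723) F33747
theorem F148191 : act 1 n44976 = n96316 := d15_0 (iv0 D96316) F121836 (iv2 F121839)
theorem F148192 : act 6 n84432 = n96316 := d21_9 (iv5 D44976) (iv1 D21473) D21474 F33750 D21478 (iv6 F70005) (iv5 D44489) (iv1 F121261) D84432 (iv1 F148191)
theorem F148193 : act 2 n96316 = n95248 := d3_1 F148192 (iv6 F146820) (iv2 F129571)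
theorem F148195 : act 7 n95249 = n96316 := d15_2 (iv0 D95248) D95249 F148193
theorem F148196 : act 4 n86029 = n96316 := d18_3 (iv1 D39801) D39802 D86029 F148190 (iv4 F148168) (iv0 D75995) F54964 D34736 (iv5 F126016)
def n96317 : Q := act 1 n44971
theorem D96317 : act 1 n44971 = n96317 := rfl
theorem F148197 : act 1 n96317 = n44976 := d15_1 D96317 (iv7 F121846) (iv2 F121847)
theorem F148198 : act 7 n96317 = n95248 := d15_2 (iv0 D96316) D96317 (iv2 F148193)
theorem F148199 : act 2 n95249 = n96317 := d4_3 F148198 (iv2 F148193) (iv7 F148195)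
theorem F148200 : act 3 n86863 = n96317 := d8_3 F148198 F146821 (iv7 F133247)
theorem F148202 : act 4 n96317 = n86030 := d20_6 (iv4 F60037) (iv1 F61339) (iv4 D40295) (iv3 F61330) D86863 F148200 (iv1 D86030) (iv4 D39802) F30080 F29713
def n96318 : Q := act 4 n44971
theorem D96318 : act 4 n44971 = n96318 := rfl
theorem F148203 : act 2 n96318 = n95250 := d1_1 D96318 (iv4 D95250) (iv2 F121847)
theorem F148204 : act 7 n96318 = n95257 := d11_2 (iv7 F121836) D96318 (iv4 D95257)
theorem F148205 : act 1 n86028 = n95257 := d15_1 F146823 (iv7 F148204) F148203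
def n96321 : Q := act 1 n44972
theorem D96321 : act 1 n44972 = n96321 := rfl
theorem F148207 : act 1 n96321 = n95253 := d15_1 D96321 (iv7 D95253) F121853
theorem F148209 : act 6 n56334 = n96321 := d21_3 F33646 (iv1 F121329) D56334 (iv1 D96321) (iv6 D44972) D44971 D96316 F148190 (iv6 D96175) (iv1 D44888)
theorem F148210 : act 2 n96321 = n95252 := d3_1 F148209 (iv6 F146825) F119007
theorem F148212 : act 7 n96321 = n84445 := d14_2 (iv7 F89181) F148209 (iv6 D84445) F89164 D55733
theorem F148214 : act 1 n95253 = n96179 := d15_1 F148207 F147880 (iv2 F148210)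
theorem E14765 : n83237 = n82405 := ((c20_7 F146827 (iv1 F129637) F125699 (iv3 F125668) F125671 F126158 (iv4 F126937) (iv1 D83237) (iv4 F128311) (iv3 F147878) (iv1 F148214))).symm
theorem F148215 : act 0 n82405 = n38312 := (sb E14765 (iv1 D83237))
def n96322 : Q := act 7 n44972
theorem D96322 : act 7 n44972 = n96322 := rfl
theorem F148216 : act 2 n96322 = n95253 := d4_1 D96322 (iv7 D95253) F121853
theorem F148217 : act 3 n96322 = n80522 := d8_1 D96322 F123790 F123739
theorem F148218 : act 5 n96322 = n79576 := d13_1 D96322 F133629 F121843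
theorem F148219 : act 6 n96322 = n95260 := d14_1 D96322 (iv7 D95260) (iv6 D44500) F121833 D44972
theorem F148220 : act 1 n95252 = n96322 := d15_1 D95252 (iv7 D96322) (iv2 F121853)
theorem F148221 : act 1 n96322 = n84445 := d15_1 F148220 (iv7 F148212) F148210
def n96323 : Q := act 5 n44974
theorem D96323 : act 5 n44974 = n96323 := rfl
theorem F148222 : act 3 n96323 = n44976 := d6_1 D96323 (iv5 D44976) D44974
theorem F148224 : act 0 n80391 = n96323 := d21_10 (iv5 D96323) (iv1 F125982) D56936 F90006 (iv1 F55794) (iv6 F115292) (iv5 D76803) (iv1 F121216) D77488 (iv6 F123548)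
def n96324 : Q := act 6 n44974
theorem D96324 : act 6 n44974 = n96324 := rfl
def n96325 : Q := act 4 n44976
theorem D96325 : act 4 n44976 = n96325 := rfl
theorem F148226 : act 2 n96325 = n95257 := d1_1 D96325 (iv4 D95257) (iv2 F121839)
theorem F148227 : act 7 n96325 = n95250 := d11_2 F121846 D96325 (iv4 D95250)
theorem F148228 : act 1 n96325 = n81797 := d18_6 (iv1 F33924) (iv4 F71140) (iv1 F71143) F126019 D44976 D96325 (iv4 D81797) (iv0 F58313) (iv5 D37204)
theorem F148229 : act 1 n81797 = n96318 := d15_1 F148228 F148204 (iv2 F148226)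
def n96326 : Q := act 5 n44977
theorem D96326 : act 5 n44977 = n96326 := rfl
theorem F148232 : act 0 n96326 = n80650 := d21_7 (iv5 D79105) (iv1 F61601) F61585 F33668 (iv1 F33748) D44977 D96326 (iv5 D80650) D80651 F124048
theorem F148234 : act 0 n95265 = n79477 := d21_7 D96326 F148232 (iv5 D80650) D80651 F124048 (iv6 F123796) (iv5 F146881) (iv5 D79477) D79478 F146843
theorem F148235 : act 1 n95265 = n79249 := d15_1 (iv0 F148234) F120553 (iv2 F122061)
def n96327 : Q := act 5 n44978
theorem D96327 : act 5 n44978 = n96327 := rfl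
theorem F148237 : act 7 n96327 = n79106 := d13_2 (iv7 F133772) D96327 F120371
theorem F148238 : act 1 n96327 = n81733 := d17_8 F125652 (iv5 F148177) F148179 F129507 F59952 (iv5 F70010) F70718 D96327 F125651
def n96328 : Q := act 6 n44978
theorem D96328 : act 6 n44978 = n96328 := rfl
theorem F148239 : act 2 n96328 = n95263 := d3_1 D96328 (iv6 D95263) F133773
def n96329 : Q := act 3 n44979
theorem D96329 : act 3 n44979 = n96329 := rfl
theorem F148240 : act 2 n96329 = n77968 := d0_1 D96329 F123639 F119308 (iv3 F120372) (iv2 F133770)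
theorem F148241 : act 5 n96329 = n77419 := d6_2 F133769 D96329 (iv3 F133767)
theorem F148242 : act 7 n96329 = n77967 := d8_2 F133771 D96329 (iv3 F133775)
theorem F148243 : act 0 n77969 = n96329 := d20_4 (iv4 F123963) (iv1 F119190) F119187 (iv3 F119179) (iv3 D96329) F126193 (iv1 D81498) (iv4 D37213) (iv3 F56994) D79614
theorem F148244 : act 1 n77969 = n78131 := d15_1 (iv0 F148243) F123641 (iv2 F148240)
theorem F148245 : act 1 n56936 = n96329 := d15_0 (iv0 F148243) (iv7 D77969) (iv2 F90004)
theorem F148246 : act 1 n78131 = n56936 := d15_0 F148245 F148242 (iv2 F123643)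
def n96330 : Q := act 1 n44980
theorem D96330 : act 1 n44980 = n96330 := rfl
theorem F148247 : act 1 n96330 = n86063 := d15_1 D96330 (iv7 F132001) (iv2 F70713)
theorem F148249 : act 4 n96330 = n45157 := d18_7 (iv1 F33917) (iv4 F125978) (iv1 D44965) F33747 D21474 D44980 D96330 F71151 F58167
def n96331 : Q := act 3 n44980
theorem D96331 : act 3 n44980 = n96331 := rfl
theorem F148251 : act 6 n96331 = n44987 := d7_2 (iv6 F70714) D96331 (iv3 D44987)
def n96332 : Q := act 5 n44980
theorem D96332 : act 5 n44980 = n96332 := rfl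
theorem F148253 : act 0 n96332 = n86032 := d17_2 (iv1 D96330) D96332 (iv5 D86032) (iv4 D39802) (iv5 D18824) F126007 D21556 D45157 (iv4 F148249)
def n96333 : Q := act 7 n44980
theorem D96333 : act 7 n44980 = n96333 := rfl
theorem F148255 : act 4 n96333 = n44981 := d11_1 D96333 (iv7 D44981) D44980
theorem F148256 : act 1 n58691 = n96333 := d15_1 F126195 (iv7 D96333) F70713
theorem F148258 : act 4 n57916 = n77967 := d20_8 (iv4 F148255) (iv1 F148256) (iv4 D58691) (iv3 D27905) (iv1 D13307) (iv3 F21973) D27637 D57916 (iv3 F133775) (iv1 F70720)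
def n96334 : Q := act 3 n44982
theorem D96334 : act 3 n44982 = n96334 := rfl
theorem F148259 : act 4 n96334 = n77192 := d5_2 D44982 D96334 (iv3 D77192) (iv4 D35237) (iv3 F33757)
theorem F148260 : act 7 n96334 = n95270 := d8_2 (iv7 F70722) D96334 (iv3 D95270)
def n96335 : Q := act 3 n44983
theorem D96335 : act 3 n44983 = n96335 := rfl
theorem F148261 : act 7 n96335 = n95268 := d8_2 (iv7 F70726) D96335 (iv3 D95268)
def n96336 : Q := act 6 n44983
theorem D96336 : act 6 n44983 = n96336 := rfl
theorem F148262 : act 2 n96336 = n95272 := d3_1 D96336 (iv6 D95272) (iv2 F70725)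
theorem F148263 : act 4 n96336 = n44984 := d10_1 D96336 (iv6 D44984) D44983
def n96337 : Q := act 1 n44984
theorem D96337 : act 1 n44984 = n96337 := rfl
theorem F148265 : act 7 n96337 = n95273 := d15_2 (iv0 F129589) D96337 (iv2 F146903)
theorem F148267 : act 3 n47687 = n96337 := d8_3 F148265 F146904 (iv7 F137431)
theorem F148268 : act 6 n95249 = n96337 := d14_5 F148265 F147876 F147875 F148192 (iv7 F148195)
def n96338 : Q := act 7 n44984
theorem D96338 : act 7 n44984 = n96338 := rfl
def n96339 : Q := act 0 n44985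
theorem D96339 : act 0 n44985 = n96339 := rfl
def n96340 : Q := act 1 n44985
theorem D96340 : act 1 n44985 = n96340 := rfl
theorem F148273 : act 1 n96340 = n95285 := d15_1 D96340 (iv7 D95285) (iv2 F70730)
def n96341 : Q := act 7 n44985
theorem D96341 : act 7 n44985 = n96341 := rfl
theorem F148274 : act 2 n96341 = n95285 := d4_1 D96341 (iv7 D95285) (iv2 F70730)
theorem F148276 : act 6 n96341 = n95279 := d14_1 D96341 (iv7 D95279) (iv6 D44509) (iv7 F33767) D44985
theorem F148279 : act 1 n96341 = n95283 := d15_0 (iv0 D95283) D95285 (iv2 F148274)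
def n96342 : Q := act 3 n44986
theorem D96342 : act 3 n44986 = n96342 := rfl
theorem F148280 : act 4 n96342 = n81901 := d5_2 (iv4 F70734) D96342 (iv3 D81901) (iv4 D37505) F33929
theorem F148281 : act 5 n96342 = n87129 := d6_2 F70736 D96342 (iv3 D87129)
theorem F148282 : act 7 n96342 = n75163 := d8_2 (iv7 F70733) D96342 (iv3 D75163)
def n96343 : Q := act 6 n44986
theorem D96343 : act 6 n44986 = n96343 := rfl
theorem F148283 : act 2 n96343 = n58712 := d3_1 D96343 (iv6 D58712) F70735
def n96344 : Q := act 0 n44987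
theorem D96344 : act 0 n44987 = n96344 := rfl
def n96345 : Q := act 1 n44987
theorem D96345 : act 1 n44987 = n96345 := rfl
def n96346 : Q := act 2 n44987
theorem D96346 : act 2 n44987 = n96346 := rfl
theorem F148285 : act 3 n96346 = n95288 := d0_2 D44987 D96346 (iv2 D95288) (iv3 D44512) (iv2 F33770)
def n96347 : Q := act 5 n44987
theorem D96347 : act 5 n44987 = n96347 := rfl
theorem F148286 : act 3 n96347 = n44988 := d6_1 D96347 (iv5 D44988) D44987
theorem F148287 : act 7 n96347 = n95426 := d13_2 F122204 D96347 F147041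
def n96348 : Q := act 6 n44988
theorem D96348 : act 6 n44988 = n96348 := rfl
theorem F148288 : act 2 n96348 = n95290 := d3_1 D96348 (iv6 D95290) (iv2 F70737)
theorem F148289 : act 4 n96348 = n87051 := d10_1 D96348 (iv6 D87051) (iv4 F70739)
def n96349 : Q := act 0 n44989
theorem D96349 : act 0 n44989 = n96349 := rfl
theorem F148290 : act 2 n46997 = n96349 := d15_3 (iv0 D96349) F74220 F74215
theorem F148291 : act 3 n96349 = n48084 := d0_2 (iv3 F74214) F148290 (iv2 D48084) (iv3 D23207) (iv2 F62809)
theorem F148292 : act 7 n96349 = n46998 := d4_2 F74215 F148290 F143250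
theorem F148293 : act 1 n47000 = n96349 := d15_1 (iv0 F74219) F148292 F143250
def n96350 : Q := act 5 n44989
theorem D96350 : act 5 n44989 = n96350 := rfl
theorem F148294 : act 2 n96350 = n46999 := d2_1 D96350 (iv5 D46999) (iv2 F70742)
def n96351 : Q := act 7 n44989
theorem D96351 : act 7 n44989 = n96351 := rfl
theorem F148295 : act 2 n96351 = n47000 := d4_1 D96351 (iv7 D47000) (iv2 F70742)
theorem F148296 : act 4 n96351 = n46994 := d11_1 D96351 (iv7 D46994) (iv4 F70743)
theorem F148297 : act 6 n96351 = n95452 := d14_1 D96351 (iv7 D95452) (iv6 D44591) (iv7 F33775) D44989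
theorem F148298 : act 1 n46998 = n96351 := d15_1 D46998 (iv7 D96351) F70742
theorem F148299 : act 1 n96351 = n46997 := d15_1 F148298 (iv7 F74215) (iv2 F143250)
def n96352 : Q := act 4 n44990
theorem D96352 : act 4 n44990 = n96352 := rfl
theorem F148301 : act 3 n96352 = n57615 := d5_1 D96352 F107030 (iv3 D70564) (iv4 F70041) (iv3 F70745)
theorem F148302 : act 7 n96352 = n73048 := d11_2 (iv7 F70746) D96352 F109575
theorem F148303 : act 0 n96352 = n73045 := d17_0 (iv5 D73045) (iv1 F90779) F90810 (iv4 D44677) (iv5 D21276) (iv0 F33472) (iv5 F70049) (iv0 F70747) D96352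
def n96353 : Q := act 6 n44990
theorem D96353 : act 6 n44990 = n96353 := rfl
theorem F148305 : act 2 n96353 = n44994 := d3_1 D96353 (iv6 D44994) (iv2 F70744)
theorem F148306 : act 3 n96353 = n95307 := d7_1 D96353 (iv6 D95307) (iv3 F70745)
def n96354 : Q := act 5 n44991
theorem D96354 : act 5 n44991 = n96354 := rfl
theorem F148307 : act 2 n96354 = n44996 := d2_1 D96354 (iv5 D44996) (iv2 F70749)
theorem F148308 : act 3 n96354 = n95309 := d6_1 D96354 (iv5 D95309) (iv3 F70750)
def n96355 : Q := act 4 n44992
theorem D96355 : act 4 n44992 = n96355 := rfl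
theorem F148309 : act 2 n96355 = n95326 := d1_1 D96355 (iv4 D95326) F70752
theorem F148310 : act 5 n96355 = n57343 := d9_2 (iv5 F70751) D96355 (iv4 F127493) F127494 F59253 (iv5 D19603) D19602 D41631 D89102 F136817 (iv4 F116557) F116555 F60249 (iv5 F58709) F58708
theorem F148311 : act 7 n96355 = n95455 := d11_2 (iv7 F70754) D96355 (iv4 D95455)
theorem F148312 : act 0 n96355 = n83504 := d17_0 (iv5 D83504) (iv1 F123198) (iv5 F147263) (iv4 D95591) F70196 F33776 D44592 F70753 D96355
theorem F148313 : act 1 n96355 = n57367 := d15_1 (iv0 F148312) F90557 (iv2 F128607)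
theorem F148314 : act 3 n82985 = n96355 := d6_3 F148310 F90526 D82985
def n96356 : Q := act 6 n44992
theorem D96356 : act 6 n44992 = n96356 := rfl
theorem F148315 : act 2 n96356 = n95327 := d3_1 D96356 (iv6 D95327) F70752
def n96357 : Q := act 6 n44993
theorem D96357 : act 6 n44993 = n96357 := rfl
def n96358 : Q := act 0 n44994
theorem D96358 : act 0 n44994 = n96358 := rfl
def n96359 : Q := act 1 n44994
theorem D96359 : act 1 n44994 = n96359 := rfl
def n96360 : Q := act 5 n44994
theorem D96360 : act 5 n44994 = n96360 := rfl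
theorem F148317 : act 3 n96360 = n45000 := d6_1 D96360 (iv5 D45000) (iv3 F70756)
theorem F148318 : act 6 n96360 = n44996 := d12_2 D44994 D96360 (iv5 D44996) (iv6 D21484) D21483
def n96361 : Q := act 7 n44994
theorem D96361 : act 7 n44994 = n96361 := rfl
theorem F148320 : act 6 n96361 = n95462 := d14_1 D96361 (iv7 D95462) (iv6 D44596) (iv7 F33782) D44994
def n96362 : Q := act 5 n44995
theorem D96362 : act 5 n44995 = n96362 := rfl
def n96363 : Q := act 6 n44995
theorem D96363 : act 6 n44995 = n96363 := rfl
theorem F148322 : act 2 n96363 = n47371 := d3_1 D96363 (iv6 D47371) F70757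
theorem F148323 : act 4 n96363 = n47369 := d10_1 D96363 (iv6 D47369) (iv4 F70758)
def n96364 : Q := act 0 n44996
theorem D96364 : act 0 n44996 = n96364 := rfl
theorem F148324 : act 2 n95483 = n96364 := d15_3 (iv0 D96364) (iv0 F148110) F148109
def n96365 : Q := act 4 n44996
theorem D96365 : act 4 n44996 = n96365 := rfl
def n96366 : Q := act 7 n44996
theorem D96366 : act 7 n44996 = n96366 := rfl
def n96367 : Q := act 2 n44998
theorem D96367 : act 2 n44998 = n96367 := rfl
theorem F148327 : act 7 n44999 = n96367 := d15_2 (iv0 D44998) D44999 (iv2 D96367)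
def n96368 : Q := act 3 n44998
theorem D96368 : act 3 n44998 = n96368 := rfl
def n96369 : Q := act 4 n44998
theorem D96369 : act 4 n44998 = n96369 := rfl
def n96370 : Q := act 5 n44998
theorem D96370 : act 5 n44998 = n96370 := rfl
def n96371 : Q := act 6 n44998
theorem D96371 : act 6 n44998 = n96371 := rfl
theorem F148328 : act 5 n96371 = n95608 := d21_6 F33480 (iv1 F16160) D10255 D21485 D44998 D96371 (iv1 D95608) (iv5 D44650) (iv6 D21253) D21251
def n96372 : Q := act 7 n44998
theorem D96372 : act 7 n44998 = n96372 := rfl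
theorem F148329 : act 2 n96372 = n44999 := d4_1 D96372 F148327 (iv2 D96367)
def n96373 : Q := act 3 n44999
theorem D96373 : act 3 n44999 = n96373 := rfl
def n96374 : Q := act 4 n44999
theorem D96374 : act 4 n44999 = n96374 := rfl
def n96375 : Q := act 5 n44999
theorem D96375 : act 5 n44999 = n96375 := rfl
def n96376 : Q := act 6 n44999
theorem D96376 : act 6 n44999 = n96376 := rfl
def n96377 : Q := act 0 n45000
theorem D96377 : act 0 n45000 = n96377 := rfl
def n96378 : Q := act 1 n45000
theorem D96378 : act 1 n45000 = n96378 := rfl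
theorem F148330 : act 1 n96378 = n95345 := d15_1 D96378 (iv7 D95345) (iv2 F70764)
def n96379 : Q := act 4 n45000
theorem D96379 : act 4 n45000 = n96379 := rfl
theorem F148332 : act 6 n96379 = n45010 := d10_2 (iv6 F70765) D96379 (iv4 D45010)
def n96380 : Q := act 7 n45000
theorem D96380 : act 7 n45000 = n96380 := rfl
theorem F148333 : act 2 n96380 = n95345 := d4_1 D96380 (iv7 D95345) (iv2 F70764)
theorem F148335 : act 1 n95345 = n96377 := d15_0 (iv0 D96377) D96380 F148333
theorem F148336 : act 1 n95343 = n96380 := d15_1 D95343 (iv7 D96380) F70764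
def n96381 : Q := act 5 n45002
theorem D96381 : act 5 n45002 = n96381 := rfl
theorem F148338 : act 2 n96381 = n95463 := d2_1 D96381 (iv5 D95463) (iv2 F70774)
theorem F148339 : act 3 n96381 = n45003 := d6_1 D96381 (iv5 D45003) D45002
theorem F148340 : act 7 n96381 = n95355 := d13_2 (iv7 F70772) D96381 (iv5 D95355)
def n96382 : Q := act 6 n45002
theorem D96382 : act 6 n45002 = n96382 := rfl
theorem F148341 : act 2 n96382 = n95464 := d3_1 D96382 (iv6 D95464) (iv2 F70774)
theorem F148342 : act 3 n96382 = n45004 := d7_1 D96382 (iv6 D45004) D45002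
theorem F148343 : act 4 n96382 = n47475 := d10_1 D96382 (iv6 D47475) (iv4 F70771)
theorem F148344 : act 0 n96382 = n48105 := d20_7 (iv4 D40864) (iv1 F31022) (iv4 F62373) (iv3 F70490) F74653 (iv3 F74651) (iv4 F148343) (iv4 F134911) F134910 F63247
def n96383 : Q := act 4 n45003
theorem D96383 : act 4 n45003 = n96383 := rfl
theorem F148345 : act 2 n96383 = n95352 := d1_1 D96383 (iv4 D95352) (iv2 F70775)
theorem F148346 : act 7 n96383 = n95357 := d11_2 (iv7 F70776) D96383 (iv4 D95357)
theorem F148347 : act 0 n96383 = n96013 := d18_2 (iv1 F137968) D96383 (iv4 D96013) (iv5 D44803) (iv4 F68949) (iv0 F137055) F137053 (iv0 F71537) D89874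
def n96384 : Q := act 6 n45003
theorem D96384 : act 6 n45003 = n96384 := rfl
theorem F148348 : act 2 n96384 = n95353 := d3_1 D96384 (iv6 D95353) (iv2 F70775)
def n96385 : Q := act 0 n45005
theorem D96385 : act 0 n45005 = n96385 := rfl
theorem F148349 : act 4 n96385 = n47364 := d20_2 (iv4 F70778) D96385 (iv3 D47364) (iv1 D22753) (iv3 D10759) D10760 D22758 (iv4 F35952) D46619 F73636
theorem F148350 : act 1 n95348 = n96385 := d15_0 (iv0 D96385) F70779 D95348
def n96386 : Q := act 1 n45005
theorem D96386 : act 1 n45005 = n96386 := rfl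
def n96387 : Q := act 2 n45005
theorem D96387 : act 2 n45005 = n96387 := rfl
theorem F148351 : act 3 n96387 = n48436 := d0_2 D45005 D96387 (iv2 F76168) (iv3 D44537) (iv2 F66779)
theorem F148352 : act 4 n96387 = n48256 := d1_2 (iv4 F70778) D96387 (iv2 D48256)
theorem F148353 : act 7 n96387 = n95348 := d4_2 (iv7 F70779) D96387 (iv2 D95348)
theorem F148354 : act 1 n96387 = n95346 := d15_0 (iv0 D95346) (iv7 F70779) D96387
theorem F148355 : act 1 n96386 = n95348 := d15_1 D96386 (iv7 F148353) (iv2 D96387)
theorem F148356 : act 1 n95347 = n96387 := d15_1 D95347 F148353 (iv2 D95348)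
theorem E14766 : n48256 = n46683 := (c20_7 (iv4 D11029) (iv1 F7486) D11060 D23602 D48436 (iv3 F148351) F148352 (iv1 D46683) (iv4 F36255) F36254 F35591)
theorem F148357 : act 2 n46683 = n23410 := (sb E14766 (iv2 D48256))
theorem F148358 : act 4 n46683 = n96387 := (sb E14766 (iv4 F148352))
def n96388 : Q := act 5 n45005
theorem D96388 : act 5 n45005 = n96388 := rfl
theorem F148359 : act 3 n96388 = n45006 := d6_1 D96388 (iv5 D45006) D45005
theorem F148360 : act 7 n96388 = n95349 := d13_2 (iv7 F70779) D96388 (iv5 D95349)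
def n96389 : Q := act 6 n45005
theorem D96389 : act 6 n45005 = n96389 := rfl
theorem F148361 : act 3 n96389 = n45007 := d7_1 D96389 (iv6 D45007) D45005
def n96390 : Q := act 4 n45006
theorem D96390 : act 4 n45006 = n96390 := rfl
theorem F148363 : act 2 n96390 = n95357 := d1_1 D96390 (iv4 D95357) (iv2 F70780)
theorem F148364 : act 7 n96390 = n95352 := d11_2 (iv7 F70781) D96390 (iv4 D95352)
theorem F148365 : act 1 n96390 = n96013 := d18_6 F66714 F36280 F66560 (iv4 F66780) D45006 D96390 (iv4 D96013) (iv0 F70379) (iv5 D44545)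
def n96391 : Q := act 6 n45006
theorem D96391 : act 6 n45006 = n96391 := rfl
theorem F148366 : act 2 n96391 = n95358 := d3_1 D96391 (iv6 D95358) (iv2 F70780)
def n96392 : Q := act 3 n45008
theorem D96392 : act 3 n45008 = n96392 := rfl
theorem F148367 : act 5 n96392 = n96125 := d6_2 (iv5 F70793) D96392 (iv3 D96125)
theorem F148368 : act 7 n96392 = n95363 := d8_2 (iv7 F71539) D96392 (iv3 D95363)
theorem F148369 : act 2 n96392 = n95465 := d15_3 (iv0 D95465) (iv0 F146996) (iv7 F148368)
def n96393 : Q := act 4 n45008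
theorem D96393 : act 4 n45008 = n96393 := rfl
theorem F148370 : act 2 n96393 = n95361 := d1_1 D96393 (iv4 D95361) (iv2 F71541)
theorem F148371 : act 7 n96393 = n95364 := d11_2 (iv7 F71539) D96393 (iv4 D95364)
theorem F148372 : act 1 n96393 = n47798 := d18_6 D41975 (iv4 F127100) F144885 F144884 (iv5 F70793) D96393 (iv4 D47798) (iv0 F64762) (iv5 D41977)
theorem F148373 : act 0 n96392 = n48438 := d20_4 D47798 (iv1 F148372) (iv4 D96393) D96392 F76176 D48439 (iv1 F138112) (iv4 D89930) F64881 F64762
def n96394 : Q := act 6 n45008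
theorem D96394 : act 6 n45008 = n96394 := rfl
theorem F148374 : act 2 n96394 = n95362 := d3_1 D96394 (iv6 D95362) (iv2 F71541)
def n96395 : Q := act 3 n45009
theorem D96395 : act 3 n45009 = n96395 := rfl
theorem F148375 : act 5 n96395 = n95615 := d6_2 F70787 D96395 F147282
theorem F148376 : act 7 n96395 = n95360 := d8_2 F71540 D96395 (iv3 D95360)
def n96396 : Q := act 4 n45009
theorem D96396 : act 4 n45009 = n96396 := rfl
theorem F148377 : act 2 n96396 = n95364 := d1_1 D96396 (iv4 D95364) F71536
theorem F148378 : act 7 n96396 = n95361 := d11_2 F71540 D96396 (iv4 D95361)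
theorem F148379 : act 0 n96396 = n47798 := d18_2 (iv1 F70786) D96396 (iv4 D47798) (iv5 D23003) (iv4 F29057) (iv0 F66559) (iv4 F66780) F33785 (iv5 F70056)
def n96397 : Q := act 6 n45009
theorem D96397 : act 6 n45009 = n96397 := rfl
theorem F148380 : act 2 n96397 = n95365 := d3_1 D96397 (iv6 D95365) F71536
theorem F148381 : act 5 n96397 = n95617 := d12_1 D96397 (iv6 D95617) (iv5 D44653) D44654 F70787
def n96398 : Q := act 0 n45010
theorem D96398 : act 0 n45010 = n96398 := rfl
theorem F148382 : act 4 n96398 = n48020 := d18_3 (iv1 D45009) D45010 D96398 F75446 F64764 F63240 (iv4 F33568) (iv0 F76086) F70787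
theorem F148383 : act 2 n95366 = n96398 := d1_3 F148382 F75450 (iv4 F146998)
def n96399 : Q := act 1 n45010
theorem D96399 : act 1 n45010 = n96399 := rfl
theorem F148387 : act 7 n96399 = n95366 := d15_2 (iv0 D96398) D96399 F148383
theorem F148388 : act 4 n96399 = n48021 := d18_7 (iv1 F66765) (iv4 D21497) (iv1 D10258) (iv4 F16223) D21488 D45010 D96399 F75451 F75097
theorem F148389 : act 2 n89862 = n96399 := d1_3 F148388 F75454 D89862
def n96401 : Q := act 5 n45010
theorem D96401 : act 5 n45010 = n96401 := rfl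
theorem F148391 : act 4 n96401 = n95395 := d16_2 D45010 D96401 F147025 F70071 F33430 (iv4 F33426) (iv5 F70056) (iv7 D44543) (iv2 F33786)
theorem F148392 : act 7 n95393 = n96401 := d11_0 F148391 (iv7 D95395) D95393
def n96402 : Q := act 7 n45010
theorem D96402 : act 7 n45010 = n96402 := rfl
theorem F148395 : act 5 n96402 = n95393 := d13_1 D96402 F148392 (iv5 D96401)
theorem F148396 : act 1 n89862 = n96402 := d15_1 (iv0 F137936) (iv7 D96402) F70788
theorem F148397 : act 1 n96402 = n95366 := d15_1 F148396 (iv7 F148387) (iv2 F148389)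
def n96403 : Q := act 6 n45011
theorem D96403 : act 6 n45011 = n96403 := rfl
theorem F148399 : act 2 n96403 = n95370 := d3_1 D96403 (iv6 D95370) (iv2 F70789)
theorem F148400 : act 5 n96403 = n48440 := d12_1 D96403 (iv6 D48440) (iv5 D23603) (iv6 F63187) (iv5 F70790)
def n96404 : Q := act 5 n45012
theorem D96404 : act 5 n45012 = n96404 := rfl
theorem F148401 : act 2 n96404 = n48443 := d2_1 D96404 (iv5 D48443) (iv2 F70795)
theorem F148402 : act 3 n96404 = n45013 := d6_1 D96404 (iv5 D45013) D45012
theorem F148403 : act 7 n96404 = n95371 := d13_2 (iv7 F70797) D96404 (iv5 D95371)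
def n96405 : Q := act 6 n45012
theorem D96405 : act 6 n45012 = n96405 := rfl
theorem F148405 : act 3 n96405 = n45014 := d7_1 D96405 (iv6 D45014) D45012
def n96406 : Q := act 4 n45013
theorem D96406 : act 4 n45013 = n96406 := rfl
theorem F148407 : act 2 n96406 = n48454 := d1_1 D96406 (iv4 D48454) (iv2 F70798)
theorem F148408 : act 7 n96406 = n95373 := d11_2 (iv7 F70799) D96406 (iv4 D95373)
def n96407 : Q := act 6 n45013
theorem D96407 : act 6 n45013 = n96407 := rfl
theorem F148409 : act 2 n96407 = n48455 := d3_1 D96407 (iv6 D48455) (iv2 F70798)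
def n96409 : Q := act 5 n45015
theorem D96409 : act 5 n45015 = n96409 := rfl
theorem F148412 : act 2 n96409 = n48480 := d2_1 D96409 (iv5 D48480) (iv2 F70802)
theorem F148414 : act 0 n96409 = n87110 := d17_2 (iv1 F76157) D96409 (iv5 D87110) F61573 (iv5 D19950) D19949 D42268 F139116 F139114
def n96410 : Q := act 3 n45017
theorem D96410 : act 3 n45017 = n96410 := rfl
theorem F148416 : act 7 n96410 = n95378 := d8_2 (iv7 F70810) D96410 (iv3 D95378)
def n96411 : Q := act 5 n45017
theorem D96411 : act 5 n45017 = n96411 := rfl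
theorem F148417 : act 2 n96411 = n48497 := d2_1 D96411 (iv5 D48497) (iv2 F70809)
theorem F148418 : act 7 n96411 = n95379 := d13_2 (iv7 F70810) D96411 (iv5 D95379)
def n96412 : Q := act 3 n45019
theorem D96412 : act 3 n45019 = n96412 := rfl
theorem F148419 : act 4 n96412 = n47654 := d5_2 F125250 D96412 (iv3 D47654) F72216 (iv3 F125251)
def n96413 : Q := act 5 n45019
theorem D96413 : act 5 n45019 = n96413 := rfl
theorem F148421 : act 2 n96413 = n95382 := d2_1 D96413 (iv5 D95382) F70834
def n96414 : Q := act 6 n45019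
theorem D96414 : act 6 n45019 = n96414 := rfl
def n96415 : Q := act 3 n45020
theorem D96415 : act 3 n45020 = n96415 := rfl
theorem F148426 : act 4 n96415 = n48276 := d5_2 (iv4 F70820) D96415 (iv3 D48276) (iv4 D23426) D23425
theorem F148427 : act 7 n96415 = n95381 := d8_2 F70832 D96415 (iv3 D95381)
def n96416 : Q := act 5 n45020
theorem D96416 : act 5 n45020 = n96416 := rfl
theorem F148429 : act 7 n96416 = n95382 := d13_2 F70832 D96416 (iv5 D95382)
def n96417 : Q := act 0 n45021
theorem D96417 : act 0 n45021 = n96417 := rfl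
def n96418 : Q := act 1 n45021
theorem D96418 : act 1 n45021 = n96418 := rfl
def n96419 : Q := act 2 n45021
theorem D96419 : act 2 n45021 = n96419 := rfl
theorem F148431 : act 3 n96419 = n95388 := d0_2 D45021 D96419 (iv2 D95388) (iv3 D44553) (iv2 F33797)
theorem F148432 : act 6 n96419 = n45045 := d3_2 (iv6 F70821) D96419 (iv2 D45045)
def n96420 : Q := act 5 n45021
theorem D96420 : act 5 n45021 = n96420 := rfl
theorem F148433 : act 3 n96420 = n45022 := d6_1 D96420 (iv5 D45022) D45021
def n96422 : Q := act 0 n45022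
theorem D96422 : act 0 n45022 = n96422 := rfl
def n96423 : Q := act 1 n45022
theorem D96423 : act 1 n45022 = n96423 := rfl
theorem F148437 : act 5 n96423 = n48254 := d17_7 F36099 (iv5 D21498) (iv1 D10258) D10259 D21502 D45022 D96423 F75856 F75164
def n96424 : Q := act 4 n45022
theorem D96424 : act 4 n45022 = n96424 := rfl
theorem F148443 : act 2 n96424 = n95393 := d1_1 D96424 (iv4 D95393) (iv2 F70822)
theorem F148444 : act 5 n96424 = n95369 := d9_2 D45022 D96424 F146999 F70056 F33426 (iv5 F33430) (iv4 F70071) (iv5 F147025) (iv4 F148391) (iv5 D96401) (iv4 D45010) (iv5 D21488) F16223 D10259 D21502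
theorem F148445 : act 7 n95368 = n96424 := d13_0 F148444 (iv7 D95369) D95368
def n96425 : Q := act 6 n45022
theorem D96425 : act 6 n45022 = n96425 := rfl
theorem F148446 : act 2 n96425 = n95394 := d3_1 D96425 (iv6 D95394) (iv2 F70822)
theorem F148447 : act 5 n96425 = n45050 := d12_1 D96425 (iv6 D45050) (iv5 D21512) (iv6 F33798) D45022
def n96426 : Q := act 7 n45022
theorem D96426 : act 7 n45022 = n96426 := rfl
theorem F148449 : act 4 n96426 = n95368 := d11_1 D96426 F148445 (iv4 D96424)
theorem F148450 : act 5 n96426 = n45023 := d13_1 D96426 (iv7 D45023) D45022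
def n96427 : Q := act 3 n45024
theorem D96427 : act 3 n45024 = n96427 := rfl
theorem F148453 : act 4 n96427 = n81897 := d5_2 D45024 D96427 (iv3 D81897) (iv4 D37503) (iv3 F33807)
theorem F148454 : act 5 n96427 = n87244 := d6_2 (iv5 F70838) D96427 (iv3 D87244)
theorem F148455 : act 7 n96427 = n81502 := d8_2 (iv7 F70837) D96427 (iv3 D81502)
def n96428 : Q := act 6 n45024
theorem D96428 : act 6 n45024 = n96428 := rfl
theorem F148456 : act 2 n96428 = n48514 := d3_1 D96428 (iv6 D48514) (iv2 F70836)
theorem F148457 : act 4 n96428 = n45025 := d10_1 D96428 (iv6 D45025) D45024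
def n96429 : Q := act 1 n45025
theorem D96429 : act 1 n45025 = n96429 := rfl
theorem F148458 : act 1 n96429 = n48517 := d15_1 D96429 (iv7 D48517) (iv2 F70841)
theorem F148459 : act 7 n96429 = n48515 := d15_2 (iv0 F70843) D96429 (iv2 F117031)
theorem F148460 : act 5 n58181 = n96429 := d21_0 (iv1 D96429) (iv5 F71164) (iv6 D45160) (iv1 D21558) (iv6 F33919) (iv5 D21556) (iv1 F126007) D18824 D39803 F129685
theorem F148461 : act 6 n58673 = n96429 := d21_3 (iv5 F54967) (iv1 F113872) (iv5 F126046) (iv1 D96429) (iv6 D45025) (iv5 D21504) F16329 D10299 (iv6 F33919) (iv1 F116794)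
theorem F148462 : act 2 n96429 = n48516 := d3_1 F148461 (iv6 F126017) F126015
def n96430 : Q := act 7 n45025
theorem D96430 : act 7 n45025 = n96430 := rfl
theorem F148463 : act 2 n96430 = n48517 := d4_1 D96430 (iv7 D48517) (iv2 F70841)
theorem F148465 : act 5 n96430 = n84372 := d13_1 D96430 F129478 F71164
theorem F148466 : act 6 n96430 = n58119 := d14_1 D96430 (iv7 D58119) F44715 (iv7 F33808) D45025
theorem F148467 : act 1 n48516 = n96430 := d15_1 D48516 (iv7 D96430) F70841
theorem F148468 : act 1 n96430 = n48515 := d15_1 F148467 (iv7 F148459) F148462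
def n96434 : Q := act 5 n45026
theorem D96434 : act 5 n45026 = n96434 := rfl
theorem F148476 : act 3 n96434 = n45027 := d6_1 D96434 (iv5 D45027) D45026
theorem F148477 : act 7 n96434 = n87183 := d13_2 (iv7 F70845) D96434 (iv5 D87183)
def n96437 : Q := act 1 n45028
theorem D96437 : act 1 n45028 = n96437 := rfl
theorem F148482 : act 1 n96437 = n48140 := d15_1 D96437 F75628 (iv2 F70851)
theorem F148484 : act 4 n90924 = n96437 := d20_0 (iv1 D96437) F70852 F33816 F36119 (iv3 F75193) (iv4 F138274) (iv1 F138283) F134946 (iv3 F134885) (iv1 F139929)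
theorem F148487 : act 0 n48430 = n48126 := d18_2 F75228 (iv4 F76162) (iv4 F134875) F139932 F148484 F148482 F75627 (iv0 F36339) D47904
def n96439 : Q := act 7 n45028
theorem D96439 : act 7 n45028 = n96439 := rfl
theorem F148490 : act 4 n96439 = n45030 := d11_1 D96439 (iv7 D45030) (iv4 F70852)
theorem F148491 : act 6 n96439 = n48002 := d14_1 D96439 (iv7 D48002) F36239 (iv7 F33812) D45028
theorem F148492 : act 1 n48528 = n96439 := d15_1 D48528 (iv7 D96439) F70851
theorem F148494 : act 0 n95377 = n93035 := d18_2 (iv1 F75610) (iv4 F147011) F143489 F135375 F135378 F148492 F148490 F70862 (iv5 F75608)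
def n96441 : Q := act 0 n45031
theorem D96441 : act 0 n45031 = n96441 := rfl
theorem F148500 : act 1 n87054 = n96441 := d15_0 (iv0 D96441) F70864 D87054
def n96442 : Q := act 1 n45031
theorem D96442 : act 1 n45031 = n96442 := rfl
def n96443 : Q := act 2 n45031
theorem D96443 : act 2 n45031 = n96443 := rfl
theorem F148501 : act 3 n96443 = n48547 := d0_2 D45031 D96443 (iv2 D48547) (iv3 D23683) (iv2 F33817)
theorem F148502 : act 4 n96443 = n96443 := d1_2 F70863 D96443 (iv2 D96443)
theorem F148503 : act 7 n96443 = n87054 := d4_2 (iv7 F70864) D96443 (iv2 D87054)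
theorem F148504 : act 1 n96443 = n87052 := d15_0 (iv0 D87052) (iv7 F70864) D96443
theorem F148506 : act 1 n87053 = n96443 := d15_1 D87053 F148503 (iv2 D87054)
def n96444 : Q := act 5 n45031
theorem D96444 : act 5 n45031 = n96444 := rfl
theorem F148507 : act 3 n96444 = n45032 := d6_1 D96444 (iv5 D45032) D45031
theorem F148508 : act 7 n96444 = n87055 := d13_2 (iv7 F70864) D96444 (iv5 D87055)
def n96445 : Q := act 6 n45031
theorem D96445 : act 6 n45031 = n96445 := rfl
theorem F148509 : act 3 n96445 = n45033 := d7_1 D96445 (iv6 D45033) D45031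
def n96446 : Q := act 6 n45032
theorem D96446 : act 6 n45032 = n96446 := rfl
theorem F148511 : act 2 n96446 = n48551 := d3_1 D96446 (iv6 D48551) (iv2 F70865)
theorem F148512 : act 4 n96446 = n75187 := d10_1 D96446 (iv6 D75187) (iv4 F70866)
def n96447 : Q := act 1 n45033
theorem D96447 : act 1 n45033 = n96447 := rfl
theorem F148515 : act 4 n96447 = n93751 := d18_7 (iv1 F139929) F148484 (iv1 D96437) F70852 (iv5 F33823) (iv4 F70871) D96447 F144496 F135400
def n96448 : Q := act 5 n45033
theorem D96448 : act 5 n45033 = n96448 := rfl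
theorem F148517 : act 2 n96448 = n48554 := d2_1 D96448 (iv5 D48554) (iv2 F70870)
def n96450 : Q := act 2 n45034
theorem D96450 : act 2 n45034 = n96450 := rfl
theorem F148523 : act 7 n45035 = n96450 := d15_2 (iv0 D45034) D45035 (iv2 D96450)
def n96451 : Q := act 4 n45034
theorem D96451 : act 4 n45034 = n96451 := rfl
theorem F148524 : act 0 n96451 = n95409 := d20_1 D96451 F147034 F144501 (iv1 F142339) F144498 (iv4 F148515) (iv1 D96447) F70871 F33822 D45034
def n96452 : Q := act 7 n45034
theorem D96452 : act 7 n45034 = n96452 := rfl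
def n96454 : Q := act 0 n45037
theorem D96454 : act 0 n45037 = n96454 := rfl
theorem F148528 : act 3 n96454 = n48571 := d20_5 F36831 F31676 (iv4 F33824) D45037 D96454 (iv4 D48571) (iv1 D23689) (iv4 F36835) (iv3 D23683) D23682
theorem F148529 : act 1 n95404 = n96454 := d15_0 (iv0 D96454) F70881 D95404
theorem F148530 : act 7 n87165 = n96454 := d8_0 F148528 F135679 D87165
def n96455 : Q := act 1 n45037
theorem D96455 : act 1 n45037 = n96455 := rfl
def n96456 : Q := act 2 n45037
theorem D96456 : act 2 n45037 = n96456 := rfl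
theorem F148531 : act 3 n96456 = n95398 := d0_2 D45037 D96456 (iv2 D95398) (iv3 D44556) F33826
theorem F148532 : act 4 n96456 = n47723 := d1_2 (iv4 F70880) D96456 (iv2 D47723)
theorem F148533 : act 7 n96456 = n95404 := d4_2 (iv7 F70881) D96456 (iv2 D95404)
theorem F148534 : act 1 n96456 = n87165 := d15_0 (iv0 F133760) (iv7 F70881) D96456
theorem F148535 : act 1 n96455 = n95404 := d15_1 D96455 (iv7 F148533) (iv2 D96456)
theorem F148536 : act 2 n87165 = n96455 := d15_3 F148535 F148529 (iv7 F148530)
theorem F148537 : act 7 n95403 = n96455 := d15_2 (iv0 F133760) D95403 (iv2 F148536)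
theorem F148538 : act 2 n96454 = n95403 := d4_3 F148537 (iv2 F148536) F148530
theorem F148539 : act 1 n95403 = n96456 := d15_0 F148534 F148530 F148538
def n96457 : Q := act 5 n45037
theorem D96457 : act 5 n45037 = n96457 := rfl
theorem F148540 : act 3 n96457 = n45038 := d6_1 D96457 (iv5 D45038) D45037
def n96458 : Q := act 6 n45037
theorem D96458 : act 6 n45037 = n96458 := rfl
def n96459 : Q := act 6 n45038
theorem D96459 : act 6 n45038 = n96459 := rfl
theorem F148544 : act 2 n96459 = n95401 := d3_1 D96459 (iv6 D95401) (iv2 F70882)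
def n96460 : Q := act 5 n45039
theorem D96460 : act 5 n45039 = n96460 := rfl
theorem F148546 : act 0 n96460 = n47880 := d17_2 F70888 D96460 (iv5 D47880) (iv4 D23046) (iv5 D10867) (iv0 D4952) D4954 D10875 D23074
def n96462 : Q := act 0 n45040
theorem D96462 : act 0 n45040 = n96462 := rfl
theorem F148553 : act 1 n95398 = n96462 := d15_0 (iv0 D96462) F70890 D95398
def n96463 : Q := act 1 n45040
theorem D96463 : act 1 n45040 = n96463 := rfl
def n96464 : Q := act 2 n45040
theorem D96464 : act 2 n45040 = n96464 := rfl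
theorem F148554 : act 3 n96464 = n95404 := d0_2 D45040 D96464 (iv2 D95404) (iv3 D44559) F33831
theorem F148555 : act 4 n96464 = n88410 := d1_2 (iv4 F70889) D96464 (iv2 D88410)
theorem F148556 : act 7 n96464 = n95398 := d4_2 (iv7 F70890) D96464 (iv2 D95398)
theorem F148557 : act 1 n96464 = n95396 := d15_0 (iv0 D95396) (iv7 F70890) D96464
theorem F148558 : act 1 n96463 = n95398 := d15_1 D96463 (iv7 F148556) (iv2 D96464)
theorem F148559 : act 1 n95397 = n96464 := d15_1 D95397 F148556 (iv2 D95398)
def n96465 : Q := act 5 n45040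
theorem D96465 : act 5 n45040 = n96465 := rfl
theorem F148560 : act 3 n96465 = n45041 := d6_1 D96465 (iv5 D45041) D45040
theorem F148561 : act 7 n96465 = n95399 := d13_2 (iv7 F70890) D96465 (iv5 D95399)
def n96466 : Q := act 6 n45040
theorem D96466 : act 6 n45040 = n96466 := rfl
def n96467 : Q := act 6 n45041
theorem D96467 : act 6 n45041 = n96467 := rfl
theorem F148564 : act 2 n96467 = n95407 := d3_1 D96467 (iv6 D95407) (iv2 F70891)
def n96471 : Q := act 3 n45043
theorem D96471 : act 3 n45043 = n96471 := rfl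
def n96472 : Q := act 4 n45043
theorem D96472 : act 4 n45043 = n96472 := rfl
def n96473 : Q := act 5 n45043
theorem D96473 : act 5 n45043 = n96473 := rfl
def n96474 : Q := act 6 n45043
theorem D96474 : act 6 n45043 = n96474 := rfl
def n96475 : Q := act 3 n45044
theorem D96475 : act 3 n45044 = n96475 := rfl
theorem F148573 : act 4 n96475 = n48618 := d5_2 F138347 D96475 (iv3 F138189) F138190 D90041
theorem F148574 : act 7 n96475 = n87146 := d8_2 (iv7 F138348) D96475 F135673
theorem F148575 : act 0 n87117 = n91115 := d20_10 (iv4 D91115) (iv1 F139077) F139075 (iv3 F133782) (iv1 F133786) D96475 F148573 (iv1 F135651) F133751 D87117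
theorem F148576 : act 2 n48619 = n96475 := d4_3 F148574 (iv2 F138214) F138215
def n96476 : Q := act 5 n45044
theorem D96476 : act 5 n45044 = n96476 := rfl
def n96477 : Q := act 6 n45044
theorem D96477 : act 6 n45044 = n96477 := rfl
def n96478 : Q := act 5 n45045
theorem D96478 : act 5 n45045 = n96478 := rfl
theorem F148579 : act 2 n96478 = n45046 := d2_1 D96478 (iv5 D45046) D45045
def n96479 : Q := act 0 n45046
theorem D96479 : act 0 n45046 = n96479 := rfl
def n96480 : Q := act 1 n45046
theorem D96480 : act 1 n45046 = n96480 := rfl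
def n96481 : Q := act 4 n45046
theorem D96481 : act 4 n45046 = n96481 := rfl
def n96482 : Q := act 6 n45046
theorem D96482 : act 6 n45046 = n96482 := rfl
theorem F148581 : act 3 n96482 = n45050 := d7_1 D96482 (iv6 D45050) (iv3 F70898)
def n96484 : Q := act 6 n45047
theorem D96484 : act 6 n45047 = n96484 := rfl
theorem F148584 : act 2 n96484 = n95423 := d3_1 D96484 (iv6 D95423) F70901
def n96485 : Q := act 3 n45048
theorem D96485 : act 3 n45048 = n96485 := rfl
theorem F148586 : act 7 n96485 = n95422 := d8_2 (iv7 F70904) D96485 (iv3 D95422)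
def n96486 : Q := act 6 n45048
theorem D96486 : act 6 n45048 = n96486 := rfl
theorem F148587 : act 2 n96486 = n95425 := d3_1 D96486 (iv6 D95425) F70906
def n96487 : Q := act 3 n45049
theorem D96487 : act 3 n45049 = n96487 := rfl
theorem F148588 : act 5 n96487 = n75179 := d6_2 (iv5 F70908) D96487 (iv3 D75179)
theorem F148589 : act 7 n96487 = n95289 := d8_2 (iv7 F70909) D96487 F146937
def n96488 : Q := act 6 n45049
theorem D96488 : act 6 n45049 = n96488 := rfl
theorem F148590 : act 2 n96488 = n95427 := d3_1 D96488 (iv6 D95427) (iv2 F70907)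
theorem F148591 : act 4 n96488 = n45050 := d10_1 D96488 (iv6 D45050) D45049
def n96489 : Q := act 0 n45050
theorem D96489 : act 0 n45050 = n96489 := rfl
def n96490 : Q := act 1 n45050
theorem D96490 : act 1 n45050 = n96490 := rfl
theorem F148592 : act 1 n96490 = n95430 := d15_1 D96490 (iv7 D95430) (iv2 F70912)
def n96491 : Q := act 7 n45050
theorem D96491 : act 7 n45050 = n96491 := rfl
theorem F148593 : act 2 n96491 = n95430 := d4_1 D96491 (iv7 D95430) (iv2 F70912)
theorem F148594 : act 1 n95430 = n96489 := d15_0 (iv0 D96489) D96491 F148593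
theorem F148595 : act 1 n95429 = n96491 := d15_1 D95429 (iv7 D96491) F70912
theorem F148596 : act 1 n96491 = n95428 := d15_0 (iv0 D95428) D95430 (iv2 F148593)
def n96492 : Q := act 3 n45051
theorem D96492 : act 3 n45051 = n96492 := rfl
theorem F148597 : act 4 n96492 = n56942 := d5_2 F75463 D96492 (iv3 F115061) (iv4 F143078) F143076
theorem F148598 : act 7 n96492 = n81544 := d8_2 (iv7 F75466) D96492 (iv3 D81544)
theorem F148599 : act 0 n96492 = n81654 := d19_4 (iv1 F34311) D45722 F75463 D96492 F125560 (iv4 D57575) F44417 (iv1 F43077) F43075 (iv4 D17048) F12733 (iv1 F12262) (iv5 F7170) F6424 (iv3 D1747) D1745 (iv5 F3351) (iv4 F7331) (iv3 F17163)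
def n96493 : Q := act 6 n45051
theorem D96493 : act 6 n45051 = n96493 := rfl
theorem F148600 : act 2 n96493 = n81547 := d3_1 D96493 (iv6 D81547) (iv2 F75465)
def n96494 : Q := act 3 n45052
theorem D96494 : act 3 n45052 = n96494 := rfl
theorem F148602 : act 4 n96494 = n79329 := d20_6 (iv4 D15532) (iv1 F26483) D15796 D32832 (iv1 F70919) D96494 (iv1 F121920) F107240 (iv3 F58255) (iv1 D32659)
theorem F148603 : act 0 n81671 = n96494 := d20_4 (iv4 F61205) (iv1 F114863) F114864 D81671 (iv3 D96494) (iv4 F75474) F75472 D87997 F135001 (iv1 D70357)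
def n96495 : Q := act 6 n45052
theorem D96495 : act 6 n45052 = n96495 := rfl
theorem F148604 : act 2 n96495 = n81545 := d3_1 D96495 (iv6 D81545) F75470
def n96496 : Q := act 6 n45053
theorem D96496 : act 6 n45053 = n96496 := rfl
theorem F148605 : act 2 n96496 = n45054 := d3_1 D96496 (iv6 D45054) D45053
theorem F148606 : act 3 n96496 = n45221 := d7_1 D96496 (iv6 D45221) (iv3 F70914)
theorem F148607 : act 4 n96496 = n70599 := d10_1 D96496 (iv6 D70599) (iv4 F70915)
def n96498 : Q := act 1 n45054
theorem D96498 : act 1 n45054 = n96498 := rfl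
def n96499 : Q := act 5 n45054
theorem D96499 : act 5 n45054 = n96499 := rfl
theorem F148608 : act 3 n96499 = n45056 := d6_1 D96499 (iv5 D45056) (iv3 F70922)
theorem F148609 : act 6 n96499 = n95882 := d12_2 D45054 D96499 (iv5 D95882) (iv6 D44766) (iv5 F33834)
def n96500 : Q := act 7 n45054
theorem D96500 : act 7 n45054 = n96500 := rfl
theorem F148610 : act 3 n96500 = n45057 := d8_1 D96500 (iv7 D45057) (iv3 F70922)
theorem F148611 : act 4 n96500 = n81928 := d11_1 D96500 (iv7 D81928) (iv4 F70923)
def n96502 : Q := act 5 n45055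
theorem D96502 : act 5 n45055 = n96502 := rfl
theorem F148615 : act 2 n96502 = n45238 := d2_1 D96502 (iv5 D45238) (iv2 F118268)
theorem F148616 : act 7 n96502 = n45234 := d13_2 (iv7 F118269) D96502 (iv5 D45234)
def n96503 : Q := act 0 n45056
theorem D96503 : act 0 n45056 = n96503 := rfl
theorem F148617 : act 5 n96503 = n85622 := d17_3 (iv1 D45055) D45056 D96503 F131274 F122084 (iv0 F124043) (iv5 D40683) F120755 (iv4 F118318)
theorem F148620 : act 1 n45243 = n96503 := d17_6 F116972 (iv5 F116970) (iv1 F70945) F33989 (iv4 F33983) (iv5 F71307) F148617 (iv0 F148175) F148174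
def n96504 : Q := act 1 n45056
theorem D96504 : act 1 n45056 = n96504 := rfl
theorem F148623 : act 5 n58128 = n96504 := d21_6 D17930 F29099 (iv5 D13228) D13229 D27709 D58128 (iv1 D96504) (iv5 D45056) (iv6 D21514) F16263
def n96507 : Q := act 3 n45060
theorem D96507 : act 3 n45060 = n96507 := rfl
def n96509 : Q := act 1 n45061
theorem D96509 : act 1 n45061 = n96509 := rfl
theorem F148637 : act 5 n85631 = n96509 := d21_0 (iv1 D96509) (iv5 D45061) (iv6 F60008) F129454 (iv6 D26841) D26840 (iv1 F113879) (iv5 D39560) D39561 D85631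
theorem F148639 : act 3 n96509 = n81944 := d6_1 F148637 (iv5 F126303) F131303
def n96511 : Q := act 3 n45064
theorem D96511 : act 3 n45064 = n96511 := rfl
def n96513 : Q := act 4 n45065
theorem D96513 : act 4 n45065 = n96513 := rfl
theorem F148647 : act 2 n96513 = n45281 := d1_1 D96513 (iv4 D45281) (iv2 F116987)
theorem F148649 : act 7 n96513 = n45265 := d11_2 (iv7 F116988) D96513 (iv4 D45265)
def n96514 : Q := act 4 n45067
theorem D96514 : act 4 n45067 = n96514 := rfl
theorem F148650 : act 2 n96514 = n45287 := d1_1 D96514 (iv4 D45287) (iv2 F116969)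
def n96516 : Q := act 6 n45068
theorem D96516 : act 6 n45068 = n96516 := rfl
theorem F148657 : act 2 n96516 = n45293 := d3_1 D96516 (iv6 D45293) (iv2 F117009)
theorem F148660 : act 7 n96516 = n45266 := d14_2 (iv7 F117010) D96516 (iv6 D45266) (iv7 F116988) (iv6 F70935)
def n96524 : Q := act 6 n45073
theorem D96524 : act 6 n45073 = n96524 := rfl
theorem F148679 : act 2 n96524 = n89085 := d3_1 D96524 (iv6 D89085) F70952
theorem F148680 : act 3 n96524 = n45075 := d7_1 D96524 (iv6 D45075) D45073
theorem F148681 : act 4 n96524 = n82485 := d10_1 D96524 (iv6 D82485) (iv4 F70951)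
def n96525 : Q := act 6 n45074
theorem D96525 : act 6 n45074 = n96525 := rfl
theorem F148682 : act 2 n96525 = n95490 := d3_1 D96525 (iv6 D95490) (iv2 F70959)
theorem F148683 : act 4 n96525 = n45075 := d10_1 D96525 (iv6 D45075) D45074
def n96526 : Q := act 0 n45075
theorem D96526 : act 0 n45075 = n96526 := rfl
def n96527 : Q := act 1 n45075
theorem D96527 : act 1 n45075 = n96527 := rfl
def n96528 : Q := act 5 n45075
theorem D96528 : act 5 n45075 = n96528 := rfl
theorem F148685 : act 2 n96528 = n95494 := d2_1 D96528 (iv5 D95494) (iv2 F70962)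
def n96529 : Q := act 7 n45075
theorem D96529 : act 7 n45075 = n96529 := rfl
theorem F148686 : act 2 n96529 = n95495 := d4_1 D96529 (iv7 D95495) (iv2 F70962)
theorem F148687 : act 6 n96529 = n95495 := d14_1 D96529 (iv7 D95495) (iv6 D44611) (iv7 F70956) D45075
theorem F148688 : act 1 n95495 = n96526 := d15_0 (iv0 D96526) D96529 F148686
theorem F148690 : act 1 n96529 = n95492 := d15_0 (iv0 D95492) D95495 (iv2 F148686)
def n96530 : Q := act 6 n45076
theorem D96530 : act 6 n45076 = n96530 := rfl
theorem F148691 : act 2 n96530 = n95497 := d3_1 D96530 (iv6 D95497) F70966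
theorem F148692 : act 4 n96530 = n76638 := d10_1 D96530 (iv6 D76638) (iv4 F70964)
def n96531 : Q := act 0 n45077
theorem D96531 : act 0 n45077 = n96531 := rfl
def n96532 : Q := act 1 n45077
theorem D96532 : act 1 n45077 = n96532 := rfl
theorem F148693 : act 1 n96532 = n95501 := d15_1 D96532 (iv7 D95501) (iv2 F70970)
def n96533 : Q := act 5 n45077
theorem D96533 : act 5 n45077 = n96533 := rfl
theorem F148694 : act 2 n96533 = n95500 := d2_1 D96533 (iv5 D95500) (iv2 F70970)
theorem F148695 : act 3 n96533 = n45084 := d6_1 D96533 (iv5 D45084) (iv3 F70971)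
theorem F148696 : act 6 n96533 = n45080 := d12_2 D45077 D96533 (iv5 D45080) (iv6 D21522) D21521
def n96534 : Q := act 7 n45077
theorem D96534 : act 7 n45077 = n96534 := rfl
theorem F148697 : act 2 n96534 = n95501 := d4_1 D96534 (iv7 D95501) (iv2 F70970)
theorem F148698 : act 3 n96534 = n45085 := d8_1 D96534 (iv7 D45085) (iv3 F70971)
theorem F148699 : act 6 n96534 = n95501 := d14_1 D96534 (iv7 D95501) (iv6 D44613) (iv7 F33853) D45077
theorem F148700 : act 1 n95501 = n96531 := d15_0 (iv0 D96531) D96534 F148697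
theorem F148701 : act 1 n95499 = n96534 := d15_1 D95499 (iv7 D96534) F70970
theorem F148702 : act 1 n96534 = n95498 := d15_0 (iv0 D95498) D95501 (iv2 F148697)
def n96535 : Q := act 2 n45078
theorem D96535 : act 2 n45078 = n96535 := rfl
theorem F148703 : act 7 n45079 = n96535 := d15_2 (iv0 D45078) D45079 (iv2 D96535)
def n96536 : Q := act 3 n45078
theorem D96536 : act 3 n45078 = n96536 := rfl
theorem F148704 : act 4 n96536 = n89098 := d20_6 (iv4 D21533) (iv1 D10281) (iv4 F16279) (iv3 F33855) D45078 D96536 (iv1 F136814) F70451 F71011 (iv1 F71009)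
theorem F148705 : act 0 n95992 = n96536 := d20_10 F148704 (iv1 F136814) F70451 F71011 (iv1 F71009) (iv3 F69436) (iv4 D44089) D44086 F144797 D95992
def n96537 : Q := act 4 n45078
theorem D96537 : act 4 n45078 = n96537 := rfl
def n96538 : Q := act 5 n45078
theorem D96538 : act 5 n45078 = n96538 := rfl
def n96539 : Q := act 6 n45078
theorem D96539 : act 6 n45078 = n96539 := rfl
def n96540 : Q := act 7 n45078
theorem D96540 : act 7 n45078 = n96540 := rfl
def n96541 : Q := act 3 n45079
theorem D96541 : act 3 n45079 = n96541 := rfl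
theorem F148707 : act 4 n96541 = n82488 := d20_6 (iv4 D10183) (iv1 F15994) (iv4 F33464) (iv3 F70142) (iv1 F70972) D96541 (iv1 D82488) (iv4 F70187) F70186 F66216
def n96542 : Q := act 4 n45079
theorem D96542 : act 4 n45079 = n96542 := rfl
def n96543 : Q := act 5 n45079
theorem D96543 : act 5 n45079 = n96543 := rfl
def n96544 : Q := act 6 n45079
theorem D96544 : act 6 n45079 = n96544 := rfl
def n96545 : Q := act 0 n45080
theorem D96545 : act 0 n45080 = n96545 := rfl
def n96546 : Q := act 1 n45080
theorem D96546 : act 1 n45080 = n96546 := rfl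
theorem F148708 : act 1 n96546 = n95514 := d15_1 D96546 (iv7 D95514) (iv2 F70973)
def n96547 : Q := act 4 n45080
theorem D96547 : act 4 n45080 = n96547 := rfl
theorem F148709 : act 2 n96547 = n95513 := d1_1 D96547 (iv4 D95513) (iv2 F70973)
def n96548 : Q := act 7 n45080
theorem D96548 : act 7 n45080 = n96548 := rfl
theorem F148710 : act 2 n96548 = n95514 := d4_1 D96548 (iv7 D95514) (iv2 F70973)
theorem F148711 : act 3 n96548 = n45091 := d8_1 D96548 (iv7 D45091) (iv3 F70974)
theorem F148713 : act 1 n95514 = n96545 := d15_0 (iv0 D96545) D96548 F148710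
theorem F148714 : act 1 n95512 = n96548 := d15_1 D95512 (iv7 D96548) F70973
theorem F148715 : act 1 n96548 = n95511 := d15_0 (iv0 D95511) D95514 (iv2 F148710)
def n96549 : Q := act 2 n45082
theorem D96549 : act 2 n45082 = n96549 := rfl
def n96550 : Q := act 3 n45082
theorem D96550 : act 3 n45082 = n96550 := rfl
def n96551 : Q := act 4 n45082
theorem D96551 : act 4 n45082 = n96551 := rfl
def n96552 : Q := act 5 n45082
theorem D96552 : act 5 n45082 = n96552 := rfl
def n96553 : Q := act 6 n45082
theorem D96553 : act 6 n45082 = n96553 := rfl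
theorem F148717 : act 5 n96553 = n48043 := d21_6 (iv5 D10168) (iv1 F6748) D10278 D21523 D45082 D96553 (iv1 D48043) (iv5 D23181) (iv6 D10913) (iv1 F16007)
def n96554 : Q := act 7 n45082
theorem D96554 : act 7 n45082 = n96554 := rfl
def n96555 : Q := act 3 n45083
theorem D96555 : act 3 n45083 = n96555 := rfl
def n96556 : Q := act 4 n45083
theorem D96556 : act 4 n45083 = n96556 := rfl
def n96557 : Q := act 5 n45083
theorem D96557 : act 5 n45083 = n96557 := rfl
def n96558 : Q := act 6 n45083
theorem D96558 : act 6 n45083 = n96558 := rfl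
def n96559 : Q := act 0 n45084
theorem D96559 : act 0 n45084 = n96559 := rfl
def n96560 : Q := act 1 n45084
theorem D96560 : act 1 n45084 = n96560 := rfl
theorem F148719 : act 1 n96560 = n45451 := d15_1 D96560 (iv7 D45451) (iv2 F70983)
theorem F148720 : act 5 n47819 = n96560 := d21_6 F16012 (iv1 D4949) D4950 D10859 D23012 D47819 (iv1 D96560) (iv5 D45084) (iv6 D21523) F16276
def n96561 : Q := act 4 n45084
theorem D96561 : act 4 n45084 = n96561 := rfl
theorem F148721 : act 2 n96561 = n45450 := d1_1 D96561 (iv4 D45450) (iv2 F70983)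
theorem F148722 : act 6 n96561 = n45090 := d10_2 (iv6 F70984) D96561 (iv4 D45090)
def n96562 : Q := act 7 n45084
theorem D96562 : act 7 n45084 = n96562 := rfl
theorem F148723 : act 2 n96562 = n45451 := d4_1 D96562 (iv7 D45451) (iv2 F70983)
theorem F148724 : act 5 n96562 = n45085 := d13_1 D96562 (iv7 D45085) D45084
theorem F148725 : act 1 n45451 = n96559 := d15_0 (iv0 D96559) D96562 F148723
theorem F148726 : act 1 n45449 = n96562 := d15_1 D45449 (iv7 D96562) F70983
theorem F148727 : act 1 n96562 = n45448 := d15_0 (iv0 D45448) D45451 (iv2 F148723)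
def n96563 : Q := act 0 n45086
theorem D96563 : act 0 n45086 = n96563 := rfl
theorem F148728 : act 3 n96563 = n93986 := d20_5 F62597 (iv1 F62913) F62909 D45086 D96563 (iv4 F145125) (iv1 D94145) F69265 (iv3 D21712) D21710
theorem F148729 : act 1 n45454 = n96563 := d15_0 (iv0 D96563) F70992 D45454
def n96564 : Q := act 1 n45086
theorem D96564 : act 1 n45086 = n96564 := rfl
def n96565 : Q := act 2 n45086
theorem D96565 : act 2 n45086 = n96565 := rfl
theorem F148730 : act 3 n96565 = n45466 := d0_2 D45086 D96565 (iv2 D45466) (iv3 D21691) (iv2 F35948)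
theorem F148731 : act 4 n96565 = n88970 := d1_2 (iv4 F70991) D96565 (iv2 D88970)
theorem F148732 : act 7 n96565 = n45454 := d4_2 (iv7 F70992) D96565 (iv2 D45454)
theorem F148734 : act 1 n96564 = n45454 := d15_1 D96564 (iv7 F148732) (iv2 D96565)
theorem F148735 : act 1 n45453 = n96565 := d15_1 D45453 F148732 (iv2 D45454)
def n96566 : Q := act 5 n45086
theorem D96566 : act 5 n45086 = n96566 := rfl
theorem F148736 : act 3 n96566 = n45087 := d6_1 D96566 (iv5 D45087) D45086
def n96567 : Q := act 4 n45087
theorem D96567 : act 4 n45087 = n96567 := rfl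
theorem F148738 : act 2 n96567 = n45469 := d1_1 D96567 (iv4 D45469) (iv2 F70993)
theorem F148739 : act 7 n96567 = n45459 := d11_2 (iv7 F70994) D96567 (iv4 D45459)
def n96568 : Q := act 6 n45087
theorem D96568 : act 6 n45087 = n96568 := rfl
theorem F148741 : act 5 n96568 = n48393 := d12_1 D96568 (iv6 D48393) (iv5 F64867) F64869 D45087
def n96569 : Q := act 3 n45088
theorem D96569 : act 3 n45088 = n96569 := rfl
theorem F148742 : act 7 n96569 = n45475 := d8_2 (iv7 F71003) D96569 (iv3 D45475)
def n96570 : Q := act 4 n45088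
theorem D96570 : act 4 n45088 = n96570 := rfl
theorem F148743 : act 2 n96570 = n45472 := d1_1 D96570 (iv4 D45472) (iv2 F71004)
theorem F148744 : act 7 n96570 = n45476 := d11_2 (iv7 F71003) D96570 (iv4 D45476)
def n96571 : Q := act 6 n45088
theorem D96571 : act 6 n45088 = n96571 := rfl
theorem F148745 : act 2 n96571 = n45474 := d3_1 D96571 (iv6 D45474) (iv2 F71004)
def n96572 : Q := act 3 n45089
theorem D96572 : act 3 n45089 = n96572 := rfl
theorem F148747 : act 5 n96572 = n48050 := d6_2 F70996 D96572 F75505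
theorem F148748 : act 7 n96572 = n45471 := d8_2 F71005 D96572 (iv3 D45471)
def n96573 : Q := act 4 n45089
theorem D96573 : act 4 n45089 = n96573 := rfl
theorem F148749 : act 2 n96573 = n45476 := d1_1 D96573 (iv4 D45476) (iv2 F70997)
theorem F148750 : act 7 n96573 = n45472 := d11_2 F71005 D96573 (iv4 D45472)
def n96574 : Q := act 6 n45089
theorem D96574 : act 6 n45089 = n96574 := rfl
theorem F148751 : act 2 n96574 = n45477 := d3_1 D96574 (iv6 D45477) (iv2 F70997)
def n96575 : Q := act 0 n45090
theorem D96575 : act 0 n45090 = n96575 := rfl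
theorem F148753 : act 4 n96575 = n87475 := d18_3 (iv1 D45089) D45090 D96575 F134290 F76145 (iv0 F63301) (iv4 F70801) (iv0 F75512) F70996
theorem F148754 : act 1 n45482 = n96575 := d18_6 (iv1 F63064) (iv4 D21529) (iv1 F16287) (iv4 F16479) (iv5 F34147) (iv4 F71725) F148753 (iv0 D87475) (iv5 D40699)
def n96579 : Q := act 7 n45090
theorem D96579 : act 7 n45090 = n96579 := rfl
theorem F148760 : act 2 n96579 = n45482 := d4_1 D96579 (iv7 D45482) (iv2 F70998)
theorem F148761 : act 4 n96579 = n45091 := d11_1 D96579 (iv7 D45091) D45090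
theorem F148763 : act 1 n45479 = n96579 := d15_1 D45479 (iv7 D96579) F70998
theorem F148764 : act 1 n96579 = n45478 := d15_0 (iv0 D45478) D45482 (iv2 F148760)
def n96580 : Q := act 6 n45091
theorem D96580 : act 6 n45091 = n96580 := rfl
theorem F148766 : act 5 n96580 = n95544 := d12_1 D96580 (iv6 D95544) F70167 (iv6 F33863) (iv5 F71000)
def n96581 : Q := act 5 n45092
theorem D96581 : act 5 n45092 = n96581 := rfl
theorem F148767 : act 2 n96581 = n45491 := d2_1 D96581 (iv5 D45491) F71008
theorem F148768 : act 3 n96581 = n96110 := d6_1 D96581 (iv5 D96110) F71011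
theorem F148769 : act 7 n96581 = n45327 := d13_2 (iv7 F71010) D96581 (iv5 D45327)
theorem F148770 : act 0 n96581 = n48092 := d17_2 D45092 D96581 (iv5 D48092) F36309 F33872 F33871 F16485 F16287 D21529
def n96582 : Q := act 0 n45093
theorem D96582 : act 0 n45093 = n96582 := rfl
theorem F148772 : act 3 n96582 = n96053 := d20_5 F16279 D10280 D21529 D45093 D96582 F147666 (iv1 D88969) (iv4 F70991) (iv3 D45086) (iv1 D21524)
theorem F148773 : act 4 n96582 = n96136 := d20_0 (iv1 F147791) (iv4 F148707) (iv3 D96541) (iv1 D45079) F33855 F16279 D10280 D21529 D45093 D96582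
theorem F148774 : act 2 n45518 = n96582 := d15_3 (iv0 D96582) (iv0 F71014) (iv7 F71794)
theorem F148775 : act 1 n45519 = n96582 := d15_0 (iv0 D96582) F71013 D45519
theorem F148776 : act 7 n96582 = n45362 := d15_2 (iv0 F136693) F148775 F71512
theorem F148777 : act 6 n95546 = n96582 := d14_5 F148776 (iv6 D45362) F34054 D44673 (iv7 F147191)
theorem E14768 : n89170 = n82686 := (c20_1 D89170 (iv1 D82686) (iv4 F61396) F61395 D40332 D86924 F133385 D96582 F148773 F147787 (iv1 F136861))
theorem F148778 : act 3 n82686 = n94065 := (sb E14768 (iv3 F144923))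
theorem F148779 : act 4 n82686 = n41654 := (sb E14768 (iv4 D89170))
theorem E14769 : n94719 = n89169 := (c20_5 (iv4 F62919) (iv1 F64016) F64013 D44259 D94719 (iv3 D89169) (iv4 F148779) (iv1 D82686) (iv4 F61396) F61395 D40332)
theorem F148780 : act 0 n89169 = n81866 := (sb E14769 (iv1 F146014))
theorem F148781 : act 1 n89169 = n44259 := (sb E14769 (iv0 D94719))
def n96583 : Q := act 2 n45093
theorem D96583 : act 2 n45093 = n96583 := rfl
theorem F148782 : act 3 n96583 = n45494 := d0_2 D45093 D96583 (iv2 D45494) (iv3 D21712) (iv2 F62830)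
theorem F148783 : act 4 n96583 = n89034 := d1_2 F133385 D96583 F136705
theorem F148784 : act 7 n96583 = n45519 := d4_2 (iv7 F71013) D96583 (iv2 D45519)
theorem F148785 : act 1 n96583 = n45362 := d15_0 F71795 (iv7 F71013) D96583
theorem F148786 : act 1 n45518 = n96583 := d15_0 F148785 (iv7 F148776) (iv2 F148774)
def n96584 : Q := act 5 n45093
theorem D96584 : act 5 n45093 = n96584 := rfl
theorem F148787 : act 3 n96584 = n45094 := d6_1 D96584 (iv5 D45094) D45093
theorem F148788 : act 7 n96584 = n45520 := d13_2 (iv7 F71013) D96584 (iv5 D45520)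
def n96585 : Q := act 1 n45094
theorem D96585 : act 1 n45094 = n96585 := rfl
theorem F148789 : act 1 n96585 = n45098 := d15_1 D96585 F71031 (iv2 F71015)
theorem F148791 : act 5 n96585 = n93387 := d17_7 (iv1 F70808) F71019 (iv1 D45095) (iv5 D21530) D21529 D45094 D96585 (iv0 F144048) (iv4 D45534)
theorem F148792 : act 2 n45498 = n96585 := d2_3 F148791 F144045 F75561
def n96586 : Q := act 4 n45094
theorem D96586 : act 4 n45094 = n96586 := rfl
theorem F148793 : act 2 n96586 = n45499 := d1_1 D96586 (iv4 D45499) (iv2 F71015)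
theorem F148794 : act 7 n96586 = n45522 := d11_2 (iv7 F71016) D96586 (iv4 D45522)
def n96587 : Q := act 6 n45094
theorem D96587 : act 6 n45094 = n96587 := rfl
theorem F148795 : act 2 n96587 = n45500 := d3_1 D96587 (iv6 D45500) (iv2 F71015)
def n96592 : Q := act 4 n45098
theorem D96592 : act 4 n45098 = n96592 := rfl
theorem F148807 : act 2 n96592 = n45522 := d1_1 D96592 (iv4 D45522) (iv2 F71030)
theorem F148808 : act 7 n96592 = n45499 := d11_2 (iv7 F71031) D96592 (iv4 D45499)
def n96593 : Q := act 6 n45098
theorem D96593 : act 6 n45098 = n96593 := rfl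
theorem F148809 : act 2 n96593 = n45523 := d3_1 D96593 (iv6 D45523) (iv2 F71030)
def n96631 : Q := act 6 n45115
theorem D96631 : act 6 n45115 = n96631 := rfl
theorem F148873 : act 2 n96631 = n54973 := d3_1 D96631 (iv6 D54973) F71078
theorem F148874 : act 4 n96631 = n54895 := d10_1 D96631 (iv6 D54895) (iv4 F71075)
def n96632 : Q := act 6 n45116
theorem D96632 : act 6 n45116 = n96632 := rfl
theorem F148875 : act 2 n96632 = n45118 := d3_1 D96632 (iv6 D45118) D45116
theorem F148877 : act 4 n96632 = n54865 := d10_1 D96632 (iv6 D54865) (iv4 F71083)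
theorem F148878 : act 7 n85563 = n96632 := d4_0 F148875 F116726 D85563
def n96633 : Q := act 6 n45117
theorem D96633 : act 6 n45117 = n96633 := rfl
def n96634 : Q := act 0 n45118
theorem D96634 : act 0 n45118 = n96634 := rfl
theorem F148884 : act 1 n85563 = n96634 := d15_0 (iv0 D96634) F116726 D85563
def n96635 : Q := act 1 n45118
theorem D96635 : act 1 n45118 = n96635 := rfl
theorem F148885 : act 1 n96635 = n85563 := d15_1 D96635 F148878 F148875
def n96636 : Q := act 5 n45118
theorem D96636 : act 5 n45118 = n96636 := rfl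
theorem F148888 : act 7 n96636 = n85564 := d13_2 (iv7 F116726) D96636 (iv5 D85564)
def n96644 : Q := act 5 n45132
theorem D96644 : act 5 n45132 = n96644 := rfl
theorem F148903 : act 2 n96644 = n57879 := d2_1 D96644 (iv5 D57879) (iv2 F126175)
theorem F148905 : act 7 n96644 = n87305 := d13_2 (iv7 F126178) D96644 (iv5 D87305)
def n96645 : Q := act 6 n45132
theorem D96645 : act 6 n45132 = n96645 := rfl
theorem F148906 : act 2 n96645 = n57880 := d3_1 D96645 (iv6 D57880) (iv2 F126175)
theorem F148907 : act 3 n96645 = n80097 := d7_1 D96645 (iv6 D80097) (iv3 F126176)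
theorem F148908 : act 4 n96645 = n86667 := d10_1 D96645 (iv6 D86667) (iv4 F126177)
theorem F148909 : act 7 n84494 = n96645 := d15_2 (iv0 F134084) F134086 F148906
def n96646 : Q := act 5 n45133
theorem D96646 : act 5 n45133 = n96646 := rfl
theorem F148911 : act 3 n96646 = n56901 := d6_1 D96646 (iv5 D56901) (iv3 F126180)
theorem F148912 : act 7 n96646 = n57879 := d13_2 (iv7 F126182) D96646 (iv5 D57879)
theorem F148913 : act 6 n78781 = n96646 := d7_0 F148911 (iv6 F89943) D78781
theorem F148914 : act 0 n86870 = n78781 := d21_4 (iv5 D19051) D19050 D40301 D86870 F148913 (iv5 D96646) (iv1 D45133) D45134 F71112 F33909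
def n96647 : Q := act 6 n45133
theorem D96647 : act 6 n45133 = n96647 := rfl
theorem F148916 : act 3 n96647 = n56902 := d7_1 D96647 (iv6 D56902) (iv3 F126180)
theorem F148917 : act 4 n96647 = n86670 := d10_1 D96647 (iv6 D86670) (iv4 F126181)
theorem F148918 : act 0 n86670 = n79734 := d20_7 F53075 F53093 (iv4 F42635) F120599 (iv1 F90996) (iv3 F148916) F148917 F122424 F57039 (iv1 F43761)
theorem F148919 : act 0 n96647 = n85655 := d17_0 F131373 F134095 (iv5 D87333) (iv4 F120725) D80981 F134371 F134366 (iv0 F148918) (iv4 F148917)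
theorem F148920 : act 1 n96647 = n83333 := d18_8 (iv1 D40737) D40738 F121571 (iv4 D37063) (iv5 F57040) (iv4 F122424) (iv0 F148918) (iv4 F148917) F128437
theorem F148921 : act 0 n79716 = n86670 := d20_1 (iv4 F122386) (iv4 F148917) F148916 F90995 (iv3 F121578) (iv4 F129098) F129101 (iv4 F136102) F136105 (iv1 F119534)
def n96648 : Q := act 0 n45134
theorem D96648 : act 0 n45134 = n96648 := rfl
def n96649 : Q := act 1 n45134
theorem D96649 : act 1 n45134 = n96649 := rfl
theorem F148922 : act 1 n96649 = n87310 := d15_1 D96649 (iv7 D87310) (iv2 F71110)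
theorem F148923 : act 5 n55484 = n96649 := d21_6 (iv5 D9328) F12972 (iv5 F14063) D19162 (iv1 F116642) D55484 (iv1 D96649) (iv5 D45134) (iv6 D21549) F16316
theorem F148924 : act 3 n96649 = n55499 := d6_1 F148923 (iv5 D55499) (iv3 F87776)
theorem F148925 : act 6 n84822 = n96649 := d7_0 F148924 (iv6 F121539) D84822
theorem F148926 : act 7 n57909 = n96649 := d8_0 F148924 F115442 D57909
theorem F148927 : act 4 n96649 = n78615 := d20_6 (iv4 F41677) (iv1 F45020) (iv4 D27885) (iv3 F44551) F87790 (iv3 F148924) (iv1 D78615) F56471 F28281 D17352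
theorem F148928 : act 6 n78615 = n79739 := d10_2 F148925 F148927 (iv4 F130022)
theorem F148929 : act 2 n57909 = n96648 := d15_3 (iv0 D96648) D96649 (iv7 F148926)
def n96650 : Q := act 4 n45134
theorem D96650 : act 4 n45134 = n96650 := rfl
theorem F148930 : act 2 n96650 = n87309 := d1_1 D96650 (iv4 D87309) (iv2 F71110)
theorem F148931 : act 6 n96650 = n45136 := d10_2 (iv6 F71112) D96650 (iv4 D45136)
def n96651 : Q := act 7 n45134
theorem D96651 : act 7 n45134 = n96651 := rfl
theorem F148932 : act 2 n96651 = n87310 := d4_1 D96651 (iv7 D87310) (iv2 F71110)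
theorem F148933 : act 3 n96651 = n45159 := d8_1 D96651 (iv7 D45159) (iv3 F71111)
theorem F148934 : act 5 n96651 = n45135 := d13_1 D96651 (iv7 D45135) D45134
theorem F148935 : act 6 n96651 = n81611 := d14_1 D96651 (iv7 D81611) (iv6 F60831) F60832 (iv6 F71112)
theorem F148936 : act 1 n87310 = n96648 := d15_0 (iv0 D96648) D96651 F148932
theorem F148937 : act 1 n87308 = n96651 := d15_1 D87308 (iv7 D96651) F71110
theorem F148938 : act 5 n81782 = n96648 := d21_0 (iv1 F148936) F134050 (iv6 F70091) (iv1 F116731) D57319 (iv5 F90965) (iv1 F121175) (iv5 D37393) D37394 D81782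
theorem F148939 : act 1 n96651 = n87307 := d15_0 (iv0 D87307) D87310 (iv2 F148932)
def n96652 : Q := act 3 n45136
theorem D96652 : act 3 n45136 = n96652 := rfl
theorem F148940 : act 4 n96652 = n45161 := d5_2 D45136 D96652 (iv3 D45161) (iv4 D21559) (iv3 F33908)
def n96653 : Q := act 5 n45136
theorem D96653 : act 5 n45136 = n96653 := rfl
theorem F148941 : act 2 n96653 = n87312 := d2_1 D96653 (iv5 D87312) (iv2 F71119)
theorem F148942 : act 7 n96653 = n96298 := d13_2 F116023 D96653 F148142
theorem F148943 : act 4 n96653 = n86872 := d16_2 D45136 D96653 (iv5 D86872) F61356 (iv5 D19136) (iv4 F28491) D36242 F56953 (iv2 F33907)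
theorem F148944 : act 0 n96653 = n77266 := d17_2 (iv1 F71121) D96653 (iv5 D77266) (iv4 D35271) (iv5 D17120) (iv0 F13825) (iv5 F28280) F28572 D36414
theorem F148945 : act 1 n96653 = n78543 := d17_6 F61559 (iv5 D19412) F16925 D21550 D45136 D96653 (iv5 D78543) F116031 F116030
def n96654 : Q := act 6 n45137
theorem D96654 : act 6 n45137 = n96654 := rfl
theorem F148946 : act 2 n96654 = n81525 := d3_1 D96654 (iv6 D81525) F71123
theorem F148947 : act 4 n96654 = n80710 := d10_1 D96654 (iv6 D80710) (iv4 F71122)
def n96655 : Q := act 5 n45138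
theorem D96655 : act 5 n45138 = n96655 := rfl
theorem F148948 : act 2 n96655 = n45139 := d2_1 D96655 (iv5 D45139) D45138
theorem F148949 : act 3 n96655 = n54799 := d6_1 D96655 F86713 (iv3 F71127)
theorem F148950 : act 7 n96655 = n54797 := d13_2 (iv7 F71128) D96655 F86708
theorem F148951 : act 0 n96655 = n68948 := d17_2 (iv1 F71129) D96655 F105115 (iv4 F107240) F107241 F88107 (iv5 F120450) (iv0 D79161) (iv4 F58182)
theorem F148952 : act 1 n96655 = n68947 := d17_6 D81597 (iv5 F125493) F128181 (iv5 F132635) F132634 D96655 F105112 (iv0 D37296) (iv4 F58245)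
def n96656 : Q := act 6 n45138
theorem D96656 : act 6 n45138 = n96656 := rfl
theorem F148953 : act 2 n96656 = n45140 := d3_1 D96656 (iv6 D45140) D45138
def n96657 : Q := act 0 n45139
theorem D96657 : act 0 n45139 = n96657 := rfl
theorem F148955 : act 5 n96657 = n45188 := d17_3 F43653 D45139 D96657 F88111 (iv5 D55685) (iv0 F86934) (iv5 F124178) F124175 F61027
def n96658 : Q := act 4 n45139
theorem D96658 : act 4 n45139 = n96658 := rfl
theorem F148959 : act 3 n96658 = n45419 := d5_1 D96658 (iv4 D45419) (iv3 D21675) (iv4 F33913) (iv3 F71131)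
theorem F148961 : act 5 n96658 = n80417 := d16_5 (iv4 F121978) F121979 F60959 D45139 D96658 (iv4 F123602) (iv5 F122978) F125374 (iv2 F125372)
theorem F148963 : act 0 n78900 = n96658 := d19_0 F148961 (iv4 F123602) (iv3 D80120) (iv1 F86225) F86222 D82524 F127170 (iv1 F108953) (iv5 F108981) F108980 F83434 (iv1 F55129) (iv5 D34859) (iv4 F32464) F32463 (iv1 F20089) D17389 D35919 D78900
def n96659 : Q := act 6 n45139
theorem D96659 : act 6 n45139 = n96659 := rfl
def n96660 : Q := act 0 n45140
theorem D96660 : act 0 n45140 = n96660 := rfl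
def n96661 : Q := act 1 n45140
theorem D96661 : act 1 n45140 = n96661 := rfl
def n96662 : Q := act 5 n45140
theorem D96662 : act 5 n45140 = n96662 := rfl
theorem F148965 : act 3 n96662 = n45144 := d6_1 D96662 (iv5 D45144) (iv3 F71134)
def n96663 : Q := act 7 n45140
theorem D96663 : act 7 n45140 = n96663 := rfl
theorem F148966 : act 3 n96663 = n45145 := d8_1 D96663 (iv7 D45145) (iv3 F71134)
def n96664 : Q := act 0 n45141
theorem D96664 : act 0 n45141 = n96664 := rfl
def n96665 : Q := act 1 n45141
theorem D96665 : act 1 n45141 = n96665 := rfl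
def n96666 : Q := act 5 n45141
theorem D96666 : act 5 n45141 = n96666 := rfl
theorem F148969 : act 2 n96666 = n81447 := d2_1 D96666 (iv5 D81447) (iv2 F71135)
theorem F148970 : act 6 n96666 = n45144 := d12_2 D45141 D96666 (iv5 D45144) (iv6 D21553) D21552
def n96667 : Q := act 7 n45141
theorem D96667 : act 7 n45141 = n96667 := rfl
theorem F148972 : act 4 n96667 = n45424 := d11_1 D96667 (iv7 D45424) (iv4 F71136)
theorem F148975 : act 1 n81446 = n96667 := d15_1 D81446 (iv7 D96667) F71135
def n96668 : Q := act 0 n45144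
theorem D96668 : act 0 n45144 = n96668 := rfl
theorem F148977 : act 5 n96668 = n81792 := d17_3 F126049 D45144 D96668 F146879 (iv5 D95262) (iv0 D44501) (iv5 D21162) D21161 D44498
theorem F148978 : act 1 n81462 = n96668 := d17_6 F116830 F54967 F116793 F58167 (iv4 F58163) (iv5 F125286) F148977 (iv0 D81792) F58312
def n96669 : Q := act 1 n45144
theorem D96669 : act 1 n45144 = n96669 := rfl
theorem F148979 : act 1 n96669 = n81462 := d15_1 D96669 (iv7 D81462) (iv2 F71138)
theorem F148980 : act 5 n81590 = n96669 := d21_6 (iv5 F58236) (iv1 D37273) (iv5 D17912) D17913 D37275 D81590 (iv1 D96669) (iv5 D45144) (iv6 D21553) (iv1 F33392)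
def n96670 : Q := act 4 n45144
theorem D96670 : act 4 n45144 = n96670 := rfl
theorem F148981 : act 2 n96670 = n81461 := d1_1 D96670 (iv4 D81461) (iv2 F71138)
def n96671 : Q := act 7 n45144
theorem D96671 : act 7 n45144 = n96671 := rfl
theorem F148982 : act 2 n96671 = n81462 := d4_1 D96671 (iv7 D81462) (iv2 F71138)
theorem F148983 : act 5 n96671 = n45145 := d13_1 D96671 (iv7 D45145) D45144
theorem F148984 : act 1 n81460 = n96671 := d15_1 D81460 (iv7 D96671) F71138
theorem F148985 : act 1 n96671 = n81459 := d15_0 (iv0 D81459) D81462 (iv2 F148982)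
def n96672 : Q := act 4 n45154
theorem D96672 : act 4 n45154 = n96672 := rfl
theorem F148986 : act 2 n96672 = n58675 := d1_1 D96672 (iv4 D58675) F126012
theorem F148987 : act 7 n96672 = n81480 := d11_2 F125314 D96672 (iv4 D81480)
def n96673 : Q := act 3 n45158
theorem D96673 : act 3 n45158 = n96673 := rfl
theorem F148990 : act 6 n96673 = n45161 := d7_2 (iv6 F71154) D96673 (iv3 D45161)
def n96674 : Q := act 5 n45158
theorem D96674 : act 5 n45158 = n96674 := rfl
theorem F148991 : act 2 n96674 = n81500 := d2_1 D96674 (iv5 D81500) (iv2 F71153)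
def n96675 : Q := act 7 n45158
theorem D96675 : act 7 n45158 = n96675 := rfl
theorem F148992 : act 2 n96675 = n81501 := d4_1 D96675 (iv7 D81501) (iv2 F71153)
theorem F148993 : act 4 n96675 = n45159 := d11_1 D96675 (iv7 D45159) D45158
theorem F148994 : act 6 n96675 = n81650 := d14_1 D96675 (iv7 D81650) (iv6 F60836) F60837 (iv6 F71154)
theorem F148995 : act 1 n81498 = n96675 := d15_1 D81498 (iv7 D96675) F71153
def n96676 : Q := act 0 n45161
theorem D96676 : act 0 n45161 = n96676 := rfl
def n96677 : Q := act 1 n45161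
theorem D96677 : act 1 n45161 = n96677 := rfl
def n96678 : Q := act 2 n45161
theorem D96678 : act 2 n45161 = n96678 := rfl
theorem F148997 : act 3 n96678 = n81511 := d0_2 D45161 D96678 (iv2 D81511) (iv3 D37218) (iv2 F33930)
def n96679 : Q := act 5 n45161
theorem D96679 : act 5 n45161 = n96679 := rfl
theorem F148998 : act 3 n96679 = n45162 := d6_1 D96679 (iv5 D45162) D45161
def n96680 : Q := act 6 n45162
theorem D96680 : act 6 n45162 = n96680 := rfl
theorem F148999 : act 2 n96680 = n81515 := d3_1 D96680 (iv6 D81515) (iv2 F71165)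
theorem F149000 : act 4 n96680 = n87101 := d10_1 D96680 (iv6 D87101) (iv4 F71166)
def n96681 : Q := act 6 n45163
theorem D96681 : act 6 n45163 = n96681 := rfl
theorem F149001 : act 2 n96681 = n75595 := d3_1 D96681 (iv6 D75595) (iv2 F71171)
theorem F149002 : act 4 n96681 = n75590 := d10_1 D96681 (iv6 D75590) (iv4 F71167)
def n96682 : Q := act 6 n45164
theorem D96682 : act 6 n45164 = n96682 := rfl
theorem F149004 : act 3 n96682 = n88815 := d7_1 D96682 (iv6 D88815) F71175
theorem F149005 : act 4 n96682 = n55309 := d10_1 D96682 (iv6 D55309) (iv4 F71174)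
def n96684 : Q := act 1 n45165
theorem D96684 : act 1 n45165 = n96684 := rfl
def n96685 : Q := act 5 n45165
theorem D96685 : act 5 n45165 = n96685 := rfl
theorem F149006 : act 3 n96685 = n45169 := d6_1 D96685 (iv5 D45169) (iv3 F71177)
def n96686 : Q := act 7 n45165
theorem D96686 : act 7 n45165 = n96686 := rfl
theorem F149007 : act 3 n96686 = n45170 := d8_1 D96686 (iv7 D45170) (iv3 F71177)
theorem F149008 : act 4 n96686 = n80280 := d11_1 D96686 (iv7 D80280) (iv4 F71178)
theorem F149009 : act 6 n96686 = n75961 := d14_1 D96686 (iv7 F117113) (iv6 D37271) (iv7 F33932) D45165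
def n96687 : Q := act 0 n45166
theorem D96687 : act 0 n45166 = n96687 := rfl
def n96688 : Q := act 1 n45166
theorem D96688 : act 1 n45166 = n96688 := rfl
def n96689 : Q := act 5 n45166
theorem D96689 : act 5 n45166 = n96689 := rfl
theorem F149012 : act 6 n96689 = n45169 := d12_2 D45166 D96689 (iv5 D45169) (iv6 D21562) D21561
def n96690 : Q := act 7 n45166
theorem D96690 : act 7 n45166 = n96690 := rfl
theorem F149014 : act 4 n96690 = n45415 := d11_1 D96690 (iv7 D45415) (iv4 F71180)
theorem F149015 : act 6 n96690 = n81587 := d14_1 D96690 (iv7 D81587) (iv6 D37274) (iv7 F33934) D45166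
def n96692 : Q := act 5 n45167
theorem D96692 : act 5 n45167 = n96692 := rfl
theorem F149020 : act 2 n96692 = n81627 := d2_1 D96692 (iv5 D81627) (iv2 F117061)
theorem F149021 : act 7 n96692 = n81630 := d13_2 F117058 D96692 (iv5 D81630)
def n96693 : Q := act 6 n45167
theorem D96693 : act 6 n45167 = n96693 := rfl
theorem F149024 : act 4 n96693 = n80444 := d10_1 D96693 F123649 F117053
theorem F149025 : act 5 n96693 = n81542 := d21_6 D37190 F58152 (iv5 D21561) D21562 D45167 D96693 (iv1 D81542) (iv5 D37234) (iv6 D17899) (iv1 F29061)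
theorem F149027 : act 0 n76001 = n96693 := d17_0 F149025 (iv1 D81542) (iv5 D37234) F29072 (iv5 F17011) D21572 (iv5 F71192) F116711 D76001
theorem F149028 : act 1 n45280 = n96693 := d15_0 (iv0 F149027) (iv7 F131298) F131296
def n96696 : Q := act 6 n45168
theorem D96696 : act 6 n45168 = n96696 := rfl
theorem F149038 : act 4 n96696 = n80669 := d10_1 D96696 (iv6 D80669) (iv4 F117063)
theorem F149039 : act 1 n81769 = n96696 := d18_6 (iv1 F136130) D95236 F146782 (iv4 D58179) (iv5 F116846) (iv4 F125684) F149038 F136134 (iv5 F136128)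
def n96697 : Q := act 0 n45169
theorem D96697 : act 0 n45169 = n96697 := rfl
def n96698 : Q := act 1 n45169
theorem D96698 : act 1 n45169 = n96698 := rfl
theorem F149041 : act 1 n96698 = n81635 := d15_1 D96698 (iv7 D81635) (iv2 F71182)
theorem F149042 : act 5 n95247 = n96698 := d21_6 (iv5 F61812) F61814 (iv5 D21552) D21553 (iv1 F126052) D95247 (iv1 D96698) (iv5 D45169) (iv6 D21562) (iv1 F33386)
theorem F149043 : act 2 n96698 = n81633 := d2_1 F149042 (iv5 F125542) (iv2 F146815)
theorem F149044 : act 7 n96698 = n81632 := d13_2 F146817 F149042 F146829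
theorem F149045 : act 0 n84507 = n95247 := d17_0 F149042 (iv1 D96698) (iv5 D45169) F33937 D21565 F126090 F55886 (iv0 F126075) (iv4 F129635)
theorem F149047 : act 2 n81632 = n96697 := d15_3 (iv0 D96697) D96698 F149044
theorem F149048 : act 7 n81633 = n96697 := d4_2 (iv7 F149044) F149043 (iv2 F149047)
theorem F149049 : act 1 n81635 = n96697 := d15_1 F149041 (iv7 F149048) (iv2 F149043)
def n96699 : Q := act 4 n45169
theorem D96699 : act 4 n45169 = n96699 := rfl
def n96700 : Q := act 7 n45169
theorem D96700 : act 7 n45169 = n96700 := rfl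
theorem F149051 : act 2 n96700 = n81635 := d4_1 D96700 (iv7 D81635) (iv2 F71182)
theorem F149052 : act 5 n96700 = n45170 := d13_1 D96700 (iv7 D45170) D45169
theorem F149053 : act 1 n81633 = n96700 := d15_1 D81633 (iv7 D96700) F71182
theorem F149054 : act 1 n96700 = n81632 := d15_1 F149053 (iv7 F149044) F149043
def n96701 : Q := act 3 n45173
theorem D96701 : act 3 n45173 = n96701 := rfl
theorem F149055 : act 4 n96701 = n81985 := d5_2 D45173 D96701 (iv3 D81985) (iv4 D37548) (iv3 F117325)
theorem F149056 : act 7 n96701 = n81636 := d8_2 F116772 D96701 (iv3 D81636)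
def n96702 : Q := act 5 n45173
theorem D96702 : act 5 n45173 = n96702 := rfl
theorem F149058 : act 7 n96702 = n81637 := d13_2 F116772 D96702 (iv5 D81637)
theorem F149059 : act 0 n96702 = n84450 := d21_1 D96702 (iv5 D84450) (iv6 D38937) (iv1 D18490) (iv6 D8693) D8692 D18486 F29670 D21575 (iv1 F116788)
theorem F149060 : act 1 n76940 = n84450 := d15_0 (iv0 F149059) F149058 F125544
theorem E14770 : n84449 = n81478 := (c17_9 F117030 D38982 F116819 (iv5 D35154) D35153 D76940 F149060 (iv5 D84450) D84449 F125327)
theorem F149061 : act 0 n81478 = n38937 := (sb E14770 (iv1 D84449))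
def n96703 : Q := act 6 n45173
theorem D96703 : act 6 n45173 = n96703 := rfl
theorem F149062 : act 2 n96703 = n55600 := d3_1 D96703 F87943 (iv2 F116789)
theorem F149065 : act 0 n76009 = n96703 := d21_4 D18491 D38938 D84454 F131244 (iv6 D96703) D96702 F149059 (iv5 D84450) (iv6 D38937) (iv1 D18490)
theorem F149066 : act 1 n45239 = n96703 := d15_0 (iv0 F149065) F131243 (iv2 F131237)
def n96704 : Q := act 4 n45174
theorem D96704 : act 4 n45174 = n96704 := rfl
theorem F149068 : act 2 n96704 = n76161 := d1_1 D96704 (iv4 D76161) (iv2 F116791)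
theorem F149069 : act 6 n96704 = n84480 := d10_2 (iv6 F71191) D96704 (iv4 D84480)
theorem F149070 : act 7 n96704 = n81639 := d11_2 F116776 D96704 (iv4 D81639)
def n96705 : Q := act 4 n45181
theorem D96705 : act 4 n45181 = n96705 := rfl
theorem F149071 : act 2 n96705 = n76181 := d1_1 D96705 (iv4 D76181) F126094
theorem F149073 : act 1 n96705 = n75180 := d15_0 (iv0 F126152) F115670 (iv2 F149071)
def n96706 : Q := act 0 n45183
theorem D96706 : act 0 n45183 = n96706 := rfl
theorem F149074 : act 4 n96706 = n79576 := d20_2 D45183 D96706 (iv3 F133630) (iv1 F115796) F55966 (iv4 F55991) (iv1 F55992) (iv4 D35161) D35160 (iv1 F126090)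
theorem F149075 : act 2 n81646 = n96706 := d1_3 F149074 (iv2 F133628) F146830
theorem F149076 : act 7 n81647 = n96706 := d11_0 F149074 F133629 (iv4 F125552)
theorem F149077 : act 1 n81650 = n96706 := d18_6 D36816 F117053 (iv1 F71186) F58259 (iv5 F58263) (iv4 F125554) F149074 (iv0 D79576) F56945
def n96707 : Q := act 1 n45183
theorem D96707 : act 1 n45183 = n96707 := rfl
theorem F149078 : act 1 n96707 = n81650 := d15_1 D96707 (iv7 D81650) (iv2 F71196)
theorem F149079 : act 7 n96707 = n81646 := d15_2 (iv0 D96706) D96707 F149075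
theorem F149080 : act 4 n96707 = n79577 := d18_7 (iv1 F61535) (iv4 F117063) (iv1 D45168) F33937 D21565 D45183 D96707 F133626 F133623
theorem F149081 : act 2 n81647 = n96707 := d1_3 F149080 F122209 (iv4 F125552)
def n96709 : Q := act 5 n45183
theorem D96709 : act 5 n45183 = n96709 := rfl
theorem F149083 : act 2 n96709 = n81649 := d2_1 D96709 (iv5 D81649) (iv2 F71196)
def n96710 : Q := act 7 n45183
theorem D96710 : act 7 n45183 = n96710 := rfl
theorem F149084 : act 2 n96710 = n81650 := d4_1 D96710 (iv7 D81650) (iv2 F71196)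
theorem F149085 : act 4 n96710 = n45184 := d11_1 D96710 (iv7 D45184) D45183
theorem F149086 : act 6 n96710 = n81501 := d14_1 D96710 (iv7 D81501) F58166 (iv7 F54614) (iv6 F71197)
theorem F149087 : act 1 n81647 = n96710 := d15_1 D81647 (iv7 D96710) F71196
theorem F149088 : act 1 n96710 = n81646 := d15_1 F149087 (iv7 F149079) (iv2 F149081)
def n96711 : Q := act 5 n45185
theorem D96711 : act 5 n45185 = n96711 := rfl
theorem F149089 : act 2 n96711 = n55483 := d2_1 D96711 (iv5 D55483) (iv2 F116674)
theorem F149092 : act 0 n96711 = n87518 := d21_1 D96711 F134401 F121007 (iv1 D40308) (iv6 D19054) (iv5 D8928) F12243 (iv5 F16381) D21567 D45185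
theorem F149093 : act 6 n96711 = n87331 := d21_3 (iv5 F33948) D45185 D96711 (iv1 D87331) (iv6 D40580) D40579 F117107 F90965 (iv6 D57319) F116730
theorem F149094 : act 1 n96711 = n45277 := d15_1 (iv0 F149092) (iv7 F131307) (iv2 F134399)
def n96712 : Q := act 6 n45185
theorem D96712 : act 6 n45185 = n96712 := rfl
theorem F149095 : act 2 n96712 = n55484 := d3_1 D96712 (iv6 D55484) (iv2 F116674)
theorem F149096 : act 4 n96712 = n77292 := d10_1 D96712 (iv6 D77292) (iv4 F116675)
theorem F149097 : act 0 n96712 = n56931 := d21_4 (iv5 F116800) (iv1 F149094) (iv5 D96711) D96712 (iv6 D56931) D56930 (iv1 F121485) (iv5 F90965) (iv6 D57802) (iv1 F121002)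
theorem F149098 : act 5 n96712 = n87308 := d21_6 (iv5 D8928) F12243 (iv5 F16381) D21567 D45185 D96712 (iv1 D87308) (iv5 D40558) (iv6 D19158) F14003
theorem F149099 : act 2 n87308 = n96649 := d2_1 F149098 (iv5 F148923) (iv2 F149095)
theorem F149100 : act 1 n80584 = n86383 := d18_6 (iv1 D87308) D87309 F134049 (iv4 D78619) F119514 D80584 F132414 (iv0 F149097) F149098
theorem F149101 : act 7 n96648 = n87308 := d4_0 F149099 (iv7 F148926) F148929
theorem E14771 : n87307 = n57909 := (c15_2 F148937 F148939 F148926 (iv2 F149099))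
theorem F149102 : act 0 n57909 = n96651 := (sb E14771 (iv1 F148939))
theorem F149103 : act 1 n57909 = n40558 := (sb E14771 (iv0 D87307))
theorem F149104 : act 7 n96712 = n81782 := d13_2 F149101 (iv5 F149098) F148938
theorem F149105 : act 1 n96712 = n76022 := d15_1 (iv0 F149097) (iv7 F116912) F121481
def n96713 : Q := act 6 n45186
theorem D96713 : act 6 n45186 = n96713 := rfl
theorem F149106 : act 2 n96713 = n87315 := d3_1 D96713 (iv6 D87315) (iv2 F117094)
theorem F149107 : act 3 n96713 = n55378 := d7_1 D96713 (iv6 D55378) (iv3 F116676)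
theorem F149108 : act 4 n96713 = n77295 := d10_1 D96713 (iv6 D77295) (iv4 F116677)
theorem F149109 : act 5 n96713 = n84491 := d12_1 D96713 (iv6 F129616) (iv5 D76855) D76856 (iv5 F116678)
theorem F149111 : act 0 n77295 = n80993 := d20_7 (iv4 F85656) F85658 F42178 (iv3 F44139) (iv1 F120659) (iv3 F149107) F149108 F124752 F57921 (iv1 F43986)
theorem F149112 : act 1 n96713 = n82659 := d18_8 (iv1 D57340) D57341 F121021 (iv4 D55863) (iv5 F57922) (iv4 F124752) (iv0 F149111) (iv4 F149108) F127338
theorem F149113 : act 7 n87512 = n96713 := d8_0 F149107 (iv7 F129739) F134387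
theorem F149114 : act 7 n77295 = n80991 := d11_2 F149113 F149108 (iv4 F134386)
theorem E14772 : n87511 = n87315 := ((c15_4 (iv0 D87511) D87512 F149113 F149106)).symm
theorem F149115 : act 1 n87315 = n40730 := (sb E14772 (iv0 D87511))
theorem F149116 : act 2 n77295 = n80990 := d15_3 (iv0 D80990) D80991 (iv7 F149114)
theorem F149117 : act 4 n80990 = n87315 := d1_2 F149108 F149116 (iv2 F149106)
theorem F149118 : act 6 n80990 = n77270 := d3_2 D77295 F149116 (iv2 F116043)
def n96714 : Q := act 6 n45188
theorem D96714 : act 6 n45188 = n96714 := rfl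
theorem F149119 : act 2 n96714 = n81614 := d3_1 D96714 (iv6 D81614) F71216
def n96715 : Q := act 6 n45189
theorem D96715 : act 6 n45189 = n96715 := rfl
theorem F149120 : act 2 n96715 = n81613 := d3_1 D96715 (iv6 D81613) (iv2 F71217)
theorem F149121 : act 3 n96715 = n68949 := d7_1 D96715 (iv6 D68949) F71213
def n96716 : Q := act 6 n45190
theorem D96716 : act 6 n45190 = n96716 := rfl
def n96717 : Q := act 4 n45191
theorem D96717 : act 4 n45191 = n96717 := rfl
theorem F149124 : act 3 n96717 = n45391 := d5_1 D96717 (iv4 D45391) F34084 (iv4 F33951) (iv3 F71224)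
theorem F149125 : act 7 n96717 = n81616 := d11_2 (iv7 F71225) D96717 (iv4 D81616)
theorem F149126 : act 5 n83088 = n96717 := d19_1 (iv1 F128079) (iv4 D96717) F71224 (iv1 F58153) (iv5 D37190) F29062 (iv3 F21241) (iv1 F21836) (iv5 D13093) F9723 (iv3 D6186) (iv1 D2602) D2604 D6194 (iv3 F20975) D26388 (iv5 F53185) D73616 (iv3 F119260)
theorem F149127 : act 0 n96717 = n77109 := d17_2 (iv1 F128079) F149126 (iv5 D77109) (iv4 F57343) (iv5 F72852) (iv0 F87536) F87534 F128381 F128377
theorem F149128 : act 0 n71887 = n96717 := d20_4 (iv4 D52638) (iv1 F40402) D33220 D71887 F149124 (iv4 D45391) D45389 (iv4 F108242) (iv3 D71779) (iv1 F83171)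
def n96718 : Q := act 6 n45191
theorem D96718 : act 6 n45191 = n96718 := rfl
def n96720 : Q := act 1 n45192
theorem D96720 : act 1 n45192 = n96720 := rfl
theorem F149130 : act 3 n69591 = n96720 := d20_3 F107418 (iv1 F85947) D69591 (iv1 D96720) F71227 F33954 (iv1 F116655) D16818 D34728 F130792
def n96721 : Q := act 5 n45192
theorem D96721 : act 5 n45192 = n96721 := rfl
def n96723 : Q := act 0 n45193
theorem D96723 : act 0 n45193 = n96723 := rfl
def n96724 : Q := act 1 n45193
theorem D96724 : act 1 n45193 = n96724 := rfl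
theorem F149134 : act 1 n96724 = n81587 := d15_1 D96724 (iv7 D81587) (iv2 F71228)
def n96725 : Q := act 5 n45193
theorem D96725 : act 5 n45193 = n96725 := rfl
theorem F149136 : act 6 n96725 = n45196 := d12_2 D45193 D96725 (iv5 D45196) (iv6 D21570) D21569
def n96726 : Q := act 7 n45193
theorem D96726 : act 7 n45193 = n96726 := rfl
theorem F149137 : act 2 n96726 = n81587 := d4_1 D96726 (iv7 D81587) (iv2 F71228)
theorem F149138 : act 4 n96726 = n45400 := d11_1 D96726 (iv7 D45400) (iv4 F71229)
theorem F149139 : act 6 n96726 = n81625 := d14_1 D96726 (iv7 D81625) (iv6 D37301) (iv7 F33952) D45193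
theorem F149141 : act 1 n81585 = n96726 := d15_1 D81585 (iv7 D96726) F71228
theorem F149142 : act 1 n96726 = n81584 := d15_0 (iv0 D81584) D81587 (iv2 F149137)
def n96727 : Q := act 3 n45194
theorem D96727 : act 3 n45194 = n96727 := rfl
theorem F149143 : act 4 n96727 = n55460 := d5_2 (iv4 F116718) D96727 (iv3 D55460) (iv4 F91405) F91404
theorem F149144 : act 7 n96727 = n81591 := d8_2 (iv7 F117103) D96727 (iv3 D81591)
def n96728 : Q := act 5 n45194
theorem D96728 : act 5 n45194 = n96728 := rfl
theorem F149148 : act 1 n96728 = n85657 := d17_6 (iv1 F131324) F131323 F133765 (iv5 D87172) (iv4 F116718) D96728 (iv5 D85657) F131362 F131360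
def n96729 : Q := act 6 n45194
theorem D96729 : act 6 n45194 = n96729 := rfl
theorem F149149 : act 2 n96729 = n81590 := d3_1 D96729 (iv6 D81590) F117100
theorem F149150 : act 4 n96729 = n87173 := d10_1 D96729 (iv6 D87173) (iv4 F116718)
theorem F149151 : act 5 n96729 = n81460 := d21_6 D37188 F58148 (iv5 D21569) D21570 D45194 D96729 (iv1 D81460) (iv5 D37199) (iv6 D17888) D17884
theorem F149152 : act 2 n81460 = n96669 := d2_1 F149151 (iv5 F148980) (iv2 F149149)
theorem F149153 : act 0 n76023 = n96729 := d17_0 F149151 (iv1 D81460) (iv5 D37199) F29064 D17891 F116795 F45059 D34736 D76023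
theorem F149154 : act 1 n76018 = n96729 := d15_0 (iv0 F149153) (iv7 F116913) (iv2 F117036)
theorem F149155 : act 7 n96668 = n81460 := d15_2 F148979 F148978 F149152
theorem F149156 : act 7 n81459 = n96669 := d15_2 F148984 F148985 (iv2 F149152)
theorem F149157 : act 2 n96668 = n81459 := d4_3 F149156 (iv2 F149152) (iv7 F149155)
def n96730 : Q := act 3 n45195
theorem D96730 : act 3 n45195 = n96730 := rfl
theorem F149159 : act 4 n96730 = n80446 := d5_2 (iv4 F116720) D96730 (iv3 D80446) (iv4 D36665) D36664
def n96731 : Q := act 5 n45195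
theorem D96731 : act 5 n45195 = n96731 := rfl
theorem F149163 : act 0 n96731 = n85657 := d17_2 (iv1 F116719) D96731 (iv5 D85657) (iv4 D39581) F116761 (iv0 F116748) F71192 F116656 D34715
def n96732 : Q := act 6 n45195
theorem D96732 : act 6 n45195 = n96732 := rfl
theorem F149165 : act 2 n96732 = n81593 := d3_1 D96732 (iv6 D81593) (iv2 F117102)
theorem F149166 : act 4 n96732 = n80445 := d10_1 D96732 (iv6 D80445) (iv4 F116720)
theorem F149167 : act 5 n96732 = n84474 := d21_6 (iv5 F146829) (iv1 F149054) F149052 F116723 (iv1 F116719) D96732 (iv1 F129602) (iv5 D38976) D38977 D84505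
theorem F149168 : act 0 n45261 = n96732 := d17_0 F149167 (iv1 F129602) (iv5 D38976) (iv4 D18500) D18501 F59994 (iv5 F71243) F116937 (iv4 F71323)
def n96735 : Q := act 4 n45196
theorem D96735 : act 4 n45196 = n96735 := rfl
theorem F149178 : act 5 n96735 = n85565 := d16_1 D96735 (iv4 D85565) (iv5 D39511) (iv4 D18718) F61594 D34715 D75962 (iv7 F117114) (iv2 F71231)
def n96736 : Q := act 7 n45196
theorem D96736 : act 7 n45196 = n96736 := rfl
theorem F149182 : act 5 n96736 = n45197 := d13_1 D96736 (iv7 D45197) D45196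
theorem F149183 : act 1 n81595 = n96736 := d15_1 D81595 (iv7 D96736) F71231
def n96737 : Q := act 3 n45205
theorem D96737 : act 3 n45205 = n96737 := rfl
theorem F149185 : act 4 n96737 = n76073 := d5_2 D45205 D96737 (iv3 D76073) (iv4 D34759) F116706
theorem F149186 : act 7 n96737 = n75976 := d8_2 (iv7 F116710) D96737 (iv3 D75976)
def n96739 : Q := act 6 n45205
theorem D96739 : act 6 n45205 = n96739 := rfl
theorem F149191 : act 2 n96739 = n55597 := d3_1 D96739 (iv6 D55597) (iv2 F116709)
theorem F149192 : act 4 n96739 = n45206 := d10_1 D96739 (iv6 D45206) D45205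
theorem F149193 : act 5 n84434 = n96739 := d21_2 D38931 D84434 (iv6 D96739) F116707 (iv6 D21577) (iv5 F29677) (iv1 D18487) (iv5 D8692) D8693 D18489
def n96740 : Q := act 4 n45207
theorem D96740 : act 4 n45207 = n96740 := rfl
theorem F149194 : act 2 n96740 = n81655 := d1_1 D96740 (iv4 D81655) (iv2 F107440)
theorem F149195 : act 3 n96740 = n82717 := d5_1 D96740 (iv4 D82717) F60265 (iv4 F107039) (iv3 F107040)
theorem F149196 : act 7 n96740 = n81651 := d11_2 (iv7 F107438) D96740 (iv4 D81651)
theorem F149197 : act 0 n45909 = n96740 := d20_10 (iv4 D96740) (iv1 F71245) (iv4 F72448) F72447 (iv1 F72476) (iv3 F134746) (iv4 D87774) (iv1 F72501) (iv4 D45910) D45909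
theorem F149198 : act 1 n45909 = n75313 := d15_1 (iv0 F149197) (iv7 F125562) (iv2 F149194)
def n96741 : Q := act 6 n45207
theorem D96741 : act 6 n45207 = n96741 := rfl
theorem F149199 : act 2 n96741 = n81656 := d3_1 D96741 (iv6 D81656) (iv2 F107440)
def n96742 : Q := act 3 n45208
theorem D96742 : act 3 n45208 = n96742 := rfl
theorem F149200 : act 7 n96742 = n81654 := d8_2 F107441 D96742 (iv3 D81654)
def n96743 : Q := act 6 n45208
theorem D96743 : act 6 n45208 = n96743 := rfl
def n96744 : Q := act 6 n45209
theorem D96744 : act 6 n45209 = n96744 := rfl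
theorem F149202 : act 2 n96744 = n45210 := d3_1 D96744 (iv6 D45210) D45209
theorem F149203 : act 3 n96744 = n81676 := d7_1 D96744 (iv6 D81676) (iv3 F71246)
theorem F149204 : act 4 n96744 = n82511 := d10_1 D96744 (iv6 D82511) (iv4 F71247)
def n96746 : Q := act 1 n45210
theorem D96746 : act 1 n45210 = n96746 := rfl
def n96747 : Q := act 5 n45210
theorem D96747 : act 5 n45210 = n96747 := rfl
theorem F149205 : act 3 n96747 = n45212 := d6_1 D96747 (iv5 D45212) (iv3 F71252)
def n96748 : Q := act 7 n45210
theorem D96748 : act 7 n45210 = n96748 := rfl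
theorem F149206 : act 3 n96748 = n45213 := d8_1 D96748 (iv7 D45213) (iv3 F71252)
theorem F149207 : act 4 n96748 = n82515 := d11_1 D96748 (iv7 D82515) (iv4 F71253)
theorem F149208 : act 6 n96748 = n75984 := d14_1 D96748 F113881 (iv6 D37323) (iv7 F33963) D45210
def n96749 : Q := act 0 n45212
theorem D96749 : act 0 n45212 = n96749 := rfl
theorem F149209 : act 2 n81686 = n96749 := d15_3 (iv0 D96749) (iv0 F131970) F131968
theorem F149210 : act 7 n96749 = n81687 := d4_2 F131968 F149209 (iv2 F131967)
theorem F149211 : act 1 n81689 = n96749 := d15_1 F131969 F149210 (iv2 F131967)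
def n96750 : Q := act 4 n45212
theorem D96750 : act 4 n45212 = n96750 := rfl
def n96751 : Q := act 7 n45212
theorem D96751 : act 7 n45212 = n96751 := rfl
theorem F149214 : act 5 n96751 = n45213 := d13_1 D96751 (iv7 D45213) D45212
def n96752 : Q := act 3 n45214
theorem D96752 : act 3 n45214 = n96752 := rfl
theorem F149217 : act 7 n96752 = n81671 := d8_2 F114852 D96752 (iv3 D81671)
theorem F149218 : act 0 n96752 = n81546 := d20_4 (iv4 F52312) (iv1 F108033) F108034 D96752 (iv3 D81546) (iv4 F72919) F72917 D86898 F133325 F106254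
theorem F149219 : act 4 n96752 = n81598 := d20_6 F29086 F16126 (iv4 F16394) D21576 D45214 D96752 (iv1 D81598) F58245 (iv3 D17919) (iv1 F29085)
def n96753 : Q := act 6 n45214
theorem D96753 : act 6 n45214 = n96753 := rfl
def n96754 : Q := act 6 n45215
theorem D96754 : act 6 n45215 = n96754 := rfl
def n96755 : Q := act 6 n45216
theorem D96755 : act 6 n45216 = n96755 := rfl
theorem F149223 : act 3 n96755 = n81658 := d7_1 D96755 (iv6 D81658) (iv3 F71269)
theorem F149224 : act 4 n96755 = n79120 := d10_1 D96755 (iv6 D79120) (iv4 F71270)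
def n96756 : Q := act 0 n45217
theorem D96756 : act 0 n45217 = n96756 := rfl
def n96757 : Q := act 1 n45217
theorem D96757 : act 1 n45217 = n96757 := rfl
def n96758 : Q := act 5 n45217
theorem D96758 : act 5 n45217 = n96758 := rfl
theorem F149225 : act 3 n96758 = n45219 := d6_1 D96758 (iv5 D45219) (iv3 F71275)
def n96759 : Q := act 7 n45217
theorem D96759 : act 7 n45217 = n96759 := rfl
theorem F149226 : act 3 n96759 = n45220 := d8_1 D96759 (iv7 D45220) (iv3 F71275)
theorem F149227 : act 4 n96759 = n79124 := d11_1 D96759 (iv7 D79124) (iv4 F71276)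
def n96760 : Q := act 4 n45219
theorem D96760 : act 4 n45219 = n96760 := rfl
def n96761 : Q := act 1 n45221
theorem D96761 : act 1 n45221 = n96761 := rfl
theorem F149231 : act 1 n96761 = n45226 := d15_1 D96761 (iv7 D45226) (iv2 F71288)
theorem F149232 : act 7 n96761 = n45223 := d15_2 (iv0 F110401) D96761 (iv2 F110404)
theorem F149233 : act 4 n96761 = n74930 := d18_7 (iv1 F78727) (iv4 F112466) (iv1 D74702) F53865 (iv5 F41978) (iv4 F71289) D96761 F112450 F107012
theorem F149234 : act 2 n45224 = n96761 := d1_3 F149233 (iv2 F112453) F107010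
theorem F149235 : act 0 n81614 = n96507 := d20_4 F149233 (iv1 D74930) (iv4 F106832) (iv3 F125527) (iv3 D96507) (iv4 D45060) (iv1 F33845) (iv4 F33983) (iv3 F71293) (iv1 F149231)
def n96762 : Q := act 5 n45221
theorem D96762 : act 5 n45221 = n96762 := rfl
theorem F149236 : act 2 n96762 = n45225 := d2_1 D96762 (iv5 D45225) (iv2 F71288)
def n96763 : Q := act 7 n45221
theorem D96763 : act 7 n45221 = n96763 := rfl
theorem F149237 : act 2 n96763 = n45226 := d4_1 D96763 (iv7 D45226) (iv2 F71288)
theorem F149238 : act 4 n96763 = n54428 := d11_1 D96763 (iv7 D54428) (iv4 F71289)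
theorem F149239 : act 6 n96763 = n70848 := d14_1 D96763 (iv7 D70848) (iv6 D32833) (iv7 F33971) D45221
theorem F149240 : act 1 n45224 = n96763 := d15_1 D45224 (iv7 D96763) F71288
theorem F149241 : act 1 n96763 = n45223 := d15_1 F149240 (iv7 F149232) (iv2 F149234)
def n96764 : Q := act 0 n45222
theorem D96764 : act 0 n45222 = n96764 := rfl
def n96765 : Q := act 1 n45222
theorem D96765 : act 1 n45222 = n96765 := rfl
def n96766 : Q := act 5 n45222
theorem D96766 : act 5 n45222 = n96766 := rfl
theorem F149242 : act 3 n96766 = n45229 := d6_1 D96766 (iv5 D45229) (iv3 F71290)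
theorem F149243 : act 6 n96766 = n45225 := d12_2 D45222 D96766 (iv5 D45225) (iv6 D21580) D21579
def n96767 : Q := act 7 n45222
theorem D96767 : act 7 n45222 = n96767 := rfl
theorem F149244 : act 3 n96767 = n45230 := d8_1 D96767 (iv7 D45230) (iv3 F71290)
theorem F149245 : act 4 n96767 = n70130 := d11_1 D96767 F106509 (iv4 F71291)
theorem F149246 : act 6 n96767 = n70909 := d14_1 D96767 (iv7 D70909) (iv6 D32853) (iv7 F33976) D45222
def n96770 : Q := act 3 n45224
theorem D96770 : act 3 n45224 = n96770 := rfl
def n96772 : Q := act 6 n45224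
theorem D96772 : act 6 n45224 = n96772 := rfl
def n96773 : Q := act 0 n45225
theorem D96773 : act 0 n45225 = n96773 := rfl
def n96774 : Q := act 1 n45225
theorem D96774 : act 1 n45225 = n96774 := rfl
def n96775 : Q := act 4 n45225
theorem D96775 : act 4 n45225 = n96775 := rfl

end Cfsg.Agent.Helper17.ONTC
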