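import Cfsg.Agent.Helper17.ONTC.Facts1

set_option autoImplicit false
set_option linter.all false

noncomputable section

namespace Cfsg.Agent.Helper17.ONTC

def n4889 : Q := act 2 n2018
theorem D4889 : act 2 n2018 = n4889 := rfl
theorem F7241 : act 5 n4889 = n4135 := d2_2 (iv5 F7106) D4889 (iv2 D4135)
theorem F7242 : act 0 n4452 = n4889 := d17_2 F6542 D4452 F7241 F6300 (iv5 F7106) F7105 (iv5 D4517) F6525 (iv4 F6544)
theorem F7243 : act 1 n4452 = n4850 := d15_1 (iv0 F7242) (iv7 F7107) D4889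
theorem F7244 : act 1 n4466 = n4889 := d15_0 (iv0 F7242) (iv7 F6554) F6553
theorem E1008 : n4277 = n971 := (c17_4 (iv1 F1815) D1846 (iv1 F3131) D4277 D1869 D4466 F7244 F7241 F6299 (iv4 D1803))
theorem E1009 : n1870 = n1814 := ((D1870).symm.trans (sb E1008 (iv5 D4277)))
theorem E1010 : n4456 = n949 := ((((iv1 D1814)).symm.trans (sb E1009 (iv1 F6492)))).symm
theorem E1012 : n4274 = n1848 := (((iv2 F6181)).symm.trans (sb E1009 F7050))
theorem E1013 : n4464 = n4275 := (((D4275).symm.trans (sb E1009 (iv3 F6501)))).symm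
theorem E1014 : n4468 = n4276 := (((D4276).symm.trans (sb E1009 D4468))).symm
theorem F7245 : act 5 n1814 = n971 := (sb E1009 (iv5 D1870))
theorem E1015 : n4469 = n4278 := (((D4278).symm.trans (sb E1009 D4469))).symm
theorem E1016 : n4269 = n1849 := ((F6180).symm.trans (sb E1009 F7051))
theorem E1017 : n1865 = n1813 := (((D1813).symm.trans (sb E1010 (iv1 D4456)))).symm
theorem F7246 : act 2 n1848 = n1814 := (sb E1012 F6181)
theorem F7247 : act 5 n4275 = n1868 := (sb E1013 (iv5 D4464))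
theorem F7248 : act 7 n4275 = n4397 := (sb E1013 (iv7 F7061))
theorem F7249 : act 2 n4276 = n4393 := (sb E1014 (iv2 F7054))
theorem F7250 : act 7 n4276 = n4398 := (sb E1014 (iv7 F7063))
theorem F7251 : act 2 n4278 = n4395 := (sb E1015 (iv2 F7057))
theorem F7252 : act 7 n1849 = n1814 := (sb E1016 (iv7 F6180))
theorem F7253 : act 2 n1813 = n1849 := (sb E1017 F7058)
theorem E1018 : n4447 = n4270 := (((D4270).symm.trans (sb E1017 (iv3 F6369)))).symm
theorem E1019 : n4457 = n4271 := (((D4271).symm.trans (sb E1017 D4457))).symm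
theorem E1020 : n4272 = n970 := ((D4272).symm.trans (sb E1017 (iv5 D1865)))
theorem E1021 : n4458 = n4273 := (((D4273).symm.trans (sb E1017 D4458))).symm
theorem F7254 : act 7 n1813 = n1848 := (sb E1017 F7059)
theorem F7255 : act 5 n4270 = n1863 := (sb E1018 (iv5 D4447))
theorem F7256 : act 7 n4270 = n4392 := (sb E1018 (iv7 F7053))
theorem F7257 : act 2 n4271 = n4398 := (sb E1019 (iv2 F7062))
theorem F7258 : act 7 n4271 = n4393 := (sb E1019 (iv7 F7055))
theorem F7259 : act 5 n970 = n1813 := (sb E1020 (iv5 D4272))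
theorem F7260 : act 2 n4273 = n4400 := (sb E1021 (iv2 F7065))
theorem F7261 : act 4 n4280 = n4466 := d18_7 F6298 (iv4 D1808) (iv1 D947) F1142 D949 D1815 D4280 F7244 F7241
theorem F7262 : act 2 n4401 = n4280 := d1_3 F7261 (iv2 F6553) (iv4 F7049)
theorem F7263 : act 7 n4402 = n4280 := d11_0 F7261 (iv7 F6574) (iv4 F7078)
theorem E1022 : n2044 = n1927 := (c20_5 (iv4 D650) D648 F1200 D1021 D2044 (iv3 F6503) (iv4 F7261) (iv1 D4280) (iv4 D1815) F1781 (iv1 F1204))
theorem E1023 : n4641 = n2037 := ((D4641).symm.trans (sb E1022 (iv1 F3332)))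
theorem E1024 : n4642 = n1021 := ((D4642).symm.trans (sb E1022 (iv0 D2044)))
theorem E1025 : n2045 = n1932 := (((iv1 F3337)).symm.trans (sb E1023 (iv1 F6702)))
theorem F7264 : act 1 n2037 = n1927 := (sb E1023 (iv0 D4641))
theorem F7265 : act 0 n1021 = n1927 := (sb E1024 (iv1 D4642))
theorem F7266 : act 0 n1932 = n1021 := (sb E1025 (iv1 D2045))
theorem F7267 : act 1 n1932 = n2037 := (sb E1025 F3337)
theorem F7268 : act 1 n2637 = n4669 := d17_6 (iv1 F1868) D1932 F7266 F1897 (iv4 F2916) (iv5 F4230) (iv5 D4669) F3239 F2836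
theorem F7269 : act 6 n4016 = n4681 := d21_5 D1932 F7266 F1897 D1742 D4016 (iv5 D4681) (iv1 F3246) (iv5 D1917) F1860 (iv1 F1868)
theorem F7270 : act 1 n4666 = n2637 := d15_0 F7268 F6769 (iv2 F6759)
theorem F7271 : act 1 n3895 = n4666 := d15_0 F7270 F4231 D3895
theorem F7272 : act 1 n4669 = n3895 := d15_0 F7271 F6760 (iv2 F6768)
theorem F7273 : act 2 n4402 = n4279 := d15_3 (iv0 D4279) D4280 (iv7 F7263)
theorem F7274 : act 4 n4279 = n4452 := d1_2 (iv4 F7078) F7273 (iv2 F6572)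
theorem F7275 : act 7 n4279 = n4401 := d4_2 (iv7 F7263) F7273 F7262
theorem F7276 : act 6 n4387 = n4484 := d21_5 F7259 (iv1 F3132) (iv5 D1846) D1847 D4387 (iv5 D4484) (iv1 D1874) (iv5 D973) F1168 D970
theorem F7277 : act 0 n4300 = n4461 := d21_7 D1890 (iv1 F3175) D4484 (iv6 F7276) (iv1 F6330) F3144 (iv5 F6189) (iv5 D4461) (iv6 D1866) (iv1 F1840)
theorem F7278 : act 1 n4267 = n4461 := d15_0 (iv0 F7277) (iv7 D4300) (iv2 F6172)
theorem E1026 : n4363 = n973 := (c21_2 D1844 (iv1 F6305) (iv5 D973) F1168 D970 D1866 D4461 (iv1 F7278) (iv5 D4267) (iv6 D1812) (iv1 F1816))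
theorem E1027 : n1873 = n1839 := ((D1873).symm.trans (sb E1026 (iv1 D4363)))
theorem E1028 : n1874 = n1844 := ((D1874).symm.trans (sb E1026 F6305))
theorem E1029 : n4362 = n1890 := ((D4362).symm.trans (sb E1027 (iv1 F3176)))
theorem F7280 : act 1 n1839 = n973 := (sb E1027 (iv0 D1873))
theorem E1031 : n4477 = n4355 := ((((iv3 F6273)).symm.trans (sb E1027 D4477))).symm
theorem E1032 : n4478 = n4364 := (((D4364).symm.trans (sb E1027 D4478))).symm
theorem F7281 : act 0 n1844 = n973 := (sb E1028 (iv1 D1874))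
theorem E1038 : n4484 = n963 := ((((iv5 D1844)).symm.trans (sb E1028 D4484))).symm
theorem F7282 : act 0 n1890 = n1844 := (sb E1029 (iv1 F6308))
theorem F7283 : act 1 n1890 = n1839 := (sb E1029 (iv0 D4362))
theorem F7284 : act 4 n4355 = n4689 := (sb E1031 F6786)
theorem F7285 : act 0 n4364 = n4815 := (sb E1032 (iv1 F6960))
theorem E1040 : n4387 = n1845 := (((D1845).symm.trans (sb E1038 (iv6 F7276)))).symm
theorem E1041 : n4381 = n1855 := ((D4381).symm.trans (sb E1040 (iv1 F6330)))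
theorem E1042 : n4382 = n1847 := ((D4382).symm.trans (sb E1040 (iv0 D4387)))
theorem F7286 : act 1 n1855 = n1845 := (sb E1041 (iv0 D4381))
theorem F7287 : act 0 n1847 = n1845 := (sb E1042 (iv1 D4382))
theorem F7288 : act 7 n4388 = n4371 := d15_2 (iv0 F7287) D4388 F6309
theorem F7290 : act 6 n4370 = n4388 := d14_5 F7288 (iv6 D4371) (iv7 D1841) D1840 D4370
theorem E1043 : n4016 = n3995 := (c20_5 F1752 F1127 (iv4 F1737) (iv3 F3002) D4016 (iv3 F6315) F6316 (iv1 F7286) F3143 F3142 (iv1 F1829))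
theorem F7291 : act 1 n3995 = n1742 := (sb E1043 (iv0 D4016))
theorem E1044 : n4681 = n1731 := ((((iv6 D3995)).symm.trans (sb E1043 F7269))).symm
theorem E1045 : n3994 = n1941 := ((D3994).symm.trans (sb E1044 (iv5 D4681)))
theorem E1046 : n4679 = n4377 := ((D4679).symm.trans (sb E1045 (iv3 F6314)))
theorem F7292 : act 5 n1941 = n1731 := (sb E1045 (iv5 D3994))
theorem F7293 : act 1 n4377 = n4811 := (sb E1046 (iv0 F6901))
theorem F7294 : act 3 n4377 = n1941 := (sb E1046 (iv3 D4679))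
theorem F7295 : act 4 n4377 = n4487 := (sb E1046 F6782)
theorem F7296 : act 5 n3992 = n4678 := d2_2 F7292 D3992 (iv2 D4678)
theorem F7297 : act 5 n3996 = n4683 := d13_3 (iv7 D4683) F7292 D3996
theorem F7298 : act 5 n3526 = n4671 := d17_1 D3526 (iv1 F6772) (iv5 D3784) F2836 D1917 F3246 F7292 (iv0 D1731) (iv4 F2713)
theorem F7299 : act 0 n4658 = n4003 := d21_7 (iv5 F7292) (iv1 F3246) (iv5 D1917) F1860 (iv1 F1868) D1933 D4658 (iv5 D4003) (iv6 D1734) D1731
theorem E1047 : n4686 = n1732 := (c2_3 F7297 F6783 D4686 (iv2 F5938))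
theorem E1048 : n3998 = n1942 := ((D3998).symm.trans (sb E1047 (iv5 D4686)))
theorem F7300 : act 5 n1942 = n1732 := (sb E1048 (iv5 D3998))
theorem F7301 : act 5 n3997 = n4684 := d6_2 F7300 D3997 (iv3 D4684)
theorem F7302 : act 5 n3527 = n4672 := d17_1 (iv1 F5907) (iv1 D4672) (iv5 D1939) (iv4 D993) D994 D1942 F7300 F3001 (iv4 F5904)
theorem F7303 : act 5 n4555 = n4420 := d21_6 D1839 (iv1 F7283) (iv5 D1890) D1891 (iv1 F3187) D4555 (iv1 D4420) (iv5 D1854) (iv6 D966) D962
theorem F7304 : act 4 n4486 = n4359 := d18_3 F7281 D1875 D4486 (iv5 D4359) (iv4 D1838) (iv0 D962) F1153 D963 D1844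
theorem F7305 : act 1 n4359 = n4168 := d18_8 F6542 (iv4 D1864) (iv1 F1840) F1838 D1890 D4525 F6591 F7304 F7142
theorem F7306 : act 1 n4811 = n4359 := d15_0 F7305 F7143 (iv2 F6900)
theorem E1049 : n4814 = n4255 := ((c17_2 F6298 D4255 (iv1 D4814) (iv5 D1987) (iv4 F6552) D4811 F7306 (iv5 D4359) (iv0 F6041) (iv4 F6300))).symm
theorem F7307 : act 0 n4255 = n1987 := (sb E1049 (iv1 D4814))
theorem F7308 : act 0 n4815 = n4379 := d18_2 F7307 D4815 (iv4 D4379) (iv5 D1844) D1843 F6280 (iv4 F6292) F6291 D4255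
theorem F7309 : act 5 n4291 = n4556 := d21_6 (iv5 F7245) (iv1 D1814) (iv5 D949) D950 D1817 D4291 (iv1 F6612) (iv5 D4527) (iv6 D1891) (iv1 F1842)
theorem F7310 : act 1 n4850 = n4466 := d15_1 F7243 (iv7 F6574) F6572
def n4890 : Q := act 4 n2018
theorem D4890 : act 4 n2018 = n4890 := rfl
theorem F7311 : act 0 n4890 = n4276 := d18_2 (iv1 F7105) D4890 (iv4 D4276) F7245 D1869 (iv0 F6550) F6552 (iv0 F6487) D4517
theorem F7312 : act 1 n4890 = n4271 := d18_6 D946 D1803 (iv1 F6299) F6300 (iv5 F7106) D4890 (iv4 D4271) (iv0 D1813) (iv5 D949)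
def n4891 : Q := act 6 n2018
theorem D4891 : act 6 n2018 = n4891 := rfl
theorem F7313 : act 3 n4891 = n2021 := d7_1 D4891 (iv6 D2021) D2018
def n4892 : Q := act 3 n2019
theorem D4892 : act 3 n2019 = n4892 := rfl
def n4893 : Q := act 5 n2019
theorem D4893 : act 5 n2019 = n4893 := rfl
def n4894 : Q := act 6 n2019
theorem D4894 : act 6 n2019 = n4894 := rfl
theorem F7314 : act 4 n4894 = n2021 := d10_1 D4894 (iv6 D2021) D2019
def n4895 : Q := act 0 n2021
theorem D4895 : act 0 n2021 = n4895 := rfl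
def n4896 : Q := act 1 n2021
theorem D4896 : act 1 n2021 = n4896 := rfl
def n4897 : Q := act 5 n2021
theorem D4897 : act 5 n2021 = n4897 := rfl
theorem F7315 : act 6 n4897 = n4146 := d12_2 D2021 D4897 (iv5 D4146) (iv6 D1778) F7108
def n4898 : Q := act 7 n2021
theorem D4898 : act 7 n2021 = n4898 := rfl
def n4899 : Q := act 2 n2022
theorem D4899 : act 2 n2022 = n4899 := rfl
theorem F7316 : act 7 n2023 = n4899 := d15_2 (iv0 D2022) D2023 (iv2 D4899)
def n4900 : Q := act 3 n2022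
theorem D4900 : act 3 n2022 = n4900 := rfl
def n4901 : Q := act 4 n2022
theorem D4901 : act 4 n2022 = n4901 := rfl
theorem F7317 : act 5 n4901 = n3540 := d18_4 (iv1 D1014) D1015 D2022 D4901 (iv4 D3540) (iv0 D1562) F1593 D936 F7108
theorem F7318 : act 1 n4901 = n4275 := d18_8 F6379 (iv4 D1670) D1667 F2854 D1953 D4723 F6816 D4901 F7247
def n4902 : Q := act 5 n2022
theorem D4902 : act 5 n2022 = n4902 := rfl
theorem F7319 : act 1 n4902 = n4175 := d17_6 (iv1 F6919) (iv5 D4253) F6152 (iv5 F7317) (iv4 D4901) D4902 (iv5 D4175) D4173 (iv4 F7185)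
def n4903 : Q := act 6 n2022
theorem D4903 : act 6 n2022 = n4903 := rfl
def n4904 : Q := act 7 n2022
theorem D4904 : act 7 n2022 = n4904 := rfl
theorem F7320 : act 2 n4904 = n2023 := d4_1 D4904 F7316 (iv2 D4899)
def n4905 : Q := act 3 n2023
theorem D4905 : act 3 n2023 = n4905 := rfl
def n4906 : Q := act 4 n2023
theorem D4906 : act 4 n2023 = n4906 := rfl
theorem F7321 : act 5 n4906 = n3545 := d18_4 (iv1 F3269) D4723 (iv1 F6815) D4906 (iv4 D3545) F5567 F5565 (iv0 D1768) F7097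
theorem F7322 : act 3 n2053 = n4906 := d20_5 F1200 (iv1 D649) D650 D1023 D2053 (iv4 D4906) (iv1 D2023) (iv4 D1015) F1193 D648
theorem E1050 : n4210 = n2053 := (c6_1 D4210 F7322 F7321 (iv3 F5570))
theorem F7323 : act 5 n2053 = n1795 := (sb E1050 (iv5 D4210))
theorem F7324 : act 0 n4071 = n4876 := d20_7 D4723 (iv1 F6815) D4906 (iv3 F7322) (iv1 F3349) F3018 D4071 (iv4 D4876) (iv3 D2013) (iv1 F3269)
theorem E1051 : n4211 = n4090 := (c21_4 (iv5 F1901) D2053 F7323 D4211 (iv1 F6123) (iv6 D4218) (iv5 F6084) (iv1 F6088) F7015 F7177 (iv1 F6411))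
theorem F7325 : act 6 n4090 = n1795 := (sb E1051 (iv6 D4211))
theorem E1052 : n4215 = n2054 := (c21_1 D4215 (iv1 D2054) F1901 D1763 D4090 F7325 (iv5 F7323) (iv1 F3349) (iv5 D1758) (iv6 F2942) (iv1 F3059))
theorem F7326 : act 5 n2054 = n1796 := (sb E1052 (iv5 D4215))
def n4907 : Q := act 5 n2023
theorem D4907 : act 5 n2023 = n4907 := rfl
theorem F7327 : act 0 n4907 = n4175 := d17_2 (iv1 F6815) D4907 (iv5 D4175) (iv4 D1784) (iv5 D938) D936 F7108 F3268 D4723
def n4908 : Q := act 6 n2023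
theorem D4908 : act 6 n2023 = n4908 := rfl
def n4909 : Q := act 0 n2024
theorem D4909 : act 0 n2024 = n4909 := rfl
theorem F7328 : act 2 n4084 = n4909 := d15_3 (iv0 D4909) (iv0 F7047) F7232
theorem F7329 : act 1 n4071 = n4909 := d15_0 (iv0 D4909) (iv7 F3317) (iv2 F6001)
theorem F7330 : act 7 n4909 = n4083 := d15_2 (iv0 F7324) F7329 (iv2 F7233)
def n4910 : Q := act 2 n2024
theorem D4910 : act 2 n2024 = n4910 := rfl
theorem F7331 : act 4 n4910 = n2055 := d1_2 (iv4 F3316) D4910 (iv2 D2055)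
theorem F7332 : act 7 n4910 = n4071 := d4_2 F3317 D4910 F6001
theorem F7333 : act 1 n4910 = n4083 := d15_0 (iv0 D4083) F3317 D4910
theorem F7334 : act 1 n4084 = n4910 := d15_0 F7333 (iv7 F7330) (iv2 F7328)
theorem F7335 : act 1 n4875 = n4598 := d18_8 (iv1 F6528) F6530 D3952 F5909 (iv5 F3351) (iv4 F7331) F7333 F7234 (iv5 D4598)
theorem F7336 : act 1 n4598 = n4855 := d15_1 F7335 F7103 D4875
theorem F7337 : act 5 n3962 = n3623 := d17_3 (iv1 D1715) D1717 D3962 F6281 (iv5 F7235) F7335 (iv5 D4598) (iv0 F6533) F6535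
def n4911 : Q := act 5 n2024
theorem D4911 : act 5 n2024 = n4911 := rfl
theorem F7338 : act 3 n4911 = n2025 := d6_1 D4911 (iv5 D2025) D2024
theorem F7339 : act 7 n4911 = n4085 := d13_2 F3317 D4911 (iv5 D4085)
def n4912 : Q := act 6 n2024
theorem D4912 : act 6 n2024 = n4912 := rfl
theorem F7340 : act 3 n4912 = n2026 := d7_1 D4912 (iv6 D2026) D2024
theorem F7341 : act 4 n4912 = n2056 := d10_1 D4912 (iv6 D2056) (iv4 F3316)
def n4913 : Q := act 0 n2025
theorem D4913 : act 0 n2025 = n4913 := rfl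
def n4914 : Q := act 1 n2025
theorem D4914 : act 1 n2025 = n4914 := rfl
def n4915 : Q := act 4 n2025
theorem D4915 : act 4 n2025 = n4915 := rfl
def n4916 : Q := act 6 n2025
theorem D4916 : act 6 n2025 = n4916 := rfl
def n4917 : Q := act 7 n2025
theorem D4917 : act 7 n2025 = n4917 := rfl
theorem F7342 : act 3 n4917 = n4085 := d8_1 D4917 (iv7 F7339) F7338
theorem F7343 : act 5 n4917 = n2027 := d13_1 D4917 (iv7 D2027) D2025
def n4918 : Q := act 0 n2026
theorem D4918 : act 0 n2026 = n4918 := rfl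
def n4919 : Q := act 1 n2026
theorem D4919 : act 1 n2026 = n4919 := rfl
def n4920 : Q := act 5 n2026
theorem D4920 : act 5 n2026 = n4920 := rfl
def n4921 : Q := act 7 n2026
theorem D4921 : act 7 n2026 = n4921 := rfl
theorem F7344 : act 4 n4921 = n2030 := d11_1 D4921 (iv7 D2030) (iv4 F3318)
def n4922 : Q := act 6 n2027
theorem D4922 : act 6 n2027 = n4922 := rfl
theorem F7345 : act 3 n4922 = n4086 := d7_1 D4922 (iv6 D4086) (iv3 F3319)
theorem F7346 : act 4 n4922 = n2031 := d10_1 D4922 (iv6 D2031) (iv4 F3320)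
def n4923 : Q := act 2 n2028
theorem D4923 : act 2 n2028 = n4923 := rfl
theorem F7347 : act 7 n2029 = n4923 := d15_2 (iv0 D2028) D2029 (iv2 D4923)
def n4924 : Q := act 3 n2028
theorem D4924 : act 3 n2028 = n4924 := rfl
def n4925 : Q := act 4 n2028
theorem D4925 : act 4 n2028 = n4925 := rfl
def n4926 : Q := act 5 n2028
theorem D4926 : act 5 n2028 = n4926 := rfl
def n4927 : Q := act 6 n2028
theorem D4927 : act 6 n2028 = n4927 := rfl
theorem F7348 : act 5 n4927 = n4865 := d21_6 (iv5 D1008) (iv1 D644) D646 D1016 D2028 D4927 (iv1 D4865) (iv5 F6067) (iv6 D4161) (iv1 F6910)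
def n4928 : Q := act 7 n2028
theorem D4928 : act 7 n2028 = n4928 := rfl
theorem F7349 : act 2 n4928 = n2029 := d4_1 D4928 F7347 (iv2 D4923)
def n4929 : Q := act 3 n2029
theorem D4929 : act 3 n2029 = n4929 := rfl
def n4930 : Q := act 4 n2029
theorem D4930 : act 4 n2029 = n4930 := rfl
def n4931 : Q := act 5 n2029
theorem D4931 : act 5 n2029 = n4931 := rfl
theorem F7350 : act 6 n4864 = n4931 := d21_5 F7120 (iv1 F6536) D1012 D2011 D4864 (iv5 D4931) (iv1 D2029) (iv5 F3037) (iv6 D1785) D1782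
def n4932 : Q := act 6 n2029
theorem D4932 : act 6 n2029 = n4932 := rfl
def n4933 : Q := act 6 n2030
theorem D4933 : act 6 n2030 = n4933 := rfl
theorem F7351 : act 3 n4933 = n2070 := d7_1 D4933 (iv6 D2070) (iv3 F3321)
theorem F7352 : act 7 n4933 = n2031 := d14_2 D2030 D4933 (iv6 D2031) (iv7 D1017) D1016
def n4934 : Q := act 0 n2031
theorem D4934 : act 0 n2031 = n4934 := rfl
def n4935 : Q := act 1 n2031
theorem D4935 : act 1 n2031 = n4935 := rfl
def n4936 : Q := act 5 n2031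
theorem D4936 : act 5 n2031 = n4936 := rfl
theorem F7353 : act 3 n4936 = n2073 := d6_1 D4936 (iv5 D2073) (iv3 F3322)
theorem F7354 : act 6 n4936 = n2034 := d12_2 D2031 D4936 (iv5 D2034) (iv6 D1018) (iv5 F1893)
def n4937 : Q := act 3 n2032
theorem D4937 : act 3 n2032 = n4937 := rfl
theorem F7355 : act 6 n4937 = n4117 := d7_2 (iv6 F6989) D4937 F6037
def n4938 : Q := act 4 n2032
theorem D4938 : act 4 n2032 = n4938 := rfl
theorem F7356 : act 2 n4938 = n4141 := d1_1 D4938 F6057 (iv2 F6988)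
theorem F7357 : act 6 n4938 = n4123 := d10_2 (iv6 F6989) D4938 F6046
def n4939 : Q := act 5 n2032
theorem D4939 : act 5 n2032 = n4939 := rfl
theorem F7358 : act 2 n4939 = n4146 := d2_1 D4939 (iv5 D4146) (iv2 F6988)
def n4940 : Q := act 3 n2033
theorem D4940 : act 3 n2033 = n4940 := rfl
theorem F7359 : act 7 n4940 = n4138 := d8_2 (iv7 F6990) D4940 F6054
def n4941 : Q := act 4 n2033
theorem D4941 : act 4 n2033 = n4941 := rfl
theorem F7360 : act 7 n4941 = n4141 := d11_2 (iv7 F6990) D4941 F6057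
def n4942 : Q := act 5 n2033
theorem D4942 : act 5 n2033 = n4942 := rfl
theorem F7361 : act 7 n4942 = n4146 := d13_2 (iv7 F6990) D4942 (iv5 D4146)
def n4943 : Q := act 6 n2033
theorem D4943 : act 6 n2033 = n4943 := rfl
theorem F7362 : act 2 n4943 = n4132 := d3_1 D4943 F7223 (iv2 F7222)
theorem F7363 : act 7 n4943 = n4110 := d14_2 (iv7 F6990) D4943 (iv6 D4110) (iv7 F3030) D1778
theorem F7365 : act 1 n4132 = n4840 := d15_0 (iv0 F7001) (iv7 F7363) F7362
theorem F7366 : act 1 n4943 = n4129 := d15_0 (iv0 D4129) D4132 (iv2 F7362)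
def n4944 : Q := act 1 n2034
theorem D4944 : act 1 n2034 = n4944 := rfl
theorem F7367 : act 5 n4943 = n4944 := d21_0 (iv1 D4944) (iv5 D2034) (iv6 D1018) F6537 D1983 D4810 (iv1 F7162) (iv5 D4844) (iv6 F7237) (iv1 F7366)
def n4945 : Q := act 4 n2034
theorem D4945 : act 4 n2034 = n4945 := rfl
def n4946 : Q := act 4 n2037
theorem D4946 : act 4 n2037 = n4946 := rfl
theorem F7368 : act 2 n4946 = n2038 := d1_1 D4946 (iv4 D2038) D2037
def n4947 : Q := act 6 n2037
theorem D4947 : act 6 n2037 = n4947 := rfl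
theorem F7369 : act 2 n4947 = n2039 := d3_1 D4947 (iv6 D2039) D2037
theorem F7370 : act 3 n4947 = n4947 := d7_1 D4947 (iv6 D4947) F3324
def n4948 : Q := act 0 n2038
theorem D4948 : act 0 n2038 = n4948 := rfl
def n4949 : Q := act 1 n2038
theorem D4949 : act 1 n2038 = n4949 := rfl
theorem F7371 : act 4 n4392 = n4949 := d20_6 F1208 (iv1 F1144) (iv4 F1157) (iv3 F1818) D1848 D4392 (iv1 D4949) (iv4 D2038) (iv3 D1019) (iv1 F1210)
def n4950 : Q := act 5 n2038
theorem D4950 : act 5 n2038 = n4950 := rfl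
def n4951 : Q := act 6 n2038
theorem D4951 : act 6 n2038 = n4951 := rfl
theorem F7372 : act 4 n4951 = n2039 := d10_1 D4951 (iv6 D2039) D2038
def n4952 : Q := act 0 n2039
theorem D4952 : act 0 n2039 = n4952 := rfl
def n4953 : Q := act 1 n2039
theorem D4953 : act 1 n2039 = n4953 := rfl
def n4954 : Q := act 5 n2039
theorem D4954 : act 5 n2039 = n4954 := rfl
theorem F7373 : act 3 n4954 = n2042 := d6_1 D4954 (iv5 D2042) (iv3 F3326)
theorem F7374 : act 6 n4954 = n4003 := d12_2 D2039 D4954 (iv5 D4003) (iv6 D1734) (iv5 F1895)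
def n4955 : Q := act 7 n2039
theorem D4955 : act 7 n2039 = n4955 := rfl
theorem F7375 : act 3 n4955 = n2043 := d8_1 D4955 (iv7 D2043) (iv3 F3326)
def n4956 : Q := act 2 n2040
theorem D4956 : act 2 n2040 = n4956 := rfl
theorem F7376 : act 7 n2041 = n4956 := d15_2 (iv0 D2040) D2041 (iv2 D4956)
def n4957 : Q := act 3 n2040
theorem D4957 : act 3 n2040 = n4957 := rfl
def n4958 : Q := act 4 n2040
theorem D4958 : act 4 n2040 = n4958 := rfl
def n4959 : Q := act 5 n2040
theorem D4959 : act 5 n2040 = n4959 := rfl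
def n4960 : Q := act 7 n2040
theorem D4960 : act 7 n2040 = n4960 := rfl
theorem F7377 : act 2 n4960 = n2041 := d4_1 D4960 F7376 (iv2 D4956)
def n4961 : Q := act 3 n2041
theorem D4961 : act 3 n2041 = n4961 := rfl
def n4962 : Q := act 4 n2041
theorem D4962 : act 4 n2041 = n4962 := rfl
def n4963 : Q := act 5 n2041
theorem D4963 : act 5 n2041 = n4963 := rfl
def n4964 : Q := act 6 n2041
theorem D4964 : act 6 n2041 = n4964 := rfl
def n4965 : Q := act 0 n2042
theorem D4965 : act 0 n2042 = n4965 := rfl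
def n4966 : Q := act 1 n2042
theorem D4966 : act 1 n2042 = n4966 := rfl
theorem F7378 : act 5 n4712 = n4966 := d21_6 F1209 (iv1 F605) D641 D996 D1948 D4712 (iv1 D4966) (iv5 D2042) (iv6 D1020) (iv1 F1210)
def n4967 : Q := act 4 n2042
theorem D4967 : act 4 n2042 = n4967 := rfl
theorem F7379 : act 2 n4967 = n4967 := d1_1 D4967 (iv4 D4967) F3327
theorem F7380 : act 6 n4967 = n4005 := d10_2 (iv6 F3328) D4967 (iv4 D4005)
def n4968 : Q := act 7 n2042
theorem D4968 : act 7 n2042 = n4968 := rfl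
theorem F7381 : act 2 n4968 = n4968 := d4_1 D4968 (iv7 D4968) F3327
theorem F7382 : act 5 n4968 = n2043 := d13_1 D4968 (iv7 D2043) D2042
theorem F7383 : act 1 n4968 = n4965 := d15_0 (iv0 D4965) D4968 F7381
theorem F7384 : act 1 n4966 = n4968 := d15_1 D4966 (iv7 D4968) F3327
def n4969 : Q := act 4 n2046
theorem D4969 : act 4 n2046 = n4969 := rfl
theorem F7385 : act 2 n4969 = n2047 := d1_1 D4969 (iv4 D2047) D2046
theorem F7386 : act 7 n4969 = n4946 := d11_2 (iv7 F3335) D4969 (iv4 D4946)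
theorem F7387 : act 0 n4969 = n4949 := d18_2 (iv1 F7079) D4969 (iv4 F7371) F7052 F3169 (iv0 F3227) (iv4 D1934) F1867 D1910
theorem F7388 : act 1 n4969 = n4948 := d15_0 (iv0 D4948) (iv7 F3340) (iv2 F7385)
def n4970 : Q := act 6 n2046
theorem D4970 : act 6 n2046 = n4970 := rfl
theorem F7389 : act 2 n4970 = n2048 := d3_1 D4970 (iv6 D2048) D2046
theorem F7390 : act 3 n4970 = n4970 := d7_1 D4970 (iv6 D4970) F3333
def n4971 : Q := act 0 n2047
theorem D4971 : act 0 n2047 = n4971 := rfl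
theorem F7391 : act 1 n4946 = n4971 := d15_0 (iv0 D4971) F3340 (iv2 F7368)
def n4972 : Q := act 1 n2047
theorem D4972 : act 1 n2047 = n4972 := rfl
theorem F7392 : act 1 n4972 = n4946 := d15_1 D4972 (iv7 F7386) F7385
theorem F7393 : act 4 n4270 = n4972 := d20_6 D650 F1203 F1157 (iv3 F1781) D1813 D4270 (iv1 D4972) (iv4 D2047) (iv3 D1021) (iv1 D649)
theorem F7394 : act 7 n4972 = n4949 := d11_2 (iv7 F7256) F7393 (iv4 F7371)
theorem F7395 : act 2 n4949 = n4971 := d15_3 (iv0 D4971) D4972 F7394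
theorem F7396 : act 2 n4972 = n4948 := d15_3 (iv0 D4948) D4949 (iv7 F7394)
theorem F7397 : act 7 n4948 = n4971 := d4_2 (iv7 F7394) F7396 (iv2 F7395)
def n4973 : Q := act 5 n2047
theorem D4973 : act 5 n2047 = n4973 := rfl
theorem F7398 : act 3 n4973 = n4950 := d6_1 D4973 (iv5 D4950) (iv3 F3339)
theorem F7399 : act 7 n4973 = n4950 := d13_2 (iv7 F3340) D4973 (iv5 D4950)
def n4974 : Q := act 6 n2047
theorem D4974 : act 6 n2047 = n4974 := rfl
theorem F7400 : act 3 n4974 = n4951 := d7_1 D4974 (iv6 D4951) (iv3 F3339)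
theorem F7401 : act 4 n4974 = n2048 := d10_1 D4974 (iv6 D2048) D2047
def n4975 : Q := act 0 n2048
theorem D4975 : act 0 n2048 = n4975 := rfl
def n4976 : Q := act 1 n2048
theorem D4976 : act 1 n2048 = n4976 := rfl
def n4977 : Q := act 5 n2048
theorem D4977 : act 5 n2048 = n4977 := rfl
theorem F7402 : act 3 n4977 = n2051 := d6_1 D4977 (iv5 D2051) (iv3 F3341)
theorem F7403 : act 6 n4977 = n4018 := d12_2 D2048 D4977 (iv5 D4018) (iv6 D1742) (iv5 F1897)
def n4978 : Q := act 7 n2048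
theorem D4978 : act 7 n2048 = n4978 := rfl
theorem F7404 : act 3 n4978 = n2052 := d8_1 D4978 (iv7 D2052) (iv3 F3341)
theorem F7405 : act 6 n4978 = n4955 := d14_1 D4978 (iv7 D4955) (iv6 D2039) (iv7 F1898) D2048
def n4979 : Q := act 2 n2049
theorem D4979 : act 2 n2049 = n4979 := rfl
theorem F7406 : act 7 n2050 = n4979 := d15_2 (iv0 D2049) D2050 (iv2 D4979)
def n4980 : Q := act 3 n2049
theorem D4980 : act 3 n2049 = n4980 := rfl
def n4981 : Q := act 4 n2049
theorem D4981 : act 4 n2049 = n4981 := rfl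
def n4982 : Q := act 5 n2049
theorem D4982 : act 5 n2049 = n4982 := rfl
def n4983 : Q := act 6 n2049
theorem D4983 : act 6 n2049 = n4983 := rfl
theorem F7407 : act 5 n4983 = n4719 := d21_6 F1767 (iv1 F1133) (iv5 F1198) D1022 D2049 D4983 (iv1 D4719) (iv5 D1950) (iv6 D996) (iv1 F1768)
def n4984 : Q := act 7 n2049
theorem D4984 : act 7 n2049 = n4984 := rfl
theorem F7408 : act 2 n4984 = n2050 := d4_1 D4984 F7406 (iv2 D4979)
def n4985 : Q := act 3 n2050
theorem D4985 : act 3 n2050 = n4985 := rfl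
def n4986 : Q := act 4 n2050
theorem D4986 : act 4 n2050 = n4986 := rfl
def n4987 : Q := act 5 n2050
theorem D4987 : act 5 n2050 = n4987 := rfl
theorem F7409 : act 6 n4965 = n4987 := d21_5 (iv5 D1835) F1809 D1735 (iv6 F3328) D4965 (iv5 D4987) (iv1 D2050) D2051 F3343 (iv1 F3124)
def n4988 : Q := act 6 n2050
theorem D4988 : act 6 n2050 = n4988 := rfl
def n4989 : Q := act 0 n2051
theorem D4989 : act 0 n2051 = n4989 := rfl
def n4990 : Q := act 1 n2051
theorem D4990 : act 1 n2051 = n4990 := rfl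
theorem F7410 : act 5 n4631 = n4990 := d21_6 (iv5 D342) D339 D639 D989 D1922 D4631 (iv1 D4990) (iv5 D2051) (iv6 D1022) (iv1 D649)
def n4991 : Q := act 4 n2051
theorem D4991 : act 4 n2051 = n4991 := rfl
theorem F7411 : act 2 n4991 = n4991 := d1_1 D4991 (iv4 D4991) F3342
def n4992 : Q := act 7 n2051
theorem D4992 : act 7 n2051 = n4992 := rfl
theorem F7413 : act 2 n4992 = n4992 := d4_1 D4992 (iv7 D4992) F3342
theorem F7414 : act 5 n4992 = n2052 := d13_1 D4992 (iv7 D2052) D2051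
theorem F7415 : act 1 n4992 = n4989 := d15_0 (iv0 D4989) D4992 F7413
theorem F7416 : act 1 n4990 = n4992 := d15_1 D4990 (iv7 D4992) F3342
def n4993 : Q := act 2 n2053
theorem D4993 : act 2 n2053 = n4993 := rfl
theorem F7417 : act 5 n4993 = n4208 := d2_2 (iv5 F7323) D4993 (iv2 D4208)
theorem F7418 : act 7 n2054 = n4993 := d15_2 (iv0 D2053) D2054 (iv2 D4993)
def n4994 : Q := act 4 n2053
theorem D4994 : act 4 n2053 = n4994 := rfl
def n4995 : Q := act 6 n2053
theorem D4995 : act 6 n2053 = n4995 := rfl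
def n4996 : Q := act 7 n2053
theorem D4996 : act 7 n2053 = n4996 := rfl
theorem F7419 : act 2 n4996 = n2054 := d4_1 D4996 F7418 (iv2 D4993)
def n4997 : Q := act 3 n2054
theorem D4997 : act 3 n2054 = n4997 := rfl
theorem F7421 : act 5 n4997 = n4213 := d6_2 (iv5 F7326) D4997 (iv3 D4213)
def n4998 : Q := act 4 n2054
theorem D4998 : act 4 n2054 = n4998 := rfl
def n4999 : Q := act 6 n2054
theorem D4999 : act 6 n2054 = n4999 := rfl
def n5000 : Q := act 6 n2055
theorem D5000 : act 6 n2055 = n5000 := rfl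
theorem F7422 : act 2 n5000 = n2056 := d3_1 D5000 (iv6 D2056) D2055
theorem F7423 : act 3 n5000 = n5000 := d7_1 D5000 (iv6 D5000) F3350
def n5001 : Q := act 0 n2056
theorem D5001 : act 0 n2056 = n5001 := rfl
def n5002 : Q := act 1 n2056
theorem D5002 : act 1 n2056 = n5002 := rfl
def n5003 : Q := act 5 n2056
theorem D5003 : act 5 n2056 = n5003 := rfl
theorem F7424 : act 3 n5003 = n2059 := d6_1 D5003 (iv5 D2059) (iv3 F3356)
theorem F7425 : act 6 n5003 = n4092 := d12_2 D2056 D5003 (iv5 D4092) (iv6 D1763) (iv5 F1901)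
def n5004 : Q := act 7 n2056
theorem D5004 : act 7 n2056 = n5004 := rfl
theorem F7426 : act 3 n5004 = n2060 := d8_1 D5004 (iv7 D2060) (iv3 F3356)
theorem F7427 : act 6 n5004 = n4089 := d14_1 D5004 (iv7 D4089) (iv6 D1762) (iv7 F1902) D2056
def n5005 : Q := act 2 n2057
theorem D5005 : act 2 n2057 = n5005 := rfl
theorem F7428 : act 7 n2058 = n5005 := d15_2 (iv0 D2057) D2058 (iv2 D5005)
def n5006 : Q := act 3 n2057
theorem D5006 : act 3 n2057 = n5006 := rfl
def n5007 : Q := act 4 n2057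
theorem D5007 : act 4 n2057 = n5007 := rfl
def n5008 : Q := act 5 n2057
theorem D5008 : act 5 n2057 = n5008 := rfl
def n5009 : Q := act 6 n2057
theorem D5009 : act 6 n2057 = n5009 := rfl
def n5010 : Q := act 7 n2057
theorem D5010 : act 7 n2057 = n5010 := rfl
theorem F7429 : act 2 n5010 = n2058 := d4_1 D5010 F7428 (iv2 D5005)
def n5011 : Q := act 3 n2058
theorem D5011 : act 3 n2058 = n5011 := rfl
def n5012 : Q := act 4 n2058
theorem D5012 : act 4 n2058 = n5012 := rfl
def n5013 : Q := act 5 n2058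
theorem D5013 : act 5 n2058 = n5013 := rfl
def n5014 : Q := act 6 n2058
theorem D5014 : act 6 n2058 = n5014 := rfl
def n5015 : Q := act 0 n2059
theorem D5015 : act 0 n2059 = n5015 := rfl
def n5016 : Q := act 1 n2059
theorem D5016 : act 1 n2059 = n5016 := rfl
def n5017 : Q := act 4 n2059
theorem D5017 : act 4 n2059 = n5017 := rfl
theorem F7430 : act 2 n5017 = n5017 := d1_1 D5017 (iv4 D5017) F3357
theorem F7431 : act 6 n5017 = n4102 := d10_2 (iv6 F3358) D5017 (iv4 D4102)
def n5018 : Q := act 7 n2059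
theorem D5018 : act 7 n2059 = n5018 := rfl
theorem F7432 : act 2 n5018 = n5018 := d4_1 D5018 (iv7 D5018) F3357
theorem F7433 : act 5 n5018 = n2060 := d13_1 D5018 (iv7 D2060) D2059
theorem F7434 : act 1 n5018 = n5015 := d15_0 (iv0 D5015) D5018 F7432
theorem F7435 : act 1 n5016 = n5018 := d15_1 D5016 (iv7 D5018) F3357
def n5021 : Q := act 3 n2061
theorem D5021 : act 3 n2061 = n5021 := rfl
theorem F7438 : act 7 n5021 = n2067 := d8_2 F3364 D5021 (iv3 D2067)
def n5022 : Q := act 4 n2061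
theorem D5022 : act 4 n2061 = n5022 := rfl
theorem F7439 : act 2 n5022 = n2063 := d1_1 D5022 (iv4 D2063) D2061
theorem F7440 : act 7 n5022 = n2068 := d11_2 F3364 D5022 (iv4 D2068)
def n5023 : Q := act 5 n2061
theorem D5023 : act 5 n2061 = n5023 := rfl
theorem F7441 : act 2 n5023 = n2064 := d2_1 D5023 (iv5 D2064) D2061
theorem F7442 : act 7 n5023 = n2065 := d13_2 F3364 D5023 F3365
def n5024 : Q := act 6 n2061
theorem D5024 : act 6 n2061 = n5024 := rfl
theorem F7443 : act 2 n5024 = n2065 := d3_1 D5024 (iv6 D2065) D2061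
theorem F7445 : act 7 n2064 = n5024 := d4_0 F7443 (iv7 F7442) F7441
def n5025 : Q := act 0 n2062
theorem D5025 : act 0 n2062 = n5025 := rfl
def n5026 : Q := act 1 n2062
theorem D5026 : act 1 n2062 = n5026 := rfl
def n5027 : Q := act 2 n2062
theorem D5027 : act 2 n2062 = n5027 := rfl
def n5028 : Q := act 4 n2062
theorem D5028 : act 4 n2062 = n5028 := rfl
def n5029 : Q := act 5 n2062
theorem D5029 : act 5 n2062 = n5029 := rfl
theorem F7446 : act 3 n5029 = n2064 := d6_1 D5029 (iv5 D2064) D2062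
def n5030 : Q := act 6 n2062
theorem D5030 : act 6 n2062 = n5030 := rfl
theorem F7447 : act 3 n5030 = n2065 := d7_1 D5030 (iv6 D2065) D2062
theorem F7448 : act 5 n2067 = n5030 := d6_0 F7447 F3365 D2067
def n5031 : Q := act 7 n2062
theorem D5031 : act 7 n2062 = n5031 := rfl
def n5032 : Q := act 0 n2063
theorem D5032 : act 0 n2063 = n5032 := rfl
def n5033 : Q := act 1 n2063
theorem D5033 : act 1 n2063 = n5033 := rfl
theorem F7450 : act 1 n5033 = n2068 := d15_1 D5033 (iv7 F7440) F7439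
def n5034 : Q := act 3 n2063
theorem D5034 : act 3 n2063 = n5034 := rfl
def n5035 : Q := act 5 n2063
theorem D5035 : act 5 n2063 = n5035 := rfl
def n5036 : Q := act 6 n2063
theorem D5036 : act 6 n2063 = n5036 := rfl
theorem F7451 : act 4 n5036 = n2065 := d10_1 D5036 (iv6 D2065) D2063
def n5037 : Q := act 7 n2063
theorem D5037 : act 7 n2063 = n5037 := rfl
theorem F7452 : act 2 n5037 = n2068 := d4_1 D5037 (iv7 F7440) F7439
theorem F7454 : act 1 n2068 = n5032 := d15_0 (iv0 D5032) D5037 F7452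
def n5038 : Q := act 0 n2064
theorem D5038 : act 0 n2064 = n5038 := rfl
theorem F7455 : act 5 n5038 = n4717 := d21_2 D2064 D5038 (iv6 D4717) (iv1 D1949) (iv6 D996) (iv5 D641) (iv1 D340) D342 D651 D1025
theorem F7456 : act 1 n2065 = n5038 := d15_0 (iv0 D5038) F7445 F7443
theorem F7457 : act 0 n2069 = n4630 := d21_10 (iv5 D4630) (iv1 F3221) F3220 (iv6 F3259) (iv1 F3261) D4717 (iv5 F7455) (iv1 F7456) F3365 D2069
def n5039 : Q := act 1 n2064
theorem D5039 : act 1 n2064 = n5039 := rfl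
theorem F7458 : act 1 n5039 = n2065 := d15_1 D5039 (iv7 F7442) F7441
def n5040 : Q := act 4 n2064
theorem D5040 : act 4 n2064 = n5040 := rfl
def n5041 : Q := act 6 n2064
theorem D5041 : act 6 n2064 = n5041 := rfl
theorem F7459 : act 5 n5041 = n2069 := d12_1 D5041 (iv6 D2069) (iv5 F3365) (iv6 D2065) D2064
theorem F7460 : act 7 n5041 = n2069 := d14_2 (iv7 F7445) D5041 (iv6 D2069) F3364 D5024
theorem F7461 : act 0 n5041 = n4635 := d21_10 (iv5 D4635) (iv1 D1923) F1863 (iv6 D989) F1183 D941 F1764 D1025 D2064 D5041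
theorem F7462 : act 0 n4630 = n5041 := d21_1 D4630 F7459 (iv6 D2069) (iv1 D1026) (iv6 D651) (iv5 D342) D339 D639 D989 D1922
theorem F7463 : act 2 n5041 = n5041 := d15_3 (iv0 F7462) (iv0 F7457) (iv7 F7460)
theorem F7464 : act 2 n2069 = n2069 := d2_3 (iv5 F7459) F7463 F7459
theorem E1053 : n5023 = n2064 := (c3_4 D5041 F7463 (iv6 D5041) (iv2 F7441))
theorem F7465 : act 2 n2064 = n2064 := (sb E1053 F7441)
theorem E1054 : n2061 = n1025 := ((((iv5 D2064)).symm.trans (sb E1053 (iv5 D5023)))).symm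
theorem E1055 : n5024 = n2065 := ((F7445).symm.trans (sb E1053 F7442))
theorem F7466 : act 2 n1025 = n1025 := (sb E1054 (iv2 D2061))
theorem E1058 : n5021 = n2062 := (((D2062).symm.trans (sb E1054 D5021))).symm
theorem E1059 : n5022 = n2063 := (((D2063).symm.trans (sb E1054 D5022))).symm
theorem E1060 : n2066 = n1026 := ((D2066).symm.trans (sb E1054 (iv7 F3364)))
theorem F7467 : act 2 n2065 = n2065 := (sb E1055 F7443)
theorem F7468 : act 7 n2065 = n2064 := (sb E1055 (iv7 F7445))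
theorem E1061 : n5031 = n2067 := ((D5031).symm.trans (sb E1058 F7438))
theorem F7469 : act 2 n2063 = n2063 := (sb E1059 F7439)
theorem E1062 : n5037 = n2068 := ((D5037).symm.trans (sb E1059 F7440))
theorem F7470 : act 2 n1026 = n1026 := (sb E1060 F3366)
theorem F7471 : act 7 n1026 = n1025 := (sb E1060 (iv7 D2066))
theorem F7472 : act 7 n2067 = n2062 := (sb E1061 (iv7 D5031))
theorem F7473 : act 2 n2068 = n2068 := (sb E1062 F7452)
theorem F7474 : act 7 n2068 = n2063 := (sb E1062 (iv7 D5037))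
theorem F7475 : act 7 n5029 = n5030 := d13_2 F7472 D5029 (iv5 F7448)
theorem F7476 : act 2 n5035 = n5035 := d2_3 (iv5 D5035) F7469 D5035
theorem F7477 : act 2 n5036 = n5036 := d3_3 (iv6 D5036) F7469 D5036
theorem F7478 : act 7 n5040 = n5036 := d11_2 F7468 D5040 F7451
theorem F7480 : act 3 n5027 = n5027 := d0_4 (iv3 D2062) F7466 D2062 D5027 (iv2 D5027)
theorem F7481 : act 1 n2069 = n4635 := d15_0 (iv0 F7461) F7460 F7464
def n5042 : Q := act 0 n2067
theorem D5042 : act 0 n2067 = n5042 := rfl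
theorem F7482 : act 1 n5027 = n5042 := d15_0 (iv0 D5042) F7472 D5027
def n5043 : Q := act 1 n2067
theorem D5043 : act 1 n2067 = n5043 := rfl
def n5044 : Q := act 2 n2067
theorem D5044 : act 2 n2067 = n5044 := rfl
theorem F7483 : act 3 n5044 = n5044 := d0_2 D2067 D5044 (iv2 D5044) (iv3 D2067) F7470
theorem F7484 : act 7 n5044 = n5027 := d4_2 (iv7 F7472) D5044 (iv2 D5027)
theorem F7485 : act 1 n5044 = n5025 := d15_0 (iv0 D5025) (iv7 F7472) D5044
theorem F7486 : act 1 n5043 = n5027 := d15_1 D5043 (iv7 F7484) (iv2 D5044)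
theorem F7487 : act 1 n5026 = n5044 := d15_1 D5026 F7484 (iv2 D5027)
def n5045 : Q := act 4 n2067
theorem D5045 : act 4 n2067 = n5045 := rfl
theorem F7488 : act 7 n5045 = n5028 := d11_2 (iv7 F7472) D5045 (iv4 D5028)
def n5046 : Q := act 6 n2067
theorem D5046 : act 6 n2067 = n5046 := rfl
theorem F7489 : act 3 n5046 = n2069 := d7_1 D5046 (iv6 D2069) D2067
def n5047 : Q := act 3 n2068
theorem D5047 : act 3 n2068 = n5047 := rfl
theorem F7490 : act 7 n5047 = n5034 := d8_2 (iv7 F7474) D5047 (iv3 D5034)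
def n5048 : Q := act 5 n2068
theorem D5048 : act 5 n2068 = n5048 := rfl
theorem F7491 : act 2 n5048 = n5048 := d2_1 D5048 (iv5 D5048) F7473
theorem F7492 : act 7 n5048 = n5035 := d13_2 (iv7 F7474) D5048 (iv5 D5035)
def n5049 : Q := act 6 n2068
theorem D5049 : act 6 n2068 = n5049 := rfl
theorem F7493 : act 2 n5049 = n5049 := d3_1 D5049 (iv6 D5049) F7473
theorem F7494 : act 4 n5049 = n2069 := d10_1 D5049 (iv6 D2069) D2068
def n5050 : Q := act 5 n2070
theorem D5050 : act 5 n2070 = n5050 := rfl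
theorem F7495 : act 2 n5050 = n5050 := d2_1 D5050 (iv5 D5050) F3367
theorem F7496 : act 7 n5050 = n2073 := d13_2 (iv7 F3369) D5050 (iv5 D2073)
def n5055 : Q := act 6 n2071
theorem D5055 : act 6 n2071 = n5055 := rfl
def n5058 : Q := act 4 n2072
theorem D5058 : act 4 n2072 = n5058 := rfl
def n5059 : Q := act 5 n2072
theorem D5059 : act 5 n2072 = n5059 := rfl
def n5061 : Q := act 0 n2073
theorem D5061 : act 0 n2073 = n5061 := rfl
theorem F7499 : act 1 n5050 = n5061 := d15_0 (iv0 D5061) (iv7 F7496) F7495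
def n5062 : Q := act 1 n2073
theorem D5062 : act 1 n2073 = n5062 := rfl
theorem F7500 : act 1 n5062 = n5050 := d15_1 D5062 F7496 F3372
theorem F7501 : act 5 n4197 = n5062 := d21_6 F1198 F963 D618 D941 D1790 D4197 (iv1 D5062) (iv5 D2073) (iv6 D1028) (iv1 F1211)
def n5063 : Q := act 4 n2073
theorem D5063 : act 4 n2073 = n5063 := rfl
theorem F7503 : act 6 n5063 = n2077 := d10_2 (iv6 F3373) D5063 (iv4 D2077)
def n5064 : Q := act 0 n2074
theorem D5064 : act 0 n2074 = n5064 := rfl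
theorem F7504 : act 3 n5064 = n4416 := d20_5 F1776 (iv1 F1742) F1913 D2074 D5064 (iv4 D4416) (iv1 D1853) F1821 F1820 F1778
theorem F7505 : act 1 n4015 = n5064 := d15_0 (iv0 D5064) F3374 (iv2 F5948)
def n5065 : Q := act 1 n2074
theorem D5065 : act 1 n2074 = n5065 := rfl
def n5066 : Q := act 2 n2074
theorem D5066 : act 2 n2074 = n5066 := rfl
theorem F7507 : act 7 n5066 = n4015 := d4_2 (iv7 F3374) D5066 F5948
theorem F7508 : act 1 n5066 = n3995 := d15_0 F7291 (iv7 F3374) D5066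
theorem E1063 : n5065 = n4014 := (c15_1 D5065 (iv0 F7085) (iv7 F7507) (iv2 D5066))
theorem F7509 : act 0 n4014 = n2074 := (sb E1063 (iv1 D5065))
def n5067 : Q := act 4 n2074
theorem D5067 : act 4 n2074 = n5067 := rfl
theorem F7511 : act 3 n5067 = n2645 := d5_1 D5067 (iv4 F4246) F2918 F1913 D2074
theorem F7512 : act 7 n5067 = n3933 := d11_2 (iv7 F3374) D5067 F5866
def n5068 : Q := act 5 n2074
theorem D5068 : act 5 n2074 = n5068 := rfl
theorem F7513 : act 3 n5068 = n2075 := d6_1 D5068 (iv5 D2075) D2074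
theorem F7514 : act 7 n5068 = n4018 := d13_2 (iv7 F3374) D5068 (iv5 D4018)
def n5069 : Q := act 4 n2075
theorem D5069 : act 4 n2075 = n5069 := rfl
theorem F7515 : act 2 n5069 = n5069 := d1_1 D5069 (iv4 D5069) F3375
theorem F7516 : act 7 n5069 = n4019 := d11_2 (iv7 F3376) D5069 (iv4 D4019)
theorem F7517 : act 5 n5069 = n4005 := d16_1 D5069 (iv4 D4005) (iv5 D1735) F1729 (iv5 F965) (iv4 F1737) D1743 (iv7 F3376) F3375
theorem F7518 : act 0 n5069 = n4320 := d18_2 (iv1 F3378) D5069 (iv4 D4320) (iv5 D1826) F1792 (iv0 D921) (iv4 F1729) (iv0 F1809) D1835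
theorem F7519 : act 1 n5069 = n4326 := d18_6 F1778 F1776 (iv1 F1742) F1913 D2075 D5069 (iv4 D4326) F3107 (iv5 D968)
def n5070 : Q := act 6 n2075
theorem D5070 : act 6 n2075 = n5070 := rfl
theorem F7520 : act 2 n5070 = n5070 := d3_1 D5070 (iv6 D5070) F3375
def n5071 : Q := act 3 n2076
theorem D5071 : act 3 n2076 = n5071 := rfl
theorem F7521 : act 5 n5071 = n4004 := d6_2 (iv5 F3381) D5071 F5942
theorem F7522 : act 7 n5071 = n4003 := d8_2 (iv7 F3380) D5071 F5941
theorem F7523 : act 0 n5071 = n4595 := d21_7 D1935 (iv1 F3233) F6930 D4014 F7509 (iv6 F5943) (iv5 F7521) (iv5 D4595) (iv6 D1911) (iv1 F1867)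
def n5072 : Q := act 4 n2076
theorem D5072 : act 4 n2076 = n5072 := rfl
theorem F7524 : act 2 n5072 = n5072 := d1_1 D5072 (iv4 D5072) F3382
theorem F7525 : act 5 n5072 = n4019 := d9_2 (iv5 F3381) D5072 (iv4 D4019) (iv5 D1743) F1737 F965 (iv4 F1729) D1735 D4005 (iv5 F7517) (iv4 D5069) (iv5 D2075) (iv4 F1913) F1740 (iv4 F2969)
theorem F7526 : act 7 n5072 = n4005 := d11_2 (iv7 F3380) D5072 (iv4 D4005)
theorem F7527 : act 0 n5072 = n4102 := d18_2 (iv1 F3379) D5072 (iv4 D4102) (iv5 D1767) F1752 F1743 F1913 F1910 D1794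
theorem F7528 : act 1 n5072 = n4222 := d18_6 D952 F1792 (iv1 F1733) (iv4 F2969) (iv5 F3381) D5072 (iv4 D4222) F3067 (iv5 D954)
def n5073 : Q := act 6 n2076
theorem D5073 : act 6 n2076 = n5073 := rfl
theorem F7529 : act 2 n5073 = n5073 := d3_1 D5073 (iv6 D5073) F3382
theorem F7530 : act 5 n5073 = n5070 := d12_1 D5073 (iv6 D5070) (iv5 D2075) (iv6 F2970) (iv5 F3381)
def n5074 : Q := act 3 n2077
theorem D5074 : act 3 n2077 = n5074 := rfl
def n5075 : Q := act 6 n2078
theorem D5075 : act 6 n2078 = n5075 := rfl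
theorem F7531 : act 2 n5075 = n2391 := d3_1 D5075 (iv6 D2391) (iv2 F3385)
theorem F7532 : act 3 n5075 = n3469 := d7_1 D5075 (iv6 D3469) (iv3 F3483)
theorem F7533 : act 4 n5075 = n2391 := d10_1 D5075 (iv6 D2391) (iv4 F3387)
def n5076 : Q := act 0 n2079
theorem D5076 : act 0 n2079 = n5076 := rfl
theorem F7534 : act 4 n5076 = n2837 := d20_2 (iv4 F3390) D5076 (iv3 F4916) (iv1 F3398) F2080 (iv4 F2108) (iv1 F2111) (iv4 F4900) D1300 (iv1 F4912)
theorem F7535 : act 2 n2392 = n5076 := d1_3 F7534 (iv2 D2837) (iv4 F5175)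
theorem F7536 : act 7 n2393 = n5076 := d11_0 F7534 (iv7 F5123) F4925
theorem F7537 : act 0 n5076 = n2395 := d20_1 (iv4 F7534) F3788 F2080 (iv1 F1315) D794 D1443 (iv1 F5168) (iv4 D3241) D3240 (iv1 F5170)
def n5077 : Q := act 1 n2079
theorem D5077 : act 1 n2079 = n5077 := rfl
theorem F7538 : act 1 n5077 = n2395 := d15_1 D5077 (iv7 D2395) (iv2 F3389)
theorem F7539 : act 7 n5077 = n2392 := d15_2 (iv0 D5076) D5077 F7535
theorem F7540 : act 4 n2101 = n5077 := d20_6 (iv4 F5127) (iv1 F2110) F1507 (iv3 F1466) (iv1 F1930) D2101 (iv1 D5077) F3390 F1918 D1037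
theorem F7541 : act 2 n5077 = n2393 := d1_1 F7540 (iv4 F4925) (iv2 F5117)
def n5078 : Q := act 5 n2079
theorem D5078 : act 5 n2079 = n5078 := rfl
theorem F7542 : act 2 n5078 = n2394 := d2_1 D5078 (iv5 D2394) (iv2 F3389)
def n5079 : Q := act 7 n2079
theorem D5079 : act 7 n2079 = n5079 := rfl
theorem F7543 : act 2 n5079 = n2395 := d4_1 D5079 (iv7 D2395) (iv2 F3389)
theorem F7544 : act 4 n5079 = n2083 := d11_1 D5079 (iv7 D2083) (iv4 F3390)
theorem F7545 : act 6 n5079 = n5079 := d14_1 D5079 (iv7 D5079) (iv6 D2079) F1916 D2079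
theorem F7546 : act 1 n2393 = n5079 := d15_1 D2393 (iv7 D5079) F3389
theorem F7547 : act 1 n5079 = n2392 := d15_1 F7546 (iv7 F7539) F7541
def n5080 : Q := act 4 n2080
theorem D5080 : act 4 n2080 = n5080 := rfl
theorem F7548 : act 2 n5080 = n2398 := d1_1 D5080 (iv4 D2398) (iv2 F5120)
theorem F7549 : act 7 n5080 = n2403 := d11_2 (iv7 F5121) D5080 (iv4 D2403)
def n5081 : Q := act 5 n2080
theorem D5081 : act 5 n2080 = n5081 := rfl
theorem F7550 : act 2 n5081 = n2399 := d2_1 D5081 (iv5 D2399) (iv2 F5120)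
theorem F7551 : act 7 n5081 = n2404 := d13_2 (iv7 F5121) D5081 (iv5 D2404)
def n5082 : Q := act 6 n2080
theorem D5082 : act 6 n2080 = n5082 := rfl
theorem F7552 : act 2 n5082 = n2400 := d3_1 D5082 (iv6 D2400) (iv2 F5120)
def n5083 : Q := act 0 n2082
theorem D5083 : act 0 n2082 = n5083 := rfl
def n5084 : Q := act 4 n2082
theorem D5084 : act 4 n2082 = n5084 := rfl
theorem F7553 : act 2 n5084 = n2408 := d1_1 D5084 (iv4 D2408) (iv2 F3392)
theorem F7554 : act 6 n5084 = n2086 := d10_2 (iv6 F3394) D5084 (iv4 D2086)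
def n5085 : Q := act 7 n2082
theorem D5085 : act 7 n2082 = n5085 := rfl
theorem F7555 : act 2 n5085 = n2409 := d4_1 D5085 (iv7 D2409) (iv2 F3392)
theorem F7556 : act 3 n5085 = n2108 := d8_1 D5085 (iv7 D2108) (iv3 F3393)
theorem F7557 : act 5 n5085 = n2083 := d13_1 D5085 (iv7 D2083) D2082
theorem F7558 : act 1 n2409 = n5083 := d15_0 (iv0 D5083) D5085 F7555
theorem F7559 : act 1 n2407 = n5085 := d15_1 D2407 (iv7 D5085) F3392
theorem F7560 : act 1 n5085 = n2406 := d15_0 (iv0 D2406) D2409 (iv2 F7555)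
def n5086 : Q := act 4 n2084
theorem D5086 : act 4 n2084 = n5086 := rfl
theorem F7561 : act 2 n5086 = n2410 := d1_1 D5086 (iv4 D2410) (iv2 F3401)
theorem F7562 : act 7 n5086 = n2412 := d11_2 (iv7 F3403) D5086 (iv4 D2412)
theorem F7563 : act 0 n5086 = n3575 := d18_2 F3405 D5086 (iv4 D3575) F2746 F2698 F2707 (iv4 F3805) (iv0 F3806) (iv5 F2797)
theorem F7564 : act 1 n5086 = n3577 := d18_6 (iv1 D1051) F1240 (iv1 F2415) (iv4 F1923) D2084 D5086 (iv4 D3577) (iv0 F3463) (iv5 D2123)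
def n5087 : Q := act 6 n2084
theorem D5087 : act 6 n2084 = n5087 := rfl
theorem F7565 : act 2 n5087 = n2411 := d3_1 D5087 (iv6 D2411) (iv2 F3401)
theorem F7566 : act 3 n5087 = n3574 := d7_1 D5087 (iv6 D3574) (iv3 F3402)
theorem F7567 : act 5 n5087 = n2413 := d12_1 D5087 (iv6 D2413) (iv5 D1140) (iv6 F1924) D2084
def n5088 : Q := act 4 n2085
theorem D5088 : act 4 n2085 = n5088 := rfl
theorem F7568 : act 2 n5088 = n2414 := d1_1 D5088 (iv4 D2414) F3407
theorem F7569 : act 7 n5088 = n2415 := d11_2 (iv7 F3409) D5088 (iv4 D2415)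
theorem F7570 : act 0 n5088 = n3571 := d18_2 D2085 D5088 (iv4 D3571) (iv5 D1574) (iv4 F2413) (iv0 F2414) (iv4 F1923) (iv0 D1033) D1034
theorem F7571 : act 1 n5088 = n2125 := d18_6 (iv1 F2707) (iv4 F2698) (iv1 F2701) F2639 (iv5 F3406) D5088 (iv4 D2125) D2124 F3467
def n5089 : Q := act 0 n2086
theorem D5089 : act 0 n2086 = n5089 := rfl
theorem F7572 : act 4 n5089 = n2116 := d18_3 F2422 D2086 D5089 F3444 F2639 (iv0 F2648) F2645 (iv0 F2649) (iv5 F2420)
theorem F7573 : act 2 n2418 = n5089 := d15_3 (iv0 D5089) (iv0 F5541) F5540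
theorem F7574 : act 1 n2422 = n5089 := d15_0 (iv0 D5089) (iv7 F5586) F5585
theorem F7575 : act 7 n5089 = n2419 := d15_2 F5542 F7574 (iv2 F5539)
def n5090 : Q := act 3 n2086
theorem D5090 : act 3 n2086 = n5090 := rfl
theorem F7576 : act 4 n5090 = n2109 := d5_2 D2086 D5090 (iv3 D2109) (iv4 D1041) (iv3 F1926)
def n5091 : Q := act 5 n2086
theorem D5091 : act 5 n2086 = n5091 := rfl
theorem F7577 : act 2 n5091 = n2421 := d2_1 D5091 (iv5 D2421) (iv2 F3410)
def n5092 : Q := act 4 n2087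
theorem D5092 : act 4 n2087 = n5092 := rfl
theorem F7578 : act 2 n5092 = n2647 := d1_1 D5092 F4249 F3580
theorem F7579 : act 7 n5092 = n5092 := d11_2 F3581 D5092 (iv4 D5092)
def n5093 : Q := act 6 n2087
theorem D5093 : act 6 n2087 = n5093 := rfl
def n5094 : Q := act 6 n2088
theorem D5094 : act 6 n2088 = n5094 := rfl
theorem F7580 : act 2 n5094 = n5093 := d3_1 D5094 (iv6 D5093) (iv2 F3580)
def n5095 : Q := act 6 n2089
theorem D5095 : act 6 n2089 = n5095 := rfl
theorem F7581 : act 2 n5095 = n2090 := d3_1 D5095 (iv6 D2090) D2089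
theorem F7582 : act 3 n5095 = n2810 := d7_1 D5095 (iv6 D2810) (iv3 F3411)
theorem F7583 : act 4 n5095 = n3089 := d10_1 D5095 (iv6 D3089) (iv4 F3412)
def n5096 : Q := act 0 n2090
theorem D5096 : act 0 n2090 = n5096 := rfl
def n5097 : Q := act 1 n2090
theorem D5097 : act 1 n2090 = n5097 := rfl
def n5098 : Q := act 5 n2090
theorem D5098 : act 5 n2090 = n5098 := rfl
theorem F7584 : act 3 n5098 = n2093 := d6_1 D5098 (iv5 D2093) (iv3 F3416)
def n5099 : Q := act 7 n2090
theorem D5099 : act 7 n2090 = n5099 := rfl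
theorem F7585 : act 3 n5099 = n2094 := d8_1 D5099 (iv7 D2094) (iv3 F3416)
theorem F7586 : act 6 n5099 = n5099 := d14_1 D5099 (iv7 D5099) (iv6 D2090) F1927 D2090
def n5100 : Q := act 0 n2093
theorem D5100 : act 0 n2093 = n5100 := rfl
theorem F7587 : act 5 n5100 = n3288 := d17_3 F5056 D2093 D5100 (iv4 D3288) (iv5 D1457) (iv0 D798) (iv5 D455) D454 D795
theorem F7588 : act 7 n2826 = n5100 := d13_0 F7587 F5484 F5483
theorem F7589 : act 2 n5100 = n2825 := d15_3 (iv0 D2825) D2826 F7588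
def n5101 : Q := act 1 n2093
theorem D5101 : act 1 n2093 = n5101 := rfl
theorem F7590 : act 1 n5101 = n2828 := d15_1 D5101 (iv7 D2828) (iv2 F3418)
theorem F7591 : act 7 n5101 = n2825 := d15_2 (iv0 D5100) D5101 (iv2 F7589)
theorem F7592 : act 5 n3302 = n5101 := d21_6 (iv5 F748) (iv1 F1224) (iv5 F1255) D1075 D2192 (iv6 F5291) (iv1 D5101) (iv5 D2093) (iv6 D1036) F1223
theorem F7593 : act 2 n5101 = n2826 := d2_1 F7592 (iv5 F5483) F5481
theorem F7594 : act 1 n2828 = n5100 := d15_1 F7590 (iv7 F7588) (iv2 F7593)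
theorem F7595 : act 1 n3288 = n2365 := d17_8 D2367 F3711 (iv1 F3432) F2397 (iv4 F2391) (iv5 F4413) F7594 F7587 F3710
theorem F7596 : act 0 n3273 = n2364 := d21_7 (iv5 F7587) (iv1 F7594) F4413 F2392 (iv1 F5057) D1448 D3273 (iv5 D2364) D2365 (iv1 F7595)
theorem E1064 : n3272 = n2272 := ((c17_10 (iv1 D3272) D3273 F7596 (iv5 D2364) (iv4 D1122) D1123 F3705 F3700 F4385 D2272)).symm
theorem F7597 : act 0 n2272 = n1448 := (sb E1064 (iv1 D3272))
theorem F7598 : act 1 n3274 = n2349 := d18_6 (iv1 F3615) D2272 F7597 F2568 D1452 (iv4 F5211) (iv4 D2349) (iv0 F4371) (iv5 F3610)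
theorem E1065 : n2368 = n2200 := (c18_9 (iv1 D2106) D2107 F5189 (iv4 D1456) D1457 D3288 F7595 F3710 D2368 F3564)
theorem F7599 : act 0 n2200 = n1124 := (sb E1065 (iv1 D2368))
theorem F7600 : act 1 n2323 = n3479 := d17_8 F7599 D2369 F4370 (iv5 D1302) F4900 D1405 F4899 (iv5 F4881) (iv4 F5457)
theorem F7601 : act 4 n3173 = n5101 := d18_7 (iv1 F5057) (iv4 D795) (iv1 D454) (iv4 F763) D786 D1409 D3173 F7590 F4413
def n5102 : Q := act 4 n2093
theorem D5102 : act 4 n2093 = n5102 := rfl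
theorem F7602 : act 2 n5102 = n2827 := d1_1 D5102 (iv4 D2827) (iv2 F3418)
def n5103 : Q := act 7 n2093
theorem D5103 : act 7 n2093 = n5103 := rfl
theorem F7603 : act 2 n5103 = n2828 := d4_1 D5103 (iv7 D2828) (iv2 F3418)
theorem F7604 : act 5 n5103 = n2094 := d13_1 D5103 (iv7 D2094) D2093
theorem F7605 : act 1 n2826 = n5103 := d15_1 D2826 (iv7 D5103) F3418
theorem F7606 : act 1 n5103 = n2825 := d15_1 F7605 (iv7 F7591) F7593
def n5104 : Q := act 1 n2098
theorem D5104 : act 1 n2098 = n5104 := rfl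
theorem F7607 : act 1 n5104 = n2103 := d15_1 D5104 F4454 (iv2 F4445)
theorem F7608 : act 4 n3230 = n5104 := d18_7 (iv1 D1038) (iv4 F1929) F5053 (iv4 D790) D791 D1432 D3230 F7607 (iv5 D2103)
def n5105 : Q := act 4 n2098
theorem D5105 : act 4 n2098 = n5105 := rfl
theorem F7609 : act 2 n5105 = n2849 := d1_1 D5105 (iv4 D2849) (iv2 F4445)
theorem F7610 : act 7 n5105 = n2864 := d11_2 (iv7 F4446) D5105 (iv4 D2864)
theorem F7611 : act 1 n3228 = n2864 := d15_1 (iv0 F5025) (iv7 F7610) F7609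
def n5106 : Q := act 6 n2098
theorem D5106 : act 6 n2098 = n5106 := rfl
theorem F7612 : act 2 n5106 = n2850 := d3_1 D5106 (iv6 D2850) (iv2 F4445)
def n5107 : Q := act 0 n2099
theorem D5107 : act 0 n2099 = n5107 := rfl
theorem F7613 : act 2 n2802 = n5107 := d15_3 (iv0 D5107) (iv0 F3612) (iv7 F4388)
theorem F7615 : act 6 n5107 = n2798 := d3_2 D2802 F7613 F4386
def n5108 : Q := act 7 n2099
theorem D5108 : act 7 n2099 = n5108 := rfl
theorem F7616 : act 2 n5108 = n2853 := d4_1 D5108 (iv7 D2853) (iv2 F4440)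
theorem F7617 : act 5 n5108 = n2184 := d13_1 D5108 (iv7 F4460) (iv5 F3568)
theorem F7618 : act 6 n5108 = n2253 := d14_1 D5108 (iv7 F4458) (iv6 D1303) F4447 D2099
theorem F7619 : act 1 n2853 = n5107 := d15_0 (iv0 D5107) D5108 F7616
theorem F7620 : act 1 n2350 = n5108 := d15_1 (iv0 F3702) (iv7 D5108) F4440
theorem F7621 : act 1 n5108 = n2852 := d15_0 (iv0 D2852) D2853 (iv2 F7616)
def n5109 : Q := act 1 n2101
theorem D5109 : act 1 n2101 = n5109 := rfl
theorem F7622 : act 1 n5109 = n2837 := d15_1 D5109 (iv7 F5123) (iv2 F5117)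
def n5110 : Q := act 5 n2101
theorem D5110 : act 5 n2101 = n5110 := rfl
theorem F7623 : act 3 n5110 = n2103 := d6_1 D5110 (iv5 D2103) D2101
theorem F7624 : act 7 n5110 = n2839 := d13_2 (iv7 F4450) D5110 (iv5 D2839)
def n5111 : Q := act 6 n2101
theorem D5111 : act 6 n2101 = n5111 := rfl
theorem F7625 : act 3 n5111 = n2104 := d7_1 D5111 (iv6 D2104) D2101
def n5112 : Q := act 4 n2103
theorem D5112 : act 4 n2103 = n5112 := rfl
theorem F7626 : act 2 n5112 = n2864 := d1_1 D5112 (iv4 D2864) (iv2 F4453)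
theorem F7627 : act 6 n5112 = n3506 := d10_2 F3566 D5112 F5515
theorem F7628 : act 7 n5112 = n2849 := d11_2 (iv7 F4454) D5112 (iv4 D2849)
theorem F7629 : act 1 n3226 = n2849 := d15_1 (iv0 F5024) (iv7 F7628) F7626
def n5113 : Q := act 2 n2105
theorem D5113 : act 2 n2105 = n5113 := rfl
theorem F7630 : act 7 n2106 = n5113 := d15_2 (iv0 D2105) D2106 (iv2 D5113)
def n5114 : Q := act 6 n2105
theorem D5114 : act 6 n2105 = n5114 := rfl
def n5115 : Q := act 7 n2105
theorem D5115 : act 7 n2105 = n5115 := rfl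
theorem F7631 : act 2 n5115 = n2106 := d4_1 D5115 F7630 (iv2 D5113)
def n5116 : Q := act 3 n2106
theorem D5116 : act 3 n2106 = n5116 := rfl
def n5117 : Q := act 6 n2106
theorem D5117 : act 6 n2106 = n5117 := rfl
def n5118 : Q := act 3 n2107
theorem D5118 : act 3 n2107 = n5118 := rfl
theorem F7632 : act 6 n5118 = n2109 := d7_2 (iv6 F3429) D5118 (iv3 D2109)
def n5119 : Q := act 5 n2107
theorem D5119 : act 5 n2107 = n5119 := rfl
theorem F7633 : act 2 n5119 = n2876 := d2_1 D5119 (iv5 D2876) (iv2 F3428)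
theorem F7634 : act 0 n5119 = n3232 := d17_2 (iv1 F5180) D5119 (iv5 D3232) (iv4 D1432) (iv5 D791) (iv0 D453) D455 D799 D1461
theorem F7635 : act 1 n5119 = n3276 := d17_6 F4383 (iv5 D2103) (iv1 D1038) D1039 D2107 D5119 (iv5 D3276) F5026 (iv4 F5178)
def n5120 : Q := act 7 n2107
theorem D5120 : act 7 n2107 = n5120 := rfl
theorem F7636 : act 2 n5120 = n2877 := d4_1 D5120 (iv7 D2877) (iv2 F3428)
theorem F7637 : act 4 n5120 = n2108 := d11_1 D5120 (iv7 D2108) D2107
theorem F7638 : act 1 n2493 = n5120 := d15_1 (iv0 F4926) (iv7 D5120) F3428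
theorem F7639 : act 1 n5120 = n2488 := d15_1 F7638 F5242 (iv2 F5247)
def n5121 : Q := act 0 n2109
theorem D5121 : act 0 n2109 = n5121 := rfl
def n5122 : Q := act 1 n2109
theorem D5122 : act 1 n2109 = n5122 := rfl
def n5123 : Q := act 2 n2109
theorem D5123 : act 2 n2109 = n5123 := rfl
theorem F7640 : act 3 n5123 = n2886 := d0_2 D2109 D5123 (iv2 D2886) (iv3 D1311) (iv2 F1938)
def n5124 : Q := act 5 n2109
theorem D5124 : act 5 n2109 = n5124 := rfl
theorem F7641 : act 3 n5124 = n2110 := d6_1 D5124 (iv5 D2110) D2109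
theorem F7642 : act 7 n5124 = n3968 := d13_2 F5592 D5124 F5922
def n5125 : Q := act 6 n2110
theorem D5125 : act 6 n2110 = n5125 := rfl
theorem F7643 : act 2 n5125 = n2889 := d3_1 D5125 (iv6 D2889) (iv2 F3435)
theorem F7644 : act 4 n5125 = n3973 := d10_1 D5125 (iv6 D3973) (iv4 F3437)
def n5126 : Q := act 0 n2111
theorem D5126 : act 0 n2111 = n5126 := rfl
theorem F7645 : act 6 n5126 = n2160 := d21_5 (iv5 F1536) (iv1 F1546) (iv5 F1941) D2111 D5126 (iv5 D2160) (iv1 D1065) F1247 (iv6 D668) D665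
def n5127 : Q := act 1 n2111
theorem D5127 : act 1 n2111 = n5127 := rfl
theorem F7646 : act 1 n5127 = n2782 := d15_1 D5127 (iv7 D2782) (iv2 F3440)
def n5128 : Q := act 5 n2111
theorem D5128 : act 5 n2111 = n5128 := rfl
theorem F7647 : act 2 n5128 = n2781 := d2_1 D5128 (iv5 D2781) (iv2 F3440)
theorem F7648 : act 3 n5128 = n2380 := d6_1 D5128 (iv5 D2380) (iv3 F3441)
theorem F7649 : act 6 n5128 = n2116 := d12_2 D2111 D5128 F3444 (iv6 D1522) (iv5 F1941)
def n5129 : Q := act 7 n2111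
theorem D5129 : act 7 n2111 = n5129 := rfl
theorem F7650 : act 2 n5129 = n2782 := d4_1 D5129 (iv7 D2782) (iv2 F3440)
theorem F7651 : act 3 n5129 = n2381 := d8_1 D5129 (iv7 D2381) (iv3 F3441)
theorem F7652 : act 6 n5129 = n5129 := d14_1 D5129 (iv7 D5129) (iv6 D2111) F1944 D2111
theorem F7653 : act 1 n2782 = n5126 := d15_0 (iv0 D5126) D5129 F7650
theorem F7654 : act 1 n2780 = n5129 := d15_1 D2780 (iv7 D5129) F3440
theorem F7655 : act 1 n5129 = n2779 := d15_0 (iv0 D2779) D2782 (iv2 F7650)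
def n5130 : Q := act 2 n2112
theorem D5130 : act 2 n2112 = n5130 := rfl
def n5131 : Q := act 3 n2112
theorem D5131 : act 3 n2112 = n5131 := rfl
def n5132 : Q := act 4 n2112
theorem D5132 : act 4 n2112 = n5132 := rfl
def n5133 : Q := act 5 n2112
theorem D5133 : act 5 n2112 = n5133 := rfl
def n5134 : Q := act 6 n2112
theorem D5134 : act 6 n2112 = n5134 := rfl
def n5135 : Q := act 7 n2112
theorem D5135 : act 7 n2112 = n5135 := rfl
def n5137 : Q := act 4 n2113
theorem D5137 : act 4 n2113 = n5137 := rfl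
def n5138 : Q := act 5 n2113
theorem D5138 : act 5 n2113 = n5138 := rfl
def n5140 : Q := act 0 n2114
theorem D5140 : act 0 n2114 = n5140 := rfl
def n5141 : Q := act 1 n2114
theorem D5141 : act 1 n2114 = n5141 := rfl
def n5142 : Q := act 4 n2114
theorem D5142 : act 4 n2114 = n5142 := rfl
theorem F7658 : act 6 n5142 = n2117 := d10_2 (iv6 F3442) D5142 (iv4 D2117)
def n5143 : Q := act 7 n2114
theorem D5143 : act 7 n2114 = n5143 := rfl
theorem F7659 : act 5 n5143 = n2115 := d13_1 D5143 (iv7 D2115) D2114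
def n5144 : Q := act 3 n2117
theorem D5144 : act 3 n2117 = n5144 := rfl
def n5145 : Q := act 5 n2117
theorem D5145 : act 5 n2117 = n5145 := rfl
def n5146 : Q := act 0 n2118
theorem D5146 : act 0 n2118 = n5146 := rfl
def n5147 : Q := act 1 n2118
theorem D5147 : act 1 n2118 = n5147 := rfl
theorem F7660 : act 1 n5147 = n2727 := d15_1 D5147 (iv7 D2727) (iv2 F3447)
def n5148 : Q := act 5 n2118
theorem D5148 : act 5 n2118 = n5148 := rfl
theorem F7661 : act 2 n5148 = n2726 := d2_1 D5148 (iv5 D2726) (iv2 F3447)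
def n5149 : Q := act 7 n2118
theorem D5149 : act 7 n2118 = n5149 := rfl
theorem F7662 : act 2 n5149 = n2727 := d4_1 D5149 (iv7 D2727) (iv2 F3447)
theorem F7663 : act 4 n5149 = n2122 := d11_1 D5149 (iv7 D2122) (iv4 F3448)
theorem F7664 : act 6 n5149 = n5149 := d14_1 D5149 (iv7 D5149) (iv6 D2118) F1948 D2118
theorem F7665 : act 1 n2727 = n5146 := d15_0 (iv0 D5146) D5149 F7662
theorem F7667 : act 1 n5149 = n2724 := d15_0 (iv0 D2724) D2727 (iv2 F7662)
def n5150 : Q := act 2 n2119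
theorem D5150 : act 2 n2119 = n5150 := rfl
theorem F7668 : act 7 n2120 = n5150 := d15_2 (iv0 D2119) D2120 (iv2 D5150)
def n5152 : Q := act 4 n2119
theorem D5152 : act 4 n2119 = n5152 := rfl
def n5154 : Q := act 6 n2119
theorem D5154 : act 6 n2119 = n5154 := rfl
def n5155 : Q := act 7 n2119
theorem D5155 : act 7 n2119 = n5155 := rfl
theorem F7669 : act 2 n5155 = n2120 := d4_1 D5155 F7668 (iv2 D5150)
def n5156 : Q := act 3 n2120
theorem D5156 : act 3 n2120 = n5156 := rfl
def n5157 : Q := act 4 n2120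
theorem D5157 : act 4 n2120 = n5157 := rfl
def n5158 : Q := act 5 n2120
theorem D5158 : act 5 n2120 = n5158 := rfl
def n5159 : Q := act 6 n2120
theorem D5159 : act 6 n2120 = n5159 := rfl
def n5160 : Q := act 0 n2121
theorem D5160 : act 0 n2121 = n5160 := rfl
def n5161 : Q := act 1 n2121
theorem D5161 : act 1 n2121 = n5161 := rfl
theorem F7670 : act 1 n5161 = n5143 := d15_1 D5161 (iv7 D5143) (iv2 F3450)
def n5162 : Q := act 4 n2121
theorem D5162 : act 4 n2121 = n5162 := rfl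
theorem F7671 : act 2 n5162 = n5142 := d1_1 D5162 (iv4 D5142) (iv2 F3450)
theorem F7672 : act 6 n5162 = n2125 := d10_2 (iv6 F3452) D5162 (iv4 D2125)
def n5163 : Q := act 7 n2121
theorem D5163 : act 7 n2121 = n5163 := rfl
theorem F7673 : act 2 n5163 = n5143 := d4_1 D5163 (iv7 D5143) (iv2 F3450)
theorem F7674 : act 3 n5163 = n5163 := d8_1 D5163 (iv7 D5163) F3451
theorem F7675 : act 5 n5163 = n2122 := d13_1 D5163 (iv7 D2122) D2121
theorem F7676 : act 1 n5143 = n5160 := d15_0 (iv0 D5160) D5163 F7673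
theorem F7677 : act 1 n5141 = n5163 := d15_1 D5141 (iv7 D5163) F3450
theorem F7678 : act 1 n5163 = n5140 := d15_0 (iv0 D5140) D5143 (iv2 F7673)
def n5164 : Q := act 4 n2123
theorem D5164 : act 4 n2123 = n5164 := rfl
theorem F7679 : act 2 n5164 = n2581 := d1_1 D5164 (iv4 D2581) (iv2 F3459)
theorem F7680 : act 7 n5164 = n3573 := d11_2 (iv7 F3461) D5164 (iv4 D3573)
theorem F7681 : act 0 n5164 = n2541 := d18_2 (iv1 F3462) D5164 (iv4 D2541) (iv5 D1185) F1350 (iv0 F2166) (iv4 F2639) F2701 (iv5 F2746)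
theorem F7682 : act 1 n5164 = n3578 := d18_6 F1604 F1601 (iv1 F1605) (iv4 F2402) D2123 D5164 F5614 (iv0 F2753) (iv5 D1138)
def n5165 : Q := act 6 n2123
theorem D5165 : act 6 n2123 = n5165 := rfl
theorem F7683 : act 2 n5165 = n2582 := d3_1 D5165 (iv6 D2582) (iv2 F3459)
theorem F7684 : act 3 n5165 = n2413 := d7_1 D5165 (iv6 D2413) (iv3 F3460)
theorem F7685 : act 5 n5165 = n3574 := d12_1 D5165 (iv6 D3574) (iv5 D1575) (iv6 F2403) D2123
def n5166 : Q := act 6 n2124
theorem D5166 : act 6 n2124 = n5166 := rfl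
theorem F7686 : act 2 n5166 = n3522 := d3_1 D5166 (iv6 D3522) F3468
theorem F7687 : act 3 n5166 = n2417 := d7_1 D5166 (iv6 D2417) (iv3 F3469)
theorem F7688 : act 5 n5166 = n5166 := d12_1 D5166 (iv6 D5166) F3467 F2704 (iv5 F3467)
def n5167 : Q := act 3 n2125
theorem D5167 : act 3 n2125 = n5167 := rfl
theorem F7689 : act 4 n5167 = n5167 := d5_2 D2125 D5167 (iv3 D5167) (iv4 D2125) F1953
def n5168 : Q := act 5 n2125
theorem D5168 : act 5 n2125 = n5168 := rfl
theorem F7690 : act 2 n5168 = n5145 := d2_1 D5168 (iv5 D5145) (iv2 F3470)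
theorem F7691 : act 1 n5168 = n3668 := d17_6 (iv1 F3462) (iv5 D2123) (iv1 D1051) D1052 D2125 D5168 (iv5 D3668) (iv0 F5610) (iv4 D3575)
def n5169 : Q := act 7 n2125
theorem D5169 : act 7 n2125 = n5169 := rfl
theorem F7692 : act 2 n5169 = n3571 := d4_1 D5169 F5603 (iv2 F3470)
theorem F7693 : act 4 n5169 = n2126 := d11_1 D5169 (iv7 D2126) D2125
theorem F7694 : act 1 n2415 = n5169 := d15_1 (iv0 F3801) (iv7 D5169) F3470
theorem F7695 : act 1 n5169 = n2414 := d15_1 F7694 (iv7 F4475) F4474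
def n5170 : Q := act 6 n2126
theorem D5170 : act 6 n2126 = n5170 := rfl
theorem F7696 : act 2 n5170 = n3572 := d3_1 D5170 (iv6 D3572) (iv2 F3471)
theorem F7697 : act 3 n5170 = n5170 := d7_1 D5170 (iv6 D5170) F3472
theorem F7698 : act 5 n5170 = n5170 := d12_1 D5170 (iv6 D5170) F3473 F1957 (iv5 F3473)
def n5171 : Q := act 6 n2127
theorem D5171 : act 6 n2127 = n5171 := rfl
theorem F7699 : act 3 n5171 = n2129 := d7_1 D5171 (iv6 D2129) D2127
def n5172 : Q := act 6 n2128
theorem D5172 : act 6 n2128 = n5172 := rfl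
theorem F7700 : act 2 n5172 = n2147 := d3_1 D5172 (iv6 D2147) (iv2 F3478)
theorem F7701 : act 4 n5172 = n2291 := d10_1 D5172 (iv6 D2291) (iv4 F3479)
def n5173 : Q := act 1 n2129
theorem D5173 : act 1 n2129 = n5173 := rfl
theorem F7702 : act 1 n5173 = n2151 := d15_1 D5173 (iv7 D2151) (iv2 F3489)
theorem F7703 : act 7 n5173 = n2148 := d15_2 (iv0 F4991) D5173 (iv2 F5112)
theorem F7704 : act 2 n2149 = n5173 := d4_3 F7703 (iv2 F5112) (iv7 F5111)
theorem F7705 : act 4 n2769 = n5173 := d11_3 F7703 F5113 (iv7 F4589)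
theorem F7707 : act 1 n2151 = n2677 := d15_1 F7702 (iv7 F5111) F7704
theorem E1066 : n2342 = n735 := (c20_2 D1122 (iv1 F3695) F1419 F715 D736 D1244 D2677 (iv1 F7707) F3520 F1982 (iv1 F1281))
theorem E1067 : n1239 = n1117 := ((D1239).symm.trans (sb E1066 (iv1 D2342)))
theorem E1068 : n1240 = n1122 := ((D1240).symm.trans (sb E1066 F3695))
theorem E1069 : n2341 = n1266 := ((D2341).symm.trans (sb E1067 (iv1 F2368)))
theorem F7709 : act 1 n1117 = n735 := (sb E1067 (iv0 D1239))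
theorem E1073 : n2657 = n2344 := (((D2344).symm.trans (sb E1067 D2657))).symm
theorem E1074 : n2658 = n2345 := (((D2345).symm.trans (sb E1067 D2658))).symm
theorem F7710 : act 0 n1122 = n735 := (sb E1068 (iv1 D1240))
theorem E1077 : n2661 = n686 := ((((iv4 D1122)).symm.trans (sb E1068 D2661))).symm
theorem F7711 : act 0 n1266 = n1122 := (sb E1069 (iv1 F3699))
theorem F7712 : act 1 n1266 = n1117 := (sb E1069 (iv0 D2341))
theorem F7713 : act 0 n2344 = n3273 := (sb E1073 (iv1 F5210))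
theorem F7714 : act 5 n2345 = n2987 := (sb E1074 F4669)
theorem E1080 : n2280 = n1121 := (((D1121).symm.trans (sb E1077 (iv3 F4990)))).symm
theorem E1081 : n2357 = n1099 := ((D2357).symm.trans (sb E1080 (iv1 D2280)))
theorem E1082 : n2358 = n1106 := ((D2358).symm.trans (sb E1080 F3629))
theorem F7715 : act 1 n1099 = n1121 := (sb E1081 (iv0 D2357))
theorem F7716 : act 0 n1106 = n1121 := (sb E1082 (iv1 D2358))
theorem F7717 : act 7 n2279 = n2359 := d15_2 (iv0 F7716) F3634 (iv2 D2359)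
theorem F7718 : act 2 n2330 = n2279 := d4_3 F7717 (iv2 D2359) (iv7 F3686)
theorem F7719 : act 3 n2279 = n2336 := d0_2 D2330 F7718 (iv2 D2336) (iv3 D1116) D1115
theorem E1083 : n2784 = n2372 := ((c21_5 F1272 F780 F1290 D1126 D2372 F4367 (iv5 D2361) (iv1 F7715) F2024 (iv6 D1099) (iv1 F1269))).symm
theorem E1084 : n2978 = n1278 := ((F4984).symm.trans (sb E1083 (iv3 D2784)))
theorem F7720 : act 6 n2372 = n2361 := (sb E1083 F4367)
theorem F7721 : act 3 n1278 = n2372 := (sb E1084 (iv3 F4984))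
theorem E1085 : n2785 = n1341 := ((D2785).symm.trans (sb E1084 (iv4 D2978)))
theorem F7722 : act 4 n1341 = n1278 := (sb E1085 (iv4 D2785))
theorem E1086 : n2980 = n2366 := ((D2980).symm.trans (sb E1085 F4368))
theorem F7723 : act 0 n2366 = n2482 := (sb E1086 (iv1 F5213))
theorem F7724 : act 1 n2366 = n3274 := (sb E1086 F5212)
theorem F7725 : act 5 n2366 = n2665 := (sb E1086 F4666)
theorem F7726 : act 6 n2366 = n1341 := (sb E1086 (iv6 D2980))
theorem F7727 : act 4 n2783 = n2976 := d1_2 F7722 D2783 (iv2 D2976)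
theorem F7728 : act 4 n2787 = n2981 := d11_3 (iv7 D2981) F7722 D2787
theorem F7729 : act 4 n2792 = n3019 := d18_1 D2792 (iv1 F4741) F4649 F2451 (iv4 F2444) F2468 F7722 (iv0 D1278) D1280
theorem F7730 : act 0 n3005 = n2383 := d20_7 (iv4 F7722) (iv1 F2468) F2444 F1476 (iv1 F1486) D1350 D3005 F3760 F2372 D1278
theorem E1087 : n2983 = n1279 := (c1_3 F7728 F4667 D2983 (iv2 F4373))
theorem E1088 : n2789 = n1342 := ((D2789).symm.trans (sb E1087 (iv4 D2983)))
theorem F7731 : act 4 n1342 = n1279 := (sb E1088 (iv4 D2789))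
theorem F7732 : act 4 n2791 = n2985 := d10_3 (iv6 D2985) F7731 D2791
theorem F7733 : act 4 n2354 = n3020 := d18_1 (iv1 F4392) (iv1 D3020) (iv4 D1356) (iv5 D772) (iv4 F1485) D1342 F7731 F2383 (iv5 F4390)
theorem F7734 : act 4 n2720 = n2293 := d20_6 D1117 (iv1 F7712) F2364 (iv3 F2353) (iv1 F2357) D2720 (iv1 D2293) F2031 F1275 D685
theorem F7735 : act 3 n2310 = n5152 := d20_5 (iv4 D1122) (iv1 D686) (iv4 F1280) (iv3 F2044) D2310 (iv4 D5152) (iv1 F3456) (iv4 F4320) F4319 F7711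
theorem F7736 : act 5 n2664 = n2349 := d17_3 F7710 D1241 D2664 (iv4 D2349) (iv5 D1118) (iv0 D685) F1112 D686 D1122
theorem F7737 : act 1 n2349 = n2482 := d17_8 F3856 (iv5 D1246) (iv1 F1445) F1441 (iv4 F2364) (iv5 F4328) F4331 F7736 F3864
def n5174 : Q := act 5 n2129
theorem D5174 : act 5 n2129 = n5174 := rfl
theorem F7738 : act 2 n5174 = n2150 := d2_1 D5174 (iv5 D2150) (iv2 F3489)
def n5175 : Q := act 7 n2129
theorem D5175 : act 7 n2129 = n5175 := rfl
theorem F7739 : act 2 n5175 = n2151 := d4_1 D5175 (iv7 D2151) (iv2 F3489)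
theorem F7740 : act 4 n5175 = n2132 := d11_1 D5175 (iv7 D2132) (iv4 F3490)
theorem F7741 : act 6 n5175 = n5175 := d14_1 D5175 (iv7 D5175) (iv6 D2129) F1962 D2129
theorem F7742 : act 1 n2149 = n5175 := d15_1 D2149 (iv7 D5175) F3489
theorem F7743 : act 1 n5175 = n2148 := d15_1 F7742 (iv7 F7703) (iv2 F7704)
def n5176 : Q := act 2 n2130
theorem D5176 : act 2 n2130 = n5176 := rfl
theorem F7745 : act 7 n2131 = n5176 := d15_2 (iv0 D2130) D2131 (iv2 D5176)
def n5177 : Q := act 3 n2130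
theorem D5177 : act 3 n2130 = n5177 := rfl
def n5178 : Q := act 4 n2130
theorem D5178 : act 4 n2130 = n5178 := rfl
def n5179 : Q := act 5 n2130
theorem D5179 : act 5 n2130 = n5179 := rfl
def n5180 : Q := act 6 n2130
theorem D5180 : act 6 n2130 = n5180 := rfl
def n5181 : Q := act 7 n2130
theorem D5181 : act 7 n2130 = n5181 := rfl
theorem F7746 : act 2 n5181 = n2131 := d4_1 D5181 F7745 (iv2 D5176)
def n5182 : Q := act 3 n2131
theorem D5182 : act 3 n2131 = n5182 := rfl
theorem F7747 : act 4 n5182 = n2706 := d20_6 F4868 (iv1 F2051) F2014 (iv3 F1982) (iv1 F3491) D5182 (iv1 D2706) F2337 F1432 D745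
def n5183 : Q := act 4 n2131
theorem D5183 : act 4 n2131 = n5183 := rfl
def n5184 : Q := act 5 n2131
theorem D5184 : act 5 n2131 = n5184 := rfl
theorem F7748 : act 6 n2779 = n5184 := d21_5 (iv5 F1541) (iv1 D823) (iv5 F1446) D1277 D2779 (iv5 D5184) (iv1 D2131) F1964 (iv6 D1055) (iv1 F1244)
def n5185 : Q := act 6 n2131
theorem D5185 : act 6 n2131 = n5185 := rfl
def n5186 : Q := act 2 n2133
theorem D5186 : act 2 n2133 = n5186 := rfl
theorem F7749 : act 7 n2134 = n5186 := d15_2 (iv0 D2133) D2134 (iv2 D5186)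
def n5187 : Q := act 3 n2133
theorem D5187 : act 3 n2133 = n5187 := rfl
def n5188 : Q := act 4 n2133
theorem D5188 : act 4 n2133 = n5188 := rfl
def n5189 : Q := act 5 n2133
theorem D5189 : act 5 n2133 = n5189 := rfl
def n5190 : Q := act 6 n2133
theorem D5190 : act 6 n2133 = n5190 := rfl
theorem F7750 : act 5 n5190 = n5161 := d21_6 F1446 D822 F1536 D1056 D2133 D5190 (iv1 D5161) (iv5 D2121) (iv6 D1049) F1448
def n5191 : Q := act 7 n2133
theorem D5191 : act 7 n2133 = n5191 := rfl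
theorem F7751 : act 2 n5191 = n2134 := d4_1 D5191 F7749 (iv2 D5186)
def n5192 : Q := act 3 n2134
theorem D5192 : act 3 n2134 = n5192 := rfl
def n5193 : Q := act 4 n2134
theorem D5193 : act 4 n2134 = n5193 := rfl
def n5194 : Q := act 5 n2134
theorem D5194 : act 5 n2134 = n5194 := rfl
def n5195 : Q := act 6 n2134
theorem D5195 : act 6 n2134 = n5195 := rfl
def n5196 : Q := act 0 n2135
theorem D5196 : act 0 n2135 = n5196 := rfl
theorem F7752 : act 6 n5196 = n5158 := d21_5 F2398 F2632 (iv5 F4124) (iv6 F4128) D5196 (iv5 D5158) (iv1 D2120) D2121 F3452 F2399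
def n5197 : Q := act 1 n2135
theorem D5197 : act 1 n2135 = n5197 := rfl
theorem F7753 : act 5 n5154 = n5197 := d21_6 (iv5 D664) (iv1 F621) D662 D1049 D2119 D5154 (iv1 D5197) (iv5 D2135) (iv6 D1056) (iv1 F1243)
def n5198 : Q := act 4 n2135
theorem D5198 : act 4 n2135 = n5198 := rfl
def n5199 : Q := act 7 n2135
theorem D5199 : act 7 n2135 = n5199 := rfl
theorem F7754 : act 5 n5199 = n2136 := d13_1 D5199 (iv7 D2136) D2135
def n5200 : Q := act 0 n2137
theorem D5200 : act 0 n2137 = n5200 := rfl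
def n5201 : Q := act 1 n2137
theorem D5201 : act 1 n2137 = n5201 := rfl
theorem F7755 : act 1 n5201 = n2975 := d15_1 D5201 (iv7 D2975) (iv2 F3499)
def n5202 : Q := act 5 n2137
theorem D5202 : act 5 n2137 = n5202 := rfl
theorem F7756 : act 2 n5202 = n2974 := d2_1 D5202 (iv5 D2974) (iv2 F3499)
def n5203 : Q := act 7 n2137
theorem D5203 : act 7 n2137 = n5203 := rfl
theorem F7757 : act 2 n5203 = n2975 := d4_1 D5203 (iv7 D2975) (iv2 F3499)
theorem F7758 : act 4 n5203 = n2141 := d11_1 D5203 (iv7 D2141) (iv4 F3500)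
theorem F7759 : act 6 n5203 = n5203 := d14_1 D5203 (iv7 D5203) (iv6 D2137) F1966 D2137
theorem F7760 : act 1 n2975 = n5200 := d15_0 (iv0 D5200) D5203 F7757
theorem F7761 : act 1 n2973 = n5203 := d15_1 D2973 (iv7 D5203) F3499
theorem F7762 : act 1 n5203 = n2972 := d15_0 (iv0 D2972) D2975 (iv2 F7757)
def n5204 : Q := act 2 n2138
theorem D5204 : act 2 n2138 = n5204 := rfl
theorem F7763 : act 7 n2139 = n5204 := d15_2 (iv0 D2138) D2139 (iv2 D5204)
def n5205 : Q := act 3 n2138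
theorem D5205 : act 3 n2138 = n5205 := rfl
def n5206 : Q := act 4 n2138
theorem D5206 : act 4 n2138 = n5206 := rfl
theorem F7764 : act 3 n3055 = n5206 := d20_5 F5104 (iv1 D1283) (iv4 F1499) (iv3 F2505) D3055 (iv4 D5206) (iv1 F3508) (iv4 F4663) F4662 (iv1 F2469)
def n5207 : Q := act 5 n2138
theorem D5207 : act 5 n2138 = n5207 := rfl
def n5208 : Q := act 6 n2138
theorem D5208 : act 6 n2138 = n5208 := rfl
theorem F7765 : act 5 n5208 = n5141 := d21_6 F1941 (iv1 F1547) F1541 D1058 D2138 D5208 (iv1 D5141) (iv5 D2114) (iv6 D1043) D1042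
def n5209 : Q := act 7 n2138
theorem D5209 : act 7 n2138 = n5209 := rfl
theorem F7766 : act 2 n5209 = n2139 := d4_1 D5209 F7763 (iv2 D5204)
def n5210 : Q := act 3 n2139
theorem D5210 : act 3 n2139 = n5210 := rfl
def n5211 : Q := act 4 n2139
theorem D5211 : act 4 n2139 = n5211 := rfl
def n5212 : Q := act 5 n2139
theorem D5212 : act 5 n2139 = n5212 := rfl
def n5213 : Q := act 6 n2139
theorem D5213 : act 6 n2139 = n5213 := rfl
def n5214 : Q := act 0 n2140
theorem D5214 : act 0 n2140 = n5214 := rfl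
theorem F7767 : act 6 n5214 = n5138 := d21_5 F3444 F2640 (iv5 F2748) (iv6 F3504) D5214 (iv5 D5138) (iv1 D2113) D2114 F3442 D2116
def n5215 : Q := act 1 n2140
theorem D5215 : act 1 n2140 = n5215 := rfl
theorem F7768 : act 1 n5215 = n5199 := d15_1 D5215 (iv7 D5199) (iv2 F3502)
theorem F7769 : act 5 n5134 = n5215 := d21_6 (iv5 D351) D348 D660 D1043 D2112 D5134 (iv1 D5215) (iv5 D2140) (iv6 D1058) (iv1 D666)
def n5216 : Q := act 4 n2140
theorem D5216 : act 4 n2140 = n5216 := rfl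
theorem F7770 : act 2 n5216 = n5198 := d1_1 D5216 (iv4 D5198) (iv2 F3502)
theorem F7771 : act 6 n5216 = n3577 := d10_2 (iv6 F3504) D5216 (iv4 D3577)
def n5217 : Q := act 7 n2140
theorem D5217 : act 7 n2140 = n5217 := rfl
theorem F7772 : act 2 n5217 = n5199 := d4_1 D5217 (iv7 D5199) (iv2 F3502)
theorem F7773 : act 3 n5217 = n5217 := d8_1 D5217 (iv7 D5217) F3503
theorem F7774 : act 5 n5217 = n2141 := d13_1 D5217 (iv7 D2141) D2140
theorem F7775 : act 1 n5199 = n5214 := d15_0 (iv0 D5214) D5217 F7772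
theorem F7776 : act 1 n5197 = n5217 := d15_1 D5197 (iv7 D5217) F3502
theorem F7777 : act 1 n5217 = n5196 := d15_0 (iv0 D5196) D5199 (iv2 F7772)
def n5218 : Q := act 0 n2143
theorem D5218 : act 0 n2143 = n5218 := rfl
def n5219 : Q := act 1 n2143
theorem D5219 : act 1 n2143 = n5219 := rfl
theorem F7778 : act 4 n2180 = n5219 := d20_6 F4928 (iv1 F2683) F2679 (iv3 F2000) (iv1 F2003) D2180 (iv1 D5219) F3512 F1985 D1070
def n5220 : Q := act 5 n2143
theorem D5220 : act 5 n2143 = n5220 := rfl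
def n5221 : Q := act 7 n2143
theorem D5221 : act 7 n2143 = n5221 := rfl
theorem F7779 : act 4 n5221 = n2165 := d11_1 D5221 (iv7 D2165) (iv4 F3512)
theorem F7780 : act 6 n5221 = n5221 := d14_1 D5221 (iv7 D5221) (iv6 D2143) F1972 D2143
def n5222 : Q := act 6 n2144
theorem D5222 : act 6 n2144 = n5222 := rfl
theorem F7781 : act 2 n5222 = n3079 := d3_1 D5222 (iv6 D3079) F3738
theorem F7782 : act 3 n5222 = n3074 := d7_1 D5222 (iv6 D3074) F3736
theorem F7783 : act 4 n5222 = n3079 := d10_1 D5222 (iv6 D3079) F3739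
def n5223 : Q := act 0 n2145
theorem D5223 : act 0 n2145 = n5223 := rfl
theorem F7784 : act 4 n5223 = n2197 := d20_8 (iv4 F3535) (iv1 F3554) (iv4 F5201) F5200 (iv1 D1188) (iv3 F2026) (iv4 F3517) D5223 (iv3 D2197) (iv1 F2002)
theorem F7785 : act 0 n5223 = n5221 := d20_7 (iv4 F5460) (iv1 D1533) F1578 (iv3 F1260) D1076 D2197 (iv4 F7784) F7779 F3526 (iv1 F1995)
def n5224 : Q := act 1 n2145
theorem D5224 : act 1 n2145 = n5224 := rfl
theorem F7786 : act 1 n5224 = n5221 := d15_1 D5224 (iv7 D5221) (iv2 F3516)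
def n5225 : Q := act 5 n2145
theorem D5225 : act 5 n2145 = n5225 := rfl
theorem F7787 : act 2 n5225 = n5220 := d2_1 D5225 (iv5 D5220) (iv2 F3516)
def n5226 : Q := act 7 n2145
theorem D5226 : act 7 n2145 = n5226 := rfl
theorem F7788 : act 2 n5226 = n5221 := d4_1 D5226 (iv7 D5221) (iv2 F3516)
theorem F7789 : act 4 n5226 = n2285 := d11_1 D5226 (iv7 D2285) (iv4 F3517)
theorem F7790 : act 6 n5226 = n5226 := d14_1 D5226 (iv7 D5226) (iv6 D2145) F1976 D2145
theorem F7791 : act 1 n5219 = n5226 := d15_1 D5219 (iv7 D5226) F3516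
theorem F7792 : act 1 n5226 = n5218 := d15_0 (iv0 D5218) D5221 (iv2 F7788)
def n5227 : Q := act 0 n2146
theorem D5227 : act 0 n2146 = n5227 := rfl
def n5228 : Q := act 1 n2146
theorem D5228 : act 1 n2146 = n5228 := rfl
def n5229 : Q := act 5 n2146
theorem D5229 : act 5 n2146 = n5229 := rfl
theorem F7793 : act 3 n5229 = n2150 := d6_1 D5229 (iv5 D2150) (iv3 F3518)
def n5230 : Q := act 7 n2146
theorem D5230 : act 7 n2146 = n5230 := rfl
theorem F7794 : act 3 n5230 = n2151 := d8_1 D5230 (iv7 D2151) (iv3 F3518)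
theorem F7795 : act 4 n5230 = n2219 := d11_1 D5230 (iv7 D2219) (iv4 F3519)
theorem F7796 : act 6 n5230 = n5230 := d14_1 D5230 (iv7 D5230) (iv6 D2146) F1978 D2146
def n5231 : Q := act 0 n2147
theorem D5231 : act 0 n2147 = n5231 := rfl
def n5232 : Q := act 1 n2147
theorem D5232 : act 1 n2147 = n5232 := rfl
def n5233 : Q := act 5 n2147
theorem D5233 : act 5 n2147 = n5233 := rfl
theorem F7797 : act 6 n5233 = n2150 := d12_2 D2147 D5233 (iv5 D2150) (iv6 D1063) D1062
def n5234 : Q := act 7 n2147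
theorem D5234 : act 7 n2147 = n5234 := rfl
theorem F7798 : act 6 n5234 = n5234 := d14_1 D5234 (iv7 D5234) (iv6 D2147) F1980 D2147
def n5235 : Q := act 3 n2148
theorem D5235 : act 3 n2148 = n5235 := rfl
def n5236 : Q := act 5 n2148
theorem D5236 : act 5 n2148 = n5236 := rfl
def n5237 : Q := act 6 n2148
theorem D5237 : act 6 n2148 = n5237 := rfl
def n5238 : Q := act 3 n2149
theorem D5238 : act 3 n2149 = n5238 := rfl
theorem F7799 : act 4 n5238 = n2320 := d5_2 (iv4 F5110) D5238 (iv3 D2320) (iv4 F4876) D1273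
def n5239 : Q := act 5 n2149
theorem D5239 : act 5 n2149 = n5239 := rfl
def n5240 : Q := act 6 n2149
theorem D5240 : act 6 n2149 = n5240 := rfl
def n5241 : Q := act 0 n2150
theorem D5241 : act 0 n2150 = n5241 := rfl
def n5242 : Q := act 1 n2150
theorem D5242 : act 1 n2150 = n5242 := rfl
def n5243 : Q := act 4 n2150
theorem D5243 : act 4 n2150 = n5243 := rfl
def n5244 : Q := act 7 n2150
theorem D5244 : act 7 n2150 = n5244 := rfl
theorem F7801 : act 5 n5244 = n2151 := d13_1 D5244 (iv7 D2151) D2150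
def n5246 : Q := act 1 n2152
theorem D5246 : act 1 n2152 = n5246 := rfl
theorem F7803 : act 1 n5246 = n2157 := d15_1 D5246 (iv7 D2157) D2152
def n5247 : Q := act 3 n2152
theorem D5247 : act 3 n2152 = n5247 := rfl
theorem F7804 : act 7 n5247 = n2158 := d8_2 F3522 D5247 (iv3 D2158)
def n5248 : Q := act 4 n2152
theorem D5248 : act 4 n2152 = n5248 := rfl
theorem F7805 : act 2 n5248 = n2154 := d1_1 D5248 (iv4 D2154) D2152
theorem F7806 : act 7 n5248 = n2159 := d11_2 F3522 D5248 (iv4 D2159)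
def n5249 : Q := act 5 n2152
theorem D5249 : act 5 n2152 = n5249 := rfl
theorem F7807 : act 2 n5249 = n2155 := d2_1 D5249 (iv5 D2155) D2152
theorem F7808 : act 7 n5249 = n2160 := d13_2 F3522 D5249 (iv5 D2160)
def n5250 : Q := act 6 n2152
theorem D5250 : act 6 n2152 = n5250 := rfl
theorem F7809 : act 2 n5250 = n2156 := d3_1 D5250 (iv6 D2156) D2152
def n5253 : Q := act 2 n2153
theorem D5253 : act 2 n2153 = n5253 := rfl
def n5254 : Q := act 5 n2153
theorem D5254 : act 5 n2153 = n5254 := rfl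
theorem F7811 : act 3 n5254 = n2155 := d6_1 D5254 (iv5 D2155) D2153
def n5255 : Q := act 6 n2153
theorem D5255 : act 6 n2153 = n5255 := rfl
theorem F7812 : act 3 n5255 = n2156 := d7_1 D5255 (iv6 D2156) D2153
def n5256 : Q := act 7 n2153
theorem D5256 : act 7 n2153 = n5256 := rfl
theorem F7813 : act 3 n5256 = n2157 := d8_1 D5256 (iv7 D2157) D2153
def n5257 : Q := act 0 n2154
theorem D5257 : act 0 n2154 = n5257 := rfl
def n5258 : Q := act 1 n2154
theorem D5258 : act 1 n2154 = n5258 := rfl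
def n5259 : Q := act 3 n2154
theorem D5259 : act 3 n2154 = n5259 := rfl
def n5260 : Q := act 5 n2154
theorem D5260 : act 5 n2154 = n5260 := rfl
def n5261 : Q := act 6 n2154
theorem D5261 : act 6 n2154 = n5261 := rfl
theorem F7815 : act 4 n5261 = n2156 := d10_1 D5261 (iv6 D2156) D2154
def n5262 : Q := act 7 n2154
theorem D5262 : act 7 n2154 = n5262 := rfl
theorem F7816 : act 2 n5262 = n2159 := d4_1 D5262 (iv7 F7806) F7805
theorem F7817 : act 4 n5262 = n2157 := d11_1 D5262 (iv7 D2157) D2154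
theorem F7818 : act 1 n2159 = n5257 := d15_0 (iv0 D5257) D5262 F7816
def n5263 : Q := act 0 n2155
theorem D5263 : act 0 n2155 = n5263 := rfl
theorem F7819 : act 5 n5263 = n5159 := d21_2 D2155 D5263 (iv6 D5159) (iv1 D2120) (iv6 D1049) (iv5 D662) (iv1 D349) D351 D668 D1064
def n5264 : Q := act 1 n2155
theorem D5264 : act 1 n2155 = n5264 := rfl
theorem F7820 : act 1 n5264 = n2160 := d15_1 D5264 (iv7 F7808) F7807
def n5265 : Q := act 4 n2155
theorem D5265 : act 4 n2155 = n5265 := rfl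
def n5266 : Q := act 6 n2155
theorem D5266 : act 6 n2155 = n5266 := rfl
theorem F7821 : act 0 n5266 = n5134 := d21_10 F7769 (iv1 D5215) (iv5 D2140) (iv6 D1058) (iv1 D666) D668 F1247 D1064 D2155 D5266
def n5267 : Q := act 7 n2155
theorem D5267 : act 7 n2155 = n5267 := rfl
theorem F7822 : act 2 n5267 = n2160 := d4_1 D5267 (iv7 F7808) F7807
theorem F7823 : act 5 n5267 = n2157 := d13_1 D5267 (iv7 D2157) D2155
theorem F7824 : act 1 n2160 = n5263 := d15_0 (iv0 D5263) D5267 F7822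
def n5268 : Q := act 0 n2156
theorem D5268 : act 0 n2156 = n5268 := rfl
def n5269 : Q := act 1 n2156
theorem D5269 : act 1 n2156 = n5269 := rfl
def n5270 : Q := act 5 n2156
theorem D5270 : act 5 n2156 = n5270 := rfl
theorem F7825 : act 0 n5270 = n5128 := d21_7 (iv5 D662) (iv1 D349) D351 D668 D1064 D2156 D5270 (iv5 D5128) (iv6 D2111) (iv1 F1943)
def n5271 : Q := act 7 n2156
theorem D5271 : act 7 n2156 = n5271 := rfl
def n5272 : Q := act 6 n2157
theorem D5272 : act 6 n2157 = n5272 := rfl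
theorem F7826 : act 2 n5272 = n2161 := d3_1 D5272 (iv6 D2161) (iv2 F3523)
def n5273 : Q := act 0 n2158
theorem D5273 : act 0 n2158 = n5273 := rfl
def n5277 : Q := act 5 n2158
theorem D5277 : act 5 n2158 = n5277 := rfl
theorem F7827 : act 3 n5277 = n2160 := d6_1 D5277 (iv5 D2160) D2158
def n5278 : Q := act 6 n2158
theorem D5278 : act 6 n2158 = n5278 := rfl
theorem F7828 : act 3 n5278 = n2161 := d7_1 D5278 (iv6 D2161) D2158
def n5279 : Q := act 3 n2159
theorem D5279 : act 3 n2159 = n5279 := rfl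
def n5280 : Q := act 5 n2159
theorem D5280 : act 5 n2159 = n5280 := rfl
def n5281 : Q := act 6 n2159
theorem D5281 : act 6 n2159 = n5281 := rfl
theorem F7829 : act 4 n5281 = n2161 := d10_1 D5281 (iv6 D2161) D2159
def n5282 : Q := act 4 n2160
theorem D5282 : act 4 n2160 = n5282 := rfl
def n5283 : Q := act 0 n2161
theorem D5283 : act 0 n2161 = n5283 := rfl
theorem F7830 : act 5 n5283 = n5160 := d21_0 (iv1 F7676) F7659 F3443 (iv1 F3449) D5159 (iv5 F7819) (iv1 F7824) (iv5 D2160) D2161 D5283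
theorem F7831 : act 6 n5283 = n5269 := d21_3 D2121 D5160 (iv5 F7830) (iv1 D5269) (iv6 D2156) D2155 D5263 F7819 (iv6 D5159) (iv1 D2120)
def n5284 : Q := act 1 n2161
theorem D5284 : act 1 n2161 = n5284 := rfl
def n5285 : Q := act 5 n2161
theorem D5285 : act 5 n2161 = n5285 := rfl
theorem F7832 : act 0 n5133 = n5285 := d21_1 D5133 (iv5 D5285) (iv6 D2161) (iv1 D1065) (iv6 D668) (iv5 D351) D348 D660 D1043 D2112
def n5286 : Q := act 7 n2161
theorem D5286 : act 7 n2161 = n5286 := rfl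
def n5287 : Q := act 2 n2162
theorem D5287 : act 2 n2162 = n5287 := rfl
theorem F7833 : act 7 n2163 = n5287 := d15_2 (iv0 D2162) D2163 (iv2 D5287)
theorem F7834 : act 3 n5287 = n2196 := d8_1 F7833 (iv7 F3563) (iv3 F5461)
def n5288 : Q := act 3 n2162
theorem D5288 : act 3 n2162 = n5288 := rfl
theorem F7835 : act 2 n5288 = n2197 := d0_1 D5288 (iv3 D2197) D2196 (iv3 F7834) (iv2 D5287)
theorem F7836 : act 4 n5288 = n5218 := d20_6 D1543 F5274 F1988 (iv3 F1985) D2162 D5288 (iv1 F7792) F7789 F3642 (iv1 F2188)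
theorem F7837 : act 2 n5218 = n5223 := d1_1 F7836 F7784 (iv2 F7835)
theorem F7838 : act 7 n5224 = n5218 := d15_2 (iv0 D5223) D5224 F7837
theorem F7839 : act 7 n5219 = n5223 := d15_2 (iv0 D5218) D5219 (iv2 F7837)
theorem F7840 : act 2 n5224 = n5219 := d4_3 F7839 (iv2 F7837) (iv7 F7838)
theorem F7841 : act 7 n2197 = n2180 := d11_2 F7839 F7784 F7778
theorem E1089 : n2174 = n1076 := (c8_3 F7841 (iv3 D2180) F3537 D2197)
theorem E1090 : n2196 = n1070 := ((D2196).symm.trans (sb E1089 (iv2 D2174)))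
theorem E1091 : n3111 = n1532 := ((((iv4 F5458)).symm.trans (sb E1089 (iv4 F4929)))).symm
theorem E1092 : n2201 = n1071 := ((D2201).symm.trans (sb E1089 (iv7 F3537)))
theorem F7842 : act 2 n1070 = n1076 := (sb E1090 (iv2 D2196))
theorem E1093 : n5287 = n2175 := (((D2175).symm.trans (sb E1090 (iv3 F7834)))).symm
theorem E1094 : n3475 = n1393 := (((F4928).symm.trans (sb E1090 F5459))).symm
theorem E1095 : n2179 = n1077 := ((D2179).symm.trans (sb E1090 (iv7 F3563)))
theorem E1096 : n3480 = n1394 := ((D3480).symm.trans (sb E1091 (iv7 F4842)))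
theorem F7843 : act 7 n1071 = n1076 := (sb E1092 (iv7 D2201))
theorem F7844 : act 2 n2175 = n2162 := (sb E1093 (iv2 D5287))
theorem F7845 : act 7 n2175 = n2163 := (sb E1093 (iv7 F7833))
theorem F7846 : act 2 n1393 = n1532 := (sb E1094 (iv2 D3475))
theorem E1097 : n3116 = n1533 := ((D3116).symm.trans (sb E1094 (iv7 F5455)))
theorem F7847 : act 2 n1077 = n1071 := (sb E1095 F3539)
theorem F7848 : act 7 n1077 = n1070 := (sb E1095 (iv7 D2179))
theorem F7849 : act 7 n1394 = n1532 := (sb E1096 (iv7 D3480))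
theorem F7850 : act 2 n1533 = n1394 := (sb E1097 F4844)
theorem F7851 : act 7 n1533 = n1393 := (sb E1097 (iv7 D3116))
theorem F7852 : act 7 n3112 = n3481 := d8_2 F7851 D3112 (iv3 D3481)
theorem F7853 : act 7 n3114 = n3482 := d13_2 F7851 D3114 (iv5 D3482)
theorem F7854 : act 2 n3119 = n3482 := d2_3 (iv5 D3482) F7850 D3119
theorem F7855 : act 2 n3120 = n3483 := d3_3 (iv6 D3483) F7850 D3120
theorem F7856 : act 2 n2205 = n2183 := d1_3 (iv4 F4932) F7855 F5464
theorem F7857 : act 7 n3476 = n3117 := d8_2 F7849 D3476 (iv3 D3117)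
theorem F7858 : act 7 n3478 = n3119 := d13_2 F7849 D3478 (iv5 D3119)
theorem F7859 : act 2 n3114 = n3478 := d4_3 F7858 F7854 (iv7 F7853)
theorem F7860 : act 7 n2177 = n2204 := d13_2 F7848 D2177 (iv5 D2204)
theorem F7861 : act 2 n2182 = n2204 := d2_3 (iv5 D2204) F7847 D2182
theorem F7862 : act 2 n3568 = n2892 := d3_3 F4492 F7861 (iv6 F5595)
theorem F7863 : act 7 n2893 = n3568 := d15_2 (iv0 D2892) D2893 F7862
theorem F7864 : act 7 n3569 = n2892 := d15_2 (iv0 D3568) D3569 (iv2 F7862)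
theorem F7865 : act 2 n2893 = n3569 := d4_3 F7864 (iv2 F7862) (iv7 F7863)
theorem F7866 : act 2 n3479 = n3115 := d3_3 (iv6 D3115) F7846 D3479
theorem F7867 : act 2 n2178 = n2200 := d1_3 F5457 F7866 F4910
theorem E1098 : n3168 = n2443 := (c2_4 (iv5 F5456) F7866 F4843 (iv2 F4998))
theorem F7868 : act 2 n2443 = n1408 := (sb E1098 F4998)
theorem F7869 : act 7 n2443 = n1407 := (sb E1098 (iv7 D3168))
theorem F7870 : act 7 n3166 = n3479 := d13_2 F7869 D3166 F5456
theorem E1099 : n3163 = n2442 := (c15_4 (iv0 D2442) D2443 F7869 D3163)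
theorem F7871 : act 2 n2442 = n1407 := (sb E1099 (iv2 D3163))
theorem F7872 : act 7 n2442 = n1408 := (sb E1099 (iv7 F4995))
theorem F7873 : act 7 n2200 = n2273 := d11_2 F7870 (iv4 F5457) (iv4 F4996)
theorem E1100 : n2869 = n2106 := (c13_3 F7873 F3621 D2869 (iv5 F3564))
theorem E1101 : n5115 = n1305 := (((iv2 F7631)).symm.trans (sb E1100 F4467))
theorem E1102 : n3310 = n2496 := ((((iv4 F5145)).symm.trans (sb E1100 (iv4 F5301)))).symm
theorem E1103 : n5113 = n1304 := ((F7630).symm.trans (sb E1100 (iv7 D2869)))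
theorem F7874 : act 2 n1305 = n2106 := (sb E1101 F7631)
theorem E1104 : n2865 = n2105 := ((F4466).symm.trans (sb E1101 (iv7 D5115)))
theorem F7875 : act 2 n2496 = n1465 := (sb E1102 F5300)
theorem F7876 : act 7 n2496 = n1464 := (sb E1102 (iv7 D3310))
theorem F7877 : act 7 n1304 = n2106 := (sb E1103 (iv7 F7630))
theorem F7878 : act 2 n2105 = n1304 := (sb E1104 (iv2 D2865))
theorem E1105 : n3306 = n2495 := (((F5146).symm.trans (sb E1104 (iv4 F5297)))).symm
theorem F7879 : act 7 n2105 = n1305 := (sb E1104 (iv7 F4466))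
theorem F7880 : act 2 n2495 = n1464 := (sb E1105 (iv2 D3306))
theorem F7881 : act 7 n2495 = n1465 := (sb E1105 (iv7 F5298))
theorem F7882 : act 7 n2259 = n2183 := d14_2 F7873 F3622 (iv6 D2183) F7843 D2200
theorem F7883 : act 2 n2273 = n2367 := d15_3 (iv0 D2367) (iv0 F7599) F7873
theorem F7884 : act 7 n2178 = n2367 := d4_2 (iv7 F7873) (iv2 F7867) (iv2 F7883)
theorem F7885 : act 7 n2353 = n2205 := d14_2 F7884 F3712 (iv6 D2205) F7848 D2178
theorem E1106 : n2274 = n2178 := (c15_2 (iv0 D2273) D2274 F7884 (iv2 F7883))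
theorem F7886 : act 0 n2178 = n1097 := (sb E1106 (iv1 D2274))
theorem F7887 : act 2 n2259 = n2353 := d4_3 F7885 F7856 (iv7 F7882)
theorem E1107 : n2352 = n2183 := ((c15_4 (iv0 D2352) D2353 F7885 F7856)).symm
theorem F7888 : act 1 n2183 = n1119 := (sb E1107 (iv0 D2352))
theorem E1108 : n2258 = n2205 := ((c15_4 (iv0 D2258) D2259 F7882 (iv2 F7856))).symm
theorem F7889 : act 1 n2205 = n1092 := (sb E1108 (iv0 D2258))
theorem F7890 : act 7 n2870 = n2406 := d8_2 F7879 D2870 F5147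
theorem F7891 : act 2 n2406 = n5083 := d15_3 (iv0 D5083) F4940 F7890
theorem F7892 : act 2 n2870 = n2407 := d15_3 F7559 F7560 (iv7 F7890)
theorem F7893 : act 7 n2407 = n5083 := d4_2 (iv7 F7890) F7892 (iv2 F7891)
theorem F7894 : act 2 n2868 = n5114 := d3_3 (iv6 D5114) F7878 D2868
theorem F7895 : act 7 n5116 = n2866 := d8_2 F7877 D5116 (iv3 D2866)
theorem F7896 : act 2 n5117 = n2872 := d3_3 (iv6 D2872) F7874 D5117
theorem F7897 : act 2 n2163 = n2283 := d15_3 F3637 (iv0 F4933) F7845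
theorem F7898 : act 7 n2162 = n2283 := d4_2 (iv7 F7845) F7844 (iv2 F7897)
theorem F7899 : act 7 n2199 = n2182 := d13_2 F7843 D2199 (iv5 D2182)
theorem F7900 : act 2 n2177 = n2199 := d4_3 F7899 F7861 (iv7 F7860)
def n5289 : Q := act 4 n2162
theorem D5289 : act 4 n2162 = n5289 := rfl
def n5290 : Q := act 5 n2162
theorem D5290 : act 5 n2162 = n5290 := rfl
def n5291 : Q := act 6 n2162
theorem D5291 : act 6 n2162 = n5291 := rfl
theorem F7901 : act 5 n5291 = n2407 := d21_6 (iv5 F1290) (iv1 F1344) F1342 D1067 D2162 D5291 (iv1 D2407) (iv5 D1136) (iv6 D691) D688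
def n5292 : Q := act 4 n2163
theorem D5292 : act 4 n2163 = n5292 := rfl
def n5293 : Q := act 5 n2163
theorem D5293 : act 5 n2163 = n5293 := rfl
theorem F7902 : act 3 n5293 = n2204 := d6_1 D5293 (iv5 D2204) (iv3 F5461)
def n5294 : Q := act 6 n2163
theorem D5294 : act 6 n2163 = n5294 := rfl
theorem F7903 : act 3 n5294 = n2205 := d7_1 D5294 (iv6 D2205) (iv3 F5461)
def n5295 : Q := act 0 n2164
theorem D5295 : act 0 n2164 = n5295 := rfl
theorem F7904 : act 6 n5295 = n2404 := d21_5 F2091 F2170 (iv5 F2797) (iv6 F3525) D5295 (iv5 D2404) (iv1 D1135) D1136 F2079 D1141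
def n5296 : Q := act 1 n2164
theorem D5296 : act 1 n2164 = n5296 := rfl
theorem F7905 : act 5 n2400 = n5296 := d21_6 (iv5 D679) (iv1 F643) D398 D691 D1134 D2400 (iv1 D5296) (iv5 D2164) (iv6 D1067) (iv1 F1268)
theorem F7906 : act 3 n5296 = n2207 := d6_1 F7905 (iv5 F3568) (iv3 F5126)
def n5297 : Q := act 4 n2164
theorem D5297 : act 4 n2164 = n5297 := rfl
theorem F7907 : act 6 n5297 = n3666 := d10_2 (iv6 F3525) D5297 (iv4 D3666)
def n5298 : Q := act 7 n2164
theorem D5298 : act 7 n2164 = n5298 := rfl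
theorem F7908 : act 3 n5298 = n2187 := d8_1 D5298 (iv7 D2187) (iv3 F3524)
theorem F7909 : act 5 n5298 = n2165 := d13_1 D5298 (iv7 D2165) D2164
def n5299 : Q := act 3 n2166
theorem D5299 : act 3 n2166 = n5299 := rfl
theorem F7910 : act 7 n5299 = n5299 := d8_2 F4504 D5299 (iv3 D5299)
theorem F7911 : act 4 n5299 = n2189 := d20_6 (iv4 D355) D353 D670 D1068 D2166 D5299 (iv1 D2189) F1990 (iv3 D833) F811
theorem F7912 : act 0 n5299 = n2376 := d20_1 (iv4 F7911) (iv4 F3762) (iv3 D2384) (iv1 D1130) D1131 F2073 D1145 (iv4 F3528) (iv3 F3546) (iv1 F3551)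
def n5300 : Q := act 4 n2166
theorem D5300 : act 4 n2166 = n5300 := rfl
theorem F7913 : act 2 n5300 = n2896 := d1_1 D5300 F4499 F4503
theorem F7914 : act 7 n5300 = n5300 := d11_2 F4504 D5300 (iv4 D5300)
theorem F7915 : act 0 n5300 = n2805 := d17_0 (iv5 F4401) F4402 (iv5 F4250) F4249 (iv5 F3754) F2388 (iv5 F3529) F3531 D5300
def n5301 : Q := act 6 n2166
theorem D5301 : act 6 n2166 = n5301 := rfl
def n5302 : Q := act 6 n2167
theorem D5302 : act 6 n2167 = n5302 := rfl
theorem F7916 : act 2 n5302 = n5301 := d3_1 D5302 (iv6 D5301) (iv2 F4503)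
def n5303 : Q := act 6 n2168
theorem D5303 : act 6 n2168 = n5303 := rfl
theorem F7917 : act 2 n5303 = n2169 := d3_1 D5303 (iv6 D2169) D2168
theorem F7918 : act 4 n5303 = n2425 := d10_1 D5303 (iv6 D2425) (iv4 F3528)
def n5304 : Q := act 0 n2169
theorem D5304 : act 0 n2169 = n5304 := rfl
def n5305 : Q := act 1 n2169
theorem D5305 : act 1 n2169 = n5305 := rfl
def n5306 : Q := act 5 n2169
theorem D5306 : act 5 n2169 = n5306 := rfl
theorem F7919 : act 3 n5306 = n2172 := d6_1 D5306 (iv5 D2172) (iv3 F3533)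
theorem F7920 : act 6 n5306 = n2813 := d12_2 D2169 D5306 (iv5 D2813) (iv6 D1289) (iv5 F1986)
def n5307 : Q := act 7 n2169
theorem D5307 : act 7 n2169 = n5307 := rfl
theorem F7921 : act 3 n5307 = n2173 := d8_1 D5307 (iv7 D2173) (iv3 F3533)
theorem F7922 : act 6 n5307 = n5307 := d14_1 D5307 (iv7 D5307) (iv6 D2169) F1987 D2169
def n5308 : Q := act 0 n2172
theorem D5308 : act 0 n2172 = n5308 := rfl
theorem F7923 : act 5 n5308 = n3224 := d17_3 F5274 D2172 D5308 F5020 (iv5 F3871) (iv0 D1546) (iv5 D837) D836 D1543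
theorem F7924 : act 7 n3223 = n5308 := d13_0 F7923 (iv7 D3224) D3223
def n5309 : Q := act 1 n2172
theorem D5309 : act 1 n2172 = n5309 := rfl
theorem F7925 : act 5 n2463 = n5309 := d21_6 (iv5 F725) (iv1 F1252) F1250 D752 (iv1 F4919) D2463 (iv1 D5309) (iv5 D2172) (iv6 D1069) F1251
theorem F7926 : act 2 n5309 = n3223 := d2_1 F7925 (iv5 D3223) F3908
def n5310 : Q := act 4 n2172
theorem D5310 : act 4 n2172 = n5310 := rfl
theorem F7927 : act 6 n5310 = n2827 := d10_2 (iv6 F3534) D5310 (iv4 D2827)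
def n5311 : Q := act 7 n2172
theorem D5311 : act 7 n2172 = n5311 := rfl
theorem F7928 : act 5 n5311 = n2173 := d13_1 D5311 (iv7 D2173) D2172
theorem F7929 : act 1 n3223 = n5311 := d15_1 (iv0 F5076) (iv7 D5311) (iv2 F3555)
def n5312 : Q := act 4 n2175
theorem D5312 : act 4 n2175 = n5312 := rfl
theorem F7930 : act 2 n5312 = n5289 := d1_1 D5312 (iv4 D5289) (iv2 F7844)
theorem F7931 : act 7 n5312 = n5292 := d11_2 (iv7 F7845) D5312 (iv4 D5292)
def n5313 : Q := act 5 n2175
theorem D5313 : act 5 n2175 = n5313 := rfl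
theorem F7932 : act 2 n5313 = n5290 := d2_1 D5313 (iv5 D5290) (iv2 F7844)
theorem F7933 : act 3 n5313 = n2177 := d6_1 D5313 (iv5 D2177) D2175
theorem F7934 : act 7 n5313 = n5293 := d13_2 (iv7 F7845) D5313 (iv5 D5293)
def n5314 : Q := act 6 n2175
theorem D5314 : act 6 n2175 = n5314 := rfl
theorem F7935 : act 2 n5314 = n5291 := d3_1 D5314 (iv6 D5291) (iv2 F7844)
theorem F7936 : act 3 n5314 = n2178 := d7_1 D5314 (iv6 D2178) D2175
theorem F7937 : act 5 n5314 = n2870 := d21_6 (iv5 F1347) (iv1 D709) (iv5 F1272) D1100 (iv1 F4934) D5314 (iv1 F4940) (iv5 D2082) (iv6 D1032) (iv1 F1292)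
def n5315 : Q := act 0 n2177
theorem D5315 : act 0 n2177 = n5315 := rfl
theorem F7938 : act 5 n5315 = n2791 := d21_2 D2177 D5315 (iv6 D2791) (iv1 D1279) (iv6 D749) F728 D471 F769 D671 D1070
theorem F7939 : act 1 n2182 = n5315 := d15_0 (iv0 D5315) F7860 (iv2 F7861)
theorem F7940 : act 6 n3684 = n5315 := d21_9 (iv5 D2182) (iv1 D1071) D1072 F2210 (iv1 D1196) D1198 F2215 D1618 D3684 (iv1 F7939)
def n5316 : Q := act 1 n2177
theorem D5316 : act 1 n2177 = n5316 := rfl
theorem F7941 : act 1 n5316 = n2182 := d15_1 D5316 (iv7 F7899) (iv2 F7900)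
theorem F7942 : act 5 n2256 = n5316 := d21_0 (iv1 D5316) (iv5 D2177) D2178 F7886 (iv6 D1097) D1096 (iv1 F4385) (iv5 F3700) (iv6 F4437) F4439
theorem F7943 : act 6 n5316 = n2260 := d12_2 D2256 F7942 (iv5 D2260) (iv6 D1092) D1091
def n5317 : Q := act 4 n2177
theorem D5317 : act 4 n2177 = n5317 := rfl
def n5318 : Q := act 6 n2177
theorem D5318 : act 6 n2177 = n5318 := rfl
theorem F7944 : act 5 n5318 = n2872 := d12_1 D5318 (iv6 D2872) (iv5 F3538) (iv6 D2178) D2177
theorem F7945 : act 0 n5318 = n3607 := d21_10 (iv5 D3607) (iv1 D1586) (iv5 F2257) (iv6 D1211) (iv1 F2206) (iv6 F2210) (iv5 D1072) D1070 D2177 D5318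
theorem F7946 : act 0 n3688 = n2872 := d21_1 D3688 (iv5 F7944) (iv6 D5318) D5315 (iv6 F7940) (iv5 D3684) (iv1 F4147) F4143 (iv6 F4144) (iv1 F4146)
theorem F7947 : act 0 n3602 = n5318 := d21_1 D3602 F7944 (iv6 D2872) (iv1 D1305) F1465 (iv5 D439) (iv1 F1000) D525 D857 D1585
def n5319 : Q := act 1 n2178
theorem D5319 : act 1 n2178 = n5319 := rfl
theorem F7948 : act 1 n5319 = n2273 := d15_1 D5319 (iv7 F7873) (iv2 F7867)
theorem F7949 : act 7 n5319 = n2262 := d15_2 (iv0 F7886) D5319 F3617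
theorem F7950 : act 2 n2276 = n5319 := d4_3 F7949 F3617 D2276
theorem F7951 : act 6 n2261 = n5319 := d14_5 F7949 (iv6 D2262) (iv7 D1093) D1092 D2261
theorem F7952 : act 5 n2792 = n2261 := d21_2 D1280 D2792 F7951 (iv1 D5319) (iv6 D2178) D2177 D5315 F7938 (iv6 D2791) (iv1 D1279)
theorem F7953 : act 5 n3689 = n5319 := d12_5 (iv6 F7951) (iv5 F7952) (iv6 F5703) (iv5 D3688) D3689
theorem F7954 : act 0 n2872 = n3684 := d21_10 (iv5 D3684) (iv1 F4147) F4143 (iv6 F4144) (iv1 F4146) D3689 F7953 (iv1 D5319) F3538 D2872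
theorem F7955 : act 7 n2260 = n2792 := d13_0 F7952 (iv7 D2261) D2260
theorem F7956 : act 0 n2183 = n2261 := d21_10 (iv5 F7952) (iv1 F4393) F4390 F2381 (iv1 F2383) D2791 (iv5 F7938) (iv1 F7939) (iv5 D2182) D2183
theorem F7957 : act 2 n2355 = n2261 := d15_3 (iv0 F7956) F7888 D2355
theorem F7958 : act 1 n2353 = n2261 := d15_0 (iv0 F7956) (iv7 F7882) F7887
theorem E1109 : n2239 = n1119 := (c15_4 D2353 F7958 (iv7 D2261) (iv2 F3601))
theorem E1110 : n2333 = n1092 := (((iv2 F3691)).symm.trans (sb E1109 F3601))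
theorem E1111 : n1088 = n685 := ((((iv6 D1119)).symm.trans (sb E1109 (iv6 D2239)))).symm
theorem F7959 : act 2 n1092 = n1119 := (sb E1110 F3691)
theorem E1112 : n1115 = n676 := ((((iv6 D1092)).symm.trans (sb E1110 (iv6 D2333)))).symm
theorem E1116 : n2237 = n1117 := (((D1117).symm.trans (sb E1111 D2237))).symm
theorem E1117 : n2238 = n1118 := (((D1118).symm.trans (sb E1111 D2238))).symm
theorem E1118 : n1120 = n677 := ((D1120).symm.trans (sb E1111 (iv7 F2016)))
theorem F7960 : act 2 n676 = n685 := (sb E1112 (iv2 D1115))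
theorem E1121 : n2330 = n1089 := (((D1089).symm.trans (sb E1112 D2330))).symm
theorem E1122 : n2331 = n1090 := (((D1090).symm.trans (sb E1112 D2331))).symm
theorem E1123 : n2332 = n1091 := (((D1091).symm.trans (sb E1112 D2332))).symm
theorem E1124 : n1093 = n686 := ((D1093).symm.trans (sb E1112 (iv7 F2054)))
theorem E1126 : n2346 = n1095 := ((D2346).symm.trans (sb E1116 F3598))
theorem E1127 : n2351 = n1096 := ((D2351).symm.trans (sb E1117 F3600))
theorem F7961 : act 7 n677 = n685 := (sb E1118 (iv7 D1120))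
theorem E1129 : n2279 = n2242 := (((D2242).symm.trans (sb E1121 F7718))).symm
theorem E1130 : n2246 = n1121 := ((D2246).symm.trans (sb E1121 F3686))
theorem F7962 : act 2 n1090 = n1117 := (sb E1122 F3687)
theorem E1131 : n2252 = n1122 := ((D2252).symm.trans (sb E1122 F3688))
theorem F7963 : act 2 n1091 = n1118 := (sb E1123 F3689)
theorem E1132 : n2257 = n1123 := ((D2257).symm.trans (sb E1123 F3690))
theorem F7964 : act 2 n686 = n677 := (sb E1124 F2017)
theorem E1133 : n2262 = n1124 := (((D1124).symm.trans (sb E1124 D2262))).symm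
theorem F7965 : act 7 n686 = n676 := (sb E1124 (iv7 D1093))
theorem F7967 : act 7 n1095 = n1117 := (sb E1126 (iv7 D2346))
theorem E1134 : n2783 = n1282 := ((((iv6 F2376)).symm.trans (sb E1127 (iv6 F4365)))).symm
theorem F7968 : act 7 n1096 = n1118 := (sb E1127 (iv7 D2351))
theorem F7969 : act 0 n2242 = n1106 := (sb E1129 (iv1 F3634))
theorem F7970 : act 1 n2242 = n1099 := (sb E1129 (iv0 D2279))
theorem F7971 : act 3 n2242 = n2336 := (sb E1129 F7719)
theorem E1135 : n2359 = n1105 := (((F5094).symm.trans (sb E1129 F7717))).symm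
theorem F7972 : act 7 n1121 = n1089 := (sb E1130 (iv7 D2246))
theorem F7973 : act 2 n1122 = n1095 := (sb E1131 F3607)
theorem F7974 : act 7 n1122 = n1090 := (sb E1131 (iv7 D2252))
theorem F7975 : act 2 n1123 = n1096 := (sb E1132 F3613)
theorem E1136 : n2794 = n1278 := ((((iv6 F2373)).symm.trans (sb E1132 (iv6 F4378)))).symm
theorem F7976 : act 7 n1123 = n1091 := (sb E1132 (iv7 D2257))
theorem F7977 : act 2 n1124 = n1097 := (sb E1133 F3617)
theorem E1137 : n5319 = n2370 := (((D2370).symm.trans (sb E1133 (iv7 F7949)))).symm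
theorem E1138 : n2976 = n1319 := ((((iv4 F5097)).symm.trans (sb E1134 F7727))).symm
theorem E1139 : n2798 = n1279 := ((D2798).symm.trans (sb E1134 (iv7 F4366)))
theorem F7978 : act 2 n1105 = n1121 := (sb E1135 (iv2 D2359))
theorem F7979 : act 2 n1278 = n1282 := (sb E1136 (iv2 D2794))
theorem E1140 : n2903 = n1341 := ((((iv4 F7722)).symm.trans (sb E1136 F5100))).symm
theorem E1141 : n2787 = n1283 := ((D2787).symm.trans (sb E1136 (iv7 F4379)))
theorem F7980 : act 0 n2370 = n2178 := (sb E1137 (iv1 D5319))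
theorem F7981 : act 1 n2370 = n2273 := (sb E1137 F7948)
theorem F7982 : act 2 n2370 = n2276 := (sb E1137 (iv2 F7950))
theorem F7983 : act 5 n2370 = n3689 := (sb E1137 (iv5 F7953))
theorem F7984 : act 6 n2370 = n2261 := (sb E1137 (iv6 F7951))
theorem E1142 : n2908 = n1342 := ((D2908).symm.trans (sb E1138 (iv7 F4665)))
theorem E1143 : n5107 = n2791 := (((D2791).symm.trans (sb E1139 (iv6 F7615)))).symm
theorem F7985 : act 7 n1279 = n1282 := (sb E1139 (iv7 D2798))
theorem F7986 : act 2 n1341 = n1319 := (sb E1140 (iv2 D2903))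
theorem E1144 : n2981 = n1320 := ((D2981).symm.trans (sb E1140 (iv7 F4515)))
theorem F7987 : act 2 n1283 = n1279 := (sb E1141 F4373)
theorem E1145 : n2852 = n2802 := (((D2802).symm.trans (sb E1141 (iv6 F4434)))).symm
theorem F7988 : act 7 n1283 = n1278 := (sb E1141 (iv7 D2787))
theorem E1146 : n3221 = n2985 := (((D2985).symm.trans (sb E1142 (iv6 F5109)))).symm
theorem F7989 : act 7 n1342 = n1319 := (sb E1142 (iv7 D2908))
theorem F7990 : act 0 n2791 = n2853 := (sb E1143 (iv1 F7619))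
theorem F7991 : act 1 n2791 = n2099 := (sb E1143 (iv0 D5107))
theorem F7992 : act 2 n1320 = n1342 := (sb E1144 F4667)
theorem F7993 : act 7 n1320 = n1341 := (sb E1144 (iv7 D2981))
theorem F7994 : act 0 n2802 = n5108 := (sb E1145 (iv1 F7621))
theorem F7995 : act 1 n2802 = n1298 := (sb E1145 (iv0 D2852))
theorem F7996 : act 2 n2802 = n2791 := (sb E1145 (iv2 F4433))
theorem F7997 : act 1 n2985 = n1428 := (sb E1146 (iv0 D3221))
theorem F7998 : act 2 n2985 = n2912 := (sb E1146 (iv2 F5108))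
theorem E1147 : n5104 = n3689 := (c21_2 D2103 (iv1 F7607) (iv5 F7983) F7984 (iv1 F7958) (iv6 F3712) F3711 (iv1 F3432) F2397 F1467 (iv1 F1930))
theorem F7999 : act 0 n3689 = n2098 := (sb E1147 (iv1 D5104))
theorem F8000 : act 1 n3689 = n2103 := (sb E1147 F7607)
theorem F8001 : act 4 n3689 = n3230 := (sb E1147 (iv4 F7608))
theorem F8002 : act 6 n3230 = n3687 := d10_2 D3689 F8001 (iv4 D3687)
theorem F8003 : act 2 n2350 = n2256 := d4_3 (iv7 F4388) F7996 F4375
theorem F8004 : act 1 n3224 = n2912 := d18_6 (iv1 D2185) D2186 (iv1 F5508) (iv4 D3502) F3871 (iv4 F5020) (iv4 F5105) F7995 F3541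
theorem F8005 : act 7 n2977 = n2909 := d8_2 F7993 D2977 (iv3 D2909)
theorem F8006 : act 7 n2979 = n2911 := d13_2 F7993 D2979 (iv5 D2911)
theorem F8007 : act 7 n2366 = n2255 := d14_2 F7993 (iv6 F7726) F5080 (iv7 F5107) (iv6 D2912)
theorem F8008 : act 7 n2738 = n2665 := d13_2 F8007 F5079 (iv5 F7725)
theorem F8009 : act 2 n2255 = n2349 := d15_3 F7737 (iv0 F7723) F8007
theorem F8010 : act 2 n2664 = n2738 := d2_3 (iv5 F5079) F8009 (iv5 F7736)
theorem F8011 : act 7 n2272 = n2349 := d15_2 F5078 (iv0 F7597) (iv2 F8009)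
theorem F8012 : act 2 n2366 = n2272 := d4_3 F8011 (iv2 F8009) (iv7 F8007)
theorem F8013 : act 7 n2664 = n2739 := d13_2 F8011 (iv5 F7736) (iv5 F5098)
theorem F8014 : act 2 n2739 = n2665 := d4_1 F8013 (iv7 F8008) (iv2 F8010)
theorem F8015 : act 2 n2984 = n2911 := d2_3 (iv5 D2911) F7992 D2984
theorem F8016 : act 7 n2904 = n2982 := d8_2 F7989 D2904 (iv3 D2982)
theorem F8017 : act 7 n2906 = n2984 := d13_2 F7989 D2906 (iv5 D2984)
theorem F8018 : act 2 n2979 = n2906 := d4_3 F8017 F8015 (iv7 F8006)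
theorem F8019 : act 7 n2372 = n2379 := d8_2 F7988 F7721 F5103
theorem F8020 : act 7 n2786 = n2801 := d13_2 F7988 D2786 (iv5 D2801)
theorem F8021 : act 2 n2379 = n2373 := d15_3 F3729 F3730 F8019
theorem F8022 : act 2 n2372 = n2378 := d15_3 (iv0 D2378) D2379 (iv7 F8019)
theorem F8023 : act 2 n2304 = n2361 := d3_3 (iv6 F7720) F8022 F3722
theorem F8024 : act 7 n2378 = n2373 := d4_2 (iv7 F8019) F8022 (iv2 F8021)
theorem F8025 : act 2 n2790 = n2801 := d2_3 (iv5 D2801) F7987 D2790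
theorem E1148 : n3681 = n2585 := ((c3_3 F4374 F8025 (iv6 F4387) (iv2 D3681))).symm
theorem F8026 : act 2 n2585 = n1618 := (sb E1148 (iv2 D3681))
theorem F8027 : act 7 n2585 = n1619 := (sb E1148 (iv7 F5701))
theorem F8028 : act 7 n3689 = n2369 := d14_2 F8027 D3689 (iv6 F4369) F8020 (iv6 F4387)
theorem E1149 : n3685 = n2586 := (c15_4 F4141 F4145 F8027 (iv2 F5702))
theorem F8029 : act 2 n2586 = n1619 := (sb E1149 F5702)
theorem F8030 : act 7 n2586 = n1618 := (sb E1149 (iv7 D3685))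
theorem F8031 : act 2 n2369 = n2275 := d15_3 (iv0 F3623) (iv0 F7999) F8028
theorem F8032 : act 2 n3689 = n2848 := d15_3 F4430 (iv0 F4370) (iv7 F8028)
theorem F8033 : act 5 n2848 = n2276 := d2_2 F7983 F8032 (iv2 F7982)
theorem F8034 : act 6 n2848 = n2586 := d3_2 D3689 F8032 F8029
theorem F8035 : act 7 n2848 = n2275 := d4_2 (iv7 F8028) F8032 (iv2 F8031)
theorem F8036 : act 7 n2797 = n2790 := d14_2 F8035 (iv6 F4382) (iv6 F4374) (iv7 F8030) (iv6 F8034)
theorem F8037 : act 2 n2786 = n2797 := d4_3 F8036 F8025 (iv7 F8020)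
theorem F8038 : act 0 n2367 = n2276 := d21_1 (iv5 F3711) (iv5 F8033) F8034 (iv1 D2586) (iv6 D1211) (iv5 D722) F994 D658 (iv6 F1932) D2105
theorem F8039 : act 1 n2200 = n2276 := d15_0 (iv0 F8038) (iv7 F7884) F7867
theorem F8040 : act 7 n2795 = n2788 := d8_2 F7985 D2795 (iv3 D2788)
theorem F8041 : act 6 n2355 = n2276 := d3_2 F7984 (iv2 F7957) (iv2 F7982)
theorem F8042 : act 5 n2803 = n2355 := d21_8 F3564 (iv1 D2106) (iv5 D1039) (iv6 D657) (iv1 F731) D750 D1284 D2803 F8041 (iv1 F8039)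
theorem F8043 : act 0 n2355 = n2259 := d21_4 D1302 (iv1 F4430) F8033 (iv6 F8041) (iv6 F3622) F3621 (iv1 F3434) F3431 F1934 (iv1 F1936)
theorem F8044 : act 1 n2355 = n2205 := d15_1 (iv0 F8043) (iv7 F7885) (iv2 F7887)
theorem F8045 : act 2 n2792 = n2803 := d2_3 F8042 F7957 (iv5 F7952)
theorem F8046 : act 7 n2354 = n2803 := d13_0 F8042 (iv7 D2355) D2354
theorem F8047 : act 2 n2260 = n2354 := d4_3 F8046 (iv2 F8045) (iv7 F7955)
theorem F8048 : act 7 n2954 = n3020 := d11_2 F8046 F5102 (iv4 F7733)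
theorem F8049 : act 2 n3020 = n2955 := d15_3 F4742 F4743 F8048
theorem F8050 : act 2 n2954 = n3019 := d15_3 (iv0 D3019) D3020 (iv7 F8048)
theorem F8051 : act 7 n3019 = n2955 := d4_2 (iv7 F8048) F8050 (iv2 F8049)
theorem F8052 : act 2 n2360 = n2303 := d1_3 (iv4 D2303) F7978 D2360
theorem F8053 : act 2 n2362 = n2305 := d3_3 (iv6 D2305) F7978 D2362
theorem F8054 : act 2 n2271 = n2365 := d1_3 F3710 F7977 (iv4 F3620)
theorem F8055 : act 7 n2244 = n2361 := d8_2 F7976 (iv3 F3602) F3708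
theorem F8056 : act 7 n2249 = n2363 := d8_2 F7974 D2249 (iv3 D2363)
theorem F8057 : act 7 n2250 = n2364 := d13_2 F7974 D2250 (iv5 D2364)
theorem F8058 : act 2 n2270 = n2364 := d2_3 (iv5 D2364) F7973 D2270
theorem F8059 : act 7 n2344 = n2270 := d15_2 (iv0 F7596) (iv0 F7713) F8058
theorem F8060 : act 2 n2344 = n2250 := d4_3 F8057 (iv2 F8058) (iv7 F8059)
theorem F8061 : act 7 n2243 = n2360 := d11_2 F7972 D2243 (iv4 D2360)
theorem F8066 : act 7 n2343 = n2269 := d8_2 F7967 D2343 (iv3 D2269)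
theorem F8070 : act 2 n2345 = n2251 := d3_3 (iv6 D2251) F7962 D2345
theorem F8071 : act 2 n2914 = n2987 := d2_3 (iv5 F7714) F8070 F5086
theorem F8072 : act 7 n2986 = n2914 := d15_2 F4668 F4674 F8071
theorem F8073 : act 7 n2913 = n2987 := d15_2 F4675 F4676 (iv2 F8071)
theorem F8074 : act 2 n2986 = n2913 := d4_3 F8073 (iv2 F8071) (iv7 F8072)
def n5321 : Q := act 1 n2180
theorem D5321 : act 1 n2180 = n5321 := rfl
def n5322 : Q := act 2 n2180
theorem D5322 : act 2 n2180 = n5322 := rfl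
theorem F8076 : act 3 n5322 = n2283 := d0_2 D2180 D5322 (iv2 F7897) F5461 F7847
theorem F8077 : act 4 n5322 = n5224 := d1_2 (iv4 F7778) D5322 F7840
theorem F8078 : act 7 n5322 = n5288 := d4_2 F7841 D5322 F7835
theorem F8079 : act 1 n5321 = n5288 := d15_1 D5321 (iv7 F8078) (iv2 D5322)
def n5323 : Q := act 5 n2180
theorem D5323 : act 5 n2180 = n5323 := rfl
theorem F8080 : act 3 n5323 = n2182 := d6_1 D5323 (iv5 D2182) D2180
def n5324 : Q := act 6 n2180
theorem D5324 : act 6 n2180 = n5324 := rfl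
theorem F8081 : act 3 n5324 = n2183 := d7_1 D5324 (iv6 D2183) D2180
def n5325 : Q := act 4 n2182
theorem D5325 : act 4 n2182 = n5325 := rfl
def n5326 : Q := act 5 n2183
theorem D5326 : act 5 n2183 = n5326 := rfl
theorem F8082 : act 0 n5326 = n2801 := d21_1 D5326 (iv5 D2801) D2802 F7994 F7618 F3610 F4371 (iv5 D1118) D1119 (iv1 F7888)
theorem F8083 : act 0 n2797 = n5326 := d21_10 (iv5 D5326) F7956 (iv5 F7952) (iv6 F5703) F7946 (iv6 D2872) (iv5 F3538) F7886 D2275 (iv6 F4382)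
def n5327 : Q := act 3 n2184
theorem D5327 : act 3 n2184 = n5327 := rfl
theorem F8084 : act 6 n5327 = n2859 := d7_2 (iv6 F3540) D5327 F4463
theorem F8085 : act 7 n5327 = n5296 := d8_2 F4460 D5327 F7906
theorem F8086 : act 2 n5327 = n5295 := d15_3 (iv0 D5295) D5296 (iv7 F8085)
theorem F8087 : act 0 n2284 = n5327 := d21_4 F3406 F2166 D1185 (iv6 F3640) F8084 (iv5 D2859) (iv1 F4912) D2082 F3394 D2085
def n5328 : Q := act 4 n2184
theorem D5328 : act 4 n2184 = n5328 := rfl
theorem F8088 : act 2 n5328 = n3506 := d1_1 D5328 F5515 (iv2 F4459)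
theorem F8089 : act 6 n5328 = n2864 := d10_2 (iv6 F3540) D5328 (iv4 D2864)
theorem F8090 : act 7 n5328 = n3507 := d11_2 F4460 D5328 F5516
theorem F8091 : act 0 n5328 = n3510 := d18_2 D2184 D5328 F5518 F2690 (iv4 F2679) F2683 (iv4 F4928) (iv0 D1070) D1072
theorem F8092 : act 0 n2551 = n5328 := d21_4 D1504 (iv1 F4064) (iv5 D2554) (iv6 F4055) F8089 (iv5 F5307) (iv1 D3320) (iv5 D1467) F1511 D815
def n5329 : Q := act 3 n2185
theorem D5329 : act 3 n2185 = n5329 := rfl
theorem F8093 : act 5 n5329 = n2840 := d6_2 F3541 D5329 F4423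
def n5330 : Q := act 4 n2185
theorem D5330 : act 4 n2185 = n5330 := rfl
theorem F8094 : act 2 n5330 = n3507 := d1_1 D5330 F5516 F4462
theorem F8095 : act 7 n5330 = n3506 := d11_2 (iv7 F4461) D5330 F5515
theorem F8096 : act 0 n5330 = n2551 := d18_2 (iv1 F3575) D5330 (iv4 D2551) (iv5 D1189) (iv4 F1506) D1394 (iv4 F4931) F2003 (iv5 F3573)
theorem F8097 : act 1 n5330 = n3510 := d18_6 F3905 (iv4 F4941) (iv1 D3150) (iv4 F4907) F3541 D5330 F5518 F3898 F3897
def n5331 : Q := act 6 n2185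
theorem D5331 : act 6 n2185 = n5331 := rfl
theorem F8098 : act 5 n5331 = n2850 := d12_1 D5331 (iv6 D2850) (iv5 D1297) D1298 F3541
theorem F8099 : act 7 n5331 = n2850 := d14_2 (iv7 F4461) D5331 (iv6 D2850) (iv7 F4454) (iv6 F3566)
def n5332 : Q := act 3 n2186
theorem D5332 : act 3 n2186 = n5332 := rfl
theorem F8100 : act 6 n5332 = n3334 := d7_2 (iv6 F3542) D5332 (iv3 D3334)
def n5333 : Q := act 5 n2186
theorem D5333 : act 5 n2186 = n5333 := rfl
def n5334 : Q := act 7 n2186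
theorem D5334 : act 7 n2186 = n5334 := rfl
theorem F8101 : act 4 n5334 = n2187 := d11_1 D5334 (iv7 D2187) D2186
theorem F8102 : act 1 n3238 = n5334 := d15_1 F5202 (iv7 D5334) (iv2 F3569)
theorem F8103 : act 1 n5334 = n3277 := d15_1 F8102 (iv7 F5506) F5505
theorem F8104 : act 0 n5327 = n5298 := d20_4 D2551 F8092 (iv4 D5328) D5327 F7908 (iv4 F8101) (iv1 F8102) (iv4 D3238) F5064 F2564
def n5335 : Q := act 3 n2188
theorem D5335 : act 3 n2188 = n5335 := rfl
theorem F8105 : act 5 n5335 = n5299 := d6_2 (iv5 F3544) D5335 (iv3 D5299)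
theorem F8106 : act 7 n5335 = n5335 := d8_2 F4505 D5335 (iv3 D5335)
theorem F8107 : act 4 n5335 = n3026 := d20_6 (iv4 D378) (iv1 F626) D672 D1074 D2188 D5335 (iv1 F4750) (iv4 D1387) F1503 F761
theorem F8108 : act 0 n5092 = n5335 := d20_1 D5092 F8107 (iv3 D3026) (iv1 D1359) (iv3 D774) F750 (iv1 F729) D656 D1035 D2087
theorem F8109 : act 1 n2647 = n5335 := d15_0 (iv0 F8108) F7579 F7578
def n5336 : Q := act 4 n2188
theorem D5336 : act 4 n2188 = n5336 := rfl
theorem F8110 : act 2 n5336 = n5299 := d1_1 D5336 F7911 (iv2 F4506)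
theorem F8111 : act 3 n5336 = n3027 := d5_1 D5336 (iv4 D3027) D3026 (iv4 F8107) (iv3 D5335)
theorem F8112 : act 7 n5336 = n5336 := d11_2 F4505 D5336 (iv4 D5336)
theorem F8113 : act 0 n2376 = n5336 := d20_10 (iv4 D5336) (iv1 F3550) F3547 F2669 (iv1 F2522) (iv3 F2523) (iv4 D1031) (iv1 F1292) D1127 D2376
def n5337 : Q := act 6 n2188
theorem D5337 : act 6 n2188 = n5337 := rfl
def n5338 : Q := act 6 n2189
theorem D5338 : act 6 n2189 = n5338 := rfl
theorem F8114 : act 2 n5338 = n5337 := d3_1 D5338 (iv6 D5337) F4506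
def n5339 : Q := act 6 n2190
theorem D5339 : act 6 n2190 = n5339 := rfl
theorem F8115 : act 2 n5339 = n2191 := d3_1 D5339 (iv6 D2191) D2190
theorem F8116 : act 3 n5339 = n5303 := d7_1 D5339 (iv6 D5303) (iv3 F3546)
theorem F8117 : act 4 n5339 = n3470 := d10_1 D5339 (iv6 D3470) (iv4 F3547)
def n5340 : Q := act 0 n2191
theorem D5340 : act 0 n2191 = n5340 := rfl
def n5341 : Q := act 1 n2191
theorem D5341 : act 1 n2191 = n5341 := rfl
def n5342 : Q := act 5 n2191
theorem D5342 : act 5 n2191 = n5342 := rfl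
theorem F8118 : act 3 n5342 = n2194 := d6_1 D5342 (iv5 D2194) (iv3 F3552)
theorem F8119 : act 6 n5342 = n5098 := d12_2 D2191 D5342 (iv5 D5098) (iv6 D2090) (iv5 F1991)
def n5343 : Q := act 7 n2191
theorem D5343 : act 7 n2191 = n5343 := rfl
theorem F8120 : act 3 n5343 = n2195 := d8_1 D5343 (iv7 D2195) (iv3 F3552)
theorem F8121 : act 4 n5343 = n3474 := d11_1 D5343 (iv7 D3474) (iv4 F3553)
theorem F8122 : act 6 n5343 = n5343 := d14_1 D5343 (iv7 D5343) (iv6 D2191) F1992 D2191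
def n5344 : Q := act 3 n2192
theorem D5344 : act 3 n2192 = n5344 := rfl
theorem F8123 : act 7 n5344 = n3498 := d8_2 (iv7 F5271) D5344 (iv3 D3498)
def n5345 : Q := act 5 n2192
theorem D5345 : act 5 n2192 = n5345 := rfl
theorem F8124 : act 2 n5345 = n3489 := d2_1 D5345 (iv5 D3489) F5272
theorem F8125 : act 7 n5345 = n3499 := d13_2 (iv7 F5271) D5345 (iv5 D3499)
def n5346 : Q := act 3 n2193
theorem D5346 : act 3 n2193 = n5346 := rfl
theorem F8126 : act 4 n5346 = n5346 := d5_2 F5201 D5346 (iv3 D5346) (iv4 F5201) F5200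
theorem F8127 : act 7 n5346 = n3488 := d8_2 (iv7 F5273) D5346 (iv3 D3488)
def n5347 : Q := act 5 n2193
theorem D5347 : act 5 n2193 = n5347 := rfl
theorem F8128 : act 2 n5347 = n3499 := d2_1 D5347 (iv5 D3499) (iv2 F5269)
theorem F8129 : act 7 n5347 = n3489 := d13_2 (iv7 F5273) D5347 (iv5 D3489)
def n5348 : Q := act 6 n2193
theorem D5348 : act 6 n2193 = n5348 := rfl
theorem F8130 : act 2 n5348 = n3500 := d3_1 D5348 (iv6 D3500) (iv2 F5269)
theorem F8131 : act 4 n5348 = n2550 := d10_1 D5348 (iv6 D2550) F5201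
def n5349 : Q := act 0 n2194
theorem D5349 : act 0 n2194 = n5349 := rfl
theorem F8132 : act 2 n5308 = n5349 := d15_3 (iv0 D5349) (iv0 F5076) F7924
theorem F8133 : act 7 n5349 = n5309 := d4_2 F7924 F8132 F7926
theorem F8134 : act 1 n5311 = n5349 := d15_1 F7929 F8133 F7926
def n5350 : Q := act 4 n2194
theorem D5350 : act 4 n2194 = n5350 := rfl
theorem F8135 : act 2 n5350 = n5310 := d1_1 D5350 (iv4 D5310) (iv2 F3555)
theorem F8136 : act 6 n5350 = n5102 := d10_2 (iv6 F3556) D5350 (iv4 D5102)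
def n5351 : Q := act 7 n2194
theorem D5351 : act 7 n2194 = n5351 := rfl
theorem F8137 : act 2 n5351 = n5311 := d4_1 D5351 (iv7 D5311) (iv2 F3555)
theorem F8138 : act 5 n5351 = n2195 := d13_1 D5351 (iv7 D2195) D2194
theorem F8139 : act 1 n5309 = n5351 := d15_1 D5309 (iv7 D5351) F3555
theorem F8140 : act 1 n5351 = n5308 := d15_1 F8139 (iv7 F7924) (iv2 F7926)
def n5353 : Q := act 1 n2197
theorem D5353 : act 1 n2197 = n5353 := rfl
theorem F8142 : act 1 n5353 = n5322 := d15_1 D5353 F8078 F7835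
def n5354 : Q := act 5 n2197
theorem D5354 : act 5 n2197 = n5354 := rfl
theorem F8143 : act 3 n5354 = n2199 := d6_1 D5354 (iv5 D2199) D2197
theorem F8144 : act 7 n5354 = n5323 := d13_2 (iv7 F7841) D5354 (iv5 D5323)
def n5355 : Q := act 6 n2197
theorem D5355 : act 6 n2197 = n5355 := rfl
theorem F8145 : act 3 n5355 = n2200 := d7_1 D5355 (iv6 D2200) D2197
theorem F8146 : act 5 n5116 = n5355 := d6_0 F8145 F3564 D5116
def n5356 : Q := act 0 n2199
theorem D5356 : act 0 n2199 = n5356 := rfl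
theorem F8147 : act 5 n5356 = n2802 := d21_2 D2199 D5356 (iv6 D2802) (iv1 D1283) (iv6 D750) (iv5 F733) F396 (iv5 F627) D673 D1076
theorem F8148 : act 1 n2204 = n5356 := d15_0 (iv0 D5356) F7899 F7861
theorem F8149 : act 2 n5315 = n5356 := d2_3 F8147 F7996 (iv5 F7938)
theorem F8150 : act 7 n5316 = n5356 := d13_0 F8147 F4388 F7942
def n5357 : Q := act 1 n2199
theorem D5357 : act 1 n2199 = n5357 := rfl
theorem F8151 : act 1 n5357 = n2204 := d15_1 D5357 (iv7 F7860) F7900
theorem F8152 : act 7 n5357 = n5315 := d15_2 (iv0 D5356) D5357 F8149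
theorem F8153 : act 5 n2350 = n5357 := d21_0 (iv1 D5357) (iv5 D2199) D2200 F7599 (iv6 D1124) D1123 (iv1 F4372) (iv5 F3610) (iv6 F7618) (iv1 F7620)
theorem F8154 : act 2 n5357 = n5316 := d2_1 F8153 (iv5 F7942) (iv2 F8003)
theorem F8155 : act 6 n5357 = n2354 := d12_2 D2350 F8153 (iv5 D2354) (iv6 D1119) D1118
def n5358 : Q := act 4 n2199
theorem D5358 : act 4 n2199 = n5358 := rfl
theorem F8156 : act 2 n5358 = n5317 := d1_1 D5358 (iv4 D5317) F7900
theorem F8157 : act 7 n5358 = n5325 := d11_2 (iv7 F7899) D5358 (iv4 D5325)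
def n5359 : Q := act 6 n2199
theorem D5359 : act 6 n2199 = n5359 := rfl
theorem F8158 : act 2 n5359 = n5318 := d3_1 D5359 (iv6 D5318) F7900
theorem F8159 : act 5 n5359 = n5117 := d12_1 D5359 (iv6 D5117) (iv5 F3564) (iv6 D2200) D2199
def n5360 : Q := act 4 n2204
theorem D5360 : act 4 n2204 = n5360 := rfl
theorem F8160 : act 2 n5360 = n5325 := d1_1 D5360 (iv4 D5325) F7861
theorem F8161 : act 7 n5360 = n5317 := d11_2 F7860 D5360 (iv4 D5317)
def n5361 : Q := act 5 n2205
theorem D5361 : act 5 n2205 = n5361 := rfl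
theorem F8162 : act 2 n5361 = n5326 := d2_1 D5361 (iv5 D5326) (iv2 F7856)
theorem F8163 : act 0 n5361 = n2790 := d21_1 D5361 (iv5 D2790) D2791 F7990 F4437 F3700 F4384 (iv5 D1091) D1092 (iv1 F7889)
theorem F8164 : act 0 n2786 = n5361 := d21_1 D2786 (iv5 D5361) (iv6 D2205) (iv1 D1077) (iv6 D673) F627 (iv1 F411) (iv5 F728) D749 D1278
def n5362 : Q := act 3 n2206
theorem D5362 : act 3 n2206 = n5362 := rfl
theorem F8165 : act 6 n5362 = n5110 := d7_2 (iv6 F3566) D5362 F7623
theorem F8166 : act 7 n5362 = n5329 := d8_2 F4461 D5362 (iv3 D5329)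
def n5363 : Q := act 6 n2207
theorem D5363 : act 6 n2207 = n5363 := rfl
theorem F8167 : act 2 n5363 = n5331 := d3_1 D5363 (iv6 D5331) (iv2 F4462)
theorem F8168 : act 5 n5363 = n5106 := d12_1 D5363 (iv6 D5106) (iv5 D2098) D2099 F3568
theorem F8169 : act 7 n5363 = n5106 := d14_2 (iv7 F4460) D5363 (iv6 D5106) F4446 (iv6 F3540)
theorem F8170 : act 0 n3603 = n5363 := d21_1 (iv5 F5632) F8168 (iv6 D5106) F3623 (iv6 F4382) (iv5 D2797) (iv1 F2382) (iv5 F4376) (iv6 F5548) (iv1 F5550)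
def n5364 : Q := act 3 n2208
theorem D5364 : act 3 n2208 = n5364 := rfl
theorem F8171 : act 4 n5364 = n3508 := d5_2 D2208 D5364 (iv3 D3508) (iv4 D1548) (iv3 F1997)
theorem F8172 : act 6 n5364 = n3466 := d7_2 (iv6 F3570) D5364 (iv3 D3466)
def n5365 : Q := act 5 n2208
theorem D5365 : act 5 n2208 = n5365 := rfl
theorem F8173 : act 2 n5365 = n5333 := d2_1 D5365 (iv5 D5333) (iv2 F3569)
def n5366 : Q := act 7 n2208
theorem D5366 : act 7 n2208 = n5366 := rfl
theorem F8174 : act 2 n5366 = n5334 := d4_1 D5366 (iv7 D5334) (iv2 F3569)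
theorem F8175 : act 4 n5366 = n2209 := d11_1 D5366 (iv7 D2209) D2208
theorem F8176 : act 1 n3504 = n5366 := d15_1 (iv0 F5507) (iv7 D5366) F3569
theorem F8177 : act 1 n5366 = n3502 := d15_1 F8176 F5500 (iv2 F5505)
def n5367 : Q := act 6 n2209
theorem D5367 : act 6 n2209 = n5367 := rfl
theorem F8178 : act 2 n5367 = n3590 := d3_1 D5367 F5628 (iv2 F3571)
theorem F8179 : act 3 n5367 = n3511 := d7_1 D5367 (iv6 D3511) (iv3 F3572)
theorem F8180 : act 5 n5367 = n5367 := d12_1 D5367 (iv6 D5367) F3573 F2001 (iv5 F3573)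
theorem F8181 : act 7 n5367 = n2561 := d14_2 D2209 D5367 (iv6 D2561) (iv7 F2205) (iv6 F1998)
theorem F8182 : act 0 n5367 = n3589 := d21_7 F3431 (iv1 F1936) D1302 (iv6 F3540) (iv1 F3576) D5367 F8180 (iv5 F5626) (iv6 D2868) (iv1 F3434)
theorem F8183 : act 1 n5367 = n3588 := d15_0 (iv0 D3588) D3590 (iv2 F8178)
def n5368 : Q := act 0 n2210
theorem D5368 : act 0 n2210 = n5368 := rfl
theorem F8184 : act 5 n5368 = n3050 := d17_1 D5368 (iv1 F4780) F4782 (iv4 D3027) (iv5 F2489) F2041 F2038 F2009 D2210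
theorem F8185 : act 4 n5368 = n3052 := d18_1 D5368 (iv1 F4777) (iv4 D3050) F2495 F2484 F2041 (iv4 F3649) F3651 F3647
theorem F8186 : act 3 n5368 = n5300 := d20_5 (iv4 F8107) (iv1 F8109) F4249 (iv3 F3578) D5368 (iv4 D5300) (iv1 F3531) F3528 D2424 F4749
theorem F8187 : act 2 n2894 = n5368 := d15_3 (iv0 D5368) F4496 F4494
theorem F8188 : act 1 n2213 = n5368 := d15_0 (iv0 D5368) F3577 (iv2 F3584)
theorem F8189 : act 7 n5368 = n5368 := d15_2 (iv0 F4495) F8188 (iv2 F8187)
def n5369 : Q := act 6 n2210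
theorem D5369 : act 6 n2210 = n5369 := rfl
theorem F8190 : act 3 n5369 = n5094 := d7_1 D5369 (iv6 D5094) (iv3 F3578)
theorem F8191 : act 4 n5369 = n2211 := d10_1 D5369 (iv6 D2211) D2210
def n5370 : Q := act 0 n2211
theorem D5370 : act 0 n2211 = n5370 := rfl
def n5371 : Q := act 1 n2211
theorem D5371 : act 1 n2211 = n5371 := rfl
def n5372 : Q := act 5 n2211
theorem D5372 : act 5 n2211 = n5372 := rfl
theorem F8192 : act 3 n5372 = n5233 := d6_1 D5372 (iv5 D5233) (iv3 F3582)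
theorem F8193 : act 6 n5372 = n5229 := d12_2 D2211 D5372 (iv5 D5229) (iv6 D2146) (iv5 F2005)
def n5373 : Q := act 7 n2211
theorem D5373 : act 7 n2211 = n5373 := rfl
theorem F8194 : act 3 n5373 = n5234 := d8_1 D5373 (iv7 D5234) (iv3 F3582)
theorem F8195 : act 6 n5373 = n5373 := d14_1 D5373 (iv7 D5373) (iv6 D2211) F2007 D2211
def n5374 : Q := act 6 n2212
theorem D5374 : act 6 n2212 = n5374 := rfl
theorem F8196 : act 3 n5374 = n2214 := d7_1 D5374 (iv6 D2214) D2212
def n5375 : Q := act 6 n2213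
theorem D5375 : act 6 n2213 = n5375 := rfl
theorem F8197 : act 2 n5375 = n5369 := d3_1 D5375 (iv6 D5369) (iv2 F3584)
theorem F8198 : act 4 n5375 = n2214 := d10_1 D5375 (iv6 D2214) D2213
def n5376 : Q := act 0 n2214
theorem D5376 : act 0 n2214 = n5376 := rfl
def n5377 : Q := act 1 n2214
theorem D5377 : act 1 n2214 = n5377 := rfl
theorem F8199 : act 1 n5377 = n5373 := d15_1 D5377 (iv7 D5373) (iv2 F3586)
def n5378 : Q := act 5 n2214
theorem D5378 : act 5 n2214 = n5378 := rfl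
theorem F8200 : act 2 n5378 = n5372 := d2_1 D5378 (iv5 D5372) (iv2 F3586)
def n5379 : Q := act 7 n2214
theorem D5379 : act 7 n2214 = n5379 := rfl
theorem F8201 : act 2 n5379 = n5373 := d4_1 D5379 (iv7 D5373) (iv2 F3586)
theorem F8202 : act 6 n5379 = n5379 := d14_1 D5379 (iv7 D5379) (iv6 D2214) F2012 D2214
theorem F8203 : act 1 n5373 = n5376 := d15_0 (iv0 D5376) D5379 F8201
theorem F8204 : act 1 n5371 = n5379 := d15_1 D5371 (iv7 D5379) F3586
theorem F8205 : act 1 n5379 = n5370 := d15_0 (iv0 D5370) D5373 (iv2 F8201)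
def n5380 : Q := act 0 n2215
theorem D5380 : act 0 n2215 = n5380 := rfl
def n5381 : Q := act 1 n2215
theorem D5381 : act 1 n2215 = n5381 := rfl
theorem F8206 : act 1 n5381 = n2219 := d15_1 D5381 (iv7 D2219) (iv2 F3587)
def n5382 : Q := act 5 n2215
theorem D5382 : act 5 n2215 = n5382 := rfl
theorem F8207 : act 2 n5382 = n2218 := d2_1 D5382 (iv5 D2218) (iv2 F3587)
def n5383 : Q := act 7 n2215
theorem D5383 : act 7 n2215 = n5383 := rfl
theorem F8208 : act 2 n5383 = n2219 := d4_1 D5383 (iv7 D2219) (iv2 F3587)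
theorem F8209 : act 6 n5383 = n5383 := d14_1 D5383 (iv7 D5383) (iv6 D2215) F2008 D2215
theorem F8210 : act 1 n2219 = n5380 := d15_0 (iv0 D5380) D5383 F8208
theorem F8211 : act 1 n2217 = n5383 := d15_1 D2217 (iv7 D5383) F3587
theorem F8212 : act 1 n5383 = n2216 := d15_0 (iv0 D2216) D2219 (iv2 F8208)
def n5384 : Q := act 2 n2216
theorem D5384 : act 2 n2216 = n5384 := rfl
theorem F8213 : act 7 n2217 = n5384 := d15_2 (iv0 D2216) D2217 (iv2 D5384)
def n5385 : Q := act 3 n2216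
theorem D5385 : act 3 n2216 = n5385 := rfl
def n5386 : Q := act 4 n2216
theorem D5386 : act 4 n2216 = n5386 := rfl
def n5387 : Q := act 5 n2216
theorem D5387 : act 5 n2216 = n5387 := rfl
def n5388 : Q := act 6 n2216
theorem D5388 : act 6 n2216 = n5388 := rfl
def n5389 : Q := act 7 n2216
theorem D5389 : act 7 n2216 = n5389 := rfl
theorem F8214 : act 2 n5389 = n2217 := d4_1 D5389 F8213 (iv2 D5384)
def n5390 : Q := act 3 n2217
theorem D5390 : act 3 n2217 = n5390 := rfl
def n5391 : Q := act 4 n2217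
theorem D5391 : act 4 n2217 = n5391 := rfl
def n5392 : Q := act 5 n2217
theorem D5392 : act 5 n2217 = n5392 := rfl
def n5393 : Q := act 6 n2217
theorem D5393 : act 6 n2217 = n5393 := rfl
def n5394 : Q := act 0 n2218
theorem D5394 : act 0 n2218 = n5394 := rfl
def n5395 : Q := act 1 n2218
theorem D5395 : act 1 n2218 = n5395 := rfl
def n5396 : Q := act 4 n2218
theorem D5396 : act 4 n2218 = n5396 := rfl
def n5397 : Q := act 7 n2218
theorem D5397 : act 7 n2218 = n5397 := rfl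
theorem F8215 : act 3 n5397 = n2233 := d8_1 D5397 (iv7 D2233) (iv3 F3588)
theorem F8216 : act 5 n5397 = n2219 := d13_1 D5397 (iv7 D2219) D2218
def n5398 : Q := act 0 n2221
theorem D5398 : act 0 n2221 = n5398 := rfl
def n5399 : Q := act 1 n2221
theorem D5399 : act 1 n2221 = n5399 := rfl
def n5400 : Q := act 2 n2221
theorem D5400 : act 2 n2221 = n5400 := rfl
def n5401 : Q := act 4 n2221
theorem D5401 : act 4 n2221 = n5401 := rfl
theorem F8217 : act 3 n5401 = n2677 := d5_1 D5401 (iv4 D2677) (iv3 D1244) F4957 D2221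
theorem F8218 : act 7 n5401 = n5238 := d11_2 (iv7 F4956) D5401 F7799
def n5402 : Q := act 5 n2221
theorem D5402 : act 5 n2221 = n5402 := rfl
theorem F8219 : act 3 n5402 = n2223 := d6_1 D5402 (iv5 D2223) D2221
def n5403 : Q := act 6 n2221
theorem D5403 : act 6 n2221 = n5403 := rfl
theorem F8220 : act 3 n5403 = n2224 := d7_1 D5403 (iv6 D2224) D2221
def n5404 : Q := act 1 n2223
theorem D5404 : act 1 n2223 = n5404 := rfl
theorem F8221 : act 1 n5404 = n2228 := d15_1 D5404 F4967 (iv2 F4953)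
def n5405 : Q := act 4 n2223
theorem D5405 : act 4 n2223 = n5405 := rfl
def n5406 : Q := act 6 n2223
theorem D5406 : act 6 n2223 = n5406 := rfl
def n5407 : Q := act 0 n2224
theorem D5407 : act 0 n2224 = n5407 := rfl
def n5408 : Q := act 1 n2224
theorem D5408 : act 1 n2224 = n5408 := rfl
theorem F8222 : act 4 n5408 = n2259 := d17_9 (iv1 D2259) D2260 F3616 (iv5 D1284) (iv4 F1499) D1372 D3070 (iv5 F4795) D5408
theorem F8223 : act 6 n3166 = n5408 := d21_3 D786 D1407 D3166 (iv1 D5408) (iv6 D2224) D2223 (iv1 F4952) (iv5 D3161) (iv6 D1406) (iv1 D785)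
theorem F8224 : act 7 n5408 = n3120 := d14_2 (iv7 F7870) F8223 (iv6 D3120) F7849 D3479
theorem E1150 : n5407 = n3483 := ((c15_4 (iv0 D5407) D5408 F8224 F7855)).symm
theorem F8225 : act 1 n3483 = n2224 := (sb E1150 (iv0 D5407))
def n5409 : Q := act 7 n2224
theorem D5409 : act 7 n2224 = n5409 := rfl
theorem F8226 : act 4 n5409 = n2691 := d11_1 D5409 (iv7 D2691) (iv4 F4959)
theorem F8227 : act 5 n5409 = n3044 := d13_1 D5409 F4988 (iv5 F4795)
theorem F8228 : act 0 n3120 = n5409 := d17_0 F8227 (iv1 F4802) F4799 F2510 (iv5 F4390) F4393 F7952 (iv0 F7956) (iv4 F4932)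
def n5410 : Q := act 0 n2226
theorem D5410 : act 0 n2226 = n5410 := rfl
def n5411 : Q := act 1 n2226
theorem D5411 : act 1 n2226 = n5411 := rfl
def n5412 : Q := act 2 n2226
theorem D5412 : act 2 n2226 = n5412 := rfl
def n5413 : Q := act 4 n2226
theorem D5413 : act 4 n2226 = n5413 := rfl
theorem F8229 : act 3 n5413 = n2696 := d5_1 D5413 (iv4 D2696) (iv3 D1249) F4964 D2226
def n5414 : Q := act 5 n2226
theorem D5414 : act 5 n2226 = n5414 := rfl
theorem F8230 : act 3 n5414 = n2228 := d6_1 D5414 (iv5 D2228) D2226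
def n5415 : Q := act 6 n2226
theorem D5415 : act 6 n2226 = n5415 := rfl
theorem F8231 : act 3 n5415 = n2229 := d7_1 D5415 (iv6 D2229) D2226
def n5416 : Q := act 4 n2228
theorem D5416 : act 4 n2228 = n5416 := rfl
def n5417 : Q := act 6 n2228
theorem D5417 : act 6 n2228 = n5417 := rfl
def n5418 : Q := act 1 n2229
theorem D5418 : act 1 n2229 = n5418 := rfl
def n5419 : Q := act 5 n2229
theorem D5419 : act 5 n2229 = n5419 := rfl
theorem F8232 : act 2 n5419 = n3144 := d2_1 D5419 (iv5 F4881) (iv2 F4968)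
theorem F8233 : act 1 n5419 = n2435 := d17_6 D698 D1156 D2465 F3853 (iv4 F4969) D5419 (iv5 D2435) (iv0 D1149) F1308
theorem F8234 : act 0 n5419 = n2440 := d21_7 (iv5 F4970) (iv1 F3683) F3680 F2050 (iv1 F2052) D2229 D5419 (iv5 D2440) D2441 F5141
theorem E1151 : n5418 = n3115 := (c17_9 F7886 D2275 F4383 (iv5 D2103) F5138 D2440 (iv0 F8234) (iv5 D5419) D5418 F4910)
theorem F8235 : act 0 n3115 = n2229 := (sb E1151 (iv1 D5418))
theorem F8236 : act 4 n5100 = n3172 := d18_5 F8235 F4969 F3902 D3288 (iv5 F7587) (iv0 D3172) (iv4 D1409) D1408 (iv5 F4843)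
theorem F8237 : act 7 n3145 = n5419 := d15_2 (iv0 D3144) D3145 F8232
def n5420 : Q := act 7 n2229
theorem D5420 : act 7 n2229 = n5420 := rfl
theorem F8238 : act 4 n5420 = n2704 := d11_1 D5420 (iv7 D2704) (iv4 F4969)
theorem F8239 : act 5 n5420 = n3145 := d13_1 D5420 F8237 (iv5 D5419)
theorem F8240 : act 1 n3479 = n5420 := d15_1 F7600 (iv7 D5420) F4968
def n5421 : Q := act 3 n2230
theorem D5421 : act 3 n2230 = n5421 := rfl
def n5422 : Q := act 4 n2230
theorem D5422 : act 4 n2230 = n5422 := rfl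
theorem F8241 : act 5 n5422 = n5416 := d16_1 D5422 (iv4 D5416) (iv5 D2228) (iv4 F4964) D1251 D2702 F4977 F4982 F4972
theorem F8242 : act 1 n5422 = n2666 := d18_6 F7723 F3864 F3856 D2687 (iv5 F4970) D5422 (iv4 D2666) D2665 (iv5 F7725)
def n5423 : Q := act 6 n2230
theorem D5423 : act 6 n2230 = n5423 := rfl
def n5424 : Q := act 3 n2231
theorem D5424 : act 3 n2231 = n5424 := rfl
def n5425 : Q := act 4 n2231
theorem D5425 : act 4 n2231 = n5425 := rfl
theorem F8243 : act 5 n5425 = n5405 := d9_2 F4977 D5425 (iv4 D5405) (iv5 D2223) (iv4 F4957) D1246 D2687 (iv5 F4970) D5422 F8241 (iv4 D5416) (iv5 D2228) (iv4 F4964) D1251 D2702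
theorem F8244 : act 0 n5425 = n2666 := d18_2 (iv1 F3682) D5425 (iv4 D2666) (iv5 D1241) F1419 D737 F4964 F2052 (iv5 F3680)
def n5426 : Q := act 6 n2231
theorem D5426 : act 6 n2231 = n5426 := rfl
def n5427 : Q := act 0 n2232
theorem D5427 : act 0 n2232 = n5427 := rfl
theorem F8245 : act 4 n5427 = n2738 := d18_3 (iv1 D2231) D2232 D5427 (iv5 F5079) (iv4 D2255) (iv0 F4384) (iv4 F5144) F5142 F4977
def n5428 : Q := act 1 n2232
theorem D5428 : act 1 n2232 = n5428 := rfl
theorem F8246 : act 4 n5428 = n2739 := d18_7 F5082 (iv4 D1095) (iv1 D677) (iv4 F1262) D1086 D2232 D5428 F4324 F4263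
def n5429 : Q := act 3 n2232
theorem D5429 : act 3 n2232 = n5429 := rfl
def n5430 : Q := act 5 n2232
theorem D5430 : act 5 n2232 = n5430 := rfl
theorem F8247 : act 4 n5430 = n2327 := d16_2 D2232 D5430 F3680 F2049 F1283 (iv4 F2049) (iv5 F3680) (iv7 D2327) F2046
theorem F8248 : act 7 n5430 = n2326 := d16_8 (iv4 D2232) (iv5 D1086) F1262 F1050 (iv4 F1262) D1086 D2232 D5430 F3677
theorem F8249 : act 1 n5428 = n5430 := d15_1 D5428 F8248 F3677
theorem F8250 : act 0 n5427 = n5430 := d18_2 D2738 (iv4 F8245) F8247 F3680 F2049 F1287 D1090 F5085 D1265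
def n5431 : Q := act 7 n2232
theorem D5431 : act 7 n2232 = n5431 := rfl
theorem F8251 : act 2 n5431 = n5430 := d4_1 D5431 F8248 F3677
theorem F8252 : act 4 n5431 = n2233 := d11_1 D5431 (iv7 D2233) D2232
theorem F8253 : act 5 n5431 = n2326 := d13_1 D5431 (iv7 F8248) (iv5 D5430)
def n5432 : Q := act 6 n2233
theorem D5432 : act 6 n2233 = n5432 := rfl
theorem F8254 : act 5 n5432 = n5432 := d12_1 D5432 (iv6 D5432) F3593 F2015 (iv5 F3593)
def n5433 : Q := act 4 n2240
theorem D5433 : act 4 n2240 = n5433 := rfl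
theorem F8255 : act 2 n5433 = n2295 := d1_1 D5433 F3661 (iv2 F5088)
theorem F8256 : act 6 n5433 = n5433 := d10_2 F5091 D5433 (iv4 D5433)
theorem F8257 : act 7 n5433 = n2278 := d11_2 (iv7 F5092) D5433 F3628
theorem F8258 : act 0 n5433 = n2293 := d20_1 D5433 (iv4 F7734) (iv3 D2720) (iv1 D1260) F1432 (iv4 F1438) (iv1 F5085) (iv4 D1090) D1089 D2240
def n5435 : Q := act 5 n2242
theorem D5435 : act 5 n2242 = n5435 := rfl
theorem F8262 : act 2 n5435 = n2244 := d2_1 D5435 (iv5 D2244) D2242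
theorem F8263 : act 7 n5435 = n2304 := d13_2 (iv7 F5094) D5435 (iv5 D2304)
def n5436 : Q := act 6 n2242
theorem D5436 : act 6 n2242 = n5436 := rfl
theorem F8264 : act 2 n5436 = n2245 := d3_1 D5436 (iv6 D2245) D2242
def n5439 : Q := act 3 n2243
theorem D5439 : act 3 n2243 = n5439 := rfl
theorem F8267 : act 4 n5439 = n2249 := d5_2 D2243 D5439 (iv3 D2249) (iv4 D1090) D1089
def n5440 : Q := act 5 n2243
theorem D5440 : act 5 n2243 = n5440 := rfl
def n5441 : Q := act 6 n2243
theorem D5441 : act 6 n2243 = n5441 := rfl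
theorem F8268 : act 4 n5441 = n2245 := d10_1 D5441 (iv6 D2245) D2243
def n5442 : Q := act 0 n2244
theorem D5442 : act 0 n2244 = n5442 := rfl
theorem F8269 : act 5 n5442 = n2405 := d21_2 D2244 D5442 (iv6 D2405) (iv1 D1135) (iv6 D691) (iv5 D398) F356 D376 D682 F5093
theorem F8270 : act 1 n2304 = n5442 := d15_0 (iv0 D5442) F8055 (iv2 F8023)
def n5443 : Q := act 1 n2244
theorem D5443 : act 1 n2244 = n5443 := rfl
theorem F8271 : act 1 n5443 = n2304 := d15_1 D5443 (iv7 F8263) F8262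
def n5444 : Q := act 4 n2244
theorem D5444 : act 4 n2244 = n5444 := rfl
def n5445 : Q := act 6 n2244
theorem D5445 : act 6 n2244 = n5445 := rfl
theorem F8272 : act 3 n5445 = n2256 := d7_1 D5445 (iv6 D2256) (iv3 F3602)
def n5446 : Q := act 0 n2245
theorem D5446 : act 0 n2245 = n5446 := rfl
def n5447 : Q := act 1 n2245
theorem D5447 : act 1 n2245 = n5447 := rfl
def n5448 : Q := act 5 n2245
theorem D5448 : act 5 n2245 = n5448 := rfl
theorem F8273 : act 3 n5448 = n2260 := d6_1 D5448 (iv5 D2260) (iv3 F3603)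
theorem F8274 : act 0 n5448 = n2380 := d21_7 (iv5 D398) F356 D376 D682 F5093 D2245 D5448 (iv5 D2380) (iv6 D1128) (iv1 D689)
def n5449 : Q := act 7 n2245
theorem D5449 : act 7 n2245 = n5449 := rfl
theorem F8275 : act 3 n5449 = n2261 := d8_1 D5449 (iv7 D2261) (iv3 F3603)
def n5450 : Q := act 0 n2249
theorem D5450 : act 0 n2249 = n5450 := rfl
def n5451 : Q := act 1 n2249
theorem D5451 : act 1 n2249 = n5451 := rfl
def n5452 : Q := act 2 n2249
theorem D5452 : act 2 n2249 = n5452 := rfl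
def n5453 : Q := act 5 n2249
theorem D5453 : act 5 n2249 = n5453 := rfl
theorem F8276 : act 3 n5453 = n2250 := d6_1 D5453 (iv5 D2250) D2249
def n5454 : Q := act 6 n2249
theorem D5454 : act 6 n2249 = n5454 := rfl
theorem F8277 : act 3 n5454 = n2251 := d7_1 D5454 (iv6 D2251) D2249
def n5455 : Q := act 0 n2250
theorem D5455 : act 0 n2250 = n5455 := rfl
theorem F8278 : act 5 n5455 = n2482 := d17_3 (iv1 F5085) D2250 D5455 F3864 D2485 (iv0 F3865) (iv5 D1270) (iv0 D745) (iv4 F1438)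
theorem F8279 : act 1 n2270 = n5455 := d15_0 (iv0 D5455) F8057 (iv2 F8058)
theorem F8280 : act 2 n3273 = n5455 := d2_3 F8278 F3931 D3273
def n5456 : Q := act 1 n2250
theorem D5456 : act 1 n2250 = n5456 := rfl
theorem F8281 : act 1 n5456 = n2270 := d15_1 D5456 (iv7 F8059) F8060
theorem F8282 : act 7 n5456 = n3273 := d15_2 (iv0 D5455) D5456 F8280
theorem F8283 : act 5 n5456 = n3274 := d17_7 D2347 F3700 F4384 (iv5 D1091) D1090 D2250 D5456 F7598 (iv4 D2349)
def n5457 : Q := act 4 n2250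
theorem D5457 : act 4 n2250 = n5457 := rfl
theorem F8284 : act 5 n5457 = n5428 := d16_1 D5457 F8246 (iv5 F5098) (iv4 D2272) (iv5 D1096) D1095 D2270 (iv7 F8059) F8060
def n5458 : Q := act 6 n2250
theorem D5458 : act 6 n2250 = n5458 := rfl
def n5459 : Q := act 0 n2251
theorem D5459 : act 0 n2251 = n5459 := rfl
def n5460 : Q := act 1 n2251
theorem D5460 : act 1 n2251 = n5460 := rfl
theorem F8285 : act 4 n5460 = n2764 := d17_9 (iv1 D2764) F2448 (iv1 D1333) (iv5 D765) (iv4 F1473) D1321 D2914 (iv5 F5086) D5460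
theorem F8286 : act 7 n3500 = n5460 := d11_0 F8285 F5255 (iv4 F5497)
theorem E1152 : n5459 = n5348 := ((c15_4 (iv0 D5459) D5460 (iv7 F8286) (iv2 F8130))).symm
theorem F8287 : act 1 n5348 = n2251 := (sb E1152 (iv0 D5459))
def n5461 : Q := act 7 n2251
theorem D5461 : act 7 n2251 = n5461 := rfl
theorem F8288 : act 4 n5461 = n2261 := d11_1 D5461 (iv7 D2261) (iv4 F3606)
theorem F8289 : act 5 n5461 = n2986 := d13_1 D5461 F8072 (iv5 F5086)
theorem F8290 : act 0 n3500 = n5461 := d17_0 F8289 (iv1 F4674) F4519 F2444 (iv5 F2451) F2479 F4585 (iv0 F4635) (iv4 F5497)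
def n5462 : Q := act 3 n2253
theorem D5462 : act 3 n2253 = n5462 := rfl
theorem F8291 : act 5 n5462 = n2860 := d6_2 (iv5 F3610) D5462 F4464
theorem F8292 : act 7 n5462 = n2860 := d8_2 F4458 D5462 F4464
theorem F8293 : act 0 n5462 = n2361 := d20_4 D2687 (iv1 F4994) F4992 D5462 F3708 D2366 F7723 F3864 F5066 F3856
theorem F8294 : act 1 n5462 = n5435 := d15_1 (iv0 F8293) F8263 F8023
theorem F8295 : act 1 n2405 = n2361 := d15_0 (iv0 F8293) F8292 F5152
theorem F8296 : act 1 n5435 = n2405 := d15_0 F8295 (iv7 F8055) (iv2 F8262)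
theorem F8297 : act 2 n5442 = n5462 := d2_3 F8291 F5152 (iv5 F8269)
theorem F8298 : act 7 n2405 = n5442 := d4_0 F8297 F8292 F5152
theorem E1153 : n5443 = n2860 := (c15_2 (iv0 D5442) D5443 (iv7 F8292) (iv2 F8297))
theorem F8299 : act 0 n2860 = n2244 := (sb E1153 (iv1 D5443))
theorem F8300 : act 1 n2860 = n2304 := (sb E1153 F8271)
def n5463 : Q := act 0 n2255
theorem D5463 : act 0 n2255 = n5463 := rfl
theorem F8301 : act 4 n5463 = n2485 := d18_3 F4384 D2255 D5463 (iv5 D2485) (iv4 F3864) (iv0 F7723) (iv4 D2366) F3705 F3700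
theorem F8302 : act 2 n3274 = n5463 := d15_3 (iv0 D5463) F5078 D3274
theorem F8303 : act 1 n2272 = n5463 := d15_0 (iv0 D5463) (iv7 F8007) F8012
theorem F8304 : act 7 n5463 = n2482 := d15_2 (iv0 F7597) F8303 F3931
theorem F8305 : act 6 n3224 = n5463 := d21_9 F5098 (iv1 D2739) (iv5 D1265) (iv6 D744) (iv1 F1252) D1069 D2172 D5308 F7923 (iv1 F8303)
def n5464 : Q := act 3 n2255
theorem D5464 : act 3 n2255 = n5464 := rfl
def n5465 : Q := act 3 n2259
theorem D5465 : act 3 n2259 = n5465 := rfl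
theorem F8306 : act 7 n5465 = n5324 := d8_2 (iv7 F7882) D5465 F8081
def n5466 : Q := act 5 n2259
theorem D5466 : act 5 n2259 = n5466 := rfl
theorem F8307 : act 6 n5466 = n3589 := d12_2 F3622 D5466 (iv5 F5626) (iv6 D2868) (iv5 F3621)
theorem F8308 : act 7 n5466 = n5326 := d13_2 (iv7 F7882) D5466 (iv5 D5326)
theorem F8309 : act 0 n5466 = n2786 := d21_1 D5466 (iv5 D2786) F2373 (iv1 F4372) (iv6 D1303) D1302 (iv1 F4430) F8033 (iv6 F8041) F8043
theorem F8310 : act 0 n2790 = n5466 := d21_10 (iv5 D5466) (iv1 D2259) D2260 (iv6 F7943) (iv1 D5316) D5318 F7944 F7954 (iv5 D3684) F4374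
def n5478 : Q := act 5 n2265
theorem D5478 : act 5 n2265 = n5478 := rfl
theorem F8321 : act 3 n5478 = n2304 := d6_1 D5478 (iv5 D2304) (iv3 F5096)
def n5479 : Q := act 6 n2265
theorem D5479 : act 6 n2265 = n5479 := rfl
theorem F8323 : act 3 n5479 = n2305 := d7_1 D5479 (iv6 D2305) (iv3 F5096)
def n5481 : Q := act 1 n2266
theorem D5481 : act 1 n2266 = n5481 := rfl
theorem F8324 : act 4 n2694 = n5481 := d20_0 (iv1 D5481) (iv4 D2266) (iv3 D1094) (iv1 D677) (iv3 F1246) (iv4 F1981) D2148 F5113 (iv3 F4627) (iv1 F4605)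
theorem F8325 : act 3 n2674 = n2694 := d20_5 (iv4 F1262) D1084 (iv4 F4957) D1244 D2674 F8324 (iv1 D5481) (iv4 D2266) (iv3 D1094) (iv1 D677)
theorem F8327 : act 4 n5257 = n2674 := d20_2 D2154 D5257 F8325 (iv1 D2694) (iv3 D1249) F4964 (iv1 D1085) F1262 (iv3 F1246) D1064
theorem E1155 : n5273 = n668 := (c20_11 (iv4 F1981) D2148 F5113 (iv3 F4627) (iv1 F4605) (iv3 F8325) (iv4 F8327) (iv1 F7818) (iv4 D2159) D2158 D5273)
theorem E1156 : n2158 = n1065 := (((D1065).symm.trans (sb E1155 (iv0 D5273)))).symm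
theorem F8328 : act 3 n1065 = n1065 := (sb E1156 (iv3 D2158))
theorem E1160 : n5277 = n2160 := (((D2160).symm.trans (sb E1156 D5277))).symm
theorem E1161 : n5278 = n2161 := (((D2161).symm.trans (sb E1156 D5278))).symm
theorem E1162 : n5247 = n2152 := (((F3522).symm.trans (sb E1156 (iv7 F7804)))).symm
theorem F8329 : act 3 n2160 = n2160 := (sb E1160 F7827)
theorem F8330 : act 3 n2161 = n2161 := (sb E1161 F7828)
theorem F8331 : act 3 n2152 = n2152 := (sb E1162 (iv3 D5247))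
theorem E1163 : n5253 = n2153 := (c0_4 F8331 (iv2 D2152) D2153 D5253 (iv3 D2153) D2152)
theorem F8332 : act 2 n2153 = n2153 := (sb E1163 (iv2 D5253))
theorem F8337 : act 2 n2705 = n2705 := d1_3 (iv4 F4971) F8332 F4971
theorem F8341 : act 7 n2706 = n2705 := d15_2 (iv0 D2705) D2706 F8337
theorem F8342 : act 2 n2706 = n2706 := d4_3 F8341 F8337 (iv7 F8341)
theorem F8343 : act 2 n5182 = n5182 := d1_3 F7747 F8342 (iv4 F7747)
theorem F8344 : act 3 n5181 = n5181 := d0_4 D5182 F8343 (iv3 D5182) (iv2 F7746) F7746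
theorem E1164 : n5177 = n2130 := (c8_4 D5181 F8344 (iv7 D5181) D5177)
theorem F8345 : act 3 n2130 = n2130 := (sb E1164 (iv3 D5177))
theorem F8346 : act 3 n5179 = n5179 := d6_3 (iv5 D5179) F8345 D5179
theorem F8347 : act 3 n5180 = n5180 := d7_3 (iv6 D5180) F8345 D5180
theorem E1165 : n5256 = n5182 := (c11_3 F8341 (iv4 F4971) D5256 F7747)
theorem E1166 : n2157 = n2131 := ((((iv3 D5182)).symm.trans (sb E1165 F7813))).symm
theorem E1167 : n5246 = n1055 := ((((iv1 D2131)).symm.trans (sb E1166 (iv1 F7803)))).symm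
theorem E1169 : n5181 = n1065 := (((iv2 F7746)).symm.trans (sb E1166 F3523))
theorem E1170 : n5262 = n5183 := (((D5183).symm.trans (sb E1166 (iv4 F7817)))).symm
theorem E1171 : n5267 = n5184 := (((D5184).symm.trans (sb E1166 (iv5 F7823)))).symm
theorem E1172 : n5272 = n5185 := (((D5185).symm.trans (sb E1166 D5272))).symm
theorem E1173 : n5176 = n1064 := ((F7745).symm.trans (sb E1166 (iv7 D2157)))
theorem E1174 : n2152 = n2130 := (((D2130).symm.trans (sb E1167 (iv1 D5246)))).symm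
theorem F8351 : act 2 n1065 = n2131 := (sb E1169 F7746)
theorem F8352 : act 2 n5183 = n2159 := (sb E1170 F7816)
theorem F8353 : act 7 n5183 = n2154 := (sb E1170 (iv7 D5262))
theorem F8354 : act 2 n5184 = n2160 := (sb E1171 F7822)
theorem F8355 : act 7 n5184 = n2155 := (sb E1171 (iv7 D5267))
theorem F8356 : act 2 n5185 = n2161 := (sb E1172 F7826)
theorem F8357 : act 7 n1064 = n2131 := (sb E1173 (iv7 F7745))
theorem F8358 : act 2 n2130 = n1064 := (sb E1174 (iv2 D2152))
theorem E1175 : n5248 = n5178 := (((D5178).symm.trans (sb E1174 D5248))).symm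
theorem E1176 : n5249 = n5179 := (((D5179).symm.trans (sb E1174 D5249))).symm
theorem E1177 : n5250 = n5180 := (((D5180).symm.trans (sb E1174 D5250))).symm
theorem F8359 : act 7 n2130 = n1065 := (sb E1174 (iv7 F3522))
theorem F8360 : act 2 n5178 = n2154 := (sb E1175 F7805)
theorem F8361 : act 7 n5178 = n2159 := (sb E1175 F7806)
theorem F8362 : act 2 n5179 = n2155 := (sb E1176 F7807)
theorem F8363 : act 7 n5179 = n2160 := (sb E1176 F7808)
theorem F8364 : act 2 n5180 = n2156 := (sb E1177 F7809)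
theorem F8365 : act 2 n5126 = n2779 := d3_3 F7748 F8354 (iv6 F7645)
theorem F8366 : act 7 n2780 = n5126 := d15_2 (iv0 D2779) D2780 F8365
theorem F8367 : act 7 n5127 = n2779 := d15_2 (iv0 D5126) D5127 (iv2 F8365)
theorem F8368 : act 2 n2780 = n5127 := d4_3 F8367 (iv2 F8365) (iv7 F8366)
theorem F8370 : act 3 n5285 = n5285 := d6_3 (iv5 D5285) F8330 D5285
theorem F8371 : act 3 n5286 = n5286 := d8_3 (iv7 D5286) F8330 D5286
theorem F8372 : act 3 n5126 = n5126 := d7_3 F7645 F8329 (iv6 F7645)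
theorem F8373 : act 3 n2780 = n2780 := d8_3 F8366 F8372 (iv7 F8366)
theorem F8374 : act 4 n5279 = n5279 := d5_4 (iv4 D2159) F8328 D2159 D5279 (iv3 D5279)
def n5482 : Q := act 3 n2266
theorem D5482 : act 3 n2266 = n5482 := rfl
theorem F8375 : act 4 n5482 = n2269 := d5_2 D2266 D5482 (iv3 D2269) (iv4 D1095) D1094
def n5490 : Q := act 5 n2268
theorem D5490 : act 5 n2268 = n5490 := rfl
theorem F8377 : act 3 n5490 = n2275 := d6_1 D5490 (iv5 D2275) (iv3 F3619)
def n5491 : Q := act 7 n2268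
theorem D5491 : act 7 n2268 = n5491 := rfl
theorem F8378 : act 3 n5491 = n2276 := d8_1 D5491 (iv7 D2276) (iv3 F3619)
def n5492 : Q := act 0 n2269
theorem D5492 : act 0 n2269 = n5492 := rfl
def n5493 : Q := act 1 n2269
theorem D5493 : act 1 n2269 = n5493 := rfl
def n5494 : Q := act 2 n2269
theorem D5494 : act 2 n2269 = n5494 := rfl
def n5495 : Q := act 5 n2269
theorem D5495 : act 5 n2269 = n5495 := rfl
theorem F8379 : act 3 n5495 = n2270 := d6_1 D5495 (iv5 D2270) D2269
def n5496 : Q := act 6 n2269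
theorem D5496 : act 6 n2269 = n5496 := rfl
theorem F8380 : act 3 n5496 = n2271 := d7_1 D5496 (iv6 D2271) D2269
def n5497 : Q := act 4 n2270
theorem D5497 : act 4 n2270 = n5497 := rfl
theorem F8381 : act 5 n5497 = n5427 := d9_2 D2270 D5497 F8245 (iv5 F5079) (iv4 D2255) (iv5 D1091) D1090 D2250 D5457 F8284 F8246 (iv5 F5098) (iv4 D2272) (iv5 D1096) D1095
def n5498 : Q := act 6 n2270
theorem D5498 : act 6 n2270 = n5498 := rfl
def n5499 : Q := act 0 n2271
theorem D5499 : act 0 n2271 = n5499 := rfl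
theorem F8382 : act 5 n5499 = n2825 := d17_1 D5499 (iv1 F7606) F7604 F3420 (iv5 F3431) F3434 (iv5 F3621) (iv0 D2273) (iv4 F3620)
theorem F8383 : act 4 n5499 = n2489 := d18_3 F7886 (iv4 F3620) D5499 (iv5 D2489) D2488 F5276 (iv4 D1306) D1305 (iv5 F3538)
theorem F8384 : act 2 n3288 = n5499 := d15_3 (iv0 D5499) F5485 (iv7 F5484)
theorem F8385 : act 7 n5499 = n3302 := d4_2 (iv7 F5484) F8384 (iv2 F5481)
theorem F8386 : act 1 n2365 = n3302 := d15_1 F7595 (iv7 F8385) (iv2 F8384)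
theorem F8387 : act 6 n5460 = n5499 := d14_5 F8385 F5291 F5271 D3500 F8286
def n5500 : Q := act 7 n2271
theorem D5500 : act 7 n2271 = n5500 := rfl
theorem F8388 : act 4 n5500 = n2276 := d11_1 D5500 (iv7 D2276) (iv4 F3620)
theorem F8389 : act 1 n3302 = n5500 := d15_1 F8386 (iv7 D5500) F8054
theorem F8390 : act 1 n5500 = n3288 := d15_1 F8389 F5484 F5481
def n5501 : Q := act 3 n2272
theorem D5501 : act 3 n2272 = n5501 := rfl
theorem F8391 : act 6 n5501 = n2904 := d7_2 (iv6 F5099) D5501 (iv3 D2904)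
def n5502 : Q := act 3 n2273
theorem D5502 : act 3 n2273 = n5502 := rfl
theorem F8392 : act 5 n5502 = n2866 := d6_2 (iv5 F3621) D5502 (iv3 D2866)
theorem F8393 : act 6 n5502 = n5465 := d7_2 (iv6 F3622) D5502 (iv3 D5465)
theorem F8394 : act 7 n5502 = n5355 := d8_2 F7873 D5502 F8145
def n5503 : Q := act 2 n2277
theorem D5503 : act 2 n2277 = n5503 := rfl
theorem F8395 : act 3 n5503 = n2288 := d0_2 D2277 D5503 (iv2 D2288) (iv3 D1101) (iv2 F2018)
theorem F8396 : act 4 n5503 = n3048 := d1_2 (iv4 F3624) D5503 F4765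
theorem F8397 : act 5 n5503 = n5092 := d2_2 F4250 D5503 F7578
theorem F8398 : act 7 n5503 = n5503 := d4_2 F3625 D5503 (iv2 D5503)
theorem F8399 : act 1 n5503 = n2806 := d15_0 (iv0 F4398) F3625 D5503
theorem F8400 : act 1 n2808 = n5503 := d15_1 (iv0 F4402) F8398 (iv2 D5503)
def n5504 : Q := act 6 n2277
theorem D5504 : act 6 n2277 = n5504 := rfl
theorem F8401 : act 3 n5504 = n2278 := d7_1 D5504 (iv6 D2278) D2277
theorem F8402 : act 4 n5504 = n5171 := d10_1 D5504 (iv6 D5171) (iv4 F3624)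
def n5505 : Q := act 0 n2278
theorem D5505 : act 0 n2278 = n5505 := rfl
theorem F8403 : act 4 n5505 = n2715 := d20_2 (iv4 F3628) D5505 (iv3 D2715) (iv1 F2356) F2353 (iv4 F2364) F7711 (iv4 D1122) D1121 (iv1 F7715)
theorem F8404 : act 1 n2295 = n5505 := d15_0 (iv0 D5505) (iv7 F8257) F8255
def n5506 : Q := act 1 n2278
theorem D5506 : act 1 n2278 = n5506 := rfl
theorem F8405 : act 1 n5506 = n2295 := d15_1 D5506 (iv7 D2295) (iv2 F3627)
def n5507 : Q := act 5 n2278
theorem D5507 : act 5 n2278 = n5507 := rfl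
theorem F8406 : act 2 n5507 = n2294 := d2_1 D5507 (iv5 D2294) (iv2 F3627)
def n5508 : Q := act 4 n2283
theorem D5508 : act 4 n2283 = n5508 := rfl
theorem F8407 : act 2 n5508 = n5292 := d1_1 D5508 (iv4 D5292) F7897
theorem F8408 : act 7 n5508 = n5289 := d11_2 F7898 D5508 (iv4 D5289)
def n5509 : Q := act 5 n2283
theorem D5509 : act 5 n2283 = n5509 := rfl
theorem F8409 : act 2 n5509 = n5293 := d2_1 D5509 (iv5 D5293) F7897
theorem F8410 : act 7 n5509 = n5290 := d13_2 F7898 D5509 (iv5 D5290)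
def n5510 : Q := act 6 n2283
theorem D5510 : act 6 n2283 = n5510 := rfl
theorem F8411 : act 2 n5510 = n5294 := d3_1 D5510 (iv6 D5294) F7897
def n5511 : Q := act 1 n2284
theorem D5511 : act 1 n2284 = n5511 := rfl
theorem F8412 : act 1 n5511 = n5298 := d15_1 D5511 (iv7 D5298) (iv2 F3638)
theorem F8413 : act 7 n5511 = n5295 := d15_2 (iv0 F8087) D5511 (iv2 F8086)
theorem F8414 : act 5 n5082 = n5511 := d21_6 (iv5 D376) F612 D654 D1032 D2080 D5082 (iv1 D5511) (iv5 D2284) (iv6 D1100) (iv1 D680)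
theorem F8415 : act 2 n5511 = n5296 := d2_1 F8414 (iv5 F7905) (iv2 F7552)
theorem F8416 : act 0 n5445 = n5082 := d21_10 F8414 (iv1 D5511) (iv5 D2284) (iv6 D1100) (iv1 D680) D682 F1276 F5093 D2244 D5445
def n5512 : Q := act 4 n2284
theorem D5512 : act 4 n2284 = n5512 := rfl
theorem F8417 : act 2 n5512 = n5297 := d1_1 D5512 (iv4 D5297) (iv2 F3638)
theorem F8418 : act 6 n5512 = n2541 := d10_2 (iv6 F3640) D5512 (iv4 D2541)
def n5513 : Q := act 7 n2284
theorem D5513 : act 7 n2284 = n5513 := rfl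
theorem F8419 : act 2 n5513 = n5298 := d4_1 D5513 (iv7 D5298) (iv2 F3638)
theorem F8420 : act 3 n5513 = n2552 := d8_1 D5513 (iv7 D2552) (iv3 F3639)
theorem F8421 : act 5 n5513 = n2285 := d13_1 D5513 (iv7 D2285) D2284
theorem F8422 : act 1 n5296 = n5513 := d15_1 D5296 (iv7 D5513) F3638
theorem F8423 : act 1 n5513 = n5295 := d15_1 F8422 (iv7 F8413) F8415
def n5514 : Q := act 4 n2286
theorem D5514 : act 4 n2286 = n5514 := rfl
theorem F8424 : act 2 n5514 = n2289 := d1_1 D5514 F3658 (iv2 F3653)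
theorem F8425 : act 3 n5514 = n5092 := d5_1 D5514 (iv4 D5092) (iv3 F4403) (iv4 D2808) (iv3 F3755)
theorem F8426 : act 5 n5514 = n2288 := d9_2 (iv5 F3647) D5514 F3649 F2038 (iv4 F2500) F2501 D2213 (iv5 F3654) (iv4 F3658) (iv5 D2289) F2027 F1277 (iv4 F1977) (iv5 F2005) D2210
theorem F8427 : act 7 n5514 = n5514 := d11_2 F3648 D5514 (iv4 D5514)
theorem F8428 : act 0 n5514 = n3027 := d18_2 D2286 D5514 (iv4 D3027) (iv5 F2489) (iv4 F2484) F2486 D3024 (iv0 F4746) (iv5 D2289)
theorem F8429 : act 1 n5514 = n3024 := d18_6 F1979 F1977 D1080 D2210 (iv5 F3647) D5514 (iv4 D3024) (iv0 D1358) (iv5 F1496)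
def n5515 : Q := act 6 n2286
theorem D5515 : act 6 n2286 = n5515 := rfl
theorem F8430 : act 3 n5515 = n2809 := d7_1 D5515 (iv6 D2809) (iv3 F3755)
def n5516 : Q := act 3 n2287
theorem D5516 : act 3 n2287 = n5516 := rfl
theorem F8431 : act 2 n5516 = n2805 := d0_1 D5516 (iv3 D2805) F3752 (iv3 F3755) F3653
theorem F8432 : act 4 n5516 = n2387 := d5_2 F3658 D5516 F3772 F3479 (iv3 F3656)
theorem F8433 : act 5 n5516 = n2806 := d6_2 (iv5 F3654) D5516 F4396
theorem F8434 : act 7 n5516 = n5516 := d8_2 F3655 D5516 (iv3 D5516)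
theorem F8435 : act 0 n5516 = n5300 := d20_4 D3027 F4753 F3658 D5516 (iv3 F8186) F8185 (iv1 F4777) (iv4 D3050) F2494 (iv1 F2487)
theorem F8436 : act 0 n2896 = n5516 := d20_4 F3739 (iv1 F3735) F3733 D2896 (iv3 D5516) (iv4 F3658) F4746 (iv4 D3024) (iv3 F3731) (iv1 F3737)
def n5517 : Q := act 6 n2287
theorem D5517 : act 6 n2287 = n5517 := rfl
theorem F8437 : act 2 n5517 = n5515 := d3_1 D5517 (iv6 D5515) F3653
def n5518 : Q := act 6 n2288
theorem D5518 : act 6 n2288 = n5518 := rfl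
theorem F8438 : act 2 n5518 = n2290 := d3_1 D5518 (iv6 D2290) D2288
theorem F8439 : act 4 n5518 = n2309 := d10_1 D5518 (iv6 D2309) (iv4 F3649)
def n5519 : Q := act 6 n2289
theorem D5519 : act 6 n2289 = n5519 := rfl
theorem F8440 : act 3 n5519 = n2291 := d7_1 D5519 (iv6 D2291) (iv3 F3656)
theorem F8441 : act 4 n5519 = n5517 := d10_1 D5519 (iv6 D5517) (iv4 F3658)
def n5520 : Q := act 0 n2290
theorem D5520 : act 0 n2290 = n5520 := rfl
def n5521 : Q := act 1 n2290
theorem D5521 : act 1 n2290 = n5521 := rfl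
def n5522 : Q := act 5 n2290
theorem D5522 : act 5 n2290 = n5522 := rfl
theorem F8442 : act 3 n5522 = n2294 := d6_1 D5522 (iv5 D2294) (iv3 F3659)
def n5523 : Q := act 7 n2290
theorem D5523 : act 7 n2290 = n5523 := rfl
theorem F8443 : act 3 n5523 = n2295 := d8_1 D5523 (iv7 D2295) (iv3 F3659)
theorem F8444 : act 4 n5523 = n2313 := d11_1 D5523 (iv7 D2313) (iv4 F3660)
theorem F8445 : act 6 n5523 = n5523 := d14_1 D5523 (iv7 D5523) (iv6 D2290) F2028 D2290
def n5524 : Q := act 0 n2291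
theorem D5524 : act 0 n2291 = n5524 := rfl
def n5525 : Q := act 1 n2291
theorem D5525 : act 1 n2291 = n5525 := rfl
def n5526 : Q := act 5 n2291
theorem D5526 : act 5 n2291 = n5526 := rfl
theorem F8446 : act 6 n5526 = n2294 := d12_2 D2291 D5526 (iv5 D2294) (iv6 D1103) D1102
def n5527 : Q := act 7 n2291
theorem D5527 : act 7 n2291 = n5527 := rfl
theorem F8447 : act 6 n5527 = n5527 := d14_1 D5527 (iv7 D5527) (iv6 D2291) F2029 D2291
def n5529 : Q := act 3 n2292
theorem D5529 : act 3 n2292 = n5529 := rfl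
def n5530 : Q := act 4 n2292
theorem D5530 : act 4 n2292 = n5530 := rfl
def n5531 : Q := act 5 n2292
theorem D5531 : act 5 n2292 = n5531 := rfl
def n5532 : Q := act 6 n2292
theorem D5532 : act 6 n2292 = n5532 := rfl
def n5537 : Q := act 0 n2294
theorem D5537 : act 0 n2294 = n5537 := rfl
def n5538 : Q := act 1 n2294
theorem D5538 : act 1 n2294 = n5538 := rfl
def n5539 : Q := act 4 n2294
theorem D5539 : act 4 n2294 = n5539 := rfl
def n5540 : Q := act 7 n2294
theorem D5540 : act 7 n2294 = n5540 := rfl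
theorem F8450 : act 5 n5540 = n2295 := d13_1 D5540 (iv7 D2295) D2294
def n5542 : Q := act 5 n2303
theorem D5542 : act 5 n2303 = n5542 := rfl
def n5543 : Q := act 6 n2303
theorem D5543 : act 6 n2303 = n5543 := rfl
theorem F8451 : act 4 n5543 = n2305 := d10_1 D5543 (iv6 D2305) D2303
def n5544 : Q := act 4 n2304
theorem D5544 : act 4 n2304 = n5544 := rfl
def n5545 : Q := act 0 n2305
theorem D5545 : act 0 n2305 = n5545 := rfl
theorem F8452 : act 5 n5545 = n2406 := d21_0 (iv1 F7560) F7557 F3397 (iv1 F3399) D2405 (iv5 F8269) (iv1 F8270) (iv5 D2304) D2305 D5545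
theorem F8453 : act 3 n2367 = n5545 := d6_3 F8452 F5147 (iv5 F3711)
theorem F8454 : act 7 n5314 = n5545 := d13_0 F8452 (iv7 F7890) (iv5 F7937)
theorem F8455 : act 6 n5545 = n5447 := d21_3 D1136 D2406 (iv5 F8452) (iv1 D5447) (iv6 D2245) D2244 D5442 F8269 (iv6 D2405) (iv1 D1135)
theorem F8456 : act 3 n5447 = n2353 := d7_1 F8455 (iv6 F3712) F8453
theorem F8457 : act 7 n5447 = n5294 := d14_2 F8454 F8455 (iv6 D5294) (iv7 F7845) D5314
theorem E1178 : n5510 = n5446 := (c15_4 (iv0 D5446) D5447 F8457 (iv2 F8411))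
theorem F8458 : act 2 n5446 = n5294 := (sb E1178 F8411)
theorem F8459 : act 6 n5446 = n2283 := (sb E1178 (iv6 D5510))
def n5546 : Q := act 1 n2305
theorem D5546 : act 1 n2305 = n5546 := rfl
def n5547 : Q := act 5 n2305
theorem D5547 : act 5 n2305 = n5547 := rfl
theorem F8460 : act 0 n5547 = n2859 := d21_7 (iv5 D2244) D2240 F5090 F5091 F5087 D2305 D5547 (iv5 D2859) D2860 F8299
theorem F8461 : act 0 n5081 = n5547 := d21_1 D5081 (iv5 D5547) (iv6 D2305) (iv1 D1105) (iv6 D682) (iv5 D376) F612 D654 D1032 D2080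
def n5548 : Q := act 7 n2305
theorem D5548 : act 7 n2305 = n5548 := rfl
def n5549 : Q := act 0 n2306
theorem D5549 : act 0 n2306 = n5549 := rfl
def n5550 : Q := act 1 n2306
theorem D5550 : act 1 n2306 = n5550 := rfl
def n5551 : Q := act 5 n2306
theorem D5551 : act 5 n2306 = n5551 := rfl
def n5552 : Q := act 7 n2306
theorem D5552 : act 7 n2306 = n5552 := rfl
theorem F8462 : act 4 n5552 = n3033 := d11_1 D5552 (iv7 D3033) (iv4 F3665)
theorem F8463 : act 6 n5552 = n5552 := d14_1 D5552 (iv7 D5552) (iv6 D2306) F2036 D2306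
def n5553 : Q := act 4 n2307
theorem D5553 : act 4 n2307 = n5553 := rfl
theorem F8464 : act 2 n5553 = n2376 := d1_1 D5553 (iv4 F3762) F3761
theorem F8465 : act 3 n5553 = n3050 := d5_1 D5553 (iv4 D3050) F2494 F2484 D2307
theorem F8466 : act 7 n5553 = n5553 := d11_2 F3666 D5553 (iv4 D5553)
theorem F8467 : act 5 n5553 = n5300 := d16_5 (iv4 F7911) (iv5 F8105) F8107 F4747 D5553 (iv4 D5300) (iv5 F3544) F4505 F4506
theorem F8468 : act 0 n5553 = n5299 := d17_0 (iv5 F8105) (iv1 F8109) F4250 F3624 (iv5 F3771) (iv0 D2387) D2389 (iv0 F3784) D5553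
theorem F8469 : act 1 n5553 = n5336 := d18_6 D2087 D5092 F8108 F8107 F4747 D5553 (iv4 D5336) (iv0 D2188) F1991
def n5554 : Q := act 6 n2307
theorem D5554 : act 6 n2307 = n5554 := rfl
theorem F8470 : act 3 n5554 = n2308 := d7_1 D5554 (iv6 D2308) D2307
def n5555 : Q := act 0 n2308
theorem D5555 : act 0 n2308 = n5555 := rfl
def n5556 : Q := act 1 n2308
theorem D5556 : act 1 n2308 = n5556 := rfl
theorem F8471 : act 1 n5556 = n5552 := d15_1 D5556 (iv7 D5552) (iv2 F3667)
def n5557 : Q := act 5 n2308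
theorem D5557 : act 5 n2308 = n5557 := rfl
theorem F8472 : act 2 n5557 = n5551 := d2_1 D5557 (iv5 D5551) (iv2 F3667)
def n5558 : Q := act 7 n2308
theorem D5558 : act 7 n2308 = n5558 := rfl
theorem F8473 : act 2 n5558 = n5552 := d4_1 D5558 (iv7 D5552) (iv2 F3667)
theorem F8474 : act 6 n5558 = n5558 := d14_1 D5558 (iv7 D5558) (iv6 D2308) F2043 D2308
theorem F8475 : act 1 n5552 = n5555 := d15_0 (iv0 D5555) D5558 F8473
theorem F8476 : act 1 n5550 = n5558 := d15_1 D5550 (iv7 D5558) F3667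
theorem F8477 : act 1 n5558 = n5549 := d15_0 (iv0 D5549) D5552 (iv2 F8473)
def n5559 : Q := act 0 n2309
theorem D5559 : act 0 n2309 = n5559 := rfl
def n5560 : Q := act 1 n2309
theorem D5560 : act 1 n2309 = n5560 := rfl
theorem F8478 : act 1 n5560 = n2313 := d15_1 D5560 (iv7 D2313) (iv2 F3668)
theorem F8479 : act 3 n5560 = n5137 := d20_5 (iv4 D1090) (iv1 F1287) (iv4 F2049) (iv3 F3672) (iv1 F8478) (iv4 D5137) (iv1 D2113) (iv4 F2359) F2358 (iv1 F5085)
def n5561 : Q := act 5 n2309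
theorem D5561 : act 5 n2309 = n5561 := rfl
theorem F8480 : act 2 n5561 = n2312 := d2_1 D5561 (iv5 D2312) (iv2 F3668)
theorem F8481 : act 3 n5561 = n5382 := d6_1 D5561 (iv5 D5382) (iv3 F3669)
theorem F8482 : act 6 n5561 = n5382 := d12_2 D2309 D5561 (iv5 D5382) (iv6 D2215) (iv5 F2038)
def n5562 : Q := act 7 n2309
theorem D5562 : act 7 n2309 = n5562 := rfl
theorem F8483 : act 2 n5562 = n2313 := d4_1 D5562 (iv7 D2313) (iv2 F3668)
theorem F8484 : act 3 n5562 = n5383 := d8_1 D5562 (iv7 D5383) (iv3 F3669)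
theorem F8485 : act 6 n5562 = n5562 := d14_1 D5562 (iv7 D5562) (iv6 D2309) F2039 D2309
theorem F8486 : act 1 n2313 = n5559 := d15_0 (iv0 D5559) D5562 F8483
theorem F8487 : act 1 n2311 = n5562 := d15_1 D2311 (iv7 D5562) F3668
theorem F8488 : act 1 n5562 = n2310 := d15_0 (iv0 D2310) D2313 (iv2 F8483)
def n5563 : Q := act 2 n2310
theorem D5563 : act 2 n2310 = n5563 := rfl
theorem F8489 : act 7 n2311 = n5563 := d15_2 (iv0 D2310) D2311 (iv2 D5563)
def n5564 : Q := act 4 n2310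
theorem D5564 : act 4 n2310 = n5564 := rfl
def n5565 : Q := act 5 n2310
theorem D5565 : act 5 n2310 = n5565 := rfl
def n5566 : Q := act 6 n2310
theorem D5566 : act 6 n2310 = n5566 := rfl
def n5567 : Q := act 7 n2310
theorem D5567 : act 7 n2310 = n5567 := rfl
theorem F8490 : act 2 n5567 = n2311 := d4_1 D5567 F8489 (iv2 D5563)
def n5568 : Q := act 3 n2311
theorem D5568 : act 3 n2311 = n5568 := rfl
def n5569 : Q := act 4 n2311
theorem D5569 : act 4 n2311 = n5569 := rfl
def n5570 : Q := act 5 n2311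
theorem D5570 : act 5 n2311 = n5570 := rfl
def n5571 : Q := act 6 n2311
theorem D5571 : act 6 n2311 = n5571 := rfl
def n5572 : Q := act 0 n2312
theorem D5572 : act 0 n2312 = n5572 := rfl
def n5573 : Q := act 1 n2312
theorem D5573 : act 1 n2312 = n5573 := rfl
def n5574 : Q := act 4 n2312
theorem D5574 : act 4 n2312 = n5574 := rfl
theorem F8491 : act 6 n5574 = n5396 := d10_2 (iv6 F3671) D5574 (iv4 D5396)
def n5575 : Q := act 7 n2312
theorem D5575 : act 7 n2312 = n5575 := rfl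
theorem F8492 : act 3 n5575 = n2327 := d8_1 D5575 (iv7 D2327) (iv3 F3670)
theorem F8493 : act 5 n5575 = n2313 := d13_1 D5575 (iv7 D2313) D2312
def n5576 : Q := act 0 n2315
theorem D5576 : act 0 n2315 = n5576 := rfl
theorem F8494 : act 1 n5412 = n5576 := d15_0 (iv0 D5576) (iv7 F4963) D5412
def n5577 : Q := act 1 n2315
theorem D5577 : act 1 n2315 = n5577 := rfl
def n5578 : Q := act 2 n2315
theorem D5578 : act 2 n2315 = n5578 := rfl
theorem F8495 : act 3 n5578 = n5400 := d0_2 D2315 D5578 (iv2 D5400) (iv3 D2221) (iv2 F4955)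
theorem F8496 : act 7 n5578 = n5412 := d4_2 F4963 D5578 (iv2 D5412)
theorem F8497 : act 1 n5578 = n5410 := d15_0 (iv0 D5410) F4963 D5578
theorem F8498 : act 1 n5577 = n5412 := d15_1 D5577 (iv7 F8496) (iv2 D5578)
theorem F8499 : act 1 n5411 = n5578 := d15_1 D5411 F8496 (iv2 D5412)
def n5579 : Q := act 4 n2315
theorem D5579 : act 4 n2315 = n5579 := rfl
theorem F8501 : act 7 n5579 = n5413 := d11_2 F4963 D5579 (iv4 D5413)
def n5580 : Q := act 5 n2315
theorem D5580 : act 5 n2315 = n5580 := rfl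
theorem F8502 : act 3 n5580 = n2317 := d6_1 D5580 (iv5 D2317) D2315
theorem F8503 : act 7 n5580 = n5414 := d13_2 F4963 D5580 (iv5 D5414)
def n5581 : Q := act 6 n2315
theorem D5581 : act 6 n2315 = n5581 := rfl
theorem F8504 : act 3 n5581 = n2318 := d7_1 D5581 (iv6 D2318) D2315
def n5582 : Q := act 0 n2317
theorem D5582 : act 0 n2317 = n5582 := rfl
theorem F8505 : act 5 n5582 = n2441 := d17_3 D1111 D2317 D5582 F5144 (iv5 F3700) (iv0 D2347) (iv5 D1118) (iv0 D685) (iv4 F1280)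
theorem F8506 : act 1 n2322 = n5582 := d15_0 (iv0 D5582) (iv7 F4967) F4966
theorem F8507 : act 2 n3161 = n5582 := d2_3 F8505 F5143 D3161
theorem F8508 : act 7 n5404 = n5582 := d15_2 F4952 D5404 (iv2 F8507)
def n5583 : Q := act 1 n2317
theorem D5583 : act 1 n2317 = n5583 := rfl
theorem F8509 : act 1 n5583 = n2322 := d15_1 D5583 (iv7 F4954) F4953
theorem F8510 : act 7 n5583 = n3161 := d15_2 (iv0 D5582) D5583 F8507
theorem F8511 : act 5 n5583 = n3162 := d17_7 F2570 (iv5 D1452) F2559 (iv5 D1270) F4868 D2317 D5583 F4994 (iv4 D2687)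
theorem F8512 : act 2 n5404 = n5583 := d4_3 F8510 F8507 (iv7 F8508)
def n5584 : Q := act 4 n2317
theorem D5584 : act 4 n2317 = n5584 := rfl
theorem F8513 : act 2 n5584 = n5405 := d1_1 D5584 (iv4 D5405) F4953
theorem F8514 : act 7 n5584 = n5416 := d11_2 F4967 D5584 (iv4 D5416)
def n5585 : Q := act 6 n2317
theorem D5585 : act 6 n2317 = n5585 := rfl
theorem F8515 : act 2 n5585 = n5406 := d3_1 D5585 (iv6 D5406) F4953
def n5586 : Q := act 0 n2318
theorem D5586 : act 0 n2318 = n5586 := rfl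
def n5587 : Q := act 1 n2318
theorem D5587 : act 1 n2318 = n5587 := rfl
theorem F8516 : act 1 n5587 = n5409 := d15_1 D5587 (iv7 D5409) F4958
theorem F8517 : act 4 n5587 = n2353 := d17_9 (iv1 D2353) D2354 F3706 (iv5 D1280) (iv4 F1495) D1364 D3045 (iv5 F4763) D5587
theorem F8518 : act 2 n5408 = n5587 := d1_3 F8517 (iv2 F7887) (iv4 F8222)
theorem F8519 : act 7 n3483 = n5587 := d11_0 F8517 F7885 (iv4 F5464)
theorem E1179 : n5586 = n3120 := ((c15_4 (iv0 D5586) D5587 (iv7 F8519) (iv2 F7855))).symm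
theorem F8520 : act 1 n3120 = n2318 := (sb E1179 (iv0 D5586))
def n5588 : Q := act 7 n2318
theorem D5588 : act 7 n2318 = n5588 := rfl
theorem F8521 : act 2 n5588 = n5409 := d4_1 D5588 (iv7 D5409) F4958
theorem F8522 : act 4 n5588 = n2765 := d11_1 D5588 (iv7 D2765) (iv4 F4872)
theorem F8523 : act 5 n5588 = n3069 := d13_1 D5588 F4987 (iv5 F4763)
theorem F8524 : act 6 n5588 = n5420 := d14_1 D5588 (iv7 D5420) (iv6 D2229) F4962 D2318
theorem F8525 : act 1 n5408 = n5588 := d15_1 D5408 (iv7 D5588) (iv2 F4958)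
theorem F8526 : act 1 n5588 = n3483 := d15_1 F8525 F8519 (iv2 F8518)
def n5589 : Q := act 0 n2320
theorem D5589 : act 0 n2320 = n5589 := rfl
theorem F8527 : act 1 n5400 = n5589 := d15_0 (iv0 D5589) (iv7 F4956) D5400
def n5590 : Q := act 1 n2320
theorem D5590 : act 1 n2320 = n5590 := rfl
def n5591 : Q := act 2 n2320
theorem D5591 : act 2 n2320 = n5591 := rfl
theorem F8528 : act 3 n5591 = n5412 := d0_2 D2320 D5591 (iv2 D5412) (iv3 D2226) F4961
theorem F8529 : act 7 n5591 = n5400 := d4_2 F4956 D5591 (iv2 D5400)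
theorem F8530 : act 1 n5591 = n5398 := d15_0 (iv0 D5398) F4956 D5591
theorem F8531 : act 1 n5590 = n5400 := d15_1 D5590 (iv7 F8529) (iv2 D5591)
theorem F8532 : act 1 n5399 = n5591 := d15_1 D5399 F8529 (iv2 D5400)
def n5592 : Q := act 5 n2320
theorem D5592 : act 5 n2320 = n5592 := rfl
theorem F8533 : act 3 n5592 = n2322 := d6_1 D5592 (iv5 D2322) D2320
theorem F8534 : act 7 n5592 = n5402 := d13_2 F4956 D5592 (iv5 D5402)
def n5593 : Q := act 6 n2320
theorem D5593 : act 6 n2320 = n5593 := rfl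
theorem F8535 : act 3 n5593 = n2323 := d7_1 D5593 (iv6 D2323) D2320
def n5594 : Q := act 4 n2322
theorem D5594 : act 4 n2322 = n5594 := rfl
theorem F8536 : act 2 n5594 = n5416 := d1_1 D5594 (iv4 D5416) F4966
theorem F8537 : act 7 n5594 = n5405 := d11_2 F4954 D5594 (iv4 D5405)
def n5595 : Q := act 6 n2322
theorem D5595 : act 6 n2322 = n5595 := rfl
theorem F8538 : act 2 n5595 = n5417 := d3_1 D5595 (iv6 D5417) F4966
def n5596 : Q := act 0 n2323
theorem D5596 : act 0 n2323 = n5596 := rfl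
theorem F8539 : act 5 n5596 = n2442 := d17_1 D5596 (iv1 F3834) F2539 F1507 (iv5 F1512) F2120 D2489 (iv0 F3938) (iv4 F4880)
theorem F8540 : act 4 n5596 = n2367 := d18_3 F4626 (iv4 F4880) D5596 F3711 F5146 (iv0 D2495) (iv4 D1165) D1164 (iv5 F2685)
theorem F8541 : act 2 n3166 = n5596 := d15_3 (iv0 D5596) F7600 (iv7 F7870)
theorem F8542 : act 6 n5596 = n5587 := d3_2 (iv6 F8223) F8541 (iv2 F8518)
theorem F8543 : act 7 n5596 = n3115 := d4_2 (iv7 F7870) F8541 (iv2 F7866)
theorem F8544 : act 1 n5420 = n5596 := d15_1 F8240 F8543 (iv2 F7866)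
def n5597 : Q := act 7 n2323
theorem D5597 : act 7 n2323 = n5597 := rfl
theorem F8545 : act 2 n5597 = n5420 := d4_1 D5597 (iv7 D5420) F4968
theorem F8546 : act 4 n5597 = n2778 := d11_1 D5597 (iv7 D2778) (iv4 F4880)
theorem F8547 : act 6 n5597 = n5409 := d14_1 D5597 (iv7 D5409) (iv6 D2224) (iv7 F4960) D2323
theorem F8548 : act 1 n3115 = n5597 := d15_1 (iv0 F8235) (iv7 D5597) (iv2 F4968)
theorem F8549 : act 1 n5597 = n3166 := d15_1 F8548 F7870 F7866
theorem F8550 : act 0 n5314 = n2362 := d20_4 (iv4 F8546) (iv1 F8548) F4910 (iv3 F7936) F3709 (iv4 F3710) (iv1 F7595) (iv4 D3288) F5186 F4608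
theorem F8551 : act 1 n5314 = n5548 := d15_1 (iv0 F8550) (iv7 D5548) (iv2 F8053)
def n5598 : Q := act 3 n2324
theorem D5598 : act 3 n2324 = n5598 := rfl
theorem F8552 : act 7 n5598 = n5424 := d8_2 F4982 D5598 (iv3 D5424)
def n5599 : Q := act 4 n2324
theorem D5599 : act 4 n2324 = n5599 := rfl
theorem F8553 : act 2 n5599 = n5422 := d1_1 D5599 (iv4 D5422) (iv2 F4972)
theorem F8554 : act 7 n5599 = n5425 := d11_2 F4982 D5599 (iv4 D5425)
theorem F8555 : act 5 n5599 = n5594 := d16_1 D5599 (iv4 D5594) (iv5 D2322) (iv4 F4876) D1275 D2776 F4891 F4973 (iv2 F4972)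
theorem F8556 : act 1 n5599 = n2740 := d18_6 F7597 F2568 F2559 D2761 (iv5 F4882) D5599 (iv4 D2740) D2739 (iv5 F5098)
def n5600 : Q := act 6 n2324
theorem D5600 : act 6 n2324 = n5600 := rfl
theorem F8557 : act 2 n5600 = n5423 := d3_1 D5600 (iv6 D5423) (iv2 F4972)
def n5601 : Q := act 3 n2325
theorem D5601 : act 3 n2325 = n5601 := rfl
theorem F8558 : act 7 n5601 = n5421 := d8_2 (iv7 F4973) D5601 (iv3 D5421)
def n5602 : Q := act 4 n2325
theorem D5602 : act 4 n2325 = n5602 := rfl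
theorem F8559 : act 2 n5602 = n5425 := d1_1 D5602 (iv4 D5425) (iv2 F4976)
theorem F8560 : act 5 n5602 = n5584 := d9_2 F4891 D5602 (iv4 D5584) (iv5 D2317) (iv4 F4868) D1270 D2761 (iv5 F4882) D5599 F8555 (iv4 D5594) (iv5 D2322) (iv4 F4876) D1275 D2776
theorem F8561 : act 7 n5602 = n5422 := d11_2 (iv7 F4973) D5602 (iv4 D5422)
theorem F8562 : act 0 n5602 = n2740 := d18_2 (iv1 F3676) D5602 (iv4 D2740) (iv5 D1265) F1438 D746 F4876 F2045 (iv5 F3593)
def n5603 : Q := act 6 n2325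
theorem D5603 : act 6 n2325 = n5603 := rfl
theorem F8563 : act 2 n5603 = n5426 := d3_1 D5603 (iv6 D5426) (iv2 F4976)
def n5604 : Q := act 0 n2326
theorem D5604 : act 0 n2326 = n5604 := rfl
theorem F8564 : act 4 n5604 = n2664 := d18_3 (iv1 D2325) D2326 D5604 F7736 (iv4 D2349) (iv0 F4371) (iv4 F4903) F4902 F4891
theorem F8565 : act 1 n5431 = n5604 := d15_0 (iv0 D5604) (iv7 F8248) (iv2 F8251)
theorem F8566 : act 2 n5427 = n5604 := d1_3 F8564 F8010 (iv4 F8245)
theorem F8567 : act 7 n5428 = n5604 := d11_0 F8564 F8013 (iv4 F8246)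
def n5605 : Q := act 1 n2326
theorem D5605 : act 1 n2326 = n5605 := rfl
theorem F8568 : act 1 n5605 = n5431 := d15_1 D5605 (iv7 D5431) (iv2 F3677)
theorem F8569 : act 7 n5605 = n5427 := d15_2 (iv0 D5604) D5605 F8566
theorem F8570 : act 4 n5605 = n2665 := d18_7 F7711 (iv4 D1122) (iv1 D686) (iv4 F1280) D1113 D2326 D5605 F4330 F4328
theorem F8571 : act 2 n5428 = n5605 := d1_3 F8570 (iv2 F8014) (iv4 F8246)
def n5606 : Q := act 3 n2326
theorem D5606 : act 3 n2326 = n5606 := rfl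
theorem F8572 : act 6 n5606 = n5429 := d7_2 (iv6 F3678) D5606 (iv3 D5429)
def n5607 : Q := act 6 n2327
theorem D5607 : act 6 n2327 = n5607 := rfl
theorem F8573 : act 2 n5607 = n5432 := d3_1 D5607 (iv6 D5432) (iv2 F3679)
theorem F8574 : act 5 n5607 = n5607 := d12_1 D5607 (iv6 D5607) F3680 F2050 (iv5 F3680)
theorem F8575 : act 7 n5607 = n5432 := d14_2 D2327 D5607 (iv6 D5432) (iv7 D2233) (iv6 F2047)
def n5633 : Q := act 7 n2339
theorem D5633 : act 7 n2339 = n5633 := rfl
theorem F8623 : act 3 n5633 = n2355 := d8_1 D5633 (iv7 D2355) (iv3 F3693)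
def n5634 : Q := act 0 n2343
theorem D5634 : act 0 n2343 = n5634 := rfl
theorem F8625 : act 1 n5494 = n5634 := d15_0 (iv0 D5634) F8066 D5494
def n5635 : Q := act 1 n2343
theorem D5635 : act 1 n2343 = n5635 := rfl
def n5636 : Q := act 2 n2343
theorem D5636 : act 2 n2343 = n5636 := rfl
theorem F8626 : act 3 n5636 = n5452 := d0_2 D2343 D5636 (iv2 D5452) (iv3 D2249) F7962
theorem F8627 : act 7 n5636 = n5494 := d4_2 (iv7 F8066) D5636 (iv2 D5494)
theorem F8628 : act 1 n5636 = n5492 := d15_0 (iv0 D5492) (iv7 F8066) D5636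
theorem F8630 : act 1 n5493 = n5636 := d15_1 D5493 F8627 (iv2 D5494)
def n5637 : Q := act 5 n2343
theorem D5637 : act 5 n2343 = n5637 := rfl
theorem F8631 : act 3 n5637 = n2344 := d6_1 D5637 (iv5 D2344) D2343
theorem F8632 : act 7 n5637 = n5495 := d13_2 (iv7 F8066) D5637 (iv5 D5495)
def n5638 : Q := act 6 n2343
theorem D5638 : act 6 n2343 = n5638 := rfl
theorem F8633 : act 3 n5638 = n2345 := d7_1 D5638 (iv6 D2345) D2343
def n5639 : Q := act 1 n2344
theorem D5639 : act 1 n2344 = n5639 := rfl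
theorem F8634 : act 1 n5639 = n2364 := d15_1 D5639 (iv7 F8057) (iv2 F8060)
theorem F8635 : act 7 n5639 = n5455 := d15_2 (iv0 F7713) D5639 (iv2 F8280)
theorem F8636 : act 5 n5639 = n5463 := d17_7 D2253 F3610 F4371 (iv5 D1118) D1117 D2344 D5639 (iv0 D5463) (iv4 D2255)
theorem F8637 : act 2 n5456 = n5639 := d2_3 F8636 (iv2 F8302) (iv5 F8283)
def n5640 : Q := act 4 n2344
theorem D5640 : act 4 n2344 = n5640 := rfl
theorem F8638 : act 2 n5640 = n5457 := d1_1 D5640 (iv4 D5457) (iv2 F8060)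
theorem F8639 : act 7 n5640 = n5497 := d11_2 (iv7 F8059) D5640 (iv4 D5497)
theorem F8640 : act 5 n5640 = n5605 := d16_1 D5640 F8570 (iv5 F7725) (iv4 D2366) (iv5 D1123) D1122 D2364 (iv7 F8057) (iv2 F8060)
def n5641 : Q := act 6 n2344
theorem D5641 : act 6 n2344 = n5641 := rfl
theorem F8641 : act 2 n5641 = n5458 := d3_1 D5641 (iv6 D5458) (iv2 F8060)
def n5642 : Q := act 0 n2345
theorem D5642 : act 0 n2345 = n5642 := rfl
def n5643 : Q := act 1 n2345
theorem D5643 : act 1 n2345 = n5643 := rfl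
theorem F8642 : act 1 n5643 = n5461 := d15_1 D5643 (iv7 D5461) (iv2 F8070)
theorem F8643 : act 4 n5643 = n2690 := d17_9 (iv1 D2690) F2474 (iv1 D1355) (iv5 D772) (iv4 F1485) D1343 D2987 (iv5 F7714) D5643
theorem F8644 : act 6 n3288 = n5643 := d21_3 D2093 D5100 F7587 (iv1 D5643) (iv6 D2345) D2344 F7713 (iv5 D3273) (iv6 D1448) F5056
theorem F8645 : act 2 n5643 = n5460 := d3_1 F8644 F8387 (iv2 F8384)
theorem F8646 : act 7 n5643 = n5348 := d14_2 (iv7 F5484) F8644 (iv6 D5348) F5273 D3490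
theorem E1185 : n5642 = n3500 := ((c15_4 (iv0 D5642) D5643 F8646 F8130)).symm
theorem F8647 : act 1 n3500 = n2345 := (sb E1185 (iv0 D5642))
theorem F8648 : act 0 n5294 = n5449 := d20_4 (iv4 F4959) (iv1 F8225) F5464 (iv3 F7903) F8275 (iv4 F8288) (iv1 F8642) F8643 F5191 (iv1 D2690)
def n5644 : Q := act 7 n2345
theorem D5644 : act 7 n2345 = n5644 := rfl
theorem F8649 : act 2 n5644 = n5461 := d4_1 D5644 (iv7 D5461) (iv2 F8070)
theorem F8650 : act 4 n5644 = n2355 := d11_1 D5644 (iv7 D2355) (iv4 F3696)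
theorem F8651 : act 5 n5644 = n2913 := d13_1 D5644 F8073 (iv5 F7714)
theorem F8652 : act 6 n5644 = n5500 := d14_1 D5644 (iv7 D5500) (iv6 D2271) F7967 D2345
theorem F8653 : act 1 n5460 = n5644 := d15_1 D5460 (iv7 D5644) F8070
theorem F8654 : act 1 n5644 = n5348 := d15_1 F8653 (iv7 F8646) F8645
def n5645 : Q := act 3 n2347
theorem D5645 : act 3 n2347 = n5645 := rfl
theorem F8655 : act 5 n5645 = n5111 := d6_2 (iv5 F3700) D5645 F7625
theorem F8656 : act 7 n5645 = n5111 := d8_2 F4456 D5645 F7625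
def n5646 : Q := act 4 n2347
theorem D5646 : act 4 n2347 = n5646 := rfl
theorem F8657 : act 2 n5646 = n3162 := d1_1 D5646 F4992 (iv2 F4457)
theorem F8658 : act 6 n5646 = n3151 := d10_2 F4437 D5646 F4945
theorem F8659 : act 7 n5646 = n2441 := d11_2 F4456 D5646 F5144
theorem F8660 : act 5 n5646 = n5404 := d17_5 (iv1 F1286) D1096 (iv1 F4385) (iv5 F3700) D5646 F8221 (iv5 D2228) F2052 F2049
theorem F8661 : act 0 n5646 = n2776 := d17_0 F4891 (iv1 D2325) (iv5 D1113) F1280 F1112 D686 D1123 F3705 D5646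
theorem F8662 : act 1 n5646 = n2761 := d18_6 F3901 D2702 (iv1 F5142) F5144 (iv5 F3700) D5646 (iv4 D2761) (iv0 F2559) D1452
def n5647 : Q := act 3 n2349
theorem D5647 : act 3 n2349 = n5647 := rfl
theorem F8663 : act 7 n5647 = n5501 := d8_2 F8011 D5647 (iv3 D5501)
def n5648 : Q := act 6 n2349
theorem D5648 : act 6 n2349 = n5648 := rfl
theorem F8664 : act 2 n5648 = n3222 := d3_1 D5648 (iv6 F5080) F8009
theorem F8665 : act 4 n5648 = n2350 := d10_1 D5648 (iv6 D2350) D2349
theorem F8666 : act 7 n5648 = n2985 := d14_2 F8011 D5648 (iv6 D2985) F7989 (iv6 F5099)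
theorem F8667 : act 0 n5648 = n2463 := d21_10 F7925 (iv1 D5309) (iv5 D2172) (iv6 D1069) F1251 D735 D1241 D2664 F7736 D5648
theorem F8668 : act 0 n3224 = n5648 := d21_4 D2364 (iv1 F8634) F8636 (iv6 F8305) (iv6 D5648) (iv5 F7736) (iv1 F4331) F4328 F2365 F7711
theorem F8669 : act 1 n2912 = n2463 := d15_0 (iv0 F8667) F8666 F7998
def n5649 : Q := act 5 n2353
theorem D5649 : act 5 n2353 = n5649 := rfl
theorem F8670 : act 2 n5649 = n5466 := d2_1 D5649 (iv5 D5466) F7887
theorem F8671 : act 7 n5649 = n5361 := d13_2 (iv7 F7885) D5649 (iv5 D5361)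
theorem F8672 : act 0 n5649 = n2797 := d21_1 D5649 (iv5 D2797) F2376 (iv1 F4385) (iv6 D2104) D2103 (iv1 F8000) (iv5 F7983) F7984 (iv1 F7958)
theorem F8673 : act 0 n2801 = n5649 := d21_1 D2801 (iv5 D5649) (iv6 F3712) F8038 (iv6 F8041) (iv5 F8042) (iv1 F4391) F4376 F2375 (iv1 F2377)
def n5650 : Q := act 0 n2360
theorem D5650 : act 0 n2360 = n5650 := rfl
def n5651 : Q := act 1 n2360
theorem D5651 : act 1 n2360 = n5651 := rfl
def n5652 : Q := act 3 n2360
theorem D5652 : act 3 n2360 = n5652 := rfl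
theorem F8676 : act 4 n5652 = n2363 := d5_2 D2360 D5652 (iv3 D2363) (iv4 D1122) D1121
theorem F8677 : act 7 n5652 = n5439 := d8_2 F8061 D5652 (iv3 D5439)
def n5653 : Q := act 5 n2360
theorem D5653 : act 5 n2360 = n5653 := rfl
theorem F8678 : act 2 n5653 = n5542 := d2_1 D5653 (iv5 D5542) (iv2 F8052)
theorem F8679 : act 7 n5653 = n5440 := d13_2 F8061 D5653 (iv5 D5440)
def n5654 : Q := act 6 n2360
theorem D5654 : act 6 n2360 = n5654 := rfl
theorem F8680 : act 2 n5654 = n5543 := d3_1 D5654 (iv6 D5543) (iv2 F8052)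
theorem F8681 : act 4 n5654 = n2362 := d10_1 D5654 (iv6 D2362) D2360
def n5655 : Q := act 4 n2361
theorem D5655 : act 4 n2361 = n5655 := rfl
theorem F8682 : act 2 n5655 = n5544 := d1_1 D5655 (iv4 D5544) F8023
theorem F8683 : act 7 n5655 = n5444 := d11_2 F8055 D5655 (iv4 D5444)
def n5656 : Q := act 0 n2362
theorem D5656 : act 0 n2362 = n5656 := rfl
theorem F8684 : act 5 n5656 = n5083 := d21_0 (iv1 F7558) F3794 F2081 F4913 D2860 (iv5 F8291) F8293 (iv5 D2361) D2362 D5656
theorem F8685 : act 2 n5545 = n5656 := d15_3 (iv0 D5656) (iv0 F8550) F8454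
theorem F8686 : act 7 n5656 = n5291 := d4_2 F8454 F8685 (iv2 F7935)
theorem E1186 : n5546 = n5291 := (c15_2 (iv0 D5545) D5546 (iv7 F8686) (iv2 F8685))
theorem F8687 : act 0 n5291 = n2305 := (sb E1186 (iv1 D5546))
theorem F8688 : act 1 n5548 = n5656 := d15_1 F8551 F8686 (iv2 F7935)
def n5657 : Q := act 5 n2362
theorem D5657 : act 5 n2362 = n5657 := rfl
theorem F8689 : act 2 n5657 = n5547 := d2_1 D5657 (iv5 D5547) (iv2 F8053)
theorem F8690 : act 3 n5657 = n2369 := d6_1 D5657 (iv5 D2369) (iv3 F3709)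
theorem F8691 : act 0 n5657 = n2404 := d21_7 (iv5 D5435) F7969 F2033 F2034 F7716 D2362 D5657 (iv5 D2404) D2405 (iv1 F8296)
theorem F8692 : act 0 n2399 = n5657 := d21_1 D2399 (iv5 D5657) (iv6 D2362) (iv1 F7715) (iv6 D1099) (iv5 D679) (iv1 F643) D398 D691 D1134
def n5658 : Q := act 7 n2362
theorem D5658 : act 7 n2362 = n5658 := rfl
theorem F8693 : act 2 n5658 = n5548 := d4_1 D5658 (iv7 D5548) (iv2 F8053)
theorem F8694 : act 3 n5658 = n2370 := d8_1 D5658 (iv7 D2370) (iv3 F3709)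
theorem F8695 : act 6 n5658 = n5449 := d14_1 D5658 (iv7 D5449) (iv6 D2245) (iv7 F7972) D2362
theorem F8696 : act 1 n5291 = n5658 := d15_1 (iv0 F8687) (iv7 D5658) F8053
theorem F8697 : act 1 n5658 = n5545 := d15_1 F8696 (iv7 F8454) F7935
def n5659 : Q := act 0 n2363
theorem D5659 : act 0 n2363 = n5659 := rfl
theorem F8698 : act 1 n5452 = n5659 := d15_0 (iv0 D5659) (iv7 F8056) D5452
def n5660 : Q := act 1 n2363
theorem D5660 : act 1 n2363 = n5660 := rfl
def n5661 : Q := act 2 n2363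
theorem D5661 : act 2 n2363 = n5661 := rfl
theorem F8699 : act 3 n5661 = n5494 := d0_2 D2363 D5661 (iv2 D5494) (iv3 D2269) (iv2 F7973)
theorem F8700 : act 7 n5661 = n5452 := d4_2 F8056 D5661 (iv2 D5452)
theorem F8701 : act 1 n5661 = n5450 := d15_0 (iv0 D5450) F8056 D5661
theorem F8702 : act 1 n5660 = n5452 := d15_1 D5660 (iv7 F8700) (iv2 D5661)
theorem F8703 : act 1 n5451 = n5661 := d15_1 D5451 F8700 (iv2 D5452)
def n5662 : Q := act 5 n2363
theorem D5662 : act 5 n2363 = n5662 := rfl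
theorem F8704 : act 3 n5662 = n2364 := d6_1 D5662 (iv5 D2364) D2363
theorem F8705 : act 7 n5662 = n5453 := d13_2 F8056 D5662 (iv5 D5453)
def n5663 : Q := act 6 n2363
theorem D5663 : act 6 n2363 = n5663 := rfl
theorem F8706 : act 3 n5663 = n2365 := d7_1 D5663 (iv6 D2365) D2363
def n5664 : Q := act 4 n2364
theorem D5664 : act 4 n2364 = n5664 := rfl
theorem F8707 : act 2 n5664 = n5497 := d1_1 D5664 (iv4 D5497) F8058
theorem F8708 : act 5 n5664 = n5604 := d9_2 D2364 D5664 F8564 F7736 (iv4 D2349) (iv5 D1118) D1117 D2344 D5640 F8640 F8570 (iv5 F7725) (iv4 D2366) (iv5 D1123) D1122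
theorem F8709 : act 7 n5664 = n5457 := d11_2 F8057 D5664 (iv4 D5457)
def n5665 : Q := act 6 n2364
theorem D5665 : act 6 n2364 = n5665 := rfl
theorem F8710 : act 2 n5665 = n5498 := d3_1 D5665 (iv6 D5498) F8058
def n5666 : Q := act 5 n2365
theorem D5666 : act 5 n2365 = n5666 := rfl
theorem F8711 : act 2 n5666 = n3217 := d2_1 D5666 (iv5 F5083) F8054
theorem F8712 : act 0 n5666 = n2481 := d17_2 (iv1 F8386) D5666 (iv5 D2481) (iv4 D1160) D1161 (iv0 F3855) F3853 (iv0 F4610) D3302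
theorem F8713 : act 1 n5666 = n2462 := d17_6 D753 D1297 F3713 (iv5 D2369) (iv4 F3710) D5666 (iv5 D2462) F4919 F1463
theorem F8714 : act 7 n3218 = n5666 := d15_2 (iv0 D3217) D3218 F8711
def n5667 : Q := act 7 n2365
theorem D5667 : act 7 n2365 = n5667 := rfl
theorem F8715 : act 2 n5667 = n5500 := d4_1 D5667 (iv7 D5500) F8054
theorem F8716 : act 4 n5667 = n2370 := d11_1 D5667 (iv7 D2370) (iv4 F3710)
theorem F8717 : act 5 n5667 = n3218 := d13_1 D5667 F8714 (iv5 D5666)
theorem F8718 : act 6 n5667 = n5461 := d14_1 D5667 (iv7 D5461) (iv6 D2251) (iv7 F7974) D2365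
theorem F8719 : act 1 n3490 = n5667 := d15_1 F5485 (iv7 D5667) (iv2 F8054)
theorem F8720 : act 1 n5667 = n5499 := d15_1 F8719 F8385 (iv2 F5481)
def n5668 : Q := act 3 n2366
theorem D5668 : act 3 n2366 = n5668 := rfl
theorem F8721 : act 6 n5668 = n2977 := d7_2 (iv6 F7726) D5668 (iv3 D2977)
theorem F8722 : act 7 n5668 = n5464 := d8_2 (iv7 F8007) D5668 (iv3 D5464)
def n5669 : Q := act 4 n2369
theorem D5669 : act 4 n2369 = n5669 := rfl
theorem F8723 : act 2 n5669 = n3229 := d1_1 D5669 (iv4 F5178) (iv2 F8031)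
theorem F8724 : act 7 n5669 = n3230 := d11_2 F8028 D5669 (iv4 F8001)
theorem F8725 : act 0 n5669 = n2483 := d18_2 F3713 D5669 (iv4 D2483) (iv5 D1161) D1160 (iv0 F4921) F3420 F1937 D1297
theorem F8726 : act 1 n5669 = n2467 := d18_6 F4609 D3302 (iv1 F8386) F3710 D2369 D5669 (iv4 D2467) D2466 F4607
def n5670 : Q := act 0 n2371
theorem D5670 : act 0 n2371 = n5670 := rfl
def n5671 : Q := act 1 n2371
theorem D5671 : act 1 n2371 = n5671 := rfl
theorem F8727 : act 4 n2964 = n5671 := d20_6 (iv4 F5097) (iv1 F2470) F2466 (iv3 F2456) (iv1 F2459) D2964 (iv1 D5671) F3714 F2059 D1282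
def n5672 : Q := act 5 n2371
theorem D5672 : act 5 n2371 = n5672 := rfl
def n5673 : Q := act 7 n2371
theorem D5673 : act 7 n2371 = n5673 := rfl
theorem F8728 : act 4 n5673 = n2375 := d11_1 D5673 (iv7 D2375) (iv4 F3714)
theorem F8729 : act 6 n5673 = n5673 := d14_1 D5673 (iv7 D5673) (iv6 D2371) F2056 D2371
def n5674 : Q := act 4 n2372
theorem D5674 : act 4 n2372 = n5674 := rfl
theorem F8730 : act 6 n5674 = n5655 := d10_2 (iv6 F7720) D5674 (iv4 D5655)
def n5675 : Q := act 5 n2372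
theorem D5675 : act 5 n2372 = n5675 := rfl
theorem F8731 : act 3 n5675 = n2786 := d6_1 D5675 (iv5 D2786) F7721
theorem F8732 : act 6 n5675 = n5657 := d12_2 (iv6 F7720) D5675 (iv5 D5657) (iv6 D2362) D2361
def n5678 : Q := act 5 n2373
theorem D5678 : act 5 n2373 = n5678 := rfl
def n5679 : Q := act 6 n2373
theorem D5679 : act 6 n2373 = n5679 := rfl
def n5680 : Q := act 0 n2374
theorem D5680 : act 0 n2374 = n5680 := rfl
theorem F8734 : act 3 n5680 = n2792 := d20_5 D3017 (iv1 F4983) F4019 (iv3 F3715) D5680 F7729 (iv1 F4741) F4649 F2450 (iv1 F2473)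
theorem F8735 : act 5 n5680 = n5449 := d21_8 F7901 (iv1 D2407) (iv5 D1136) (iv6 D691) D688 D1126 D2374 D5680 (iv6 F8695) (iv1 F8696)
theorem F8736 : act 7 n5448 = n5680 := d13_0 F8735 (iv7 D5449) D5448
def n5681 : Q := act 1 n2374
theorem D5681 : act 1 n2374 = n5681 := rfl
theorem F8737 : act 5 n5436 = n5681 := d21_6 (iv5 D654) (iv1 F642) D679 D1099 (iv1 F7970) D5436 (iv1 D5681) (iv5 D2374) (iv6 D1126) (iv1 F1289)
theorem F8738 : act 2 n5681 = n5448 := d2_1 F8737 (iv5 D5448) (iv2 F8264)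
def n5682 : Q := act 4 n2374
theorem D5682 : act 4 n2374 = n5682 := rfl
theorem F8739 : act 6 n5682 = n2414 := d10_2 (iv6 F3716) D5682 (iv4 D2414)
def n5683 : Q := act 7 n2374
theorem D5683 : act 7 n2374 = n5683 := rfl
theorem F8740 : act 3 n5683 = n2804 := d8_1 D5683 (iv7 D2804) (iv3 F3715)
theorem F8741 : act 5 n5683 = n2375 := d13_1 D5683 (iv7 D2375) D2374
theorem F8742 : act 1 n5448 = n5683 := d15_1 (iv0 F8274) (iv7 D5683) (iv2 F3724)
def n5684 : Q := act 6 n2376
theorem D5684 : act 6 n2376 = n5684 := rfl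
theorem F8743 : act 3 n5684 = n2377 := d7_1 D5684 (iv6 D2377) D2376
def n5685 : Q := act 0 n2377
theorem D5685 : act 0 n2377 = n5685 := rfl
theorem F8744 : act 4 n5685 = n2960 := d20_2 (iv4 F3721) D5685 (iv3 D2960) (iv1 F2458) F2456 (iv4 F2466) (iv1 F2469) F5104 (iv3 F5103) (iv1 D2379)
theorem F8745 : act 0 n5685 = n5673 := d20_7 (iv4 F7731) (iv1 D1342) F1485 (iv3 F1479) D1336 D2960 (iv4 F8744) F8728 F3717 (iv1 F2383)
def n5686 : Q := act 1 n2377
theorem D5686 : act 1 n2377 = n5686 := rfl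
theorem F8746 : act 1 n5686 = n5673 := d15_1 D5686 (iv7 D5673) (iv2 F3720)
def n5687 : Q := act 5 n2377
theorem D5687 : act 5 n2377 = n5687 := rfl
theorem F8747 : act 2 n5687 = n5672 := d2_1 D5687 (iv5 D5672) (iv2 F3720)
def n5688 : Q := act 7 n2377
theorem D5688 : act 7 n2377 = n5688 := rfl
theorem F8748 : act 2 n5688 = n5673 := d4_1 D5688 (iv7 D5673) (iv2 F3720)
theorem F8749 : act 4 n5688 = n2381 := d11_1 D5688 (iv7 D2381) (iv4 F3721)
theorem F8750 : act 6 n5688 = n5688 := d14_1 D5688 (iv7 D5688) (iv6 D2377) F2061 D2377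
theorem F8751 : act 1 n5671 = n5688 := d15_1 D5671 (iv7 D5688) F3720
theorem F8752 : act 1 n5688 = n5670 := d15_0 (iv0 D5670) D5673 (iv2 F8748)
def n5690 : Q := act 4 n2378
theorem D5690 : act 4 n2378 = n5690 := rfl
theorem F8757 : act 6 n5690 = n5544 := d10_2 (iv6 F3722) D5690 (iv4 D5544)
def n5691 : Q := act 5 n2378
theorem D5691 : act 5 n2378 = n5691 := rfl
theorem F8759 : act 2 n5691 = n5675 := d2_1 D5691 (iv5 D5675) F8022
theorem F8760 : act 6 n5691 = n5547 := d12_2 (iv6 F3722) D5691 (iv5 D5547) (iv6 D2305) D2304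
theorem F8761 : act 7 n5691 = n5678 := d13_2 (iv7 F8024) D5691 (iv5 D5678)
def n5692 : Q := act 4 n2379
theorem D5692 : act 4 n2379 = n5692 := rfl
theorem F8763 : act 7 n5692 = n5674 := d11_2 F8019 D5692 (iv4 D5674)
def n5693 : Q := act 5 n2379
theorem D5693 : act 5 n2379 = n5693 := rfl
theorem F8764 : act 2 n5693 = n5678 := d2_1 D5693 (iv5 D5678) (iv2 F8021)
theorem F8765 : act 3 n5693 = n2801 := d6_1 D5693 (iv5 D2801) (iv3 F5103)
theorem F8766 : act 7 n5693 = n5675 := d13_2 F8019 D5693 (iv5 D5675)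
theorem F8767 : act 6 n3670 = n5693 := d21_5 F2094 (iv1 F1305) D868 D1615 D3670 (iv5 D5693) (iv1 D2379) D2380 F3725 (iv1 F3408)
theorem F8768 : act 3 n2585 = n3670 := d7_3 F8767 F8765 (iv6 F4387)
theorem F8769 : act 7 n3670 = n3686 := d8_2 (iv7 F8027) F8768 (iv3 D3686)
def n5694 : Q := act 6 n2379
theorem D5694 : act 6 n2379 = n5694 := rfl
theorem F8770 : act 2 n5694 = n5679 := d3_1 D5694 (iv6 D5679) (iv2 F8021)
theorem F8771 : act 3 n5694 = n2802 := d7_1 D5694 (iv6 D2802) (iv3 F5103)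
theorem F8772 : act 7 n5694 = n5445 := d14_2 F8019 D5694 (iv6 D5445) F8055 (iv6 F7720)
theorem F8773 : act 1 n5679 = n5082 := d15_0 (iv0 F8416) (iv7 F8772) F8770
def n5695 : Q := act 0 n2380
theorem D5695 : act 0 n2380 = n5695 := rfl
theorem F8774 : act 2 n5680 = n5695 := d15_3 (iv0 D5695) (iv0 F8274) F8736
theorem F8775 : act 7 n5695 = n5681 := d4_2 F8736 F8774 F8738
theorem F8776 : act 1 n5683 = n5695 := d15_1 F8742 F8775 F8738
def n5696 : Q := act 4 n2380
theorem D5696 : act 4 n2380 = n5696 := rfl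
theorem F8777 : act 2 n5696 = n5682 := d1_1 D5696 (iv4 D5682) (iv2 F3724)
theorem F8778 : act 6 n5696 = n5088 := d10_2 (iv6 F3725) D5696 (iv4 D5088)
def n5697 : Q := act 7 n2380
theorem D5697 : act 7 n2380 = n5697 := rfl
theorem F8779 : act 2 n5697 = n5683 := d4_1 D5697 (iv7 D5683) (iv2 F3724)
theorem F8780 : act 5 n5697 = n2381 := d13_1 D5697 (iv7 D2381) D2380
theorem F8781 : act 1 n5681 = n5697 := d15_1 D5681 (iv7 D5697) F3724
theorem F8782 : act 1 n5697 = n5680 := d15_1 F8781 (iv7 F8736) (iv2 F8738)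
def n5698 : Q := act 6 n2382
theorem D5698 : act 6 n2382 = n5698 := rfl
theorem F8783 : act 3 n5698 = n3025 := d7_1 D5698 (iv6 D3025) (iv3 F3731)
theorem F8784 : act 4 n5698 = n2897 := d10_1 D5698 (iv6 D2897) (iv4 F3733)
def n5699 : Q := act 0 n2383
theorem D5699 : act 0 n2383 = n5699 := rfl
theorem F8785 : act 2 n2925 = n5699 := d15_3 (iv0 D5699) (iv0 F7730) F4707
theorem F8786 : act 4 n5699 = n2924 := d1_2 D2925 F8785 (iv2 D2924)
def n5700 : Q := act 5 n2383
theorem D5700 : act 5 n2383 = n5700 := rfl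
theorem F8787 : act 3 n5700 = n5551 := d6_1 D5700 (iv5 D5551) (iv3 F3759)
def n5701 : Q := act 7 n2383
theorem D5701 : act 7 n2383 = n5701 := rfl
theorem F8788 : act 3 n5701 = n5552 := d8_1 D5701 (iv7 D5552) (iv3 F3759)
theorem F8789 : act 4 n5701 = n2782 := d11_1 D5701 (iv7 D2782) (iv4 F3760)
theorem F8790 : act 6 n5701 = n5701 := d14_1 D5701 (iv7 D5701) (iv6 D2383) F2068 D2383
theorem F8791 : act 0 n2925 = n5701 := d20_7 (iv4 F5104) (iv1 D1320) F1473 F744 D763 D1324 D2925 F8789 F4363 (iv1 F2377)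
def n5702 : Q := act 6 n2384
theorem D5702 : act 6 n2384 = n5702 := rfl
theorem F8792 : act 2 n5702 = n5554 := d3_1 D5702 (iv6 D5554) (iv2 F3761)
theorem F8793 : act 3 n5702 = n2386 := d7_1 D5702 (iv6 D2386) D2384
theorem F8794 : act 4 n5702 = n5684 := d10_1 D5702 (iv6 D5684) (iv4 F3762)
def n5703 : Q := act 6 n2385
theorem D5703 : act 6 n2385 = n5703 := rfl
theorem F8795 : act 2 n5703 = n5698 := d3_1 D5703 (iv6 D5698) (iv2 F3764)
theorem F8796 : act 4 n5703 = n2895 := d10_1 D5703 (iv6 D2895) (iv4 F3765)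
def n5704 : Q := act 1 n2386
theorem D5704 : act 1 n2386 = n5704 := rfl
theorem F8797 : act 1 n5704 = n5701 := d15_1 D5704 (iv7 D5701) (iv2 F3769)
theorem F8798 : act 7 n5704 = n5699 := d15_2 (iv0 F4895) D5704 (iv2 F8785)
theorem F8799 : act 2 n3005 = n5704 := d4_3 F8798 (iv2 F8785) (iv7 F4707)
theorem F8800 : act 4 n3004 = n5704 := d11_3 F8798 F8786 (iv7 F4703)
def n5705 : Q := act 5 n2386
theorem D5705 : act 5 n2386 = n5705 := rfl
theorem F8801 : act 2 n5705 = n5700 := d2_1 D5705 (iv5 D5700) (iv2 F3769)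
def n5706 : Q := act 7 n2386
theorem D5706 : act 7 n2386 = n5706 := rfl
theorem F8802 : act 2 n5706 = n5701 := d4_1 D5706 (iv7 D5701) (iv2 F3769)
theorem F8803 : act 4 n5706 = n5129 := d11_1 D5706 (iv7 D5129) (iv4 F3770)
theorem F8804 : act 6 n5706 = n5706 := d14_1 D5706 (iv7 D5706) (iv6 D2386) F2072 D2386
theorem F8805 : act 1 n3005 = n5706 := d15_1 (iv0 F7730) (iv7 D5706) F3769
theorem F8806 : act 1 n5706 = n5699 := d15_1 F8805 (iv7 F8798) (iv2 F8799)
def n5707 : Q := act 6 n2387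
theorem D5707 : act 6 n2387 = n5707 := rfl
theorem F8807 : act 2 n5707 = n5374 := d3_1 D5707 (iv6 D5374) F3773
theorem F8808 : act 3 n5707 = n5172 := d7_1 D5707 (iv6 D5172) (iv3 F3772)
def n5708 : Q := act 6 n2388
theorem D5708 : act 6 n2388 = n5708 := rfl
theorem F8809 : act 2 n5708 = n2390 := d3_1 D5708 (iv6 D2390) D2388
theorem F8810 : act 3 n5708 = n3089 := d7_1 D5708 (iv6 D3089) (iv3 F3776)
theorem F8811 : act 4 n5708 = n2427 := d10_1 D5708 (iv6 D2427) (iv4 F3777)
def n5709 : Q := act 6 n2389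
theorem D5709 : act 6 n2389 = n5709 := rfl
theorem F8812 : act 3 n5709 = n2391 := d7_1 D5709 (iv6 D2391) (iv3 F3781)
theorem F8813 : act 4 n5709 = n3468 := d10_1 D5709 (iv6 D3468) (iv4 F3783)
def n5710 : Q := act 0 n2390
theorem D5710 : act 0 n2390 = n5710 := rfl
def n5711 : Q := act 1 n2390
theorem D5711 : act 1 n2390 = n5711 := rfl
def n5712 : Q := act 5 n2390
theorem D5712 : act 5 n2390 = n5712 := rfl
theorem F8814 : act 3 n5712 = n2394 := d6_1 D5712 (iv5 D2394) (iv3 F3786)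
def n5713 : Q := act 7 n2390
theorem D5713 : act 7 n2390 = n5713 := rfl
theorem F8815 : act 3 n5713 = n2395 := d8_1 D5713 (iv7 D2395) (iv3 F3786)
theorem F8816 : act 4 n5713 = n2431 := d11_1 D5713 (iv7 D2431) (iv4 F3787)
theorem F8817 : act 6 n5713 = n5713 := d14_1 D5713 (iv7 D5713) (iv6 D2390) F2074 D2390
def n5714 : Q := act 0 n2391
theorem D5714 : act 0 n2391 = n5714 := rfl
def n5715 : Q := act 1 n2391
theorem D5715 : act 1 n2391 = n5715 := rfl
def n5716 : Q := act 5 n2391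
theorem D5716 : act 5 n2391 = n5716 := rfl
theorem F8818 : act 6 n5716 = n2394 := d12_2 D2391 D5716 (iv5 D2394) (iv6 D1133) D1132
def n5717 : Q := act 7 n2391
theorem D5717 : act 7 n2391 = n5717 := rfl
theorem F8819 : act 6 n5717 = n5717 := d14_1 D5717 (iv7 D5717) (iv6 D2391) F2075 D2391
def n5718 : Q := act 5 n2392
theorem D5718 : act 5 n2392 = n5718 := rfl
def n5719 : Q := act 6 n2392
theorem D5719 : act 6 n2392 = n5719 := rfl
theorem F8820 : act 4 n5719 = n2840 := d10_1 D5719 (iv6 D2840) (iv4 F5175)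
def n5720 : Q := act 3 n2393
theorem D5720 : act 3 n2393 = n5720 := rfl
def n5721 : Q := act 5 n2393
theorem D5721 : act 5 n2393 = n5721 := rfl
def n5722 : Q := act 6 n2393
theorem D5722 : act 6 n2393 = n5722 := rfl
def n5723 : Q := act 0 n2394
theorem D5723 : act 0 n2394 = n5723 := rfl
def n5724 : Q := act 1 n2394
theorem D5724 : act 1 n2394 = n5724 := rfl
def n5725 : Q := act 4 n2394
theorem D5725 : act 4 n2394 = n5725 := rfl
def n5726 : Q := act 7 n2394
theorem D5726 : act 7 n2394 = n5726 := rfl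
theorem F8821 : act 5 n5726 = n2395 := d13_1 D5726 (iv7 D2395) D2394
def n5727 : Q := act 0 n2398
theorem D5727 : act 0 n2398 = n5727 := rfl
theorem F8822 : act 1 n2403 = n5727 := d15_0 (iv0 D5727) (iv7 F5149) F5150
def n5728 : Q := act 1 n2398
theorem D5728 : act 1 n2398 = n5728 := rfl
theorem F8823 : act 1 n5728 = n2403 := d15_1 D5728 (iv7 F7549) F7548
theorem F8824 : act 4 n3240 = n5728 := d20_0 (iv1 D5728) (iv4 D2398) (iv3 F5122) (iv1 F1935) F1466 (iv4 F1507) (iv1 F2105) (iv4 F5138) D2101 F5169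
def n5729 : Q := act 3 n2398
theorem D5729 : act 3 n2398 = n5729 := rfl
theorem F8825 : act 4 n5729 = n2433 := d5_2 D2398 D5729 (iv3 D2433) F5127 F5122
theorem F8826 : act 7 n5729 = n3156 := d8_2 F5149 D5729 F4948
def n5730 : Q := act 5 n2398
theorem D5730 : act 5 n2398 = n5730 := rfl
def n5731 : Q := act 6 n2398
theorem D5731 : act 6 n2398 = n5731 := rfl
theorem F8827 : act 4 n5731 = n2400 := d10_1 D5731 (iv6 D2400) D2398
def n5732 : Q := act 1 n2399
theorem D5732 : act 1 n2399 = n5732 := rfl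
theorem F8828 : act 1 n5732 = n2404 := d15_1 D5732 (iv7 F7551) F7550
theorem F8829 : act 7 n5732 = n5547 := d15_2 (iv0 F8692) D5732 (iv2 F8689)
theorem F8830 : act 5 n5548 = n5732 := d13_3 F8829 (iv5 D5547) D5548
theorem F8831 : act 6 n5732 = n3671 := d21_3 (iv5 F8684) (iv1 F8688) F8830 (iv1 D3671) (iv6 D1615) (iv5 D868) F1220 D1034 (iv6 F3394) D5083
def n5733 : Q := act 4 n2399
theorem D5733 : act 4 n2399 = n5733 := rfl
def n5734 : Q := act 6 n2399
theorem D5734 : act 6 n2399 = n5734 := rfl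
theorem F8832 : act 3 n5734 = n5106 := d7_1 D5734 (iv6 D5106) (iv3 F5125)
def n5735 : Q := act 0 n2400
theorem D5735 : act 0 n2400 = n5735 := rfl
def n5736 : Q := act 1 n2400
theorem D5736 : act 1 n2400 = n5736 := rfl
theorem F8833 : act 6 n5435 = n5736 := d21_3 F2024 (iv1 F7970) D5435 (iv1 D5736) (iv6 D2400) D2399 F8692 (iv5 D5657) (iv6 D2362) (iv1 F7715)
theorem F8834 : act 2 n5736 = n5445 := d3_1 F8833 (iv6 D5445) (iv2 F8262)
theorem F8835 : act 7 n5736 = n5679 := d14_2 (iv7 F8263) F8833 (iv6 D5679) (iv7 F8024) F3722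
theorem E1187 : n5735 = n5694 := ((c15_4 (iv0 D5735) D5736 F8835 (iv2 F8770))).symm
theorem F8836 : act 1 n5694 = n2400 := (sb E1187 (iv0 D5735))
def n5737 : Q := act 7 n2400
theorem D5737 : act 7 n2400 = n5737 := rfl
theorem F8837 : act 3 n5737 = n5108 := d8_1 D5737 (iv7 D5108) (iv3 F5126)
theorem F8838 : act 5 n5737 = n5327 := d13_1 D5737 F8085 (iv5 F7905)
theorem F8839 : act 6 n5737 = n5462 := d14_1 D5737 F8292 (iv6 D2860) (iv7 F5119) D2400
theorem F8840 : act 1 n5445 = n5737 := d15_1 (iv0 F8416) (iv7 D5737) (iv2 F7552)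
theorem F8841 : act 1 n5737 = n5679 := d15_1 F8840 (iv7 F8835) F8834
def n5738 : Q := act 5 n2402
theorem D5738 : act 5 n2402 = n5738 := rfl
theorem F8842 : act 2 n5738 = n5110 := d2_1 D5738 (iv5 D5110) F5117
theorem F8843 : act 3 n5738 = n2404 := d6_1 D5738 (iv5 D2404) D2402
def n5739 : Q := act 6 n2402
theorem D5739 : act 6 n2402 = n5739 := rfl
theorem F8844 : act 2 n5739 = n5111 := d3_1 D5739 (iv6 D5111) F5117
theorem F8845 : act 3 n5739 = n2405 := d7_1 D5739 (iv6 D2405) D2402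
theorem F8846 : act 4 n5739 = n5722 := d10_1 D5739 (iv6 D5722) (iv4 F4925)
def n5740 : Q := act 3 n2403
theorem D5740 : act 3 n2403 = n5740 := rfl
theorem F8847 : act 4 n5740 = n5720 := d5_2 D2403 D5740 (iv3 D5720) (iv4 F4925) (iv3 D2402)
def n5741 : Q := act 5 n2403
theorem D5741 : act 5 n2403 = n5741 := rfl
def n5742 : Q := act 6 n2403
theorem D5742 : act 6 n2403 = n5742 := rfl
theorem F8848 : act 4 n5742 = n2405 := d10_1 D5742 (iv6 D2405) D2403
def n5743 : Q := act 4 n2404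
theorem D5743 : act 4 n2404 = n5743 := rfl
def n5744 : Q := act 4 n2406
theorem D5744 : act 4 n2406 = n5744 := rfl
def n5745 : Q := act 6 n2406
theorem D5745 : act 6 n2406 = n5745 := rfl
theorem F8849 : act 3 n5745 = n5114 := d7_1 D5745 (iv6 D5114) (iv3 F5147)
def n5746 : Q := act 3 n2407
theorem D5746 : act 3 n2407 = n5746 := rfl
theorem F8850 : act 2 n5746 = n5116 := d0_1 D5746 (iv3 D5116) (iv2 F7874) D2870 F7892
def n5747 : Q := act 4 n2407
theorem D5747 : act 4 n2407 = n5747 := rfl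
def n5748 : Q := act 6 n2407
theorem D5748 : act 6 n2407 = n5748 := rfl
def n5749 : Q := act 0 n2408
theorem D5749 : act 0 n2408 = n5749 := rfl
theorem F8851 : act 4 n5749 = n2866 := d20_8 (iv4 F7637) (iv1 F7638) (iv4 D2493) F5184 (iv1 D1164) (iv3 F2078) D2408 D5749 (iv3 D2866) (iv1 F3434)
def n5750 : Q := act 1 n2408
theorem D5750 : act 1 n2408 = n5750 := rfl
theorem F8852 : act 4 n5746 = n5750 := d20_6 D2488 (iv1 F7639) F7637 (iv3 F7556) (iv1 F7559) D5746 (iv1 D5750) (iv4 D2408) F2078 D1163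
def n5751 : Q := act 3 n2408
theorem D5751 : act 3 n2408 = n5751 := rfl
theorem F8853 : act 4 n5751 = n2497 := d5_2 D2408 D5751 (iv3 D2497) (iv4 D1165) (iv3 F2078)
theorem F8854 : act 6 n5751 = n2420 := d7_2 (iv6 F3792) D5751 (iv3 D2420)
def n5752 : Q := act 5 n2408
theorem D5752 : act 5 n2408 = n5752 := rfl
def n5753 : Q := act 7 n2408
theorem D5753 : act 7 n2408 = n5753 := rfl
theorem F8855 : act 4 n5753 = n2409 := d11_1 D5753 (iv7 D2409) D2408
def n5754 : Q := act 6 n2409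
theorem D5754 : act 6 n2409 = n5754 := rfl
theorem F8856 : act 3 n5754 = n2500 := d7_1 D5754 (iv6 D2500) (iv3 F3793)
theorem F8857 : act 5 n5754 = n5754 := d12_1 D5754 (iv6 D5754) F3794 F2081 (iv5 F3794)
theorem F8858 : act 7 n5754 = n2423 := d14_2 D2409 D5754 (iv6 D2423) (iv7 D1144) (iv6 F2079)
def n5755 : Q := act 0 n2410
theorem D5755 : act 0 n2410 = n5755 := rfl
theorem F8859 : act 4 n5755 = n2580 := d18_3 F2176 D2410 D5755 F4132 (iv4 F2698) (iv0 D1554) (iv4 F2172) (iv0 D1184) D1185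
theorem F8860 : act 1 n2412 = n5755 := d15_0 (iv0 D5755) F3795 (iv2 F3798)
theorem F8861 : act 2 n3575 = n5755 := d1_3 F8859 (iv2 F4133) D3575
theorem F8862 : act 7 n3577 = n5755 := d11_0 F8859 F4131 D3577
def n5756 : Q := act 1 n2410
theorem D5756 : act 1 n2410 = n5756 := rfl
theorem F8863 : act 1 n5756 = n2412 := d15_1 D5756 (iv7 F7562) F7561
theorem F8864 : act 7 n5756 = n3575 := d15_2 (iv0 D5755) D5756 F8861
theorem F8865 : act 4 n5756 = n2579 := d18_7 F2416 (iv4 F1240) (iv1 F2409) (iv4 F1298) D1138 D2410 D5756 (iv0 D2579) (iv5 D1209)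
theorem F8866 : act 2 n3577 = n5756 := d1_3 F8865 (iv2 F4126) D3577
theorem F8867 : act 6 n5198 = n5756 := d10_0 F8865 (iv6 F4128) D5198
def n5757 : Q := act 3 n2410
theorem D5757 : act 3 n2410 = n5757 := rfl
theorem F8868 : act 4 n5757 = n2562 := d5_2 D2410 D5757 (iv3 D2562) (iv4 D1197) (iv3 F2082)
theorem F8869 : act 7 n5757 = n3667 := d8_2 (iv7 F3795) D5757 (iv3 D3667)
def n5758 : Q := act 5 n2410
theorem D5758 : act 5 n2410 = n5758 := rfl
theorem F8870 : act 7 n5758 = n3668 := d13_2 (iv7 F3795) D5758 (iv5 D3668)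
theorem F8871 : act 1 n5758 = n5145 := d17_6 (iv1 D1142) (iv5 D694) D692 D1138 D2410 D5758 (iv5 D5145) (iv0 F3801) (iv4 D2415)
def n5759 : Q := act 6 n2410
theorem D5759 : act 6 n2410 = n5759 := rfl
theorem F8872 : act 4 n5759 = n2411 := d10_1 D5759 (iv6 D2411) D2410
def n5760 : Q := act 0 n2411
theorem D5760 : act 0 n2411 = n5760 := rfl
def n5761 : Q := act 1 n2411
theorem D5761 : act 1 n2411 = n5761 := rfl
def n5762 : Q := act 7 n2411
theorem D5762 : act 7 n2411 = n5762 := rfl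
theorem F8873 : act 3 n5762 = n2566 := d8_1 D5762 (iv7 D2566) (iv3 F3796)
theorem F8874 : act 5 n5762 = n3672 := d13_1 D5762 (iv7 D3672) (iv5 F3797)
theorem F8875 : act 6 n5762 = n3672 := d14_1 D5762 (iv7 D3672) (iv6 D1615) (iv7 F2083) D2411
def n5763 : Q := act 3 n2412
theorem D5763 : act 3 n2412 = n5763 := rfl
def n5764 : Q := act 5 n2412
theorem D5764 : act 5 n2412 = n5764 := rfl
theorem F8876 : act 2 n5764 = n3668 := d2_1 D5764 (iv5 D3668) (iv2 F3798)
theorem F8877 : act 4 n5764 = n3580 := d16_2 D2412 D5764 (iv5 D3580) (iv4 D1578) (iv5 D854) (iv4 F1298) D1138 F2083 (iv2 F2090)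
theorem F8878 : act 0 n5764 = n5145 := d17_2 (iv1 F8860) D5764 (iv5 D5145) (iv4 D2117) (iv5 D1046) (iv0 F2416) D1209 D2580 (iv4 F8859)
def n5765 : Q := act 6 n2412
theorem D5765 : act 6 n2412 = n5765 := rfl
theorem F8879 : act 2 n5765 = n3669 := d3_1 D5765 (iv6 D3669) (iv2 F3798)
theorem F8880 : act 4 n5765 = n2413 := d10_1 D5765 (iv6 D2413) D2412
def n5766 : Q := act 0 n2413
theorem D5766 : act 0 n2413 = n5766 := rfl
theorem F8881 : act 6 n5766 = n5678 := d21_5 (iv5 D1571) (iv1 F1605) D1140 D2413 D5766 (iv5 D5678) (iv1 D2373) D2374 F3716 F2734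
theorem F8882 : act 2 n3670 = n5766 := d3_3 F8881 (iv2 F8764) (iv6 F8767)
theorem F8883 : act 7 n3671 = n5766 := d14_0 F8881 (iv7 F8761) F8760 (iv7 F8829) F8831
theorem F8884 : act 2 n3686 = n3671 := d4_3 F8883 (iv2 F8882) F8769
theorem F8885 : act 1 n2413 = n3686 := d15_1 (iv0 D5766) (iv7 F8769) F8882
theorem F8886 : act 1 n3686 = n3672 := d15_1 F8885 (iv7 D3672) (iv2 F3799)
theorem F8887 : act 1 n3672 = n5766 := d15_1 F8886 (iv7 F8883) (iv2 F8884)
def n5767 : Q := act 7 n2413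
theorem D5767 : act 7 n2413 = n5767 := rfl
theorem F8888 : act 2 n5767 = n3672 := d4_1 D5767 (iv7 D3672) (iv2 F3799)
theorem F8889 : act 1 n3671 = n5767 := d15_1 D3671 (iv7 D5767) F3799
theorem F8890 : act 1 n5767 = n3670 := d15_1 F8889 F8769 F8884
def n5768 : Q := act 3 n2414
theorem D5768 : act 3 n2414 = n5768 := rfl
theorem F8891 : act 4 n5768 = n2524 := d5_2 D2414 D5768 (iv3 D2524) F2147 F2092
theorem F8892 : act 7 n5768 = n3423 := d8_2 F4475 D5768 F5412
def n5769 : Q := act 5 n2414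
theorem D5769 : act 5 n2414 = n5769 := rfl
def n5770 : Q := act 3 n2415
theorem D5770 : act 3 n2415 = n5770 := rfl
def n5771 : Q := act 5 n2415
theorem D5771 : act 5 n2415 = n5771 := rfl
def n5772 : Q := act 6 n2415
theorem D5772 : act 6 n2415 = n5772 := rfl
theorem F8893 : act 4 n5772 = n2417 := d10_1 D5772 (iv6 D2417) D2415
def n5773 : Q := act 0 n2417
theorem D5773 : act 0 n2417 = n5773 := rfl
def n5774 : Q := act 1 n2417
theorem D5774 : act 1 n2417 = n5774 := rfl
def n5775 : Q := act 7 n2417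
theorem D5775 : act 7 n2417 = n5775 := rfl
theorem F8894 : act 5 n5775 = n5775 := d13_1 D5775 (iv7 D5775) F3809
theorem F8895 : act 6 n5775 = n5697 := d14_1 D5775 (iv7 D5697) F3725 F3409 D2417
def n5776 : Q := act 5 n2418
theorem D5776 : act 5 n2418 = n5776 := rfl
theorem F8896 : act 4 n5776 = n5771 := d16_2 (iv4 F3810) D5776 (iv5 D5771) (iv4 D2415) D2416 F3805 (iv5 F3467) F3466 (iv2 F3445)
def n5777 : Q := act 6 n2418
theorem D5777 : act 6 n2418 = n5777 := rfl
theorem F8897 : act 4 n5777 = n2781 := d10_1 D5777 F4362 (iv4 F3810)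
def n5778 : Q := act 3 n2419
theorem D5778 : act 3 n2419 = n5778 := rfl
theorem F8898 : act 4 n5778 = n5770 := d5_2 (iv4 F3811) D5778 (iv3 D5770) (iv4 D2415) (iv3 F3469)
def n5779 : Q := act 5 n2419
theorem D5779 : act 5 n2419 = n5779 := rfl
theorem F8899 : act 4 n5779 = n5769 := d9_1 D5779 (iv5 D5769) (iv4 D2414) F2091 F1555 (iv5 F2398) (iv4 F3810) D5776 F8896 (iv5 D5771) (iv4 D2415) D2416 F3805 (iv5 F3467) (iv4 F3811)
def n5780 : Q := act 6 n2419
theorem D5780 : act 6 n2419 = n5780 := rfl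
theorem F8900 : act 4 n5780 = n5166 := d10_1 D5780 (iv6 D5166) (iv4 F3811)
def n5781 : Q := act 0 n2420
theorem D5781 : act 0 n2420 = n5781 := rfl
def n5782 : Q := act 1 n2420
theorem D5782 : act 1 n2420 = n5782 := rfl
def n5783 : Q := act 2 n2420
theorem D5783 : act 2 n2420 = n5783 := rfl
theorem F8901 : act 4 n5783 = n2532 := d1_2 (iv4 F3812) D5783 (iv2 D2532)
def n5784 : Q := act 5 n2420
theorem D5784 : act 5 n2420 = n5784 := rfl
theorem F8902 : act 3 n5784 = n2421 := d6_1 D5784 (iv5 D2421) D2420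
def n5785 : Q := act 7 n2420
theorem D5785 : act 7 n2420 = n5785 := rfl
theorem F8903 : act 3 n5785 = n2422 := d8_1 D5785 (iv7 D2422) D2420
theorem F8904 : act 4 n5785 = n2534 := d11_1 D5785 (iv7 D2534) (iv4 F3812)
def n5786 : Q := act 1 n2421
theorem D5786 : act 1 n2421 = n5786 := rfl
theorem F8905 : act 5 n5786 = n5164 := d17_7 F2754 (iv5 D1140) (iv1 D693) D694 D1143 D2421 D5786 F7682 F5614
theorem F8906 : act 4 n5758 = n5786 := d9_15 F8905 (iv4 D5164) (iv5 D2123) F2402 D1140 D2412 D5764 F8877 (iv5 D3580) (iv4 D1578) (iv5 D854) (iv4 F1298) D1138 D2410 D5758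
def n5787 : Q := act 4 n2421
theorem D5787 : act 4 n2421 = n5787 := rfl
theorem F8907 : act 5 n5787 = n3564 := d16_3 D1143 D2421 D5787 (iv4 D3564) (iv5 D1571) F1601 D1571 F2733 F1925
theorem F8908 : act 0 n5787 = n5786 := d18_2 (iv1 D5786) D5787 (iv4 F8906) (iv5 D5758) (iv4 D2410) (iv0 F2176) D2541 (iv0 F7681) (iv5 F8905)
theorem F8909 : act 1 n5787 = n3580 := d18_8 D3578 F5614 F2754 D2412 D5764 F8877 F5617 D5787 (iv5 D3580)
theorem F8910 : act 7 n5787 = n5091 := d15_2 D5786 (iv0 F8908) F7577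
def n5788 : Q := act 6 n2421
theorem D5788 : act 6 n2421 = n5788 := rfl
def n5789 : Q := act 7 n2421
theorem D5789 : act 7 n2421 = n5789 := rfl
theorem F8911 : act 2 n5789 = n5787 := d4_1 D5789 F8910 F7577
theorem F8912 : act 4 n5789 = n5091 := d11_1 D5789 (iv7 F8910) (iv4 D5787)
theorem F8913 : act 5 n5789 = n2422 := d13_1 D5789 (iv7 D2422) D2421
def n5790 : Q := act 6 n2422
theorem D5790 : act 6 n2422 = n5790 := rfl
theorem F8914 : act 4 n5790 = n2423 := d10_1 D5790 (iv6 D2423) (iv4 F3813)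
def n5791 : Q := act 0 n2423
theorem D5791 : act 0 n2423 = n5791 := rfl
theorem F8915 : act 6 n5791 = n5293 := d21_5 (iv5 D2084) (iv1 F1920) (iv5 F2094) D2423 D5791 (iv5 D5293) (iv1 D2163) D2164 F3525 F3405
theorem F8916 : act 3 n3568 = n5791 := d7_3 F8915 F7902 (iv6 F5595)
def n5792 : Q := act 1 n2423
theorem D5792 : act 1 n2423 = n5792 := rfl
def n5793 : Q := act 6 n2424
theorem D5793 : act 6 n2424 = n5793 := rfl
theorem F8917 : act 2 n5793 = n3092 := d3_1 D5793 (iv6 D3092) (iv2 F3816)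
theorem F8918 : act 3 n5793 = n2425 := d7_1 D5793 (iv6 D2425) D2424
theorem F8919 : act 4 n5793 = n3084 := d10_1 D5793 (iv6 D3084) (iv4 F3817)
def n5794 : Q := act 0 n2425
theorem D5794 : act 0 n2425 = n5794 := rfl
def n5795 : Q := act 1 n2425
theorem D5795 : act 1 n2425 = n5795 := rfl
def n5796 : Q := act 5 n2425
theorem D5796 : act 5 n2425 = n5796 := rfl
theorem F8920 : act 6 n5796 = n3077 := d12_2 D2425 D5796 (iv5 D3077) (iv6 D1378) (iv5 F3744)
def n5797 : Q := act 7 n2425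
theorem D5797 : act 7 n2425 = n5797 := rfl
theorem F8921 : act 6 n5797 = n5797 := d14_1 D5797 (iv7 D5797) (iv6 D2425) F2099 D2425
def n5798 : Q := act 0 n2426
theorem D5798 : act 0 n2426 = n5798 := rfl
def n5799 : Q := act 1 n2426
theorem D5799 : act 1 n2426 = n5799 := rfl
theorem F8922 : act 1 n5799 = n5797 := d15_1 D5799 (iv7 D5797) (iv2 F3820)
def n5800 : Q := act 5 n2426
theorem D5800 : act 5 n2426 = n5800 := rfl
theorem F8923 : act 2 n5800 = n5796 := d2_1 D5800 (iv5 D5796) (iv2 F3820)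
theorem F8924 : act 3 n5800 = n5220 := d6_1 D5800 (iv5 D5220) (iv3 F3821)
theorem F8925 : act 6 n5800 = n3082 := d12_2 D2426 D5800 (iv5 D3082) (iv6 D1382) (iv5 F3749)
def n5801 : Q := act 7 n2426
theorem D5801 : act 7 n2426 = n5801 := rfl
theorem F8926 : act 2 n5801 = n5797 := d4_1 D5801 (iv7 D5797) (iv2 F3820)
theorem F8927 : act 3 n5801 = n5221 := d8_1 D5801 (iv7 D5221) (iv3 F3821)
theorem F8928 : act 4 n5801 = n5307 := d11_1 D5801 (iv7 D5307) (iv4 F3822)
theorem F8929 : act 6 n5801 = n5801 := d14_1 D5801 (iv7 D5801) (iv6 D2426) F2097 D2426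
theorem F8930 : act 1 n5797 = n5798 := d15_0 (iv0 D5798) D5801 F8926
theorem F8931 : act 1 n5795 = n5801 := d15_1 D5795 (iv7 D5801) F3820
theorem F8932 : act 1 n5801 = n5794 := d15_0 (iv0 D5794) D5797 (iv2 F8926)
def n5802 : Q := act 0 n2427
theorem D5802 : act 0 n2427 = n5802 := rfl
def n5803 : Q := act 1 n2427
theorem D5803 : act 1 n2427 = n5803 := rfl
theorem F8933 : act 1 n5803 = n2431 := d15_1 D5803 (iv7 D2431) (iv2 F3823)
def n5804 : Q := act 5 n2427
theorem D5804 : act 5 n2427 = n5804 := rfl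
theorem F8934 : act 2 n5804 = n2430 := d2_1 D5804 (iv5 D2430) (iv2 F3823)
theorem F8935 : act 3 n5804 = n3087 := d6_1 D5804 (iv5 D3087) (iv3 F3824)
def n5805 : Q := act 7 n2427
theorem D5805 : act 7 n2427 = n5805 := rfl
theorem F8936 : act 2 n5805 = n2431 := d4_1 D5805 (iv7 D2431) (iv2 F3823)
theorem F8937 : act 3 n5805 = n3088 := d8_1 D5805 (iv7 D3088) (iv3 F3824)
theorem F8938 : act 6 n5805 = n5805 := d14_1 D5805 (iv7 D5805) (iv6 D2427) F2101 D2427
theorem F8939 : act 1 n2431 = n5802 := d15_0 (iv0 D5802) D5805 F8936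
theorem F8940 : act 1 n2429 = n5805 := d15_1 D2429 (iv7 D5805) F3823
theorem F8941 : act 1 n5805 = n2428 := d15_0 (iv0 D2428) D2431 (iv2 F8936)
def n5806 : Q := act 2 n2428
theorem D5806 : act 2 n2428 = n5806 := rfl
theorem F8942 : act 7 n2429 = n5806 := d15_2 (iv0 D2428) D2429 (iv2 D5806)
def n5807 : Q := act 3 n2428
theorem D5807 : act 3 n2428 = n5807 := rfl
def n5808 : Q := act 4 n2428
theorem D5808 : act 4 n2428 = n5808 := rfl
def n5809 : Q := act 5 n2428
theorem D5809 : act 5 n2428 = n5809 := rfl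
def n5810 : Q := act 6 n2428
theorem D5810 : act 6 n2428 = n5810 := rfl
def n5811 : Q := act 7 n2428
theorem D5811 : act 7 n2428 = n5811 := rfl
theorem F8943 : act 2 n5811 = n2429 := d4_1 D5811 F8942 (iv2 D5806)
def n5812 : Q := act 3 n2429
theorem D5812 : act 3 n2429 = n5812 := rfl
def n5813 : Q := act 4 n2429
theorem D5813 : act 4 n2429 = n5813 := rfl
def n5814 : Q := act 5 n2429
theorem D5814 : act 5 n2429 = n5814 := rfl
def n5815 : Q := act 6 n2429
theorem D5815 : act 6 n2429 = n5815 := rfl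
def n5816 : Q := act 0 n2430
theorem D5816 : act 0 n2430 = n5816 := rfl
def n5817 : Q := act 1 n2430
theorem D5817 : act 1 n2430 = n5817 := rfl
def n5818 : Q := act 4 n2430
theorem D5818 : act 4 n2430 = n5818 := rfl
def n5819 : Q := act 7 n2430
theorem D5819 : act 7 n2430 = n5819 := rfl
theorem F8944 : act 3 n5819 = n2445 := d8_1 D5819 (iv7 D2445) (iv3 F3825)
theorem F8945 : act 5 n5819 = n2431 := d13_1 D5819 (iv7 D2431) D2430
def n5820 : Q := act 0 n2433
theorem D5820 : act 0 n2433 = n5820 := rfl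
theorem F8946 : act 1 n3155 = n5820 := d15_0 (iv0 D5820) F5129 D3155
def n5821 : Q := act 1 n2433
theorem D5821 : act 1 n2433 = n5821 := rfl
def n5822 : Q := act 2 n2433
theorem D5822 : act 2 n2433 = n5822 := rfl
theorem F8947 : act 3 n5822 = n3133 := d0_2 D2433 D5822 (iv2 D3133) (iv3 D1398) F5128
theorem F8948 : act 7 n5822 = n3155 := d4_2 (iv7 F5129) D5822 (iv2 D3155)
theorem F8949 : act 1 n5822 = n3153 := d15_0 (iv0 D3153) (iv7 F5129) D5822
theorem F8950 : act 1 n5821 = n3155 := d15_1 D5821 (iv7 F8948) (iv2 D5822)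
theorem F8951 : act 1 n3154 = n5822 := d15_1 D3154 F8948 (iv2 D3155)
def n5823 : Q := act 5 n2433
theorem D5823 : act 5 n2433 = n5823 := rfl
theorem F8952 : act 3 n5823 = n2435 := d6_1 D5823 (iv5 D2435) D2433
theorem F8953 : act 7 n5823 = n3157 := d13_2 (iv7 F5129) D5823 (iv5 D3157)
def n5824 : Q := act 6 n2433
theorem D5824 : act 6 n2433 = n5824 := rfl
theorem F8954 : act 3 n5824 = n2436 := d7_1 D5824 (iv6 D2436) D2433
def n5825 : Q := act 1 n2435
theorem D5825 : act 1 n2435 = n5825 := rfl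
theorem F8955 : act 1 n5825 = n2440 := d15_1 D5825 F5140 (iv2 F5130)
theorem F8956 : act 7 n5825 = n3144 := d15_2 F8233 D5825 (iv2 F8232)
theorem F8957 : act 5 n5825 = n5597 := d17_7 (iv1 F7981) F7983 F7999 (iv5 D2098) (iv4 F5127) D2435 D5825 F8549 F4996
theorem F8958 : act 2 n3145 = n5825 := d2_3 F8957 F8545 F8239
def n5826 : Q := act 4 n2435
theorem D5826 : act 4 n2435 = n5826 := rfl
theorem F8959 : act 2 n5826 = n3146 := d1_1 D5826 (iv4 D3146) (iv2 F5130)
theorem F8960 : act 7 n5826 = n3159 := d11_2 (iv7 F5131) D5826 (iv4 D3159)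
def n5827 : Q := act 6 n2435
theorem D5827 : act 6 n2435 = n5827 := rfl
theorem F8961 : act 2 n5827 = n3147 := d3_1 D5827 (iv6 D3147) (iv2 F5130)
def n5828 : Q := act 0 n2436
theorem D5828 : act 0 n2436 = n5828 := rfl
def n5829 : Q := act 1 n2436
theorem D5829 : act 1 n2436 = n5829 := rfl
theorem F8962 : act 1 n5829 = n3151 := d15_1 D5829 (iv7 D3151) (iv2 F5132)
theorem F8963 : act 4 n5829 = n2471 := d17_9 (iv1 D2471) F2688 (iv1 D1547) (iv5 D837) (iv4 F1578) D1534 D3485 (iv5 F5470) D5829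
theorem F8964 : act 6 n2687 = n5829 := d21_3 D1086 D2230 F4970 (iv1 D5829) (iv6 D2436) D2435 (iv1 F8233) (iv5 D5419) (iv6 D2229) (iv1 D1085)
theorem F8965 : act 2 n5829 = n3150 := d3_1 F8964 (iv6 F4942) F4631
theorem F8966 : act 7 n5829 = n3010 := d14_2 F4630 F8964 (iv6 D3010) F4548 (iv6 F4360)
theorem E1188 : n5828 = n2945 := ((c15_4 (iv0 D5828) D5829 F8966 F4714)).symm
theorem F8967 : act 1 n2945 = n2436 := (sb E1188 (iv0 D5828))
def n5830 : Q := act 7 n2436
theorem D5830 : act 7 n2436 = n5830 := rfl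
theorem F8968 : act 2 n5830 = n3151 := d4_1 D5830 (iv7 D3151) (iv2 F5132)
theorem F8969 : act 4 n5830 = n5108 := d11_1 D5830 (iv7 D5108) (iv4 F5133)
theorem F8970 : act 5 n5830 = n3121 := d13_1 D5830 (iv7 F5469) (iv5 F5470)
theorem F8971 : act 6 n5830 = n3162 := d14_1 D5830 (iv7 D3162) (iv6 D1406) F5134 D2436
theorem F8972 : act 1 n3150 = n5830 := d15_1 D3150 (iv7 D5830) F5132
theorem F8973 : act 1 n5830 = n3010 := d15_1 F8972 (iv7 F8966) F8965
def n5831 : Q := act 0 n2438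
theorem D5831 : act 0 n2438 = n5831 := rfl
theorem F8974 : act 1 n3133 = n5831 := d15_0 (iv0 D5831) F5137 D3133
def n5832 : Q := act 1 n2438
theorem D5832 : act 1 n2438 = n5832 := rfl
def n5833 : Q := act 2 n2438
theorem D5833 : act 2 n2438 = n5833 := rfl
theorem F8975 : act 3 n5833 = n3155 := d0_2 D2438 D5833 (iv2 D3155) (iv3 D1403) (iv2 F5135)
theorem F8976 : act 7 n5833 = n3133 := d4_2 (iv7 F5137) D5833 (iv2 D3133)
theorem F8977 : act 1 n5833 = n3131 := d15_0 (iv0 D3131) (iv7 F5137) D5833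
theorem F8978 : act 1 n5832 = n3133 := d15_1 D5832 (iv7 F8976) (iv2 D5833)
theorem F8979 : act 1 n3132 = n5833 := d15_1 D3132 F8976 (iv2 D3133)
def n5834 : Q := act 4 n2438
theorem D5834 : act 4 n2438 = n5834 := rfl
theorem F8980 : act 3 n5834 = n5077 := d5_1 D5834 (iv4 F7540) (iv3 D2101) F5138 D2438
theorem F8981 : act 7 n5834 = n3134 := d11_2 (iv7 F5137) D5834 (iv4 D3134)
def n5835 : Q := act 5 n2438
theorem D5835 : act 5 n2438 = n5835 := rfl
theorem F8982 : act 3 n5835 = n2440 := d6_1 D5835 (iv5 D2440) D2438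
theorem F8983 : act 7 n5835 = n3135 := d13_2 (iv7 F5137) D5835 (iv5 D3135)
def n5836 : Q := act 6 n2438
theorem D5836 : act 6 n2438 = n5836 := rfl
theorem F8984 : act 3 n5836 = n2441 := d7_1 D5836 (iv6 D2441) D2438
def n5837 : Q := act 4 n2440
theorem D5837 : act 4 n2440 = n5837 := rfl
theorem F8985 : act 2 n5837 = n3159 := d1_1 D5837 (iv4 D3159) (iv2 F5139)
theorem F8986 : act 7 n5837 = n3146 := d11_2 (iv7 F5140) D5837 (iv4 D3146)
def n5838 : Q := act 6 n2440
theorem D5838 : act 6 n2440 = n5838 := rfl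
theorem F8987 : act 2 n5838 = n3160 := d3_1 D5838 (iv6 D3160) (iv2 F5139)
def n5839 : Q := act 3 n2442
theorem D5839 : act 3 n2442 = n5839 := rfl
theorem F8988 : act 7 n5839 = n3169 := d8_2 (iv7 F7872) D5839 (iv3 D3169)
def n5840 : Q := act 4 n2442
theorem D5840 : act 4 n2442 = n5840 := rfl
theorem F8989 : act 2 n5840 = n3165 := d1_1 D5840 (iv4 D3165) (iv2 F7871)
theorem F8990 : act 7 n5840 = n3170 := d11_2 (iv7 F7872) D5840 (iv4 D3170)
theorem F8991 : act 1 n5840 = n5102 := d18_6 (iv1 F8386) F3710 D2367 (iv4 F8540) F8539 D5840 (iv4 D5102) D5101 (iv5 F7592)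
def n5841 : Q := act 6 n2442
theorem D5841 : act 6 n2442 = n5841 := rfl
theorem F8992 : act 2 n5841 = n3167 := d3_1 D5841 (iv6 D3167) (iv2 F7871)
def n5842 : Q := act 3 n2443
theorem D5842 : act 3 n2443 = n5842 := rfl
theorem F8993 : act 7 n5842 = n3164 := d8_2 (iv7 F7869) D5842 (iv3 D3164)
def n5843 : Q := act 4 n2443
theorem D5843 : act 4 n2443 = n5843 := rfl
theorem F8994 : act 2 n5843 = n3170 := d1_1 D5843 (iv4 D3170) (iv2 F7868)
theorem F8995 : act 7 n5843 = n3165 := d11_2 (iv7 F7869) D5843 (iv4 D3165)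
theorem F8996 : act 0 n5843 = n5102 := d18_2 (iv1 F3830) D5843 (iv4 D5102) (iv5 D2093) F1929 D1038 F5138 F2105 (iv5 F2539)
def n5844 : Q := act 6 n2443
theorem D5844 : act 6 n2443 = n5844 := rfl
theorem F8997 : act 2 n5844 = n3171 := d3_1 D5844 (iv6 D3171) (iv2 F7868)
def n5845 : Q := act 0 n2444
theorem D5845 : act 0 n2444 = n5845 := rfl
theorem F8998 : act 4 n5845 = n2825 := d18_3 (iv1 D2443) D2444 D5845 (iv5 F8382) F8383 (iv0 F3938) (iv4 F4880) F7600 F5456
theorem F8999 : act 2 n3172 = n5845 := d1_3 F8998 (iv2 F7589) F8236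
theorem F9000 : act 7 n3173 = n5845 := d11_0 F8998 (iv7 F7591) (iv4 F7601)
theorem F9001 : act 1 n3176 = n5845 := d18_6 (iv1 F4919) (iv4 D1155) (iv1 F1314) (iv4 F1507) (iv5 F2539) (iv4 F5000) F8998 (iv0 D2825) (iv5 D1292)
def n5846 : Q := act 1 n2444
theorem D5846 : act 1 n2444 = n5846 := rfl
theorem F9002 : act 1 n5846 = n3176 := d15_1 D5846 (iv7 D3176) (iv2 F3831)
theorem F9003 : act 7 n5846 = n3172 := d15_2 (iv0 D5845) D5846 F8999
theorem F9004 : act 4 n5846 = n2826 := d18_7 F4921 (iv4 D1160) (iv1 D699) (iv4 F1308) D1151 D2444 D5846 F7605 F7604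
theorem F9005 : act 2 n3173 = n5846 := d1_3 F9004 (iv2 F7593) (iv4 F7601)
def n5847 : Q := act 3 n2444
theorem D5847 : act 3 n2444 = n5847 := rfl
def n5848 : Q := act 5 n2444
theorem D5848 : act 5 n2444 = n5848 := rfl
theorem F9006 : act 2 n5848 = n3175 := d2_1 D5848 (iv5 D3175) (iv2 F3831)
theorem F9007 : act 4 n5848 = n3323 := d16_2 D2444 D5848 F5309 F2575 F1512 (iv4 F1507) (iv5 F2539) (iv7 D1410) (iv2 F2106)
theorem F9008 : act 7 n3321 = n5848 := d11_0 F9007 (iv7 D3323) D3321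
def n5849 : Q := act 7 n2444
theorem D5849 : act 7 n2444 = n5849 := rfl
theorem F9009 : act 2 n5849 = n3176 := d4_1 D5849 (iv7 D3176) (iv2 F3831)
theorem F9010 : act 4 n5849 = n2445 := d11_1 D5849 (iv7 D2445) D2444
theorem F9011 : act 5 n5849 = n3321 := d13_1 D5849 F9008 (iv5 D5848)
theorem F9012 : act 1 n3173 = n5849 := d15_1 D3173 (iv7 D5849) F3831
theorem F9013 : act 1 n5849 = n3172 := d15_1 F9012 (iv7 F9003) (iv2 F9005)
def n5850 : Q := act 6 n2445
theorem D5850 : act 6 n2445 = n5850 := rfl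
theorem F9014 : act 2 n5850 = n3177 := d3_1 D5850 (iv6 D3177) (iv2 F3832)
theorem F9015 : act 5 n5850 = n5850 := d12_1 D5850 (iv6 D5850) F3833 F2109 (iv5 F3833)
def n5851 : Q := act 3 n2455
theorem D5851 : act 3 n2455 = n5851 := rfl
theorem F9016 : act 4 n5851 = n2461 := d5_2 D2455 D5851 (iv3 D2461) (iv4 D1155) D1154
def n5852 : Q := act 5 n2455
theorem D5852 : act 5 n2455 = n5852 := rfl
theorem F9018 : act 2 n5852 = n5852 := d2_1 D5852 (iv5 D5852) F5165
theorem F9019 : act 7 n5852 = n3255 := d13_2 F3913 D5852 (iv5 D3255)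
def n5853 : Q := act 6 n2455
theorem D5853 : act 6 n2455 = n5853 := rfl
theorem F9020 : act 2 n5853 = n5853 := d3_1 D5853 (iv6 D5853) F5165
theorem F9021 : act 4 n5853 = n2457 := d10_1 D5853 (iv6 D2457) D2455
def n5854 : Q := act 4 n2456
theorem D5854 : act 4 n2456 = n5854 := rfl
theorem F9022 : act 2 n5854 = n5854 := d1_1 D5854 (iv4 D5854) F5160
theorem F9023 : act 7 n5854 = n3259 := d11_2 F3914 D5854 (iv4 D3259)
def n5855 : Q := act 6 n2456
theorem D5855 : act 6 n2456 = n5855 := rfl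
theorem F9024 : act 2 n5855 = n5855 := d3_1 D5855 (iv6 D5855) F5160
theorem F9025 : act 3 n5855 = n2468 := d7_1 D5855 (iv6 D2468) (iv3 F3845)
def n5856 : Q := act 0 n2457
theorem D5856 : act 0 n2457 = n5856 := rfl
def n5857 : Q := act 1 n2457
theorem D5857 : act 1 n2457 = n5857 := rfl
def n5858 : Q := act 7 n2457
theorem D5858 : act 7 n2457 = n5858 := rfl
theorem F9026 : act 2 n5858 = n5858 := d4_1 D5858 (iv7 D5858) F5172
theorem F9027 : act 3 n5858 = n2472 := d8_1 D5858 (iv7 D2472) (iv3 F3846)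
theorem F9028 : act 5 n5858 = n3260 := d13_1 D5858 (iv7 F5504) F5503
theorem F9029 : act 6 n5858 = n3263 := d14_1 D5858 (iv7 F5047) (iv6 D1445) (iv7 F3889) D2457
theorem F9030 : act 1 n5858 = n5856 := d15_0 (iv0 D5856) D5858 F9026
theorem F9031 : act 1 n5857 = n5858 := d15_1 D5857 (iv7 D5858) F5172
def n5859 : Q := act 0 n2461
theorem D5859 : act 0 n2461 = n5859 := rfl
theorem F9032 : act 1 n3266 = n5859 := d15_0 (iv0 D5859) (iv7 F3909) D3266
def n5861 : Q := act 2 n2461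
theorem D5861 : act 2 n2461 = n5861 := rfl
theorem F9033 : act 3 n5861 = n3214 := d0_2 D2461 D5861 (iv2 D3214) (iv3 D1426) (iv2 F3890)
theorem F9034 : act 7 n5861 = n3266 := d4_2 F3909 D5861 (iv2 D3266)
theorem F9035 : act 1 n5861 = n3264 := d15_0 (iv0 D3264) F3909 D5861
theorem F9037 : act 1 n3265 = n5861 := d15_1 D3265 F9034 (iv2 D3266)
def n5862 : Q := act 5 n2461
theorem D5862 : act 5 n2461 = n5862 := rfl
theorem F9038 : act 3 n5862 = n2462 := d6_1 D5862 (iv5 D2462) D2461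
theorem F9039 : act 7 n5862 = n3267 := d13_2 F3909 D5862 (iv5 D3267)
def n5863 : Q := act 6 n2461
theorem D5863 : act 6 n2461 = n5863 := rfl
theorem F9040 : act 3 n5863 = n2463 := d7_1 D5863 (iv6 D2463) D2461
def n5864 : Q := act 1 n2462
theorem D5864 : act 1 n2462 = n5864 := rfl
theorem F9041 : act 1 n5864 = n2481 := d15_1 D5864 F3920 F3911
theorem F9042 : act 7 n5864 = n3217 := d15_2 F8713 D5864 (iv2 F8711)
theorem F9043 : act 5 n5864 = n5500 := d17_7 F4608 (iv5 F4607) (iv1 D2466) (iv5 D1156) D1155 D2462 D5864 F8390 (iv4 D3288)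
theorem F9044 : act 2 n3218 = n5864 := d2_3 F9043 (iv2 F8715) F8717
def n5865 : Q := act 4 n2462
theorem D5865 : act 4 n2462 = n5865 := rfl
theorem F9045 : act 2 n5865 = n3219 := d1_1 D5865 (iv4 D3219) F3911
theorem F9046 : act 7 n5865 = n3269 := d11_2 F3910 D5865 (iv4 D3269)
def n5866 : Q := act 6 n2462
theorem D5866 : act 6 n2462 = n5866 := rfl
theorem F9047 : act 2 n5866 = n3220 := d3_1 D5866 (iv6 D3220) F3911
def n5867 : Q := act 7 n2463
theorem D5867 : act 7 n2463 = n5867 := rfl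
theorem F9048 : act 2 n5867 = n3224 := d4_1 D5867 (iv7 D3224) F3908
theorem F9049 : act 4 n5867 = n2472 := d11_1 D5867 (iv7 D2472) (iv4 F3849)
theorem F9050 : act 5 n5867 = n5349 := d13_1 D5867 F8133 (iv5 F7925)
theorem F9051 : act 6 n5867 = n3274 := d14_1 D5867 (iv7 D3274) (iv6 D1448) (iv7 F3891) D2463
theorem F9052 : act 1 n3222 = n5867 := d15_1 D3222 (iv7 D5867) (iv2 F3908)
theorem F9053 : act 1 n5867 = n2985 := d15_1 F9052 (iv7 F8666) F8664
def n5868 : Q := act 3 n2465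
theorem D5868 : act 3 n2465 = n5868 := rfl
theorem F9054 : act 5 n5868 = n2698 := d6_2 (iv5 F3853) D5868 F4290
theorem F9056 : act 7 n5868 = n3227 := d8_2 (iv7 F4618) D5868 (iv3 D3227)
def n5869 : Q := act 4 n2465
theorem D5869 : act 4 n2465 = n5869 := rfl
theorem F9057 : act 2 n5869 = n3226 := d1_1 D5869 (iv4 D3226) (iv2 F4625)
theorem F9058 : act 6 n5869 = n3001 := d10_2 F3854 D5869 (iv4 D3001)
theorem F9059 : act 7 n5869 = n3228 := d11_2 (iv7 F4618) D5869 (iv4 D3228)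
theorem F9060 : act 0 n5869 = n5112 := d18_2 D2465 D5869 (iv4 D5112) (iv5 D2103) F5138 F2105 F1507 F1314 D1156
theorem F9061 : act 1 n5869 = n5105 := d18_6 F7980 (iv4 F4910) F8235 F4969 (iv5 F3853) D5869 (iv4 D5105) (iv0 F7999) (iv5 F7983)
def n5870 : Q := act 3 n2466
theorem D5870 : act 3 n2466 = n5870 := rfl
theorem F9062 : act 6 n5870 = n3379 := d7_2 (iv6 F4611) D5870 (iv3 D3379)
theorem F9063 : act 7 n5870 = n3225 := d8_2 F4624 D5870 (iv3 D3225)
def n5871 : Q := act 4 n2466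
theorem D5871 : act 4 n2466 = n5871 := rfl
theorem F9064 : act 2 n5871 = n3228 := d1_1 D5871 (iv4 D3228) (iv2 F4617)
theorem F9065 : act 6 n5871 = n3380 := d10_2 (iv6 F4611) D5871 (iv4 D3380)
theorem F9066 : act 7 n5871 = n3226 := d11_2 F4624 D5871 (iv4 D3226)
theorem F9067 : act 0 n5871 = n5105 := d18_2 (iv1 F3857) D5871 (iv4 D5105) (iv5 D2098) (iv4 F5127) (iv0 D1149) F1308 D699 D1161
theorem F9068 : act 1 n5871 = n5112 := d18_6 D2273 (iv4 F4996) (iv1 F8549) F8546 (iv5 F4607) D5871 (iv4 D5112) (iv0 F4383) (iv5 D2275)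
def n5872 : Q := act 1 n2467
theorem D5872 : act 1 n2467 = n5872 := rfl
theorem F9069 : act 1 n5872 = n2483 := d15_1 D5872 F3935 F3933
theorem F9070 : act 7 n5872 = n3229 := d15_2 F8726 D5872 (iv2 F8723)
theorem F9071 : act 4 n5872 = n2848 := d18_7 (iv1 D754) (iv4 F1463) (iv1 F4919) (iv4 D1155) D1156 D2467 D5872 F4430 (iv5 D1302)
theorem F9072 : act 2 n3230 = n5872 := d1_3 F9071 (iv2 F8032) F8001
def n5873 : Q := act 3 n2467
theorem D5873 : act 3 n2467 = n5873 := rfl
theorem F9073 : act 7 n5873 = n3275 := d8_2 F3932 D5873 (iv3 D3275)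
def n5874 : Q := act 5 n2467
theorem D5874 : act 5 n2467 = n5874 := rfl
theorem F9074 : act 2 n5874 = n3232 := d2_1 D5874 (iv5 D3232) F3933
theorem F9075 : act 7 n5874 = n3276 := d13_2 F3932 D5874 (iv5 D3276)
theorem F9076 : act 1 n5874 = n2876 := d17_6 (iv1 D1164) (iv5 D700) D698 D1156 D2467 D5874 (iv5 D2876) (iv0 F4926) (iv4 D2493)
def n5875 : Q := act 6 n2467
theorem D5875 : act 6 n2467 = n5875 := rfl
theorem F9077 : act 2 n5875 = n3233 := d3_1 D5875 (iv6 D3233) F3933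
theorem F9078 : act 4 n5875 = n2468 := d10_1 D5875 (iv6 D2468) D2467
def n5876 : Q := act 0 n2468
theorem D5876 : act 0 n2468 = n5876 := rfl
theorem F9079 : act 5 n5876 = n2522 := d21_0 (iv1 D2522) F2146 (iv6 D1175) (iv1 D706) (iv6 F1311) (iv5 D700) D698 D1156 D2468 D5876
theorem F9080 : act 1 n3236 = n5876 := d15_0 (iv0 D5876) (iv7 F5511) F5509
theorem F9081 : act 6 n2506 = n5876 := d21_5 (iv5 D404) D402 D703 D1169 D2506 F9079 (iv1 D2522) F2146 (iv6 D1175) (iv1 D706)
def n5877 : Q := act 1 n2468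
theorem D5877 : act 1 n2468 = n5877 := rfl
theorem F9082 : act 1 n5877 = n3236 := d15_1 D5877 (iv7 F5033) F3934
theorem F9083 : act 5 n2521 = n5877 := d21_0 (iv1 D5877) (iv5 F5510) (iv6 D3505) (iv1 D1547) F1579 (iv5 D493) D492 (iv5 F1331) D1175 D2521
def n5878 : Q := act 3 n2471
theorem D5878 : act 3 n2471 = n5878 := rfl
theorem F9084 : act 6 n5878 = n2678 := d7_2 F3860 D5878 F4272
theorem F9085 : act 7 n5878 = n3007 := d8_2 (iv7 F4283) D5878 F4710
def n5879 : Q := act 0 n2480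
theorem D5879 : act 0 n2480 = n5879 := rfl
theorem F9086 : act 1 n3214 = n5879 := d15_0 (iv0 D5879) F3919 D3214
def n5880 : Q := act 1 n2480
theorem D5880 : act 1 n2480 = n5880 := rfl
def n5881 : Q := act 2 n2480
theorem D5881 : act 2 n2480 = n5881 := rfl
theorem F9087 : act 3 n5881 = n3266 := d0_2 D2480 D5881 (iv2 D3266) (iv3 D1446) F3883
theorem F9089 : act 7 n5881 = n3214 := d4_2 (iv7 F3919) D5881 (iv2 D3214)
theorem F9090 : act 1 n5881 = n3212 := d15_0 (iv0 D3212) (iv7 F3919) D5881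
theorem F9091 : act 1 n5880 = n3214 := d15_1 D5880 (iv7 F9089) (iv2 D5881)
theorem F9092 : act 1 n3213 = n5881 := d15_1 D3213 F9089 (iv2 D3214)
def n5882 : Q := act 5 n2480
theorem D5882 : act 5 n2480 = n5882 := rfl
theorem F9093 : act 3 n5882 = n2481 := d6_1 D5882 (iv5 D2481) D2480
theorem F9094 : act 7 n5882 = n3215 := d13_2 (iv7 F3919) D5882 (iv5 D3215)
def n5883 : Q := act 6 n2480
theorem D5883 : act 6 n2480 = n5883 := rfl
theorem F9095 : act 3 n5883 = n2482 := d7_1 D5883 (iv6 D2482) D2480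
theorem F9096 : act 4 n5883 = n5883 := d10_1 D5883 (iv6 D5883) F5173
def n5884 : Q := act 4 n2481
theorem D5884 : act 4 n2481 = n5884 := rfl
theorem F9097 : act 2 n5884 = n3269 := d1_1 D5884 (iv4 D3269) F3921
theorem F9098 : act 7 n5884 = n3219 := d11_2 (iv7 F3920) D5884 (iv4 D3219)
def n5885 : Q := act 6 n2481
theorem D5885 : act 6 n2481 = n5885 := rfl
theorem F9099 : act 2 n5885 = n3270 := d3_1 D5885 (iv6 D3270) F3921
def n5886 : Q := act 3 n2483
theorem D5886 : act 3 n2483 = n5886 := rfl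
theorem F9100 : act 4 n5886 = n5886 := d5_2 D2483 D5886 (iv3 D5886) (iv4 D2483) F5063
theorem F9101 : act 7 n5886 = n3231 := d8_2 (iv7 F3935) D5886 (iv3 D3231)
def n5887 : Q := act 5 n2483
theorem D5887 : act 5 n2483 = n5887 := rfl
theorem F9102 : act 2 n5887 = n3276 := d2_1 D5887 (iv5 D3276) F3936
theorem F9103 : act 7 n5887 = n3232 := d13_2 (iv7 F3935) D5887 (iv5 D3232)
theorem F9104 : act 0 n5887 = n2876 := d17_2 F8725 D5887 (iv5 D2876) (iv4 D1306) (iv5 D755) D754 D1302 (iv0 F4370) D5669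
def n5888 : Q := act 4 n2487
theorem D5888 : act 4 n2487 = n5888 := rfl
theorem F9105 : act 2 n5888 = n5888 := d1_1 D5888 (iv4 D5888) F5196
theorem F9106 : act 7 n5888 = n3296 := d11_2 (iv7 F5240) D5888 (iv4 D3296)
def n5889 : Q := act 5 n2487
theorem D5889 : act 5 n2487 = n5889 := rfl
theorem F9107 : act 2 n5889 = n5889 := d2_1 D5889 (iv5 D5889) F5196
theorem F9108 : act 3 n5889 = n2489 := d6_1 D5889 (iv5 D2489) D2487
theorem F9109 : act 7 n5889 = n3297 := d13_2 (iv7 F5240) D5889 (iv5 D3297)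
def n5890 : Q := act 6 n2487
theorem D5890 : act 6 n2487 = n5890 := rfl
theorem F9110 : act 2 n5890 = n5890 := d3_1 D5890 (iv6 D5890) F5196
theorem F9111 : act 3 n5890 = n2490 := d7_1 D5890 (iv6 D2490) D2487
def n5891 : Q := act 3 n2488
theorem D5891 : act 3 n2488 = n5891 := rfl
theorem F9112 : act 7 n5891 = n3299 := d8_2 (iv7 F5242) D5891 (iv3 D3299)
def n5892 : Q := act 5 n2488
theorem D5892 : act 5 n2488 = n5892 := rfl
theorem F9113 : act 2 n5892 = n3285 := d2_1 D5892 (iv5 D3285) (iv2 F5241)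
theorem F9114 : act 7 n5892 = n3300 := d13_2 (iv7 F5242) D5892 (iv5 D3300)
def n5893 : Q := act 6 n2488
theorem D5893 : act 6 n2488 = n5893 := rfl
theorem F9115 : act 2 n5893 = n3286 := d3_1 D5893 (iv6 D3286) (iv2 F5241)
theorem F9116 : act 4 n5893 = n2490 := d10_1 D5893 (iv6 D2490) D2488
def n5894 : Q := act 0 n2490
theorem D5894 : act 0 n2490 = n5894 := rfl
theorem F9117 : act 6 n5894 = n2522 := d21_5 F2556 F3938 (iv5 D2489) D2490 D5894 (iv5 F9079) (iv1 F9080) (iv5 D3236) (iv6 D1433) D1430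
theorem F9118 : act 5 n5894 = n3291 := d21_0 (iv1 D3291) D3292 F5279 (iv1 D2934) F2557 F2556 F3938 (iv5 D2489) D2490 D5894
theorem F9119 : act 0 n5894 = n3293 := d21_10 F5538 (iv1 F5529) F5318 F5319 (iv1 F4058) D3505 F5510 D5876 F9079 (iv6 F9117)
def n5895 : Q := act 1 n2490
theorem D5895 : act 1 n2490 = n5895 := rfl
theorem F9120 : act 1 n5895 = n3293 := d15_1 D5895 (iv7 D3293) (iv2 F5243)
theorem F9121 : act 5 n3290 = n5895 := d21_0 (iv1 D5895) F5532 (iv6 F5531) (iv1 D3000) F3854 F3853 F3902 (iv5 D1457) D1458 D3290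
theorem F9122 : act 6 n3349 = n5895 := d21_3 F2134 D1478 D3349 (iv1 D5895) (iv6 D2490) D2489 (iv1 F4614) (iv5 F4616) F4619 (iv1 D2513)
def n5896 : Q := act 7 n2490
theorem D5896 : act 7 n2490 = n5896 := rfl
theorem F9123 : act 2 n5896 = n3293 := d4_1 D5896 (iv7 D3293) (iv2 F5243)
theorem F9124 : act 5 n5896 = n3329 := d13_1 D5896 F5534 (iv5 F5532)
theorem F9125 : act 6 n5896 = n3305 := d14_1 D5896 (iv7 D3305) (iv6 D1463) F5244 D2490
theorem F9126 : act 1 n3291 = n5896 := d15_1 D3291 (iv7 D5896) F5243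
theorem F9127 : act 0 n3290 = n5896 := d21_10 F9124 F5523 F5520 (iv6 D3511) (iv1 F2691) (iv6 F5031) (iv5 D3236) D3234 F5029 (iv6 F5514)
def n5897 : Q := act 3 n2493
theorem D5897 : act 3 n2493 = n5897 := rfl
theorem F9128 : act 4 n5897 = n5897 := d5_2 D2493 D5897 (iv3 D5897) (iv4 D2493) F5184
theorem F9129 : act 7 n5897 = n3284 := d8_2 (iv7 F5248) D5897 (iv3 D3284)
def n5898 : Q := act 5 n2493
theorem D5898 : act 5 n2493 = n5898 := rfl
theorem F9130 : act 2 n5898 = n3300 := d2_1 D5898 (iv5 D3300) (iv2 F5247)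
theorem F9131 : act 7 n5898 = n3285 := d13_2 (iv7 F5248) D5898 (iv5 D3285)
def n5899 : Q := act 6 n2493
theorem D5899 : act 6 n2493 = n5899 := rfl
theorem F9132 : act 2 n5899 = n3301 := d3_1 D5899 (iv6 D3301) (iv2 F5247)
theorem F9133 : act 4 n5899 = n2494 := d10_1 D5899 (iv6 D2494) D2493
def n5900 : Q := act 0 n2494
theorem D5900 : act 0 n2494 = n5900 := rfl
theorem F9134 : act 6 n5900 = n3012 := d21_5 F4616 F4615 F2685 D2494 D5900 (iv5 D3012) F4541 (iv5 F3897) (iv6 D1450) (iv1 F2560)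
theorem F9135 : act 5 n5900 = n2512 := d21_8 (iv5 F4698) (iv1 D2764) F2448 D2953 F4646 D3492 F5489 D5900 F3982 (iv1 F4697)
theorem F9136 : act 2 n3303 = n5900 := d15_3 (iv0 D5900) (iv0 F4726) F5294
theorem F9137 : act 7 n5900 = n2950 := d4_2 F5294 F9136 (iv2 F4724)
theorem F9138 : act 1 n3305 = n5900 := d15_1 F5296 F9137 (iv2 F4724)
def n5901 : Q := act 7 n2494
theorem D5901 : act 7 n2494 = n5901 := rfl
theorem F9139 : act 2 n5901 = n3305 := d4_1 D5901 (iv7 D3305) F5277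
theorem F9140 : act 3 n5901 = n5901 := d8_1 D5901 (iv7 D5901) F5194
theorem F9141 : act 6 n5901 = n3293 := d14_1 D5901 (iv7 D3293) (iv6 D1458) (iv7 F5246) D2494
theorem F9142 : act 1 n2950 = n5901 := d15_1 (iv0 F4695) (iv7 D5901) (iv2 F5277)
theorem F9143 : act 1 n5901 = n3303 := d15_1 F9142 (iv7 F5294) F4724
def n5902 : Q := act 3 n2495
theorem D5902 : act 3 n2495 = n5902 := rfl
theorem F9144 : act 7 n5902 = n3311 := d8_2 (iv7 F7881) D5902 (iv3 D3311)
def n5903 : Q := act 5 n2495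
theorem D5903 : act 5 n2495 = n5903 := rfl
theorem F9145 : act 2 n5903 = n3308 := d2_1 D5903 (iv5 D3308) (iv2 F7880)
theorem F9146 : act 7 n5903 = n3312 := d13_2 (iv7 F7881) D5903 (iv5 D3312)
def n5904 : Q := act 6 n2495
theorem D5904 : act 6 n2495 = n5904 := rfl
theorem F9147 : act 2 n5904 = n3309 := d3_1 D5904 (iv6 D3309) (iv2 F7880)
theorem F9148 : act 4 n5904 = n5114 := d10_1 D5904 (iv6 D5114) F5146
def n5905 : Q := act 3 n2496
theorem D5905 : act 3 n2496 = n5905 := rfl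
theorem F9149 : act 7 n5905 = n3307 := d8_2 (iv7 F7876) D5905 (iv3 D3307)
def n5906 : Q := act 5 n2496
theorem D5906 : act 5 n2496 = n5906 := rfl
theorem F9150 : act 2 n5906 = n3312 := d2_1 D5906 (iv5 D3312) (iv2 F7875)
theorem F9151 : act 7 n5906 = n3308 := d13_2 (iv7 F7876) D5906 (iv5 D3308)
def n5907 : Q := act 6 n2496
theorem D5907 : act 6 n2496 = n5907 := rfl
theorem F9152 : act 2 n5907 = n3313 := d3_1 D5907 (iv6 D3313) (iv2 F7875)
theorem F9153 : act 4 n5907 = n5117 := d10_1 D5907 (iv6 D5117) (iv4 F5145)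
def n5908 : Q := act 0 n2497
theorem D5908 : act 0 n2497 = n5908 := rfl
def n5909 : Q := act 1 n2497
theorem D5909 : act 1 n2497 = n5909 := rfl
def n5910 : Q := act 2 n2497
theorem D5910 : act 2 n2497 = n5910 := rfl
theorem F9154 : act 3 n5910 = n3316 := d0_2 D2497 D5910 (iv2 D3316) (iv3 D1466) (iv2 F2116)
theorem F9155 : act 6 n5910 = n2532 := d3_2 (iv6 F3941) D5910 (iv2 D2532)
def n5911 : Q := act 5 n2497
theorem D5911 : act 5 n2497 = n5911 := rfl
theorem F9156 : act 3 n5911 = n2498 := d6_1 D5911 (iv5 D2498) D2497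
def n5912 : Q := act 7 n2497
theorem D5912 : act 7 n2497 = n5912 := rfl
theorem F9157 : act 3 n5912 = n2499 := d8_1 D5912 (iv7 D2499) D2497
def n5913 : Q := act 0 n2498
theorem D5913 : act 0 n2498 = n5913 := rfl
theorem F9158 : act 5 n5913 = n5105 := d17_3 (iv1 D2496) D2498 D5913 (iv4 D5105) (iv5 D2098) (iv0 D1037) D1039 D2106 (iv4 F5145)
theorem F9159 : act 2 n3319 = n5913 := d2_3 F9158 F7609 (iv5 F5306)
theorem F9160 : act 7 n3320 = n5913 := d13_0 F9158 F7610 (iv5 F5307)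
theorem F9161 : act 1 n3323 = n5913 := d17_6 (iv1 D2466) (iv5 D1156) (iv1 F1314) (iv5 F1512) (iv4 F2575) (iv5 F5309) F9158 (iv0 F9067) (iv4 D5871)
def n5914 : Q := act 1 n2498
theorem D5914 : act 1 n2498 = n5914 := rfl
theorem F9162 : act 1 n5914 = n3323 := d15_1 D5914 (iv7 D3323) (iv2 F3942)
theorem F9163 : act 7 n5914 = n3319 := d15_2 (iv0 D5913) D5914 F9159
theorem F9164 : act 5 n5914 = n5112 := d17_7 F3855 (iv5 D1161) (iv1 D699) D700 D1165 D2498 D5914 (iv0 F9060) (iv4 D5869)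
theorem F9165 : act 2 n3320 = n5914 := d2_3 F9164 F7626 (iv5 F5307)
def n5915 : Q := act 4 n2498
theorem D5915 : act 4 n2498 = n5915 := rfl
theorem F9166 : act 2 n5915 = n3321 := d1_1 D5915 (iv4 D3321) (iv2 F3942)
theorem F9167 : act 5 n5915 = n3176 := d9_2 D2498 D5915 F5000 F2539 F1507 (iv5 F1512) (iv4 F2575) (iv5 F5309) (iv4 F9007) (iv5 D5848) (iv4 D2444) (iv5 D1151) F1308 D700 D1165
theorem F9168 : act 7 n3175 = n5915 := d13_0 F9167 (iv7 D3176) D3175
def n5916 : Q := act 6 n2498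
theorem D5916 : act 6 n2498 = n5916 := rfl
theorem F9169 : act 2 n5916 = n3322 := d3_1 D5916 (iv6 D3322) (iv2 F3942)
theorem F9170 : act 5 n5916 = n2537 := d12_1 D5916 (iv6 D2537) (iv5 D1179) (iv6 F2117) D2498
def n5917 : Q := act 7 n2498
theorem D5917 : act 7 n2498 = n5917 := rfl
theorem F9171 : act 2 n5917 = n3323 := d4_1 D5917 (iv7 D3323) (iv2 F3942)
theorem F9172 : act 4 n5917 = n3175 := d11_1 D5917 F9168 (iv4 D5915)
theorem F9173 : act 5 n5917 = n2499 := d13_1 D5917 (iv7 D2499) D2498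
theorem F9174 : act 1 n3320 = n5917 := d15_1 D3320 (iv7 D5917) F3942
theorem F9175 : act 1 n5917 = n3319 := d15_1 F9174 (iv7 F9163) (iv2 F9165)
def n5918 : Q := act 6 n2499
theorem D5918 : act 6 n2499 = n5918 := rfl
theorem F9176 : act 2 n5918 = n3324 := d3_1 D5918 (iv6 D3324) (iv2 F3943)
theorem F9177 : act 4 n5918 = n2500 := d10_1 D5918 (iv6 D2500) (iv4 F3944)
theorem F9178 : act 7 n5918 = n2538 := d14_2 D2499 D5918 (iv6 D2538) (iv7 D1180) (iv6 F2117)
theorem F9179 : act 1 n3458 = n5918 := d15_1 D3458 F9178 F4045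
theorem F9180 : act 1 n5918 = n3457 := d15_0 (iv0 D3457) (iv7 F5311) (iv2 F9176)
def n5919 : Q := act 3 n2501
theorem D5919 : act 3 n2501 = n5919 := rfl
theorem F9181 : act 4 n5919 = n2503 := d5_2 D2501 D5919 (iv3 D2503) (iv4 D1168) (iv3 F2124)
def n5920 : Q := act 5 n2501
theorem D5920 : act 5 n2501 = n5920 := rfl
theorem F9183 : act 2 n5920 = n5920 := d2_1 D5920 (iv5 D5920) F3953
theorem F9185 : act 4 n5920 = n3361 := d16_2 D2501 D5920 (iv5 D3361) (iv4 D1484) (iv5 D807) F974 D807 (iv7 F2125) F2123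
def n5921 : Q := act 6 n2501
theorem D5921 : act 6 n2501 = n5921 := rfl
theorem F9186 : act 2 n5921 = n5921 := d3_1 D5921 (iv6 D5921) F3953
theorem F9187 : act 4 n5921 = n2502 := d10_1 D5921 (iv6 D2502) D2501
def n5922 : Q := act 0 n2502
theorem D5922 : act 0 n2502 = n5922 := rfl
def n5923 : Q := act 1 n2502
theorem D5923 : act 1 n2502 = n5923 := rfl
def n5924 : Q := act 7 n2502
theorem D5924 : act 7 n2502 = n5924 := rfl
theorem F9188 : act 2 n5924 = n5924 := d4_1 D5924 (iv7 D5924) F3955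
theorem F9189 : act 3 n5924 = n2508 := d8_1 D5924 (iv7 D2508) (iv3 F3956)
theorem F9190 : act 5 n5924 = n3365 := d13_1 D5924 (iv7 D3365) (iv5 F3957)
theorem F9191 : act 6 n5924 = n3365 := d14_1 D5924 (iv7 D3365) (iv6 D1485) (iv7 F2125) D2502
theorem F9192 : act 1 n5924 = n5922 := d15_0 (iv0 D5922) D5924 F9188
theorem F9193 : act 1 n5923 = n5924 := d15_1 D5923 (iv7 D5924) F3955
def n5925 : Q := act 0 n2503
theorem D5925 : act 0 n2503 = n5925 := rfl
theorem F9194 : act 1 n3369 = n5925 := d15_0 (iv0 D5925) F3958 D3369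
def n5926 : Q := act 1 n2503
theorem D5926 : act 1 n2503 = n5926 := rfl
def n5927 : Q := act 2 n2503
theorem D5927 : act 2 n2503 = n5927 := rfl
theorem F9195 : act 3 n5927 = n3338 := d0_2 D2503 D5927 (iv2 D3338) (iv3 D1475) (iv2 F2126)
theorem F9196 : act 7 n5927 = n3369 := d4_2 (iv7 F3958) D5927 (iv2 D3369)
theorem F9197 : act 1 n5927 = n3367 := d15_0 (iv0 D3367) (iv7 F3958) D5927
theorem F9199 : act 1 n3368 = n5927 := d15_1 D3368 F9196 (iv2 D3369)
def n5928 : Q := act 5 n2503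
theorem D5928 : act 5 n2503 = n5928 := rfl
theorem F9200 : act 3 n5928 = n2504 := d6_1 D5928 (iv5 D2504) D2503
theorem F9201 : act 7 n5928 = n3370 := d13_2 (iv7 F3958) D5928 (iv5 D3370)
def n5929 : Q := act 6 n2503
theorem D5929 : act 6 n2503 = n5929 := rfl
theorem F9202 : act 3 n5929 = n2505 := d7_1 D5929 (iv6 D2505) D2503
def n5930 : Q := act 6 n2504
theorem D5930 : act 6 n2504 = n5930 := rfl
theorem F9203 : act 2 n5930 = n3341 := d3_1 D5930 (iv6 D3341) (iv2 F3959)
theorem F9204 : act 4 n5930 = n2638 := d10_1 D5930 (iv6 D2638) (iv4 F3961)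
def n5931 : Q := act 0 n2505
theorem D5931 : act 0 n2505 = n5931 := rfl
def n5932 : Q := act 1 n2505
theorem D5932 : act 1 n2505 = n5932 := rfl
theorem F9205 : act 1 n5932 = n3345 := d15_1 D5932 (iv7 D3345) (iv2 F3964)
def n5933 : Q := act 5 n2505
theorem D5933 : act 5 n2505 = n5933 := rfl
theorem F9206 : act 2 n5933 = n3344 := d2_1 D5933 (iv5 D3344) (iv2 F3964)
def n5934 : Q := act 7 n2505
theorem D5934 : act 7 n2505 = n5934 := rfl
theorem F9207 : act 2 n5934 = n3345 := d4_1 D5934 (iv7 D3345) (iv2 F3964)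
theorem F9208 : act 4 n5934 = n2508 := d11_1 D5934 (iv7 D2508) (iv4 F3965)
theorem F9210 : act 1 n3345 = n5931 := d15_0 (iv0 D5931) D5934 F9207
theorem F9211 : act 1 n3343 = n5934 := d15_1 D3343 (iv7 D5934) F3964
theorem F9212 : act 1 n5934 = n3342 := d15_0 (iv0 D3342) D3345 (iv2 F9207)
def n5935 : Q := act 2 n2506
theorem D5935 : act 2 n2506 = n5935 := rfl
theorem F9213 : act 7 n2507 = n5935 := d15_2 (iv0 D2506) D2507 (iv2 D5935)
def n5937 : Q := act 4 n2506
theorem D5937 : act 4 n2506 = n5937 := rfl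
def n5938 : Q := act 5 n2506
theorem D5938 : act 5 n2506 = n5938 := rfl
theorem F9214 : act 6 n5938 = n3291 := d12_2 (iv6 F9081) D5938 (iv5 F9118) F9117 (iv5 F9079)
theorem F9215 : act 0 n5938 = n3492 := d21_1 D5938 F5489 (iv6 D2494) (iv1 D1164) F1311 (iv5 D404) D402 D703 D1169 D2506
theorem F9216 : act 0 n3465 = n5938 := d21_1 (iv5 F5439) (iv5 D5938) F9081 (iv1 F9080) F5031 (iv5 D1437) (iv1 F4542) D3012 (iv6 F9134) (iv1 F9138)
def n5939 : Q := act 7 n2506
theorem D5939 : act 7 n2506 = n5939 := rfl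
theorem F9217 : act 2 n5939 = n2507 := d4_1 D5939 F9213 (iv2 D5935)
def n5940 : Q := act 3 n2507
theorem D5940 : act 3 n2507 = n5940 := rfl
def n5941 : Q := act 4 n2507
theorem D5941 : act 4 n2507 = n5941 := rfl
def n5942 : Q := act 5 n2507
theorem D5942 : act 5 n2507 = n5942 := rfl
theorem F9218 : act 0 n5942 = n3465 := d21_1 D5942 F5439 (iv6 F9125) (iv1 F9126) (iv6 F9214) (iv5 D5938) (iv1 F3970) (iv5 F3986) F3987 (iv1 F3966)
theorem F9219 : act 6 n5942 = n2521 := d21_3 F3986 (iv1 F3966) D5942 (iv1 F4009) F2618 F2478 (iv1 F1492) D1330 (iv6 F2608) (iv1 F3990)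
theorem F9220 : act 0 n3492 = n5942 := d21_10 (iv5 D5942) (iv1 D2507) F2129 (iv6 D810) F1023 (iv6 F1579) (iv5 D837) D835 D1539 D3492
def n5943 : Q := act 6 n2507
theorem D5943 : act 6 n2507 = n5943 := rfl
def n5944 : Q := act 0 n2509
theorem D5944 : act 0 n2509 = n5944 := rfl
theorem F9221 : act 1 n3338 = n5944 := d15_0 (iv0 D5944) F3974 D3338
def n5945 : Q := act 1 n2509
theorem D5945 : act 1 n2509 = n5945 := rfl
def n5946 : Q := act 2 n2509
theorem D5946 : act 2 n2509 = n5946 := rfl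
theorem F9222 : act 3 n5946 = n3369 := d0_2 D2509 D5946 (iv2 D3369) (iv3 D1487) (iv2 F2130)
theorem F9223 : act 4 n5946 = n5946 := d1_2 F3973 D5946 (iv2 D5946)
theorem F9224 : act 7 n5946 = n3338 := d4_2 (iv7 F3974) D5946 (iv2 D3338)
theorem F9225 : act 1 n5946 = n3336 := d15_0 (iv0 D3336) (iv7 F3974) D5946
theorem F9226 : act 1 n5945 = n3338 := d15_1 D5945 (iv7 F9224) (iv2 D5946)
theorem F9227 : act 1 n3337 = n5946 := d15_1 D3337 F9224 (iv2 D3338)
def n5947 : Q := act 5 n2509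
theorem D5947 : act 5 n2509 = n5947 := rfl
theorem F9228 : act 3 n5947 = n2510 := d6_1 D5947 (iv5 D2510) D2509
theorem F9229 : act 7 n5947 = n3339 := d13_2 (iv7 F3974) D5947 (iv5 D3339)
def n5948 : Q := act 6 n2509
theorem D5948 : act 6 n2509 = n5948 := rfl
theorem F9230 : act 3 n5948 = n2511 := d7_1 D5948 (iv6 D2511) D2509
def n5949 : Q := act 6 n2510
theorem D5949 : act 6 n2510 = n5949 := rfl
theorem F9232 : act 2 n5949 = n3372 := d3_1 D5949 (iv6 D3372) (iv2 F3975)
theorem F9233 : act 4 n5949 = n2636 := d10_1 D5949 (iv6 D2636) (iv4 F3976)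
def n5950 : Q := act 0 n2511
theorem D5950 : act 0 n2511 = n5950 := rfl
def n5951 : Q := act 1 n2511
theorem D5951 : act 1 n2511 = n5951 := rfl
theorem F9234 : act 1 n5951 = n3376 := d15_1 D5951 (iv7 D3376) (iv2 F3980)
def n5952 : Q := act 5 n2511
theorem D5952 : act 5 n2511 = n5952 := rfl
theorem F9235 : act 2 n5952 = n3375 := d2_1 D5952 (iv5 D3375) (iv2 F3980)
def n5953 : Q := act 7 n2511
theorem D5953 : act 7 n2511 = n5953 := rfl
theorem F9236 : act 2 n5953 = n3376 := d4_1 D5953 (iv7 D3376) (iv2 F3980)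
theorem F9237 : act 4 n5953 = n2514 := d11_1 D5953 (iv7 D2514) (iv4 F3981)
theorem F9238 : act 6 n5953 = n3345 := d14_1 D5953 (iv7 D3345) (iv6 D1477) (iv7 F2131) D2511
theorem F9239 : act 1 n3376 = n5950 := d15_0 (iv0 D5950) D5953 F9236
theorem F9240 : act 1 n3374 = n5953 := d15_1 D3374 (iv7 D5953) F3980
theorem F9241 : act 1 n5953 = n3373 := d15_0 (iv0 D3373) D3376 (iv2 F9236)
def n5954 : Q := act 3 n2512
theorem D5954 : act 3 n2512 = n5954 := rfl
theorem F9242 : act 6 n5954 = n3006 := d7_2 (iv6 F3982) D5954 F4708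
theorem F9243 : act 7 n5954 = n3379 := d8_2 F4623 D5954 (iv3 D3379)
def n5955 : Q := act 4 n2512
theorem D5955 : act 4 n2512 = n5955 := rfl
theorem F9244 : act 2 n5955 = n3378 := d1_1 D5955 (iv4 D3378) F4622
theorem F9245 : act 6 n5955 = n3011 := d10_2 (iv6 F3982) D5955 (iv4 D3011)
theorem F9246 : act 7 n5955 = n3380 := d11_2 F4623 D5955 (iv4 D3380)
def n5956 : Q := act 3 n2513
theorem D5956 : act 3 n2513 = n5956 := rfl
theorem F9247 : act 6 n5956 = n3227 := d7_2 F4619 D5956 (iv3 D3227)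
def n5957 : Q := act 4 n2513
theorem D5957 : act 4 n2513 = n5957 := rfl
theorem F9249 : act 2 n5957 = n3380 := d1_1 D5957 (iv4 D3380) (iv2 F4620)
theorem F9250 : act 6 n5957 = n3228 := d10_2 F4619 D5957 (iv4 D3228)
theorem F9251 : act 7 n5957 = n3378 := d11_2 (iv7 F4621) D5957 (iv4 D3378)
def n5958 : Q := act 3 n2515
theorem D5958 : act 3 n2515 = n5958 := rfl
theorem F9252 : act 4 n5958 = n2516 := d5_2 D2515 D5958 (iv3 D2516) (iv4 D1173) D1172
theorem F9253 : act 7 n5958 = n3388 := d8_2 (iv7 F3992) D5958 (iv3 D3388)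
def n5959 : Q := act 5 n2515
theorem D5959 : act 5 n2515 = n5959 := rfl
theorem F9255 : act 7 n5959 = n3389 := d13_2 (iv7 F3992) D5959 (iv5 D3389)
theorem F9256 : act 4 n5959 = n3389 := d16_2 D2515 D5959 (iv5 D3389) (iv4 D1495) (iv5 F2192) F2191 F2192 (iv7 F2137) F2135
def n5960 : Q := act 0 n2516
theorem D5960 : act 0 n2516 = n5960 := rfl
theorem F9257 : act 1 n3396 = n5960 := d15_0 (iv0 D5960) F3993 D3396
def n5961 : Q := act 1 n2516
theorem D5961 : act 1 n2516 = n5961 := rfl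
def n5962 : Q := act 2 n2516
theorem D5962 : act 2 n2516 = n5962 := rfl
theorem F9258 : act 3 n5962 = n3383 := d0_2 D2516 D5962 (iv2 D3383) (iv3 D1493) (iv2 F2138)
theorem F9259 : act 7 n5962 = n3396 := d4_2 (iv7 F3993) D5962 (iv2 D3396)
theorem F9260 : act 1 n5962 = n3394 := d15_0 (iv0 D3394) (iv7 F3993) D5962
theorem F9261 : act 1 n5961 = n3396 := d15_1 D5961 (iv7 F9259) (iv2 D5962)
theorem F9262 : act 1 n3395 = n5962 := d15_1 D3395 F9259 (iv2 D3396)
def n5963 : Q := act 5 n2516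
theorem D5963 : act 5 n2516 = n5963 := rfl
theorem F9263 : act 3 n5963 = n2517 := d6_1 D5963 (iv5 D2517) D2516
theorem F9264 : act 7 n5963 = n3397 := d13_2 (iv7 F3993) D5963 (iv5 D3397)
def n5964 : Q := act 6 n2517
theorem D5964 : act 6 n2517 = n5964 := rfl
theorem F9265 : act 2 n5964 = n3387 := d3_1 D5964 (iv6 D3387) (iv2 F3994)
theorem F9266 : act 4 n5964 = n2613 := d10_1 D5964 (iv6 D2613) (iv4 F3996)
def n5965 : Q := act 0 n2518
theorem D5965 : act 0 n2518 = n5965 := rfl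
theorem F9267 : act 1 n3383 = n5965 := d15_0 (iv0 D5965) F3998 D3383
def n5966 : Q := act 1 n2518
theorem D5966 : act 1 n2518 = n5966 := rfl
def n5967 : Q := act 2 n2518
theorem D5967 : act 2 n2518 = n5967 := rfl
theorem F9268 : act 3 n5967 = n3396 := d0_2 D2518 D5967 (iv2 D3396) (iv3 D1497) (iv2 F2141)
theorem F9269 : act 4 n5967 = n5967 := d1_2 F3997 D5967 (iv2 D5967)
theorem F9270 : act 7 n5967 = n3383 := d4_2 (iv7 F3998) D5967 (iv2 D3383)
theorem F9271 : act 1 n5967 = n3381 := d15_0 (iv0 D3381) (iv7 F3998) D5967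
theorem F9272 : act 1 n5966 = n3383 := d15_1 D5966 (iv7 F9270) (iv2 D5967)
theorem F9273 : act 1 n3382 = n5967 := d15_1 D3382 F9270 (iv2 D3383)
def n5968 : Q := act 5 n2518
theorem D5968 : act 5 n2518 = n5968 := rfl
theorem F9274 : act 3 n5968 = n2519 := d6_1 D5968 (iv5 D2519) D2518
theorem F9275 : act 7 n5968 = n3384 := d13_2 (iv7 F3998) D5968 (iv5 D3384)
def n5969 : Q := act 6 n2518
theorem D5969 : act 6 n2518 = n5969 := rfl
theorem F9276 : act 3 n5969 = n2520 := d7_1 D5969 (iv6 D2520) D2518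
theorem F9277 : act 4 n5969 = n5969 := d10_1 D5969 (iv6 D5969) F3997
def n5970 : Q := act 6 n2519
theorem D5970 : act 6 n2519 = n5970 := rfl
theorem F9278 : act 2 n5970 = n3399 := d3_1 D5970 (iv6 D3399) (iv2 F3999)
theorem F9279 : act 4 n5970 = n2612 := d10_1 D5970 (iv6 D2612) (iv4 F4000)
def n5971 : Q := act 0 n2520
theorem D5971 : act 0 n2520 = n5971 := rfl
def n5972 : Q := act 1 n2520
theorem D5972 : act 1 n2520 = n5972 := rfl
theorem F9280 : act 1 n5972 = n3403 := d15_1 D5972 (iv7 D3403) (iv2 F4002)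
def n5973 : Q := act 5 n2520
theorem D5973 : act 5 n2520 = n5973 := rfl
theorem F9281 : act 2 n5973 = n3402 := d2_1 D5973 (iv5 D3402) (iv2 F4002)
def n5974 : Q := act 7 n2520
theorem D5974 : act 7 n2520 = n5974 := rfl
theorem F9282 : act 2 n5974 = n3403 := d4_1 D5974 (iv7 D3403) (iv2 F4002)
theorem F9283 : act 4 n5974 = n2523 := d11_1 D5974 (iv7 D2523) (iv4 F4003)
theorem F9284 : act 6 n5974 = n2958 := d14_1 D5974 (iv7 D2958) F2449 (iv7 F2142) D2520
theorem F9285 : act 1 n3403 = n5971 := d15_0 (iv0 D5971) D5974 F9282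
theorem F9286 : act 1 n3401 = n5974 := d15_1 D3401 (iv7 D5974) F4002
theorem F9287 : act 1 n5974 = n3400 := d15_0 (iv0 D3400) D3403 (iv2 F9282)
def n5975 : Q := act 2 n2521
theorem D5975 : act 2 n2521 = n5975 := rfl
theorem F9288 : act 7 n2522 = n5975 := d15_2 (iv0 D2521) D2522 (iv2 D5975)
def n5976 : Q := act 3 n2521
theorem D5976 : act 3 n2521 = n5976 := rfl
def n5977 : Q := act 4 n2521
theorem D5977 : act 4 n2521 = n5977 := rfl
def n5978 : Q := act 7 n2521
theorem D5978 : act 7 n2521 = n5978 := rfl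
theorem F9289 : act 2 n5978 = n2522 := d4_1 D5978 F9288 (iv2 D5975)
def n5979 : Q := act 3 n2522
theorem D5979 : act 3 n2522 = n5979 := rfl
def n5980 : Q := act 4 n2522
theorem D5980 : act 4 n2522 = n5980 := rfl
def n5981 : Q := act 0 n2524
theorem D5981 : act 0 n2524 = n5981 := rfl
theorem F9290 : act 1 n3422 = n5981 := d15_0 (iv0 D5981) F4012 D3422
def n5982 : Q := act 1 n2524
theorem D5982 : act 1 n2524 = n5982 := rfl
def n5983 : Q := act 2 n2524
theorem D5983 : act 2 n2524 = n5983 := rfl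
theorem F9291 : act 3 n5983 = n3413 := d0_2 D2524 D5983 (iv2 D3413) (iv3 D1503) F2148
theorem F9292 : act 7 n5983 = n3422 := d4_2 (iv7 F4012) D5983 (iv2 D3422)
theorem F9293 : act 1 n5983 = n3420 := d15_0 (iv0 D3420) (iv7 F4012) D5983
theorem F9294 : act 1 n5982 = n3422 := d15_1 D5982 (iv7 F9292) (iv2 D5983)
theorem F9295 : act 1 n3421 = n5983 := d15_1 D3421 F9292 (iv2 D3422)
def n5984 : Q := act 5 n2524
theorem D5984 : act 5 n2524 = n5984 := rfl
theorem F9296 : act 3 n5984 = n2525 := d6_1 D5984 (iv5 D2525) D2524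
theorem F9297 : act 7 n5984 = n3424 := d13_2 (iv7 F4012) D5984 (iv5 D3424)
def n5985 : Q := act 6 n2524
theorem D5985 : act 6 n2524 = n5985 := rfl
theorem F9298 : act 3 n5985 = n2526 := d7_1 D5985 (iv6 D2526) D2524
def n5986 : Q := act 6 n2525
theorem D5986 : act 6 n2525 = n5986 := rfl
theorem F9299 : act 2 n5986 = n3417 := d3_1 D5986 (iv6 D3417) (iv2 F4013)
theorem F9300 : act 4 n5986 = n2606 := d10_1 D5986 (iv6 D2606) (iv4 F4015)
def n5987 : Q := act 5 n2526
theorem D5987 : act 5 n2526 = n5987 := rfl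
theorem F9301 : act 2 n5987 = n3418 := d2_1 D5987 (iv5 D3418) (iv2 F4018)
def n5988 : Q := act 7 n2526
theorem D5988 : act 7 n2526 = n5988 := rfl
theorem F9302 : act 2 n5988 = n3419 := d4_1 D5988 (iv7 D3419) (iv2 F4018)
theorem F9303 : act 4 n5988 = n2804 := d11_1 D5988 (iv7 D2804) (iv4 F4019)
theorem F9304 : act 6 n5988 = n3430 := d14_1 D5988 (iv7 D3430) (iv6 D1508) F2149 D2526
theorem F9305 : act 1 n2952 = n5988 := d15_1 (iv0 F4892) (iv7 D5988) F4018
theorem F9306 : act 1 n5988 = n2949 := d15_1 F9305 (iv7 F4730) F4729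
def n5989 : Q := act 0 n2527
theorem D5989 : act 0 n2527 = n5989 := rfl
theorem F9307 : act 1 n3413 = n5989 := d15_0 (iv0 D5989) F4020 D3413
def n5990 : Q := act 1 n2527
theorem D5990 : act 1 n2527 = n5990 := rfl
def n5991 : Q := act 2 n2527
theorem D5991 : act 2 n2527 = n5991 := rfl
theorem F9308 : act 3 n5991 = n3422 := d0_2 D2527 D5991 (iv2 D3422) (iv3 D1506) F2154
theorem F9309 : act 7 n5991 = n3413 := d4_2 (iv7 F4020) D5991 (iv2 D3413)
theorem F9310 : act 1 n5991 = n3411 := d15_0 (iv0 D3411) (iv7 F4020) D5991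
theorem F9311 : act 1 n5990 = n3413 := d15_1 D5990 (iv7 F9309) (iv2 D5991)
theorem F9312 : act 1 n3412 = n5991 := d15_1 D3412 F9309 (iv2 D3413)
def n5992 : Q := act 4 n2527
theorem D5992 : act 4 n2527 = n5992 := rfl
theorem F9313 : act 3 n5992 = n3521 := d5_1 D5992 (iv4 D3521) F2708 (iv4 F2153) D2527
theorem F9314 : act 7 n5992 = n3414 := d11_2 (iv7 F4020) D5992 (iv4 D3414)
def n5993 : Q := act 5 n2527
theorem D5993 : act 5 n2527 = n5993 := rfl
theorem F9315 : act 3 n5993 = n2528 := d6_1 D5993 (iv5 D2528) D2527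
theorem F9316 : act 7 n5993 = n3415 := d13_2 (iv7 F4020) D5993 (iv5 D3415)
def n5994 : Q := act 6 n2527
theorem D5994 : act 6 n2527 = n5994 := rfl
theorem F9317 : act 3 n5994 = n2529 := d7_1 D5994 (iv6 D2529) D2527
def n5995 : Q := act 6 n2528
theorem D5995 : act 6 n2528 = n5995 := rfl
theorem F9318 : act 2 n5995 = n3426 := d3_1 D5995 (iv6 D3426) (iv2 F4021)
theorem F9319 : act 4 n5995 = n2600 := d10_1 D5995 (iv6 D2600) (iv4 F4022)
def n5996 : Q := act 0 n2529
theorem D5996 : act 0 n2529 = n5996 := rfl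
def n5997 : Q := act 1 n2529
theorem D5997 : act 1 n2529 = n5997 := rfl
theorem F9320 : act 1 n5997 = n3430 := d15_1 D5997 (iv7 D3430) (iv2 F4026)
def n5998 : Q := act 5 n2529
theorem D5998 : act 5 n2529 = n5998 := rfl
theorem F9321 : act 2 n5998 = n3429 := d2_1 D5998 (iv5 D3429) (iv2 F4026)
def n5999 : Q := act 7 n2529
theorem D5999 : act 7 n2529 = n5999 := rfl
theorem F9322 : act 2 n5999 = n3430 := d4_1 D5999 (iv7 D3430) (iv2 F4026)
theorem F9323 : act 4 n5999 = n3525 := d11_1 D5999 (iv7 D3525) (iv4 F4027)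
theorem F9324 : act 6 n5999 = n3419 := d14_1 D5999 (iv7 D3419) (iv6 D1505) (iv7 F2152) D2529
theorem F9325 : act 1 n3430 = n5996 := d15_0 (iv0 D5996) D5999 F9322
theorem F9326 : act 1 n3428 = n5999 := d15_1 D3428 (iv7 D5999) F4026
theorem F9327 : act 1 n5999 = n3427 := d15_0 (iv0 D3427) D3430 (iv2 F9322)
def n6000 : Q := act 0 n2530
theorem D6000 : act 0 n2530 = n6000 := rfl
theorem F9328 : act 2 n2534 = n6000 := d15_3 (iv0 D6000) (iv0 D2530) D2534
theorem F9329 : act 3 n6000 = n3431 := d0_2 (iv3 F4031) F9328 (iv2 F5417) F2624 (iv2 F2158)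
theorem F9330 : act 5 n6000 = n3913 := d2_2 (iv5 F4032) F9328 (iv2 D3913)
theorem F9331 : act 7 n6000 = n2532 := d4_2 D2534 F9328 (iv2 D2532)
theorem F9332 : act 1 n2531 = n6000 := d15_1 D2531 F9331 (iv2 D2532)
def n6001 : Q := act 2 n2530
theorem D6001 : act 2 n2530 = n6001 := rfl
theorem F9333 : act 7 n2531 = n6001 := d15_2 (iv0 D2530) D2531 (iv2 D6001)
def n6002 : Q := act 3 n2530
theorem D6002 : act 3 n2530 = n6002 := rfl
def n6003 : Q := act 4 n2530
theorem D6003 : act 4 n2530 = n6003 := rfl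
def n6004 : Q := act 5 n2530
theorem D6004 : act 5 n2530 = n6004 := rfl
def n6005 : Q := act 6 n2530
theorem D6005 : act 6 n2530 = n6005 := rfl
def n6006 : Q := act 7 n2530
theorem D6006 : act 7 n2530 = n6006 := rfl
theorem F9334 : act 2 n6006 = n2531 := d4_1 D6006 F9333 (iv2 D6001)
def n6007 : Q := act 3 n2531
theorem D6007 : act 3 n2531 = n6007 := rfl
def n6008 : Q := act 4 n2531
theorem D6008 : act 4 n2531 = n6008 := rfl
def n6009 : Q := act 5 n2531
theorem D6009 : act 5 n2531 = n6009 := rfl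
def n6010 : Q := act 6 n2531
theorem D6010 : act 6 n2531 = n6010 := rfl
def n6011 : Q := act 0 n2532
theorem D6011 : act 0 n2532 = n6011 := rfl
theorem F9335 : act 1 n2534 = n6011 := d15_0 (iv0 D6011) (iv7 F9331) (iv2 F9328)
def n6012 : Q := act 1 n2532
theorem D6012 : act 1 n2532 = n6012 := rfl
theorem F9336 : act 1 n6012 = n2534 := d15_1 D6012 (iv7 D2534) D2532
def n6013 : Q := act 5 n2532
theorem D6013 : act 5 n2532 = n6013 := rfl
theorem F9337 : act 2 n6013 = n2533 := d2_1 D6013 (iv5 D2533) D2532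
theorem F9338 : act 3 n6013 = n3444 := d6_1 D6013 (iv5 D3444) (iv3 F4028)
theorem F9339 : act 7 n6013 = n3913 := d13_2 F9331 D6013 (iv5 F9330)
theorem F9340 : act 1 n3912 = n6013 := d15_1 D3912 F9339 (iv2 D3913)
theorem F9341 : act 1 n6013 = n3911 := d15_0 (iv0 D3911) F4030 (iv2 F9337)
def n6014 : Q := act 0 n2533
theorem D6014 : act 0 n2533 = n6014 := rfl
theorem F9342 : act 1 n3913 = n6014 := d15_0 (iv0 D6014) (iv7 F4030) D3913
def n6015 : Q := act 1 n2533
theorem D6015 : act 1 n2533 = n6015 := rfl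
theorem F9343 : act 1 n6015 = n3913 := d15_1 D6015 (iv7 F9339) F9337
def n6016 : Q := act 4 n2533
theorem D6016 : act 4 n2533 = n6016 := rfl
theorem F9344 : act 3 n6016 = n3885 := d5_1 D6016 F5848 F2863 (iv4 F2156) (iv3 F4029)
theorem F9345 : act 7 n6016 = n3882 := d11_2 F4030 D6016 F5846
def n6017 : Q := act 6 n2533
theorem D6017 : act 6 n2533 = n6017 := rfl
theorem F9346 : act 3 n6017 = n2537 := d7_1 D6017 (iv6 D2537) (iv3 F4029)
def n6018 : Q := act 6 n2534
theorem D6018 : act 6 n2534 = n6018 := rfl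
theorem F9347 : act 3 n6018 = n2538 := d7_1 D6018 (iv6 D2538) (iv3 F4031)
def n6019 : Q := act 3 n2535
theorem D6019 : act 3 n2535 = n6019 := rfl
theorem F9348 : act 5 n6019 = n2562 := d6_2 (iv5 F4033) D6019 (iv3 D2562)
theorem F9349 : act 7 n6019 = n3452 := d8_2 F4037 D6019 (iv3 D3452)
def n6020 : Q := act 6 n2535
theorem D6020 : act 6 n2535 = n6020 := rfl
theorem F9350 : act 2 n6020 = n3451 := d3_1 D6020 (iv6 D3451) F4036
theorem F9351 : act 4 n6020 = n2593 := d10_1 D6020 (iv6 D2593) (iv4 F4034)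
def n6021 : Q := act 3 n2536
theorem D6021 : act 3 n2536 = n6021 := rfl
theorem F9352 : act 5 n6021 = n2583 := d6_2 (iv5 F4040) D6021 (iv3 D2583)
theorem F9353 : act 7 n6021 = n3450 := d8_2 (iv7 F4039) D6021 (iv3 D3450)
def n6022 : Q := act 6 n2536
theorem D6022 : act 6 n2536 = n6022 := rfl
theorem F9354 : act 2 n6022 = n3453 := d3_1 D6022 (iv6 D3453) F4042
theorem F9355 : act 4 n6022 = n2573 := d10_1 D6022 (iv6 D2573) (iv4 F4041)
def n6023 : Q := act 0 n2537
theorem D6023 : act 0 n2537 = n6023 := rfl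
def n6024 : Q := act 1 n2537
theorem D6024 : act 1 n2537 = n6024 := rfl
theorem F9356 : act 1 n6024 = n3456 := d15_1 D6024 (iv7 D3456) (iv2 F4043)
def n6025 : Q := act 7 n2537
theorem D6025 : act 7 n2537 = n6025 := rfl
theorem F9357 : act 2 n6025 = n3456 := d4_1 D6025 (iv7 D3456) (iv2 F4043)
theorem F9358 : act 4 n6025 = n3929 := d11_1 D6025 F5864 (iv4 F4044)
theorem F9359 : act 6 n6025 = n3918 := d14_1 D6025 (iv7 D3918) (iv6 D1692) F2157 D2537
theorem F9360 : act 1 n3456 = n6023 := d15_0 (iv0 D6023) D6025 F9357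
theorem F9361 : act 1 n3455 = n6025 := d15_1 D3455 (iv7 D6025) F4043
theorem F9362 : act 1 n6025 = n3454 := d15_0 (iv0 D3454) D3456 (iv2 F9357)
def n6026 : Q := act 0 n2538
theorem D6026 : act 0 n2538 = n6026 := rfl
theorem F9363 : act 1 n3324 = n6026 := d15_0 (iv0 D6026) (iv7 F9178) F9176
def n6027 : Q := act 1 n2538
theorem D6027 : act 1 n2538 = n6027 := rfl
theorem F9364 : act 1 n6027 = n3324 := d15_1 D6027 F5311 (iv2 F4045)
def n6028 : Q := act 5 n2538
theorem D6028 : act 5 n2538 = n6028 := rfl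
theorem F9365 : act 2 n6028 = n3459 := d2_1 D6028 (iv5 D3459) (iv2 F4045)
theorem F9366 : act 6 n6028 = n3917 := d12_2 D2538 D6028 (iv5 D3917) (iv6 D1692) (iv5 F2160)
def n6029 : Q := act 3 n2539
theorem D6029 : act 3 n2539 = n6029 := rfl
theorem F9367 : act 2 n6029 = n6029 := d0_1 D6029 (iv3 D6029) (iv2 F5264) F5208 F5264
theorem F9368 : act 6 n6029 = n3496 := d7_2 (iv6 F4047) D6029 F5494
theorem F9369 : act 7 n6029 = n3462 := d8_2 F5266 D6029 (iv3 D3462)
def n6030 : Q := act 4 n2539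
theorem D6030 : act 4 n2539 = n6030 := rfl
theorem F9370 : act 2 n6030 = n3460 := d1_1 D6030 (iv4 D3460) F5264
theorem F9371 : act 6 n6030 = n3501 := d10_2 (iv6 F4047) D6030 (iv4 D3501)
theorem F9372 : act 7 n6030 = n3463 := d11_2 F5266 D6030 (iv4 D3463)
def n6031 : Q := act 5 n2539
theorem D6031 : act 5 n2539 = n6031 := rfl
theorem F9373 : act 2 n6031 = n3461 := d2_1 D6031 (iv5 D3461) F5264
theorem F9374 : act 6 n6031 = n2933 := d12_2 (iv6 F4047) D6031 F4533 (iv6 D1545) D1544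
theorem F9375 : act 7 n6031 = n3464 := d13_2 F5266 D6031 (iv5 D3464)
theorem F9376 : act 0 n5943 = n6031 := d21_10 (iv5 D6031) (iv1 F4048) F2576 (iv6 D1469) (iv1 F2115) D2494 (iv5 F5489) F9220 (iv5 D5942) D5943
theorem F9377 : act 1 n3354 = n3464 := d15_1 (iv0 F5435) (iv7 F9375) F9373
def n6032 : Q := act 4 n2540
theorem D6032 : act 4 n2540 = n6032 := rfl
theorem F9378 : act 2 n6032 = n3463 := d1_1 D6032 (iv4 D3463) (iv2 F5267)
theorem F9379 : act 7 n6032 = n3460 := d11_2 (iv7 F5265) D6032 (iv4 D3460)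
def n6033 : Q := act 5 n2540
theorem D6033 : act 5 n2540 = n6033 := rfl
theorem F9380 : act 2 n6033 = n3464 := d2_1 D6033 (iv5 D3464) (iv2 F5267)
theorem F9381 : act 3 n6033 = n6033 := d6_1 D6033 (iv5 D6033) F5268
theorem F9382 : act 7 n6033 = n3461 := d13_2 (iv7 F5265) D6033 (iv5 D3461)
theorem F9383 : act 6 n6033 = n3519 := d21_3 F2576 (iv1 F4049) D6033 (iv1 F5529) F5319 F4057 (iv1 F2188) D1544 (iv6 F4047) (iv1 F4048)
theorem F9384 : act 0 n6033 = n5943 := d21_4 (iv5 F9118) F9119 F5538 (iv6 F9383) (iv6 D5943) D5942 F9218 F5439 (iv6 F9125) (iv1 F9126)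
def n6034 : Q := act 6 n2540
theorem D6034 : act 6 n2540 = n6034 := rfl
theorem F9385 : act 2 n6034 = n3465 := d3_1 D6034 (iv6 D3465) (iv2 F5267)
theorem F9386 : act 3 n6034 = n6034 := d7_1 D6034 (iv6 D6034) F5268
theorem F9387 : act 5 n6034 = n5901 := d12_1 D6034 F9141 F5538 (iv6 F9383) (iv5 D6033)
theorem F9388 : act 7 n6034 = n3492 := d14_2 (iv7 F5265) D6034 (iv6 D3492) F5263 F4053
theorem F9389 : act 1 n3349 = n6034 := d15_1 (iv0 F5334) F9388 F5487
theorem F9390 : act 0 n3353 = n6034 := d21_10 F9387 (iv1 F9142) F4641 (iv6 F4611) (iv1 D2466) D2468 (iv5 F5510) F5512 (iv5 F5032) (iv6 F5336)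
def n6035 : Q := act 3 n2541
theorem D6035 : act 3 n2541 = n6035 := rfl
theorem F9391 : act 4 n6035 = n2553 := d5_2 D2541 D6035 (iv3 D2553) (iv4 D1192) (iv3 F2175)
def n6036 : Q := act 5 n2541
theorem D6036 : act 5 n2541 = n6036 := rfl
def n6037 : Q := act 4 n2543
theorem D6037 : act 4 n2543 = n6037 := rfl
def n6038 : Q := act 5 n2543
theorem D6038 : act 5 n2543 = n6038 := rfl
theorem F9395 : act 3 n6038 = n2545 := d6_1 D6038 (iv5 D2545) D2543
theorem F9396 : act 7 n6038 = n3496 := d13_2 (iv7 F5258) D6038 (iv5 D3496)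
def n6039 : Q := act 4 n2545
theorem D6039 : act 4 n2545 = n6039 := rfl
theorem F9397 : act 2 n6039 = n3491 := d1_1 D6039 (iv4 D3491) (iv2 F5262)
theorem F9398 : act 7 n6039 = n3501 := d11_2 (iv7 F5260) D6039 (iv4 D3501)
def n6040 : Q := act 4 n2549
theorem D6040 : act 4 n2549 = n6040 := rfl
theorem F9399 : act 2 n6040 = n3501 := d1_1 D6040 (iv4 D3501) F5261
theorem F9400 : act 6 n6040 = n3460 := d10_2 (iv6 F4053) D6040 (iv4 D3460)
theorem F9401 : act 7 n6040 = n3491 := d11_2 F5263 D6040 (iv4 D3491)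
def n6041 : Q := act 3 n2551
theorem D6041 : act 3 n2551 = n6041 := rfl
theorem F9402 : act 6 n6041 = n2553 := d7_2 (iv6 F4055) D6041 (iv3 D2553)
def n6042 : Q := act 5 n2551
theorem D6042 : act 5 n2551 = n6042 := rfl
theorem F9403 : act 2 n6042 = n3509 := d2_1 D6042 (iv5 D3509) (iv2 F4054)
def n6043 : Q := act 7 n2551
theorem D6043 : act 7 n2551 = n6043 := rfl
theorem F9404 : act 2 n6043 = n3510 := d4_1 D6043 (iv7 D3510) (iv2 F4054)
theorem F9405 : act 4 n6043 = n2552 := d11_1 D6043 (iv7 D2552) D2551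
theorem F9406 : act 1 n3507 = n6043 := d15_1 D3507 (iv7 D6043) F4054
theorem F9407 : act 1 n6043 = n3506 := d15_1 F9406 (iv7 F8095) F8094
def n6044 : Q := act 0 n2553
theorem D6044 : act 0 n2553 = n6044 := rfl
def n6045 : Q := act 1 n2553
theorem D6045 : act 1 n2553 = n6045 := rfl
def n6046 : Q := act 2 n2553
theorem D6046 : act 2 n2553 = n6046 := rfl
theorem F9408 : act 3 n6046 = n3514 := d0_2 D2553 D6046 (iv2 D3514) (iv3 D1550) (iv2 F2195)
def n6047 : Q := act 5 n2553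
theorem D6047 : act 5 n2553 = n6047 := rfl
theorem F9409 : act 3 n6047 = n2554 := d6_1 D6047 (iv5 D2554) D2553
theorem F9410 : act 7 n6047 = n3557 := d13_2 F5316 D6047 F5581
def n6048 : Q := act 6 n2554
theorem D6048 : act 6 n2554 = n6048 := rfl
theorem F9411 : act 2 n6048 = n3517 := d3_1 D6048 (iv6 D3517) (iv2 F4060)
theorem F9412 : act 4 n6048 = n3562 := d10_1 D6048 (iv6 D3562) (iv4 F4062)
def n6049 : Q := act 2 n2555
theorem D6049 : act 2 n2555 = n6049 := rfl
theorem F9413 : act 7 n2556 = n6049 := d15_2 (iv0 D2555) D2556 (iv2 D6049)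
def n6050 : Q := act 4 n2555
theorem D6050 : act 4 n2555 = n6050 := rfl
def n6051 : Q := act 5 n2555
theorem D6051 : act 5 n2555 = n6051 := rfl
def n6052 : Q := act 6 n2555
theorem D6052 : act 6 n2555 = n6052 := rfl
def n6053 : Q := act 7 n2555
theorem D6053 : act 7 n2555 = n6053 := rfl
theorem F9414 : act 2 n6053 = n2556 := d4_1 D6053 F9413 (iv2 D6049)
def n6054 : Q := act 3 n2556
theorem D6054 : act 3 n2556 = n6054 := rfl
def n6055 : Q := act 4 n2556
theorem D6055 : act 4 n2556 = n6055 := rfl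
theorem F9415 : act 3 n3616 = n6055 := d20_5 (iv4 D906) D905 F1690 D1591 D3616 (iv4 D6055) (iv1 D2556) F2196 (iv3 D1193) (iv1 F1698)
def n6056 : Q := act 5 n2556
theorem D6056 : act 5 n2556 = n6056 := rfl
def n6057 : Q := act 6 n2556
theorem D6057 : act 6 n2556 = n6057 := rfl
def n6058 : Q := act 5 n2557
theorem D6058 : act 5 n2557 = n6058 := rfl
theorem F9416 : act 2 n6058 = n2558 := d2_1 D6058 (iv5 D2558) D2557
theorem F9417 : act 3 n6058 = n3550 := d6_1 D6058 (iv5 D3550) (iv3 F4065)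
def n6059 : Q := act 0 n2558
theorem D6059 : act 0 n2558 = n6059 := rfl
def n6060 : Q := act 1 n2558
theorem D6060 : act 1 n2558 = n6060 := rfl
def n6061 : Q := act 4 n2558
theorem D6061 : act 4 n2558 = n6061 := rfl
def n6062 : Q := act 6 n2558
theorem D6062 : act 6 n2558 = n6062 := rfl
theorem F9418 : act 3 n6062 = n2560 := d7_1 D6062 (iv6 D2560) (iv3 F4068)
theorem F9419 : act 5 n6062 = n2632 := d12_1 D6062 (iv6 D2632) (iv5 D1228) (iv6 F2197) D2558
def n6063 : Q := act 3 n2559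
theorem D6063 : act 3 n2559 = n6063 := rfl
theorem F9420 : act 5 n6063 = n3516 := d6_2 (iv5 F4070) D6063 F5525
theorem F9421 : act 7 n6063 = n3515 := d8_2 (iv7 F4071) D6063 F5524
def n6064 : Q := act 6 n2559
theorem D6064 : act 6 n2559 = n6064 := rfl
theorem F9422 : act 2 n6064 = n3558 := d3_1 D6064 (iv6 D3558) (iv2 F4069)
theorem F9423 : act 4 n6064 = n2560 := d10_1 D6064 (iv6 D2560) D2559
def n6065 : Q := act 0 n2560
theorem D6065 : act 0 n2560 = n6065 := rfl
def n6066 : Q := act 1 n2560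
theorem D6066 : act 1 n2560 = n6066 := rfl
theorem F9424 : act 1 n6066 = n3561 := d15_1 D6066 (iv7 D3561) (iv2 F4074)
def n6067 : Q := act 7 n2560
theorem D6067 : act 7 n2560 = n6067 := rfl
theorem F9425 : act 2 n6067 = n3561 := d4_1 D6067 (iv7 D3561) (iv2 F4074)
theorem F9426 : act 5 n6067 = n2643 := d13_1 D6067 (iv7 D2643) (iv5 F4075)
theorem F9427 : act 1 n3561 = n6065 := d15_0 (iv0 D6065) D6067 F9425
theorem F9428 : act 1 n3560 = n6067 := d15_1 D3560 (iv7 D6067) F4074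
theorem F9429 : act 1 n6067 = n3559 := d15_0 (iv0 D3559) D3561 (iv2 F9425)
def n6068 : Q := act 0 n2561
theorem D6068 : act 0 n2561 = n6068 := rfl
theorem F9430 : act 1 n3590 = n6068 := d15_0 (iv0 D6068) (iv7 F8181) F8178
def n6069 : Q := act 1 n2561
theorem D6069 : act 1 n2561 = n6069 := rfl
theorem F9431 : act 1 n6069 = n3590 := d15_1 D6069 (iv7 D3590) (iv2 F4076)
theorem F9432 : act 6 n5649 = n6069 := d21_3 F7952 (iv1 F7958) D5649 (iv1 D6069) (iv6 D2561) F2201 (iv1 D826) (iv5 F1468) (iv6 F2374) D2792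
theorem F9433 : act 5 n5114 = n6069 := d21_6 (iv5 D722) F994 D658 (iv6 F1932) D2105 D5114 (iv1 D6069) F4078 (iv6 D2561) (iv1 F2202)
theorem F9434 : act 2 n6069 = n3589 := d2_1 F9433 (iv5 F5626) F7894
theorem F9435 : act 7 n3588 = n6069 := d15_2 (iv0 F8182) F8183 F9434
theorem F9436 : act 7 n6068 = n3589 := d15_2 F9431 F9430 (iv2 F9434)
theorem F9437 : act 2 n3588 = n6068 := d4_3 F9436 (iv2 F9434) (iv7 F9435)
def n6070 : Q := act 0 n2562
theorem D6070 : act 0 n2562 = n6070 := rfl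
theorem F9438 : act 1 n3675 = n6070 := d15_0 (iv0 D6070) F4079 D3675
def n6071 : Q := act 1 n2562
theorem D6071 : act 1 n2562 = n6071 := rfl
def n6072 : Q := act 2 n2562
theorem D6072 : act 2 n2562 = n6072 := rfl
theorem F9439 : act 3 n6072 = n3593 := d0_2 D2562 D6072 (iv2 D3593) (iv3 D1583) (iv2 F2211)
theorem F9440 : act 7 n6072 = n3675 := d4_2 (iv7 F4079) D6072 (iv2 D3675)
theorem F9441 : act 1 n6072 = n3673 := d15_0 (iv0 D3673) (iv7 F4079) D6072
theorem F9442 : act 1 n6071 = n3675 := d15_1 D6071 (iv7 F9440) (iv2 D6072)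
theorem F9443 : act 1 n3674 = n6072 := d15_1 D3674 F9440 (iv2 D3675)
def n6073 : Q := act 6 n2562
theorem D6073 : act 6 n2562 = n6073 := rfl
theorem F9444 : act 3 n6073 = n2563 := d7_1 D6073 (iv6 D2563) D2562
def n6074 : Q := act 0 n2563
theorem D6074 : act 0 n2563 = n6074 := rfl
def n6075 : Q := act 1 n2563
theorem D6075 : act 1 n2563 = n6075 := rfl
theorem F9445 : act 1 n6075 = n3598 := d15_1 D6075 (iv7 D3598) (iv2 F4080)
def n6076 : Q := act 5 n2563
theorem D6076 : act 5 n2563 = n6076 := rfl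
theorem F9446 : act 2 n6076 = n3597 := d2_1 D6076 (iv5 D3597) (iv2 F4080)
def n6077 : Q := act 7 n2563
theorem D6077 : act 7 n2563 = n6077 := rfl
theorem F9447 : act 2 n6077 = n3598 := d4_1 D6077 (iv7 D3598) (iv2 F4080)
theorem F9448 : act 4 n6077 = n2566 := d11_1 D6077 (iv7 D2566) (iv4 F4081)
theorem F9449 : act 6 n6077 = n3680 := d14_1 D6077 (iv7 D3680) (iv6 D1617) (iv7 F2212) D2563
theorem F9450 : act 1 n3598 = n6074 := d15_0 (iv0 D6074) D6077 F9447
theorem F9451 : act 1 n3596 = n6077 := d15_1 D3596 (iv7 D6077) F4080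
theorem F9452 : act 1 n6077 = n3595 := d15_0 (iv0 D3595) D3598 (iv2 F9447)
def n6078 : Q := act 2 n2564
theorem D6078 : act 2 n2564 = n6078 := rfl
def n6079 : Q := act 3 n2564
theorem D6079 : act 3 n2564 = n6079 := rfl
def n6080 : Q := act 4 n2564
theorem D6080 : act 4 n2564 = n6080 := rfl
def n6081 : Q := act 5 n2564
theorem D6081 : act 5 n2564 = n6081 := rfl
theorem F9454 : act 0 n6081 = n5359 := d21_1 D6081 F8159 (iv6 D5117) (iv1 D2106) F1932 (iv5 D658) (iv1 F1085) D718 D1198 D2564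
def n6082 : Q := act 6 n2564
theorem D6082 : act 6 n2564 = n6082 := rfl
theorem F9455 : act 5 n6082 = n3524 := d21_6 (iv5 D658) (iv1 F1085) D718 D1198 D2564 D6082 (iv1 D3524) F2712 (iv6 D1557) F1590
theorem F9456 : act 0 n5106 = n6082 := d21_4 (iv5 D1039) D1037 D2098 D5106 (iv6 D6082) D6081 F9454 F8159 (iv6 D5117) (iv1 D2106)
theorem F9457 : act 1 n5331 = n6082 := d15_0 (iv0 F9456) (iv7 F8169) F8167
def n6083 : Q := act 7 n2564
theorem D6083 : act 7 n2564 = n6083 := rfl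
def n6084 : Q := act 3 n2565
theorem D6084 : act 3 n2565 = n6084 := rfl
def n6085 : Q := act 4 n2565
theorem D6085 : act 4 n2565 = n6085 := rfl
def n6086 : Q := act 5 n2565
theorem D6086 : act 5 n2565 = n6086 := rfl
theorem F9459 : act 6 n6086 = n3523 := d21_3 F4143 (iv1 F4082) D6086 (iv1 F5549) F4481 F4390 (iv1 F2383) D2790 (iv6 F4374) (iv1 F4147)
theorem F9460 : act 0 n5359 = n6086 := d21_10 (iv5 D6086) (iv1 D2565) F2215 (iv6 D870) (iv1 F1574) (iv6 F1998) (iv5 D1078) D1076 D2199 D5359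
def n6087 : Q := act 6 n2565
theorem D6087 : act 6 n2565 = n6087 := rfl
def n6088 : Q := act 0 n2567
theorem D6088 : act 0 n2567 = n6088 := rfl
theorem F9461 : act 1 n3618 = n6088 := d15_0 (iv0 D6088) F4091 D3618
def n6089 : Q := act 1 n2567
theorem D6089 : act 1 n2567 = n6089 := rfl
def n6090 : Q := act 2 n2567
theorem D6090 : act 2 n2567 = n6090 := rfl
theorem F9462 : act 3 n6090 = n3625 := d0_2 D2567 D6090 (iv2 D3625) (iv3 D1594) F2223
theorem F9463 : act 4 n6090 = n6090 := d1_2 F4089 D6090 (iv2 D6090)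
theorem F9464 : act 6 n6090 = n3941 := d3_2 (iv6 F4090) D6090 (iv2 D3941)
theorem F9465 : act 7 n6090 = n3618 := d4_2 (iv7 F4091) D6090 (iv2 D3618)
theorem F9466 : act 1 n6090 = n3616 := d15_0 (iv0 D3616) (iv7 F4091) D6090
theorem F9467 : act 1 n6089 = n3618 := d15_1 D6089 (iv7 F9465) (iv2 D6090)
theorem F9468 : act 0 n6090 = n3617 := d20_1 F9463 (iv4 F5653) (iv3 D3539) D3537 (iv3 F5637) F5638 (iv1 F5642) D6055 (iv3 F9415) (iv1 F9466)
def n6091 : Q := act 2 n2568
theorem D6091 : act 2 n2568 = n6091 := rfl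
theorem F9469 : act 7 n2569 = n6091 := d15_2 (iv0 D2568) D2569 (iv2 D6091)
def n6092 : Q := act 4 n2568
theorem D6092 : act 4 n2568 = n6092 := rfl
def n6093 : Q := act 5 n2568
theorem D6093 : act 5 n2568 = n6093 := rfl
def n6094 : Q := act 6 n2568
theorem D6094 : act 6 n2568 = n6094 := rfl
def n6095 : Q := act 7 n2568
theorem D6095 : act 7 n2568 = n6095 := rfl
def n6096 : Q := act 3 n2569
theorem D6096 : act 3 n2569 = n6096 := rfl
def n6097 : Q := act 4 n2569
theorem D6097 : act 4 n2569 = n6097 := rfl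
theorem F9471 : act 3 n6097 = n3949 := d20_3 F4150 (iv1 F4097) D6097 (iv1 F5900) (iv3 F5888) F5889 F5893 (iv4 F5664) (iv3 D3629) (iv1 F4152)
def n6098 : Q := act 5 n2569
theorem D6098 : act 5 n2569 = n6098 := rfl
def n6099 : Q := act 6 n2569
theorem D6099 : act 6 n2569 = n6099 := rfl
def n6100 : Q := act 5 n2570
theorem D6100 : act 5 n2570 = n6100 := rfl
theorem F9472 : act 2 n6100 = n2571 := d2_1 D6100 (iv5 D2571) D2570
theorem F9473 : act 3 n6100 = n3638 := d6_1 D6100 (iv5 D3638) (iv3 F4093)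
theorem F9474 : act 7 n6100 = n3700 := d13_2 (iv7 F4095) D6100 (iv5 D3700)
theorem F9475 : act 1 n3703 = n6100 := d15_1 D3703 F9474 F5708
theorem F9476 : act 1 n6100 = n3702 := d15_0 (iv0 D3702) (iv7 F4100) (iv2 F9472)
def n6101 : Q := act 6 n2570
theorem D6101 : act 6 n2570 = n6101 := rfl
theorem F9477 : act 2 n6101 = n2572 := d3_1 D6101 (iv6 D2572) D2570
theorem F9478 : act 3 n6101 = n3639 := d7_1 D6101 (iv6 D3639) (iv3 F4093)
theorem F9479 : act 4 n6101 = n3639 := d10_1 D6101 (iv6 D3639) (iv4 F4094)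
def n6102 : Q := act 0 n2571
theorem D6102 : act 0 n2571 = n6102 := rfl
theorem F9480 : act 1 n3700 = n6102 := d15_0 (iv0 D6102) F4100 (iv2 F5708)
def n6103 : Q := act 1 n2571
theorem D6103 : act 1 n2571 = n6103 := rfl
theorem F9481 : act 1 n6103 = n3700 := d15_1 D6103 (iv7 F9474) F9472
def n6104 : Q := act 4 n2571
theorem D6104 : act 4 n2571 = n6104 := rfl
theorem F9482 : act 7 n6104 = n3704 := d11_2 (iv7 F4100) D6104 (iv4 D3704)
def n6105 : Q := act 6 n2571
theorem D6105 : act 6 n2571 = n6105 := rfl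
theorem F9483 : act 3 n6105 = n2573 := d7_1 D6105 (iv6 D2573) (iv3 F4099)
def n6106 : Q := act 0 n2572
theorem D6106 : act 0 n2572 = n6106 := rfl
def n6107 : Q := act 1 n2572
theorem D6107 : act 1 n2572 = n6107 := rfl
def n6108 : Q := act 5 n2572
theorem D6108 : act 5 n2572 = n6108 := rfl
theorem F9484 : act 3 n6108 = n2576 := d6_1 D6108 (iv5 D2576) (iv3 F4101)
def n6109 : Q := act 7 n2572
theorem D6109 : act 7 n2572 = n6109 := rfl
theorem F9485 : act 3 n6109 = n2577 := d8_1 D6109 (iv7 D2577) (iv3 F4101)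
theorem F9486 : act 4 n6109 = n3647 := d11_1 D6109 (iv7 D3647) (iv4 F4102)
theorem F9487 : act 6 n6109 = n3709 := d14_1 D6109 (iv7 D3709) (iv6 D1625) (iv7 F2226) D2572
def n6110 : Q := act 0 n2573
theorem D6110 : act 0 n2573 = n6110 := rfl
def n6111 : Q := act 1 n2573
theorem D6111 : act 1 n2573 = n6111 := rfl
theorem F9488 : act 1 n6111 = n3653 := d15_1 D6111 (iv7 D3653) (iv2 F4103)
def n6112 : Q := act 5 n2573
theorem D6112 : act 5 n2573 = n6112 := rfl
theorem F9489 : act 2 n6112 = n3652 := d2_1 D6112 (iv5 D3652) (iv2 F4103)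
theorem F9490 : act 6 n6112 = n2576 := d12_2 D2573 D6112 (iv5 D2576) (iv6 D1203) D1202
def n6113 : Q := act 7 n2573
theorem D6113 : act 7 n2573 = n6113 := rfl
theorem F9491 : act 2 n6113 = n3653 := d4_1 D6113 (iv7 D3653) (iv2 F4103)
theorem F9492 : act 6 n6113 = n3713 := d14_1 D6113 (iv7 D3713) (iv6 D1626) (iv7 F2228) D2573
theorem F9493 : act 1 n3653 = n6110 := d15_0 (iv0 D6110) D6113 F9491
theorem F9494 : act 1 n3651 = n6113 := d15_1 D3651 (iv7 D6113) F4103
theorem F9495 : act 1 n6113 = n3650 := d15_0 (iv0 D3650) D3653 (iv2 F9491)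
def n6114 : Q := act 5 n2574
theorem D6114 : act 5 n2574 = n6114 := rfl
theorem F9496 : act 2 n6114 = n3655 := d2_1 D6114 (iv5 D3655) F4105
theorem F9497 : act 7 n6114 = n3657 := d13_2 F4107 D6114 (iv5 D3657)
theorem F9498 : act 0 n6114 = n2594 := d17_2 D2574 D6114 (iv5 D2594) F2263 F1387 D866 (iv5 F2878) F2876 (iv4 F2230)
theorem F9499 : act 1 n6114 = n3719 := d17_6 (iv1 F2920) (iv5 F2957) (iv1 F2960) (iv5 F2948) (iv4 F4104) D6114 F5727 (iv0 F2910) (iv4 F2906)
def n6115 : Q := act 3 n2575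
theorem D6115 : act 3 n2575 = n6115 := rfl
theorem F9500 : act 4 n6115 = n6115 := d5_2 F4112 D6115 (iv3 D6115) (iv4 F4112) F2992
theorem F9501 : act 6 n6115 = n6115 := d7_2 F4113 D6115 (iv3 D6115)
theorem F9502 : act 7 n6115 = n3654 := d8_2 (iv7 F4110) D6115 (iv3 D3654)
def n6116 : Q := act 5 n2575
theorem D6116 : act 5 n2575 = n6116 := rfl
theorem F9503 : act 2 n6116 = n3657 := d2_1 D6116 (iv5 D3657) F4111
theorem F9504 : act 7 n6116 = n3655 := d13_2 (iv7 F4110) D6116 (iv5 D3655)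
theorem F9505 : act 0 n6116 = n3719 := d17_2 (iv1 F4109) D6116 F5727 F2808 (iv5 F2239) (iv0 F2243) F2235 F2234 (iv4 F2783)
theorem F9506 : act 1 n6116 = n2594 := d17_6 F2605 F2604 D1707 F2953 F4112 D6116 (iv5 D2594) (iv0 F2939) F2937
def n6117 : Q := act 4 n2576
theorem D6117 : act 4 n2576 = n6117 := rfl
theorem F9507 : act 2 n6117 = n3659 := d1_1 D6117 (iv4 D3659) (iv2 F4114)
def n6118 : Q := act 7 n2576
theorem D6118 : act 7 n2576 = n6118 := rfl
theorem F9508 : act 2 n6118 = n3660 := d4_1 D6118 (iv7 D3660) (iv2 F4114)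
theorem F9509 : act 5 n6118 = n2577 := d13_1 D6118 (iv7 D2577) D2576
theorem F9510 : act 1 n3658 = n6118 := d15_1 D3658 (iv7 D6118) F4114
theorem F9511 : act 1 n6118 = n3622 := d15_1 F9510 (iv7 F5724) F5723
def n6119 : Q := act 3 n2578
theorem D6119 : act 3 n2578 = n6119 := rfl
theorem F9512 : act 4 n6119 = n6119 := d5_2 D2578 D6119 (iv3 D6119) (iv4 D2578) F2884
theorem F9513 : act 6 n6119 = n6119 := d7_2 F4121 D6119 (iv3 D6119)
theorem F9514 : act 7 n6119 = n3662 := d8_2 (iv7 F4122) D6119 (iv3 D3662)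
def n6120 : Q := act 5 n2578
theorem D6120 : act 5 n2578 = n6120 := rfl
theorem F9515 : act 2 n6120 = n3665 := d2_1 D6120 (iv5 D3665) (iv2 F4120)
theorem F9516 : act 7 n6120 = n3663 := d13_2 (iv7 F4122) D6120 (iv5 D3663)
theorem F9517 : act 0 n6120 = n3936 := d17_2 (iv1 F5559) D6120 (iv5 D3936) (iv4 F5364) F5365 F2959 F2948 F2960 (iv4 F5557)
theorem F9518 : act 1 n6120 = n3934 := d17_6 F1388 F1387 D865 F2235 D2578 D6120 (iv5 D3934) (iv0 D1697) F1663
def n6121 : Q := act 6 n2580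
theorem D6121 : act 6 n2580 = n6121 := rfl
theorem F9519 : act 2 n6121 = n3576 := d3_1 D6121 (iv6 D3576) F4133
theorem F9520 : act 3 n6121 = n6121 := d7_1 D6121 (iv6 D6121) F4134
theorem F9521 : act 5 n6121 = n6121 := d12_1 D6121 (iv6 D6121) F4132 F2643 (iv5 F4132)
def n6122 : Q := act 3 n2581
theorem D6122 : act 3 n2581 = n6122 := rfl
theorem F9522 : act 4 n6122 = n2583 := d5_2 D2581 D6122 (iv3 D2583) (iv4 D1210) (iv3 F2251)
theorem F9523 : act 7 n6122 = n3579 := d8_2 (iv7 F4135) D6122 (iv3 D3579)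
def n6123 : Q := act 5 n2581
theorem D6123 : act 5 n2581 = n6123 := rfl
theorem F9524 : act 2 n6123 = n5786 := d2_1 D6123 F8905 F7679
theorem F9525 : act 7 n6123 = n3580 := d13_2 (iv7 F4135) D6123 (iv5 D3580)
theorem F9526 : act 0 n6123 = n5091 := d17_2 F5313 D6123 (iv5 D5091) (iv4 D2086) (iv5 D1034) (iv0 F1220) D868 (iv0 F2583) D3325
theorem F9527 : act 1 n6123 = n5789 := d17_6 (iv1 F3475) F3473 (iv1 F2417) D1209 D2581 D6123 F8913 F7574 F7572
def n6124 : Q := act 6 n2581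
theorem D6124 : act 6 n2581 = n6124 := rfl
theorem F9528 : act 4 n6124 = n2582 := d10_1 D6124 (iv6 D2582) D2581
def n6125 : Q := act 0 n2582
theorem D6125 : act 0 n2582 = n6125 := rfl
def n6126 : Q := act 1 n2582
theorem D6126 : act 1 n2582 = n6126 := rfl
def n6127 : Q := act 7 n2582
theorem D6127 : act 7 n2582 = n6127 := rfl
theorem F9529 : act 3 n6127 = n2587 := d8_1 D6127 (iv7 D2587) (iv3 F4136)
theorem F9530 : act 5 n6127 = n3584 := d13_1 D6127 (iv7 D3584) (iv5 F4137)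
theorem F9531 : act 6 n6127 = n3584 := d14_1 D6127 (iv7 D3584) (iv6 D1579) (iv7 F2252) D2582
def n6128 : Q := act 0 n2583
theorem D6128 : act 0 n2583 = n6128 := rfl
theorem F9532 : act 1 n3593 = n6128 := d15_0 (iv0 D6128) F4138 D3593
def n6129 : Q := act 1 n2583
theorem D6129 : act 1 n2583 = n6129 := rfl
def n6130 : Q := act 2 n2583
theorem D6130 : act 2 n2583 = n6130 := rfl
theorem F9533 : act 3 n6130 = n3675 := d0_2 D2583 D6130 (iv2 D3675) (iv3 D1616) (iv2 F2253)
theorem F9534 : act 7 n6130 = n3593 := d4_2 (iv7 F4138) D6130 (iv2 D3593)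
theorem F9535 : act 1 n6130 = n3591 := d15_0 (iv0 D3591) (iv7 F4138) D6130
theorem F9536 : act 1 n6129 = n3593 := d15_1 D6129 (iv7 F9534) (iv2 D6130)
theorem F9537 : act 1 n3592 = n6130 := d15_1 D3592 F9534 (iv2 D3593)
def n6131 : Q := act 6 n2583
theorem D6131 : act 6 n2583 = n6131 := rfl
theorem F9538 : act 3 n6131 = n2584 := d7_1 D6131 (iv6 D2584) D2583
def n6132 : Q := act 0 n2584
theorem D6132 : act 0 n2584 = n6132 := rfl
def n6133 : Q := act 1 n2584
theorem D6133 : act 1 n2584 = n6133 := rfl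
theorem F9539 : act 1 n6133 = n3680 := d15_1 D6133 (iv7 D3680) (iv2 F4139)
def n6134 : Q := act 5 n2584
theorem D6134 : act 5 n2584 = n6134 := rfl
theorem F9540 : act 2 n6134 = n3679 := d2_1 D6134 (iv5 D3679) (iv2 F4139)
def n6135 : Q := act 7 n2584
theorem D6135 : act 7 n2584 = n6135 := rfl
theorem F9541 : act 2 n6135 = n3680 := d4_1 D6135 (iv7 D3680) (iv2 F4139)
theorem F9542 : act 4 n6135 = n2587 := d11_1 D6135 (iv7 D2587) (iv4 F4140)
theorem F9543 : act 6 n6135 = n3598 := d14_1 D6135 (iv7 D3598) (iv6 D1584) (iv7 F2254) D2584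
theorem F9544 : act 1 n3680 = n6132 := d15_0 (iv0 D6132) D6135 F9541
theorem F9545 : act 1 n3678 = n6135 := d15_1 D3678 (iv7 D6135) F4139
theorem F9546 : act 1 n6135 = n3677 := d15_0 (iv0 D3677) D3680 (iv2 F9541)
def n6136 : Q := act 4 n2585
theorem D6136 : act 4 n2585 = n6136 := rfl
theorem F9547 : act 2 n6136 = n3683 := d1_1 D6136 (iv4 D3683) (iv2 F8026)
theorem F9548 : act 7 n6136 = n3687 := d11_2 (iv7 F8027) D6136 (iv4 D3687)
def n6137 : Q := act 5 n2585
theorem D6137 : act 5 n2585 = n6137 := rfl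
theorem F9549 : act 2 n6137 = n3684 := d2_1 D6137 (iv5 D3684) (iv2 F8026)
theorem F9550 : act 6 n6137 = n5356 := d12_2 (iv6 F4387) D6137 F8147 (iv6 D2802) D2801
theorem F9551 : act 7 n6137 = n3688 := d13_2 (iv7 F8027) D6137 (iv5 D3688)
theorem F9552 : act 0 n5117 = n6137 := d21_10 (iv5 D6137) (iv1 F4145) (iv5 F4084) F4085 (iv1 F4141) (iv6 F8034) F8033 (iv1 F8039) F3564 D5117
def n6138 : Q := act 3 n2586
theorem D6138 : act 3 n2586 = n6138 := rfl
def n6139 : Q := act 4 n2586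
theorem D6139 : act 4 n2586 = n6139 := rfl
theorem F9554 : act 2 n6139 = n3687 := d1_1 D6139 (iv4 D3687) (iv2 F8029)
theorem F9555 : act 6 n6139 = n5872 := d10_2 F8034 D6139 F9071
def n6140 : Q := act 5 n2586
theorem D6140 : act 5 n2586 = n6140 := rfl
theorem F9557 : act 2 n6140 = n3688 := d2_1 D6140 (iv5 D3688) (iv2 F8029)
theorem F9558 : act 6 n6140 = n2803 := d12_2 F8034 D6140 F8042 F8041 (iv5 F8033)
theorem F9559 : act 7 n6140 = n3684 := d13_2 (iv7 F8030) D6140 (iv5 D3684)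
theorem F9560 : act 0 n6140 = n5117 := d21_1 D6140 (iv5 F8159) (iv6 D5359) D5356 (iv6 F9550) (iv5 D6137) (iv1 F4145) (iv5 F4084) F4085 (iv1 F4141)
def n6141 : Q := act 2 n2588
theorem D6141 : act 2 n2588 = n6141 := rfl
theorem F9561 : act 7 n2589 = n6141 := d15_2 (iv0 D2588) D2589 (iv2 D6141)
def n6142 : Q := act 3 n2588
theorem D6142 : act 3 n2588 = n6142 := rfl
theorem F9562 : act 4 n6142 = n3945 := d20_6 F1595 (iv1 F1081) D723 D1212 D2588 D6142 (iv1 D3945) F2911 (iv3 D1705) F1697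
def n6143 : Q := act 4 n2588
theorem D6143 : act 4 n2588 = n6143 := rfl
def n6144 : Q := act 5 n2588
theorem D6144 : act 5 n2588 = n6144 := rfl
def n6145 : Q := act 6 n2588
theorem D6145 : act 6 n2588 = n6145 := rfl
def n6146 : Q := act 7 n2588
theorem D6146 : act 7 n2588 = n6146 := rfl
theorem F9563 : act 2 n6146 = n2589 := d4_1 D6146 F9561 (iv2 D6141)
def n6147 : Q := act 3 n2589
theorem D6147 : act 3 n2589 = n6147 := rfl
def n6148 : Q := act 4 n2589
theorem D6148 : act 4 n2589 = n6148 := rfl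
theorem F9564 : act 3 n6148 = n3944 := d20_3 F4094 (iv1 F4153) D6148 (iv1 F5887) (iv3 F5903) F5904 (iv1 F3001) (iv4 F5705) (iv3 D3691) (iv1 F4096)
def n6149 : Q := act 5 n2589
theorem D6149 : act 5 n2589 = n6149 := rfl
def n6150 : Q := act 6 n2589
theorem D6150 : act 6 n2589 = n6150 := rfl
def n6151 : Q := act 5 n2590
theorem D6151 : act 5 n2590 = n6151 := rfl
theorem F9565 : act 2 n6151 = n2591 := d2_1 D6151 (iv5 D2591) D2590
theorem F9566 : act 3 n6151 = n3700 := d6_1 D6151 (iv5 D3700) (iv3 F4149)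
theorem F9567 : act 7 n6151 = n3638 := d13_2 (iv7 F4151) D6151 (iv5 D3638)
theorem F9568 : act 1 n3641 = n6151 := d15_1 D3641 F9567 F5667
theorem F9569 : act 1 n6151 = n3640 := d15_0 (iv0 D3640) (iv7 F4156) (iv2 F9565)
def n6152 : Q := act 6 n2590
theorem D6152 : act 6 n2590 = n6152 := rfl
theorem F9570 : act 2 n6152 = n2592 := d3_1 D6152 (iv6 D2592) D2590
theorem F9571 : act 3 n6152 = n3701 := d7_1 D6152 (iv6 D3701) (iv3 F4149)
theorem F9572 : act 4 n6152 = n3701 := d10_1 D6152 (iv6 D3701) (iv4 F4150)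
def n6153 : Q := act 0 n2591
theorem D6153 : act 0 n2591 = n6153 := rfl
theorem F9573 : act 1 n3638 = n6153 := d15_0 (iv0 D6153) F4156 (iv2 F5667)
def n6154 : Q := act 1 n2591
theorem D6154 : act 1 n2591 = n6154 := rfl
theorem F9574 : act 1 n6154 = n3638 := d15_1 D6154 (iv7 F9567) F9565
def n6155 : Q := act 4 n2591
theorem D6155 : act 4 n2591 = n6155 := rfl
theorem F9575 : act 7 n6155 = n3642 := d11_2 (iv7 F4156) D6155 (iv4 D3642)
def n6156 : Q := act 6 n2591
theorem D6156 : act 6 n2591 = n6156 := rfl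
theorem F9576 : act 3 n6156 = n2593 := d7_1 D6156 (iv6 D2593) (iv3 F4155)
def n6157 : Q := act 0 n2592
theorem D6157 : act 0 n2592 = n6157 := rfl
def n6158 : Q := act 1 n2592
theorem D6158 : act 1 n2592 = n6158 := rfl
def n6159 : Q := act 5 n2592
theorem D6159 : act 5 n2592 = n6159 := rfl
theorem F9577 : act 3 n6159 = n2594 := d6_1 D6159 (iv5 D2594) (iv3 F4157)
def n6160 : Q := act 7 n2592
theorem D6160 : act 7 n2592 = n6160 := rfl
theorem F9578 : act 3 n6160 = n2595 := d8_1 D6160 (iv7 D2595) (iv3 F4157)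
theorem F9579 : act 4 n6160 = n3709 := d11_1 D6160 (iv7 D3709) (iv4 F4158)
theorem F9580 : act 6 n6160 = n3647 := d14_1 D6160 (iv7 D3647) (iv6 D1600) (iv7 F2259) D2592
def n6161 : Q := act 0 n2593
theorem D6161 : act 0 n2593 = n6161 := rfl
def n6162 : Q := act 1 n2593
theorem D6162 : act 1 n2593 = n6162 := rfl
theorem F9581 : act 1 n6162 = n3713 := d15_1 D6162 (iv7 D3713) (iv2 F4159)
def n6163 : Q := act 5 n2593
theorem D6163 : act 5 n2593 = n6163 := rfl
theorem F9582 : act 2 n6163 = n3712 := d2_1 D6163 (iv5 D3712) (iv2 F4159)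
theorem F9583 : act 6 n6163 = n2594 := d12_2 D2593 D6163 (iv5 D2594) (iv6 D1214) D1213
def n6164 : Q := act 7 n2593
theorem D6164 : act 7 n2593 = n6164 := rfl
theorem F9584 : act 2 n6164 = n3713 := d4_1 D6164 (iv7 D3713) (iv2 F4159)
theorem F9585 : act 6 n6164 = n3653 := d14_1 D6164 (iv7 D3653) (iv6 D1602) (iv7 F2261) D2593
theorem F9586 : act 1 n3713 = n6161 := d15_0 (iv0 D6161) D6164 F9584
theorem F9587 : act 1 n3711 = n6164 := d15_1 D3711 (iv7 D6164) F4159
theorem F9588 : act 1 n6164 = n3710 := d15_0 (iv0 D3710) D3713 (iv2 F9584)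
def n6165 : Q := act 4 n2594
theorem D6165 : act 4 n2594 = n6165 := rfl
theorem F9589 : act 2 n6165 = n3718 := d1_1 D6165 (iv4 D3718) (iv2 F4160)
def n6166 : Q := act 7 n2594
theorem D6166 : act 7 n2594 = n6166 := rfl
theorem F9590 : act 2 n6166 = n3719 := d4_1 D6166 (iv7 D3719) (iv2 F4160)
theorem F9591 : act 5 n6166 = n2595 := d13_1 D6166 (iv7 D2595) D2594
theorem F9592 : act 1 n3655 = n6166 := d15_1 (iv0 F5676) (iv7 D6166) F4160
theorem F9593 : act 1 n6166 = n3657 := d15_1 F9592 (iv7 F9497) F9496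
def n6167 : Q := act 4 n2596
theorem D6167 : act 4 n2596 = n6167 := rfl
theorem F9594 : act 2 n6167 = n3751 := d1_1 D6167 (iv4 D3751) (iv2 F6442)
theorem F9595 : act 3 n6167 = n4033 := d5_1 D6167 F5972 (iv3 D1930) D1931 (iv3 F4166)
theorem F9596 : act 7 n6167 = n3746 := d11_2 (iv7 F6443) D6167 (iv4 D3746)
theorem F9597 : act 0 n6167 = n3845 := d20_1 D6167 (iv4 F6465) (iv3 D2622) (iv1 D1226) (iv3 D730) (iv4 D425) D423 D725 D1216 D2596
theorem F9598 : act 0 n3818 = n6167 := d20_10 (iv4 D6167) (iv1 F4167) (iv4 F4181) F4180 (iv1 F4173) (iv3 F6437) F6435 (iv1 D4028) (iv4 F6424) D3818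
def n6168 : Q := act 5 n2596
theorem D6168 : act 5 n2596 = n6168 := rfl
theorem F9600 : act 3 n6168 = n4652 := d6_1 D6168 (iv5 D4652) (iv3 F4166)
theorem F9601 : act 7 n6168 = n3747 := d13_2 (iv7 F6443) D6168 (iv5 D3747)
def n6169 : Q := act 6 n2596
theorem D6169 : act 6 n2596 = n6169 := rfl
theorem F9603 : act 3 n6169 = n4653 := d7_1 D6169 (iv6 D4653) (iv3 F4166)
def n6170 : Q := act 5 n2597
theorem D6170 : act 5 n2597 = n6170 := rfl
theorem F9604 : act 2 n6170 = n3747 := d2_1 D6170 (iv5 D3747) (iv2 F6440)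
theorem F9605 : act 3 n6170 = n4757 := d6_1 D6170 (iv5 D4757) F6437
theorem F9606 : act 7 n6170 = n3752 := d13_2 (iv7 F6441) D6170 (iv5 D3752)
def n6171 : Q := act 6 n2597
theorem D6171 : act 6 n2597 = n6171 := rfl
theorem F9607 : act 2 n6171 = n3748 := d3_1 D6171 (iv6 D3748) (iv2 F6440)
theorem F9608 : act 3 n6171 = n4758 := d7_1 D6171 (iv6 D4758) F6437
def n6172 : Q := act 5 n2598
theorem D6172 : act 5 n2598 = n6172 := rfl
theorem F9609 : act 2 n6172 = n2599 := d2_1 D6172 (iv5 D2599) D2598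
theorem F9610 : act 3 n6172 = n3733 := d6_1 D6172 (iv5 D3733) (iv3 F4168)
theorem F9611 : act 7 n6172 = n3754 := d13_2 (iv7 F4171) D6172 (iv5 D3754)
theorem F9612 : act 1 n3757 = n6172 := d15_1 D3757 F9611 F5749
theorem F9613 : act 1 n6172 = n3756 := d15_0 (iv0 D3756) (iv7 F4176) (iv2 F9609)
def n6173 : Q := act 0 n2599
theorem D6173 : act 0 n2599 = n6173 := rfl
theorem F9614 : act 1 n3754 = n6173 := d15_0 (iv0 D6173) F4176 (iv2 F5749)
def n6174 : Q := act 1 n2599
theorem D6174 : act 1 n2599 = n6174 := rfl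
theorem F9615 : act 1 n6174 = n3754 := d15_1 D6174 (iv7 F9611) F9609
def n6175 : Q := act 4 n2599
theorem D6175 : act 4 n2599 = n6175 := rfl
theorem F9616 : act 7 n6175 = n3758 := d11_2 (iv7 F4176) D6175 (iv4 D3758)
def n6176 : Q := act 6 n2599
theorem D6176 : act 6 n2599 = n6176 := rfl
theorem F9617 : act 3 n6176 = n2600 := d7_1 D6176 (iv6 D2600) (iv3 F4175)
theorem F9618 : act 5 n6176 = n6176 := d12_1 D6176 (iv6 D6176) (iv5 D2599) F2271 D2599
def n6177 : Q := act 0 n2600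
theorem D6177 : act 0 n2600 = n6177 := rfl
def n6178 : Q := act 1 n2600
theorem D6178 : act 1 n2600 = n6178 := rfl
theorem F9619 : act 1 n6178 = n3744 := d15_1 D6178 (iv7 D3744) (iv2 F4177)
def n6179 : Q := act 7 n2600
theorem D6179 : act 7 n2600 = n6179 := rfl
theorem F9620 : act 2 n6179 = n3744 := d4_1 D6179 (iv7 D3744) (iv2 F4177)
theorem F9621 : act 5 n6179 = n6179 := d13_1 D6179 (iv7 D6179) F4178
theorem F9622 : act 6 n6179 = n3766 := d14_1 D6179 (iv7 D3766) (iv6 D1644) (iv7 F2274) D2600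
theorem F9623 : act 1 n3744 = n6177 := d15_0 (iv0 D6177) D6179 F9620
theorem F9624 : act 1 n3743 = n6179 := d15_1 D3743 (iv7 D6179) F4177
theorem F9625 : act 1 n6179 = n3742 := d15_0 (iv0 D3742) D3744 (iv2 F9620)
def n6180 : Q := act 2 n2601
theorem D6180 : act 2 n2601 = n6180 := rfl
def n6181 : Q := act 3 n2601
theorem D6181 : act 3 n2601 = n6181 := rfl
theorem F9627 : act 4 n6181 = n2609 := d20_6 F854 (iv1 F706) D726 D1218 D2601 D6181 (iv1 D2609) F2282 (iv3 D1221) (iv1 F1401)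
theorem F9628 : act 0 n4761 = n6181 := d20_10 F9627 (iv1 D2609) F2282 (iv3 D1221) (iv1 F1401) (iv3 F1658) F1659 F6537 (iv4 F3293) (iv3 F6870)
theorem F9629 : act 0 n6181 = n4742 := d20_1 (iv4 F9627) F6850 (iv3 D1970) D1968 (iv3 F3287) (iv4 D1909) (iv1 F1867) D1934 (iv3 F3228) (iv1 F4200)
def n6182 : Q := act 4 n2601
theorem D6182 : act 4 n2601 = n6182 := rfl
theorem F9630 : act 0 n6182 = n4035 := d20_1 D6182 (iv4 F6430) (iv3 D3818) (iv1 F6428) F1658 F854 (iv1 F706) D726 D1218 D2601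
theorem F9631 : act 3 n6182 = n3823 := d20_3 (iv4 F2275) D2601 D6182 (iv1 D3823) (iv3 D1669) D1670 D3828 F5820 (iv3 D3750) (iv1 D1640)
theorem F9632 : act 0 n2622 = n6182 := d20_1 (iv4 F6465) (iv4 D6182) D6181 F9629 (iv3 D4742) (iv4 D1964) (iv1 F6438) (iv4 F5972) (iv3 F9595) F9597
def n6183 : Q := act 5 n2601
theorem D6183 : act 5 n2601 = n6183 := rfl
def n6184 : Q := act 6 n2601
theorem D6184 : act 6 n2601 = n6184 := rfl
def n6185 : Q := act 7 n2601
theorem D6185 : act 7 n2601 = n6185 := rfl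
def n6186 : Q := act 3 n2602
theorem D6186 : act 3 n2602 = n6186 := rfl
def n6187 : Q := act 4 n2602
theorem D6187 : act 4 n2602 = n6187 := rfl
theorem F9634 : act 3 n6187 = n2608 := d20_3 F4169 (iv1 F4184) D6187 (iv1 F4194) F3228 (iv4 D1934) (iv1 F1869) D1914 (iv3 F3214) (iv1 F4172)
theorem F9635 : act 0 n4035 = n6187 := d20_10 (iv4 D6187) (iv1 D2602) F2275 (iv3 D878) F1070 D911 F1708 D928 D1748 D4035
theorem F9636 : act 1 n2622 = n6187 := d15_0 (iv0 F9635) F6454 F6464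
def n6188 : Q := act 5 n2602
theorem D6188 : act 5 n2602 = n6188 := rfl
def n6189 : Q := act 6 n2602
theorem D6189 : act 6 n2602 = n6189 := rfl
def n6190 : Q := act 5 n2603
theorem D6190 : act 5 n2603 = n6190 := rfl
theorem F9637 : act 2 n6190 = n2604 := d2_1 D6190 (iv5 D2604) D2603
theorem F9638 : act 3 n6190 = n3754 := d6_1 D6190 (iv5 D3754) (iv3 F4180)
theorem F9639 : act 7 n6190 = n3733 := d13_2 (iv7 F4182) D6190 (iv5 D3733)
theorem F9640 : act 1 n3735 = n6190 := d15_1 D3735 F9639 F5736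
theorem F9641 : act 1 n6190 = n3734 := d15_0 (iv0 D3734) (iv7 F4187) (iv2 F9637)
def n6191 : Q := act 6 n2603
theorem D6191 : act 6 n2603 = n6191 := rfl
theorem F9642 : act 2 n6191 = n2605 := d3_1 D6191 (iv6 D2605) D2603
theorem F9643 : act 3 n6191 = n3755 := d7_1 D6191 (iv6 D3755) (iv3 F4180)
theorem F9644 : act 4 n6191 = n3755 := d10_1 D6191 (iv6 D3755) (iv4 F4181)
theorem F9645 : act 7 n6191 = n6191 := d14_2 (iv7 F4182) D6191 (iv6 D6191) F4182 F2810
def n6192 : Q := act 0 n2604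
theorem D6192 : act 0 n2604 = n6192 := rfl
theorem F9646 : act 1 n3733 = n6192 := d15_0 (iv0 D6192) F4187 (iv2 F5736)
def n6193 : Q := act 1 n2604
theorem D6193 : act 1 n2604 = n6193 := rfl
theorem F9647 : act 1 n6193 = n3733 := d15_1 D6193 (iv7 F9639) F9637
def n6194 : Q := act 4 n2604
theorem D6194 : act 4 n2604 = n6194 := rfl
theorem F9648 : act 7 n6194 = n3736 := d11_2 (iv7 F4187) D6194 (iv4 D3736)
def n6195 : Q := act 6 n2604
theorem D6195 : act 6 n2604 = n6195 := rfl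
theorem F9649 : act 3 n6195 = n2606 := d7_1 D6195 (iv6 D2606) (iv3 F4186)
def n6196 : Q := act 0 n2605
theorem D6196 : act 0 n2605 = n6196 := rfl
theorem F9650 : act 1 n6191 = n6196 := d15_0 (iv0 D6196) F4190 (iv2 F9642)
def n6197 : Q := act 1 n2605
theorem D6197 : act 1 n2605 = n6197 := rfl
theorem F9651 : act 1 n6197 = n6191 := d15_1 D6197 F9645 F9642
def n6198 : Q := act 5 n2605
theorem D6198 : act 5 n2605 = n6198 := rfl
theorem F9652 : act 3 n6198 = n2607 := d6_1 D6198 (iv5 D2607) (iv3 F4188)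
theorem F9653 : act 7 n6198 = n6198 := d13_2 F4190 D6198 (iv5 D6198)
def n6199 : Q := act 0 n2606
theorem D6199 : act 0 n2606 = n6199 := rfl
def n6200 : Q := act 1 n2606
theorem D6200 : act 1 n2606 = n6200 := rfl
theorem F9654 : act 1 n6200 = n3766 := d15_1 D6200 (iv7 D3766) (iv2 F4191)
def n6201 : Q := act 5 n2606
theorem D6201 : act 5 n2606 = n6201 := rfl
theorem F9655 : act 2 n6201 = n3765 := d2_1 D6201 (iv5 D3765) (iv2 F4191)
theorem F9656 : act 6 n6201 = n2607 := d12_2 D2606 D6201 (iv5 D2607) (iv6 D1220) D1219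
def n6202 : Q := act 7 n2606
theorem D6202 : act 7 n2606 = n6202 := rfl
theorem F9657 : act 2 n6202 = n3766 := d4_1 D6202 (iv7 D3766) (iv2 F4191)
theorem F9658 : act 6 n6202 = n3744 := d14_1 D6202 (iv7 D3744) (iv6 D1638) (iv7 F2278) D2606
theorem F9659 : act 1 n3766 = n6199 := d15_0 (iv0 D6199) D6202 F9657
theorem F9660 : act 1 n3764 = n6202 := d15_1 D3764 (iv7 D6202) F4191
theorem F9661 : act 1 n6202 = n3763 := d15_0 (iv0 D3763) D3766 (iv2 F9657)
def n6203 : Q := act 4 n2607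
theorem D6203 : act 4 n2607 = n6203 := rfl
theorem F9662 : act 2 n6203 = n3771 := d1_1 D6203 (iv4 D3771) (iv2 F4192)
theorem F9663 : act 7 n6203 = n6203 := d11_2 F4193 D6203 (iv4 D6203)
theorem F9664 : act 5 n6203 = n3771 := d16_1 D6203 (iv4 D3771) (iv5 D1647) F1639 F1059 (iv4 F1639) D1647 F2826 (iv2 F4192)
def n6204 : Q := act 2 n2608
theorem D6204 : act 2 n2608 = n6204 := rfl
theorem F9665 : act 7 n2609 = n6204 := d15_2 (iv0 D2608) D2609 (iv2 D6204)
def n6205 : Q := act 4 n2608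
theorem D6205 : act 4 n2608 = n6205 := rfl
theorem F9666 : act 0 n6205 = n4761 := d20_1 D6205 F6871 (iv3 D3958) (iv1 D1715) (iv3 D911) (iv4 D592) D590 (iv4 F1398) D1221 D2608
theorem F9667 : act 0 n4742 = n6205 := d20_10 (iv4 D6205) (iv1 F4194) F2840 F3228 F3227 D3781 F5785 (iv1 D1962) D1964 D4742
def n6206 : Q := act 5 n2608
theorem D6206 : act 5 n2608 = n6206 := rfl
def n6207 : Q := act 6 n2608
theorem D6207 : act 6 n2608 = n6207 := rfl
def n6208 : Q := act 7 n2608
theorem D6208 : act 7 n2608 = n6208 := rfl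
def n6209 : Q := act 3 n2609
theorem D6209 : act 3 n2609 = n6209 := rfl
theorem F9669 : act 4 n6209 = n3823 := d5_2 F9627 D6209 (iv3 F9631) (iv4 D6182) D6181
theorem F9670 : act 0 n6209 = n3824 := d20_10 (iv4 F6451) (iv1 F5875) F5730 (iv3 F5908) (iv1 F5912) D3958 (iv4 F6871) F9628 F9627 D6209
theorem F9671 : act 0 n3827 = n6209 := d20_4 F3286 F6469 F5828 (iv3 F5819) (iv3 D6209) (iv4 F9627) F9629 F6850 (iv3 D1970) D1968
def n6210 : Q := act 5 n2609
theorem D6210 : act 5 n2609 = n6210 := rfl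
def n6211 : Q := act 6 n2609
theorem D6211 : act 6 n2609 = n6211 := rfl
def n6212 : Q := act 5 n2610
theorem D6212 : act 5 n2610 = n6212 := rfl
theorem F9672 : act 2 n6212 = n2611 := d2_1 D6212 (iv5 D2611) D2610
theorem F9673 : act 3 n6212 = n3784 := d6_1 D6212 (iv5 D3784) (iv3 F4195)
theorem F9674 : act 7 n6212 = n3800 := d13_2 (iv7 F4198) D6212 (iv5 D3800)
theorem F9675 : act 1 n3803 = n6212 := d15_1 D3803 F9674 F5792
theorem F9676 : act 1 n6212 = n3802 := d15_0 (iv0 D3802) (iv7 F4203) (iv2 F9672)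
def n6213 : Q := act 0 n2611
theorem D6213 : act 0 n2611 = n6213 := rfl
theorem F9677 : act 1 n3800 = n6213 := d15_0 (iv0 D6213) F4203 (iv2 F5792)
def n6214 : Q := act 1 n2611
theorem D6214 : act 1 n2611 = n6214 := rfl
theorem F9678 : act 1 n6214 = n3800 := d15_1 D6214 (iv7 F9674) F9672
def n6215 : Q := act 4 n2611
theorem D6215 : act 4 n2611 = n6215 := rfl
theorem F9679 : act 7 n6215 = n3804 := d11_2 (iv7 F4203) D6215 (iv4 D3804)
def n6216 : Q := act 6 n2611
theorem D6216 : act 6 n2611 = n6216 := rfl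
theorem F9680 : act 3 n6216 = n2612 := d7_1 D6216 (iv6 D2612) (iv3 F4202)
theorem F9681 : act 5 n6216 = n6216 := d12_1 D6216 (iv6 D6216) (iv5 D2611) F2283 D2611
def n6217 : Q := act 0 n2612
theorem D6217 : act 0 n2612 = n6217 := rfl
def n6218 : Q := act 1 n2612
theorem D6218 : act 1 n2612 = n6218 := rfl
theorem F9682 : act 1 n6218 = n3791 := d15_1 D6218 (iv7 D3791) (iv2 F4204)
def n6219 : Q := act 7 n2612
theorem D6219 : act 7 n2612 = n6219 := rfl
theorem F9683 : act 2 n6219 = n3791 := d4_1 D6219 (iv7 D3791) (iv2 F4204)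
theorem F9684 : act 5 n6219 = n6219 := d13_1 D6219 (iv7 D6219) F4205
theorem F9685 : act 6 n6219 = n3812 := d14_1 D6219 (iv7 D3812) (iv6 D1663) (iv7 F2286) D2612
theorem F9686 : act 1 n3791 = n6217 := d15_0 (iv0 D6217) D6219 F9683
theorem F9687 : act 1 n3790 = n6219 := d15_1 D3790 (iv7 D6219) F4204
theorem F9688 : act 1 n6219 = n3789 := d15_0 (iv0 D3789) D3791 (iv2 F9683)
def n6220 : Q := act 0 n2613
theorem D6220 : act 0 n2613 = n6220 := rfl
def n6221 : Q := act 1 n2613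
theorem D6221 : act 1 n2613 = n6221 := rfl
theorem F9689 : act 1 n6221 = n3812 := d15_1 D6221 (iv7 D3812) (iv2 F4206)
def n6222 : Q := act 5 n2613
theorem D6222 : act 5 n2613 = n6222 := rfl
theorem F9690 : act 2 n6222 = n3811 := d2_1 D6222 (iv5 D3811) (iv2 F4206)
theorem F9691 : act 6 n6222 = n2614 := d12_2 D2613 D6222 (iv5 D2614) (iv6 D1224) D1223
def n6223 : Q := act 7 n2613
theorem D6223 : act 7 n2613 = n6223 := rfl
theorem F9692 : act 2 n6223 = n3812 := d4_1 D6223 (iv7 D3812) (iv2 F4206)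
theorem F9693 : act 6 n6223 = n3791 := d14_1 D6223 (iv7 D3791) (iv6 D1656) (iv7 F2289) D2613
theorem F9694 : act 1 n3812 = n6220 := d15_0 (iv0 D6220) D6223 F9692
theorem F9695 : act 1 n3810 = n6223 := d15_1 D3810 (iv7 D6223) F4206
theorem F9696 : act 1 n6223 = n3809 := d15_0 (iv0 D3809) D3812 (iv2 F9692)
def n6224 : Q := act 4 n2614
theorem D6224 : act 4 n2614 = n6224 := rfl
theorem F9697 : act 2 n6224 = n3813 := d1_1 D6224 (iv4 D3813) (iv2 F4207)
theorem F9698 : act 7 n6224 = n6224 := d11_2 F4208 D6224 (iv4 D6224)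
theorem F9699 : act 5 n6224 = n3813 := d16_1 D6224 (iv4 D3813) (iv5 D1666) (iv4 F2847) F2848 F2847 D1666 F2852 (iv2 F4207)
def n6225 : Q := act 5 n2615
theorem D6225 : act 5 n2615 = n6225 := rfl
theorem F9700 : act 2 n6225 = n2633 := d2_1 D6225 F4224 F4209
theorem F9701 : act 3 n6225 = n3814 := d6_1 D6225 (iv5 D3814) (iv3 F4210)
theorem F9702 : act 7 n6225 = n2628 := d13_2 (iv7 F4212) D6225 (iv5 D2628)
theorem F9703 : act 1 n2630 = n6225 := d15_1 D2630 F9702 F4220
theorem F9704 : act 1 n6225 = n2629 := d15_0 (iv0 D2629) D2633 (iv2 F9700)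
def n6226 : Q := act 6 n2615
theorem D6226 : act 6 n2615 = n6226 := rfl
theorem F9705 : act 2 n6226 = n2634 := d3_1 D6226 (iv6 D2634) F4209
theorem F9706 : act 3 n6226 = n3815 := d7_1 D6226 (iv6 D3815) (iv3 F4210)
theorem F9707 : act 4 n6226 = n6226 := d10_1 D6226 (iv6 D6226) F4211
def n6227 : Q := act 3 n2616
theorem D6227 : act 3 n2616 = n6227 := rfl
theorem F9708 : act 2 n6227 = n4035 := d0_1 D6227 (iv3 D4035) (iv2 F6413) (iv3 D2617) D2616
theorem F9709 : act 6 n6227 = n6227 := d7_2 F7208 D6227 (iv3 D6227)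
theorem F9710 : act 7 n6227 = n2622 := d8_2 F4214 D6227 (iv3 D2622)
theorem F9711 : act 1 n3725 = n6227 := d15_1 (iv0 F5834) F9710 (iv2 F6464)
theorem F9712 : act 1 n6227 = n3730 := d15_0 (iv0 F5997) (iv7 F6454) (iv2 F9708)
def n6228 : Q := act 4 n2616
theorem D6228 : act 4 n2616 = n6228 := rfl
theorem F9713 : act 2 n6228 = n2618 := d1_1 D6228 (iv4 D2618) D2616
theorem F9714 : act 6 n6228 = n6228 := d10_2 F7208 D6228 (iv4 D6228)
theorem F9715 : act 7 n6228 = n2623 := d11_2 F4214 D6228 (iv4 D2623)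
theorem F9716 : act 3 n6228 = n3939 := d20_3 F2295 (iv1 F6467) D6228 (iv1 F5875) (iv3 F5908) F5909 (iv1 F3010) D1753 (iv3 F6463) F6461
theorem F9717 : act 1 n3729 = n2623 := d15_1 (iv0 F5998) (iv7 F9715) F9713
def n6229 : Q := act 5 n2616
theorem D6229 : act 5 n2616 = n6229 := rfl
theorem F9718 : act 2 n6229 = n2619 := d2_1 D6229 (iv5 D2619) D2616
theorem F9719 : act 7 n6229 = n2624 := d13_2 F4214 D6229 (iv5 D2624)
def n6230 : Q := act 5 n2617
theorem D6230 : act 5 n2617 = n6230 := rfl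
theorem F9720 : act 2 n6230 = n4036 := d2_1 D6230 (iv5 D4036) (iv2 F6413)
theorem F9721 : act 3 n6230 = n2619 := d6_1 D6230 (iv5 D2619) D2617
theorem F9722 : act 7 n6230 = n4055 := d13_2 (iv7 F6415) D6230 (iv5 D4055)
def n6231 : Q := act 0 n2618
theorem D6231 : act 0 n2618 = n6231 := rfl
theorem F9723 : act 4 n6231 = n6186 := d20_2 D2618 D6231 (iv3 D6186) (iv1 D2602) (iv3 D1218) (iv4 D726) (iv1 D424) D425 D730 D1225
theorem F9724 : act 3 n6231 = n6205 := d20_5 (iv4 F3169) (iv1 F6456) (iv4 F6688) F6689 D6231 (iv4 D6205) (iv1 F4194) F2840 F3228 F3227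
theorem F9725 : act 0 n6228 = n6186 := d20_1 D6228 (iv4 F9723) F9724 F9666 F6870 F3293 (iv1 F6536) (iv4 F1656) (iv3 F2294) (iv1 F6467)
theorem F9726 : act 0 n6231 = n2623 := d20_10 (iv4 D2623) (iv1 D1226) F1407 (iv3 D730) D728 D1221 F2282 D2608 D6205 (iv3 F9724)
def n6232 : Q := act 5 n2618
theorem D6232 : act 5 n2618 = n6232 := rfl
def n6233 : Q := act 7 n2618
theorem D6233 : act 7 n2618 = n6233 := rfl
theorem F9727 : act 2 n6233 = n2623 := d4_1 D6233 (iv7 F9715) F9713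
theorem F9728 : act 3 n6233 = n4052 := d8_1 D6233 F6692 F6689
theorem F9729 : act 4 n6233 = n2621 := d11_1 D6233 (iv7 D2621) D2618
theorem F9730 : act 0 n6186 = n6233 := d20_10 F9729 F6461 F2295 F2294 F6429 D3818 F6430 F9635 (iv4 D6187) D6186
def n6234 : Q := act 0 n2619
theorem D6234 : act 0 n2619 = n6234 := rfl
def n6235 : Q := act 1 n2619
theorem D6235 : act 1 n2619 = n6235 := rfl
theorem F9731 : act 1 n6235 = n2624 := d15_1 D6235 (iv7 F9719) F9718
def n6236 : Q := act 4 n2619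
theorem D6236 : act 4 n2619 = n6236 := rfl
def n6237 : Q := act 6 n2619
theorem D6237 : act 6 n2619 = n6237 := rfl
theorem F9732 : act 5 n6237 = n6237 := d12_1 D6237 (iv6 D6237) (iv5 D2619) F7207 D2619
def n6238 : Q := act 7 n2619
theorem D6238 : act 7 n2619 = n6238 := rfl
theorem F9733 : act 2 n6238 = n2624 := d4_1 D6238 (iv7 F9719) F9718
theorem F9734 : act 3 n6238 = n4055 := d8_1 D6238 (iv7 F9722) F9721
theorem F9735 : act 5 n6238 = n2621 := d13_1 D6238 (iv7 D2621) D2619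
theorem F9736 : act 1 n2624 = n6234 := d15_0 (iv0 D6234) D6238 F9733
def n6239 : Q := act 6 n2621
theorem D6239 : act 6 n2621 = n6239 := rfl
theorem F9737 : act 2 n6239 = n2625 := d3_1 D6239 (iv6 D2625) (iv2 F4216)
theorem F9738 : act 3 n6239 = n4056 := d7_1 D6239 (iv6 D4056) (iv3 F6463)
theorem F9739 : act 7 n6239 = n6239 := d14_2 D2621 D6239 (iv6 D6239) (iv7 D2621) F7207
def n6240 : Q := act 5 n2622
theorem D6240 : act 5 n2622 = n6240 := rfl
theorem F9740 : act 3 n6240 = n2624 := d6_1 D6240 (iv5 D2624) D2622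
def n6241 : Q := act 6 n2622
theorem D6241 : act 6 n2622 = n6241 := rfl
theorem F9741 : act 3 n6241 = n2625 := d7_1 D6241 (iv6 D2625) D2622
theorem F9742 : act 7 n6241 = n6241 := d14_2 F9710 D6241 (iv6 D6241) (iv7 F9710) F9709
def n6242 : Q := act 5 n2623
theorem D6242 : act 5 n2623 = n6242 := rfl
def n6243 : Q := act 6 n2623
theorem D6243 : act 6 n2623 = n6243 := rfl
theorem F9743 : act 4 n6243 = n2625 := d10_1 D6243 (iv6 D2625) D2623
theorem F9744 : act 7 n6243 = n6243 := d14_2 F9715 D6243 (iv6 D6243) (iv7 F9715) F9714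
def n6244 : Q := act 4 n2624
theorem D6244 : act 4 n2624 = n6244 := rfl
def n6245 : Q := act 6 n2624
theorem D6245 : act 6 n2624 = n6245 := rfl
def n6246 : Q := act 0 n2625
theorem D6246 : act 0 n2625 = n6246 := rfl
theorem F9745 : act 1 n6239 = n6246 := d15_0 (iv0 D6246) F7209 (iv2 F9737)
def n6247 : Q := act 1 n2625
theorem D6247 : act 1 n2625 = n6247 := rfl
theorem F9746 : act 1 n6247 = n6239 := d15_1 D6247 F9739 F9737
def n6248 : Q := act 5 n2625
theorem D6248 : act 5 n2625 = n6248 := rfl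
theorem F9747 : act 7 n6248 = n6248 := d13_2 F7209 D6248 (iv5 D6248)
def n6249 : Q := act 0 n2628
theorem D6249 : act 0 n2628 = n6249 := rfl
theorem F9748 : act 1 n2633 = n6249 := d15_0 (iv0 D6249) (iv7 F9702) F9700
def n6250 : Q := act 1 n2628
theorem D6250 : act 1 n2628 = n6250 := rfl
theorem F9749 : act 1 n6250 = n2633 := d15_1 D6250 (iv7 D2633) (iv2 F4220)
def n6251 : Q := act 4 n2628
theorem D6251 : act 4 n2628 = n6251 := rfl
theorem F9750 : act 2 n6251 = n2631 := d1_1 D6251 (iv4 D2631) (iv2 F4220)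
def n6252 : Q := act 6 n2628
theorem D6252 : act 6 n2628 = n6252 := rfl
theorem F9751 : act 2 n6252 = n2632 := d3_1 D6252 (iv6 D2632) (iv2 F4220)
theorem F9752 : act 3 n6252 = n3869 := d7_1 D6252 (iv6 D3869) (iv3 F4221)
def n6253 : Q := act 2 n2629
theorem D6253 : act 2 n2629 = n6253 := rfl
theorem F9753 : act 7 n2630 = n6253 := d15_2 (iv0 D2629) D2630 (iv2 D6253)
def n6254 : Q := act 3 n2629
theorem D6254 : act 3 n2629 = n6254 := rfl
def n6255 : Q := act 4 n2629
theorem D6255 : act 4 n2629 = n6255 := rfl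
def n6256 : Q := act 5 n2629
theorem D6256 : act 5 n2629 = n6256 := rfl
def n6257 : Q := act 6 n2629
theorem D6257 : act 6 n2629 = n6257 := rfl
def n6258 : Q := act 7 n2629
theorem D6258 : act 7 n2629 = n6258 := rfl
def n6259 : Q := act 3 n2630
theorem D6259 : act 3 n2630 = n6259 := rfl
def n6260 : Q := act 4 n2630
theorem D6260 : act 4 n2630 = n6260 := rfl
def n6261 : Q := act 5 n2630
theorem D6261 : act 5 n2630 = n6261 := rfl
def n6262 : Q := act 6 n2630
theorem D6262 : act 6 n2630 = n6262 := rfl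
def n6263 : Q := act 0 n2631
theorem D6263 : act 0 n2631 = n6263 := rfl
def n6264 : Q := act 1 n2631
theorem D6264 : act 1 n2631 = n6264 := rfl
def n6265 : Q := act 3 n2631
theorem D6265 : act 3 n2631 = n6265 := rfl
theorem F9755 : act 4 n6265 = n2639 := d5_2 D2631 D6265 (iv3 D2639) (iv4 D1232) (iv3 F2296)
theorem F9756 : act 7 n3447 = n6265 := d11_0 F9755 F4234 D3447
def n6266 : Q := act 5 n2631
theorem D6266 : act 5 n2631 = n6266 := rfl
def n6267 : Q := act 6 n2631
theorem D6267 : act 6 n2631 = n6267 := rfl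
theorem F9757 : act 4 n6267 = n2632 := d10_1 D6267 (iv6 D2632) D2631
def n6268 : Q := act 7 n2631
theorem D6268 : act 7 n2631 = n6268 := rfl
theorem F9758 : act 3 n6268 = n3447 := d8_1 D6268 F9756 (iv3 D6265)
theorem F9759 : act 4 n6268 = n2633 := d11_1 D6268 (iv7 D2633) D2631
def n6269 : Q := act 0 n2632
theorem D6269 : act 0 n2632 = n6269 := rfl
def n6270 : Q := act 1 n2632
theorem D6270 : act 1 n2632 = n6270 := rfl
def n6271 : Q := act 7 n2632
theorem D6271 : act 7 n2632 = n6271 := rfl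
theorem F9760 : act 3 n6271 = n2643 := d8_1 D6271 (iv7 D2643) (iv3 F4222)
def n6272 : Q := act 6 n2633
theorem D6272 : act 6 n2633 = n6272 := rfl
theorem F9761 : act 3 n6272 = n2644 := d7_1 D6272 (iv6 D2644) (iv3 F4223)
def n6273 : Q := act 0 n2634
theorem D6273 : act 0 n2634 = n6273 := rfl
def n6274 : Q := act 1 n2634
theorem D6274 : act 1 n2634 = n6274 := rfl
def n6275 : Q := act 5 n2634
theorem D6275 : act 5 n2634 = n6275 := rfl
theorem F9762 : act 3 n6275 = n2646 := d6_1 D6275 (iv5 D2646) (iv3 F4225)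
def n6276 : Q := act 0 n2635
theorem D6276 : act 0 n2635 = n6276 := rfl
theorem F9763 : act 1 n3904 = n6276 := d15_0 (iv0 D6276) F4228 D3904
def n6277 : Q := act 1 n2635
theorem D6277 : act 1 n2635 = n6277 := rfl
def n6278 : Q := act 2 n2635
theorem D6278 : act 2 n2635 = n6278 := rfl
theorem F9764 : act 3 n6278 = n3895 := d0_2 D2635 D6278 (iv2 D3895) (iv3 D1687) F2300
theorem F9765 : act 5 n6278 = n3946 := d2_2 (iv5 F4227) D6278 (iv2 D3946)
theorem F9766 : act 7 n6278 = n3904 := d4_2 (iv7 F4228) D6278 (iv2 D3904)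
theorem F9767 : act 1 n6278 = n3902 := d15_0 (iv0 D3902) (iv7 F4228) D6278
theorem F9768 : act 1 n6277 = n3904 := d15_1 D6277 (iv7 F9766) (iv2 D6278)
theorem F9769 : act 1 n3903 = n6278 := d15_1 D3903 F9766 (iv2 D3904)
def n6279 : Q := act 4 n2635
theorem D6279 : act 4 n2635 = n6279 := rfl
theorem F9770 : act 7 n6279 = n3905 := d11_2 (iv7 F4228) D6279 (iv4 D3905)
def n6280 : Q := act 6 n2635
theorem D6280 : act 6 n2635 = n6280 := rfl
theorem F9771 : act 3 n6280 = n2636 := d7_1 D6280 (iv6 D2636) D2635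
def n6281 : Q := act 0 n2636
theorem D6281 : act 0 n2636 = n6281 := rfl
def n6282 : Q := act 1 n2636
theorem D6282 : act 1 n2636 = n6282 := rfl
theorem F9772 : act 1 n6282 = n3901 := d15_1 D6282 (iv7 D3901) (iv2 F4229)
def n6283 : Q := act 5 n2636
theorem D6283 : act 5 n2636 = n6283 := rfl
theorem F9773 : act 2 n6283 = n3900 := d2_1 D6283 (iv5 D3900) (iv2 F4229)
theorem F9774 : act 6 n6283 = n3948 := d12_2 D2636 D6283 (iv5 D3948) (iv6 D1706) (iv5 F2299)
def n6284 : Q := act 7 n2636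
theorem D6284 : act 7 n2636 = n6284 := rfl
theorem F9775 : act 2 n6284 = n3901 := d4_1 D6284 (iv7 D3901) (iv2 F4229)
theorem F9776 : act 6 n6284 = n3910 := d14_1 D6284 (iv7 D3910) (iv6 D1690) F2301 D2636
theorem F9777 : act 1 n3901 = n6281 := d15_0 (iv0 D6281) D6284 F9775
theorem F9778 : act 1 n3899 = n6284 := d15_1 D3899 (iv7 D6284) F4229
theorem F9779 : act 1 n6284 = n3898 := d15_0 (iv0 D3898) D3901 (iv2 F9775)
def n6285 : Q := act 2 n2637
theorem D6285 : act 2 n2637 = n6285 := rfl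
theorem F9780 : act 3 n6285 = n3904 := d0_2 D2637 D6285 (iv2 D3904) (iv3 D1689) F2306
theorem F9781 : act 5 n6285 = n3951 := d2_2 (iv5 F4230) D6285 (iv2 D3951)
theorem F9782 : act 7 n6285 = n3895 := d4_2 (iv7 F4231) D6285 (iv2 D3895)
theorem F9783 : act 1 n6285 = n3778 := d15_0 F7084 (iv7 F4231) D6285
theorem F9784 : act 1 n3782 = n6285 := d15_0 F9783 (iv7 F6760) F6759
def n6286 : Q := act 4 n2637
theorem D6286 : act 4 n2637 = n6286 := rfl
theorem F9785 : act 7 n6286 = n3896 := d11_2 (iv7 F4231) D6286 (iv4 D3896)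
def n6287 : Q := act 6 n2637
theorem D6287 : act 6 n2637 = n6287 := rfl
theorem F9786 : act 3 n6287 = n2638 := d7_1 D6287 (iv6 D2638) D2637
def n6288 : Q := act 0 n2638
theorem D6288 : act 0 n2638 = n6288 := rfl
def n6289 : Q := act 1 n2638
theorem D6289 : act 1 n2638 = n6289 := rfl
theorem F9787 : act 1 n6289 = n3910 := d15_1 D6289 (iv7 D3910) (iv2 F4232)
def n6290 : Q := act 5 n2638
theorem D6290 : act 5 n2638 = n6290 := rfl
theorem F9788 : act 2 n6290 = n3909 := d2_1 D6290 (iv5 D3909) (iv2 F4232)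
theorem F9789 : act 6 n6290 = n3934 := d12_2 D2638 D6290 (iv5 D3934) F2871 (iv5 F2305)
def n6291 : Q := act 7 n2638
theorem D6291 : act 7 n2638 = n6291 := rfl
theorem F9790 : act 2 n6291 = n3910 := d4_1 D6291 (iv7 D3910) (iv2 F4232)
theorem F9791 : act 6 n6291 = n3901 := d14_1 D6291 (iv7 D3901) (iv6 D1688) (iv7 F2304) D2638
theorem F9792 : act 1 n3910 = n6288 := d15_0 (iv0 D6288) D6291 F9790
theorem F9793 : act 1 n3908 = n6291 := d15_1 D3908 (iv7 D6291) F4232
theorem F9794 : act 1 n6291 = n3907 := d15_0 (iv0 D3907) D3910 (iv2 F9790)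
def n6292 : Q := act 0 n2639
theorem D6292 : act 0 n2639 = n6292 := rfl
theorem F9795 : act 1 n3444 = n6292 := d15_0 (iv0 D6292) F4234 (iv2 F5426)
def n6293 : Q := act 1 n2639
theorem D6293 : act 1 n2639 = n6293 := rfl
def n6294 : Q := act 2 n2639
theorem D6294 : act 2 n2639 = n6294 := rfl
theorem F9796 : act 3 n6294 = n3913 := d0_2 D2639 D6294 (iv2 D3913) (iv3 D1691) (iv2 F2307)
theorem F9797 : act 5 n6294 = n3431 := d2_2 (iv5 F4233) D6294 (iv2 F5417)
theorem F9798 : act 7 n6294 = n3444 := d4_2 (iv7 F4234) D6294 F5426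
theorem F9799 : act 1 n6294 = n3445 := d15_0 (iv0 D3445) (iv7 F4234) D6294
theorem F9800 : act 1 n6293 = n3444 := d15_1 D6293 (iv7 F9798) (iv2 D6294)
theorem F9801 : act 1 n3446 = n6294 := d15_1 D3446 F9798 F5426
def n6295 : Q := act 6 n2639
theorem D6295 : act 6 n2639 = n6295 := rfl
theorem F9802 : act 3 n6295 = n2640 := d7_1 D6295 (iv6 D2640) D2639
def n6296 : Q := act 0 n2640
theorem D6296 : act 0 n2640 = n6296 := rfl
def n6297 : Q := act 1 n2640
theorem D6297 : act 1 n2640 = n6297 := rfl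
theorem F9803 : act 1 n6297 = n3918 := d15_1 D6297 (iv7 D3918) (iv2 F4235)
def n6298 : Q := act 5 n2640
theorem D6298 : act 5 n2640 = n6298 := rfl
theorem F9804 : act 2 n6298 = n3917 := d2_1 D6298 (iv5 D3917) (iv2 F4235)
theorem F9805 : act 6 n6298 = n3459 := d12_2 D2640 D6298 (iv5 D3459) (iv6 D1517) (iv5 F2308)
def n6299 : Q := act 7 n2640
theorem D6299 : act 7 n2640 = n6299 := rfl
theorem F9806 : act 2 n6299 = n3918 := d4_1 D6299 (iv7 D3918) (iv2 F4235)
theorem F9807 : act 4 n6299 = n2643 := d11_1 D6299 (iv7 D2643) (iv4 F4236)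
theorem F9808 : act 6 n6299 = n3456 := d14_1 D6299 (iv7 D3456) (iv6 D1516) F2309 D2640
theorem F9809 : act 1 n3918 = n6296 := d15_0 (iv0 D6296) D6299 F9806
theorem F9810 : act 1 n3916 = n6299 := d15_1 D3916 (iv7 D6299) F4235
theorem F9811 : act 1 n6299 = n3915 := d15_0 (iv0 D3915) D3918 (iv2 F9806)
def n6300 : Q := act 2 n2641
theorem D6300 : act 2 n2641 = n6300 := rfl
theorem F9812 : act 7 n2642 = n6300 := d15_2 (iv0 D2641) D2642 (iv2 D6300)
def n6301 : Q := act 3 n2641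
theorem D6301 : act 3 n2641 = n6301 := rfl
def n6302 : Q := act 4 n2641
theorem D6302 : act 4 n2641 = n6302 := rfl
def n6303 : Q := act 5 n2641
theorem D6303 : act 5 n2641 = n6303 := rfl
def n6304 : Q := act 7 n2641
theorem D6304 : act 7 n2641 = n6304 := rfl
theorem F9813 : act 2 n6304 = n2642 := d4_1 D6304 F9812 (iv2 D6300)
def n6305 : Q := act 3 n2642
theorem D6305 : act 3 n2642 = n6305 := rfl
def n6306 : Q := act 4 n2642
theorem D6306 : act 4 n2642 = n6306 := rfl
def n6307 : Q := act 6 n2642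
theorem D6307 : act 6 n2642 = n6307 := rfl
def n6308 : Q := act 6 n2643
theorem D6308 : act 6 n2643 = n6308 := rfl
theorem F9814 : act 2 n6308 = n3929 := d3_1 D6308 (iv6 D3929) (iv2 F4238)
theorem F9815 : act 4 n6308 = n3456 := d10_1 D6308 (iv6 F9808) F9807
theorem F9816 : act 7 n6308 = n2644 := d14_2 D2643 D6308 (iv6 D2644) (iv7 D1234) D1233
theorem F9817 : act 1 n3931 = n6308 := d15_1 D3931 F9816 F4242
theorem F9818 : act 1 n6308 = n3930 := d15_0 (iv0 D3930) (iv7 F5864) (iv2 F9814)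
def n6309 : Q := act 0 n2644
theorem D6309 : act 0 n2644 = n6309 := rfl
theorem F9819 : act 1 n3929 = n6309 := d15_0 (iv0 D6309) (iv7 F9816) F9814
def n6310 : Q := act 1 n2644
theorem D6310 : act 1 n2644 = n6310 := rfl
theorem F9820 : act 1 n6310 = n3929 := d15_1 D6310 F5864 (iv2 F4242)
def n6311 : Q := act 5 n2644
theorem D6311 : act 5 n2644 = n6311 := rfl
theorem F9821 : act 2 n6311 = n3932 := d2_1 D6311 (iv5 D3932) (iv2 F4242)
theorem F9822 : act 6 n6311 = n2646 := d12_2 D2644 D6311 (iv5 D2646) (iv6 D1235) (iv5 F2313)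
def n6312 : Q := act 5 n2645
theorem D6312 : act 5 n2645 = n6312 := rfl
theorem F9823 : act 2 n6312 = n3936 := d2_1 D6312 (iv5 D3936) F4247
theorem F9824 : act 7 n6312 = n3934 := d13_2 (iv7 F4245) D6312 (iv5 D3934)
theorem F9825 : act 0 n6312 = n3663 := d17_2 (iv1 F4244) D6312 (iv5 D3663) (iv4 D1609) F2235 F2234 (iv5 F2266) F2269 (iv4 F2728)
theorem F9826 : act 1 n6312 = n3665 := d17_6 (iv1 F2952) (iv5 F2953) F2962 F2957 F4246 D6312 (iv5 D3665) F5684 F5682
def n6313 : Q := act 1 n2646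
theorem D6313 : act 1 n2646 = n6313 := rfl
theorem F9827 : act 1 n6313 = n3563 := d15_1 D6313 F5584 (iv2 F4248)
theorem F9828 : act 7 n6313 = n3530 := d15_2 F5899 D6313 (iv2 F5896)
theorem F9829 : act 5 n6313 = n3531 := d17_7 F2875 (iv5 F2266) (iv1 F2268) F1415 (iv4 F2317) D2646 D6313 F5560 (iv4 D1831)
theorem F9830 : act 2 n3937 = n6313 := d2_3 F9829 F5683 (iv5 F5873)
def n6314 : Q := act 4 n2646
theorem D6314 : act 4 n2646 = n6314 := rfl
theorem F9831 : act 2 n6314 = n3938 := d1_1 D6314 (iv4 D3938) (iv2 F4248)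
theorem F9832 : act 0 n6314 = n6117 := d18_2 (iv1 D6313) D6314 (iv4 D6117) (iv5 D2576) F2230 D1205 D2578 F5559 (iv5 F9829)
def n6315 : Q := act 0 n2647
theorem D6315 : act 0 n2647 = n6315 := rfl
theorem F9833 : act 5 n6315 = n5336 := d17_1 D6315 (iv1 F8469) F8467 (iv4 D5300) (iv5 F3544) (iv0 D2188) F1991 D2088 (iv4 F4249)
theorem F9834 : act 4 n6315 = n3091 := d18_1 D6315 (iv1 F4830) F3817 (iv5 D1383) (iv4 F2385) F2387 D2806 (iv0 F4398) (iv5 F4250)
theorem F9835 : act 3 n6315 = n3053 := d20_5 F3387 F2076 (iv4 F2319) D2647 D6315 F4781 (iv1 F4496) (iv4 D2210) (iv3 F2006) (iv1 F3388)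
theorem F9836 : act 2 n5335 = n6315 := d15_3 (iv0 D6315) F8109 F8106
theorem F9837 : act 1 n5092 = n6315 := d15_0 (iv0 D6315) F4251 (iv2 F7578)
theorem F9838 : act 7 n6315 = n6315 := d15_2 (iv0 F8108) F9837 (iv2 F9836)
def n6316 : Q := act 6 n2647
theorem D6316 : act 6 n2647 = n6316 := rfl
theorem F9839 : act 3 n6316 = n2648 := d7_1 D6316 (iv6 D2648) D2647
theorem F9840 : act 4 n6316 = n5094 := d10_1 D6316 (iv6 D5094) (iv4 F4249)
def n6317 : Q := act 0 n2648
theorem D6317 : act 0 n2648 = n6317 := rfl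
def n6318 : Q := act 1 n2648
theorem D6318 : act 1 n2648 = n6318 := rfl
theorem F9841 : act 1 n6318 = n5527 := d15_1 D6318 (iv7 D5527) (iv2 F4252)
def n6319 : Q := act 5 n2648
theorem D6319 : act 5 n2648 = n6319 := rfl
theorem F9842 : act 2 n6319 = n5526 := d2_1 D6319 (iv5 D5526) (iv2 F4252)
theorem F9843 : act 6 n6319 = n5507 := d12_2 D2648 D6319 (iv5 D5507) (iv6 D2278) (iv5 F2318)
def n6320 : Q := act 7 n2648
theorem D6320 : act 7 n2648 = n6320 := rfl
theorem F9844 : act 2 n6320 = n5527 := d4_1 D6320 (iv7 D5527) (iv2 F4252)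
theorem F9845 : act 4 n6320 = n5234 := d11_1 D6320 (iv7 D5234) (iv4 F4253)
theorem F9846 : act 6 n6320 = n6320 := d14_1 D6320 (iv7 D6320) (iv6 D2648) F2320 D2648
theorem F9847 : act 1 n5527 = n6317 := d15_0 (iv0 D6317) D6320 F9844
theorem F9848 : act 1 n5525 = n6320 := d15_1 D5525 (iv7 D6320) F4252
theorem F9849 : act 1 n6320 = n5524 := d15_0 (iv0 D5524) D5527 (iv2 F9844)
def n6321 : Q := act 0 n2649
theorem D6321 : act 0 n2649 = n6321 := rfl
def n6322 : Q := act 1 n2649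
theorem D6322 : act 1 n2649 = n6322 := rfl
theorem F9850 : act 1 n6322 = n2653 := d15_1 D6322 (iv7 D2653) (iv2 F4254)
def n6323 : Q := act 5 n2649
theorem D6323 : act 5 n2649 = n6323 := rfl
theorem F9851 : act 2 n6323 = n2652 := d2_1 D6323 (iv5 D2652) (iv2 F4254)
theorem F9852 : act 3 n6323 = n5148 := d6_1 D6323 (iv5 D5148) (iv3 F4255)
theorem F9853 : act 6 n6323 = n5148 := d12_2 D2649 D6323 (iv5 D5148) (iv6 D2118) (iv5 F2324)
def n6324 : Q := act 7 n2649
theorem D6324 : act 7 n2649 = n6324 := rfl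
theorem F9854 : act 2 n6324 = n2653 := d4_1 D6324 (iv7 D2653) (iv2 F4254)
theorem F9855 : act 3 n6324 = n5149 := d8_1 D6324 (iv7 D5149) (iv3 F4255)
theorem F9856 : act 4 n6324 = n6324 := d11_1 D6324 (iv7 D6324) F4256
theorem F9857 : act 6 n6324 = n6324 := d14_1 D6324 (iv7 D6324) (iv6 D2649) F2325 D2649
theorem F9858 : act 1 n2653 = n6321 := d15_0 (iv0 D6321) D6324 F9854
theorem F9859 : act 1 n2651 = n6324 := d15_1 D2651 (iv7 D6324) F4254
theorem F9860 : act 4 n5385 = n6321 := d20_6 (iv4 D1095) (iv1 D677) (iv4 F1262) (iv3 F2013) D2216 D5385 (iv1 F9858) F4259 F4258 F5082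
theorem F9861 : act 1 n6324 = n2650 := d15_0 (iv0 D2650) D2653 (iv2 F9854)
def n6325 : Q := act 2 n2650
theorem D6325 : act 2 n2650 = n6325 := rfl
theorem F9862 : act 7 n2651 = n6325 := d15_2 (iv0 D2650) D2651 (iv2 D6325)
def n6326 : Q := act 3 n2650
theorem D6326 : act 3 n2650 = n6326 := rfl
def n6327 : Q := act 4 n2650
theorem D6327 : act 4 n2650 = n6327 := rfl
def n6328 : Q := act 5 n2650
theorem D6328 : act 5 n2650 = n6328 := rfl
def n6329 : Q := act 6 n2650
theorem D6329 : act 6 n2650 = n6329 := rfl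
def n6330 : Q := act 7 n2650
theorem D6330 : act 7 n2650 = n6330 := rfl
theorem F9863 : act 2 n6330 = n2651 := d4_1 D6330 F9862 (iv2 D6325)
def n6331 : Q := act 3 n2651
theorem D6331 : act 3 n2651 = n6331 := rfl
def n6332 : Q := act 4 n2651
theorem D6332 : act 4 n2651 = n6332 := rfl
theorem F9864 : act 3 n5381 = n6332 := d20_5 (iv4 D1117) (iv1 F1285) (iv4 F2014) (iv3 F3589) (iv1 F8206) (iv4 D6332) (iv1 D2651) F2329 F2328 (iv1 F7709)
def n6333 : Q := act 5 n2651
theorem D6333 : act 5 n2651 = n6333 := rfl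
def n6334 : Q := act 6 n2651
theorem D6334 : act 6 n2651 = n6334 := rfl
def n6335 : Q := act 0 n2652
theorem D6335 : act 0 n2652 = n6335 := rfl
def n6336 : Q := act 1 n2652
theorem D6336 : act 1 n2652 = n6336 := rfl
def n6337 : Q := act 4 n2652
theorem D6337 : act 4 n2652 = n6337 := rfl
def n6338 : Q := act 7 n2652
theorem D6338 : act 7 n2652 = n6338 := rfl
theorem F9865 : act 3 n6338 = n2667 := d8_1 D6338 (iv7 D2667) (iv3 F4257)
theorem F9866 : act 5 n6338 = n2653 := d13_1 D6338 (iv7 D2653) D2652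
def n6339 : Q := act 3 n2664
theorem D6339 : act 3 n2664 = n6339 := rfl
theorem F9867 : act 5 n6339 = n5647 := d6_2 (iv5 F7736) D6339 (iv3 D5647)
def n6340 : Q := act 6 n2664
theorem D6340 : act 6 n2664 = n6340 := rfl
def n6341 : Q := act 3 n2665
theorem D6341 : act 3 n2665 = n6341 := rfl
theorem F9868 : act 5 n6341 = n5668 := d6_2 F7725 D6341 (iv3 D5668)
def n6342 : Q := act 6 n2665
theorem D6342 : act 6 n2665 = n6342 := rfl
def n6343 : Q := act 3 n2666
theorem D6343 : act 3 n2666 = n6343 := rfl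
def n6344 : Q := act 5 n2666
theorem D6344 : act 5 n2666 = n6344 := rfl
theorem F9869 : act 4 n6344 = n2741 := d16_2 D2666 D6344 F4328 F2364 F1441 (iv4 F2364) (iv5 F4328) (iv7 D2741) F2361
theorem F9870 : act 7 n6344 = n2740 := d16_8 (iv4 D2666) (iv5 D1241) F1419 F716 (iv4 F1419) D1241 D2666 D6344 F4325
theorem F9871 : act 0 n6344 = n5425 := d17_2 F8244 D6344 F8243 (iv4 D5405) (iv5 D2223) (iv0 D1084) D1086 D2231 D5425
theorem F9872 : act 1 n6344 = n5422 := d17_8 (iv1 F3683) F3680 (iv1 F2052) D2228 D5416 (iv5 F8241) F8242 D6344 (iv4 D5422)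
def n6345 : Q := act 7 n2666
theorem D6345 : act 7 n2666 = n6345 := rfl
theorem F9873 : act 2 n6345 = n6344 := d4_1 D6345 F9870 F4325
theorem F9874 : act 4 n6345 = n2667 := d11_1 D6345 (iv7 D2667) D2666
theorem F9875 : act 5 n6345 = n2740 := d13_1 D6345 (iv7 F9870) (iv5 D6344)
theorem F9876 : act 1 n5602 = n6345 := d15_1 (iv0 F8562) (iv7 D6345) (iv2 F4325)
theorem F9877 : act 1 n6345 = n5599 := d15_1 F9876 F8554 (iv2 F8559)
def n6346 : Q := act 6 n2667
theorem D6346 : act 6 n2667 = n6346 := rfl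
theorem F9878 : act 5 n6346 = n6346 := d12_1 D6346 (iv6 D6346) F4263 F2331 (iv5 F4263)
def n6353 : Q := act 5 n2676
theorem D6353 : act 5 n2676 = n6353 := rfl
theorem F9885 : act 2 n6353 = n2678 := d2_1 D6353 (iv5 D2678) D2676
def n6354 : Q := act 6 n2676
theorem D6354 : act 6 n2676 = n6354 := rfl
theorem F9886 : act 2 n6354 = n2679 := d3_1 D6354 (iv6 D2679) D2676
def n6355 : Q := act 5 n2677
theorem D6355 : act 5 n2677 = n6355 := rfl
theorem F9888 : act 2 n6355 = n5236 := d2_1 D6355 (iv5 D5236) (iv2 F5112)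
theorem F9889 : act 7 n6355 = n5239 := d13_2 F5111 D6355 (iv5 D5239)
def n6356 : Q := act 6 n2677
theorem D6356 : act 6 n2677 = n6356 := rfl
theorem F9890 : act 2 n6356 = n5237 := d3_1 D6356 (iv6 D5237) (iv2 F5112)
theorem F9891 : act 4 n6356 = n2679 := d10_1 D6356 (iv6 D2679) D2677
def n6357 : Q := act 0 n2678
theorem D6357 : act 0 n2678 = n6357 := rfl
def n6358 : Q := act 1 n2678
theorem D6358 : act 1 n2678 = n6358 := rfl
def n6359 : Q := act 4 n2678
theorem D6359 : act 4 n2678 = n6359 := rfl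
theorem F9892 : act 0 n5722 = n6359 := d20_7 (iv4 F5211) (iv1 F7724) (iv4 D2366) (iv3 F3708) (iv1 F8295) (iv3 F8845) F8846 (iv4 D6359) F4272 F2570
theorem F9893 : act 0 n5184 = n5739 := d18_0 F8846 F9892 (iv4 D6359) (iv5 D2678) D2677 (iv0 F4991) F3490 D2131 D5184
theorem F9894 : act 1 n5184 = n5645 := d15_1 (iv0 F9893) F8656 (iv2 F8844)
theorem F9895 : act 1 n5179 = n5739 := d15_0 (iv0 F9893) F8355 (iv2 F8362)
theorem F9896 : act 1 n5645 = n5179 := d15_1 F9894 F8363 (iv2 F8354)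
theorem E1189 : n3240 = n1043 := (c21_5 D5179 (iv1 F9896) F8655 (iv6 D5111) F5169 (iv6 D1043) (iv5 D660) (iv1 F620) D664 D1055 D2130)
theorem E1190 : n2837 = n2112 := (((D2112).symm.trans (sb E1189 (iv1 F5170)))).symm
theorem E1191 : n2113 = n2101 := ((D2113).symm.trans (sb E1189 (iv0 F5169)))
theorem E1192 : n1440 = n1253 := ((((iv3 F2336)).symm.trans (sb E1189 (iv3 D3240)))).symm
theorem E1193 : n5728 = n1262 := ((((iv4 F2359)).symm.trans (sb E1189 F8824))).symm
theorem E1194 : n5109 = n2122 := ((((iv1 F3458)).symm.trans (sb E1190 (iv1 F7622)))).symm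
theorem E1195 : n5130 = n1295 := ((D5130).symm.trans (sb E1190 (iv2 D2837)))
theorem E1196 : n5131 = n2080 := ((D5131).symm.trans (sb E1190 (iv3 F4916)))
theorem E1197 : n5132 = n5076 := ((D5132).symm.trans (sb E1190 (iv4 F7534)))
theorem E1198 : n5135 = n2402 := ((D5135).symm.trans (sb E1190 (iv7 F5123)))
theorem F9897 : act 0 n2101 = n1043 := (sb E1191 (iv1 D2113))
theorem E1200 : n5137 = n5077 := (((F7540).symm.trans (sb E1191 D5137))).symm
theorem E1201 : n5138 = n5110 := (((D5110).symm.trans (sb E1191 D5138))).symm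
theorem E1203 : n2705 = n1154 := ((D2705).symm.trans (sb E1192 F5069))
theorem E1204 : n2706 = n794 := ((D2706).symm.trans (sb E1192 (iv0 D1440)))
theorem E1206 : n3241 = n742 := (((F2337).symm.trans (sb E1192 D3241))).symm
theorem E1209 : n3244 = n2708 := (((D2708).symm.trans (sb E1192 D3244))).symm
theorem E1210 : n2724 = n2398 := ((D2724).symm.trans (sb E1193 (iv1 D5728)))
theorem E1211 : n2725 = n2403 := ((D2725).symm.trans (sb E1193 F8823))
theorem F9898 : act 0 n2122 = n2101 := (sb E1194 (iv1 D5109))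
theorem F9899 : act 2 n1295 = n2112 := (sb E1195 (iv2 D5130))
theorem F9900 : act 3 n2080 = n2112 := (sb E1196 (iv3 D5131))
theorem F9901 : act 4 n5076 = n2112 := (sb E1197 (iv4 D5132))
theorem F9902 : act 7 n2402 = n2112 := (sb E1198 (iv7 D5135))
theorem E1212 : n5834 = n5560 := (((iv3 F8980)).symm.trans (sb E1200 (iv3 F8479)))
theorem E1213 : n5362 = n5214 := (((iv6 F8165)).symm.trans (sb E1201 (iv6 F7767)))
theorem E1214 : n2708 = n1441 := ((((iv1 F5068)).symm.trans (sb E1203 (iv1 F4300)))).symm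
theorem F9903 : act 1 n1154 = n1253 := (sb E1203 (iv0 D2705))
theorem E1215 : n2455 = n2153 := ((D2455).symm.trans (sb E1203 (iv4 F4971)))
theorem F9904 : act 0 n794 = n1253 := (sb E1204 (iv1 D2706))
theorem E1216 : n5182 = n1443 := (((D1443).symm.trans (sb E1204 (iv4 F7747)))).symm
theorem E1217 : n2153 = n1259 := (((D1259).symm.trans (sb E1206 (tr F5167 E1215)))).symm
theorem E1218 : n1443 = n1260 := (((D1260).symm.trans (sb E1206 F5168))).symm
theorem E1219 : n3244 = n1441 := (E1209).trans E1214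
theorem F9905 : act 2 n1441 = n1441 := (sb E1219 F5037)
theorem E1220 : n5727 = n5149 := ((D5727).symm.trans (sb E1210 (iv1 F7667)))
theorem F9906 : act 1 n2398 = n1262 := (sb E1210 (iv0 D2724))
theorem F9907 : act 0 n2403 = n1262 := (sb E1211 (iv1 D2725))
theorem F9908 : act 3 n5560 = n5077 := (sb E1212 F8980)
theorem F9909 : act 4 n5560 = n2438 := (sb E1212 (iv4 D5834))
theorem F9910 : act 7 n5560 = n3134 := (sb E1212 F8981)
theorem F9911 : act 3 n5214 = n2206 := (sb E1213 (iv3 D5362))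
theorem F9912 : act 6 n5214 = n5110 := (sb E1213 F8165)
theorem F9913 : act 7 n5214 = n5329 := (sb E1213 F8166)
theorem E1221 : n2835 = n2115 := (((iv3 F5073)).symm.trans (sb E1214 F4297))
theorem E1222 : n3246 = n1261 := ((D3246).symm.trans (sb E1214 F4298))
theorem E1223 : n3248 = n1441 := ((D3248).symm.trans (sb E1214 (tr F4299 E1214)))
theorem F9914 : act 7 n1441 = n1253 := (sb E1214 (iv7 D2708))
theorem E1224 : n2455 = n1259 := (E1215).trans E1217
theorem E1225 : n2714 = n1259 := ((D2714).symm.trans (sb E1224 (tr F5165 E1224)))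
theorem E1226 : n5851 = n2715 := (((D2715).symm.trans (sb E1224 D5851))).symm
theorem E1227 : n2716 = n1154 := ((D2716).symm.trans (sb E1224 (iv4 D2455)))
theorem E1228 : n5852 = n2717 := (((D2717).symm.trans (sb E1224 D5852))).symm
theorem E1229 : n5853 = n2718 := (((D2718).symm.trans (sb E1224 D5853))).symm
theorem E1230 : n2719 = n1260 := ((D2719).symm.trans (sb E1224 (tr (iv7 F3913) E1218)))
theorem E1231 : n5182 = n1260 := (E1216).trans E1218
theorem E1234 : n2720 = n2131 := ((D2720).symm.trans (sb E1231 (iv3 D5182)))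
theorem E1235 : n2715 = n1064 := ((D2715).symm.trans (sb E1217 (iv3 D2153)))
theorem E1236 : n5254 = n2717 := (((D2717).symm.trans (sb E1217 D5254))).symm
theorem E1237 : n5255 = n2718 := (((D2718).symm.trans (sb E1217 D5255))).symm
theorem E1238 : n3254 = n2131 := (((E1234).symm.trans ((D2720).symm.trans (sb E1218 D3254)))).symm
theorem E1239 : n2721 = n794 := ((D2721).symm.trans (sb E1218 (iv4 D1443)))
theorem E1240 : n3255 = n2722 := (((D2722).symm.trans (sb E1218 D3255))).symm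
theorem E1241 : n3256 = n2723 := (((D2723).symm.trans (sb E1218 D3256))).symm
theorem F9915 : act 0 n5149 = n2403 := (sb E1220 (iv1 F8822))
theorem F9916 : act 1 n5149 = n2398 := (sb E1220 (iv0 D5727))
theorem E1242 : n2402 = n2120 := ((((iv1 F3449)).symm.trans (sb E1221 F5116))).symm
theorem E1243 : n2119 = n1295 := ((F3456).symm.trans (sb E1221 (iv0 D2835)))
theorem F9917 : act 3 n2115 = n1441 := (sb E1221 F5073)
theorem F9918 : act 4 n1261 = n1441 := (sb E1222 (iv4 D3246))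
theorem F9919 : act 6 n1441 = n1441 := (sb E1223 (iv6 D3248))
theorem F9920 : act 2 n1259 = n1259 := (sb E1225 (iv2 D2714))
theorem E1244 : n5851 = n1064 := (E1226).trans E1235
theorem E1245 : n2461 = n2154 := (((D2154).symm.trans (sb E1244 F9016))).symm
theorem F9921 : act 4 n1154 = n1259 := (sb E1227 (iv4 D2716))
theorem F9922 : act 2 n2717 = n2717 := (sb E1228 (tr F9018 E1228))
theorem F9923 : act 7 n2717 = n2722 := (sb E1228 (tr F9019 E1240))
theorem F9924 : act 2 n2718 = n2718 := (sb E1229 (tr F9020 E1229))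
theorem F9925 : act 4 n2718 = n2457 := (sb E1229 F9021)
theorem F9926 : act 2 n1260 = n1260 := (sb E1230 F4315)
theorem F9927 : act 7 n1260 = n1259 := (sb E1230 (iv7 D2719))
theorem F9928 : act 3 n2131 = n1260 := (sb E1234 (iv3 D2720))
theorem E1246 : n5183 = n2293 := ((D5183).symm.trans (sb E1234 F7734))
theorem F9929 : act 3 n1064 = n1259 := (sb E1235 (iv3 D2715))
theorem E1247 : n5505 = n2154 := (((D2154).symm.trans (sb E1235 (iv4 F8403)))).symm
theorem F9930 : act 3 n2717 = n2155 := (sb E1236 F7811)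
theorem F9931 : act 3 n2718 = n2156 := (sb E1237 F7812)
theorem E1248 : n2293 = n1446 := ((E1246).symm.trans ((D5183).symm.trans (sb E1238 F5043)))
theorem F9932 : act 4 n794 = n1260 := (sb E1239 (iv4 D2721))
theorem F9933 : act 2 n2722 = n2722 := (sb E1240 (tr F5164 E1240))
theorem F9934 : act 2 n2723 = n2723 := (sb E1241 (tr F5153 E1241))
theorem F9935 : act 4 n2723 = n1445 := (sb E1241 F5044)
theorem E1249 : n2836 = n1049 := ((((iv1 D2120)).symm.trans (sb E1242 (iv1 F5124)))).symm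
theorem E1250 : n5155 = n2101 := (((iv2 F7669)).symm.trans (sb E1242 (iv2 F5117)))
theorem E1251 : n5156 = n1135 := ((D5156).symm.trans (sb E1242 (iv3 D2402)))
theorem E1252 : n5157 = n2393 := ((D5157).symm.trans (sb E1242 F4925))
theorem E1253 : n5738 = n5158 := (((D5158).symm.trans (sb E1242 D5738))).symm
theorem E1254 : n5739 = n5159 := (((D5159).symm.trans (sb E1242 D5739))).symm
theorem E1255 : n5150 = n2112 := ((F7668).symm.trans (sb E1242 F9902))
theorem F9936 : act 0 n1295 = n2115 := (sb E1243 (iv1 F3456))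
theorem E1257 : n5152 = n2392 := ((((iv4 F5175)).symm.trans (sb E1243 D5152))).symm
theorem E1259 : n5154 = n2840 := (((D2840).symm.trans (sb E1243 D5154))).symm
theorem E1260 : n5859 = n5257 := (((D5257).symm.trans (sb E1245 D5859))).symm
theorem E1262 : n5861 = n5178 := ((((iv2 F8360)).symm.trans (sb E1245 D5861))).symm
theorem E1263 : n5259 = n1155 := ((D5259).symm.trans (sb E1245 (iv3 D2461)))
theorem E1264 : n5862 = n5260 := (((D5260).symm.trans (sb E1245 D5862))).symm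
theorem E1265 : n5863 = n5261 := (((D5261).symm.trans (sb E1245 D5863))).symm
theorem E1266 : n5183 = n1446 := (E1246).trans E1248
theorem E1267 : n3266 = n2159 := ((D3266).symm.trans (sb E1266 F8352))
theorem F9937 : act 4 n1446 = n2131 := (sb E1266 (iv4 D5183))
theorem F9938 : act 7 n1446 = n2154 := (sb E1266 F8353)
theorem E1268 : n5257 = n2295 := ((D5257).symm.trans (sb E1247 (iv1 F8404)))
theorem E1269 : n5258 = n2278 := ((D5258).symm.trans (sb E1247 (iv0 D5505)))
theorem E1270 : n3264 = n1103 := ((D3264).symm.trans (sb E1248 (iv1 D2293)))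
theorem E1271 : n5433 = n3265 := (((D3265).symm.trans (sb E1248 (iv0 F8258)))).symm
theorem F9939 : act 0 n1049 = n1295 := (sb E1249 (iv1 D2836))
theorem F9940 : act 2 n2101 = n2120 := (sb E1250 F7669)
theorem F9941 : act 3 n1135 = n2120 := (sb E1251 (iv3 D5156))
theorem F9942 : act 4 n2393 = n2120 := (sb E1252 (iv4 D5157))
theorem F9943 : act 2 n5158 = n5110 := (sb E1253 F8842)
theorem F9944 : act 3 n5158 = n2404 := (sb E1253 F8843)
theorem F9945 : act 0 n5159 = n5179 := (sb E1254 (iv1 F9895))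
theorem F9946 : act 1 n5159 = n5184 := (sb E1254 (iv0 F9893))
theorem F9947 : act 2 n5159 = n5111 := (sb E1254 F8844)
theorem F9948 : act 3 n5159 = n2405 := (sb E1254 F8845)
theorem F9949 : act 4 n5159 = n5722 := (sb E1254 F8846)
theorem F9950 : act 7 n2112 = n2120 := (sb E1255 (iv7 F7668))
theorem E1277 : n3134 = n2310 := ((F5174).symm.trans (sb E1257 (iv3 F7735)))
theorem E1278 : n5329 = n5197 := (((iv5 F8093)).symm.trans (sb E1259 F7753))
theorem E1279 : n5859 = n2295 := (E1260).trans E1268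
theorem E1280 : n5506 = n2159 := (((iv1 F8405)).symm.trans (sb E1279 (tr (iv1 F9032) E1267)))
theorem F9951 : act 0 n5178 = n3265 := (sb E1262 (iv1 F9037))
theorem E1282 : n5178 = n2292 := (((D2292).symm.trans (iv1 (sb E1262 (tr F9035 E1270))))).symm
theorem E1283 : n5861 = n2292 := (E1262).trans E1282
theorem E1284 : n5529 = n3214 := ((D5529).symm.trans (sb E1283 F9033))
theorem F9952 : act 3 n1155 = n2154 := (sb E1263 (iv3 D5259))
theorem F9953 : act 3 n5260 = n2462 := (sb E1264 F9038)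
theorem F9954 : act 7 n5260 = n3267 := (sb E1264 F9039)
theorem F9955 : act 3 n5261 = n2463 := (sb E1265 F9040)
theorem F9956 : act 2 n2159 = n1446 := (sb E1267 (iv2 D3266))
theorem E1285 : n5881 = n5279 := (((D5279).symm.trans (sb E1267 (iv3 F9087)))).symm
theorem F9957 : act 1 n2295 = n2154 := (sb E1268 (iv0 D5257))
theorem E1286 : n2674 = n1106 := (((F3661).symm.trans (sb E1268 F8327))).symm
theorem F9958 : act 0 n2278 = n2154 := (sb E1269 (iv1 D5258))
theorem F9959 : act 1 n1103 = n1446 := (sb E1270 (iv0 D3264))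
theorem F9960 : act 2 n3265 = n2295 := (sb E1271 F8255)
theorem F9961 : act 4 n3265 = n2240 := (sb E1271 (iv4 D5433))
theorem F9962 : act 6 n3265 = n3265 := (sb E1271 (tr F8256 E1271))
theorem F9963 : act 7 n3265 = n2278 := (sb E1271 F8257)
theorem F9964 : act 3 n2310 = n2392 := (sb E1277 (iv3 F5174))
theorem E1287 : n5564 = n1398 := ((D5564).symm.trans (sb E1277 (iv4 D3134)))
theorem E1288 : n5567 = n5560 := ((D5567).symm.trans (sb E1277 (iv7 F9910)))
theorem F9965 : act 3 n5197 = n2185 := (sb E1278 (iv3 D5329))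
theorem F9966 : act 5 n5197 = n2840 := (sb E1278 F8093)
theorem F9967 : act 7 n5197 = n5214 := (sb E1278 (iv7 F9913))
theorem F9968 : act 0 n2159 = n2278 := (sb E1280 (iv1 D5506))
theorem F9969 : act 1 n2159 = n2295 := (sb E1280 F8405)
theorem F9970 : act 0 n2292 = n3265 := (sb E1282 F9951)
theorem F9971 : act 2 n2292 = n2154 := (sb E1282 F8360)
theorem E1289 : n5530 = n2130 := ((D5530).symm.trans (sb E1282 (iv4 D5178)))
theorem F9972 : act 7 n2292 = n2159 := (sb E1282 F8361)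
theorem F9973 : act 3 n3214 = n2292 := (sb E1284 (iv3 D5529))
theorem F9974 : act 0 n5279 = n3213 := (sb E1285 (iv1 F9092))
theorem F9975 : act 1 n5279 = n3212 := (sb E1285 F9090)
theorem F9976 : act 2 n5279 = n2480 := (sb E1285 (iv2 D5881))
theorem F9977 : act 7 n5279 = n3214 := (sb E1285 F9089)
theorem E1290 : n2769 = n1121 := (((F7716).symm.trans (sb E1286 (iv1 F4592)))).symm
theorem E1291 : n2242 = n1244 := (((iv0 F7969)).symm.trans (sb E1286 (iv0 D2674)))
theorem E1293 : n2694 = n687 := (((F2032).symm.trans (sb E1286 F8325))).symm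
theorem F9978 : act 4 n1398 = n2310 := (sb E1287 (iv4 D5564))
theorem F9979 : act 2 n5560 = n2311 := (sb E1288 F8490)
theorem F9980 : act 7 n5560 = n2310 := (sb E1288 (iv7 D5567))
theorem F9981 : act 4 n2130 = n2292 := (sb E1289 (iv4 D5530))
theorem E1296 : n2675 = n1099 := ((((iv1 F7715)).symm.trans (sb E1290 (iv1 F4594)))).symm
theorem E1297 : n1273 = n1105 := ((((iv2 F7978)).symm.trans (sb E1290 (iv2 D2769)))).symm
theorem E1299 : n5173 = n2360 := (((D2360).symm.trans (sb E1290 F7705))).symm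
theorem E1300 : n2676 = n1089 := (((F7972).symm.trans (sb E1290 F4589))).symm
theorem F9982 : act 0 n1244 = n1106 := (sb E1291 F7969)
theorem E1301 : n2336 = n736 := ((((iv3 D1244)).symm.trans (sb E1291 F7971))).symm
theorem E1303 : n5435 = n2678 := (((D2678).symm.trans (sb E1291 D5435))).symm
theorem E1304 : n5436 = n2679 := (((D2679).symm.trans (sb E1291 D5436))).symm
theorem E1305 : n1249 = n677 := ((((iv1 F1286)).symm.trans (sb E1293 (iv1 D2694)))).symm
theorem E1307 : n5481 = n1114 := ((((iv4 F2049)).symm.trans (sb E1293 F8324))).symm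
theorem F9983 : act 0 n1099 = n1244 := (sb E1296 (iv1 D2675))
theorem E1313 : n2265 = n746 := (((iv3 F5096)).symm.trans (sb E1297 (iv3 D1273)))
theorem E1314 : n2303 = n2149 := ((D2303).symm.trans (sb E1297 (iv4 F5110)))
theorem E1315 : n2771 = n2304 := (((D2304).symm.trans (sb E1297 D2771))).symm
theorem E1316 : n2772 = n2305 := (((D2305).symm.trans (sb E1297 D2772))).symm
theorem F9984 : act 7 n1105 = n1244 := (sb E1297 (iv7 F4570))
theorem E1319 : n5650 = n2129 := ((D5650).symm.trans (sb E1299 (iv1 D5173)))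
theorem E1320 : n5651 = n2151 := ((D5651).symm.trans (sb E1299 F7702))
theorem E1321 : n2243 = n2148 := (((iv7 F8061)).symm.trans (sb E1299 F7703))
theorem F9985 : act 2 n1089 = n1244 := (sb E1300 (iv2 D2676))
theorem E1322 : n6353 = n2244 := (((D2244).symm.trans (sb E1300 D6353))).symm
theorem E1323 : n6354 = n2245 := (((D2245).symm.trans (sb E1300 D6354))).symm
theorem E1326 : n1116 = n745 := (((F4566).symm.trans (sb E1301 (iv2 D2336)))).symm
theorem E1330 : n6357 = n5462 := ((D6357).symm.trans (sb E1303 (iv1 F8294)))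
theorem E1331 : n6358 = n2405 := ((D6358).symm.trans (sb E1303 F8296))
theorem E1332 : n5878 = n5736 := (((iv6 F9084)).symm.trans (sb E1303 F8833))
theorem E1333 : n5681 = n3016 := ((((iv5 F4727)).symm.trans (sb E1304 F8737))).symm
theorem E1335 : n1094 = n737 := ((D1094).symm.trans (sb E1305 (iv3 D1249)))
theorem E1336 : n2696 = n1095 := (((D1095).symm.trans (sb E1305 D2696))).symm
theorem E1337 : n2697 = n1096 := (((D1096).symm.trans (sb E1305 D2697))).symm
theorem E1338 : n2698 = n1097 := (((D1097).symm.trans (sb E1305 D2698))).symm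
theorem E1339 : n1268 = n685 := (((F7961).symm.trans (sb E1305 (iv7 F4568)))).symm
theorem E1340 : n2266 = n1085 := ((((iv1 F2052)).symm.trans (sb E1307 (iv1 D5481)))).symm
theorem F9986 : act 3 n746 = n1105 := (sb E1313 F5096)
theorem E1344 : n5478 = n1275 := (((D1275).symm.trans (sb E1313 D5478))).symm
theorem E1345 : n5479 = n1276 := (((D1276).symm.trans (sb E1313 D5479))).symm
theorem F9987 : act 2 n2149 = n2360 := (sb E1314 (iv2 F8052))
theorem F9988 : act 4 n2149 = n1105 := (sb E1314 (iv4 D2303))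
theorem E1349 : n5542 = n5239 := (((D5239).symm.trans (sb E1314 D5542))).symm
theorem E1350 : n5543 = n5240 := (((D5240).symm.trans (sb E1314 D5543))).symm
theorem E1351 : n2378 = n1324 := (((iv6 F3722)).symm.trans (sb E1315 (iv6 F4357)))
theorem F9989 : act 7 n2304 = n2678 := (sb E1315 F4591)
theorem E1352 : n5547 = n3225 := ((D5547).symm.trans (sb E1316 (iv5 F5021)))
theorem F9990 : act 1 n2129 = n2360 := (sb E1319 (iv0 D5650))
theorem F9991 : act 0 n2151 = n2360 := (sb E1320 (iv1 D5651))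
theorem E1355 : n5439 = n5235 := (((D5235).symm.trans (sb E1321 D5439))).symm
theorem F9992 : act 4 n2148 = n1089 := (sb E1321 (iv4 D2243))
theorem E1356 : n5440 = n5236 := (((D5236).symm.trans (sb E1321 D5440))).symm
theorem E1357 : n5441 = n5237 := (((D5237).symm.trans (sb E1321 D5441))).symm
theorem F9993 : act 7 n2148 = n2360 := (sb E1321 F8061)
theorem F9994 : act 2 n2244 = n2678 := (sb E1322 F9885)
theorem F9995 : act 2 n2245 = n2679 := (sb E1323 F9886)
theorem E1367 : n2339 = n1271 := (((D1271).symm.trans (sb E1326 D2339))).symm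
theorem F9996 : act 1 n5462 = n2678 := (sb E1330 (iv0 D6357))
theorem F9997 : act 0 n2405 = n2678 := (sb E1331 (iv1 D6358))
theorem F9998 : act 3 n5736 = n2471 := (sb E1332 (iv3 D5878))
theorem F9999 : act 6 n5736 = n2678 := (sb E1332 F9084)
theorem E1371 : n5679 = n3007 := ((F8835).symm.trans (sb E1332 F9085))
theorem F10000 : act 0 n3016 = n2374 := (sb E1333 (iv1 D5681))
theorem F10001 : act 1 n3016 = n5697 := (sb E1333 F8781)
theorem F10002 : act 2 n3016 = n5448 := (sb E1333 F8738)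
theorem E1372 : n5695 = n2948 := (((F4728).symm.trans (sb E1333 (iv7 F8775)))).symm
theorem F10003 : act 3 n737 = n677 := (sb E1335 (iv3 D1094))
theorem E1373 : n2267 = n1251 := (((D1251).symm.trans (sb E1335 D2267))).symm
theorem E1374 : n2268 = n1252 := (((D1252).symm.trans (sb E1335 D2268))).symm
theorem E1376 : n5413 = n2269 := (((D2269).symm.trans (sb E1336 (iv3 F8229)))).symm
theorem E1378 : n1346 = n1282 := ((((iv6 F2376)).symm.trans (sb E1337 (iv6 F4289)))).symm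
theorem E1379 : n2752 = n1118 := (((F7968).symm.trans (sb E1337 F4601))).symm
theorem E1380 : n5868 = n2275 := (((D2275).symm.trans (sb E1338 (iv5 F9054)))).symm
theorem F10004 : act 3 n685 = n745 := (sb E1339 (iv3 D1268))
theorem E1381 : n2753 = n1119 := (((D1119).symm.trans (sb E1339 D2753))).symm
theorem E1382 : n5482 = n2226 := (((D2226).symm.trans (sb E1340 D5482))).symm
theorem F10005 : act 3 n1275 = n2304 := (sb E1344 F8321)
theorem F10006 : act 3 n1276 = n2305 := (sb E1345 F8323)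
theorem F10007 : act 2 n5239 = n5653 := (sb E1349 (iv2 F8678))
theorem F10008 : act 2 n5240 = n5654 := (sb E1350 (iv2 F8680))
theorem F10009 : act 4 n5240 = n2305 := (sb E1350 F8451)
theorem E1394 : n2922 = n2375 := ((D2922).symm.trans (sb E1351 (iv1 F3728)))
theorem E1395 : n2923 = n1128 := ((D2923).symm.trans (sb E1351 (iv0 D2378)))
theorem E1396 : n2924 = n2372 := ((D2924).symm.trans (sb E1351 (iv2 F8022)))
theorem E1397 : n5690 = n2925 := (((D2925).symm.trans (sb E1351 D5690))).symm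
theorem E1398 : n5691 = n2926 := (((D2926).symm.trans (sb E1351 D5691))).symm
theorem F10010 : act 6 n1324 = n2304 := (sb E1351 F3722)
theorem F10011 : act 0 n3225 = n2859 := (sb E1352 F8460)
theorem F10012 : act 1 n3225 = n5081 := (sb E1352 (iv0 F8461))
theorem F10013 : act 2 n3225 = n5657 := (sb E1352 (iv2 F8689))
theorem F10014 : act 5 n3225 = n2305 := (sb E1352 (iv5 D5547))
theorem E1400 : n5870 = n5732 := (((iv7 F9063)).symm.trans (sb E1352 (iv7 F8829)))
theorem F10015 : act 4 n5235 = n2249 := (sb E1355 F8267)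
theorem F10016 : act 7 n5235 = n5652 := (sb E1355 (iv7 F8677))
theorem F10017 : act 7 n5236 = n5653 := (sb E1356 (iv7 F8679))
theorem F10018 : act 4 n5237 = n2245 := (sb E1357 F8268)
theorem E1409 : n5633 = n2765 := (((D2765).symm.trans (sb E1367 D5633))).symm
theorem F10019 : act 0 n3007 = n5737 := (sb E1371 (iv1 F8841))
theorem F10020 : act 1 n3007 = n5082 := (sb E1371 F8773)
theorem F10021 : act 2 n3007 = n5694 := (sb E1371 (iv2 F8770))
theorem F10022 : act 7 n3007 = n5736 := (sb E1371 (iv7 F8835))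
theorem F10023 : act 0 n2948 = n5683 := (sb E1372 (iv1 F8776))
theorem F10024 : act 1 n2948 = n2380 := (sb E1372 (iv0 D5695))
theorem F10025 : act 2 n2948 = n5680 := (sb E1372 (iv2 F8774))
theorem F10026 : act 3 n1251 = n1096 := (sb E1373 F3618)
theorem E1411 : n2795 = n770 := ((((iv6 F2334)).symm.trans (sb E1373 (iv6 F4380)))).symm
theorem F10027 : act 3 n1252 = n1097 := (sb E1374 F3619)
theorem E1414 : n5490 = n2465 := ((((iv5 F3853)).symm.trans (sb E1374 D5490))).symm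
theorem E1415 : n5491 = n2704 := (((D2704).symm.trans (sb E1374 D5491))).symm
theorem E1416 : n5579 = n2343 := ((((iv7 F8066)).symm.trans (sb E1376 (iv7 F8501)))).symm
theorem E1421 : n2994 = n2797 := (((D2797).symm.trans (sb E1378 D2994))).symm
theorem E1422 : n1328 = n1279 := ((((iv7 F7985)).symm.trans (sb E1378 F4553))).symm
theorem F10028 : act 3 n1118 = n1270 := (sb E1379 F4340)
theorem E1423 : n3237 = n2350 := (((D2350).symm.trans (sb E1379 (iv6 F5034)))).symm
theorem E1424 : n3227 = n2848 := ((((iv7 F8035)).symm.trans (sb E1380 F9056))).symm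
theorem F10029 : act 3 n1119 = n1271 := (sb E1381 F4341)
theorem E1425 : n2951 = n2354 := (((D2354).symm.trans (sb E1381 (iv5 F4642)))).symm
theorem F10030 : act 4 n2226 = n2269 := (sb E1382 F8375)
theorem E1427 : n3004 = n2379 := ((((iv1 F3723)).symm.trans (sb E1394 (iv1 F4704)))).symm
theorem F10031 : act 1 n2375 = n1324 := (sb E1394 (iv0 D2922))
theorem F10032 : act 0 n1128 = n1324 := (sb E1395 (iv1 D2923))
theorem E1428 : n3003 = n2381 := ((((iv1 F3730)).symm.trans (sb E1396 (iv1 F4705)))).symm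
theorem E1429 : n3002 = n1126 := ((((iv0 D2372)).symm.trans (sb E1396 F4701))).symm
theorem F10033 : act 2 n2372 = n1324 := (sb E1396 (iv2 D2924))
theorem E1430 : n5699 = n5674 := (((D5674).symm.trans (sb E1396 (iv4 F8786)))).symm
theorem F10034 : act 6 n2925 = n5544 := (sb E1397 F8757)
theorem F10035 : act 2 n2926 = n5675 := (sb E1398 F8759)
theorem E1432 : n5678 = n3006 := ((((iv7 F4709)).symm.trans (sb E1398 F8761))).symm
theorem F10036 : act 3 n5732 = n2466 := (sb E1400 (iv3 D5870))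
theorem E1433 : n3671 = n3379 := ((F8831).symm.trans (sb E1400 F9062))
theorem F10037 : act 7 n5732 = n3225 := (sb E1400 F9063)
theorem F10038 : act 3 n2765 = n2355 := (sb E1409 F8623)
theorem F10039 : act 3 n770 = n1282 := (sb E1411 (iv3 D2795))
theorem E1434 : n2788 = n764 := (((F4545).symm.trans (sb E1411 F8040))).symm
theorem F10040 : act 3 n2465 = n2275 := (sb E1414 F8377)
theorem F10041 : act 3 n2704 = n2276 := (sb E1415 F8378)
theorem F10042 : act 4 n2343 = n2315 := (sb E1416 (iv4 D5579))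
theorem F10043 : act 3 n2797 = n1348 := (sb E1421 F4684)
theorem E1439 : n2941 = n2790 := (((F8036).symm.trans (sb E1421 F4685))).symm
theorem E1440 : n2942 = n2791 := (((D2791).symm.trans (sb E1422 D2942))).symm
theorem F10044 : act 3 n2350 = n1436 := (sb E1423 (iv3 D3237))
theorem F10045 : act 3 n2848 = n1431 := (sb E1424 (iv3 D3227))
theorem E1441 : n5956 = n2586 := (((F8034).symm.trans (sb E1424 (iv6 F9247)))).symm
theorem F10046 : act 3 n2354 = n1333 := (sb E1425 (iv3 D2951))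
theorem E1442 : n3013 = n2803 := (((F8046).symm.trans (sb E1425 (iv7 F4721)))).symm
theorem F10047 : act 2 n2379 = n1350 := (sb E1427 (iv2 D3004))
theorem E1443 : n5704 = n5692 := (((D5692).symm.trans (sb E1427 F8800))).symm
theorem F10048 : act 0 n2381 = n1350 := (sb E1428 (iv1 D3003))
theorem F10049 : act 1 n1126 = n1350 := (sb E1429 (iv0 D3002))
theorem F10050 : act 0 n5674 = n5706 := (sb E1430 (iv1 F8806))
theorem F10051 : act 1 n5674 = n2383 := (sb E1430 (iv0 D5699))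
theorem F10052 : act 2 n5674 = n2925 := (sb E1430 (iv2 F8785))
theorem F10053 : act 2 n3006 = n5693 := (sb E1432 (iv2 F8764))
theorem E1444 : n5954 = n5766 := (((iv6 F9242)).symm.trans (sb E1432 (iv6 F8881)))
theorem F10054 : act 0 n3379 = n1615 := (sb E1433 (iv1 D3671))
theorem F10055 : act 1 n3379 = n5767 := (sb E1433 F8889)
theorem F10056 : act 2 n3379 = n3686 := (sb E1433 (iv2 F8884))
theorem F10057 : act 6 n3379 = n5732 := (sb E1433 (iv6 F8831))
theorem F10058 : act 3 n764 = n1279 := (sb E1434 (iv3 D2788))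
theorem F10059 : act 3 n2790 = n1330 := (sb E1439 F4637)
theorem E1445 : n3377 = n1618 := ((((iv6 F4374)).symm.trans (sb E1439 (iv6 F5373)))).symm
theorem F10060 : act 3 n2791 = n1331 := (sb E1440 F4638)
theorem E1446 : n6138 = n2513 := ((D6138).symm.trans (sb E1441 (iv3 D5956)))
theorem F10061 : act 3 n2803 = n1354 := (sb E1442 (iv3 D3013))
theorem F10062 : act 0 n5692 = n2386 := (sb E1443 (iv1 D5704))
theorem F10063 : act 1 n5692 = n5701 := (sb E1443 F8797)
theorem F10064 : act 2 n5692 = n3005 := (sb E1443 (iv2 F8799))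
theorem F10065 : act 3 n5766 = n2512 := (sb E1444 (iv3 D5954))
theorem F10066 : act 6 n5766 = n3006 := (sb E1444 F9242)
theorem F10067 : act 7 n5766 = n3379 := (sb E1444 F9243)
theorem E1447 : n3682 = n1490 := ((D3682).symm.trans (sb E1445 (iv3 D3377)))
theorem F10068 : act 3 n2513 = n2586 := (sb E1446 (iv3 D6138))
theorem F10069 : act 3 n1490 = n1618 := (sb E1447 (iv3 D3682))
theorem F10070 : act 3 n3684 = n3303 := d6_3 F5293 F10069 D3684
theorem F10071 : act 3 n2947 = n5315 := d7_3 (iv6 F7940) F10070 F5292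
theorem F10072 : act 3 n3015 = n6140 := d8_3 F9559 F10070 (iv7 F5294)
theorem F10073 : act 3 n5357 = n2953 := d8_3 (iv7 F4644) F10071 (iv7 F8152)
theorem F10074 : act 4 n5670 = n5126 := d20_8 (iv4 F8789) (iv1 F10063) (iv4 D5692) F5103 (iv1 D1283) (iv3 F2059) (iv4 F3714) D5670 F8372 (iv1 F7653)
theorem F10075 : act 6 n5282 = n5670 := d10_0 F10074 F7645 D5282
theorem F10076 : act 4 n2780 = n5686 := d20_6 (iv4 F10074) (iv1 F8752) F8749 (iv3 F7651) (iv1 F7654) F8373 (iv1 D5686) F3721 (iv3 F3441) D5126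
theorem F10077 : act 7 n5686 = n5670 := d11_2 (iv7 F8366) F10076 F10074
theorem F10078 : act 2 n5670 = n5685 := d15_3 (iv0 D5685) D5686 F10077
theorem F10079 : act 2 n5686 = n5671 := d15_3 F8751 F8752 (iv7 F10077)
theorem E1448 : n5127 = n2964 := ((c1_3 F10076 F10079 (iv4 F8727) (iv2 F8368))).symm
theorem F10080 : act 0 n2964 = n2111 := (sb E1448 (iv1 D5127))
theorem F10081 : act 1 n2964 = n2782 := (sb E1448 F7646)
theorem F10082 : act 2 n2964 = n2780 := (sb E1448 (iv2 F8368))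
theorem F10083 : act 7 n2964 = n2779 := (sb E1448 F8367)
theorem F10084 : act 7 n5671 = n5685 := d4_2 (iv7 F10077) F10079 (iv2 F10078)
theorem E1449 : n2960 = n2779 := (c11_2 F10084 F8744 (iv7 F10083) F8727)
theorem F10085 : act 3 n2779 = n1336 := (sb E1449 (iv3 D2960))
theorem F10086 : act 4 n2779 = n5685 := (sb E1449 (iv4 F8744))
theorem E1450 : n2965 = n2711 := ((c20_2 (iv4 F4310) (iv1 F4313) (iv4 D2965) D2964 F10080 F3441 (iv4 F3721) D5685 (iv4 F10086) F10085 (iv1 F2458))).symm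
theorem F10087 : act 4 n2711 = n1337 := (sb E1450 (iv4 D2965))
theorem F10088 : act 4 n5187 = n5200 := d20_6 F10087 (iv1 D1337) (iv4 F2351) F2350 D2133 D5187 (iv1 F7760) F4663 (iv3 F4309) (iv1 F4313)
theorem F10089 : act 4 n2973 = n5210 := d20_8 (iv4 F3500) D5200 (iv4 F10088) (iv3 D5187) (iv1 F3510) F3506 (iv4 F7758) (iv1 F7761) (iv3 D5210) (iv1 D2139)
theorem E1451 : n2961 = n2710 := ((c20_11 (iv4 D2961) (iv1 F2458) (iv4 F4310) F4309 (iv1 F3501) D5210 (iv4 F10089) (iv1 D2973) F2461 (iv3 F2350) D2710)).symm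
theorem F10090 : act 4 n2710 = n1336 := (sb E1451 (iv4 D2961))
theorem E1452 : n2959 = n1336 := (c0_2 F10085 D2959 (iv3 F10085) (iv2 F8365) F8372 F8365)
theorem F10091 : act 2 n1336 = n1336 := (sb E1452 (iv2 D2959))
theorem E1453 : n2963 = n1337 := ((D2963).symm.trans (sb E1452 (iv7 F4650)))
theorem F10092 : act 2 n1337 = n1337 := (sb E1453 F4651)
theorem F10093 : act 7 n1337 = n1336 := (sb E1453 (iv7 D2963))
theorem F10094 : act 3 n2722 = n5184 := d7_3 (iv6 F7748) F10085 F4316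
theorem F10096 : act 7 n2962 = n2966 := d13_2 F10093 D2962 (iv5 D2966)
theorem F10099 : act 2 n2966 = n2966 := d2_3 (iv5 D2966) F10092 D2966
theorem F10100 : act 2 n2967 = n2967 := d3_3 (iv6 D2967) F10092 D2967
theorem F10101 : act 2 n3363 = n3363 := d3_3 F5357 F10099 (iv6 F5357)
theorem F10102 : act 2 n2962 = n2962 := d4_3 F10096 F10099 (iv7 F10096)
theorem F10103 : act 7 n3364 = n3363 := d15_2 (iv0 D3363) D3364 F10101
theorem F10105 : act 4 n2982 = n2943 := d5_4 (iv4 D1329) F10058 (iv4 F7731) D2982 (iv3 D2943)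
theorem F10106 : act 4 n2997 = n2904 := d11_3 F8016 F10105 (iv7 F4688)
theorem F10107 : act 4 n5578 = n5636 := d1_2 F10042 D5578 (iv2 D5636)
theorem F10108 : act 4 n5581 = n5638 := d10_3 (iv6 D5638) F10042 D5581
theorem F10109 : act 4 n5494 = n5412 := d11_3 (iv7 F8496) F10107 F8627
theorem F10110 : act 3 n5548 = n2778 := d0_4 F10041 (iv2 F7982) (iv3 F8694) F8693 (iv2 F4612)
theorem F10111 : act 0 n2679 = n5294 := d20_4 (iv4 F8222) (iv1 D5408) F4959 (iv3 F4273) F7903 (iv4 F5464) (iv1 F8526) F8522 F10038 F8043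
theorem F10112 : act 5 n5544 = n5242 := d21_6 (iv5 F3740) (iv1 F3768) (iv5 D2385) D2386 F4895 F10034 (iv1 D5242) (iv5 D2150) (iv6 D1063) D1059
theorem F10113 : act 4 n5496 = n5415 := d10_3 (iv6 D5415) F10030 D5496
theorem E1454 : n5802 = n5235 := ((c20_7 (iv4 F7540) F9897 (iv4 F2359) F2358 (iv1 F5085) D2249 (iv4 F10015) (iv1 F8939) (iv4 F8816) F8815 (iv1 F7538))).symm
theorem F10114 : act 0 n5235 = n2431 := (sb E1454 (iv1 F8939))
theorem F10115 : act 1 n5235 = n2427 := (sb E1454 (iv0 D5802))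
theorem E1455 : n5589 = n3089 := (c20_5 F2330 (iv1 F1439) F4876 D2320 D5589 (iv3 F8810) F8811 (iv1 F10115) F10015 (iv3 D2249) F5084)
theorem F10116 : act 0 n3089 = n5400 := (sb E1455 (iv1 F8527))
theorem F10117 : act 1 n3089 = n2320 := (sb E1455 (iv0 D5589))
theorem F10118 : act 7 n5590 = n3090 := d15_2 F10117 D5590 F4824
theorem F10119 : act 3 n5079 = n5590 := d8_3 F10118 F4825 D5079
theorem F10120 : act 4 n5099 = n5590 := d11_3 F10118 F4826 D5099
theorem F10121 : act 6 n5590 = n5590 := d14_5 F10118 (iv6 D3090) F2525 D3090 (iv7 F10118)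
theorem F10122 : act 4 n5807 = n5400 := d20_6 (iv4 D1160) (iv1 D699) (iv4 F1308) (iv3 F2104) D2428 D5807 (iv1 F8531) (iv4 F10120) F7585 F4921
theorem F10123 : act 2 n5401 = n5807 := d1_3 F10122 (iv2 D5400) D5401
theorem E1456 : n5808 = n5452 := ((c5_4 F10122 (iv3 F8495) F10107 F8626 (iv4 D5808) D5807)).symm
theorem F10124 : act 4 n5452 = n2428 := (sb E1456 (iv4 D5808))
theorem E1457 : n5806 = n5235 := (c1_2 F10124 D5806 F10015 D5452)
theorem F10125 : act 2 n5235 = n2428 := (sb E1457 (iv2 D5806))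
theorem E1458 : n5652 = n2429 := ((F10016).symm.trans (sb E1457 (iv7 F8942)))
theorem E1459 : n5812 = n2360 := ((D5812).symm.trans (sb E1458 (iv3 D5652)))
theorem E1460 : n5813 = n2363 := ((D5813).symm.trans (sb E1458 F8676))
theorem F10126 : act 7 n2429 = n5235 := (sb E1458 (iv7 F10016))
theorem F10127 : act 3 n2360 = n2429 := (sb E1459 (iv3 D5812))
theorem F10128 : act 4 n2363 = n2429 := (sb E1460 (iv4 D5813))
theorem F10129 : act 4 n5811 = n5661 := d11_3 F8700 F10124 D5811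
theorem F10130 : act 4 n5815 = n5663 := d10_3 (iv6 D5663) F10128 D5815
theorem F10131 : act 3 n5654 = n5815 := d5_5 F10130 F8706 F3710 (iv3 F3709) (iv4 F8681)
theorem F10132 : act 3 n5814 = n5653 := d6_3 (iv5 D5653) F10127 D5814
theorem E1461 : n5811 = n5803 := (c15_4 F8933 (iv0 F10114) (iv7 F10126) (iv2 F8943))
theorem F10133 : act 2 n5803 = n2429 := (sb E1461 F8943)
theorem F10134 : act 4 n5803 = n5661 := (sb E1461 F10129)
theorem F10135 : act 7 n5803 = n2428 := (sb E1461 (iv7 D5811))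
theorem F10136 : act 0 n5655 = n5722 := d20_1 D5655 (iv4 F9949) F9948 F9997 F4272 D2687 (iv1 F4994) F4992 D5462 F8293
theorem F10137 : act 2 n5444 = n6359 := d15_3 (iv0 F9892) (iv0 F10136) F8683
theorem F10138 : act 7 n6359 = n5544 := d4_2 F8683 F10137 (iv2 F8682)
theorem F10139 : act 5 n5444 = n5241 := d17_5 (iv1 D1105) F1276 F5093 D2244 D5444 (iv0 D5241) (iv5 D2150) D2149 F9988
theorem F10140 : act 4 n5532 = n5180 := d10_3 (iv6 D5180) F9981 D5532
theorem F10141 : act 2 n5261 = n5532 := d1_3 F10140 F8364 (iv4 F7815)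
theorem E1462 : n5563 = n5559 := (c15_4 (iv0 D5559) D5560 F9980 D5563)
theorem F10142 : act 2 n5559 = n2310 := (sb E1462 (iv2 D5563))
theorem F10143 : act 7 n5559 = n2311 := (sb E1462 (iv7 F8489))
theorem F10144 : act 4 n3133 = n5559 := d1_0 F10142 (iv4 F9978) D3133
theorem E1463 : n5833 = n5569 := ((c11_4 F8976 F10144 F10143 D5569)).symm
theorem F10145 : act 0 n5569 = n3132 := (sb E1463 (iv1 F8979))
theorem F10146 : act 1 n5569 = n3131 := (sb E1463 F8977)
theorem F10147 : act 2 n5569 = n2438 := (sb E1463 (iv2 D5833))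
theorem F10148 : act 3 n5569 = n3155 := (sb E1463 F8975)
theorem F10149 : act 7 n5569 = n3133 := (sb E1463 F8976)
theorem E1464 : n5822 = n5227 := ((c20_5 (iv4 D2159) (iv1 D1065) (iv4 F1981) (iv3 F3518) D5227 F8947 F10144 (iv1 F8486) (iv4 F8444) F8443 (iv1 F9969))).symm
theorem F10150 : act 0 n5227 = n3154 := (sb E1464 (iv1 F8951))
theorem E1465 : n3153 = n2146 := ((((iv0 D5227)).symm.trans (sb E1464 F8949))).symm
theorem F10151 : act 2 n5227 = n2433 := (sb E1464 (iv2 D5822))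
theorem F10152 : act 3 n5227 = n3133 := (sb E1464 F8947)
theorem F10153 : act 7 n5227 = n3155 := (sb E1464 F8948)
theorem E1466 : n5228 = n1403 := ((D5228).symm.trans (sb E1465 (iv0 D3153)))
theorem F10154 : act 0 n1403 = n2146 := (sb E1466 (iv1 D5228))
theorem E1467 : n5147 = n2858 := (c20_5 (iv4 F4957) (iv1 F1445) (iv4 F2364) (iv3 F4319) (iv1 F7660) (iv3 F4948) (iv4 D3156) F10154 F3519 F2013 D1084)
theorem F10155 : act 0 n2858 = n2118 := (sb E1467 (iv1 D5147))
theorem F10156 : act 1 n2858 = n2727 := (sb E1467 F7660)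
theorem F10157 : act 7 n3154 = n3049 := d15_2 (iv0 F10154) D3154 F4770
theorem F10158 : act 2 n5230 = n3154 := d4_3 F10157 F4770 D5230
theorem F10159 : act 4 n5383 = n3154 := d11_3 F10157 F4771 D5383
theorem F10160 : act 6 n3154 = n3154 := d14_5 F10157 (iv6 D3049) F2502 D3049 (iv7 F10157)
theorem E1468 : n5146 = n5080 := (c15_2 F10156 F7665 F7549 (iv2 F5150))
theorem F10161 : act 0 n5080 = n2727 := (sb E1468 (iv1 F7665))
theorem F10162 : act 1 n5080 = n2118 := (sb E1468 (iv0 D5146))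
theorem E1469 : n5399 = n3090 := ((c20_4 (iv4 D2858) (iv1 F4912) (iv4 F3390) (iv3 F4825) (iv1 D5399) (iv3 D2221) (iv4 F4957) (iv1 F1445) (iv4 F2364) (iv3 F4319) (iv1 F10156))).symm
theorem F10163 : act 0 n3090 = n2221 := (sb E1469 (iv1 D5399))
theorem F10164 : act 1 n3090 = n5591 := (sb E1469 F8532)
theorem F10165 : act 7 n5398 = n3089 := d15_2 F10164 F8530 (iv2 F4824)
theorem F10166 : act 2 n5590 = n5398 := d4_3 F10165 (iv2 F4824) (iv7 F10118)
theorem F10167 : act 6 n5398 = n5398 := d14_5 F10165 (iv6 D3089) F2527 D3089 (iv7 F10165)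
theorem E1470 : n5820 = n5230 := ((c20_4 (iv4 F9981) (iv1 F3495) (iv4 F3520) (iv3 F7794) (iv1 F8946) (iv3 F10148) (iv4 D5569) (iv1 D2311) (iv4 F3660) F3659 D2292)).symm
theorem F10168 : act 0 n5230 = n3155 := (sb E1470 (iv1 F8946))
theorem F10169 : act 1 n5230 = n2433 := (sb E1470 (iv0 D5820))
theorem E1471 : n5821 = n3049 := (c15_2 F10169 D5821 (iv7 F10157) (iv2 F10158))
theorem F10170 : act 0 n3049 = n2433 := (sb E1471 (iv1 D5821))
theorem F10171 : act 1 n3049 = n3155 := (sb E1471 F8950)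
theorem F10172 : act 2 n5568 = n5720 := d0_3 (iv3 F9908) F9979 D5568 (iv3 D5720) (iv2 F7541)
theorem F10173 : act 4 n5566 = n3136 := d10_3 (iv6 D3136) F9978 D5566
theorem F10174 : act 3 n5719 = n5566 := d5_5 F10173 F4857 (iv4 F4907) (iv3 F4423) (iv4 F8820)
theorem F10175 : act 7 n5280 = n5531 := d13_2 F9972 D5280 (iv5 D5531)
theorem F10176 : act 2 n5260 = n5531 := d2_3 (iv5 D5531) F9971 D5260
theorem F10177 : act 2 n5280 = n3267 := d4_3 (iv7 F9954) F10176 (iv7 F10175)
theorem F10178 : act 2 n5214 = n5196 := d15_3 (iv0 D5196) D5197 F9967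
theorem F10179 : act 2 n5197 = n5215 := d15_3 F7768 F7775 (iv7 F9967)
theorem F10180 : act 3 n5215 = n5511 := d0_2 (iv3 F9965) F10179 F8415 F7906 F4462
theorem F10181 : act 2 n5134 = n2840 := d2_3 (iv5 F9966) F10179 (iv5 F7769)
theorem F10182 : act 7 n5215 = n5196 := d4_2 (iv7 F9967) F10179 (iv2 F10178)
theorem F10183 : act 3 n5196 = n5295 := d8_1 F10182 (iv7 F8413) (iv3 F10180)
theorem F10184 : act 3 n5082 = n5134 := d0_0 F10181 F4423 (iv2 F4440) (iv3 F5126) (iv2 F7552)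
theorem F10185 : act 3 n5718 = n5565 := d6_3 (iv5 D5565) F9964 D5718
theorem F10186 : act 1 n5265 = n5742 := d18_6 (iv1 F7715) (iv4 F3628) F9958 (iv4 D2154) D2155 D5265 F8848 F8295 (iv5 D2361)
theorem E1472 : n3261 = n2717 := ((c20_4 (iv4 F8848) (iv1 F10186) (iv4 D5265) (iv3 F9930) (iv1 F5157) F5046 (iv4 F5211) (iv1 F7724) (iv4 D2366) (iv3 F3708) (iv1 F8295))).symm
theorem F10187 : act 0 n2717 = n3263 := (sb E1472 (iv1 F5157))
theorem F10188 : act 1 n2717 = n1445 := (sb E1472 (iv0 D3261))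
theorem E1473 : n3262 = n2722 := (c15_2 F10188 D3262 (iv7 F9923) F9922)
theorem F10189 : act 0 n2722 = n1445 := (sb E1473 (iv1 D3262))
theorem F10190 : act 1 n2722 = n3263 := (sb E1473 F5155)
theorem F10191 : act 5 n2723 = n3258 := d21_6 (iv5 D2717) (iv1 F2356) F2354 F2355 (iv1 F2357) D2723 (iv1 D3258) (iv5 D1444) D1445 (iv1 F10188)
theorem F10192 : act 2 n3258 = n3258 := d2_1 F10191 (iv5 F10191) F9934
theorem F10193 : act 6 n3258 = n2962 := d12_2 D2723 F10191 (iv5 D2962) F4316 (iv5 D2722)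
theorem F10194 : act 6 n2717 = n5857 := d21_3 F1433 D1259 D2717 (iv1 D5857) (iv6 D2457) D2456 (iv1 F5161) (iv5 F10191) (iv6 D2723) (iv1 D1260)
theorem F10195 : act 2 n5857 = n5857 := d3_1 F10194 (iv6 F10194) F9922
theorem F10196 : act 3 n5857 = n5266 := d7_1 F10194 (iv6 D5266) (iv3 F9930)
theorem F10197 : act 7 n5857 = n2967 := d14_2 (iv7 F9923) F10194 (iv6 D2967) F10093 F4316
theorem F10198 : act 0 n3503 = n2712 := d21_1 (iv5 F5503) (iv5 D2712) (iv6 D1258) (iv1 F1430) D742 F1433 D1259 D2717 F10194 (iv1 D5857)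
theorem F10199 : act 1 n3260 = n2712 := d15_0 (iv0 F10198) F5504 F5159
theorem E1474 : n5856 = n2967 := ((c15_4 (iv0 D5856) D5857 F10197 F10100)).symm
theorem F10200 : act 0 n2967 = n5858 := (sb E1474 (iv1 F9030))
theorem F10201 : act 1 n2967 = n2457 := (sb E1474 (iv0 D5856))
theorem F10202 : act 7 n3257 = n3258 := d15_2 F5161 F5162 F10192
theorem F10203 : act 2 n3257 = n3257 := d4_3 F10202 F10192 (iv7 F10202)
theorem F10204 : act 6 n3364 = n3257 := d14_5 F10202 F10193 F10096 (iv6 F5357) (iv7 F10103)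
theorem F10205 : act 2 n3268 = n5281 := d3_3 (iv6 D5281) F9956 D3268
theorem F10206 : act 4 n5185 = n3268 := d1_0 F10205 F7829 (iv2 F8356)
theorem F10207 : act 3 n2723 = n5185 := d5_5 F10206 F5049 F2568 (iv3 F2567) (iv4 F9935)
theorem F10208 : act 7 n5158 = n5133 := d13_2 F9950 D5158 (iv5 D5133)
theorem F10209 : act 2 n5133 = n2839 := d4_1 F10208 (iv7 F7624) (iv2 F9943)
theorem F10210 : act 3 n5133 = n5081 := d8_1 F10208 F7551 (iv3 F9944)
theorem F10211 : act 1 n5110 = n5285 := d15_0 (iv0 F7832) (iv7 F10208) F9943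
theorem E1475 : n5264 = n5111 := ((c21_10 (iv5 D2155) (iv1 F3497) F3493 F3494 (iv1 F3496) D2161 D5285 (iv1 F10211) (iv5 D5110) D5111 (iv1 D5264))).symm
theorem F10212 : act 0 n5111 = n2155 := (sb E1475 (iv1 D5264))
theorem F10213 : act 1 n5111 = n2160 := (sb E1475 F7820)
theorem F10214 : act 7 n5263 = n5159 := d15_2 F10213 F7824 F9947
theorem F10215 : act 2 n5645 = n5263 := d4_3 F10214 F9947 (iv7 F8656)
theorem F10216 : act 3 n5442 = n5263 := d8_3 F10214 F9948 F8298
theorem E1476 : n5746 = n5161 := ((c18_1 (iv1 F7670) F8852 (iv1 D5750) (iv4 D2408) (iv5 D1136) (iv4 F2077) D2393 F9942 F3449 (iv5 F7659))).symm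
theorem F10217 : act 2 n5161 = n5116 := (sb E1476 F8850)
theorem F10218 : act 3 n5161 = n2407 := (sb E1476 (iv3 D5746))
theorem F10219 : act 4 n5161 = n5750 := (sb E1476 F8852)
theorem F10220 : act 3 n5291 = n5190 := d6_3 F7750 F10218 (iv5 F7901)
theorem F10221 : act 2 n5190 = n5355 := d0_1 F10220 F8145 (iv2 F7867) (iv3 F7936) F7935
theorem E1477 : n5187 = n2162 := (c7_4 D5291 F10220 (iv6 D5190) D5187)
theorem E1478 : n5288 = n2133 := ((D5288).symm.trans (sb E1477 (iv3 D5187)))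
theorem E1479 : n5289 = n5200 := ((D5289).symm.trans (sb E1477 F10088))
theorem E1480 : n5321 = n2141 := ((((iv1 F3510)).symm.trans (sb E1478 (iv1 F8079)))).symm
theorem E1482 : n5186 = n2197 := ((D5186).symm.trans (sb E1478 F7835))
theorem F10222 : act 3 n2133 = n2162 := (sb E1478 (iv3 D5288))
theorem E1483 : n5218 = n5188 := (((D5188).symm.trans (sb E1478 F7836))).symm
theorem E1484 : n5322 = n5191 := (((D5191).symm.trans (sb E1478 (iv7 F8078)))).symm
theorem F10223 : act 2 n5200 = n5312 := (sb E1479 (iv2 F7930))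
theorem F10224 : act 4 n5200 = n2162 := (sb E1479 (iv4 D5289))
theorem F10225 : act 7 n5200 = n5508 := (sb E1479 (iv7 F8408))
theorem E1485 : n2180 = n2134 := ((((iv1 F3509)).symm.trans (sb E1480 (iv1 D5321)))).symm
theorem F10226 : act 2 n2197 = n2133 := (sb E1482 (iv2 D5186))
theorem F10227 : act 0 n5188 = n5226 := (sb E1483 (iv1 F7792))
theorem F10228 : act 1 n5188 = n2143 := (sb E1483 (iv0 D5218))
theorem F10229 : act 2 n5188 = n5223 := (sb E1483 F7837)
theorem F10230 : act 7 n5188 = n5224 := (sb E1483 (iv7 F7838))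
theorem F10231 : act 0 n5191 = n5353 := (sb E1484 (iv1 F8142))
theorem F10233 : act 3 n5191 = n2283 := (sb E1484 F8076)
theorem F10234 : act 4 n5191 = n5224 := (sb E1484 F8077)
theorem E1486 : n5192 = n1071 := ((D5192).symm.trans (sb E1485 (iv3 D2180)))
theorem E1487 : n5219 = n5193 := (((D5193).symm.trans (sb E1485 F7778))).symm
theorem E1488 : n5323 = n5194 := (((D5194).symm.trans (sb E1485 D5323))).symm
theorem E1489 : n5324 = n5195 := (((D5195).symm.trans (sb E1485 D5324))).symm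
theorem F10235 : act 7 n2134 = n2197 := (sb E1485 (iv7 F7841))
theorem F10236 : act 3 n1071 = n2134 := (sb E1486 (iv3 D5192))
theorem F10237 : act 0 n5193 = n2143 := (sb E1487 (iv1 D5219))
theorem F10238 : act 1 n5193 = n5226 := (sb E1487 F7791)
theorem F10239 : act 2 n5193 = n5224 := (sb E1487 (iv2 F7840))
theorem F10240 : act 7 n5193 = n5223 := (sb E1487 F7839)
theorem F10241 : act 3 n5194 = n2182 := (sb E1488 F8080)
theorem F10242 : act 7 n5194 = n5354 := (sb E1488 (iv7 F8144))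
theorem F10243 : act 3 n5195 = n2183 := (sb E1489 F8081)
theorem F10244 : act 7 n5195 = n5465 := (sb E1489 (iv7 F8306))
theorem E1490 : n5312 = n2972 := (c20_7 D5193 F10237 F3512 F1985 D1070 D2175 D5312 (iv1 F7762) F7758 F3506 (iv1 F3509))
theorem F10245 : act 2 n2972 = n5200 := (sb E1490 (iv2 F10223))
theorem F10246 : act 4 n2972 = n2175 := (sb E1490 (iv4 D5312))
theorem F10247 : act 7 n2972 = n5292 := (sb E1490 F7931)
theorem E1491 : n5508 = n2973 := (c15_4 F7761 F7762 F10247 (iv2 F8407))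
theorem F10248 : act 2 n2973 = n5292 := (sb E1491 F8407)
theorem E1492 : n5210 = n2283 := ((F10089).symm.trans (sb E1491 (iv4 D5508)))
theorem F10249 : act 7 n2973 = n5200 := (sb E1491 (iv7 F10225))
theorem E1493 : n5191 = n2139 := (((iv3 F10233)).symm.trans (sb E1492 (iv3 D5210)))
theorem F10250 : act 4 n2283 = n2973 := (sb E1492 (iv4 F10089))
theorem E1494 : n5353 = n1058 := ((((iv1 D2139)).symm.trans (sb E1493 F10231))).symm
theorem E1496 : n5209 = n2134 := (((iv2 F7766)).symm.trans (sb E1493 F7751))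
theorem F10251 : act 3 n2139 = n2283 := (sb E1493 F10233)
theorem E1497 : n5224 = n5211 := (((D5211).symm.trans (sb E1493 F10234))).symm
theorem E1498 : n5204 = n2133 := ((F7763).symm.trans (sb E1493 (iv7 D5191)))
theorem E1499 : n2197 = n2138 := (((D2138).symm.trans (sb E1494 (iv1 D5353)))).symm
theorem F10252 : act 2 n2134 = n2139 := (sb E1496 F7766)
theorem F10253 : act 0 n5211 = n2145 := (sb E1497 (iv1 D5224))
theorem F10254 : act 1 n5211 = n5221 := (sb E1497 F7786)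
theorem F10255 : act 2 n5211 = n5193 := (sb E1497 (iv2 F10239))
theorem F10256 : act 7 n5211 = n5188 := (sb E1497 (iv7 F10230))
theorem F10257 : act 7 n2133 = n2139 := (sb E1498 (iv7 F7763))
theorem F10258 : act 2 n2138 = n2133 := (sb E1499 F10226)
theorem E1500 : n5205 = n1076 := ((D5205).symm.trans (sb E1499 (iv3 D2197)))
theorem E1501 : n5223 = n5206 := (((D5206).symm.trans (sb E1499 (iv4 F7784)))).symm
theorem E1502 : n5354 = n5207 := (((D5207).symm.trans (sb E1499 D5354))).symm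
theorem E1503 : n5355 = n5208 := (((D5208).symm.trans (sb E1499 D5355))).symm
theorem F10259 : act 7 n2138 = n2134 := (sb E1499 (iv7 F10235))
theorem F10260 : act 3 n1076 = n2138 := (sb E1500 (iv3 D5205))
theorem F10261 : act 0 n5206 = n5221 := (sb E1501 F7785)
theorem F10262 : act 1 n5206 = n2145 := (sb E1501 (iv0 D5223))
theorem F10263 : act 2 n5206 = n5188 := (sb E1501 (iv2 F10229))
theorem F10264 : act 7 n5206 = n5193 := (sb E1501 (iv7 F10240))
theorem F10265 : act 3 n5207 = n2199 := (sb E1502 F8143)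
theorem F10266 : act 7 n5207 = n5194 := (sb E1502 (iv7 F10242))
theorem F10267 : act 2 n5208 = n5190 := (sb E1503 (iv2 F10221))
theorem F10268 : act 3 n5208 = n2200 := (sb E1503 F8145)
theorem E1504 : n5141 = n5116 := ((F7765).symm.trans (sb E1503 (iv5 F8146)))
theorem F10269 : act 7 n5208 = n5502 := (sb E1503 (iv7 F8394))
theorem F10270 : act 0 n5116 = n2114 := (sb E1504 (iv1 D5141))
theorem F10271 : act 1 n5116 = n5163 := (sb E1504 F7677)
theorem F10272 : act 5 n5116 = n5208 := (sb E1504 (iv5 F7765))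
theorem E1505 : n5292 = n5201 := ((c15_2 (iv0 D5200) D5201 (iv7 F10247) F10245)).symm
theorem F10273 : act 2 n5201 = n2973 := (sb E1505 (iv2 F10248))
theorem F10274 : act 4 n5201 = n2163 := (sb E1505 (iv4 D5292))
theorem F10275 : act 7 n5201 = n2972 := (sb E1505 (iv7 F10247))
theorem E1506 : n5798 = n2930 := (c20_5 F10274 (iv1 D2163) (iv4 F3512) (iv3 F3821) D5798 (iv3 D2930) (iv4 D1325) (iv1 F1493) (iv4 F2466) (iv3 F4662) (iv1 F7755))
theorem F10276 : act 0 n2930 = n5797 := (sb E1506 (iv1 F8930))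
theorem F10277 : act 1 n2930 = n2426 := (sb E1506 (iv0 D5798))
theorem E1507 : n3494 = n2713 := (c20_5 (iv4 F1994) D2192 F5270 D2543 (iv1 F5491) F4309 (iv4 F4663) (iv1 F7755) F10274 F5461 (iv1 D1077))
theorem E1508 : n2711 = n1542 := (((iv1 F4313)).symm.trans (sb E1507 (iv1 D3494)))
theorem E1509 : n2710 = n2543 := ((F4312).symm.trans (sb E1507 F5491))
theorem E1510 : n3493 = n1258 := ((D3493).symm.trans (sb E1508 (iv1 D2711)))
theorem F10278 : act 1 n1542 = n2713 := (sb E1508 F4313)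
theorem E1511 : n3495 = n1337 := ((D3495).symm.trans (sb E1508 F10087))
theorem F10279 : act 0 n2543 = n2713 := (sb E1509 (iv1 F4312))
theorem E1512 : n6037 = n1336 := ((D6037).symm.trans (sb E1509 F10090))
theorem F10280 : act 0 n1258 = n2543 := (sb E1510 (iv1 F5490))
theorem F10281 : act 1 n1258 = n1542 := (sb E1510 (iv0 D3493))
theorem F10282 : act 4 n1337 = n1542 := (sb E1511 (iv4 D3495))
theorem F10283 : act 4 n1336 = n2543 := (sb E1512 (iv4 D6037))
theorem E1513 : n5685 = n5344 := ((c5_4 F10283 (iv3 D2543) (iv4 F5270) D5344 (iv4 F10086) F10085)).symm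
theorem F10284 : act 0 n5344 = n5673 := (sb E1513 F8745)
theorem F10285 : act 1 n5344 = n2377 := (sb E1513 (iv0 D5685))
theorem F10286 : act 2 n5344 = n5670 := (sb E1513 (iv2 F10078))
theorem F10287 : act 4 n5344 = n2779 := (sb E1513 (iv4 F10086))
theorem E1514 : n5671 = n3498 := (((F8123).symm.trans (sb E1513 (iv7 F10084)))).symm
theorem F10288 : act 0 n3498 = n2371 := (sb E1514 (iv1 D5671))
theorem F10289 : act 1 n3498 = n5688 := (sb E1514 F8751)
theorem F10290 : act 2 n3498 = n5686 := (sb E1514 (iv2 F10079))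
theorem F10291 : act 4 n3498 = n2964 := (sb E1514 (iv4 F8727))
theorem F10292 : act 4 n3297 = n2722 := d10_3 (iv6 F4316) F10283 F5287
theorem F10293 : act 4 n2717 = n5889 := d11_3 F9109 F10292 (iv7 F9923)
theorem F10294 : act 5 n3259 = n5888 := d16_5 F10292 (iv5 D2722) (iv4 F9932) D1444 D3259 (iv4 D5888) D5889 F9109 F5285
theorem F10295 : act 5 n5854 = n3296 := d16_1 D5854 (iv4 D3296) D3297 F10292 (iv5 D2722) (iv4 F9932) D1444 F3914 F5160
theorem E1515 : n3295 = n3247 := ((c17_2 (iv1 F5068) D3247 (iv1 D3295) D3297 F10292 (iv5 D2722) F2357 F2354 F2356 (iv4 F9921))).symm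
theorem F10296 : act 0 n3247 = n1460 := (sb E1515 (iv1 D3295))
theorem F10297 : act 1 n3247 = n2487 := (sb E1515 F5283)
theorem F10298 : act 1 n2723 = n3297 := d17_8 F10189 D3263 (iv1 F10190) (iv5 D2722) (iv4 F9932) D1444 D3258 (iv5 F10191) F10292
theorem F10299 : act 1 n5889 = n2723 := d15_0 F10298 (iv7 F9109) F9107
theorem F10300 : act 3 n5499 = n5265 := d5_3 F10293 F9108 (iv4 F8383) (iv4 D5265) (iv3 F9930)
theorem E1516 : n3294 = n2707 := (c17_7 (iv1 D1260) F1433 D1259 D2717 F10293 (iv5 D5889) F5282 (iv5 D2707) (iv0 F9904) F9932)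
theorem F10301 : act 0 n2707 = n2487 := (sb E1516 (iv1 F5282))
theorem F10302 : act 1 n2707 = n1460 := (sb E1516 (iv0 D3294))
theorem F10303 : act 0 n5208 = n5185 := d20_4 (iv4 F8238) (iv1 F8240) (iv4 F5457) (iv3 F10268) (iv3 F10207) F9935 (iv1 F10188) F10293 F9108 (iv1 F4614)
theorem F10304 : act 1 n5208 = n5286 := d15_1 (iv0 F10303) (iv7 D5286) (iv2 F8356)
theorem F10305 : act 7 n3247 = n2707 := d15_2 F10302 (iv0 F10296) F4293
theorem F10306 : act 0 n5142 = n5744 := d20_7 (iv4 F4470) (iv1 F5181) (iv4 D1461) D1460 (iv1 F10302) F4294 D5142 (iv4 D5744) F5147 (iv1 F3432)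
theorem F10307 : act 2 n3247 = n3247 := d4_3 F10305 F4293 (iv7 F10305)
theorem F10308 : act 3 n5143 = n3247 := d8_3 F10305 F4294 D5143
theorem F10309 : act 0 n5747 = n5142 := d20_1 D5747 (iv4 D5142) (iv3 F4294) F10301 (iv3 D2487) D2488 (iv1 F7639) F7637 (iv3 F7556) (iv1 F7559)
theorem E1517 : n5555 = n3112 := ((c20_4 F1988 D1070 F4928 D3112 (iv1 F8475) (iv3 F8788) F8789 (iv1 F10081) (iv4 F10291) (iv3 D3498) F5274)).symm
theorem F10310 : act 0 n3112 = n5552 := (sb E1517 (iv1 F8475))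
theorem F10311 : act 1 n3112 = n2308 := (sb E1517 (iv0 D5555))
theorem F10312 : act 2 n3481 = n5556 := d15_3 F8471 (iv0 F10310) F7852
theorem F10313 : act 4 n3055 = n3476 := d20_8 F2535 (iv1 F2188) D1543 D3498 F10288 (iv3 F4785) F4786 D3055 (iv3 D3476) (iv1 F2681)
theorem E1518 : n5550 = n3481 := ((c20_4 F3535 (iv1 F1995) (iv4 F5460) D3481 (iv1 D5550) (iv3 F3759) F3760 D2779 (iv4 F10287) (iv3 D5344) (iv1 F3560))).symm
theorem F10314 : act 0 n3481 = n2306 := (sb E1518 (iv1 D5550))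
theorem F10315 : act 1 n3481 = n5558 := (sb E1518 F8476)
theorem F10316 : act 7 n5549 = n5556 := d15_2 F10315 F8477 (iv2 F10312)
theorem F10317 : act 2 n3112 = n5549 := d4_3 F10316 (iv2 F10312) (iv7 F7852)
theorem F10318 : act 3 n5692 = n3094 := d20_3 F8728 (iv1 F3723) D5692 (iv1 D3094) F2530 F1506 D1187 (iv4 F5270) D5344 F10284
theorem F10319 : act 4 n3094 = n2909 := d5_2 D5692 F10318 (iv3 D2909) F5104 (iv3 F5103)
theorem F10320 : act 4 n3497 = n2967 := d10_3 (iv6 D2967) F10282 D3497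
theorem E1519 : n5465 = n5269 := (c20_4 (iv4 F8522) (iv1 F8525) F8222 D5465 (iv1 D5269) (iv3 F9931) F9925 (iv1 F10201) (iv4 F10320) F5496 F4635)
theorem F10321 : act 3 n5269 = n2259 := (sb E1519 (iv3 D5465))
theorem E1520 : n5502 = n5283 := ((((iv6 F7831)).symm.trans (sb E1519 (iv6 F8393)))).symm
theorem F10322 : act 7 n5269 = n5195 := (sb E1519 (iv7 F10244))
theorem F10323 : act 3 n5283 = n2273 := (sb E1520 (iv3 D5502))
theorem E1521 : n5160 = n2866 := ((F7830).symm.trans (sb E1520 F8392))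
theorem F10324 : act 7 n5283 = n5208 := (sb E1520 (iv7 F10269))
theorem F10325 : act 0 n2866 = n5143 := (sb E1521 (iv1 F7676))
theorem F10326 : act 1 n2866 = n2121 := (sb E1521 (iv0 D5160))
theorem F10327 : act 5 n2866 = n5283 := (sb E1521 (iv5 F7830))
theorem F10328 : act 2 n5195 = n5268 := d15_3 (iv0 D5268) D5269 F10322
theorem F10329 : act 3 n5268 = n5446 := d0_2 (iv3 F10243) F10328 F8458 F7903 F7856
theorem E1522 : n5268 = n5213 := (c3_2 D5195 F10328 (iv6 D5213) (iv2 F10252))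
theorem F10330 : act 1 n5213 = n2156 := (sb E1522 (iv0 D5268))
theorem F10331 : act 2 n5213 = n5195 := (sb E1522 (iv2 F10328))
theorem F10332 : act 3 n5213 = n5446 := (sb E1522 F10329)
theorem F10333 : act 0 n3356 = n6029 := d21_4 (iv5 D1167) (iv1 F1519) D1481 D3356 F9368 (iv5 D3496) (iv1 F10281) D2712 F4307 (iv1 F2597)
theorem F10334 : act 1 n3356 = n3462 := d15_1 (iv0 F10333) (iv7 F9369) F9367
theorem F10335 : act 2 n3008 = n5799 := d15_3 F8922 (iv0 F10276) (iv7 F4711)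
theorem F10336 : act 7 n5140 = n5161 := d15_2 F10271 F7678 F10217
theorem F10337 : act 2 n2866 = n5140 := d4_3 F10336 F10217 F7895
theorem F10338 : act 3 n5083 = n5140 := d8_3 F10336 F10218 F7893
theorem F10339 : act 2 n5189 = n5207 := d2_3 (iv5 D5207) F10258 D5189
theorem F10340 : act 3 n5290 = n5189 := d0_0 F10339 F10265 (iv2 F7900) (iv3 F7933) F7932
theorem F10341 : act 7 n5212 = n5189 := d13_2 F10257 D5212 (iv5 D5189)
theorem F10342 : act 2 n5194 = n5212 := d4_3 F10341 F10339 F10266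
theorem F10343 : act 3 n5509 = n5212 := d8_3 F10341 (iv3 F10340) (iv7 F8410)
theorem E1523 : n5795 = n3008 := (c20_5 F10246 F4933 (iv4 F7779) (iv3 F8927) (iv1 F8931) (iv3 D3008) (iv4 D1351) (iv1 D771) (iv4 F1485) (iv3 F2460) D2972)
theorem F10344 : act 0 n3008 = n2425 := (sb E1523 (iv1 D5795))
theorem F10345 : act 1 n3008 = n5801 := (sb E1523 F8931)
theorem F10346 : act 7 n5794 = n5799 := d15_2 F10345 F8932 (iv2 F10335)
theorem F10347 : act 2 n2930 = n5794 := d4_3 F10346 (iv2 F10335) F4711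
theorem F10348 : act 0 n5171 = n3098 := d20_10 F5179 (iv1 F4821) (iv4 F4409) F4408 (iv1 F5057) D1446 F9937 (iv1 D2131) (iv4 F3490) (iv3 F7699)
theorem F10349 : act 3 n5270 = n2969 := d6_3 (iv5 F4652) F9931 D5270
theorem F10350 : act 2 n2969 = n2969 := d2_3 (iv5 F4652) F9924 F4652
theorem F10351 : act 7 n2968 = n2969 := d15_2 F4659 F4658 F10350
theorem F10352 : act 2 n2968 = n2968 := d4_3 F10351 F10350 (iv7 F10351)
theorem F10353 : act 3 n5710 = n6327 := d20_5 (iv4 D2403) (iv1 D1135) (iv4 F2077) (iv3 F3786) D5710 (iv4 D6327) (iv1 F9861) F9856 F9855 F9915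
theorem F10354 : act 4 n6331 = n5097 := d20_6 F9901 (iv1 F3458) (iv4 F7663) (iv3 F9855) (iv1 F9859) D6331 (iv1 D5097) (iv4 F4826) F4825 D5076
def n6360 : Q := act 1 n2679
theorem D6360 : act 1 n2679 = n6360 := rfl
theorem F10355 : act 1 n6360 = n5449 := d15_1 D6360 (iv7 D5449) F9995
theorem F10356 : act 7 n6360 = n5446 := d15_2 (iv0 F10111) D6360 F8458
theorem F10357 : act 6 n5656 = n6360 := d21_3 D2082 D5083 (iv5 F8684) (iv1 D6360) (iv6 D2679) D2678 (iv1 F9996) F8291 (iv6 D2860) (iv1 F4912)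
theorem F10358 : act 2 n6360 = n5447 := d3_1 F10357 (iv6 F8455) F8685
def n6361 : Q := act 7 n2679
theorem D6361 : act 7 n2679 = n6361 := rfl
theorem F10359 : act 2 n6361 = n5449 := d4_1 D6361 (iv7 D5449) F9995
theorem F10360 : act 3 n6361 = n2691 := d8_1 D6361 (iv7 D2691) (iv3 F4273)
theorem F10361 : act 5 n6361 = n2948 := d13_1 D6361 (iv7 F4728) F4727
theorem F10362 : act 6 n6361 = n5548 := d14_1 D6361 (iv7 D5548) (iv6 D2305) F9984 D2679
theorem F10363 : act 1 n5447 = n6361 := d15_1 D5447 (iv7 D6361) (iv2 F9995)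
theorem F10364 : act 1 n6361 = n5446 := d15_1 F10363 (iv7 F10356) F10358
def n6362 : Q := act 3 n2687
theorem D6362 : act 3 n2687 = n6362 := rfl
theorem F10365 : act 5 n6362 = n5421 := d6_2 F4970 D6362 (iv3 D5421)
def n6363 : Q := act 3 n2702
theorem D6363 : act 3 n2702 = n6363 := rfl
theorem F10366 : act 4 n6363 = n5501 := d5_2 D2702 D6363 (iv3 D5501) (iv4 D2272) (iv3 F10026)
theorem F10367 : act 5 n6363 = n5424 := d6_2 (iv5 F4977) D6363 (iv3 D5424)
theorem F10368 : act 6 n6363 = n2997 := d7_2 (iv6 F4292) D6363 (iv3 D2997)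
def n6364 : Q := act 4 n2707
theorem D6364 : act 4 n2707 = n6364 := rfl
theorem F10369 : act 2 n6364 = n6364 := d1_1 D6364 (iv4 D6364) F4293
theorem F10370 : act 6 n6364 = n2709 := d10_2 (iv6 F4295) D6364 (iv4 D2709)
theorem F10371 : act 0 n6364 = n5888 := d18_2 (iv1 F10302) D6364 (iv4 D5888) D5889 (iv4 F10293) F10188 (iv4 F9935) F10298 (iv5 D3297)
theorem F10372 : act 1 n6364 = n3296 := d18_6 (iv1 D1441) F9932 (iv1 D1260) (iv4 F2337) D2707 D6364 (iv4 D3296) (iv0 F10296) (iv5 D3247)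
def n6365 : Q := act 3 n2709
theorem D6365 : act 3 n2709 = n6365 := rfl
theorem F10373 : act 4 n6365 = n5144 := d5_2 D2709 D6365 (iv3 D5144) (iv4 D2117) (iv3 F2339)
def n6366 : Q := act 5 n2709
theorem D6366 : act 5 n2709 = n6366 := rfl
theorem F10375 : act 0 n6366 = n5920 := d17_2 (iv1 F4304) D6366 (iv5 D5920) (iv4 D2501) (iv5 D1167) F2419 D1256 F2342 D1495
theorem F10376 : act 1 n6366 = n3361 := d17_6 (iv1 D1483) (iv5 D807) F2418 D1256 D2709 D6366 (iv5 D3361) (iv0 F5349) (iv4 D3358)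
def n6367 : Q := act 4 n2712
theorem D6367 : act 4 n2712 = n6367 := rfl
theorem F10378 : act 6 n6367 = n3357 := d10_2 (iv6 F4307) D6367 (iv4 D3357)
def n6368 : Q := act 7 n2712
theorem D6368 : act 7 n2712 = n6368 := rfl
theorem F10379 : act 2 n6368 = n6368 := d4_1 D6368 (iv7 D6368) F4305
theorem F10380 : act 3 n6368 = n5199 := d8_1 D6368 (iv7 D5199) (iv3 F4306)
theorem F10381 : act 5 n6368 = n2713 := d13_1 D6368 (iv7 D2713) D2712
theorem F10382 : act 1 n6368 = n3260 := d15_0 F10199 D6368 F10379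
theorem F10383 : act 1 n3503 = n6368 := d15_1 (iv0 F10198) (iv7 D6368) F4305
def n6369 : Q := act 0 n2718
theorem D6369 : act 0 n2718 = n6369 := rfl
def n6370 : Q := act 1 n2718
theorem D6370 : act 1 n2718 = n6370 := rfl
theorem F10384 : act 4 n6370 = n5857 := d17_9 (iv1 D5857) (iv5 F5503) F10198 (iv5 D2712) F2351 D1338 D2969 (iv5 F4652) D6370
theorem F10385 : act 3 n2764 = n6370 := d20_9 F9925 (iv1 F10201) (iv4 F10320) F5496 F4635 F10038 (iv4 F8650) (iv1 F8653) F8285 (iv1 D6370)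
theorem F10386 : act 6 n5889 = n6370 := d21_3 D2707 F10301 D5889 (iv1 D6370) (iv6 D2718) D2717 F10187 (iv5 D3263) (iv6 D1445) F9904
theorem F10387 : act 2 n6370 = n6370 := d3_1 F10386 (iv6 F10386) F9107
theorem F10388 : act 7 n6370 = n3497 := d14_2 (iv7 F9109) F10386 (iv6 D3497) (iv7 F5258) F5287
theorem E1524 : n6369 = n3497 := ((c15_4 (iv0 D6369) D6370 F10388 F5495)).symm
theorem F10389 : act 1 n3497 = n2718 := (sb E1524 (iv0 D6369))
def n6371 : Q := act 7 n2718
theorem D6371 : act 7 n2718 = n6371 := rfl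
theorem F10390 : act 2 n6371 = n6371 := d4_1 D6371 (iv7 D6371) F9924
theorem F10391 : act 3 n6371 = n5271 := d8_1 D6371 (iv7 D5271) (iv3 F9931)
theorem F10392 : act 4 n6371 = n5858 := d11_1 D6371 (iv7 D5858) (iv4 F9925)
theorem F10393 : act 5 n6371 = n2968 := d13_1 D6371 F10351 (iv5 F4652)
theorem F10394 : act 1 n6371 = n3497 := d15_0 F10389 D6371 F10390
theorem F10395 : act 1 n6370 = n6371 := d15_1 D6370 (iv7 D6371) F9924
theorem F10396 : act 0 n5195 = n5271 := d20_4 (iv4 F4872) (iv1 F8520) F4932 (iv3 F10243) (iv3 F10391) F10392 (iv1 F9031) (iv4 F10384) (iv3 F10385) (iv1 D2764)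
def n6372 : Q := act 7 n2723
theorem D6372 : act 7 n2723 = n6372 := rfl
theorem F10397 : act 2 n6372 = n6372 := d4_1 D6372 (iv7 D6372) F9934
theorem F10398 : act 4 n6372 = n3263 := d11_1 D6372 (iv7 F5047) (iv4 F9935)
theorem F10399 : act 5 n6372 = n3257 := d13_1 D6372 F10202 (iv5 F10191)
theorem F10400 : act 6 n6372 = n6371 := d14_1 D6372 (iv7 D6371) (iv6 D2718) (iv7 F9927) D2723
theorem F10401 : act 1 n6372 = n5889 := d15_0 F10299 D6372 F10397
theorem F10402 : act 1 n3297 = n6372 := d15_1 F10298 (iv7 D6372) F9934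
def n6373 : Q := act 0 n2726
theorem D6373 : act 0 n2726 = n6373 := rfl
def n6374 : Q := act 1 n2726
theorem D6374 : act 1 n2726 = n6374 := rfl
def n6375 : Q := act 4 n2726
theorem D6375 : act 4 n2726 = n6375 := rfl
theorem F10403 : act 6 n6375 = n6337 := d10_2 (iv6 F4318) D6375 (iv4 D6337)
def n6376 : Q := act 7 n2726
theorem D6376 : act 7 n2726 = n6376 := rfl
theorem F10404 : act 3 n6376 = n2741 := d8_1 D6376 (iv7 D2741) (iv3 F4317)
theorem F10405 : act 5 n6376 = n2727 := d13_1 D6376 (iv7 D2727) D2726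
def n6377 : Q := act 3 n2738
theorem D6377 : act 3 n2738 = n6377 := rfl
theorem F10406 : act 5 n6377 = n5464 := d6_2 F5079 D6377 (iv3 D5464)
theorem F10407 : act 7 n6377 = n6341 := d8_2 (iv7 F8008) D6377 (iv3 D6341)
def n6378 : Q := act 6 n2738
theorem D6378 : act 6 n2738 = n6378 := rfl
theorem F10408 : act 2 n6378 = n6340 := d3_1 D6378 (iv6 D6340) F8010
def n6379 : Q := act 3 n2739
theorem D6379 : act 3 n2739 = n6379 := rfl
theorem F10409 : act 5 n6379 = n5501 := d6_2 F5098 D6379 (iv3 D5501)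
theorem F10410 : act 7 n6379 = n6339 := d8_2 F8013 D6379 (iv3 D6339)
def n6380 : Q := act 6 n2739
theorem D6380 : act 6 n2739 = n6380 := rfl
theorem F10411 : act 2 n6380 = n6342 := d3_1 D6380 (iv6 D6342) (iv2 F8014)
def n6381 : Q := act 3 n2740
theorem D6381 : act 3 n2740 = n6381 := rfl
theorem F10412 : act 6 n6381 = n6343 := d7_2 (iv6 F4326) D6381 (iv3 D6343)
def n6382 : Q := act 6 n2741
theorem D6382 : act 6 n2741 = n6382 := rfl
theorem F10413 : act 2 n6382 = n6346 := d3_1 D6382 (iv6 D6346) (iv2 F4327)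
theorem F10414 : act 5 n6382 = n6382 := d12_1 D6382 (iv6 D6382) F4328 F2365 (iv5 F4328)
theorem F10415 : act 7 n6382 = n6346 := d14_2 D2741 D6382 (iv6 D6346) (iv7 D2667) (iv6 F2362)
def n6383 : Q := act 3 n2761
theorem D6383 : act 3 n2761 = n6383 := rfl
theorem F10416 : act 4 n6383 = n5647 := d5_2 D2761 D6383 (iv3 D5647) (iv4 D2349) F10028
theorem F10417 : act 5 n6383 = n5598 := d6_2 F4882 D6383 (iv3 D5598)
theorem F10418 : act 7 n6383 = n6363 := d8_2 F4633 D6383 (iv3 D6363)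
def n6384 : Q := act 3 n2776
theorem D6384 : act 3 n2776 = n6384 := rfl
theorem F10419 : act 5 n6384 = n5601 := d6_2 (iv5 F4891) D6384 (iv3 D5601)
theorem F10420 : act 6 n6384 = n2930 := d7_2 (iv6 F4360) D6384 (iv3 D2930)
theorem F10421 : act 7 n6384 = n6362 := d8_2 (iv7 F4630) D6384 (iv3 D6362)
def n6385 : Q := act 5 n2779
theorem D6385 : act 5 n2779 = n6385 := rfl
theorem F10422 : act 3 n6385 = n2962 := d6_1 D6385 (iv5 D2962) (iv3 F10085)
def n6386 : Q := act 5 n2780
theorem D6386 : act 5 n2780 = n6386 := rfl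
theorem F10423 : act 3 n6386 = n6386 := d6_1 D6386 (iv5 D6386) F8373
def n6387 : Q := act 6 n2780
theorem D6387 : act 6 n2780 = n6387 := rfl
theorem F10424 : act 3 n6387 = n6387 := d7_1 D6387 (iv6 D6387) F8373
def n6388 : Q := act 0 n2781
theorem D6388 : act 0 n2781 = n6388 := rfl
def n6389 : Q := act 1 n2781
theorem D6389 : act 1 n2781 = n6389 := rfl
theorem F10425 : act 5 n5180 = n6389 := d21_6 (iv5 D660) (iv1 F620) D664 D1055 D2130 D5180 (iv1 D6389) (iv5 D2781) (iv6 D1277) (iv1 F1449)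
theorem F10426 : act 2 n6389 = n5270 := d2_1 F10425 (iv5 D5270) (iv2 F8364)
theorem F10427 : act 3 n6389 = n6389 := d6_1 F10425 (iv5 F10425) F8347
def n6390 : Q := act 7 n2781
theorem D6390 : act 7 n2781 = n6390 := rfl
theorem F10428 : act 3 n6390 = n2793 := d8_1 D6390 (iv7 D2793) (iv3 F4361)
theorem F10429 : act 5 n6390 = n2782 := d13_1 D6390 (iv7 D2782) D2781
theorem F10430 : act 1 n5270 = n6390 := d15_1 (iv0 F7825) (iv7 D6390) (iv2 F7647)
def n6391 : Q := act 4 n2786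
theorem D6391 : act 4 n2786 = n6391 := rfl
theorem F10431 : act 6 n6391 = n5669 := d10_2 (iv6 F4369) D6391 (iv4 D5669)
def n6392 : Q := act 4 n2790
theorem D6392 : act 4 n2790 = n6392 := rfl
theorem F10432 : act 6 n6392 = n3683 := d10_2 F4374 D6392 (iv4 D3683)
def n6393 : Q := act 4 n2797
theorem D6393 : act 4 n2797 = n6393 := rfl
theorem F10433 : act 2 n6393 = n6391 := d1_1 D6393 (iv4 D6391) F8037
theorem F10434 : act 6 n6393 = n3229 := d10_2 (iv6 F4382) D6393 (iv4 F5178)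
theorem F10435 : act 7 n6393 = n6392 := d11_2 (iv7 F8036) D6393 (iv4 D6392)
def n6394 : Q := act 4 n2801
theorem D6394 : act 4 n2801 = n6394 := rfl
theorem F10436 : act 2 n6394 = n6392 := d1_1 D6394 (iv4 D6392) F8025
theorem F10437 : act 6 n6394 = n6136 := d10_2 F4387 D6394 (iv4 D6136)
theorem F10438 : act 7 n6394 = n6391 := d11_2 F8020 D6394 (iv4 D6391)
def n6395 : Q := act 6 n2805
theorem D6395 : act 6 n2805 = n6395 := rfl
theorem F10439 : act 3 n6395 = n2807 := d7_1 D6395 (iv6 D2807) D2805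
theorem F10440 : act 4 n6395 = n5374 := d10_1 D6395 (iv6 D5374) (iv4 F4395)
def n6396 : Q := act 6 n2806
theorem D6396 : act 6 n2806 = n6396 := rfl
theorem F10441 : act 3 n6396 = n5375 := d7_1 D6396 (iv6 D5375) (iv3 F4396)
theorem F10442 : act 4 n6396 = n2807 := d10_1 D6396 (iv6 D2807) D2806
def n6397 : Q := act 0 n2807
theorem D6397 : act 0 n2807 = n6397 := rfl
def n6398 : Q := act 1 n2807
theorem D6398 : act 1 n2807 = n6398 := rfl
def n6399 : Q := act 5 n2807
theorem D6399 : act 5 n2807 = n6399 := rfl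
def n6400 : Q := act 7 n2807
theorem D6400 : act 7 n2807 = n6400 := rfl
theorem F10443 : act 6 n6400 = n6400 := d14_1 D6400 (iv7 D6400) (iv6 D2807) F3751 D2807
def n6401 : Q := act 6 n2808
theorem D6401 : act 6 n2808 = n6401 := rfl
theorem F10444 : act 2 n6401 = n6396 := d3_1 D6401 (iv6 D6396) (iv2 F4399)
theorem F10445 : act 3 n6401 = n5093 := d7_1 D6401 (iv6 D5093) (iv3 F4403)
theorem F10446 : act 4 n6401 = n2809 := d10_1 D6401 (iv6 D2809) D2808
def n6402 : Q := act 0 n2809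
theorem D6402 : act 0 n2809 = n6402 := rfl
def n6403 : Q := act 1 n2809
theorem D6403 : act 1 n2809 = n6403 := rfl
theorem F10447 : act 1 n6403 = n6400 := d15_1 D6403 (iv7 D6400) (iv2 F4404)
def n6404 : Q := act 5 n2809
theorem D6404 : act 5 n2809 = n6404 := rfl
theorem F10448 : act 2 n6404 = n6399 := d2_1 D6404 (iv5 D6399) (iv2 F4404)
def n6405 : Q := act 7 n2809
theorem D6405 : act 7 n2809 = n6405 := rfl
theorem F10449 : act 2 n6405 = n6400 := d4_1 D6405 (iv7 D6400) (iv2 F4404)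
theorem F10450 : act 6 n6405 = n6405 := d14_1 D6405 (iv7 D6405) (iv6 D2809) F3753 D2809
theorem F10451 : act 1 n6400 = n6402 := d15_0 (iv0 D6402) D6405 F10449
theorem F10453 : act 1 n6405 = n6397 := d15_0 (iv0 D6397) D6400 (iv2 F10449)
def n6406 : Q := act 0 n2810
theorem D6406 : act 0 n2810 = n6406 := rfl
def n6407 : Q := act 1 n2810
theorem D6407 : act 1 n2810 = n6407 := rfl
theorem F10454 : act 1 n6407 = n2814 := d15_1 D6407 (iv7 D2814) (iv2 F4405)
def n6408 : Q := act 5 n2810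
theorem D6408 : act 5 n2810 = n6408 := rfl
theorem F10455 : act 2 n6408 = n2813 := d2_1 D6408 (iv5 D2813) (iv2 F4405)
def n6409 : Q := act 7 n2810
theorem D6409 : act 7 n2810 = n6409 := rfl
theorem F10456 : act 2 n6409 = n2814 := d4_1 D6409 (iv7 D2814) (iv2 F4405)
theorem F10457 : act 4 n6409 = n3088 := d11_1 D6409 (iv7 D3088) (iv4 F4406)
theorem F10458 : act 6 n6409 = n6409 := d14_1 D6409 (iv7 D6409) (iv6 D2810) F2386 D2810
theorem F10459 : act 1 n2814 = n6406 := d15_0 (iv0 D6406) D6409 F10456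
theorem F10460 : act 1 n2812 = n6409 := d15_1 D2812 (iv7 D6409) F4405
theorem F10461 : act 1 n6409 = n2811 := d15_0 (iv0 D2811) D2814 (iv2 F10456)
def n6410 : Q := act 2 n2811
theorem D6410 : act 2 n2811 = n6410 := rfl
theorem F10462 : act 7 n2812 = n6410 := d15_2 (iv0 D2811) D2812 (iv2 D6410)
def n6411 : Q := act 3 n2811
theorem D6411 : act 3 n2811 = n6411 := rfl
def n6412 : Q := act 4 n2811
theorem D6412 : act 4 n2811 = n6412 := rfl
theorem F10463 : act 0 n5504 = n6412 := d20_10 (iv4 D6412) (iv1 F10461) F10457 (iv3 F8937) (iv1 F8940) (iv3 F10127) (iv4 D2360) (iv1 F7715) (iv4 F3628) (iv3 F8401)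
def n6413 : Q := act 5 n2811
theorem D6413 : act 5 n2811 = n6413 := rfl
def n6414 : Q := act 6 n2811
theorem D6414 : act 6 n2811 = n6414 := rfl
def n6415 : Q := act 7 n2811
theorem D6415 : act 7 n2811 = n6415 := rfl
theorem F10464 : act 2 n6415 = n2812 := d4_1 D6415 F10462 (iv2 D6410)
def n6416 : Q := act 3 n2812
theorem D6416 : act 3 n2812 = n6416 := rfl
def n6417 : Q := act 4 n2812
theorem D6417 : act 4 n2812 = n6417 := rfl
def n6418 : Q := act 5 n2812
theorem D6418 : act 5 n2812 = n6418 := rfl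
def n6419 : Q := act 6 n2812
theorem D6419 : act 6 n2812 = n6419 := rfl
def n6420 : Q := act 0 n2813
theorem D6420 : act 0 n2813 = n6420 := rfl
def n6421 : Q := act 1 n2813
theorem D6421 : act 1 n2813 = n6421 := rfl
def n6422 : Q := act 4 n2813
theorem D6422 : act 4 n2813 = n6422 := rfl
def n6423 : Q := act 7 n2813
theorem D6423 : act 7 n2813 = n6423 := rfl
theorem F10465 : act 3 n6423 = n2828 := d8_1 D6423 (iv7 D2828) (iv3 F4407)
theorem F10466 : act 5 n6423 = n2814 := d13_1 D6423 (iv7 D2814) D2813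
def n6424 : Q := act 3 n2825
theorem D6424 : act 3 n2825 = n6424 := rfl
theorem F10467 : act 5 n6424 = n5265 := d6_2 F8382 D6424 (iv3 F10300)
theorem F10468 : act 0 n5507 = n6424 := d17_2 F9968 D5507 F10467 (iv4 D5265) (iv5 D2155) (iv0 D1064) F1247 D1065 D2159
theorem F10469 : act 1 n5540 = n6424 := d17_6 F9997 (iv5 D2678) F9982 F2033 (iv4 F3661) (iv5 F8450) F10467 F10186 F8848
def n6425 : Q := act 6 n2825
theorem D6425 : act 6 n2825 = n6425 := rfl
def n6426 : Q := act 3 n2826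
theorem D6426 : act 3 n2826 = n6426 := rfl
def n6427 : Q := act 6 n2826
theorem D6427 : act 6 n2826 = n6427 := rfl
def n6428 : Q := act 3 n2827
theorem D6428 : act 3 n2827 = n6428 := rfl
def n6429 : Q := act 5 n2827
theorem D6429 : act 5 n2827 = n6429 := rfl
def n6430 : Q := act 7 n2827
theorem D6430 : act 7 n2827 = n6430 := rfl
theorem F10470 : act 4 n6430 = n2828 := d11_1 D6430 (iv7 D2828) D2827
theorem F10471 : act 1 n5843 = n6430 := d15_1 (iv0 F8996) (iv7 D6430) (iv2 F7602)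
theorem F10472 : act 1 n6430 = n5840 := d15_1 F10471 F8990 (iv2 F8994)
def n6431 : Q := act 6 n2828
theorem D6431 : act 6 n2828 = n6431 := rfl
theorem F10473 : act 5 n6431 = n6431 := d12_1 D6431 (iv6 D6431) F4413 F2392 (iv5 F4413)
def n6432 : Q := act 0 n2839
theorem D6432 : act 0 n2839 = n6432 := rfl
theorem F10474 : act 5 n6432 = n5185 := d21_2 D2839 D6432 (iv6 D5185) (iv1 D2131) (iv6 D1055) (iv5 D664) (iv1 F621) D662 D1049 F9939
theorem F10475 : act 1 n5158 = n6432 := d15_0 (iv0 D6432) (iv7 F7624) (iv2 F9943)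
theorem F10476 : act 6 n6385 = n6432 := d21_9 (iv5 D5158) (iv1 D2120) D2121 F3452 F2399 (iv6 F4362) (iv5 D2781) D2779 D6385 (iv1 F10475)
theorem F10477 : act 3 n6432 = n3258 := d7_1 F10476 F10193 (iv3 F10422)
theorem F10478 : act 2 n5285 = n6432 := d2_3 F10474 F8356 D5285
def n6433 : Q := act 1 n2839
theorem D6433 : act 1 n2839 = n6433 := rfl
theorem F10479 : act 1 n6433 = n5158 := d15_1 D6433 F10208 F10209
theorem F10480 : act 7 n6433 = n5285 := d15_2 (iv0 D6432) D6433 F10478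
theorem F10481 : act 3 n6433 = n6433 := d8_3 F10480 F8370 (iv7 F10480)
theorem F10482 : act 5 n5286 = n6433 := d13_3 F10480 (iv5 D5285) D5286
def n6434 : Q := act 4 n2839
theorem D6434 : act 4 n2839 = n6434 := rfl
def n6435 : Q := act 6 n2839
theorem D6435 : act 6 n2839 = n6435 := rfl
theorem F10483 : act 3 n6435 = n2850 := d7_1 D6435 (iv6 D2850) (iv3 F4422)
def n6436 : Q := act 0 n2840
theorem D6436 : act 0 n2840 = n6436 := rfl
theorem F10484 : act 3 n6436 = n2967 := d20_5 (iv4 F4941) (iv1 D3150) (iv4 F4907) (iv3 F4423) D6436 (iv4 F10320) (iv1 F10394) F10392 F9027 F3905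
theorem F10485 : act 6 n2964 = n6436 := d7_0 F10484 (iv6 D2967) D2964
theorem F10486 : act 7 n5266 = n6436 := d8_0 F10484 (iv7 F10197) F10196
theorem F10487 : act 2 n6436 = n6387 := d3_1 F10485 (iv6 D6387) (iv2 F10082)
theorem F10488 : act 1 n6387 = n5134 := d15_0 (iv0 F7821) F10486 F10487
def n6437 : Q := act 1 n2840
theorem D6437 : act 1 n2840 = n6437 := rfl
theorem F10489 : act 7 n6437 = n6387 := d15_2 (iv0 D6436) D6437 (iv2 F10487)
theorem F10490 : act 6 n5179 = n6437 := d21_3 F1964 D2130 D5179 (iv1 D6437) (iv6 D2840) D2839 D6432 F10474 (iv6 D5185) (iv1 D2131)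
theorem F10491 : act 2 n6437 = n5266 := d3_1 F10490 (iv6 D5266) (iv2 F8362)
theorem F10492 : act 3 n6437 = n6437 := d7_1 F10490 (iv6 F10490) F8346
def n6438 : Q := act 7 n2840
theorem D6438 : act 7 n2840 = n6438 := rfl
theorem F10493 : act 3 n6438 = n2853 := d8_1 D6438 (iv7 D2853) (iv3 F4423)
theorem F10494 : act 5 n6438 = n5214 := d13_1 D6438 (iv7 F9967) F9966
theorem F10495 : act 6 n6438 = n5645 := d14_1 D6438 F8656 (iv6 D5111) F4450 D2840
theorem F10496 : act 1 n5266 = n6438 := d15_1 (iv0 F7821) (iv7 D6438) (iv2 F10181)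
theorem F10497 : act 1 n6438 = n6387 := d15_1 F10496 (iv7 F10489) F10491
def n6439 : Q := act 3 n2849
theorem D6439 : act 3 n2849 = n6439 := rfl
def n6440 : Q := act 6 n2849
theorem D6440 : act 6 n2849 = n6440 := rfl
theorem F10498 : act 4 n6440 = n2850 := d10_1 D6440 (iv6 D2850) D2849
def n6441 : Q := act 1 n2850
theorem D6441 : act 1 n2850 = n6441 := rfl
theorem F10499 : act 1 n6441 = n5363 := d15_1 D6441 F8169 F7612
theorem F10500 : act 5 n2881 = n6441 := d21_0 (iv1 D6441) (iv5 F8098) (iv6 D5331) (iv1 D2185) F2210 F2208 (iv1 F1534) (iv5 F1535) D1310 D2881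
def n6442 : Q := act 5 n2858
theorem D6442 : act 5 n2858 = n6442 := rfl
theorem F10501 : act 2 n6442 = n5741 := d2_1 D6442 (iv5 D5741) (iv2 F5150)
theorem F10502 : act 7 n6442 = n5730 := d13_2 (iv7 F5149) D6442 (iv5 D5730)
def n6443 : Q := act 6 n2858
theorem D6443 : act 6 n2858 = n6443 := rfl
theorem F10503 : act 2 n6443 = n5742 := d3_1 D6443 (iv6 D5742) (iv2 F5150)
theorem F10504 : act 4 n6443 = n2860 := d10_1 D6443 (iv6 D2860) D2858
def n6444 : Q := act 0 n2859
theorem D6444 : act 0 n2859 = n6444 := rfl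
theorem F10505 : act 3 n6444 = n3689 := d20_5 D3226 F5024 (iv4 D2864) (iv3 F4463) D6444 F8001 (iv1 D3230) (iv4 D1432) F5058 D1430
theorem F10506 : act 5 n6444 = n5658 := d21_2 D2859 D6444 F8695 (iv1 F10355) (iv6 F10357) F8684 (iv1 F7558) F3794 F2081 F4913
theorem F10507 : act 2 n5732 = n6444 := d15_3 (iv0 D6444) (iv0 F10011) (iv7 F10037)
theorem F10508 : act 1 n5081 = n6444 := d15_0 (iv0 D6444) F5148 (iv2 F7550)
theorem F10509 : act 7 n6444 = n5657 := d15_2 F10012 F10508 (iv2 F10013)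
theorem F10510 : act 6 n3686 = n6444 := d14_5 F10509 (iv6 F8732) (iv7 F8766) (iv6 F8767) F8769
def n6445 : Q := act 4 n2859
theorem D6445 : act 4 n2859 = n6445 := rfl
theorem F10511 : act 2 n6445 = n5743 := d1_1 D6445 (iv4 D5743) (iv2 F5151)
theorem F10512 : act 7 n6445 = n5733 := d11_2 (iv7 F5148) D6445 (iv4 D5733)
def n6446 : Q := act 3 n2864
theorem D6446 : act 3 n2864 = n6446 := rfl
def n6447 : Q := act 6 n2866
theorem D6447 : act 6 n2866 = n6447 := rfl
theorem F10513 : act 3 n6447 = n2868 := d7_1 D6447 (iv6 D2868) D2866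
def n6448 : Q := act 0 n2868
theorem D6448 : act 0 n2868 = n6448 := rfl
theorem F10514 : act 6 n6448 = n2882 := d21_5 (iv5 D2275) D2273 F3621 D2868 D6448 (iv5 F5632) F8170 F8168 (iv6 D5106) F3623
def n6449 : Q := act 1 n2868
theorem D6449 : act 1 n2868 = n6449 := rfl
theorem F10515 : act 6 n6081 = n6449 := d21_3 (iv5 F2215) D2564 D6081 (iv1 D6449) (iv6 D2868) (iv5 F3621) (iv1 F7981) F7983 (iv6 D3689) (iv1 D1619)
def n6450 : Q := act 7 n2868
theorem D6450 : act 7 n2868 = n6450 := rfl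
theorem F10516 : act 5 n6450 = n6068 := d13_1 D6450 F9436 (iv5 F5626)
def n6451 : Q := act 4 n2870
theorem D6451 : act 4 n2870 = n6451 := rfl
theorem F10517 : act 2 n6451 = n5747 := d1_1 D6451 (iv4 D5747) (iv2 F7892)
theorem F10518 : act 7 n6451 = n5744 := d11_2 (iv7 F7890) D6451 (iv4 D5744)
theorem F10519 : act 0 n6451 = n5162 := d18_2 F4939 D6451 (iv4 D5162) (iv5 D2121) (iv4 F3448) (iv0 F10155) (iv4 D2858) (iv0 F4913) (iv5 F3794)
def n6452 : Q := act 6 n2870
theorem D6452 : act 6 n2870 = n6452 := rfl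
theorem F10520 : act 2 n6452 = n5748 := d3_1 D6452 (iv6 D5748) (iv2 F7892)
theorem F10521 : act 3 n6452 = n2872 := d7_1 D6452 (iv6 D2872) D2870
def n6453 : Q := act 7 n2872
theorem D6453 : act 7 n2872 = n6453 := rfl
theorem F10522 : act 1 n6140 = n6453 := d15_1 (iv0 F9560) (iv7 D6453) (iv2 F7896)
theorem F10523 : act 1 n6453 = n6137 := d15_1 F10522 F9551 (iv2 F9557)
def n6454 : Q := act 0 n2875
theorem D6454 : act 0 n2875 = n6454 := rfl
def n6455 : Q := act 1 n2875
theorem D6455 : act 1 n2875 = n6455 := rfl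
def n6456 : Q := act 2 n2875
theorem D6456 : act 2 n2875 = n6456 := rfl
theorem F10524 : act 4 n6456 = n3316 := d1_2 (iv4 F4468) D6456 (iv2 D3316)
theorem F10525 : act 6 n6456 = n2886 := d3_2 (iv6 F4469) D6456 (iv2 D2886)
def n6457 : Q := act 5 n2875
theorem D6457 : act 5 n2875 = n6457 := rfl
theorem F10526 : act 3 n6457 = n2876 := d6_1 D6457 (iv5 D2876) D2875
def n6458 : Q := act 7 n2875
theorem D6458 : act 7 n2875 = n6458 := rfl
theorem F10527 : act 3 n6458 = n2877 := d8_1 D6458 (iv7 D2877) D2875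
theorem F10528 : act 4 n6458 = n3318 := d11_1 D6458 (iv7 D3318) (iv4 F4468)
def n6459 : Q := act 4 n2876
theorem D6459 : act 4 n2876 = n6459 := rfl
def n6460 : Q := act 6 n2876
theorem D6460 : act 6 n2876 = n6460 := rfl
theorem F10529 : act 5 n6460 = n2889 := d12_1 D6460 (iv6 D2889) (iv5 D1312) (iv6 F2395) D2876
def n6461 : Q := act 7 n2876
theorem D6461 : act 7 n2876 = n6461 := rfl
theorem F10530 : act 5 n6461 = n2877 := d13_1 D6461 (iv7 D2877) D2876
theorem F10531 : act 1 n3276 = n6461 := d15_1 F7635 (iv7 D6461) (iv2 F7633)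
theorem F10532 : act 1 n6461 = n3232 := d15_1 F10531 (iv7 F9103) F9102
def n6462 : Q := act 6 n2877
theorem D6462 : act 6 n2877 = n6462 := rfl
theorem F10533 : act 4 n6462 = n2878 := d10_1 D6462 (iv6 D2878) (iv4 F4470)
theorem F10534 : act 7 n6462 = n2891 := d14_2 D2877 D6462 (iv6 D2891) (iv7 D1313) (iv6 F2395)
def n6463 : Q := act 5 n2879
theorem D6463 : act 5 n2879 = n6463 := rfl
theorem F10535 : act 2 n6463 = n5771 := d2_1 D6463 (iv5 D5771) (iv2 F4474)
theorem F10536 : act 7 n6463 = n5769 := d13_2 (iv7 F4475) D6463 (iv5 D5769)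
def n6464 : Q := act 6 n2879
theorem D6464 : act 6 n2879 = n6464 := rfl
theorem F10537 : act 2 n6464 = n5772 := d3_1 D6464 (iv6 D5772) (iv2 F4474)
theorem F10538 : act 4 n6464 = n2880 := d10_1 D6464 (iv6 D2880) D2879
def n6465 : Q := act 0 n2880
theorem D6465 : act 0 n2880 = n6465 := rfl
def n6466 : Q := act 1 n2880
theorem D6466 : act 1 n2880 = n6466 := rfl
theorem F10539 : act 1 n6466 = n5775 := d15_1 D6466 (iv7 D5775) (iv2 F4477)
def n6467 : Q := act 7 n2880
theorem D6467 : act 7 n2880 = n6467 := rfl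
theorem F10540 : act 2 n6467 = n5775 := d4_1 D6467 (iv7 D5775) (iv2 F4477)
theorem F10541 : act 3 n6467 = n2883 := d8_1 D6467 (iv7 D2883) (iv3 F4478)
theorem F10542 : act 5 n6467 = n6467 := d13_1 D6467 (iv7 D6467) F4479
theorem F10543 : act 6 n6467 = n5683 := d14_1 D6467 (iv7 D5683) F3716 (iv7 F2421) D2880
theorem F10544 : act 1 n5775 = n6465 := d15_0 (iv0 D6465) D6467 F10540
theorem F10545 : act 1 n5774 = n6467 := d15_1 D5774 (iv7 D6467) F4477
theorem F10546 : act 1 n6467 = n5773 := d15_0 (iv0 D5773) D5775 (iv2 F10540)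
def n6468 : Q := act 2 n2881
theorem D6468 : act 2 n2881 = n6468 := rfl
theorem F10547 : act 7 n2882 = n6468 := d15_2 (iv0 D2881) D2882 (iv2 D6468)
def n6469 : Q := act 3 n2881
theorem D6469 : act 3 n2881 = n6469 := rfl
def n6470 : Q := act 4 n2881
theorem D6470 : act 4 n2881 = n6470 := rfl
def n6471 : Q := act 7 n2881
theorem D6471 : act 7 n2881 = n6471 := rfl
theorem F10548 : act 2 n6471 = n2882 := d4_1 D6471 F10547 (iv2 D6468)
def n6472 : Q := act 3 n2882
theorem D6472 : act 3 n2882 = n6472 := rfl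
def n6473 : Q := act 4 n2882
theorem D6473 : act 4 n2882 = n6473 := rfl
def n6474 : Q := act 0 n2884
theorem D6474 : act 0 n2884 = n6474 := rfl
theorem F10549 : act 2 n2888 = n6474 := d15_3 (iv0 D6474) (iv0 D2884) D2888
theorem F10550 : act 4 n6474 = n3431 := d1_2 (iv4 F4485) F10549 (iv2 F5417)
theorem F10551 : act 7 n6474 = n2886 := d4_2 D2888 F10549 (iv2 D2886)
theorem F10552 : act 1 n2885 = n6474 := d15_1 D2885 F10551 (iv2 D2886)
def n6475 : Q := act 2 n2884
theorem D6475 : act 2 n2884 = n6475 := rfl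
theorem F10553 : act 7 n2885 = n6475 := d15_2 (iv0 D2884) D2885 (iv2 D6475)
def n6476 : Q := act 3 n2884
theorem D6476 : act 3 n2884 = n6476 := rfl
def n6477 : Q := act 4 n2884
theorem D6477 : act 4 n2884 = n6477 := rfl
def n6478 : Q := act 5 n2884
theorem D6478 : act 5 n2884 = n6478 := rfl
def n6479 : Q := act 6 n2884
theorem D6479 : act 6 n2884 = n6479 := rfl
def n6480 : Q := act 7 n2884
theorem D6480 : act 7 n2884 = n6480 := rfl
theorem F10554 : act 2 n6480 = n2885 := d4_1 D6480 F10553 (iv2 D6475)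
def n6481 : Q := act 3 n2885
theorem D6481 : act 3 n2885 = n6481 := rfl
def n6482 : Q := act 4 n2885
theorem D6482 : act 4 n2885 = n6482 := rfl
def n6483 : Q := act 5 n2885
theorem D6483 : act 5 n2885 = n6483 := rfl
def n6484 : Q := act 6 n2885
theorem D6484 : act 6 n2885 = n6484 := rfl
def n6485 : Q := act 0 n2886
theorem D6485 : act 0 n2886 = n6485 := rfl
theorem F10555 : act 1 n2888 = n6485 := d15_0 (iv0 D6485) (iv7 F10551) (iv2 F10549)
def n6486 : Q := act 1 n2886
theorem D6486 : act 1 n2886 = n6486 := rfl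
theorem F10556 : act 1 n6486 = n2888 := d15_1 D6486 (iv7 D2888) D2886
def n6487 : Q := act 5 n2886
theorem D6487 : act 5 n2886 = n6487 := rfl
theorem F10557 : act 2 n6487 = n2887 := d2_1 D6487 (iv5 D2887) D2886
def n6488 : Q := act 0 n2887
theorem D6488 : act 0 n2887 = n6488 := rfl
def n6489 : Q := act 1 n2887
theorem D6489 : act 1 n2887 = n6489 := rfl
def n6490 : Q := act 4 n2887
theorem D6490 : act 4 n2887 = n6490 := rfl
def n6491 : Q := act 6 n2887
theorem D6491 : act 6 n2887 = n6491 := rfl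
theorem F10558 : act 3 n6491 = n2889 := d7_1 D6491 (iv6 D2889) (iv3 F4483)
def n6492 : Q := act 7 n2887
theorem D6492 : act 7 n2887 = n6492 := rfl
theorem F10559 : act 3 n6492 = n2890 := d8_1 D6492 (iv7 D2890) (iv3 F4483)
theorem F10560 : act 5 n6492 = n2888 := d13_1 D6492 (iv7 D2888) D2887
def n6493 : Q := act 6 n2888
theorem D6493 : act 6 n2888 = n6493 := rfl
theorem F10561 : act 3 n6493 = n2891 := d7_1 D6493 (iv6 D2891) (iv3 F4484)
theorem F10562 : act 4 n6493 = n3449 := d10_1 D6493 (iv6 D3449) (iv4 F4485)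
def n6494 : Q := act 0 n2889
theorem D6494 : act 0 n2889 = n6494 := rfl
def n6495 : Q := act 1 n2889
theorem D6495 : act 1 n2889 = n6495 := rfl
def n6496 : Q := act 7 n2889
theorem D6496 : act 7 n2889 = n6496 := rfl
def n6497 : Q := act 6 n2890
theorem D6497 : act 6 n2890 = n6497 := rfl
theorem F10563 : act 2 n6497 = n3969 := d3_1 D6497 (iv6 D3969) (iv2 F4486)
theorem F10564 : act 4 n6497 = n3943 := d10_1 D6497 (iv6 D3943) (iv4 F4487)
def n6498 : Q := act 0 n2891
theorem D6498 : act 0 n2891 = n6498 := rfl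
def n6499 : Q := act 1 n2891
theorem D6499 : act 1 n2891 = n6499 := rfl
def n6500 : Q := act 5 n2891
theorem D6500 : act 5 n2891 = n6500 := rfl
def n6501 : Q := act 3 n2892
theorem D6501 : act 3 n2892 = n6501 := rfl
theorem F10565 : act 6 n6501 = n5194 := d7_2 (iv6 F4492) D6501 F10241
theorem F10566 : act 0 n5170 = n6501 := d21_4 (iv5 D1575) F2414 (iv5 F3473) D5170 F10565 (iv5 D5194) (iv1 D2134) D2135 F4128 (iv1 F4125)
def n6502 : Q := act 4 n2892
theorem D6502 : act 4 n2892 = n6502 := rfl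
theorem F10567 : act 6 n6502 = n5325 := d10_2 (iv6 F4492) D6502 (iv4 D5325)
def n6503 : Q := act 5 n2892
theorem D6503 : act 5 n2892 = n6503 := rfl
theorem F10568 : act 6 n6503 = n5326 := d12_2 (iv6 F4492) D6503 (iv5 D5326) (iv6 D2183) D2182
theorem F10569 : act 0 n3608 = n6503 := d21_10 (iv5 D6503) F5602 F5599 F5600 (iv1 F3433) D2872 (iv5 F7944) F7945 (iv5 D3607) D3608
def n6504 : Q := act 3 n2893
theorem D6504 : act 3 n2893 = n6504 := rfl
theorem F10570 : act 7 n6504 = n5791 := d8_2 (iv7 F7863) D6504 (iv3 F8916)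
def n6505 : Q := act 4 n2893
theorem D6505 : act 4 n2893 = n6505 := rfl
def n6506 : Q := act 5 n2893
theorem D6506 : act 5 n2893 = n6506 := rfl
theorem F10571 : act 6 n6506 = n3588 := d21_3 F5599 (iv1 F5601) D6506 (iv1 F8183) (iv6 D5367) F3573 (iv1 F2003) D2182 (iv6 F4492) F5602
def n6507 : Q := act 6 n2893
theorem D6507 : act 6 n2893 = n6507 := rfl
theorem F10572 : act 7 n6507 = n5318 := d14_2 (iv7 F7863) D6507 (iv6 D5318) F7860 (iv6 F5595)
theorem F10573 : act 5 n6507 = n6453 := d21_6 (iv5 D1297) (iv1 F1937) (iv5 F3431) (iv6 F5600) (iv1 F5601) D6507 (iv1 F10522) (iv5 D6140) (iv6 F8034) (iv1 D2848)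
theorem F10574 : act 0 n6507 = n6081 := d21_1 (iv5 F10573) (iv5 D6081) D6082 (iv1 F9457) (iv6 D5331) (iv5 F3541) (iv1 F7995) (iv5 F8147) (iv6 F9550) (iv1 F10523)
def n6508 : Q := act 6 n2894
theorem D6508 : act 6 n2894 = n6508 := rfl
theorem F10575 : act 3 n6508 = n2895 := d7_1 D6508 (iv6 D2895) D2894
def n6509 : Q := act 0 n2895
theorem D6509 : act 0 n2895 = n6509 := rfl
def n6510 : Q := act 1 n2895
theorem D6510 : act 1 n2895 = n6510 := rfl
def n6511 : Q := act 5 n2895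
theorem D6511 : act 5 n2895 = n6511 := rfl
theorem F10576 : act 6 n6511 = n5672 := d12_2 D2895 D6511 (iv5 D5672) (iv6 D2371) (iv5 F2431)
def n6512 : Q := act 7 n2895
theorem D6512 : act 7 n2895 = n6512 := rfl
theorem F10577 : act 6 n6512 = n6512 := d14_1 D6512 (iv7 D6512) (iv6 D2895) F2432 D2895
def n6513 : Q := act 6 n2896
theorem D6513 : act 6 n2896 = n6513 := rfl
theorem F10578 : act 3 n6513 = n2897 := d7_1 D6513 (iv6 D2897) D2896
theorem F10579 : act 4 n6513 = n5302 := d10_1 D6513 (iv6 D5302) (iv4 F4499)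
def n6514 : Q := act 0 n2897
theorem D6514 : act 0 n2897 = n6514 := rfl
def n6515 : Q := act 1 n2897
theorem D6515 : act 1 n2897 = n6515 := rfl
def n6516 : Q := act 5 n2897
theorem D6516 : act 5 n2897 = n6516 := rfl
theorem F10581 : act 2 n6516 = n6511 := d2_1 D6516 (iv5 D6511) (iv2 F4507)
theorem F10582 : act 6 n6516 = n5687 := d12_2 D2897 D6516 (iv5 D5687) (iv6 D2377) (iv5 F2433)
def n6517 : Q := act 7 n2897
theorem D6517 : act 7 n2897 = n6517 := rfl
theorem F10583 : act 2 n6517 = n6512 := d4_1 D6517 (iv7 D6512) (iv2 F4507)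
theorem F10584 : act 6 n6517 = n6517 := d14_1 D6517 (iv7 D6517) (iv6 D2897) F2435 D2897
theorem F10585 : act 1 n6512 = n6514 := d15_0 (iv0 D6514) D6517 F10583
theorem F10587 : act 1 n6517 = n6509 := d15_0 (iv0 D6509) D6512 (iv2 F10583)
def n6518 : Q := act 0 n2898
theorem D6518 : act 0 n2898 = n6518 := rfl
def n6519 : Q := act 1 n2898
theorem D6519 : act 1 n2898 = n6519 := rfl
theorem F10588 : act 1 n6519 = n2902 := d15_1 D6519 (iv7 D2902) (iv2 F4508)
def n6520 : Q := act 5 n2898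
theorem D6520 : act 5 n2898 = n6520 := rfl
theorem F10589 : act 2 n6520 = n2901 := d2_1 D6520 (iv5 D2901) (iv2 F4508)
theorem F10590 : act 3 n6520 = n5202 := d6_1 D6520 (iv5 D5202) (iv3 F4509)
theorem F10591 : act 6 n6520 = n5202 := d12_2 D2898 D6520 (iv5 D5202) (iv6 D2137) (iv5 F2438)
def n6521 : Q := act 7 n2898
theorem D6521 : act 7 n2898 = n6521 := rfl
theorem F10592 : act 2 n6521 = n2902 := d4_1 D6521 (iv7 D2902) (iv2 F4508)
theorem F10593 : act 3 n6521 = n5203 := d8_1 D6521 (iv7 D5203) (iv3 F4509)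
theorem F10594 : act 4 n6521 = n6521 := d11_1 D6521 (iv7 D6521) F4510
theorem F10595 : act 6 n6521 = n6521 := d14_1 D6521 (iv7 D6521) (iv6 D2898) F2439 D2898
theorem F10596 : act 1 n2902 = n6518 := d15_0 (iv0 D6518) D6521 F10592
theorem F10597 : act 1 n2900 = n6521 := d15_1 D2900 (iv7 D6521) F4508
theorem F10598 : act 1 n6521 = n2899 := d15_0 (iv0 D2899) D2902 (iv2 F10592)
def n6522 : Q := act 2 n2899
theorem D6522 : act 2 n2899 = n6522 := rfl
theorem F10599 : act 7 n2900 = n6522 := d15_2 (iv0 D2899) D2900 (iv2 D6522)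
def n6523 : Q := act 3 n2899
theorem D6523 : act 3 n2899 = n6523 := rfl
def n6524 : Q := act 4 n2899
theorem D6524 : act 4 n2899 = n6524 := rfl
def n6525 : Q := act 5 n2899
theorem D6525 : act 5 n2899 = n6525 := rfl
def n6526 : Q := act 6 n2899
theorem D6526 : act 6 n2899 = n6526 := rfl
def n6527 : Q := act 7 n2899
theorem D6527 : act 7 n2899 = n6527 := rfl
theorem F10600 : act 2 n6527 = n2900 := d4_1 D6527 F10599 (iv2 D6522)
def n6528 : Q := act 3 n2900
theorem D6528 : act 3 n2900 = n6528 := rfl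
theorem F10601 : act 4 n6528 = n5305 := d20_6 (iv4 D5188) (iv1 F3510) (iv4 F7758) (iv3 F10593) (iv1 F10597) D6528 (iv1 D5305) (iv4 F3822) F3821 (iv1 F10228)
def n6529 : Q := act 4 n2900
theorem D6529 : act 4 n2900 = n6529 := rfl
def n6530 : Q := act 5 n2900
theorem D6530 : act 5 n2900 = n6530 := rfl
def n6531 : Q := act 6 n2900
theorem D6531 : act 6 n2900 = n6531 := rfl
def n6532 : Q := act 0 n2901
theorem D6532 : act 0 n2901 = n6532 := rfl
def n6533 : Q := act 1 n2901
theorem D6533 : act 1 n2901 = n6533 := rfl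
def n6534 : Q := act 4 n2901
theorem D6534 : act 4 n2901 = n6534 := rfl
def n6535 : Q := act 7 n2901
theorem D6535 : act 7 n2901 = n6535 := rfl
theorem F10602 : act 3 n6535 = n2916 := d8_1 D6535 (iv7 D2916) (iv3 F4511)
theorem F10603 : act 5 n6535 = n2902 := d13_1 D6535 (iv7 D2902) D2901
def n6536 : Q := act 0 n2904
theorem D6536 : act 0 n2904 = n6536 := rfl
def n6537 : Q := act 1 n2904
theorem D6537 : act 1 n2904 = n6537 := rfl
def n6538 : Q := act 2 n2904
theorem D6538 : act 2 n2904 = n6538 := rfl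
def n6539 : Q := act 5 n2904
theorem D6539 : act 5 n2904 = n6539 := rfl
theorem F10604 : act 3 n6539 = n2906 := d6_1 D6539 (iv5 D2906) D2904
def n6540 : Q := act 0 n2906
theorem D6540 : act 0 n2906 = n6540 := rfl
theorem F10605 : act 5 n6540 = n3500 := d17_3 D1319 D2906 D6540 F5497 (iv5 F4533) (iv0 D2933) (iv5 D1326) (iv0 D763) (iv4 F1473)
theorem F10606 : act 1 n2911 = n6540 := d15_0 (iv0 D6540) F8017 F8015
def n6541 : Q := act 1 n2906
theorem D6541 : act 1 n2906 = n6541 := rfl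
theorem F10607 : act 1 n6541 = n2911 := d15_1 D6541 (iv7 F8006) F8018
theorem F10608 : act 5 n6541 = n5643 := d17_7 (iv1 F7958) D5649 F8672 (iv5 D2797) (iv4 F5097) D2906 D6541 F8642 F8288
def n6542 : Q := act 4 n2906
theorem D6542 : act 4 n2906 = n6542 := rfl
def n6543 : Q := act 6 n2906
theorem D6543 : act 6 n2906 = n6543 := rfl
theorem F10609 : act 5 n6543 = n6380 := d12_1 D6543 (iv6 D6380) (iv5 F5098) F5099 D2906
def n6544 : Q := act 0 n2909
theorem D6544 : act 0 n2909 = n6544 := rfl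
def n6545 : Q := act 1 n2909
theorem D6545 : act 1 n2909 = n6545 := rfl
def n6546 : Q := act 2 n2909
theorem D6546 : act 2 n2909 = n6546 := rfl
def n6547 : Q := act 5 n2909
theorem D6547 : act 5 n2909 = n6547 := rfl
theorem F10610 : act 3 n6547 = n2911 := d6_1 D6547 (iv5 D2911) D2909
def n6548 : Q := act 6 n2909
theorem D6548 : act 6 n2909 = n6548 := rfl
theorem F10611 : act 3 n6548 = n2912 := d7_1 D6548 (iv6 D2912) D2909
def n6549 : Q := act 4 n2911
theorem D6549 : act 4 n2911 = n6549 := rfl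
def n6550 : Q := act 6 n2911
theorem D6550 : act 6 n2911 = n6550 := rfl
def n6551 : Q := act 5 n2912
theorem D6551 : act 5 n2912 = n6551 := rfl
theorem F10612 : act 0 n6551 = n5347 := d17_2 (iv1 F8669) D6551 (iv5 D5347) (iv4 F5201) D2549 (iv0 F4696) (iv5 D2947) F4540 (iv4 F3849)
theorem F10613 : act 1 n6551 = n5345 := d17_6 D1076 D2199 D5356 F8147 F5105 D6551 (iv5 D5345) (iv0 D2192) F1994
def n6552 : Q := act 3 n2913
theorem D6552 : act 3 n2913 = n6552 := rfl
def n6553 : Q := act 4 n2913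
theorem D6553 : act 4 n2913 = n6553 := rfl
theorem F10614 : act 1 n6553 = n3071 := d18_6 (iv1 F8225) F5464 (iv1 F8044) (iv4 F8650) F8651 D6553 (iv4 D3071) D3070 (iv5 F4795)
def n6554 : Q := act 6 n2913
theorem D6554 : act 6 n2913 = n6554 := rfl
def n6555 : Q := act 3 n2914
theorem D6555 : act 3 n2914 = n6555 := rfl
theorem F10615 : act 5 n6555 = n5454 := d6_2 F5086 D6555 F8277
def n6556 : Q := act 4 n2914
theorem D6556 : act 4 n2914 = n6556 := rfl
theorem F10616 : act 0 n6556 = n3071 := d18_2 (iv1 F4675) D6556 (iv4 D3071) (iv5 D1372) F1499 D1283 (iv4 F5104) F2469 (iv5 F4673)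
def n6557 : Q := act 6 n2914
theorem D6557 : act 6 n2914 = n6557 := rfl
theorem F10617 : act 5 n6557 = n5458 := d12_1 D6557 (iv6 D5458) (iv5 D2250) D2251 F5086
def n6558 : Q := act 0 n2915
theorem D6558 : act 0 n2915 = n6558 := rfl
theorem F10618 : act 4 n6558 = n3044 := d18_3 (iv1 D2914) D2915 D6558 (iv5 F8227) F8226 (iv0 F4693) (iv4 F8131) F8287 F5086
def n6559 : Q := act 1 n2915
theorem D6559 : act 1 n2915 = n6559 := rfl
theorem F10619 : act 4 n6559 = n3045 := d18_7 (iv1 F4887) (iv4 D1329) (iv1 D764) (iv4 F1473) D1321 D2915 D6559 F4801 F4799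
def n6560 : Q := act 3 n2915
theorem D6560 : act 3 n2915 = n6560 := rfl
def n6561 : Q := act 5 n2915
theorem D6561 : act 5 n2915 = n6561 := rfl
def n6562 : Q := act 7 n2915
theorem D6562 : act 7 n2915 = n6562 := rfl
theorem F10620 : act 4 n6562 = n2916 := d11_1 D6562 (iv7 D2916) D2915
def n6563 : Q := act 6 n2916
theorem D6563 : act 6 n2916 = n6563 := rfl
theorem F10621 : act 5 n6563 = n6563 := d12_1 D6563 (iv6 D6563) F4519 F2445 (iv5 F4519)
def n6564 : Q := act 3 n2925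
theorem D6564 : act 3 n2925 = n6564 := rfl
theorem F10622 : act 4 n6564 = n2930 := d5_2 D2925 D6564 (iv3 D2930) (iv4 D1325) D1324
def n6565 : Q := act 5 n2925
theorem D6565 : act 5 n2925 = n6565 := rfl
def n6566 : Q := act 0 n2926
theorem D6566 : act 0 n2926 = n6566 := rfl
theorem F10623 : act 5 n6566 = n5294 := d21_2 D2926 D6566 (iv6 D5294) (iv1 D2163) (iv6 D1067) (iv5 F1342) (iv1 F1345) F1347 D1128 F10032
theorem F10624 : act 1 n5693 = n6566 := d15_0 (iv0 D6566) (iv7 F4709) F10053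
theorem F10625 : act 3 n5361 = n6566 := d6_3 F10623 F7903 D5361
def n6567 : Q := act 1 n2926
theorem D6567 : act 1 n2926 = n6567 := rfl
theorem F10626 : act 1 n6567 = n5693 := d15_1 D6567 F8766 (iv2 F10035)
theorem F10627 : act 5 n6360 = n6567 := d21_0 (iv1 D6567) (iv5 D2926) F10010 (iv1 F8300) (iv6 D2860) D2859 D6444 F10506 F8695 (iv1 F10355)
def n6568 : Q := act 4 n2926
theorem D6568 : act 4 n2926 = n6568 := rfl
def n6569 : Q := act 5 n2930
theorem D6569 : act 5 n2930 = n6569 := rfl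
theorem F10628 : act 3 n6569 = n2931 := d6_1 D6569 (iv5 D2931) D2930
def n6570 : Q := act 0 n2931
theorem D6570 : act 0 n2931 = n6570 := rfl
theorem F10629 : act 5 n6570 = n3483 := d17_3 F4889 D2931 D6570 F5464 D5361 (iv0 F8164) (iv5 D2786) (iv0 D1278) (iv4 F1495)
theorem F10630 : act 1 n2944 = n6570 := d15_0 (iv0 D6570) (iv7 F4713) F4712
def n6571 : Q := act 1 n2931
theorem D6571 : act 1 n2931 = n6571 := rfl
theorem F10631 : act 1 n6571 = n2944 := d15_1 D6571 (iv7 F4690) F4689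
theorem F10632 : act 5 n6571 = n5408 := d17_7 (iv1 F4578) F4535 (iv1 D2934) (iv5 D1326) D1325 D2931 D6571 F8525 F8522
def n6572 : Q := act 4 n2931
theorem D6572 : act 4 n2931 = n6572 := rfl
def n6573 : Q := act 6 n2931
theorem D6573 : act 6 n2931 = n6573 := rfl
theorem F10633 : act 5 n6573 = n5603 := d12_1 D6573 (iv6 D5603) (iv5 F4891) F4360 D2931
def n6574 : Q := act 3 n2933
theorem D6574 : act 3 n2933 = n6574 := rfl
theorem F10634 : act 2 n6574 = n6574 := d0_1 D6574 (iv3 D6574) (iv2 F5257) F5207 F5257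
theorem F10635 : act 5 n6574 = n3497 := d6_2 (iv5 F4533) D6574 F5496
theorem F10636 : act 0 n2962 = n6574 := d21_1 D2962 F10635 (iv6 D3497) (iv1 F10281) (iv6 D1258) (iv5 F1563) F1566 F804 D767 D1336
theorem F10637 : act 0 n6574 = n2966 := d21_1 (iv5 F10635) (iv5 D2966) D2967 F10200 F9029 (iv5 D3263) (iv1 F10188) (iv5 D2717) D2718 (iv1 F10389)
def n6575 : Q := act 4 n2933
theorem D6575 : act 4 n2933 = n6575 := rfl
theorem F10638 : act 0 n6575 = n6394 := d18_2 D2933 D6575 (iv4 D6394) (iv5 D2801) (iv4 F5104) F2469 F2466 F1493 D1326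
theorem F10639 : act 1 n6575 = n6393 := d18_6 (iv1 D2353) (iv4 F3696) (iv1 F8647) F5497 (iv5 F4533) D6575 (iv4 D6393) (iv0 F8672) (iv5 D5649)
def n6576 : Q := act 4 n2934
theorem D6576 : act 4 n2934 = n6576 := rfl
theorem F10640 : act 0 n6576 = n6393 := d18_2 (iv1 F4534) D6576 (iv4 D6393) (iv5 D2797) (iv4 F5097) (iv0 D1319) F1473 D764 D1330
theorem F10641 : act 1 n6576 = n6394 := d18_6 F7956 (iv4 F8288) (iv1 F8642) F8643 F4535 D6576 (iv4 D6394) (iv0 F8082) (iv5 D5326)
def n6577 : Q := act 0 n2935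
theorem D6577 : act 0 n2935 = n6577 := rfl
theorem F10642 : act 4 n6577 = n5361 := d18_3 (iv1 D2934) D2935 D6577 (iv5 D5361) (iv4 F5464) F8225 F4959 D2690 F4535
theorem F10643 : act 1 n2946 = n6577 := d15_0 (iv0 D6577) (iv7 F4717) F4716
def n6578 : Q := act 1 n2935
theorem D6578 : act 1 n2935 = n6578 := rfl
theorem F10644 : act 1 n6578 = n2946 := d15_1 D6578 (iv7 F4700) F4699
theorem F10645 : act 4 n6578 = n5466 := d18_7 (iv1 D1279) (iv4 F1495) F4889 (iv4 D1325) D1326 D2935 D6578 (iv0 F8310) (iv5 D2790)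
def n6579 : Q := act 3 n2935
theorem D6579 : act 3 n2935 = n6579 := rfl
def n6580 : Q := act 5 n2935
theorem D6580 : act 5 n2935 = n6580 := rfl
theorem F10646 : act 1 n6580 = n3418 := d17_6 (iv1 D1333) (iv5 D765) D763 D1326 D2935 D6580 (iv5 D3418) (iv0 F4892) (iv4 D2952)
def n6582 : Q := act 1 n2943
theorem D6582 : act 1 n2943 = n6582 := rfl
def n6583 : Q := act 2 n2943
theorem D6583 : act 2 n2943 = n6583 := rfl
theorem F10647 : act 3 n6583 = n5799 := d0_2 D2943 D6583 (iv2 F10335) (iv3 D3008) F4547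
def n6584 : Q := act 5 n2943
theorem D6584 : act 5 n2943 = n6584 := rfl
theorem F10648 : act 3 n6584 = n2944 := d6_1 D6584 (iv5 D2944) D2943
def n6585 : Q := act 6 n2943
theorem D6585 : act 6 n2943 = n6585 := rfl
theorem F10649 : act 3 n6585 = n2945 := d7_1 D6585 (iv6 D2945) D2943
def n6586 : Q := act 4 n2944
theorem D6586 : act 4 n2944 = n6586 := rfl
def n6587 : Q := act 6 n2944
theorem D6587 : act 6 n2944 = n6587 := rfl
def n6588 : Q := act 5 n2945
theorem D6588 : act 5 n2945 = n6588 := rfl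
theorem F10650 : act 0 n6588 = n3119 := d17_2 (iv1 F8967) D6588 (iv5 D3119) (iv4 F4931) D2182 F7939 F7938 F7991 (iv4 F5133)
theorem F10651 : act 1 n6588 = n3114 := d17_6 D1187 D2545 F4640 (iv5 D2947) (iv4 F4639) D6588 (iv5 D3114) (iv0 D1393) F1506
def n6589 : Q := act 3 n2946
theorem D6589 : act 3 n2946 = n6589 := rfl
def n6590 : Q := act 5 n2946
theorem D6590 : act 5 n2946 = n6590 := rfl
theorem F10652 : act 0 n6590 = n3418 := d17_2 (iv1 F10643) D6590 (iv5 D3418) F2620 (iv5 D1280) D1279 D2790 (iv0 F8163) (iv4 F10642)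
theorem E1525 : n3677 = n3378 := (c21_5 F2160 (iv1 F2628) F2629 D1617 D3677 F5374 D6590 F10652 (iv5 D3418) (iv6 D1505) (iv1 F2162))
theorem F10653 : act 0 n3378 = n6135 := (sb E1525 (iv1 F9546))
theorem F10654 : act 1 n3378 = n1617 := (sb E1525 (iv0 D3677))
theorem E1526 : n3678 = n3380 := (c15_2 F10654 D3678 (iv7 F9246) F9244)
theorem F10655 : act 0 n3380 = n1617 := (sb E1526 (iv1 D3678))
theorem F10656 : act 1 n3380 = n6135 := (sb E1526 F9545)
theorem E1527 : n6075 = n5941 := (c18_7 (iv1 F3989) D3380 F10655 F2801 (iv5 F2215) (iv4 F4081) D6075 (iv4 D5941) F3966 (iv5 F3986))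
theorem F10657 : act 0 n5941 = n2563 := (sb E1527 (iv1 D6075))
theorem F10658 : act 1 n5941 = n3598 := (sb E1527 F9445)
theorem E1528 : n6136 = n3373 := (c20_7 D3380 F10655 F2801 (iv3 F2800) D3670 (iv3 F8768) D6136 (iv1 F9241) F9237 F3985 (iv1 F3989))
theorem F10659 : act 2 n3373 = n3683 := (sb E1528 F9547)
theorem F10660 : act 4 n3373 = n2585 := (sb E1528 (iv4 D6136))
theorem F10661 : act 6 n3373 = n6394 := (sb E1528 (iv6 F10437))
theorem F10662 : act 7 n3373 = n3687 := (sb E1528 F9548)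
theorem E1529 : n6139 = n3374 := (c15_4 F9240 F9241 F10662 (iv2 F9554))
theorem F10664 : act 4 n3374 = n2586 := (sb E1529 (iv4 D6139))
theorem F10665 : act 6 n3374 = n5872 := (sb E1529 F9555)
theorem E1530 : n5932 = n3606 := ((c18_2 (iv1 F4087) D3606 (iv1 D5932) F3965 F2129 (iv4 F2607) D3374 F10664 F4141 (iv5 F4084))).symm
theorem F10667 : act 0 n3606 = n2505 := (sb E1530 (iv1 D5932))
theorem F10668 : act 1 n3606 = n3345 := (sb E1530 F9205)
theorem E1531 : n5950 = n3683 := (c20_8 (iv4 F9237) (iv1 F9240) F10664 (iv3 F10068) (iv1 D2513) F2133 (iv4 F3981) D5950 (iv4 D3683) (iv3 F10069) (iv1 F3990))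
theorem F10669 : act 0 n3683 = n3376 := (sb E1531 (iv1 F9239))
theorem F10670 : act 1 n3683 = n2511 := (sb E1531 (iv0 D5950))
theorem E1532 : n5951 = n3687 := (c15_2 F10670 D5951 (iv7 F10662) F10659)
theorem F10671 : act 0 n3687 = n2511 := (sb E1532 (iv1 D5951))
theorem F10672 : act 1 n3687 = n3376 := (sb E1532 F9234)
theorem E1533 : n6085 = n3343 := ((c18_7 (iv1 F4146) D3687 F10671 F3981 F2134 (iv4 F2591) D3343 (iv4 D6085) F4082 (iv5 F4143))).symm
theorem F10673 : act 4 n3343 = n2565 := (sb E1533 (iv4 D6085))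
theorem E1534 : n6132 = n5955 := ((c20_1 D5955 (iv1 F9544) F5700 (iv3 F5698) (iv1 F8886) (iv3 D3686) D3687 F10671 F3981 F2133 D2512)).symm
theorem F10674 : act 0 n5955 = n3680 := (sb E1534 (iv1 F9544))
theorem F10675 : act 1 n5955 = n2584 := (sb E1534 (iv0 D6132))
theorem E1535 : n6133 = n5957 := (c15_2 F10675 D6133 F9251 (iv2 F9244))
theorem F10676 : act 0 n5957 = n2584 := (sb E1535 (iv1 D6133))
theorem F10677 : act 1 n5957 = n3680 := (sb E1535 F9539)
theorem E1536 : n3596 = n3352 := (c18_7 (iv1 F3983) D5957 F10676 F4140 F2257 (iv4 F2760) D3596 (iv4 D3352) F3971 F3968)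
theorem F10678 : act 0 n3352 = n1584 := (sb E1536 (iv1 D3596))
theorem F10679 : act 1 n3352 = n6077 := (sb E1536 F9451)
theorem E1537 : n3595 = n3348 := (c18_7 D2512 D5955 F10674 F5700 (iv5 F4084) (iv4 F9448) F9452 (iv4 D3348) (iv0 D1478) (iv5 F2134))
theorem F10680 : act 0 n3348 = n6077 := (sb E1537 (iv1 F9452))
theorem F10681 : act 1 n3348 = n1584 := (sb E1537 (iv0 D3595))
theorem F10682 : act 0 n5762 = n6084 := d20_4 D3348 F10680 F9448 (iv3 F8873) (iv3 D6084) (iv4 F10673) (iv1 D3343) F2591 F1516 D1478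
theorem F10683 : act 1 n5087 = n6084 := d15_0 (iv0 F10682) (iv7 D5762) (iv2 F7565)
theorem E1538 : n6080 = n3342 := ((c18_7 D1618 D3683 F10669 F5372 (iv5 F3968) (iv4 F9208) F9212 (iv4 D6080) (iv0 D2564) F2215)).symm
theorem F10684 : act 4 n3342 = n2564 := (sb E1538 (iv4 D6080))
theorem E1539 : n5931 = n3601 := ((c18_2 D1585 D3601 (iv1 F9210) F5332 (iv5 F3986) (iv4 F9237) F9241 F10660 (iv0 D2585) F2257)).symm
theorem F10685 : act 0 n3601 = n3345 := (sb E1539 (iv1 F9210))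
theorem F10686 : act 1 n3601 = n2505 := (sb E1539 (iv0 D5931))
theorem E1540 : n5760 = n3600 := (c20_5 D5941 F10657 F4081 (iv3 F3796) D5760 (iv3 D3600) D3601 F10685 F5332 F2592 (iv1 F3966))
theorem F10687 : act 1 n3600 = n2411 := (sb E1540 (iv0 D5760))
theorem E1541 : n6074 = n5937 := (c18_7 D1490 D3378 F10653 F9542 F4143 (iv4 F5630) F9450 (iv4 D5937) (iv0 D2506) F2129)
theorem F10688 : act 0 n5937 = n3598 := (sb E1541 (iv1 F9450))
theorem F10689 : act 1 n5937 = n2563 := (sb E1541 (iv0 D6074))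
def n6591 : Q := act 4 n2947
theorem D6591 : act 4 n2947 = n6591 := rfl
theorem F10690 : act 0 n6591 = n5325 := d18_2 F4640 D6591 (iv4 D5325) (iv5 D2182) F4931 F2682 F2679 F2187 D2545
theorem F10691 : act 1 n6591 = n5317 := d18_6 F3612 (iv4 F5133) (iv1 F8967) F4639 D2947 D6591 (iv4 D5317) D5316 (iv5 F7942)
def n6592 : Q := act 4 n2948
theorem D6592 : act 4 n2948 = n6592 := rfl
def n6593 : Q := act 6 n2948
theorem D6593 : act 6 n2948 = n6593 := rfl
theorem F10692 : act 3 n6593 = n2950 := d7_1 D6593 (iv6 D2950) D2948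
theorem F10693 : act 5 n6593 = n3379 := d12_1 D6593 F10057 (iv5 F8830) (iv6 F10362) F10361
def n6594 : Q := act 3 n2949
theorem D6594 : act 3 n2949 = n6594 := rfl
def n6595 : Q := act 5 n2949
theorem D6595 : act 5 n2949 = n6595 := rfl
def n6596 : Q := act 6 n2949
theorem D6596 : act 6 n2949 = n6596 := rfl
theorem F10694 : act 4 n6596 = n2950 := d10_1 D6596 (iv6 D2950) D2949
def n6597 : Q := act 3 n2952
theorem D6597 : act 3 n2952 = n6597 := rfl
def n6598 : Q := act 5 n2952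
theorem D6598 : act 5 n2952 = n6598 := rfl
def n6599 : Q := act 6 n2952
theorem D6599 : act 6 n2952 = n6599 := rfl
theorem F10695 : act 4 n6599 = n2953 := d10_1 D6599 (iv6 D2953) D2952
theorem F10696 : act 7 n6591 = n6599 := d11_0 F10695 (iv7 F4644) D6591
theorem F10697 : act 0 n5360 = n6599 := d18_2 (iv1 F8148) D5360 F10695 F4643 (iv4 F4941) F8972 F8969 (iv0 F7994) (iv5 F8147)
theorem F10698 : act 1 n5358 = n6599 := d18_6 (iv1 D836) (iv4 F1578) D1532 F5458 D2199 D5358 F10695 (iv0 F4645) (iv5 D1544)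
def n6600 : Q := act 3 n2954
theorem D6600 : act 3 n2954 = n6600 := rfl
def n6601 : Q := act 5 n2954
theorem D6601 : act 5 n2954 = n6601 := rfl
def n6602 : Q := act 6 n2954
theorem D6602 : act 6 n2954 = n6602 := rfl
theorem F10699 : act 4 n6602 = n6140 := d10_1 D6602 F9558 F5102
def n6603 : Q := act 3 n2955
theorem D6603 : act 3 n2955 = n6603 := rfl
def n6604 : Q := act 5 n2955
theorem D6604 : act 5 n2955 = n6604 := rfl
def n6605 : Q := act 6 n2955
theorem D6605 : act 6 n2955 = n6605 := rfl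
theorem F10700 : act 4 n6605 = n5316 := d10_1 D6605 F7943 F5106
theorem F10701 : act 0 n3501 = n6605 := d18_2 F4719 D3501 F10700 (iv5 F7942) F5077 F9052 F9049 (iv0 F4541) D3012
theorem F10702 : act 1 n3491 = n6605 := d18_6 (iv1 D1071) (iv4 F1988) (iv1 F4937) (iv4 D1538) D1539 D3491 F10700 F7941 (iv5 D2182)
def n6606 : Q := act 0 n2956
theorem D6606 : act 0 n2956 = n6606 := rfl
def n6607 : Q := act 1 n2956
theorem D6607 : act 1 n2956 = n6607 := rfl
def n6608 : Q := act 2 n2956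
theorem D6608 : act 2 n2956 = n6608 := rfl
theorem F10703 : act 4 n6608 = n6608 := d1_2 F4647 D6608 (iv2 D6608)
theorem F10704 : act 6 n6608 = n3383 := d3_2 (iv6 F4648) D6608 (iv2 D3383)
def n6609 : Q := act 5 n2956
theorem D6609 : act 5 n2956 = n6609 := rfl
theorem F10705 : act 3 n6609 = n2957 := d6_1 D6609 (iv5 D2957) D2956
def n6610 : Q := act 7 n2956
theorem D6610 : act 7 n2956 = n6610 := rfl
theorem F10706 : act 3 n6610 = n2958 := d8_1 D6610 (iv7 D2958) D2956
theorem F10707 : act 4 n6610 = n6610 := d11_1 D6610 (iv7 D6610) F4647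
def n6611 : Q := act 0 n2957
theorem D6611 : act 0 n2957 = n6611 := rfl
theorem F10708 : act 5 n6611 = n6393 := d17_3 (iv1 D2955) D2957 D6611 (iv4 D6393) (iv5 D2797) (iv0 D1282) D1284 (iv0 F3616) F5106
def n6612 : Q := act 1 n2957
theorem D6612 : act 1 n2957 = n6612 := rfl
theorem F10709 : act 5 n6612 = n6394 := d17_7 (iv1 F4538) (iv5 D1330) (iv1 D764) D765 D1334 D2957 D6612 (iv0 F10638) (iv4 D6575)
def n6613 : Q := act 4 n2957
theorem D6613 : act 4 n2957 = n6613 := rfl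
def n6614 : Q := act 6 n2957
theorem D6614 : act 6 n2957 = n6614 := rfl
theorem F10710 : act 5 n6614 = n3387 := d12_1 D6614 (iv6 D3387) (iv5 D1494) (iv6 F2449) D2957
def n6615 : Q := act 7 n2957
theorem D6615 : act 7 n2957 = n6615 := rfl
theorem F10711 : act 5 n6615 = n2958 := d13_1 D6615 (iv7 D2958) D2957
def n6616 : Q := act 1 n2962
theorem D6616 : act 1 n2962 = n6616 := rfl
theorem F10712 : act 1 n6616 = n2966 := d15_1 D6616 (iv7 F10096) F10102
theorem F10713 : act 7 n6616 = n6574 := d15_2 (iv0 F10636) D6616 F10634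
theorem F10714 : act 5 n6370 = n6616 := d21_0 (iv1 D6616) (iv5 D2962) F4316 F10189 (iv6 D1445) D1444 D3257 (iv5 F10399) F10400 (iv1 F10395)
theorem F10715 : act 2 n6616 = n6616 := d2_1 F10714 (iv5 F10714) F10387
theorem F10716 : act 3 n6616 = n3000 := d6_1 F10714 (iv5 F4698) F10385
def n6617 : Q := act 4 n2962
theorem D6617 : act 4 n2962 = n6617 := rfl
def n6618 : Q := act 5 n2964
theorem D6618 : act 5 n2964 = n6618 := rfl
theorem F10718 : act 2 n6618 = n6386 := d2_1 D6618 (iv5 D6386) (iv2 F10082)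
theorem F10719 : act 3 n6618 = n2966 := d6_1 D6618 (iv5 D2966) D2964
theorem F10720 : act 7 n6618 = n6385 := d13_2 (iv7 F10083) D6618 (iv5 D6385)
theorem F10721 : act 6 n6125 = n6618 := d21_5 F3473 (iv1 F2417) D1209 D2582 D6125 (iv5 D6618) F10080 D5128 F7649 (iv1 F3475)
theorem F10722 : act 3 n3363 = n6125 := d7_3 F10721 F10719 (iv6 F5357)
def n6619 : Q := act 4 n2966
theorem D6619 : act 4 n2966 = n6619 := rfl
theorem F10724 : act 7 n6619 = n6617 := d11_2 F10096 D6619 (iv4 D6617)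
def n6620 : Q := act 5 n2967
theorem D6620 : act 5 n2967 = n6620 := rfl
theorem F10725 : act 2 n6620 = n6620 := d2_1 D6620 (iv5 D6620) F10100
theorem F10726 : act 0 n6620 = n3496 := d17_2 (iv1 F10201) D6620 (iv5 D3496) (iv4 F10282) D2966 (iv0 F10637) F10635 F10389 F9925
theorem F10727 : act 1 n6620 = n6038 := d17_6 D1336 D2962 F10636 F10635 F10320 D6620 (iv5 D6038) (iv0 F10280) F2351
def n6621 : Q := act 3 n2968
theorem D6621 : act 3 n2968 = n6621 := rfl
theorem F10728 : act 5 n6621 = n5271 := d6_2 F10393 D6621 (iv3 F10391)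
theorem F10729 : act 7 n6621 = n5270 := d8_2 (iv7 F10351) D6621 F10349
def n6622 : Q := act 4 n2968
theorem D6622 : act 4 n2968 = n6622 := rfl
theorem F10731 : act 1 n6622 = n2970 := d18_6 (iv1 F10389) F10320 F10200 (iv4 F10392) F10393 D6622 (iv4 D2970) D2969 (iv5 F4652)
def n6623 : Q := act 6 n2968
theorem D6623 : act 6 n2968 = n6623 := rfl
theorem F10732 : act 2 n6623 = n6623 := d3_1 D6623 (iv6 D6623) F10352
theorem F10733 : act 5 n6623 = n3364 := d12_1 D6623 F10204 (iv5 F10399) F10400 F10393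
theorem F10734 : act 0 n6623 = n3298 := d21_4 F10635 (iv1 F10394) F10393 D6623 (iv6 D3298) D3297 (iv1 F10298) F10191 F10193 F10636
def n6624 : Q := act 4 n2969
theorem D6624 : act 4 n2969 = n6624 := rfl
theorem F10735 : act 2 n6624 = n6624 := d1_1 D6624 (iv4 D6624) F10350
theorem F10737 : act 0 n6624 = n2970 := d18_2 (iv1 F4659) D6624 (iv4 D2970) (iv5 D1338) (iv4 F2351) F10281 (iv4 F10282) F2459 (iv5 F4657)
def n6625 : Q := act 6 n2969
theorem D6625 : act 6 n2969 = n6625 := rfl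
theorem F10739 : act 5 n6625 = n5857 := d12_1 D6625 (iv6 F10194) (iv5 D2717) D2718 F4652
theorem F10740 : act 7 n6620 = n6625 := d13_0 F10739 F10197 D6620
theorem F10741 : act 0 n3496 = n6625 := d17_2 (iv1 F10278) D3496 F10739 (iv4 F10384) F10714 F10712 (iv5 D2966) F2459 (iv4 F4310)
theorem F10742 : act 1 n6038 = n6625 := d17_6 (iv1 F10395) F10714 (iv1 D6616) (iv5 D2962) F10283 D6038 F10739 F9031 (iv4 F10392)
def n6626 : Q := act 3 n2970
theorem D6626 : act 3 n2970 = n6626 := rfl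
theorem F10744 : act 6 n6626 = n5958 := d7_2 (iv6 F4654) D6626 (iv3 D5958)
def n6627 : Q := act 5 n2970
theorem D6627 : act 5 n2970 = n6627 := rfl
def n6628 : Q := act 7 n2970
theorem D6628 : act 7 n2970 = n6628 := rfl
theorem F10746 : act 2 n6628 = n6628 := d4_1 D6628 (iv7 D6628) F4653
theorem F10747 : act 4 n6628 = n2971 := d11_1 D6628 (iv7 D2971) D2970
theorem F10748 : act 1 n6628 = n6622 := d15_0 F10731 D6628 F10746
theorem F10749 : act 1 n6624 = n6628 := d15_1 (iv0 F10737) (iv7 D6628) F4653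
theorem E1542 : n6621 = n6388 := ((c20_5 D2952 F4892 F2620 (iv3 F4361) D6388 (iv3 D6621) D6622 (iv1 F10748) F10747 F4656 (iv1 F2480))).symm
theorem F10750 : act 3 n6388 = n2968 := (sb E1542 (iv3 D6621))
theorem F10751 : act 5 n6388 = n5271 := (sb E1542 F10728)
theorem F10752 : act 7 n6388 = n5270 := (sb E1542 F10729)
def n6629 : Q := act 3 n2972
theorem D6629 : act 3 n2972 = n6629 := rfl
theorem F10753 : act 4 n6629 = n3112 := d5_2 (iv4 F10246) D6629 (iv3 D3112) (iv4 F4928) D2175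
def n6630 : Q := act 5 n2972
theorem D6630 : act 5 n2972 = n6630 := rfl
def n6631 : Q := act 6 n2972
theorem D6631 : act 6 n2972 = n6631 := rfl
theorem F10754 : act 4 n6631 = n5314 := d10_1 D6631 (iv6 D5314) (iv4 F10246)
theorem F10755 : act 0 n6631 = n5281 := d20_1 (iv4 F10754) F7829 F8330 D5283 F10323 (iv4 F4996) (iv1 F8549) F8546 (iv3 F10110) (iv1 F8551)
def n6632 : Q := act 3 n2973
theorem D6632 : act 3 n2973 = n6632 := rfl
def n6633 : Q := act 5 n2973
theorem D6633 : act 5 n2973 = n6633 := rfl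
def n6634 : Q := act 6 n2973
theorem D6634 : act 6 n2973 = n6634 := rfl
theorem F10756 : act 4 n6634 = n5446 := d10_1 D6634 F8459 F10250
def n6635 : Q := act 0 n2974
theorem D6635 : act 0 n2974 = n6635 := rfl
def n6636 : Q := act 1 n2974
theorem D6636 : act 1 n2974 = n6636 := rfl
def n6637 : Q := act 4 n2974
theorem D6637 : act 4 n2974 = n6637 := rfl
theorem F10757 : act 6 n6637 = n6534 := d10_2 (iv6 F4661) D6637 (iv4 D6534)
def n6638 : Q := act 7 n2974
theorem D6638 : act 7 n2974 = n6638 := rfl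
theorem F10758 : act 3 n6638 = n2989 := d8_1 D6638 (iv7 D2989) (iv3 F4660)
theorem F10759 : act 5 n6638 = n2975 := d13_1 D6638 (iv7 D2975) D2974
def n6639 : Q := act 0 n2977
theorem D6639 : act 0 n2977 = n6639 := rfl
theorem F10760 : act 1 n6546 = n6639 := d15_0 (iv0 D6639) F8005 D6546
def n6640 : Q := act 1 n2977
theorem D6640 : act 1 n2977 = n6640 := rfl
def n6641 : Q := act 2 n2977
theorem D6641 : act 2 n2977 = n6641 := rfl
theorem F10761 : act 3 n6641 = n6538 := d0_2 D2977 D6641 (iv2 D6538) (iv3 D2904) (iv2 F7986)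
theorem F10762 : act 7 n6641 = n6546 := d4_2 (iv7 F8005) D6641 (iv2 D6546)
theorem F10763 : act 1 n6641 = n6544 := d15_0 (iv0 D6544) (iv7 F8005) D6641
theorem F10765 : act 1 n6545 = n6641 := d15_1 D6545 F10762 (iv2 D6546)
def n6642 : Q := act 4 n2977
theorem D6642 : act 4 n2977 = n6642 := rfl
theorem F10766 : act 3 n6642 = n5674 := d5_1 D6642 (iv4 D5674) (iv3 F7721) (iv4 F7722) D2977
theorem F10767 : act 7 n6642 = n3094 := d11_2 (iv7 F8005) D6642 F10319
theorem F10768 : act 0 n3084 = n6642 := d20_7 F2444 (iv1 F1486) D1351 D3008 F10344 (iv3 F8918) F8919 (iv4 D6642) (iv3 D2977) (iv1 F2468)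
theorem F10769 : act 2 n6642 = n3093 := d15_3 (iv0 D3093) D3094 (iv7 F10767)
theorem F10770 : act 4 n3093 = n6641 := d1_2 D6642 F10769 (iv2 D6641)
theorem F10771 : act 0 n6642 = n3096 := d20_4 F3714 D2372 D5674 (iv3 F10766) F4836 F2535 (iv1 F2188) D1543 D3498 F10288
def n6643 : Q := act 5 n2977
theorem D6643 : act 5 n2977 = n6643 := rfl
theorem F10772 : act 3 n6643 = n2979 := d6_1 D6643 (iv5 D2979) D2977
theorem F10773 : act 7 n6643 = n6547 := d13_2 (iv7 F8005) D6643 (iv5 D6547)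
def n6644 : Q := act 0 n2979
theorem D6644 : act 0 n2979 = n6644 := rfl
theorem F10774 : act 5 n6644 = n5348 := d17_3 D1341 D2979 D6644 F8131 (iv5 F4691) (iv0 D2999) (iv5 D1348) (iv0 D770) (iv4 F1485)
theorem F10775 : act 1 n2984 = n6644 := d15_0 (iv0 D6644) F8006 (iv2 F8015)
theorem F10776 : act 2 n6540 = n6644 := d2_3 F10774 F8130 (iv5 F10605)
theorem F10777 : act 7 n6541 = n6644 := d13_0 F10774 (iv7 F8646) (iv5 F10608)
def n6645 : Q := act 1 n2979
theorem D6645 : act 1 n2979 = n6645 := rfl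
theorem F10778 : act 1 n6645 = n2984 := d15_1 D6645 (iv7 F8017) (iv2 F8018)
theorem F10779 : act 7 n6645 = n6540 := d15_2 (iv0 D6644) D6645 F10776
theorem F10780 : act 5 n6645 = n5460 := d17_7 F8043 D5466 F8309 (iv5 D2786) (iv4 F7722) D2979 D6645 F8653 F8650
theorem F10781 : act 2 n6541 = n6645 := d2_3 F10780 (iv2 F8645) (iv5 F10608)
def n6646 : Q := act 4 n2979
theorem D6646 : act 4 n2979 = n6646 := rfl
theorem F10782 : act 2 n6646 = n6542 := d1_1 D6646 (iv4 D6542) (iv2 F8018)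
theorem F10783 : act 7 n6646 = n6549 := d11_2 (iv7 F8006) D6646 (iv4 D6549)
def n6647 : Q := act 6 n2979
theorem D6647 : act 6 n2979 = n6647 := rfl
theorem F10784 : act 2 n6647 = n6543 := d3_1 D6647 (iv6 D6543) (iv2 F8018)
theorem F10785 : act 5 n6647 = n6342 := d12_1 D6647 (iv6 D6342) (iv5 F7725) F7726 D2979
def n6648 : Q := act 0 n2982
theorem D6648 : act 0 n2982 = n6648 := rfl
theorem F10786 : act 1 n6538 = n6648 := d15_0 (iv0 D6648) (iv7 F8016) D6538
def n6649 : Q := act 1 n2982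
theorem D6649 : act 1 n2982 = n6649 := rfl
def n6650 : Q := act 2 n2982
theorem D6650 : act 2 n2982 = n6650 := rfl
theorem F10787 : act 3 n6650 = n6546 := d0_2 D2982 D6650 (iv2 D6546) (iv3 D2909) F7992
theorem F10788 : act 4 n6650 = n6583 := d1_2 (iv4 F10105) D6650 (iv2 D6583)
theorem F10789 : act 7 n6650 = n6538 := d4_2 F8016 D6650 (iv2 D6538)
theorem F10790 : act 1 n6650 = n6536 := d15_0 (iv0 D6536) F8016 D6650
theorem F10791 : act 1 n6649 = n6538 := d15_1 D6649 (iv7 F10789) (iv2 D6650)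
def n6651 : Q := act 5 n2982
theorem D6651 : act 5 n2982 = n6651 := rfl
theorem F10793 : act 3 n6651 = n2984 := d6_1 D6651 (iv5 D2984) D2982
theorem F10794 : act 7 n6651 = n6539 := d13_2 F8016 D6651 (iv5 D6539)
def n6652 : Q := act 6 n2982
theorem D6652 : act 6 n2982 = n6652 := rfl
theorem F10795 : act 3 n6652 = n2985 := d7_1 D6652 (iv6 D2985) D2982
theorem F10796 : act 4 n6652 = n6585 := d10_1 D6652 (iv6 D6585) (iv4 F10105)
def n6653 : Q := act 4 n2984
theorem D6653 : act 4 n2984 = n6653 := rfl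
theorem F10797 : act 2 n6653 = n6549 := d1_1 D6653 (iv4 D6549) (iv2 F8015)
theorem F10798 : act 7 n6653 = n6542 := d11_2 F8017 D6653 (iv4 D6542)
def n6654 : Q := act 6 n2984
theorem D6654 : act 6 n2984 = n6654 := rfl
theorem F10799 : act 2 n6654 = n6550 := d3_1 D6654 (iv6 D6550) (iv2 F8015)
def n6655 : Q := act 5 n2985
theorem D6655 : act 5 n2985 = n6655 := rfl
theorem F10800 : act 2 n6655 = n6551 := d2_1 D6655 (iv5 D6551) (iv2 F7998)
theorem F10801 : act 0 n6655 = n3499 := d17_2 (iv1 F7997) D6655 (iv5 D3499) (iv4 D1543) D1544 (iv0 F4719) (iv5 D3012) F4542 (iv4 F2552)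
theorem F10802 : act 1 n6655 = n3489 := d17_6 D1070 D2177 D5315 F7938 F7732 D6655 (iv5 D3489) F4937 F1988
def n6656 : Q := act 3 n2986
theorem D6656 : act 3 n2986 = n6656 := rfl
theorem F10803 : act 7 n6656 = n6555 := d8_2 (iv7 F8072) D6656 (iv3 D6555)
def n6657 : Q := act 4 n2986
theorem D6657 : act 4 n2986 = n6657 := rfl
theorem F10804 : act 2 n6657 = n6553 := d1_1 D6657 (iv4 D6553) (iv2 F8074)
theorem F10805 : act 7 n6657 = n6556 := d11_2 (iv7 F8072) D6657 (iv4 D6556)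
theorem F10806 : act 1 n6657 = n3046 := d18_6 (iv1 F8520) F4932 F7956 (iv4 F8288) F8289 D6657 (iv4 D3046) D3045 (iv5 F4763)
def n6658 : Q := act 6 n2986
theorem D6658 : act 6 n2986 = n6658 := rfl
theorem F10807 : act 2 n6658 = n6554 := d3_1 D6658 (iv6 D6554) (iv2 F8074)
def n6659 : Q := act 3 n2987
theorem D6659 : act 3 n2987 = n6659 := rfl
theorem F10808 : act 5 n6659 = n5638 := d6_2 F7714 D6659 F8633
theorem F10809 : act 7 n6659 = n6552 := d8_2 F8073 D6659 (iv3 D6552)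
def n6660 : Q := act 4 n2987
theorem D6660 : act 4 n2987 = n6660 := rfl
theorem F10810 : act 2 n6660 = n6556 := d1_1 D6660 (iv4 D6556) F8071
theorem F10811 : act 7 n6660 = n6553 := d11_2 F8073 D6660 (iv4 D6553)
theorem F10812 : act 0 n6660 = n3046 := d18_2 (iv1 F4668) D6660 (iv4 D3046) (iv5 D1364) F1495 D1279 (iv4 F7731) F2462 (iv5 F4519)
def n6661 : Q := act 6 n2987
theorem D6661 : act 6 n2987 = n6661 := rfl
theorem F10813 : act 2 n6661 = n6557 := d3_1 D6661 (iv6 D6557) F8071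
theorem F10814 : act 5 n6661 = n5641 := d12_1 D6661 (iv6 D5641) (iv5 D2344) D2345 F7714
def n6662 : Q := act 0 n2988
theorem D6662 : act 0 n2988 = n6662 := rfl
theorem F10815 : act 4 n6662 = n3069 := d18_3 (iv1 D2987) D2988 D6662 (iv5 F8523) F8522 (iv0 F4635) (iv4 F5497) F8647 F7714
theorem F10816 : act 2 n6558 = n6662 := d1_3 F10815 F4989 (iv4 F10618)
theorem F10817 : act 7 n6559 = n6662 := d11_0 F10815 F4987 (iv4 F10619)
theorem F10818 : act 1 n6562 = n6662 := d18_6 F4979 (iv4 D1347) (iv1 F1491) (iv4 F2444) (iv5 F4519) (iv4 F10620) F10815 (iv0 D3069) (iv5 D1372)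
def n6663 : Q := act 1 n2988
theorem D6663 : act 1 n2988 = n6663 := rfl
theorem F10819 : act 1 n6663 = n6562 := d15_1 D6663 (iv7 D6562) (iv2 F4670)
theorem F10820 : act 7 n6663 = n6558 := d15_2 (iv0 D6662) D6663 F10816
theorem F10821 : act 4 n6663 = n3070 := d18_7 (iv1 F4981) (iv4 D1351) (iv1 D771) (iv4 F1485) D1343 D2988 D6663 F4794 F4764
theorem F10822 : act 2 n6559 = n6663 := d1_3 F10821 (iv2 F4986) (iv4 F10619)
def n6664 : Q := act 3 n2988
theorem D6664 : act 3 n2988 = n6664 := rfl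
theorem F10823 : act 6 n6664 = n6560 := d7_2 (iv6 F4671) D6664 (iv3 D6560)
def n6665 : Q := act 5 n2988
theorem D6665 : act 5 n2988 = n6665 := rfl
theorem F10824 : act 2 n6665 = n6561 := d2_1 D6665 (iv5 D6561) (iv2 F4670)
theorem F10825 : act 4 n6665 = n6615 := d16_2 D2988 D6665 F10711 F4649 F2451 (iv4 F2444) (iv5 F4519) (iv7 D2916) (iv2 F2463)
theorem F10826 : act 7 n6613 = n6665 := d11_0 F10825 (iv7 D6615) D6613
def n6666 : Q := act 7 n2988
theorem D6666 : act 7 n2988 = n6666 := rfl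
theorem F10827 : act 2 n6666 = n6562 := d4_1 D6666 (iv7 D6562) (iv2 F4670)
theorem F10828 : act 4 n6666 = n2989 := d11_1 D6666 (iv7 D2989) D2988
theorem F10829 : act 5 n6666 = n6613 := d13_1 D6666 F10826 (iv5 D6665)
theorem F10830 : act 1 n6559 = n6666 := d15_1 D6559 (iv7 D6666) F4670
theorem F10831 : act 1 n6666 = n6558 := d15_1 F10830 (iv7 F10820) (iv2 F10822)
def n6667 : Q := act 6 n2989
theorem D6667 : act 6 n2989 = n6667 := rfl
theorem F10832 : act 2 n6667 = n6563 := d3_1 D6667 (iv6 D6563) (iv2 F4672)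
theorem F10833 : act 5 n6667 = n6667 := d12_1 D6667 (iv6 D6667) F4673 F2467 (iv5 F4673)
theorem F10834 : act 7 n6667 = n6563 := d14_2 D2989 D6667 (iv6 D6563) (iv7 D2916) (iv6 F2464)
def n6668 : Q := act 0 n2997
theorem D6668 : act 0 n2997 = n6668 := rfl
theorem F10835 : act 1 n6583 = n6668 := d15_0 (iv0 D6668) F4688 D6583
def n6669 : Q := act 1 n2997
theorem D6669 : act 1 n2997 = n6669 := rfl
def n6670 : Q := act 2 n2997
theorem D6670 : act 2 n2997 = n6670 := rfl
theorem F10836 : act 3 n6670 = n5794 := d0_2 D2997 D6670 (iv2 F10347) (iv3 D2930) (iv2 F4554)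
theorem F10837 : act 4 n6670 = n6538 := d1_2 (iv4 F10106) D6670 (iv2 D6538)
theorem F10838 : act 7 n6670 = n6583 := d4_2 (iv7 F4688) D6670 (iv2 D6583)
theorem F10840 : act 1 n6669 = n6583 := d15_1 D6669 (iv7 F10838) (iv2 D6670)
theorem F10841 : act 1 n6582 = n6670 := d15_1 D6582 F10838 (iv2 D6583)
def n6671 : Q := act 5 n2997
theorem D6671 : act 5 n2997 = n6671 := rfl
theorem F10842 : act 3 n6671 = n2998 := d6_1 D6671 (iv5 D2998) D2997
theorem F10843 : act 7 n6671 = n6584 := d13_2 (iv7 F4688) D6671 (iv5 D6584)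
def n6672 : Q := act 0 n2998
theorem D6672 : act 0 n2998 = n6672 := rfl
theorem F10844 : act 5 n6672 = n3120 := d17_3 F4979 D2998 D6672 F4932 D5326 (iv0 F8083) (iv5 D2797) (iv0 D1282) (iv4 F1499)
theorem F10845 : act 1 n3009 = n6672 := d15_0 (iv0 D6672) F4690 (iv2 F4712)
theorem F10846 : act 2 n6570 = n6672 := d2_3 F10844 F7855 (iv5 F10629)
theorem F10847 : act 7 n6571 = n6672 := d13_0 F10844 (iv7 F8224) (iv5 F10632)
def n6673 : Q := act 1 n2998
theorem D6673 : act 1 n2998 = n6673 := rfl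
theorem F10848 : act 1 n6673 = n3009 := d15_1 D6673 F4713 (iv2 F4689)
theorem F10849 : act 7 n6673 = n6570 := d15_2 (iv0 D6672) D6673 F10846
theorem F10850 : act 5 n6673 = n5587 := d17_7 (iv1 F4577) F4698 (iv1 D3000) (iv5 D1348) D1347 D2998 D6673 F8516 F8226
theorem F10851 : act 2 n6571 = n6673 := d2_3 F10850 (iv2 F8518) (iv5 F10632)
def n6674 : Q := act 4 n2998
theorem D6674 : act 4 n2998 = n6674 := rfl
theorem F10852 : act 2 n6674 = n6572 := d1_1 D6674 (iv4 D6572) (iv2 F4689)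
theorem F10853 : act 7 n6674 = n6586 := d11_2 (iv7 F4690) D6674 (iv4 D6586)
def n6675 : Q := act 6 n2998
theorem D6675 : act 6 n2998 = n6675 := rfl
theorem F10854 : act 2 n6675 = n6573 := d3_1 D6675 (iv6 D6573) (iv2 F4689)
theorem F10855 : act 5 n6675 = n5426 := d12_1 D6675 (iv6 D5426) (iv5 F4977) F4292 D2998
def n6676 : Q := act 4 n2999
theorem D6676 : act 4 n2999 = n6676 := rfl
theorem F10856 : act 2 n6676 = n6575 := d1_1 D6676 (iv4 D6575) (iv2 F5257)
theorem F10857 : act 7 n6676 = n6576 := d11_2 (iv7 F5233) D6676 (iv4 D6576)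
theorem F10858 : act 0 n6676 = n6392 := d18_2 D2999 D6676 (iv4 D6392) (iv5 D2790) (iv4 F7731) F2462 F2444 F1491 D1348
theorem F10859 : act 1 n6676 = n6391 := d18_6 (iv1 D2259) (iv4 F3606) (iv1 F8287) F8131 (iv5 F4691) D6676 (iv4 D6391) (iv0 F8309) (iv5 D5466)
def n6677 : Q := act 4 n3000
theorem D6677 : act 4 n3000 = n6677 := rfl
theorem F10860 : act 2 n6677 = n6576 := d1_1 D6677 (iv4 D6576) (iv2 F5236)
theorem F10861 : act 7 n6677 = n6575 := d11_2 F5256 D6677 (iv4 D6575)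
theorem F10862 : act 0 n6677 = n6391 := d18_2 (iv1 F4697) D6677 (iv4 D6391) (iv5 D2786) (iv4 F7722) (iv0 D1341) F1485 D771 D1352
theorem F10863 : act 1 n6677 = n6392 := d18_6 (iv1 F8044) (iv4 F8650) (iv1 F8653) F8285 F4698 D6677 (iv4 D6392) (iv0 F8163) (iv5 D5361)
def n6678 : Q := act 0 n3001
theorem D6678 : act 0 n3001 = n6678 := rfl
theorem F10864 : act 4 n6678 = n5326 := d18_3 (iv1 D3000) D3001 D6678 (iv5 D5326) (iv4 F4932) F8520 F4872 D2764 F4698
theorem F10865 : act 1 n3011 = n6678 := d15_0 (iv0 D6678) F4700 (iv2 F4716)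
theorem F10866 : act 2 n6577 = n6678 := d1_3 F10864 (iv2 F8162) (iv4 F10642)
theorem F10867 : act 7 n6578 = n6678 := d11_0 F10864 (iv7 F8308) (iv4 F10645)
def n6679 : Q := act 1 n3001
theorem D6679 : act 1 n3001 = n6679 := rfl
theorem F10868 : act 1 n6679 = n3011 := d15_1 D6679 F4717 (iv2 F4699)
theorem F10869 : act 7 n6679 = n6577 := d15_2 (iv0 D6678) D6679 F10866
theorem F10870 : act 4 n6679 = n5649 := d18_7 (iv1 D1283) (iv4 F1499) F4979 (iv4 D1347) D1348 D3001 D6679 (iv0 F8673) (iv5 D2801)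
theorem F10871 : act 2 n6578 = n6679 := d1_3 F10870 F8670 (iv4 F10645)
def n6680 : Q := act 3 n3001
theorem D6680 : act 3 n3001 = n6680 := rfl
theorem F10872 : act 7 n6680 = n6589 := d8_2 (iv7 F4700) D6680 (iv3 D6589)
def n6681 : Q := act 5 n3001
theorem D6681 : act 5 n3001 = n6681 := rfl
theorem F10873 : act 2 n6681 = n6580 := d2_1 D6681 (iv5 D6580) (iv2 F4699)
theorem F10874 : act 7 n6681 = n6590 := d13_2 (iv7 F4700) D6681 (iv5 D6590)
theorem F10875 : act 1 n6681 = n5987 := d17_6 (iv1 D1355) (iv5 D772) D770 D1348 D3001 D6681 (iv5 D5987) F4983 (iv4 D3017)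
def n6682 : Q := act 3 n3005
theorem D6682 : act 3 n3005 = n6682 := rfl
theorem F10876 : act 4 n6682 = n3008 := d5_2 D3005 D6682 (iv3 D3008) (iv4 D1351) D1350
theorem F10877 : act 7 n6682 = n6564 := d8_2 (iv7 F4707) D6682 (iv3 D6564)
def n6683 : Q := act 5 n3005
theorem D6683 : act 5 n3005 = n6683 := rfl
theorem F10878 : act 7 n6683 = n6565 := d13_2 (iv7 F4707) D6683 (iv5 D6565)
def n6684 : Q := act 6 n3005
theorem D6684 : act 6 n3005 = n6684 := rfl
theorem F10879 : act 4 n6684 = n3007 := d10_1 D6684 (iv6 D3007) D3005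
def n6685 : Q := act 0 n3006
theorem D6685 : act 0 n3006 = n6685 := rfl
theorem F10880 : act 3 n6685 = n5649 := d20_5 (iv4 F10864) (iv1 F10865) (iv4 D3011) (iv3 F4708) D6685 (iv4 F10870) (iv1 D6679) (iv4 D3001) (iv3 F10043) F8083
theorem F10881 : act 5 n6685 = n5447 := d21_2 D3006 D6685 (iv6 F8455) (iv1 F8697) F8695 (iv5 F8735) (iv1 F8782) F8780 F3727 F10048
theorem F10882 : act 1 n5675 = n6685 := d15_0 (iv0 D6685) F4709 F10035
theorem F10883 : act 2 n6567 = n6685 := d2_3 F10881 (iv2 F10358) F10627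
theorem F10884 : act 7 n6566 = n6685 := d13_0 F10881 F8457 (iv5 F10623)
def n6686 : Q := act 1 n3006
theorem D6686 : act 1 n3006 = n6686 := rfl
theorem F10885 : act 1 n6686 = n5675 := d15_1 D6686 (iv7 F8766) (iv2 F10053)
theorem F10886 : act 7 n6686 = n6567 := d15_2 (iv0 D6685) D6686 F10883
theorem F10887 : act 5 n5446 = n6686 := d21_0 (iv1 D6686) (iv5 D3006) D3007 F10019 F8839 F8291 F8299 (iv5 D2244) D2245 D5446
theorem F10888 : act 2 n6686 = n6566 := d2_1 F10887 F10623 (iv2 F8458)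
theorem F10889 : act 0 n6593 = n6452 := d21_4 (iv5 F10887) (iv1 F10364) F10361 D6593 (iv6 D6452) (iv5 F7937) F8550 D5657 (iv6 F8732) (iv1 F10885)
def n6687 : Q := act 4 n3006
theorem D6687 : act 4 n3006 = n6687 := rfl
theorem F10890 : act 7 n6687 = n6568 := d11_2 (iv7 F4709) D6687 (iv4 D6568)
def n6688 : Q := act 5 n3007
theorem D6688 : act 5 n3007 = n6688 := rfl
theorem F10891 : act 3 n6688 = n3012 := d6_1 D6688 (iv5 D3012) (iv3 F4710)
theorem F10892 : act 0 n6688 = n5293 := d21_1 D6688 (iv5 D5293) D5294 F8648 (iv6 F8695) (iv5 F10506) (iv1 F10508) (iv5 D5081) D5082 (iv1 F10020)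
theorem F10893 : act 0 n5290 = n6688 := d21_1 D5290 (iv5 D6688) (iv6 D3007) (iv1 F10049) (iv6 D1126) (iv5 F1290) (iv1 F1344) F1342 D1067 D2162
def n6689 : Q := act 5 n3008
theorem D6689 : act 5 n3008 = n6689 := rfl
theorem F10894 : act 3 n6689 = n3009 := d6_1 D6689 (iv5 D3009) D3008
theorem F10895 : act 7 n6689 = n6569 := d13_2 (iv7 F4711) D6689 (iv5 D6569)
def n6690 : Q := act 6 n3008
theorem D6690 : act 6 n3008 = n6690 := rfl
theorem F10896 : act 3 n6690 = n3010 := d7_1 D6690 (iv6 D3010) D3008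
def n6691 : Q := act 4 n3009
theorem D6691 : act 4 n3009 = n6691 := rfl
theorem F10897 : act 2 n6691 = n6586 := d1_1 D6691 (iv4 D6586) (iv2 F4712)
theorem F10898 : act 7 n6691 = n6572 := d11_2 (iv7 F4713) D6691 (iv4 D6572)
def n6692 : Q := act 6 n3009
theorem D6692 : act 6 n3009 = n6692 := rfl
theorem F10899 : act 2 n6692 = n6587 := d3_1 D6692 (iv6 D6587) (iv2 F4712)
def n6693 : Q := act 5 n3010
theorem D6693 : act 5 n3010 = n6693 := rfl
theorem F10900 : act 2 n6693 = n6588 := d2_1 D6693 (iv5 D6588) (iv2 F4714)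
theorem F10901 : act 0 n6693 = n3482 := d17_2 (iv1 F4944) D6693 (iv5 D3482) F5460 D2204 F8148 F8147 F7995 F4907
theorem F10902 : act 1 n6693 = n3478 := d17_6 D835 D1539 F4720 (iv5 D3012) (iv4 F4715) D6693 (iv5 D3478) (iv0 D1532) F1578
def n6694 : Q := act 3 n3011
theorem D6694 : act 3 n3011 = n6694 := rfl
theorem F10903 : act 7 n6694 = n6579 := d8_2 (iv7 F4717) D6694 (iv3 D6579)
def n6695 : Q := act 5 n3011
theorem D6695 : act 5 n3011 = n6695 := rfl
theorem F10904 : act 2 n6695 = n6590 := d2_1 D6695 (iv5 D6590) (iv2 F4716)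
theorem F10905 : act 7 n6695 = n6580 := d13_2 (iv7 F4717) D6695 (iv5 D6580)
theorem F10906 : act 0 n6695 = n5987 := d17_2 (iv1 F10865) D6695 (iv5 D5987) F4019 (iv5 D1284) D1283 D2801 (iv0 F8082) (iv4 F10864)
def n6696 : Q := act 4 n3012
theorem D6696 : act 4 n3012 = n6696 := rfl
theorem F10907 : act 2 n6696 = n6591 := d1_1 D6696 (iv4 D6591) (iv2 F4718)
theorem F10908 : act 0 n6696 = n5360 := d18_2 F4720 D6696 (iv4 D5360) (iv5 D2204) (iv4 F5460) F2675 F2535 F2189 D1539
theorem F10909 : act 1 n6696 = n5358 := d18_6 F3702 F4907 (iv1 F4944) F4715 D3012 D6696 (iv4 D5358) D5357 (iv5 F8153)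
def n6697 : Q := act 3 n3014
theorem D6697 : act 3 n3014 = n6697 := rfl
theorem F10910 : act 4 n6697 = n6600 := d5_2 D3014 D6697 (iv3 D6600) (iv4 F5102) F10061
theorem F10911 : act 7 n6697 = n6597 := d8_2 (iv7 F4723) D6697 (iv3 D6597)
def n6698 : Q := act 5 n3014
theorem D6698 : act 5 n3014 = n6698 := rfl
theorem F10912 : act 2 n6698 = n6595 := d2_1 D6698 (iv5 D6595) (iv2 F4722)
theorem F10913 : act 7 n6698 = n6598 := d13_2 (iv7 F4723) D6698 (iv5 D6598)
def n6699 : Q := act 6 n3014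
theorem D6699 : act 6 n3014 = n6699 := rfl
theorem F10914 : act 2 n6699 = n6596 := d3_1 D6699 (iv6 D6596) (iv2 F4722)
theorem F10915 : act 4 n6699 = n3015 := d10_1 D6699 (iv6 D3015) D3014
def n6700 : Q := act 4 n3016
theorem D6700 : act 4 n3016 = n6700 := rfl
theorem F10916 : act 7 n6700 = n6592 := d11_2 (iv7 F4728) D6700 (iv4 D6592)
theorem F10917 : act 0 n6700 = n5777 := d18_2 (iv1 F10001) D6700 F8897 (iv5 D2781) (iv4 F3760) (iv0 F7730) (iv4 D3005) (iv0 F10048) (iv5 F8780)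
def n6701 : Q := act 6 n3016
theorem D6701 : act 6 n3016 = n6701 := rfl
theorem F10918 : act 3 n6701 = n3018 := d7_1 D6701 (iv6 D3018) D3016
theorem F10919 : act 5 n6701 = n5736 := d12_1 D6701 F9999 (iv5 D2678) D2679 (iv5 F4727)
theorem F10920 : act 7 n6688 = n6701 := d13_0 F10919 (iv7 F10022) D6688
theorem F10921 : act 0 n5509 = n6701 := d21_1 D5509 F10919 F9999 (iv1 F9996) (iv6 F8839) F8838 F8104 F7909 F3527 (iv1 F3637)
theorem F10922 : act 0 n6701 = n5313 := d21_7 D5657 F8691 (iv5 D2404) D2405 F9997 (iv6 F9999) (iv5 F10919) (iv5 D5313) D5314 F8550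
def n6702 : Q := act 3 n3017
theorem D6702 : act 3 n3017 = n6702 := rfl
theorem F10923 : act 7 n6702 = n6594 := d8_2 (iv7 F4730) D6702 (iv3 D6594)
def n6703 : Q := act 5 n3017
theorem D6703 : act 5 n3017 = n6703 := rfl
theorem F10924 : act 2 n6703 = n6598 := d2_1 D6703 (iv5 D6598) (iv2 F4729)
theorem F10925 : act 7 n6703 = n6595 := d13_2 (iv7 F4730) D6703 (iv5 D6595)
def n6704 : Q := act 6 n3017
theorem D6704 : act 6 n3017 = n6704 := rfl
theorem F10926 : act 2 n6704 = n6599 := d3_1 D6704 (iv6 D6599) (iv2 F4729)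
theorem F10927 : act 4 n6704 = n3018 := d10_1 D6704 (iv6 D3018) D3017
theorem F10928 : act 7 n6696 = n6704 := d11_0 F10927 (iv7 F4733) D6696
theorem F10929 : act 0 n5325 = n6704 := d18_2 (iv1 F7939) D5325 F10927 F4732 (iv4 F8963) F8962 F4945 (iv0 F7990) (iv5 F7938)
theorem F10930 : act 1 n5317 = n6704 := d18_6 (iv1 D1188) (iv4 F1506) D1393 (iv4 F4928) D2177 D5317 F10927 (iv0 F4734) (iv5 D2549)
def n6705 : Q := act 3 n3019
theorem D6705 : act 3 n3019 = n6705 := rfl
theorem F10931 : act 7 n6705 = n6603 := d8_2 (iv7 F8051) D6705 (iv3 D6603)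
def n6706 : Q := act 5 n3019
theorem D6706 : act 5 n3019 = n6706 := rfl
theorem F10932 : act 2 n6706 = n6601 := d2_1 D6706 (iv5 D6601) F8050
theorem F10933 : act 7 n6706 = n6604 := d13_2 (iv7 F8051) D6706 (iv5 D6604)
def n6707 : Q := act 6 n3019
theorem D6707 : act 6 n3019 = n6707 := rfl
theorem F10934 : act 2 n6707 = n6602 := d3_1 D6707 (iv6 D6602) F8050
theorem F10935 : act 4 n6707 = n3688 := d10_1 D6707 F5703 F7729
def n6708 : Q := act 3 n3020
theorem D6708 : act 3 n3020 = n6708 := rfl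
theorem F10936 : act 4 n6708 = n6597 := d5_2 F7733 D6708 (iv3 D6597) (iv4 D2952) (iv3 F10046)
theorem F10937 : act 7 n6708 = n6600 := d8_2 F8048 D6708 (iv3 D6600)
def n6709 : Q := act 5 n3020
theorem D6709 : act 5 n3020 = n6709 := rfl
theorem F10938 : act 2 n6709 = n6604 := d2_1 D6709 (iv5 D6604) (iv2 F8049)
theorem F10939 : act 7 n6709 = n6601 := d13_2 F8048 D6709 (iv5 D6601)
def n6710 : Q := act 6 n3020
theorem D6710 : act 6 n3020 = n6710 := rfl
theorem F10940 : act 2 n6710 = n6605 := d3_1 D6710 (iv6 D6605) (iv2 F8049)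
theorem F10941 : act 4 n6710 = n5357 := d10_1 D6710 F8155 F7733
theorem F10942 : act 0 n6040 = n6710 := d18_2 F4696 D6040 F10941 (iv5 F8153) (iv4 F8665) (iv0 F8668) F5020 (iv0 F4539) D2947
theorem F10943 : act 1 n6039 = n6710 := d18_6 (iv1 D1077) (iv4 F1994) D2192 F5270 D2545 D6039 F10941 F8151 (iv5 D2204)
def n6711 : Q := act 0 n3021
theorem D6711 : act 0 n3021 = n6711 := rfl
def n6712 : Q := act 1 n3021
theorem D6712 : act 1 n3021 = n6712 := rfl
def n6713 : Q := act 2 n3021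
theorem D6713 : act 2 n3021 = n6713 := rfl
theorem F10945 : act 6 n6713 = n5962 := d3_2 (iv6 F4737) D6713 (iv2 D5962)
def n6714 : Q := act 5 n3021
theorem D6714 : act 5 n3021 = n6714 := rfl
theorem F10946 : act 3 n6714 = n3022 := d6_1 D6714 (iv5 D3022) D3021
def n6715 : Q := act 7 n3021
theorem D6715 : act 7 n3021 = n6715 := rfl
def n6716 : Q := act 0 n3022
theorem D6716 : act 0 n3022 = n6716 := rfl
theorem F10948 : act 5 n6716 = n6391 := d17_3 (iv1 D3020) D3022 D6716 (iv4 D6391) (iv5 D2786) (iv0 D1278) D1280 (iv0 F3706) F7733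
theorem F10949 : act 2 n6611 = n6716 := d2_3 F10948 (iv2 F10433) (iv5 F10708)
theorem F10950 : act 7 n6612 = n6716 := d13_0 F10948 (iv7 F10438) (iv5 F10709)
theorem F10951 : act 1 n6615 = n6716 := d17_6 (iv1 D3000) (iv5 D1348) (iv1 F1491) (iv5 F2451) (iv4 F4649) (iv5 F10711) F10948 (iv0 F10862) (iv4 D6677)
def n6717 : Q := act 1 n3022
theorem D6717 : act 1 n3022 = n6717 := rfl
theorem F10952 : act 1 n6717 = n6615 := d15_1 D6717 (iv7 D6615) (iv2 F4738)
theorem F10953 : act 7 n6717 = n6611 := d15_2 (iv0 D6716) D6717 F10949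
theorem F10954 : act 5 n6717 = n6392 := d17_7 (iv1 F4692) (iv5 D1352) (iv1 D771) D772 D1356 D3022 D6717 (iv0 F10858) (iv4 D6676)
theorem F10955 : act 2 n6612 = n6717 := d2_3 F10954 (iv2 F10436) (iv5 F10709)
def n6718 : Q := act 4 n3022
theorem D6718 : act 4 n3022 = n6718 := rfl
theorem F10956 : act 2 n6718 = n6613 := d1_1 D6718 (iv4 D6613) (iv2 F4738)
theorem F10957 : act 5 n6718 = n6562 := d9_2 D3022 D6718 F10620 F4519 F2444 (iv5 F2451) (iv4 F4649) (iv5 F10711) (iv4 F10825) (iv5 D6665) (iv4 D2988) (iv5 D1343) F1485 D772 D1356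
theorem F10958 : act 7 n6561 = n6718 := d13_0 F10957 (iv7 D6562) D6561
def n6719 : Q := act 6 n3022
theorem D6719 : act 6 n3022 = n6719 := rfl
theorem F10959 : act 2 n6719 = n6614 := d3_1 D6719 (iv6 D6614) (iv2 F4738)
theorem F10960 : act 5 n6719 = n5964 := d12_1 D6719 (iv6 D5964) (iv5 D2517) (iv6 F2476) D3022
def n6720 : Q := act 7 n3022
theorem D6720 : act 7 n3022 = n6720 := rfl
theorem F10961 : act 2 n6720 = n6615 := d4_1 D6720 (iv7 D6615) (iv2 F4738)
theorem F10962 : act 4 n6720 = n6561 := d11_1 D6720 F10958 (iv4 D6718)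
theorem F10963 : act 5 n6720 = n3023 := d13_1 D6720 (iv7 D3023) D3022
theorem F10964 : act 1 n6612 = n6720 := d15_1 D6612 (iv7 D6720) F4738
theorem F10965 : act 1 n6720 = n6611 := d15_1 F10964 (iv7 F10953) (iv2 F10955)
def n6721 : Q := act 6 n3024
theorem D6721 : act 6 n3024 = n6721 := rfl
theorem F10966 : act 3 n6721 = n5302 := d7_1 D6721 (iv6 D5302) (iv3 F4744)
theorem F10967 : act 4 n6721 = n3025 := d10_1 D6721 (iv6 D3025) D3024
def n6722 : Q := act 0 n3025
theorem D6722 : act 0 n3025 = n6722 := rfl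
def n6723 : Q := act 1 n3025
theorem D6723 : act 1 n3025 = n6723 := rfl
def n6724 : Q := act 5 n3025
theorem D6724 : act 5 n3025 = n6724 := rfl
theorem F10968 : act 6 n6724 = n5551 := d12_2 D3025 D6724 (iv5 D5551) (iv6 D2306) (iv5 F2482)
def n6725 : Q := act 7 n3025
theorem D6725 : act 7 n3025 = n6725 := rfl
theorem F10969 : act 6 n6725 = n6725 := d14_1 D6725 (iv7 D6725) (iv6 D3025) F2483 D3025
def n6726 : Q := act 6 n3026
theorem D6726 : act 6 n3026 = n6726 := rfl
theorem F10970 : act 3 n6726 = n3028 := d7_1 D6726 (iv6 D3028) D3026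
def n6727 : Q := act 6 n3027
theorem D6727 : act 6 n3027 = n6727 := rfl
theorem F10971 : act 2 n6727 = n6721 := d3_1 D6727 (iv6 D6721) (iv2 F4751)
theorem F10972 : act 4 n6727 = n3028 := d10_1 D6727 (iv6 D3028) D3027
def n6728 : Q := act 0 n3028
theorem D6728 : act 0 n3028 = n6728 := rfl
def n6729 : Q := act 1 n3028
theorem D6729 : act 1 n3028 = n6729 := rfl
def n6730 : Q := act 5 n3028
theorem D6730 : act 5 n3028 = n6730 := rfl
theorem F10974 : act 2 n6730 = n6724 := d2_1 D6730 (iv5 D6724) (iv2 F4754)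
theorem F10975 : act 6 n6730 = n5557 := d12_2 D3028 D6730 (iv5 D5557) (iv6 D2308) F2489
def n6731 : Q := act 7 n3028
theorem D6731 : act 7 n3028 = n6731 := rfl
theorem F10976 : act 2 n6731 = n6725 := d4_1 D6731 (iv7 D6725) (iv2 F4754)
theorem F10977 : act 6 n6731 = n6731 := d14_1 D6731 (iv7 D6731) (iv6 D3028) F2490 D3028
theorem F10978 : act 1 n6725 = n6728 := d15_0 (iv0 D6728) D6731 F10976
theorem F10980 : act 1 n6731 = n6722 := d15_0 (iv0 D6722) D6725 (iv2 F10976)
def n6732 : Q := act 0 n3029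
theorem D6732 : act 0 n3029 = n6732 := rfl
def n6733 : Q := act 1 n3029
theorem D6733 : act 1 n3029 = n6733 := rfl
theorem F10981 : act 1 n6733 = n3033 := d15_1 D6733 (iv7 D3033) (iv2 F4755)
theorem F10982 : act 3 n6529 = n6733 := d20_9 F4756 (iv1 F10311) (iv4 F10753) (iv3 D6629) (iv1 F7762) (iv3 F10593) F10594 (iv1 F10597) D6529 (iv1 D6733)
def n6734 : Q := act 5 n3029
theorem D6734 : act 5 n3029 = n6734 := rfl
theorem F10983 : act 2 n6734 = n3032 := d2_1 D6734 (iv5 D3032) (iv2 F4755)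
def n6735 : Q := act 7 n3029
theorem D6735 : act 7 n3029 = n6735 := rfl
theorem F10984 : act 2 n6735 = n3033 := d4_1 D6735 (iv7 D3033) (iv2 F4755)
theorem F10985 : act 4 n6735 = n5558 := d11_1 D6735 (iv7 D5558) (iv4 F4756)
theorem F10986 : act 6 n6735 = n6735 := d14_1 D6735 (iv7 D6735) (iv6 D3029) F2485 D3029
theorem F10987 : act 1 n3033 = n6732 := d15_0 (iv0 D6732) D6735 F10984
theorem F10988 : act 1 n3031 = n6735 := d15_1 D3031 (iv7 D6735) F4755
theorem F10989 : act 1 n6735 = n3030 := d15_0 (iv0 D3030) D3033 (iv2 F10984)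
def n6736 : Q := act 2 n3030
theorem D6736 : act 2 n3030 = n6736 := rfl
theorem F10990 : act 7 n3031 = n6736 := d15_2 (iv0 D3030) D3031 (iv2 D6736)
def n6737 : Q := act 3 n3030
theorem D6737 : act 3 n3030 = n6737 := rfl
theorem F10991 : act 4 n6737 = n6518 := d20_6 F7731 (iv1 D1279) (iv4 F1495) (iv3 F2491) D3030 D6737 (iv1 F10596) F4513 F4512 (iv1 F2462)
def n6738 : Q := act 4 n3030
theorem D6738 : act 4 n3030 = n6738 := rfl
def n6739 : Q := act 5 n3030
theorem D6739 : act 5 n3030 = n6739 := rfl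
def n6740 : Q := act 6 n3030
theorem D6740 : act 6 n3030 = n6740 := rfl
def n6741 : Q := act 7 n3030
theorem D6741 : act 7 n3030 = n6741 := rfl
theorem F10992 : act 2 n6741 = n3031 := d4_1 D6741 F10990 (iv2 D6736)
def n6742 : Q := act 3 n3031
theorem D6742 : act 3 n3031 = n6742 := rfl
def n6743 : Q := act 4 n3031
theorem D6743 : act 4 n3031 = n6743 := rfl
def n6744 : Q := act 5 n3031
theorem D6744 : act 5 n3031 = n6744 := rfl
def n6745 : Q := act 6 n3031
theorem D6745 : act 6 n3031 = n6745 := rfl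
def n6746 : Q := act 0 n3032
theorem D6746 : act 0 n3032 = n6746 := rfl
def n6747 : Q := act 1 n3032
theorem D6747 : act 1 n3032 = n6747 := rfl
def n6748 : Q := act 4 n3032
theorem D6748 : act 4 n3032 = n6748 := rfl
def n6749 : Q := act 7 n3032
theorem D6749 : act 7 n3032 = n6749 := rfl
theorem F10993 : act 3 n6749 = n3047 := d8_1 D6749 (iv7 D3047) (iv3 F4757)
theorem F10994 : act 5 n6749 = n3033 := d13_1 D6749 (iv7 D3033) D3032
def n6750 : Q := act 3 n3044
theorem D6750 : act 3 n3044 = n6750 := rfl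
def n6751 : Q := act 6 n3044
theorem D6751 : act 6 n3044 = n6751 := rfl
def n6752 : Q := act 3 n3045
theorem D6752 : act 3 n3045 = n6752 := rfl
theorem F10995 : act 5 n6752 = n5581 := d6_2 F4763 D6752 F8504
def n6753 : Q := act 6 n3045
theorem D6753 : act 6 n3045 = n6753 := rfl
theorem F10996 : act 5 n6753 = n5585 := d12_1 D6753 (iv6 D5585) (iv5 D2317) D2318 F4763
def n6754 : Q := act 3 n3046
theorem D6754 : act 3 n3046 = n6754 := rfl
def n6755 : Q := act 5 n3046
theorem D6755 : act 5 n3046 = n6755 := rfl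
def n6756 : Q := act 7 n3046
theorem D6756 : act 7 n3046 = n6756 := rfl
theorem F10997 : act 4 n6756 = n3047 := d11_1 D6756 (iv7 D3047) D3046
theorem F10998 : act 1 n6556 = n6756 := d15_1 (iv0 F10616) (iv7 D6756) (iv2 F4796)
theorem F10999 : act 1 n6756 = n6553 := d15_1 F10998 (iv7 F10811) F10810
def n6757 : Q := act 6 n3047
theorem D6757 : act 6 n3047 = n6757 := rfl
theorem F11000 : act 5 n6757 = n6757 := d12_1 D6757 (iv6 D6757) F4764 F2493 (iv5 F4764)
def n6758 : Q := act 6 n3048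
theorem D6758 : act 6 n3048 = n6758 := rfl
theorem F11001 : act 2 n6758 = n5171 := d3_1 D6758 (iv6 D5171) (iv2 F4765)
theorem F11002 : act 3 n6758 = n3049 := d7_1 D6758 (iv6 D3049) D3048
def n6759 : Q := act 5 n3049
theorem D6759 : act 5 n3049 = n6759 := rfl
theorem F11003 : act 2 n6759 = n5229 := d2_1 D6759 (iv5 D5229) (iv2 F4770)
theorem F11004 : act 6 n6759 = n5378 := d12_2 D3049 D6759 (iv5 D5378) (iv6 D2214) (iv5 F2501)
def n6760 : Q := act 6 n3050
theorem D6760 : act 6 n3050 = n6760 := rfl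
theorem F11005 : act 2 n6760 = n3054 := d3_1 D6760 (iv6 D3054) (iv2 F4772)
theorem F11006 : act 4 n6760 = n3051 := d10_1 D6760 (iv6 D3051) D3050
def n6761 : Q := act 0 n3051
theorem D6761 : act 0 n3051 = n6761 := rfl
def n6762 : Q := act 1 n3051
theorem D6762 : act 1 n3051 = n6762 := rfl
theorem F11007 : act 1 n6762 = n3058 := d15_1 D6762 (iv7 D3058) (iv2 F4774)
theorem F11008 : act 3 n5193 = n6762 := d20_3 F7758 (iv1 F3509) D5193 (iv1 D6762) F4775 F4756 (iv1 F10311) (iv4 F10753) (iv3 D6629) (iv1 F7762)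
theorem F11009 : act 4 n6762 = n3117 := d5_2 D5193 F11008 (iv3 D3117) (iv4 F4931) F10236
theorem F11010 : act 7 n6762 = n3055 := d8_2 F10264 F11008 F7764
theorem F11011 : act 2 n3055 = n6761 := d15_3 (iv0 D6761) D6762 F11010
theorem F11012 : act 7 n3056 = n6761 := d15_2 (iv0 D3055) D3056 (iv2 F11011)
theorem F11013 : act 2 n6762 = n3056 := d4_3 F11012 (iv2 F11011) (iv7 F11010)
theorem F11014 : act 1 n3058 = n6761 := d15_1 F11007 (iv7 F11012) (iv2 F11013)
def n6763 : Q := act 5 n3051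
theorem D6763 : act 5 n3051 = n6763 := rfl
theorem F11015 : act 2 n6763 = n3057 := d2_1 D6763 (iv5 D3057) (iv2 F4774)
theorem F11016 : act 3 n6763 = n6734 := d6_1 D6763 (iv5 D6734) (iv3 F4775)
theorem F11017 : act 6 n6763 = n6734 := d12_2 D3051 D6763 (iv5 D6734) (iv6 D3029) (iv5 F2495)
def n6764 : Q := act 7 n3051
theorem D6764 : act 7 n3051 = n6764 := rfl
theorem F11018 : act 2 n6764 = n3058 := d4_1 D6764 (iv7 D3058) (iv2 F4774)
theorem F11019 : act 3 n6764 = n6735 := d8_1 D6764 (iv7 D6735) (iv3 F4775)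
theorem F11020 : act 6 n6764 = n6764 := d14_1 D6764 (iv7 D6764) (iv6 D3051) F2496 D3051
theorem F11021 : act 1 n3056 = n6764 := d15_1 D3056 (iv7 D6764) F4774
theorem F11022 : act 1 n6764 = n3055 := d15_1 F11021 (iv7 F11010) F11013
def n6765 : Q := act 6 n3052
theorem D6765 : act 6 n3052 = n6765 := rfl
theorem F11023 : act 3 n6765 = n5338 := d7_1 D6765 (iv6 D5338) F4778
def n6766 : Q := act 6 n3053
theorem D6766 : act 6 n3053 = n6766 := rfl
theorem F11024 : act 2 n6766 = n6765 := d3_1 D6766 (iv6 D6765) F4783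
theorem F11025 : act 4 n6766 = n6508 := d10_1 D6766 (iv6 D6508) (iv4 F4781)
def n6767 : Q := act 0 n3054
theorem D6767 : act 0 n3054 = n6767 := rfl
def n6768 : Q := act 1 n3054
theorem D6768 : act 1 n3054 = n6768 := rfl
def n6769 : Q := act 5 n3054
theorem D6769 : act 5 n3054 = n6769 := rfl
theorem F11026 : act 3 n6769 = n5672 := d6_1 D6769 (iv5 D5672) (iv3 F4785)
def n6770 : Q := act 7 n3054
theorem D6770 : act 7 n3054 = n6770 := rfl
theorem F11027 : act 3 n6770 = n5673 := d8_1 D6770 (iv7 D5673) (iv3 F4785)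
theorem F11028 : act 4 n6770 = n3058 := d11_1 D6770 (iv7 D3058) (iv4 F4786)
theorem F11029 : act 6 n6770 = n6770 := d14_1 D6770 (iv7 D6770) (iv6 D3054) F2504 D3054
def n6771 : Q := act 5 n3055
theorem D6771 : act 5 n3055 = n6771 := rfl
def n6772 : Q := act 6 n3055
theorem D6772 : act 6 n3055 = n6772 := rfl
def n6773 : Q := act 3 n3056
theorem D6773 : act 3 n3056 = n6773 := rfl
def n6774 : Q := act 4 n3056
theorem D6774 : act 4 n3056 = n6774 := rfl
theorem F11030 : act 2 n6774 = n3117 := d1_1 D6774 (iv4 F11009) F11013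
theorem F11031 : act 3 n5556 = n6774 := d20_5 F10074 (iv1 F7653) (iv4 F8789) F8788 (iv1 F8471) (iv4 D6774) (iv1 D3056) (iv4 F4786) F4785 D5670
def n6775 : Q := act 5 n3056
theorem D6775 : act 5 n3056 = n6775 := rfl
def n6776 : Q := act 6 n3056
theorem D6776 : act 6 n3056 = n6776 := rfl
def n6777 : Q := act 0 n3057
theorem D6777 : act 0 n3057 = n6777 := rfl
def n6778 : Q := act 1 n3057
theorem D6778 : act 1 n3057 = n6778 := rfl
def n6779 : Q := act 4 n3057
theorem D6779 : act 4 n3057 = n6779 := rfl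
theorem F11032 : act 6 n6779 = n6748 := d10_2 (iv6 F4788) D6779 (iv4 D6748)
def n6780 : Q := act 7 n3057
theorem D6780 : act 7 n3057 = n6780 := rfl
theorem F11033 : act 3 n6780 = n3072 := d8_1 D6780 (iv7 D3072) (iv3 F4787)
theorem F11034 : act 5 n6780 = n3058 := d13_1 D6780 (iv7 D3058) D3057
def n6781 : Q := act 3 n3069
theorem D6781 : act 3 n3069 = n6781 := rfl
theorem F11035 : act 7 n6781 = n6752 := d8_2 (iv7 F4987) D6781 (iv3 D6752)
def n6782 : Q := act 6 n3069
theorem D6782 : act 6 n3069 = n6782 := rfl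
theorem F11036 : act 2 n6782 = n6751 := d3_1 D6782 (iv6 D6751) (iv2 F4989)
def n6783 : Q := act 3 n3070
theorem D6783 : act 3 n3070 = n6783 := rfl
theorem F11037 : act 5 n6783 = n5403 := d6_2 F4795 D6783 F8220
theorem F11038 : act 7 n6783 = n6750 := d8_2 F4988 D6783 (iv3 D6750)
theorem F11039 : act 0 n6783 = n5796 := d21_7 (iv5 F2670) (iv1 F2673) F3484 D3090 F10163 D5403 (iv5 F11037) (iv5 D5796) (iv6 D2425) (iv1 F2102)
def n6784 : Q := act 6 n3070
theorem D6784 : act 6 n3070 = n6784 := rfl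
theorem F11040 : act 2 n6784 = n6753 := d3_1 D6784 (iv6 D6753) F4986
theorem F11041 : act 5 n6784 = n5406 := d12_1 D6784 (iv6 D5406) (iv5 D2223) D2224 F4795
def n6785 : Q := act 3 n3071
theorem D6785 : act 3 n3071 = n6785 := rfl
theorem F11042 : act 6 n6785 = n6754 := d7_2 (iv6 F4797) D6785 (iv3 D6754)
def n6786 : Q := act 5 n3071
theorem D6786 : act 5 n3071 = n6786 := rfl
theorem F11043 : act 2 n6786 = n6755 := d2_1 D6786 (iv5 D6755) (iv2 F4796)
def n6787 : Q := act 7 n3071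
theorem D6787 : act 7 n3071 = n6787 := rfl
theorem F11044 : act 2 n6787 = n6756 := d4_1 D6787 (iv7 D6756) (iv2 F4796)
theorem F11045 : act 4 n6787 = n3072 := d11_1 D6787 (iv7 D3072) D3071
theorem F11046 : act 1 n6660 = n6787 := d15_1 (iv0 F10812) (iv7 D6787) F4796
theorem F11047 : act 1 n6787 = n6657 := d15_1 F11046 F10805 (iv2 F10810)
def n6788 : Q := act 6 n3072
theorem D6788 : act 6 n3072 = n6788 := rfl
theorem F11048 : act 2 n6788 = n6757 := d3_1 D6788 (iv6 D6757) (iv2 F4798)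
theorem F11049 : act 5 n6788 = n6788 := d12_1 D6788 (iv6 D6788) F4799 F2511 (iv5 F4799)
theorem F11050 : act 7 n6788 = n6757 := d14_2 D3072 D6788 (iv6 D6757) (iv7 D3047) (iv6 F2508)
def n6789 : Q := act 0 n3073
theorem D6789 : act 0 n3073 = n6789 := rfl
def n6790 : Q := act 1 n3073
theorem D6790 : act 1 n3073 = n6790 := rfl
def n6791 : Q := act 5 n3073
theorem D6791 : act 5 n3073 = n6791 := rfl
theorem F11051 : act 3 n6791 = n3077 := d6_1 D6791 (iv5 D3077) (iv3 F4803)
def n6792 : Q := act 7 n3073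
theorem D6792 : act 7 n3073 = n6792 := rfl
theorem F11052 : act 3 n6792 = n3078 := d8_1 D6792 (iv7 D3078) (iv3 F4803)
theorem F11053 : act 4 n6792 = n3083 := d11_1 D6792 (iv7 D3083) (iv4 F4804)
theorem F11054 : act 6 n6792 = n6792 := d14_1 D6792 (iv7 D6792) (iv6 D3073) F3757 D3073
def n6793 : Q := act 0 n3074
theorem D6793 : act 0 n3074 = n6793 := rfl
def n6794 : Q := act 1 n3074
theorem D6794 : act 1 n3074 = n6794 := rfl
theorem F11055 : act 1 n6794 = n6792 := d15_1 D6794 (iv7 D6792) (iv2 F4805)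
def n6795 : Q := act 5 n3074
theorem D6795 : act 5 n3074 = n6795 := rfl
theorem F11056 : act 2 n6795 = n6791 := d2_1 D6795 (iv5 D6791) (iv2 F4805)
def n6796 : Q := act 7 n3074
theorem D6796 : act 7 n3074 = n6796 := rfl
theorem F11057 : act 2 n6796 = n6792 := d4_1 D6796 (iv7 D6792) (iv2 F4805)
theorem F11058 : act 4 n6796 = n3078 := d11_1 D6796 (iv7 D3078) (iv4 F4806)
theorem F11059 : act 6 n6796 = n6796 := d14_1 D6796 (iv7 D6796) (iv6 D3074) F3743 D3074
theorem F11060 : act 1 n6792 = n6793 := d15_0 (iv0 D6793) D6796 F11057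
theorem F11061 : act 1 n6790 = n6796 := d15_1 D6790 (iv7 D6796) F4805
theorem F11062 : act 1 n6796 = n6789 := d15_0 (iv0 D6789) D6792 (iv2 F11057)
def n6797 : Q := act 2 n3075
theorem D6797 : act 2 n3075 = n6797 := rfl
def n6798 : Q := act 3 n3075
theorem D6798 : act 3 n3075 = n6798 := rfl
def n6799 : Q := act 4 n3075
theorem D6799 : act 4 n3075 = n6799 := rfl
def n6800 : Q := act 5 n3075
theorem D6800 : act 5 n3075 = n6800 := rfl
def n6801 : Q := act 6 n3075
theorem D6801 : act 6 n3075 = n6801 := rfl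
def n6802 : Q := act 7 n3075
theorem D6802 : act 7 n3075 = n6802 := rfl
def n6807 : Q := act 0 n3077
theorem D6807 : act 0 n3077 = n6807 := rfl
def n6808 : Q := act 1 n3077
theorem D6808 : act 1 n3077 = n6808 := rfl
def n6809 : Q := act 4 n3077
theorem D6809 : act 4 n3077 = n6809 := rfl
def n6810 : Q := act 7 n3077
theorem D6810 : act 7 n3077 = n6810 := rfl
theorem F11065 : act 5 n6810 = n3078 := d13_1 D6810 (iv7 D3078) D3077
def n6811 : Q := act 0 n3079
theorem D6811 : act 0 n3079 = n6811 := rfl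
def n6812 : Q := act 1 n3079
theorem D6812 : act 1 n3079 = n6812 := rfl
def n6813 : Q := act 5 n3079
theorem D6813 : act 5 n3079 = n6813 := rfl
theorem F11066 : act 3 n6813 = n3082 := d6_1 D6813 (iv5 D3082) (iv3 F4808)
theorem F11067 : act 6 n6813 = n5220 := d12_2 D3079 D6813 (iv5 D5220) (iv6 D2143) (iv5 F3740)
def n6814 : Q := act 7 n3079
theorem D6814 : act 7 n3079 = n6814 := rfl
theorem F11068 : act 3 n6814 = n3083 := d8_1 D6814 (iv7 D3083) (iv3 F4808)
theorem F11069 : act 6 n6814 = n6814 := d14_1 D6814 (iv7 D6814) (iv6 D3079) F3741 D3079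
def n6815 : Q := act 2 n3080
theorem D6815 : act 2 n3080 = n6815 := rfl
theorem F11070 : act 7 n3081 = n6815 := d15_2 (iv0 D3080) D3081 (iv2 D6815)
def n6820 : Q := act 7 n3080
theorem D6820 : act 7 n3080 = n6820 := rfl
theorem F11071 : act 2 n6820 = n3081 := d4_1 D6820 F11070 (iv2 D6815)
def n6821 : Q := act 3 n3081
theorem D6821 : act 3 n3081 = n6821 := rfl
def n6822 : Q := act 4 n3081
theorem D6822 : act 4 n3081 = n6822 := rfl
def n6823 : Q := act 5 n3081
theorem D6823 : act 5 n3081 = n6823 := rfl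
def n6824 : Q := act 6 n3081
theorem D6824 : act 6 n3081 = n6824 := rfl
def n6825 : Q := act 0 n3082
theorem D6825 : act 0 n3082 = n6825 := rfl
def n6826 : Q := act 1 n3082
theorem D6826 : act 1 n3082 = n6826 := rfl
theorem F11072 : act 1 n6826 = n6810 := d15_1 D6826 (iv7 D6810) (iv2 F4810)
def n6827 : Q := act 4 n3082
theorem D6827 : act 4 n3082 = n6827 := rfl
theorem F11073 : act 2 n6827 = n6809 := d1_1 D6827 (iv4 D6809) (iv2 F4810)
def n6828 : Q := act 7 n3082
theorem D6828 : act 7 n3082 = n6828 := rfl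
theorem F11074 : act 2 n6828 = n6810 := d4_1 D6828 (iv7 D6810) (iv2 F4810)
theorem F11075 : act 5 n6828 = n3083 := d13_1 D6828 (iv7 D3083) D3082
theorem F11076 : act 1 n6810 = n6825 := d15_0 (iv0 D6825) D6828 F11074
theorem F11077 : act 1 n6808 = n6828 := d15_1 D6808 (iv7 D6828) F4810
theorem F11078 : act 1 n6828 = n6807 := d15_0 (iv0 D6807) D6810 (iv2 F11074)
def n6829 : Q := act 1 n3084
theorem D6829 : act 1 n3084 = n6829 := rfl
theorem F11079 : act 1 n6829 = n3096 := d15_1 D6829 (iv7 D3096) (iv2 F4816)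
theorem F11080 : act 7 n6829 = n3093 := d15_2 (iv0 F10768) D6829 (iv2 F10769)
theorem F11081 : act 2 n3094 = n6829 := d4_3 F11080 (iv2 F10769) F10767
theorem F11082 : act 4 n6546 = n6829 := d11_3 F11080 F10770 F10762
def n6830 : Q := act 5 n3084
theorem D6830 : act 5 n3084 = n6830 := rfl
theorem F11083 : act 2 n6830 = n3095 := d2_1 D6830 (iv5 D3095) (iv2 F4816)
theorem F11084 : act 6 n6830 = n3087 := d12_2 D3084 D6830 (iv5 D3087) (iv6 D1384) D1383
def n6831 : Q := act 7 n3084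
theorem D6831 : act 7 n3084 = n6831 := rfl
theorem F11085 : act 2 n6831 = n3096 := d4_1 D6831 (iv7 D3096) (iv2 F4816)
theorem F11086 : act 6 n6831 = n6831 := d14_1 D6831 (iv7 D6831) (iv6 D3084) F2519 D3084
theorem F11087 : act 1 n3094 = n6831 := d15_1 D3094 (iv7 D6831) F4816
theorem F11088 : act 1 n6831 = n3093 := d15_1 F11087 (iv7 F11080) (iv2 F11081)
def n6832 : Q := act 2 n3085
theorem D6832 : act 2 n3085 = n6832 := rfl
theorem F11089 : act 7 n3086 = n6832 := d15_2 (iv0 D3085) D3086 (iv2 D6832)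
def n6833 : Q := act 3 n3085
theorem D6833 : act 3 n3085 = n6833 := rfl
def n6834 : Q := act 5 n3085
theorem D6834 : act 5 n3085 = n6834 := rfl
def n6835 : Q := act 6 n3085
theorem D6835 : act 6 n3085 = n6835 := rfl
def n6836 : Q := act 7 n3085
theorem D6836 : act 7 n3085 = n6836 := rfl
def n6837 : Q := act 4 n3086
theorem D6837 : act 4 n3086 = n6837 := rfl
theorem F11091 : act 0 n6837 = n5171 := d20_1 D6837 (iv4 F8402) F8401 F9958 (iv3 F9952) (iv4 D1155) (iv1 F1314) (iv4 F1507) (iv3 F2532) (iv1 F4817)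
def n6838 : Q := act 5 n3086
theorem D6838 : act 5 n3086 = n6838 := rfl
def n6839 : Q := act 6 n3086
theorem D6839 : act 6 n3086 = n6839 := rfl
def n6840 : Q := act 0 n3087
theorem D6840 : act 0 n3087 = n6840 := rfl
def n6841 : Q := act 1 n3087
theorem D6841 : act 1 n3087 = n6841 := rfl
theorem F11092 : act 1 n6841 = n3110 := d15_1 D6841 (iv7 D3110) (iv2 F4818)
def n6842 : Q := act 4 n3087
theorem D6842 : act 4 n3087 = n6842 := rfl
theorem F11093 : act 2 n6842 = n3109 := d1_1 D6842 (iv4 D3109) (iv2 F4818)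
def n6843 : Q := act 7 n3087
theorem D6843 : act 7 n3087 = n6843 := rfl
theorem F11094 : act 2 n6843 = n3110 := d4_1 D6843 (iv7 D3110) (iv2 F4818)
theorem F11095 : act 5 n6843 = n3088 := d13_1 D6843 (iv7 D3088) D3087
theorem F11096 : act 1 n3110 = n6840 := d15_0 (iv0 D6840) D6843 F11094
theorem F11097 : act 1 n3108 = n6843 := d15_1 D3108 (iv7 D6843) F4818
theorem F11098 : act 1 n6843 = n3107 := d15_0 (iv0 D3107) D3110 (iv2 F11094)
def n6844 : Q := act 5 n3089
theorem D6844 : act 5 n3089 = n6844 := rfl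
theorem F11099 : act 0 n5601 = n6844 := d21_7 (iv5 D1383) (iv1 F1502) (iv5 F3749) D2426 (iv1 F10277) (iv6 F10420) F10419 (iv5 D6844) (iv6 D3089) (iv1 F2521)
def n6845 : Q := act 5 n3090
theorem D6845 : act 5 n3090 = n6845 := rfl
theorem F11100 : act 2 n6845 = n6844 := d2_1 D6845 (iv5 D6844) (iv2 F4824)
theorem F11101 : act 3 n6845 = n5078 := d6_1 D6845 (iv5 D5078) (iv3 F4825)
def n6846 : Q := act 6 n3091
theorem D6846 : act 6 n3091 = n6846 := rfl
theorem F11102 : act 2 n6846 = n6726 := d3_1 D6846 (iv6 D6726) F4829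
theorem F11103 : act 3 n6846 = n5703 := d7_1 D6846 (iv6 D5703) (iv3 F4828)
def n6847 : Q := act 0 n3092
theorem D6847 : act 0 n3092 = n6847 := rfl
theorem F11104 : act 3 n6847 = n6524 := d20_5 (iv4 F10250) (iv1 D2283) (iv4 F3517) (iv3 F4832) D6847 (iv4 D6524) (iv1 F10598) F10594 F10593 (iv1 F7761)
def n6848 : Q := act 1 n3092
theorem D6848 : act 1 n3092 = n6848 := rfl
def n6849 : Q := act 5 n3092
theorem D6849 : act 5 n3092 = n6849 := rfl
theorem F11105 : act 3 n6849 = n5225 := d6_1 D6849 (iv5 D5225) (iv3 F4832)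
theorem F11106 : act 6 n6849 = n6795 := d12_2 D3092 D6849 (iv5 D6795) (iv6 D3074) (iv5 F3742)
def n6850 : Q := act 7 n3092
theorem D6850 : act 7 n3092 = n6850 := rfl
theorem F11107 : act 3 n6850 = n5226 := d8_1 D6850 (iv7 D5226) (iv3 F4832)
theorem F11108 : act 4 n6850 = n3096 := d11_1 D6850 (iv7 D3096) (iv4 F4833)
theorem F11109 : act 6 n6850 = n6850 := d14_1 D6850 (iv7 D6850) (iv6 D3092) F2529 D3092
def n6851 : Q := act 3 n3093
theorem D6851 : act 3 n3093 = n6851 := rfl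
theorem F11110 : act 2 n6851 = n6564 := d0_1 D6851 (iv3 D6564) (iv2 F10052) (iv3 F10766) F10769
theorem F11111 : act 4 n6851 = n5794 := d5_2 (iv4 F10770) D6851 (iv3 F10836) F10837 (iv3 F10761)
def n6852 : Q := act 5 n3093
theorem D6852 : act 5 n3093 = n6852 := rfl
def n6853 : Q := act 6 n3093
theorem D6853 : act 6 n3093 = n6853 := rfl
def n6854 : Q := act 5 n3094
theorem D6854 : act 5 n3094 = n6854 := rfl
def n6855 : Q := act 6 n3094
theorem D6855 : act 6 n3094 = n6855 := rfl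
theorem F11112 : act 4 n6855 = n6548 := d10_1 D6855 (iv6 D6548) (iv4 F10319)
def n6856 : Q := act 0 n3095
theorem D6856 : act 0 n3095 = n6856 := rfl
def n6857 : Q := act 1 n3095
theorem D6857 : act 1 n3095 = n6857 := rfl
def n6858 : Q := act 4 n3095
theorem D6858 : act 4 n3095 = n6858 := rfl
theorem F11113 : act 6 n6858 = n3109 := d10_2 (iv6 F4835) D6858 (iv4 D3109)
def n6859 : Q := act 7 n3095
theorem D6859 : act 7 n3095 = n6859 := rfl
theorem F11114 : act 3 n6859 = n3124 := d8_1 D6859 (iv7 D3124) (iv3 F4834)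
theorem F11115 : act 5 n6859 = n3096 := d13_1 D6859 (iv7 D3096) D3095
def n6860 : Q := act 0 n3097
theorem D6860 : act 0 n3097 = n6860 := rfl
theorem F11116 : act 1 n3102 = n6860 := d15_0 (iv0 D6860) (iv7 F4838) (iv2 F4839)
def n6862 : Q := act 3 n3097
theorem D6862 : act 3 n3097 = n6862 := rfl
theorem F11118 : act 7 n6862 = n3103 := d8_2 F4838 D6862 (iv3 D3103)
def n6863 : Q := act 4 n3097
theorem D6863 : act 4 n3097 = n6863 := rfl
theorem F11119 : act 2 n6863 = n3099 := d1_1 D6863 (iv4 D3099) D3097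
theorem F11120 : act 7 n6863 = n3104 := d11_2 F4838 D6863 (iv4 D3104)
theorem F11121 : act 3 n6832 = n6863 := d8_3 F11120 (iv3 F4927) F11089
def n6864 : Q := act 5 n3097
theorem D6864 : act 5 n3097 = n6864 := rfl
theorem F11122 : act 2 n6864 = n3100 := d2_1 D6864 (iv5 D3100) D3097
theorem F11123 : act 7 n6864 = n3105 := d13_2 F4838 D6864 (iv5 D3105)
def n6865 : Q := act 6 n3097
theorem D6865 : act 6 n3097 = n6865 := rfl
theorem F11124 : act 2 n6865 = n3101 := d3_1 D6865 (iv6 D3101) D3097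
def n6866 : Q := act 0 n3098
theorem D6866 : act 0 n3098 = n6866 := rfl
def n6867 : Q := act 2 n3098
theorem D6867 : act 2 n3098 = n6867 := rfl
theorem F11125 : act 4 n6867 = n6832 := d1_2 (iv4 F5179) D6867 (iv2 D6832)
theorem F11126 : act 7 n6837 = n6867 := d15_2 (iv0 F10348) (iv0 F11091) (iv2 D6867)
def n6868 : Q := act 5 n3098
theorem D6868 : act 5 n3098 = n6868 := rfl
theorem F11127 : act 3 n6868 = n3100 := d6_1 D6868 (iv5 D3100) D3098
def n6869 : Q := act 6 n3098
theorem D6869 : act 6 n3098 = n6869 := rfl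
theorem F11128 : act 3 n6869 = n3101 := d7_1 D6869 (iv6 D3101) D3098
theorem F11129 : act 4 n6869 = n6835 := d10_1 D6869 (iv6 D6835) (iv4 F5179)
def n6870 : Q := act 7 n3098
theorem D6870 : act 7 n3098 = n6870 := rfl
theorem F11130 : act 2 n6870 = n6837 := d4_1 D6870 F11126 (iv2 D6867)
theorem F11131 : act 3 n6870 = n3102 := d8_1 D6870 (iv7 D3102) D3098
theorem F11133 : act 1 n6837 = n6866 := d15_0 (iv0 D6866) D6870 F11130
theorem F11134 : act 7 n6866 = n6758 := d15_2 (iv0 F11091) F11133 F11001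
theorem F11135 : act 3 n3154 = n6866 := d8_3 F11134 F11002 (iv7 F10157)
theorem F11136 : act 6 n6866 = n6866 := d14_5 F11134 (iv6 D6758) F4767 D6758 (iv7 F11134)
def n6871 : Q := act 0 n3099
theorem D6871 : act 0 n3099 = n6871 := rfl
def n6872 : Q := act 1 n3099
theorem D6872 : act 1 n3099 = n6872 := rfl
theorem F11137 : act 1 n6872 = n3104 := d15_1 D6872 (iv7 F11120) F11119
def n6873 : Q := act 3 n3099
theorem D6873 : act 3 n3099 = n6873 := rfl
theorem F11138 : act 2 n6873 = n6833 := d0_1 D6873 (iv3 D6833) D6832 F11121 F11119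
theorem F11139 : act 4 n6873 = n6833 := d5_2 D3099 D6873 (iv3 D6833) (iv4 F5179) (iv3 D3098)
def n6874 : Q := act 5 n3099
theorem D6874 : act 5 n3099 = n6874 := rfl
def n6875 : Q := act 6 n3099
theorem D6875 : act 6 n3099 = n6875 := rfl
theorem F11140 : act 4 n6875 = n3101 := d10_1 D6875 (iv6 D3101) D3099
def n6876 : Q := act 7 n3099
theorem D6876 : act 7 n3099 = n6876 := rfl
theorem F11141 : act 2 n6876 = n3104 := d4_1 D6876 (iv7 F11120) F11119
theorem F11142 : act 4 n6876 = n3102 := d11_1 D6876 (iv7 D3102) D3099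
theorem F11143 : act 1 n3104 = n6871 := d15_0 (iv0 D6871) D6876 F11141
theorem F11144 : act 3 n5175 = n6871 := d20_3 (iv4 D2154) (iv1 F3497) (iv4 F7740) (iv1 F11143) (iv3 F4927) D6837 F11091 (iv4 F8402) F8401 F9958
theorem F11145 : act 2 n6871 = n6866 := d0_1 F11144 (iv3 F11135) (iv2 F10158) F7794 (iv2 F7739)
theorem F11146 : act 6 n6871 = n6871 := d7_2 F7741 F11144 (iv3 F11144)
theorem F11147 : act 7 n6871 = n5171 := d8_2 D5175 F11144 F7699
theorem E1543 : n6872 = n6758 := ((c15_4 F11137 F11143 F11147 (iv2 F11001))).symm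
theorem F11148 : act 0 n6758 = n3099 := (sb E1543 (iv1 D6872))
theorem F11149 : act 1 n6758 = n3104 := (sb E1543 F11137)
def n6877 : Q := act 0 n3100
theorem D6877 : act 0 n3100 = n6877 := rfl
def n6878 : Q := act 1 n3100
theorem D6878 : act 1 n3100 = n6878 := rfl
theorem F11150 : act 1 n6878 = n3105 := d15_1 D6878 (iv7 F11123) F11122
def n6879 : Q := act 4 n3100
theorem D6879 : act 4 n3100 = n6879 := rfl
def n6880 : Q := act 6 n3100
theorem D6880 : act 6 n3100 = n6880 := rfl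
def n6881 : Q := act 7 n3100
theorem D6881 : act 7 n3100 = n6881 := rfl
theorem F11151 : act 2 n6881 = n3105 := d4_1 D6881 (iv7 F11123) F11122
theorem F11152 : act 5 n6881 = n3102 := d13_1 D6881 (iv7 D3102) D3100
theorem F11153 : act 1 n3105 = n6877 := d15_0 (iv0 D6877) D6881 F11151
def n6882 : Q := act 0 n3101
theorem D6882 : act 0 n3101 = n6882 := rfl
def n6883 : Q := act 1 n3101
theorem D6883 : act 1 n3101 = n6883 := rfl
def n6884 : Q := act 5 n3101
theorem D6884 : act 5 n3101 = n6884 := rfl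
def n6885 : Q := act 7 n3101
theorem D6885 : act 7 n3101 = n6885 := rfl
def n6886 : Q := act 6 n3102
theorem D6886 : act 6 n3102 = n6886 := rfl
theorem F11154 : act 2 n6886 = n3106 := d3_1 D6886 (iv6 D3106) (iv2 F4839)
def n6887 : Q := act 0 n3103
theorem D6887 : act 0 n3103 = n6887 := rfl
def n6888 : Q := act 1 n3103
theorem D6888 : act 1 n3103 = n6888 := rfl
def n6889 : Q := act 2 n3103
theorem D6889 : act 2 n3103 = n6889 := rfl
theorem F11155 : act 3 n6889 = n6837 := d0_2 D3103 D6889 (iv2 F11130) F11131 F4839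
theorem F11156 : act 4 n3103 = n6889 := d5_0 F11155 (iv4 D6837) F4927 (iv4 D3104) D3103
theorem F11157 : act 4 n5880 = n6888 := d20_0 (iv1 D6888) F11156 F11155 F11091 F7699 F3490 D2130 F9981 (iv3 F9973) (iv1 F9091)
theorem F11158 : act 3 n6888 = n3131 := d20_9 (iv4 D5569) (iv1 D2311) (iv4 F3660) F3659 D2292 (iv3 F9973) F5182 (iv1 F9091) F11157 (iv1 F10146)
theorem F11159 : act 0 n6873 = n6888 := d20_10 (iv4 F11157) (iv1 D5880) F5173 (iv3 D2480) F4920 (iv3 F2389) F2390 D1389 D3099 D6873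
theorem F11160 : act 7 n6873 = n6889 := d15_2 D6888 (iv0 F11159) (iv2 D6889)
theorem E1544 : n6862 = n6833 := (c4_3 F11160 (iv2 D6889) (iv7 F11118) (iv2 F11138))
theorem E1545 : n3097 = n3085 := ((((iv3 D6833)).symm.trans (sb E1544 (iv3 D6862)))).symm
theorem F11161 : act 7 n6833 = n3103 := (sb E1544 F11118)
theorem E1546 : n6860 = n1392 := ((((iv1 F4821)).symm.trans (sb E1545 D6860))).symm
theorem E1548 : n6832 = n1389 := ((D6832).symm.trans (sb E1545 (iv2 D3097)))
theorem E1549 : n6863 = n3098 := ((((iv4 F5179)).symm.trans (sb E1545 D6863))).symm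
theorem E1550 : n6864 = n6834 := (((D6834).symm.trans (sb E1545 D6864))).symm
theorem E1551 : n6865 = n6835 := (((D6835).symm.trans (sb E1545 D6865))).symm
theorem E1552 : n6836 = n1390 := ((D6836).symm.trans (sb E1545 (iv7 F4838)))
theorem E1553 : n3102 = n3086 := ((((iv1 F4817)).symm.trans (sb E1546 (iv1 F11116)))).symm
theorem F11162 : act 2 n1389 = n3085 := (sb E1548 (iv2 D6832))
theorem E1554 : n6867 = n3099 := (((D3099).symm.trans (sb E1548 (iv4 F11125)))).symm
theorem E1555 : n6870 = n3104 := ((D6870).symm.trans (sb E1549 F11120))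
theorem F11163 : act 2 n6834 = n3100 := (sb E1550 F11122)
theorem F11164 : act 7 n6834 = n3105 := (sb E1550 F11123)
theorem F11165 : act 2 n6835 = n3101 := (sb E1551 F11124)
theorem F11166 : act 7 n1390 = n3085 := (sb E1552 (iv7 D6836))
theorem F11167 : act 2 n3086 = n1390 := (sb E1553 F4839)
theorem E1556 : n6876 = n6837 := (((D6837).symm.trans (sb E1553 (iv4 F11142)))).symm
theorem E1557 : n6881 = n6838 := (((D6838).symm.trans (sb E1553 (iv5 F11152)))).symm
theorem E1558 : n6886 = n6839 := (((D6839).symm.trans (sb E1553 D6886))).symm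
theorem F11168 : act 7 n3086 = n1389 := (sb E1553 (iv7 D3102))
theorem F11169 : act 2 n3099 = n3098 := (sb E1554 (iv2 D6867))
theorem F11170 : act 7 n3104 = n3098 := (sb E1555 (iv7 D6870))
theorem F11171 : act 2 n6837 = n3104 := (sb E1556 F11141)
theorem F11172 : act 7 n6837 = n3099 := (sb E1556 (iv7 D6876))
theorem F11173 : act 2 n6838 = n3105 := (sb E1557 F11151)
theorem F11174 : act 7 n6838 = n3100 := (sb E1557 (iv7 D6881))
theorem F11175 : act 2 n6839 = n3106 := (sb E1558 F11154)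
theorem F11176 : act 2 n6868 = n6874 := d2_3 (iv5 D6874) F11169 D6868
theorem F11177 : act 2 n6869 = n6875 := d3_3 (iv6 D6875) F11169 D6869
theorem F11178 : act 1 n6873 = n6887 := d15_0 (iv0 D6887) (iv7 F11161) (iv2 F11138)
theorem F11179 : act 4 n5879 = n6887 := d20_0 (iv1 F11178) F11139 (iv3 D6833) (iv1 F4821) F2532 F1507 (iv1 F1309) D1160 D2480 D5879
def n6890 : Q := act 5 n3103
theorem D6890 : act 5 n3103 = n6890 := rfl
theorem F11180 : act 3 n6890 = n3105 := d6_1 D6890 (iv5 D3105) D3103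
def n6891 : Q := act 6 n3103
theorem D6891 : act 6 n3103 = n6891 := rfl
theorem F11181 : act 3 n6891 = n3106 := d7_1 D6891 (iv6 D3106) D3103
def n6892 : Q := act 5 n3104
theorem D6892 : act 5 n3104 = n6892 := rfl
theorem F11182 : act 3 n6892 = n6838 := d6_1 D6892 (iv5 D6838) F4927
theorem F11183 : act 7 n6892 = n6868 := d13_2 (iv7 F11170) D6892 (iv5 D6868)
def n6893 : Q := act 6 n3104
theorem D6893 : act 6 n3104 = n6893 := rfl
theorem F11184 : act 3 n6893 = n6839 := d7_1 D6893 (iv6 D6839) F4927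
theorem F11185 : act 4 n6893 = n3106 := d10_1 D6893 (iv6 D3106) D3104
def n6894 : Q := act 4 n3105
theorem D6894 : act 4 n3105 = n6894 := rfl
def n6895 : Q := act 6 n3105
theorem D6895 : act 6 n3105 = n6895 := rfl
def n6896 : Q := act 0 n3106
theorem D6896 : act 0 n3106 = n6896 := rfl
def n6897 : Q := act 1 n3106
theorem D6897 : act 1 n3106 = n6897 := rfl
def n6898 : Q := act 5 n3106
theorem D6898 : act 5 n3106 = n6898 := rfl
def n6899 : Q := act 7 n3106
theorem D6899 : act 7 n3106 = n6899 := rfl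
def n6900 : Q := act 2 n3107
theorem D6900 : act 2 n3107 = n6900 := rfl
theorem F11186 : act 7 n3108 = n6900 := d15_2 (iv0 D3107) D3108 (iv2 D6900)
def n6901 : Q := act 3 n3107
theorem D6901 : act 3 n3107 = n6901 := rfl
def n6902 : Q := act 4 n3107
theorem D6902 : act 4 n3107 = n6902 := rfl
def n6903 : Q := act 5 n3107
theorem D6903 : act 5 n3107 = n6903 := rfl
def n6904 : Q := act 6 n3107
theorem D6904 : act 6 n3107 = n6904 := rfl
def n6905 : Q := act 7 n3107
theorem D6905 : act 7 n3107 = n6905 := rfl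
theorem F11187 : act 2 n6905 = n3108 := d4_1 D6905 F11186 (iv2 D6900)
def n6906 : Q := act 3 n3108
theorem D6906 : act 3 n3108 = n6906 := rfl
def n6907 : Q := act 4 n3108
theorem D6907 : act 4 n3108 = n6907 := rfl
def n6908 : Q := act 5 n3108
theorem D6908 : act 5 n3108 = n6908 := rfl
def n6909 : Q := act 6 n3108
theorem D6909 : act 6 n3108 = n6909 := rfl
def n6910 : Q := act 0 n3109
theorem D6910 : act 0 n3109 = n6910 := rfl
def n6911 : Q := act 1 n3109
theorem D6911 : act 1 n3109 = n6911 := rfl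
def n6912 : Q := act 3 n3109
theorem D6912 : act 3 n3109 = n6912 := rfl
theorem F11188 : act 4 n6912 = n3174 := d5_2 D3109 D6912 (iv3 D3174) (iv4 D1409) (iv3 F2531)
def n6913 : Q := act 5 n3109
theorem D6913 : act 5 n3109 = n6913 := rfl
def n6914 : Q := act 7 n3109
theorem D6914 : act 7 n3109 = n6914 := rfl
theorem F11189 : act 4 n6914 = n3110 := d11_1 D6914 (iv7 D3110) D3109
def n6915 : Q := act 6 n3110
theorem D6915 : act 6 n3110 = n6915 := rfl
theorem F11190 : act 3 n6915 = n3177 := d7_1 D6915 (iv6 D3177) (iv3 F4840)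
theorem F11191 : act 5 n6915 = n6915 := d12_1 D6915 (iv6 D6915) F4841 F2533 (iv5 F4841)
def n6916 : Q := act 5 n3112
theorem D6916 : act 5 n3112 = n6916 := rfl
theorem F11192 : act 3 n6916 = n3114 := d6_1 D6916 (iv5 D3114) D3112
def n6917 : Q := act 6 n3112
theorem D6917 : act 6 n3112 = n6917 := rfl
theorem F11193 : act 3 n6917 = n3115 := d7_1 D6917 (iv6 D3115) D3112
theorem F11194 : act 5 n3169 = n6917 := d6_0 F11193 F4843 D3169
theorem F11195 : act 0 n3169 = n5229 := d21_7 F2495 (iv1 F2487) (iv5 F2489) D2308 (iv1 F10311) D6917 (iv5 F11194) (iv5 D5229) (iv6 D2146) (iv1 F2497)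
def n6918 : Q := act 1 n3114
theorem D6918 : act 1 n3114 = n6918 := rfl
theorem F11196 : act 1 n6918 = n3119 := d15_1 D6918 (iv7 F7858) (iv2 F7859)
theorem F11197 : act 7 n6918 = n6693 := d15_2 F10651 D6918 F10900
theorem F11198 : act 5 n6918 = n5829 := d17_7 F4439 F7942 (iv1 D5316) (iv5 D2177) F4928 D3114 D6918 F8962 F4945
def n6919 : Q := act 4 n3114
theorem D6919 : act 4 n3114 = n6919 := rfl
def n6920 : Q := act 6 n3114
theorem D6920 : act 6 n3114 = n6920 := rfl
theorem F11199 : act 5 n6920 = n3171 := d12_1 D6920 (iv6 D3171) (iv5 F4843) (iv6 D3115) D3114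
def n6922 : Q := act 1 n3117
theorem D6922 : act 1 n3117 = n6922 := rfl
def n6923 : Q := act 5 n3117
theorem D6923 : act 5 n3117 = n6923 := rfl
theorem F11200 : act 3 n6923 = n3119 := d6_1 D6923 (iv5 D3119) D3117
def n6924 : Q := act 6 n3117
theorem D6924 : act 6 n3117 = n6924 := rfl
theorem F11201 : act 3 n6924 = n3120 := d7_1 D6924 (iv6 D3120) D3117
def n6925 : Q := act 4 n3119
theorem D6925 : act 4 n3119 = n6925 := rfl
def n6926 : Q := act 6 n3119
theorem D6926 : act 6 n3119 = n6926 := rfl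
def n6927 : Q := act 3 n3121
theorem D6927 : act 3 n3121 = n6927 := rfl
def n6928 : Q := act 4 n3121
theorem D6928 : act 4 n3121 = n6928 := rfl
theorem F11202 : act 1 n6928 = n5310 := d18_6 (iv1 F8669) (iv4 F5105) F7994 (iv4 F8969) F8970 D6928 (iv4 D5310) D5309 (iv5 F7925)
def n6929 : Q := act 6 n3121
theorem D6929 : act 6 n3121 = n6929 := rfl
def n6930 : Q := act 3 n3122
theorem D6930 : act 3 n3122 = n6930 := rfl
theorem F11203 : act 5 n6930 = n3136 := d6_2 F4845 D6930 F4857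
def n6931 : Q := act 4 n3122
theorem D6931 : act 4 n3122 = n6931 := rfl
theorem F11204 : act 0 n6931 = n5310 := d18_2 (iv1 F5478) D6931 (iv4 D5310) (iv5 D2172) F1988 D1071 F4931 F2682 (iv5 F5477)
def n6932 : Q := act 6 n3122
theorem D6932 : act 6 n3122 = n6932 := rfl
theorem F11205 : act 5 n6932 = n3147 := d12_1 D6932 (iv6 D3147) (iv5 D1400) D1401 F4845
def n6933 : Q := act 0 n3123
theorem D6933 : act 0 n3123 = n6933 := rfl
theorem F11206 : act 4 n6933 = n5349 := d18_3 (iv1 D3122) D3123 D6933 (iv5 F9050) F9049 (iv0 F4541) (iv4 F4715) F4944 F4845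
def n6934 : Q := act 1 n3123
theorem D6934 : act 1 n3123 = n6934 := rfl
theorem F11207 : act 4 n6934 = n3223 := d18_7 (iv1 F3554) (iv4 F5201) (iv1 D1188) (iv4 F1506) D1395 D3123 D6934 F7929 F7928
def n6935 : Q := act 3 n3123
theorem D6935 : act 3 n3123 = n6935 := rfl
theorem F11208 : act 6 n6935 = n3174 := d7_2 (iv6 F4846) D6935 (iv3 D3174)
def n6936 : Q := act 5 n3123
theorem D6936 : act 5 n3123 = n6936 := rfl
def n6937 : Q := act 7 n3123
theorem D6937 : act 7 n3123 = n6937 := rfl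
theorem F11209 : act 4 n6937 = n3124 := d11_1 D6937 (iv7 D3124) D3123
def n6938 : Q := act 6 n3124
theorem D6938 : act 6 n3124 = n6938 := rfl
theorem F11210 : act 5 n6938 = n6938 := d12_1 D6938 (iv6 D6938) F4847 F2536 (iv5 F4847)
theorem F11211 : act 7 n6938 = n3177 := d14_2 D3124 D6938 (iv6 D3177) (iv7 D1410) (iv6 F2534)
def n6940 : Q := act 4 n3131
theorem D6940 : act 4 n3131 = n6940 := rfl
theorem F11213 : act 3 n6940 = n5660 := d20_3 (iv4 F9978) D3131 D6940 (iv1 D5660) (iv3 D2363) (iv4 D1122) (iv1 D686) (iv4 F1280) (iv3 F2044) D2310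
def n6941 : Q := act 5 n3131
theorem D6941 : act 5 n3131 = n6941 := rfl
def n6942 : Q := act 6 n3131
theorem D6942 : act 6 n3131 = n6942 := rfl
def n6944 : Q := act 3 n3132
theorem D6944 : act 3 n3132 = n6944 := rfl
def n6945 : Q := act 4 n3132
theorem D6945 : act 4 n3132 = n6945 := rfl
def n6946 : Q := act 5 n3132
theorem D6946 : act 5 n3132 = n6946 := rfl
def n6947 : Q := act 6 n3132
theorem D6947 : act 6 n3132 = n6947 := rfl
def n6948 : Q := act 5 n3133
theorem D6948 : act 5 n3133 = n6948 := rfl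
theorem F11215 : act 2 n6948 = n3135 := d2_1 D6948 (iv5 D3135) D3133
def n6949 : Q := act 6 n3133
theorem D6949 : act 6 n3133 = n6949 := rfl
theorem F11216 : act 2 n6949 = n3136 := d3_1 D6949 (iv6 D3136) D3133
def n6950 : Q := act 0 n3135
theorem D6950 : act 0 n3135 = n6950 := rfl
def n6951 : Q := act 1 n3135
theorem D6951 : act 1 n3135 = n6951 := rfl
def n6952 : Q := act 4 n3135
theorem D6952 : act 4 n3135 = n6952 := rfl
def n6953 : Q := act 6 n3135
theorem D6953 : act 6 n3135 = n6953 := rfl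
theorem F11217 : act 3 n6953 = n3147 := d7_1 D6953 (iv6 D3147) (iv3 F4856)
def n6954 : Q := act 0 n3136
theorem D6954 : act 0 n3136 = n6954 := rfl
def n6955 : Q := act 1 n3136
theorem D6955 : act 1 n3136 = n6955 := rfl
def n6956 : Q := act 7 n3136
theorem D6956 : act 7 n3136 = n6956 := rfl
theorem F11218 : act 3 n6956 = n3151 := d8_1 D6956 (iv7 D3151) (iv3 F4857)
def n6957 : Q := act 3 n3144
theorem D6957 : act 3 n3144 = n6957 := rfl
theorem F11219 : act 5 n6957 = n5593 := d6_2 F4881 D6957 F8535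
def n6958 : Q := act 4 n3144
theorem D6958 : act 4 n3144 = n6958 := rfl
theorem F11220 : act 0 n6958 = n3269 := d18_2 D3144 D6958 (iv4 D3269) (iv5 D1447) (iv4 D795) F1315 (iv4 F2108) F2112 D1400
theorem F11221 : act 1 n6958 = n3219 := d18_6 (iv1 F8719) F5482 F4626 (iv4 F4880) F4881 D6958 (iv4 D3219) D3218 (iv5 F8717)
def n6959 : Q := act 6 n3144
theorem D6959 : act 6 n3144 = n6959 := rfl
theorem F11222 : act 5 n6959 = n5595 := d12_1 D6959 (iv6 D5595) (iv5 D2322) D2323 F4881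
def n6960 : Q := act 3 n3145
theorem D6960 : act 3 n3145 = n6960 := rfl
def n6961 : Q := act 4 n3145
theorem D6961 : act 4 n3145 = n6961 := rfl
theorem F11223 : act 0 n6961 = n3219 := d18_2 (iv1 F4896) D6961 (iv4 D3219) (iv5 D1427) (iv4 D790) (iv0 D453) (iv4 F763) D785 D1405
theorem F11224 : act 1 n6961 = n3269 := d18_6 D5499 F8383 (iv1 F4614) (iv4 F8238) F8239 D6961 (iv4 D3269) F5018 (iv5 F5083)
def n6962 : Q := act 6 n3145
theorem D6962 : act 6 n3145 = n6962 := rfl
theorem F11225 : act 5 n6962 = n6782 := d12_1 D6962 (iv6 D6782) (iv5 F8523) F8524 F8239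
def n6963 : Q := act 0 n3146
theorem D6963 : act 0 n3146 = n6963 := rfl
theorem F11226 : act 4 n6963 = n5666 := d18_3 (iv1 D3145) D3146 D6963 (iv5 D5666) F3710 (iv0 F7599) F5457 F8240 F8239
theorem F11227 : act 1 n3159 = n6963 := d15_0 (iv0 D6963) (iv7 F8986) F8985
def n6964 : Q := act 1 n3146
theorem D6964 : act 1 n3146 = n6964 := rfl
theorem F11228 : act 1 n6964 = n3159 := d15_1 D6964 (iv7 F8960) F8959
theorem F11229 : act 4 n6964 = n5864 := d18_7 F4920 F1463 D753 F4906 D1400 D3146 D6964 F9041 (iv5 D2481)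
def n6965 : Q := act 3 n3146
theorem D6965 : act 3 n3146 = n6965 := rfl
def n6966 : Q := act 5 n3146
theorem D6966 : act 5 n3146 = n6966 := rfl
theorem F11230 : act 4 n6966 = n3320 := d16_2 D3146 D6966 F5307 (iv4 D2864) (iv5 D1302) F4900 D1405 (iv7 F5131) F5130
theorem F11231 : act 1 n6966 = n6429 := d17_6 (iv1 D1408) (iv5 D786) D784 D1400 D3146 D6966 (iv5 D6429) (iv0 F4999) (iv4 D3170)
theorem F11232 : act 1 n6459 = n6966 := d18_6 (iv1 F3946) F4938 (iv1 D1305) D1306 D2876 D6459 F11230 F9174 F9173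
def n6967 : Q := act 6 n3146
theorem D6967 : act 6 n3146 = n6967 := rfl
theorem F11233 : act 4 n6967 = n3147 := d10_1 D6967 (iv6 D3147) D3146
def n6968 : Q := act 0 n3147
theorem D6968 : act 0 n3147 = n6968 := rfl
def n6969 : Q := act 1 n3147
theorem D6969 : act 1 n3147 = n6969 := rfl
theorem F11234 : act 5 n6968 = n6969 := d21_0 (iv1 D6969) (iv5 F11205) (iv6 D6932) (iv1 D3122) F2534 (iv5 D786) D784 D1400 D3147 D6968
def n6970 : Q := act 7 n3147
theorem D6970 : act 7 n3147 = n6970 := rfl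
def n6971 : Q := act 3 n3150
theorem D6971 : act 3 n3150 = n6971 := rfl
theorem F11235 : act 6 n6971 = n6383 := d7_2 F4942 D6971 (iv3 D6383)
theorem F11236 : act 7 n6971 = n6585 := d8_2 (iv7 F4943) D6971 F10649
def n6972 : Q := act 5 n3150
theorem D6972 : act 5 n3150 = n6972 := rfl
theorem F11237 : act 2 n6972 = n6918 := d2_1 D6972 F11198 F8965
theorem F11238 : act 7 n6972 = n6588 := d13_2 (iv7 F4943) D6972 (iv5 D6588)
theorem F11239 : act 0 n6972 = n3478 := d17_2 (iv1 F8972) D6972 (iv5 D3478) F5458 D2199 D5357 (iv5 F8153) F7620 (iv4 F8969)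
theorem F11240 : act 1 n6972 = n3482 := d17_6 (iv1 F2188) D1544 F4645 F4643 (iv4 F4941) D6972 (iv5 D3482) F2675 F2535
def n6973 : Q := act 5 n3154
theorem D6973 : act 5 n3154 = n6973 := rfl
theorem F11241 : act 7 n6973 = n6759 := d13_2 (iv7 F10157) D6973 (iv5 D6759)
theorem F11242 : act 1 n3169 = n6973 := d15_1 (iv0 F11195) F11241 F11003
def n6974 : Q := act 4 n3155
theorem D6974 : act 4 n3155 = n6974 := rfl
theorem F11243 : act 2 n6974 = n3156 := d1_1 D6974 (iv4 D3156) D3155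
def n6975 : Q := act 5 n3155
theorem D6975 : act 5 n3155 = n6975 := rfl
theorem F11244 : act 2 n6975 = n3157 := d2_1 D6975 (iv5 D3157) D3155
def n6976 : Q := act 6 n3155
theorem D6976 : act 6 n3155 = n6976 := rfl
theorem F11245 : act 2 n6976 = n3158 := d3_1 D6976 (iv6 D3158) D3155
def n6977 : Q := act 0 n3156
theorem D6977 : act 0 n3156 = n6977 := rfl
def n6978 : Q := act 1 n3156
theorem D6978 : act 1 n3156 = n6978 := rfl
def n6979 : Q := act 5 n3156
theorem D6979 : act 5 n3156 = n6979 := rfl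
theorem F11246 : act 3 n6979 = n6442 := d6_1 D6979 (iv5 D6442) (iv3 F4948)
def n6980 : Q := act 6 n3156
theorem D6980 : act 6 n3156 = n6980 := rfl
theorem F11247 : act 3 n6980 = n6443 := d7_1 D6980 (iv6 D6443) (iv3 F4948)
theorem F11248 : act 4 n6980 = n3158 := d10_1 D6980 (iv6 D3158) D3156
def n6981 : Q := act 0 n3157
theorem D6981 : act 0 n3157 = n6981 := rfl
def n6982 : Q := act 1 n3157
theorem D6982 : act 1 n3157 = n6982 := rfl
def n6983 : Q := act 4 n3157
theorem D6983 : act 4 n3157 = n6983 := rfl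
def n6984 : Q := act 6 n3157
theorem D6984 : act 6 n3157 = n6984 := rfl
theorem F11249 : act 3 n6984 = n3160 := d7_1 D6984 (iv6 D3160) (iv3 F4949)
def n6985 : Q := act 0 n3158
theorem D6985 : act 0 n3158 = n6985 := rfl
def n6986 : Q := act 1 n3158
theorem D6986 : act 1 n3158 = n6986 := rfl
def n6987 : Q := act 5 n3158
theorem D6987 : act 5 n3158 = n6987 := rfl
theorem F11250 : act 3 n6987 = n3161 := d6_1 D6987 (iv5 D3161) (iv3 F4950)
def n6988 : Q := act 7 n3158
theorem D6988 : act 7 n3158 = n6988 := rfl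
theorem F11251 : act 3 n6988 = n3162 := d8_1 D6988 (iv7 D3162) (iv3 F4950)
def n6989 : Q := act 3 n3159
theorem D6989 : act 3 n3159 = n6989 := rfl
def n6990 : Q := act 5 n3159
theorem D6990 : act 5 n3159 = n6990 := rfl
theorem F11252 : act 4 n6990 = n3319 := d9_1 D6990 F5306 (iv4 D2849) (iv5 D1297) F4906 D1400 D3146 D6966 F11230 F5307 (iv4 D2864) (iv5 D1302) F4900 D1405 D3159
theorem F11253 : act 0 n6990 = n6429 := d17_2 (iv1 F11227) D6990 (iv5 D6429) (iv4 D2827) (iv5 D1292) (iv0 F4920) D2481 (iv0 F8712) (iv4 F11226)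
theorem F11254 : act 0 n6459 = n6990 := d18_2 F9104 D6459 F11252 F5306 (iv4 D2849) D2848 (iv4 F9071) F9069 D5887
def n6991 : Q := act 6 n3159
theorem D6991 : act 6 n3159 = n6991 := rfl
theorem F11255 : act 4 n6991 = n3160 := d10_1 D6991 (iv6 D3160) D3159
def n6992 : Q := act 0 n3160
theorem D6992 : act 0 n3160 = n6992 := rfl
def n6993 : Q := act 1 n3160
theorem D6993 : act 1 n3160 = n6993 := rfl
theorem F11256 : act 6 n6972 = n6993 := d21_3 (iv5 F8970) (iv1 F8972) D6972 (iv1 D6993) (iv6 D3160) (iv5 D1405) (iv1 D785) D786 (iv6 F2534) D3121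
theorem F11257 : act 5 n6993 = n5600 := d12_1 F11256 (iv6 D5600) F4882 F4942 D6972
def n6994 : Q := act 5 n3160
theorem D6994 : act 5 n3160 = n6994 := rfl
theorem F11258 : act 6 n6994 = n3161 := d12_2 D3160 D6994 (iv5 D3161) (iv6 D1406) D1405
def n6995 : Q := act 7 n3160
theorem D6995 : act 7 n3160 = n6995 := rfl
def n6996 : Q := act 4 n3161
theorem D6996 : act 4 n3161 = n6996 := rfl
theorem F11259 : act 0 n6996 = n5497 := d17_0 F8381 F8250 (iv5 D5430) (iv4 D2232) (iv5 D1086) D1085 D2228 F4965 D6996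
theorem F11260 : act 1 n6996 = n5457 := d18_6 (iv1 F7724) (iv4 D2366) (iv1 F4372) (iv4 F4903) D3161 D6996 (iv4 D5457) D5456 F8283
def n6997 : Q := act 0 n3164
theorem D6997 : act 0 n3164 = n6997 := rfl
def n6998 : Q := act 1 n3164
theorem D6998 : act 1 n3164 = n6998 := rfl
def n6999 : Q := act 2 n3164
theorem D6999 : act 2 n3164 = n6999 := rfl
def n7000 : Q := act 4 n3164
theorem D7000 : act 4 n3164 = n7000 := rfl
def n7001 : Q := act 5 n3164
theorem D7001 : act 5 n3164 = n7001 := rfl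
theorem F11261 : act 3 n7001 = n3166 := d6_1 D7001 (iv5 D3166) D3164
def n7002 : Q := act 6 n3164
theorem D7002 : act 6 n3164 = n7002 := rfl
theorem F11262 : act 3 n7002 = n3167 := d7_1 D7002 (iv6 D3167) D3164
def n7003 : Q := act 0 n3165
theorem D7003 : act 0 n3165 = n7003 := rfl
theorem F11263 : act 5 n7003 = n6459 := d17_1 D7003 F11254 (iv5 D6990) (iv4 D3159) (iv5 D1405) F2111 (iv5 F3833) F3836 D3165
theorem F11264 : act 4 n7003 = n5103 := d18_3 D1407 D3165 D7003 F7604 F3420 F1937 F4906 (iv0 D784) D786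
theorem F11265 : act 2 n6430 = n7003 := d15_3 (iv0 D7003) (iv0 F5486) D6430
theorem F11266 : act 1 n3170 = n7003 := d15_0 (iv0 D7003) (iv7 F8995) F8994
theorem F11267 : act 7 n7003 = n5102 := d15_2 (iv0 F4999) F11266 F7602
def n7004 : Q := act 3 n3165
theorem D7004 : act 3 n3165 = n7004 := rfl
def n7005 : Q := act 5 n3165
theorem D7005 : act 5 n3165 = n7005 := rfl
theorem F11268 : act 4 n7005 = n3312 := d16_2 D3165 D7005 (iv5 D3312) F4938 (iv5 F3538) (iv4 F4910) F4843 (iv7 F7872) F7871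
def n7006 : Q := act 6 n3165
theorem D7006 : act 6 n3165 = n7006 := rfl
theorem F11269 : act 4 n7006 = n3167 := d10_1 D7006 (iv6 D3167) D3165
def n7007 : Q := act 0 n3167
theorem D7007 : act 0 n3167 = n7007 := rfl
def n7008 : Q := act 1 n3167
theorem D7008 : act 1 n3167 = n7008 := rfl
def n7009 : Q := act 5 n3167
theorem D7009 : act 5 n3167 = n7009 := rfl
theorem F11270 : act 6 n7009 = n6571 := d12_2 D3167 D7009 F10632 (iv6 F8223) (iv5 D3166)
theorem F11271 : act 0 n7009 = n6587 := d21_4 (iv5 F8523) (iv1 F8525) (iv5 F10632) (iv6 F11270) (iv6 D6587) (iv5 D2944) (iv1 F4890) D1364 (iv6 F2508) D3069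
def n7010 : Q := act 7 n3167
theorem D7010 : act 7 n3167 = n7010 := rfl
def n7011 : Q := act 2 n3169
theorem D7011 : act 2 n3169 = n7011 := rfl
def n7012 : Q := act 4 n3169
theorem D7012 : act 4 n3169 = n7012 := rfl
def n7013 : Q := act 6 n3169
theorem D7013 : act 6 n3169 = n7013 := rfl
theorem F11272 : act 3 n7013 = n3171 := d7_1 D7013 (iv6 D3171) D3169
def n7014 : Q := act 3 n3170
theorem D7014 : act 3 n3170 = n7014 := rfl
def n7015 : Q := act 5 n3170
theorem D7015 : act 5 n3170 = n7015 := rfl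
theorem F11273 : act 4 n7015 = n3308 := d9_1 D7015 (iv5 D3308) F4911 (iv5 F3621) (iv4 F4996) (iv5 D3166) D3165 D7005 F11268 (iv5 D3312) F4938 (iv5 F3538) (iv4 F4910) F4843 D3170
def n7016 : Q := act 6 n3170
theorem D7016 : act 6 n3170 = n7016 := rfl
theorem F11274 : act 4 n7016 = n3171 := d10_1 D7016 (iv6 D3171) D3170
def n7017 : Q := act 0 n3171
theorem D7017 : act 0 n3171 = n7017 := rfl
def n7018 : Q := act 1 n3171
theorem D7018 : act 1 n3171 = n7018 := rfl
def n7019 : Q := act 7 n3171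
theorem D7019 : act 7 n3171 = n7019 := rfl
def n7020 : Q := act 3 n3172
theorem D7020 : act 3 n3172 = n7020 := rfl
def n7021 : Q := act 5 n3172
theorem D7021 : act 5 n3172 = n7021 := rfl
theorem F11275 : act 4 n7021 = n3300 := d16_2 F8236 D7021 (iv5 D3300) (iv4 D1461) D1462 D3302 F7592 F7591 (iv2 F7589)
def n7022 : Q := act 6 n3172
theorem D7022 : act 6 n3172 = n7022 := rfl
def n7023 : Q := act 3 n3173
theorem D7023 : act 3 n3173 = n7023 := rfl
def n7024 : Q := act 5 n3173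
theorem D7024 : act 5 n3173 = n7024 := rfl
theorem F11276 : act 4 n7024 = n3285 := d9_1 D7024 (iv5 D3285) (iv4 D1456) D1457 D3288 (iv5 F7587) F8236 D7021 F11275 (iv5 D3300) (iv4 D1461) D1462 D3302 F7592 (iv4 F7601)
def n7025 : Q := act 6 n3173
theorem D7025 : act 6 n3173 = n7025 := rfl
def n7026 : Q := act 0 n3174
theorem D7026 : act 0 n3174 = n7026 := rfl
def n7027 : Q := act 1 n3174
theorem D7027 : act 1 n3174 = n7027 := rfl
def n7028 : Q := act 2 n3174
theorem D7028 : act 2 n3174 = n7028 := rfl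
def n7029 : Q := act 5 n3174
theorem D7029 : act 5 n3174 = n7029 := rfl
theorem F11277 : act 3 n7029 = n3175 := d6_1 D7029 (iv5 D3175) D3174
def n7030 : Q := act 7 n3174
theorem D7030 : act 7 n3174 = n7030 := rfl
theorem F11278 : act 3 n7030 = n3176 := d8_1 D7030 (iv7 D3176) D3174
def n7031 : Q := act 0 n3175
theorem D7031 : act 0 n3175 = n7031 := rfl
theorem F11279 : act 5 n7031 = n3219 := d17_3 (iv1 D3173) D3175 D7031 (iv4 D3219) (iv5 D1427) (iv0 F5053) D2093 D5101 (iv4 F7601)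
theorem F11280 : act 4 n7031 = n3276 := d18_3 (iv1 F9175) F9172 D7031 (iv5 D3276) (iv4 D1449) (iv0 F2558) D3226 F7629 (iv5 F5306)
theorem F11281 : act 1 n3321 = n7031 := d15_0 (iv0 D7031) F9168 F9166
def n7032 : Q := act 1 n3175
theorem D7032 : act 1 n3175 = n7032 := rfl
theorem F11282 : act 1 n7032 = n3321 := d15_1 D7032 F9008 F9006
theorem F11283 : act 5 n7032 = n3269 := d17_7 (iv1 F4899) (iv5 D1405) (iv1 D785) D786 D1409 D3175 D7032 (iv0 F11220) (iv4 D6958)
theorem F11284 : act 4 n7032 = n3232 := d17_9 (iv1 F10532) F10530 (iv1 F5181) D3300 (iv4 F11275) (iv5 D7021) (iv0 D3172) D3175 D7032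
def n7033 : Q := act 6 n3175
theorem D7033 : act 6 n3175 = n7033 := rfl
def n7034 : Q := act 6 n3176
theorem D7034 : act 6 n3176 = n7034 := rfl
theorem F11285 : act 4 n7034 = n3177 := d10_1 D7034 (iv6 D3177) (iv4 F5000)
def n7035 : Q := act 0 n3177
theorem D7035 : act 0 n3177 = n7035 := rfl
def n7036 : Q := act 1 n3177
theorem D7036 : act 1 n3177 = n7036 := rfl
def n7038 : Q := act 3 n3212
theorem D7038 : act 3 n3212 = n7038 := rfl
theorem F11287 : act 4 n7038 = n6978 := d20_6 F763 D453 D790 D1426 D3212 D7038 (iv1 D6978) (iv4 D3156) (iv3 D1403) (iv1 D785)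
def n7039 : Q := act 4 n3212
theorem D7039 : act 4 n3212 = n7039 := rfl
theorem F11288 : act 0 n7039 = n6889 := d20_1 D7039 (iv4 F11156) (iv3 D3103) (iv1 D1390) F1505 F763 D453 D790 D1426 D3212
theorem F11289 : act 0 n6833 = n7039 := d20_10 (iv4 D7039) (iv1 F9975) F8374 (iv3 D5279) F9968 (iv3 F8401) F8402 F10348 F5179 D6833
def n7040 : Q := act 5 n3212
theorem D7040 : act 5 n3212 = n7040 := rfl
def n7041 : Q := act 6 n3212
theorem D7041 : act 6 n3212 = n7041 := rfl
def n7043 : Q := act 3 n3213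
theorem D7043 : act 3 n3213 = n7043 := rfl
theorem F11291 : act 4 n7043 = n5451 := d20_6 F7740 (iv1 F3496) D2159 D5279 F9974 D7043 (iv1 D5451) (iv4 F10015) (iv3 D5235) (iv1 F7743)
def n7044 : Q := act 4 n3213
theorem D7044 : act 4 n3213 = n7044 := rfl
theorem F11292 : act 0 n7044 = n6833 := d20_1 D7044 (iv4 F11139) (iv3 D6873) D6871 (iv3 F11144) F7740 (iv1 F3496) D2159 D5279 F9974
theorem F11293 : act 3 n7044 = n5831 := d20_9 F10144 (iv1 F8486) (iv4 F8444) F8443 (iv1 F9969) D5279 F8374 F9974 D7044 (iv1 F8974)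
theorem F11294 : act 0 n6889 = n7044 := d20_10 (iv4 D7044) (iv1 D3213) F5054 (iv3 D1426) (iv1 F5052) (iv3 F4408) F4409 (iv1 F4817) D6837 (iv3 F11155)
def n7047 : Q := act 5 n3214
theorem D7047 : act 5 n3214 = n7047 := rfl
theorem F11295 : act 2 n7047 = n3215 := d2_1 D7047 (iv5 D3215) D3214
theorem F11296 : act 3 n7047 = n5531 := d6_1 D7047 (iv5 D5531) (iv3 F9973)
def n7048 : Q := act 6 n3214
theorem D7048 : act 6 n3214 = n7048 := rfl
theorem F11297 : act 2 n7048 = n3216 := d3_1 D7048 (iv6 D3216) D3214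
theorem F11298 : act 3 n7048 = n5532 := d7_1 D7048 (iv6 D5532) (iv3 F9973)
theorem F11299 : act 4 n7048 = n7048 := d10_1 D7048 (iv6 D7048) F5182
def n7049 : Q := act 0 n3215
theorem D7049 : act 0 n3215 = n7049 := rfl
def n7050 : Q := act 1 n3215
theorem D7050 : act 1 n3215 = n7050 := rfl
def n7051 : Q := act 4 n3215
theorem D7051 : act 4 n3215 = n7051 := rfl
def n7052 : Q := act 6 n3215
theorem D7052 : act 6 n3215 = n7052 := rfl
theorem F11300 : act 3 n7052 = n3220 := d7_1 D7052 (iv6 D3220) (iv3 F5016)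
def n7053 : Q := act 0 n3216
theorem D7053 : act 0 n3216 = n7053 := rfl
def n7054 : Q := act 1 n3216
theorem D7054 : act 1 n3216 = n7054 := rfl
def n7055 : Q := act 5 n3216
theorem D7055 : act 5 n3216 = n7055 := rfl
theorem F11301 : act 3 n7055 = n3223 := d6_1 D7055 (iv5 D3223) (iv3 F5017)
def n7056 : Q := act 7 n3216
theorem D7056 : act 7 n3216 = n7056 := rfl
theorem F11302 : act 3 n7056 = n3224 := d8_1 D7056 (iv7 D3224) (iv3 F5017)
theorem F11303 : act 4 n7056 = n7056 := d11_1 D7056 (iv7 D7056) F5176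
def n7057 : Q := act 3 n3217
theorem D7057 : act 3 n3217 = n7057 := rfl
theorem F11304 : act 5 n7057 = n5496 := d6_2 F5083 D7057 F8380
def n7058 : Q := act 4 n3217
theorem D7058 : act 4 n3217 = n7058 := rfl
theorem F11305 : act 2 n7058 = n6963 := d1_1 D7058 F11226 F8711
theorem F11306 : act 7 n7058 = n6964 := d11_2 F9042 D7058 F11229
theorem F11307 : act 0 n7058 = n5837 := d18_2 D3217 D7058 (iv4 D5837) (iv5 D2440) (iv4 F5138) F1930 (iv4 F2391) F5052 D1427
theorem F11308 : act 1 n7058 = n5826 := d18_6 (iv1 F8548) F4910 F7886 (iv4 F3620) F5083 D7058 (iv4 D5826) D5825 F8957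
def n7059 : Q := act 6 n3217
theorem D7059 : act 6 n3217 = n7059 := rfl
theorem F11309 : act 5 n7059 = n5498 := d12_1 D7059 (iv6 D5498) (iv5 D2270) D2271 F5083
def n7060 : Q := act 3 n3218
theorem D7060 : act 3 n3218 = n7060 := rfl
def n7061 : Q := act 4 n3218
theorem D7061 : act 4 n3218 = n7061 := rfl
theorem F11310 : act 2 n7061 = n6964 := d1_1 D7061 F11229 (iv2 F9044)
theorem F11311 : act 7 n7061 = n6963 := d11_2 (iv7 F8714) D7061 F11226
theorem F11312 : act 0 n7061 = n5826 := d18_2 (iv1 F5019) D7061 (iv4 D5826) (iv5 D2435) F5127 (iv0 D1037) (iv4 F1929) (iv0 F5056) D1447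
theorem F11313 : act 1 n7061 = n5837 := d18_6 (iv1 F4997) F4996 (iv1 F7981) (iv4 F8716) F8717 D7061 (iv4 D5837) (iv0 F8234) (iv5 D5419)
def n7062 : Q := act 6 n3218
theorem D7062 : act 6 n3218 = n7062 := rfl
theorem F11314 : act 5 n7062 = n6658 := d12_1 D7062 (iv6 D6658) (iv5 F8289) (iv6 F8718) F8717
def n7063 : Q := act 3 n3219
theorem D7063 : act 3 n3219 = n7063 := rfl
def n7064 : Q := act 6 n3219
theorem D7064 : act 6 n3219 = n7064 := rfl
theorem F11315 : act 4 n7064 = n3220 := d10_1 D7064 (iv6 D3220) D3219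
def n7065 : Q := act 0 n3220
theorem D7065 : act 0 n3220 = n7065 := rfl
def n7066 : Q := act 1 n3220
theorem D7066 : act 1 n3220 = n7066 := rfl
def n7067 : Q := act 5 n3220
theorem D7067 : act 5 n3220 = n7067 := rfl
theorem F11316 : act 6 n7067 = n3223 := d12_2 D3220 D7067 (iv5 D3223) (iv6 D1428) D1427
theorem F11317 : act 5 n7065 = n7066 := d21_0 (iv1 D7066) D7067 F11316 F5076 F3556 (iv5 D2093) F5053 D1427 D3220 D7065
def n7068 : Q := act 7 n3220
theorem D7068 : act 7 n3220 = n7068 := rfl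
def n7069 : Q := act 3 n3222
theorem D7069 : act 3 n3222 = n7069 := rfl
theorem F11318 : act 6 n7069 = n5464 := d7_2 F5080 D7069 (iv3 D5464)
theorem F11319 : act 7 n7069 = n6548 := d8_2 F5107 D7069 F10611
def n7070 : Q := act 5 n3222
theorem D7070 : act 5 n3222 = n7070 := rfl
theorem F11320 : act 7 n7070 = n6551 := d13_2 F5107 D7070 (iv5 D6551)
theorem F11321 : act 0 n7070 = n3489 := d17_2 (iv1 F9052) D7070 (iv5 D3489) (iv4 D1538) D1539 (iv0 F4646) F4643 (iv0 F3905) (iv4 F9049)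
theorem F11322 : act 1 n7070 = n3499 := d17_6 (iv1 F2003) D2182 (iv1 F7941) (iv5 F7942) F5077 D7070 (iv5 D3499) F5275 F3558
def n7071 : Q := act 4 n3225
theorem D7071 : act 4 n3225 = n7071 := rfl
theorem F11323 : act 6 n7071 = n6568 := d10_2 (iv6 F5022) D7071 (iv4 D6568)
def n7072 : Q := act 3 n3226
theorem D7072 : act 3 n3226 = n7072 := rfl
theorem F11324 : act 6 n7072 = n6579 := d7_2 (iv6 F5023) D7072 (iv3 D6579)
def n7073 : Q := act 5 n3226
theorem D7073 : act 5 n3226 = n7073 := rfl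
theorem F11325 : act 0 n7073 = n5903 := d17_2 (iv1 F7629) D7073 (iv5 D5903) (iv4 F5146) (iv5 F3711) (iv0 D2367) D2369 (iv0 F3713) D2849
theorem F11326 : act 1 n7073 = n5906 := d17_6 (iv1 F2115) (iv5 F2685) F4626 (iv5 F2556) D3226 D7073 (iv5 D5906) F3940 F2575
def n7074 : Q := act 3 n3228
theorem D7074 : act 3 n3228 = n7074 := rfl
def n7075 : Q := act 5 n3228
theorem D7075 : act 5 n3228 = n7075 := rfl
theorem F11327 : act 0 n7075 = n5906 := d17_2 (iv1 F7611) D7075 (iv5 D5906) F5145 (iv5 F3564) F8039 (iv5 F8033) F4430 D2864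
theorem F11328 : act 1 n7075 = n5903 := d17_6 D1163 D2489 (iv1 F4614) (iv5 F4616) D3228 D7075 (iv5 D5903) (iv0 D2495) (iv4 D1165)
def n7076 : Q := act 3 n3229
theorem D7076 : act 3 n3229 = n7076 := rfl
def n7077 : Q := act 5 n3229
theorem D7077 : act 5 n3229 = n7077 := rfl
theorem F11329 : act 0 n7077 = n5892 := d17_2 D3229 D7077 (iv5 D5892) (iv4 D2488) D2489 (iv0 F3938) (iv5 F2556) (iv0 D1430) D1432
theorem F11330 : act 1 n7077 = n5898 := d17_6 (iv1 F3433) (iv5 F3538) F7886 D2275 F5178 D7077 (iv5 D5898) F7638 F7637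
def n7078 : Q := act 3 n3230
theorem D7078 : act 3 n3230 = n7078 := rfl
def n7079 : Q := act 5 n3230
theorem D7079 : act 5 n3230 = n7079 := rfl
theorem F11331 : act 0 n7079 = n5898 := d17_2 (iv1 F5027) D7079 (iv5 D5898) (iv4 D2493) (iv5 F2685) (iv0 F4615) (iv5 F4616) F2560 D1449
theorem F11332 : act 1 n7079 = n5892 := d17_6 D1304 (iv5 F3621) (iv1 F7981) F7983 F8001 D7079 (iv5 D5892) F5276 (iv4 D1306)
def n7080 : Q := act 0 n3231
theorem D7080 : act 0 n3231 = n7080 := rfl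
def n7081 : Q := act 1 n3231
theorem D7081 : act 1 n3231 = n7081 := rfl
def n7082 : Q := act 2 n3231
theorem D7082 : act 2 n3231 = n7082 := rfl
theorem F11333 : act 4 n7082 = n7082 := d1_2 F5177 D7082 (iv2 D7082)
def n7083 : Q := act 5 n3231
theorem D7083 : act 5 n3231 = n7083 := rfl
theorem F11334 : act 3 n7083 = n3232 := d6_1 D7083 (iv5 D3232) D3231
def n7084 : Q := act 6 n3231
theorem D7084 : act 6 n3231 = n7084 := rfl
theorem F11335 : act 3 n7084 = n3233 := d7_1 D7084 (iv6 D3233) D3231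
theorem F11336 : act 4 n7084 = n7084 := d10_1 D7084 (iv6 D7084) F5177
def n7085 : Q := act 6 n3232
theorem D7085 : act 6 n3232 = n7085 := rfl
def n7086 : Q := act 0 n3233
theorem D7086 : act 0 n3233 = n7086 := rfl
def n7087 : Q := act 1 n3233
theorem D7087 : act 1 n3233 = n7087 := rfl
def n7088 : Q := act 5 n3233
theorem D7088 : act 5 n3233 = n7088 := rfl
def n7089 : Q := act 7 n3233
theorem D7089 : act 7 n3233 = n7089 := rfl
theorem F11337 : act 4 n7089 = n3236 := d11_1 D7089 (iv7 F5033) (iv4 F5028)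
theorem F11338 : act 6 n7089 = n3238 := d14_1 D7089 (iv7 F5500) F5499 F3935 D3233
def n7090 : Q := act 2 n3234
theorem D7090 : act 2 n3234 = n7090 := rfl
theorem F11339 : act 5 n7090 = n3407 := d2_2 (iv5 F5029) D7090 F5404
theorem F11340 : act 6 n7090 = n3346 := d3_2 F5030 D7090 (iv2 D3346)
theorem F11341 : act 7 n3235 = n7090 := d15_2 (iv0 D3234) D3235 (iv2 D7090)
def n7091 : Q := act 3 n3234
theorem D7091 : act 3 n3234 = n7091 := rfl
theorem F11342 : act 5 n7091 = n3408 := d6_2 (iv5 F5029) D7091 (iv3 D3408)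
theorem F11343 : act 6 n7091 = n3347 := d7_2 F5030 D7091 (iv3 D3347)
def n7092 : Q := act 4 n3234
theorem D7092 : act 4 n3234 = n7092 := rfl
theorem F11344 : act 6 n7092 = n3348 := d10_2 F5030 D7092 (iv4 D3348)
def n7093 : Q := act 7 n3234
theorem D7093 : act 7 n3234 = n7093 := rfl
theorem F11345 : act 2 n7093 = n3235 := d4_1 D7093 F11341 (iv2 D7090)
theorem F11346 : act 5 n7093 = n3404 := d13_1 D7093 (iv7 F5403) (iv5 F5029)
def n7094 : Q := act 3 n3235
theorem D7094 : act 3 n3235 = n7094 := rfl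
theorem F11347 : act 5 n7094 = n3405 := d6_2 F5032 D7094 (iv3 D3405)
def n7095 : Q := act 4 n3235
theorem D7095 : act 4 n3235 = n7095 := rfl
def n7096 : Q := act 6 n3235
theorem D7096 : act 6 n3235 = n7096 := rfl
theorem F11348 : act 5 n7096 = n3354 := d12_1 D7096 (iv6 D3354) D3353 F5336 F5032
theorem F11349 : act 7 n7096 = n3354 := d14_2 (iv7 F11341) D7096 (iv6 D3354) F5333 (iv6 F11340)
theorem F11350 : act 0 n7096 = n6033 := d21_4 F1527 D1500 F5032 D7096 F9383 (iv5 F5538) (iv1 F9120) (iv5 F9121) F5514 (iv1 D1501)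
theorem F11351 : act 0 n6031 = n7096 := d21_4 (iv5 F2474) (iv1 F4636) (iv5 F4533) (iv6 F9374) (iv6 D7096) (iv5 F5032) (iv1 F4011) F4007 F4008 (iv1 F2473)
theorem F11352 : act 2 n3354 = n5943 := d15_3 (iv0 F9384) (iv0 F11350) F11349
theorem E1559 : n5939 = n1479 := (c3_4 D3354 F11352 (iv6 D5943) (iv2 F9217))
theorem E1560 : n3350 = n2507 := (((iv2 F5335)).symm.trans (sb E1559 F9217))
theorem E1561 : n3346 = n2506 := ((F5333).symm.trans (sb E1559 (iv7 D5939)))
theorem F11353 : act 2 n2507 = n1479 := (sb E1560 F5335)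
theorem E1562 : n5935 = n1478 := ((F9213).symm.trans (sb E1560 (iv7 D3350)))
theorem E1563 : n7090 = n5876 := (((F9081).symm.trans (sb E1561 (iv6 F11340)))).symm
theorem F11354 : act 7 n2506 = n1479 := (sb E1561 (iv7 F5333))
theorem F11355 : act 2 n1478 = n2506 := (sb E1562 (iv2 D5935))
theorem F11356 : act 7 n1478 = n2507 := (sb E1562 (iv7 F9213))
theorem F11357 : act 2 n5876 = n3234 := (sb E1563 (iv2 D7090))
theorem E1564 : n3407 = n2522 := (((F9079).symm.trans (sb E1563 F11339))).symm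
theorem F11358 : act 7 n5876 = n3235 := (sb E1563 (iv7 F11341))
theorem E1565 : n5978 = n1501 := (((iv2 F9289)).symm.trans (sb E1564 F5404))
theorem E1566 : n5975 = n1500 := ((F9288).symm.trans (sb E1564 (iv7 D3407)))
theorem F11359 : act 2 n1501 = n2522 := (sb E1565 F9289)
theorem E1567 : n3404 = n2521 := ((F5403).symm.trans (sb E1565 (iv7 D5978)))
theorem F11360 : act 7 n1500 = n2522 := (sb E1566 (iv7 F9288))
theorem F11361 : act 2 n2521 = n1500 := (sb E1567 (iv2 D3404))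
theorem E1568 : n7093 = n5877 := (((F9083).symm.trans (sb E1567 (iv5 F11346)))).symm
theorem F11362 : act 7 n2521 = n1501 := (sb E1567 (iv7 F5403))
theorem F11363 : act 2 n5877 = n3235 := (sb E1568 F11345)
theorem F11364 : act 7 n5877 = n3234 := (sb E1568 (iv7 D7093))
theorem F11365 : act 7 n3408 = n5976 := d8_2 F11362 D3408 (iv3 D5976)
theorem F11366 : act 7 n3409 = n5977 := d11_2 F11362 D3409 (iv4 D5977)
theorem F11367 : act 2 n3406 = n5977 := d1_3 (iv4 D5977) F11361 D3406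
theorem F11368 : act 2 n3353 = n5942 := d3_3 F9219 F11361 (iv6 F5336)
theorem F11369 : act 7 n5938 = n3353 := d15_2 (iv0 F9220) (iv0 F9215) F11368
theorem F11370 : act 7 n3349 = n5942 := d15_2 (iv0 F5337) (iv0 F5334) (iv2 F11368)
theorem F11371 : act 2 n5938 = n3349 := d4_3 F11370 (iv2 F11368) (iv7 F11369)
theorem F11372 : act 7 n3290 = n5895 := d14_4 F11370 F9219 F11362 (iv6 F5514) (iv6 F9122)
theorem F11373 : act 2 n5895 = n3291 := d15_3 F9126 (iv0 F9127) F11372
theorem F11374 : act 2 n3290 = n5894 := d15_3 (iv0 D5894) D5895 (iv7 F11372)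
theorem F11375 : act 7 n5894 = n3291 := d4_2 (iv7 F11372) F11374 (iv2 F11373)
theorem F11376 : act 7 n5979 = n3405 := d8_2 F11360 D5979 (iv3 D3405)
theorem F11377 : act 7 n5980 = n3406 := d11_2 F11360 D5980 (iv4 D3406)
theorem F11378 : act 2 n3409 = n5980 := d4_3 F11377 F11367 (iv7 F11366)
theorem F11379 : act 7 n5940 = n3347 := d8_2 F11356 D5940 (iv3 D3347)
theorem F11380 : act 7 n5941 = n3348 := d11_2 F11356 D5941 (iv4 D3348)
theorem F11381 : act 2 n3348 = n5937 := d15_3 F10689 (iv0 F10657) F11380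
theorem F11382 : act 2 n5941 = n3352 := d15_3 F10679 (iv0 F10680) (iv7 F11380)
theorem F11383 : act 7 n3352 = n5937 := d4_2 (iv7 F11380) F11382 (iv2 F11381)
def n7097 : Q := act 3 n3238
theorem D7097 : act 3 n3238 = n7097 := rfl
theorem F11385 : act 4 n7097 = n7097 := d5_2 D3238 D7097 (iv3 D7097) (iv4 D3238) F5064
def n7098 : Q := act 5 n3238
theorem D7098 : act 5 n3238 = n7098 := rfl
def n7099 : Q := act 4 n3247
theorem D7099 : act 4 n3247 = n7099 := rfl
theorem F11386 : act 2 n7099 = n7099 := d1_1 D7099 (iv4 D7099) F10307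
theorem F11387 : act 7 n7099 = n6364 := d11_2 (iv7 F10305) D7099 (iv4 D6364)
theorem F11388 : act 5 n7099 = n6364 := d16_1 D7099 (iv4 D6364) (iv5 D2707) F2337 F1433 (iv4 F2337) D2707 (iv7 F10305) F10307
theorem F11389 : act 0 n7099 = n3296 := d18_2 (iv1 F10297) D7099 (iv4 D3296) D3297 F10292 F10190 (iv4 F10398) F10401 (iv5 D5889)
theorem F11390 : act 1 n7099 = n5888 := d18_6 (iv1 F9903) F9921 (iv1 F2356) F9918 D3247 D7099 (iv4 D5888) (iv0 F10301) (iv5 D2707)
def n7100 : Q := act 6 n3247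
theorem D7100 : act 6 n3247 = n7100 := rfl
theorem F11391 : act 2 n7100 = n7100 := d3_1 D7100 (iv6 D7100) F10307
theorem F11392 : act 5 n7100 = n7100 := d12_1 D7100 (iv6 D7100) (iv5 D3247) F9919 D3247
theorem F11393 : act 7 n7100 = n3356 := d14_2 (iv7 F10305) D7100 (iv6 D3356) F2594 (iv6 F4295)
theorem F11394 : act 0 n6029 = n7100 := d21_4 F10381 (iv1 F10278) D3496 (iv6 F9368) (iv6 D7100) (iv5 D3247) (iv1 D1441) D1444 D3260 (iv1 F10382)
theorem F11395 : act 1 n3462 = n7100 := d15_0 (iv0 F11394) F9369 F5436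
def n7101 : Q := act 3 n3257
theorem D7101 : act 3 n3257 = n7101 := rfl
theorem F11396 : act 7 n7101 = n6432 := d8_2 (iv7 F10202) D7101 F10477
theorem F11397 : act 2 n6433 = n7101 := d4_3 F11396 (iv2 F10478) (iv7 F10480)
theorem F11398 : act 1 n5133 = n7101 := d15_1 (iv0 F7832) F11396 (iv2 F10478)
theorem F11399 : act 1 n7101 = n5110 := d15_1 F11398 F7624 (iv2 F10209)
def n7102 : Q := act 4 n3257
theorem D7102 : act 4 n3257 = n7102 := rfl
theorem F11400 : act 2 n7102 = n7102 := d1_1 D7102 (iv4 D7102) F10203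
theorem F11401 : act 5 n7102 = n7102 := d16_1 D7102 (iv4 D7102) (iv5 F10399) F10398 (iv5 D3263) (iv4 F9935) F10191 (iv7 F10202) F10203
theorem F11402 : act 1 n7102 = n3259 := d17_6 F10301 D5889 (iv1 F10401) F10399 D7102 F11401 F10294 (iv0 F10371) (iv4 D6364)
def n7103 : Q := act 4 n3258
theorem D7103 : act 4 n3258 = n7103 := rfl
theorem F11404 : act 2 n7103 = n7103 := d1_1 D7103 (iv4 D7103) F10192
theorem F11405 : act 5 n7103 = n7103 := d9_2 F10191 D7103 (iv4 D7103) (iv5 F10191) F9935 D3263 (iv4 F10398) F10399 D7102 F11401 (iv4 D7102) (iv5 F10399) F10398 (iv5 D3263) (iv4 F9935)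
theorem F11406 : act 6 n7103 = n6617 := d10_2 (iv6 F10193) D7103 (iv4 D6617)
theorem F11407 : act 7 n7103 = n7102 := d11_2 F10202 D7103 (iv4 D7102)
theorem F11408 : act 1 n7103 = n5854 := d17_6 F10296 D3297 (iv1 F10298) F10191 D7103 F11405 F10295 (iv0 F11389) (iv4 D7099)
theorem F11409 : act 0 n7103 = n3259 := d17_0 F10294 (iv1 F11390) F11388 (iv4 D6364) (iv5 D2707) (iv0 F9904) D1444 D3258 D7103
def n7104 : Q := act 3 n3259
theorem D7104 : act 3 n3259 = n7104 := rfl
theorem F11410 : act 4 n7104 = n3275 := d5_2 D3259 D7104 (iv3 D3275) (iv4 D1449) (iv3 F2566)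
def n7105 : Q := act 6 n3259
theorem D7105 : act 6 n3259 = n7105 := rfl
theorem F11412 : act 4 n7105 = n3260 := d10_1 D7105 (iv6 D3260) D3259
theorem F11413 : act 0 n6367 = n7105 := d18_2 F10198 D6367 F11412 (iv5 F9028) (iv4 F10392) F10394 F10320 F10201 (iv5 F5503)
def n7106 : Q := act 3 n3265
theorem D7106 : act 3 n3265 = n7106 := rfl
theorem F11414 : act 4 n7106 = n6871 := d5_2 (iv4 F9961) D7106 (iv3 F11144) F7740 (iv3 F5089)
theorem F11415 : act 6 n7106 = n7106 := d7_2 F9962 D7106 (iv3 D7106)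
theorem F11416 : act 7 n7106 = n5504 := d8_2 (iv7 F9963) D7106 F8401
def n7107 : Q := act 5 n3265
theorem D7107 : act 5 n3265 = n7107 := rfl
theorem F11417 : act 2 n7107 = n5540 := d2_1 D7107 F8450 (iv2 F9960)
theorem F11418 : act 7 n7107 = n5507 := d13_2 (iv7 F9963) D7107 (iv5 D5507)
theorem F11419 : act 1 n5538 = n7107 := d15_1 D5538 F11418 F8406
theorem F11420 : act 1 n7107 = n5537 := d15_0 (iv0 D5537) D5540 (iv2 F11417)
def n7108 : Q := act 0 n3267
theorem D7108 : act 0 n3267 = n7108 := rfl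
theorem F11421 : act 1 n5531 = n7108 := d15_0 (iv0 D7108) (iv7 F9954) F10176
def n7109 : Q := act 1 n3267
theorem D7109 : act 1 n3267 = n7109 := rfl
theorem F11422 : act 1 n7109 = n5531 := d15_1 D7109 (iv7 F10175) F10177
theorem F11423 : act 5 n5742 = n7109 := d17_5 F5093 D2244 D5442 F8269 (iv4 F8848) F11422 (iv5 D5531) (iv0 D2292) F2031
theorem F11424 : act 0 n5282 = n5742 := d17_0 F11423 (iv1 D7109) (iv5 D3267) F9937 D5184 F9894 F8655 F10213 D5282
def n7110 : Q := act 4 n3267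
theorem D7110 : act 4 n3267 = n7110 := rfl
def n7111 : Q := act 6 n3267
theorem D7111 : act 6 n3267 = n7111 := rfl
theorem F11425 : act 3 n7111 = n3270 := d7_1 D7111 (iv6 D3270) (iv3 F5048)
def n7112 : Q := act 0 n3268
theorem D7112 : act 0 n3268 = n7112 := rfl
theorem F11426 : act 4 n7112 = n5545 := d18_3 F10303 F10206 D7112 F8452 D5744 (iv0 F10306) (iv4 D5142) (iv0 F10270) F10272
theorem F11427 : act 7 n6631 = n7112 := d11_0 F11426 (iv7 F8454) (iv4 F10754)
theorem F11428 : act 5 n6373 = n7112 := d17_3 F9907 D2726 D6373 F11426 F8452 (iv0 D2406) (iv5 D1136) D1135 D2403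
def n7113 : Q := act 1 n3268
theorem D7113 : act 1 n3268 = n7113 := rfl
theorem F11429 : act 4 n5291 = n7113 := d20_0 (iv1 D7113) (iv4 F10206) (iv3 F10207) (iv1 F10299) F9108 (iv4 F8383) (iv1 F8720) F8716 (iv3 F8694) (iv1 F8696)
theorem F11430 : act 2 n7113 = n6631 := d1_1 F11429 F10754 F7935
theorem F11431 : act 6 n7113 = n5200 := d10_2 D5291 F11429 F10224
theorem F11432 : act 5 n7113 = n6374 := d21_6 (iv5 F2431) (iv1 F2440) F2438 D2137 D5200 (iv6 F11431) (iv1 D6374) (iv5 D2726) (iv6 D1262) (iv1 F2058)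
def n7114 : Q := act 5 n3268
theorem D7114 : act 5 n3268 = n7114 := rfl
theorem F11433 : act 3 n7114 = n3273 := d6_1 D7114 (iv5 D3273) (iv3 F5049)
theorem F11434 : act 0 n7114 = n6442 := d17_2 (iv1 D7113) D7114 (iv5 D6442) (iv4 D2858) D2859 (iv0 F10011) F10014 (iv0 F8687) F11429
def n7115 : Q := act 7 n3268
theorem D7115 : act 7 n3268 = n7115 := rfl
theorem F11435 : act 3 n7115 = n3274 := d8_1 D7115 (iv7 D3274) (iv3 F5049)
theorem F11436 : act 1 n6631 = n7115 := d15_1 (iv0 F10755) (iv7 D7115) F10205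
theorem F11437 : act 0 n5815 = n6362 := d20_4 F10754 F8550 (iv4 F8681) F10131 (iv3 D6362) (iv4 D2687) F2570 (iv4 F5211) (iv3 F11435) (iv1 F11436)
def n7116 : Q := act 3 n3269
theorem D7116 : act 3 n3269 = n7116 := rfl
def n7117 : Q := act 6 n3269
theorem D7117 : act 6 n3269 = n7117 := rfl
theorem F11438 : act 4 n7117 = n3270 := d10_1 D7117 (iv6 D3270) D3269
def n7118 : Q := act 0 n3270
theorem D7118 : act 0 n3270 = n7118 := rfl
def n7119 : Q := act 1 n3270
theorem D7119 : act 1 n3270 = n7119 := rfl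
theorem F11439 : act 6 n7070 = n7119 := d21_3 (iv5 F9050) (iv1 F9052) D7070 (iv1 D7119) (iv6 D3270) (iv5 D1447) F5056 D2093 (iv6 F3556) D5349
theorem F11440 : act 5 n7119 = n6378 := d12_1 F11439 (iv6 D6378) (iv5 F5079) F5080 D7070
def n7120 : Q := act 5 n3270
theorem D7120 : act 5 n3270 = n7120 := rfl
theorem F11441 : act 6 n7120 = n3273 := d12_2 D3270 D7120 (iv5 D3273) (iv6 D1448) D1447
def n7121 : Q := act 7 n3270
theorem D7121 : act 7 n3270 = n7121 := rfl
def n7122 : Q := act 4 n3273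
theorem D7122 : act 4 n3273 = n7122 := rfl
theorem F11442 : act 0 n7122 = n5416 := d17_0 (iv5 F8241) (iv1 F9872) (iv5 D6344) (iv4 D2666) (iv5 D1241) (iv0 F7710) D2364 (iv0 F7596) D7122
theorem F11443 : act 1 n7122 = n5405 := d18_6 F8661 (iv4 D2776) F3872 (iv4 F2568) D3273 D7122 (iv4 D5405) D5404 (iv5 F8660)
def n7123 : Q := act 0 n3275
theorem D7123 : act 0 n3275 = n7123 := rfl
def n7124 : Q := act 1 n3275
theorem D7124 : act 1 n3275 = n7124 := rfl
def n7125 : Q := act 2 n3275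
theorem D7125 : act 2 n3275 = n7125 := rfl
def n7126 : Q := act 5 n3275
theorem D7126 : act 5 n3275 = n7126 := rfl
theorem F11444 : act 3 n7126 = n3276 := d6_1 D7126 (iv5 D3276) D3275
def n7127 : Q := act 6 n3275
theorem D7127 : act 6 n3275 = n7127 := rfl
theorem F11445 : act 3 n7127 = n3277 := d7_1 D7127 (iv6 D3277) D3275
def n7128 : Q := act 6 n3276
theorem D7128 : act 6 n3276 = n7128 := rfl
def n7129 : Q := act 5 n3277
theorem D7129 : act 5 n3277 = n7129 := rfl
def n7130 : Q := act 0 n3284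
theorem D7130 : act 0 n3284 = n7130 := rfl
def n7131 : Q := act 1 n3284
theorem D7131 : act 1 n3284 = n7131 := rfl
def n7132 : Q := act 2 n3284
theorem D7132 : act 2 n3284 = n7132 := rfl
theorem F11446 : act 4 n7132 = n7132 := d1_2 F5224 D7132 (iv2 D7132)
def n7133 : Q := act 5 n3284
theorem D7133 : act 5 n3284 = n7133 := rfl
theorem F11447 : act 3 n7133 = n3285 := d6_1 D7133 (iv5 D3285) D3284
def n7134 : Q := act 6 n3284
theorem D7134 : act 6 n3284 = n7134 := rfl
theorem F11448 : act 3 n7134 = n3286 := d7_1 D7134 (iv6 D3286) D3284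
def n7135 : Q := act 0 n3285
theorem D7135 : act 0 n3285 = n7135 := rfl
theorem F11450 : act 5 n7135 = n5872 := d17_3 F5189 D3285 D7135 F9071 F8033 (iv0 F8038) F3711 (iv0 D2105) D2107
theorem F11451 : act 1 n3300 = n7135 := d15_0 (iv0 D7135) (iv7 F9131) F9130
theorem F11452 : act 2 n7079 = n7135 := d2_3 F11450 (iv2 F9072) D7079
theorem F11453 : act 7 n7077 = n7135 := d13_0 F11450 F9070 D7077
def n7136 : Q := act 1 n3285
theorem D7136 : act 1 n3285 = n7136 := rfl
theorem F11454 : act 1 n7136 = n3300 := d15_1 D7136 (iv7 F9114) F9113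
theorem F11455 : act 7 n7136 = n7079 := d15_2 (iv0 D7135) D7136 F11452
theorem F11456 : act 5 n7136 = n5669 := d17_7 D2465 F3853 F3902 (iv5 D1457) D1456 D3285 D7136 F8726 (iv4 D2467)
theorem F11457 : act 2 n7077 = n7136 := d2_3 F11456 F8723 D7077
def n7137 : Q := act 6 n3285
theorem D7137 : act 6 n3285 = n7137 := rfl
def n7138 : Q := act 0 n3286
theorem D7138 : act 0 n3286 = n7138 := rfl
def n7139 : Q := act 1 n3286
theorem D7139 : act 1 n3286 = n7139 := rfl
def n7140 : Q := act 5 n3286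
theorem D7140 : act 5 n3286 = n7140 := rfl
def n7141 : Q := act 7 n3286
theorem D7141 : act 7 n3286 = n7141 := rfl
theorem F11458 : act 4 n7141 = n3293 := d11_1 D7141 (iv7 D3293) (iv4 F5225)
def n7142 : Q := act 3 n3288
theorem D7142 : act 3 n3288 = n7142 := rfl
theorem F11459 : act 4 n7142 = n7142 := d5_2 D3288 D7142 (iv3 D7142) (iv4 D3288) F5186
def n7143 : Q := act 3 n3290
theorem D7143 : act 3 n3290 = n7143 := rfl
theorem F11460 : act 6 n7143 = n3408 := d7_2 (iv6 F5514) D7143 (iv3 D3408)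
def n7144 : Q := act 4 n3290
theorem D7144 : act 4 n3290 = n7144 := rfl
theorem F11461 : act 6 n7144 = n3409 := d10_2 (iv6 F5514) D7144 (iv4 D3409)
def n7145 : Q := act 3 n3291
theorem D7145 : act 3 n3291 = n7145 := rfl
def n7146 : Q := act 4 n3291
theorem D7146 : act 4 n3291 = n7146 := rfl
def n7147 : Q := act 4 n3292
theorem D7147 : act 4 n3292 = n7147 := rfl
theorem F11462 : act 6 n7147 = n6576 := d10_2 (iv6 F5279) D7147 (iv4 D6576)
def n7148 : Q := act 3 n3296
theorem D7148 : act 3 n3296 = n7148 := rfl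
theorem F11463 : act 4 n7148 = n3299 := d5_2 D3296 D7148 (iv3 D3299) (iv4 D1461) D1460
def n7149 : Q := act 6 n3296
theorem D7149 : act 6 n3296 = n7149 := rfl
theorem F11464 : act 2 n7149 = n7149 := d3_1 D7149 (iv6 D7149) F5284
theorem F11465 : act 4 n7149 = n3298 := d10_1 D7149 (iv6 D3298) D3296
def n7150 : Q := act 0 n3298
theorem D7150 : act 0 n3298 = n7150 := rfl
theorem F11466 : act 6 n7150 = n6620 := d21_5 (iv5 F10399) (iv1 F10402) (iv5 D3297) D3298 D7150 (iv5 D6620) F10200 F9028 (iv6 D3260) D3257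
theorem F11467 : act 5 n7150 = n3363 := d21_0 (iv1 F5360) (iv5 F9190) F9191 (iv1 F5361) F10204 (iv5 F10399) (iv1 F10402) (iv5 D3297) D3298 D7150
theorem F11468 : act 2 n7150 = n7150 := d2_3 F11467 F10101 (iv5 F11467)
theorem F11469 : act 7 n6623 = n7150 := d13_0 F11467 (iv7 F10103) (iv5 F10733)
def n7151 : Q := act 5 n3298
theorem D7151 : act 5 n3298 = n7151 := rfl
theorem F11471 : act 3 n7151 = n3304 := d6_1 D7151 (iv5 D3304) (iv3 F5289)
theorem F11472 : act 6 n7151 = n6038 := d12_2 D3298 D7151 (iv5 D6038) F5287 (iv5 D3297)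
def n7152 : Q := act 7 n3298
theorem D7152 : act 7 n3298 = n7152 := rfl
theorem F11474 : act 3 n7152 = n3305 := d8_1 D7152 (iv7 D3305) (iv3 F5289)
theorem F11476 : act 1 n6623 = n7152 := d15_1 (iv0 F10734) (iv7 D7152) F5288
def n7153 : Q := act 0 n3299
theorem D7153 : act 0 n3299 = n7153 := rfl
def n7154 : Q := act 1 n3299
theorem D7154 : act 1 n3299 = n7154 := rfl
def n7155 : Q := act 2 n3299
theorem D7155 : act 2 n3299 = n7155 := rfl
def n7156 : Q := act 5 n3299
theorem D7156 : act 5 n3299 = n7156 := rfl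
theorem F11477 : act 3 n7156 = n3300 := d6_1 D7156 (iv5 D3300) D3299
def n7157 : Q := act 6 n3299
theorem D7157 : act 6 n3299 = n7157 := rfl
theorem F11478 : act 3 n7157 = n3301 := d7_1 D7157 (iv6 D3301) D3299
def n7158 : Q := act 6 n3300
theorem D7158 : act 6 n3300 = n7158 := rfl
def n7159 : Q := act 0 n3301
theorem D7159 : act 0 n3301 = n7159 := rfl
theorem F11479 : act 4 n7159 = n6137 := d18_3 F4695 (iv4 F5290) D7159 (iv5 D6137) (iv4 F10660) (iv0 D3373) F2607 D1491 (iv5 F4641)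
theorem F11480 : act 7 n6707 = n7159 := d11_0 F11479 F9551 (iv4 F10935)
def n7160 : Q := act 1 n3301
theorem D7160 : act 1 n3301 = n7160 := rfl
def n7161 : Q := act 5 n3301
theorem D7161 : act 5 n3301 = n7161 := rfl
def n7162 : Q := act 7 n3301
theorem D7162 : act 7 n3301 = n7162 := rfl
theorem F11481 : act 4 n7162 = n3305 := d11_1 D7162 (iv7 D3305) (iv4 F5290)
theorem F11482 : act 1 n6707 = n7162 := d18_6 (iv1 F3988) (iv4 F5372) (iv1 F10672) (iv4 D3687) D3688 (iv4 F10935) F11481 F9138 F9135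
theorem F11483 : act 1 n5899 = n6707 := d15_0 F11482 (iv7 D7162) (iv2 F9132)
def n7163 : Q := act 3 n3302
theorem D7163 : act 3 n3302 = n7163 := rfl
theorem F11484 : act 4 n7163 = n5184 := d5_2 D3302 D7163 (iv3 F10094) (iv4 F10292) F5286
theorem F11485 : act 6 n7163 = n5344 := d7_2 (iv6 F5291) D7163 (iv3 D5344)
theorem F11486 : act 7 n7163 = n5265 := d8_2 F8385 D7163 (iv3 F10300)
theorem F11487 : act 2 n5282 = n7163 := d3_3 F11485 F10286 (iv6 F10075)
theorem F11488 : act 5 n7163 = n5538 := d21_6 (iv5 F2438) (iv1 F2441) F2433 D2377 (iv1 F10285) (iv6 F11485) (iv1 D5538) (iv5 D2294) (iv6 D1103) (iv1 F1967)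
theorem F11489 : act 3 n5538 = n5101 := d6_1 F11488 (iv5 F7592) D7163
theorem F11490 : act 7 n5538 = n6424 := d13_2 (iv7 F11486) F11488 F10467
theorem F11491 : act 2 n6424 = n5537 := d15_3 (iv0 D5537) D5538 F11490
theorem F11492 : act 0 n7163 = n6443 := d20_1 (iv4 F11484) F10504 F4464 F4371 F10028 D2761 (iv1 F8662) (iv4 D5646) D5645 (iv1 F9894)
theorem F11493 : act 4 n6985 = n7001 := d20_8 F8546 F4609 D3302 D7163 F11492 (iv3 F11247) F11248 D6985 F11261 (iv1 F8549)
def n7164 : Q := act 4 n3303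
theorem D7164 : act 4 n3303 = n7164 := rfl
theorem F11494 : act 6 n7164 = n6591 := d10_2 (iv6 F5292) D7164 (iv4 D6591)
theorem F11495 : act 7 n7164 = n6699 := d11_2 F5294 D7164 F10915
theorem F11496 : act 1 n7164 = n3313 := d18_6 (iv1 D1619) (iv4 F2801) (iv1 F10654) (iv4 D3378) (iv5 F5293) D7164 F5302 (iv0 F7946) (iv5 D3688)
def n7165 : Q := act 4 n3304
theorem D7165 : act 4 n3304 = n7165 := rfl
theorem F11497 : act 6 n7165 = n6039 := d10_2 (iv6 F5295) D7165 (iv4 D6039)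
def n7166 : Q := act 0 n3307
theorem D7166 : act 0 n3307 = n7166 := rfl
def n7167 : Q := act 1 n3307
theorem D7167 : act 1 n3307 = n7167 := rfl
def n7168 : Q := act 2 n3307
theorem D7168 : act 2 n3307 = n7168 := rfl
def n7169 : Q := act 4 n3307
theorem D7169 : act 4 n3307 = n7169 := rfl
theorem F11498 : act 3 n7169 = n5749 := d5_1 D7169 F8851 (iv3 D2866) (iv4 F4911) D3307
def n7170 : Q := act 5 n3307
theorem D7170 : act 5 n3307 = n7170 := rfl
theorem F11499 : act 3 n7170 = n3308 := d6_1 D7170 (iv5 D3308) D3307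
def n7171 : Q := act 6 n3307
theorem D7171 : act 6 n3307 = n7171 := rfl
theorem F11500 : act 3 n7171 = n3309 := d7_1 D7171 (iv6 D3309) D3307
def n7172 : Q := act 0 n3308
theorem D7172 : act 0 n3308 = n7172 := rfl
theorem F11501 : act 5 n7172 = n5871 := d17_3 D1464 D3308 D7172 (iv4 D5871) F4607 (iv0 F4608) (iv5 D1457) (iv0 D798) D800
theorem F11502 : act 1 n3312 = n7172 := d15_0 (iv0 D7172) (iv7 F9151) F9150
theorem F11503 : act 2 n7075 = n7172 := d2_3 F11501 F9064 D7075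
theorem F11504 : act 7 n7073 = n7172 := d13_0 F11501 F9066 D7073
def n7173 : Q := act 1 n3308
theorem D7173 : act 1 n3308 = n7173 := rfl
theorem F11505 : act 1 n7173 = n3312 := d15_1 D7173 (iv7 F9146) F9145
theorem F11506 : act 7 n7173 = n7075 := d15_2 (iv0 D7172) D7173 F11503
theorem F11507 : act 5 n7173 = n5869 := d17_7 F3623 (iv5 D2275) D2273 F3621 (iv4 F4911) D3308 D7173 F9061 (iv4 D5105)
theorem F11508 : act 2 n7073 = n7173 := d2_3 F11507 F9057 D7073
def n7174 : Q := act 6 n3308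
theorem D7174 : act 6 n3308 = n7174 := rfl
def n7175 : Q := act 0 n3309
theorem D7175 : act 0 n3309 = n7175 := rfl
def n7176 : Q := act 1 n3309
theorem D7176 : act 1 n3309 = n7176 := rfl
def n7177 : Q := act 5 n3309
theorem D7177 : act 5 n3309 = n7177 := rfl
def n7178 : Q := act 7 n3309
theorem D7178 : act 7 n3309 = n7178 := rfl
theorem F11509 : act 4 n7178 = n6450 := d11_1 D7178 (iv7 D6450) (iv4 F5299)
def n7179 : Q := act 0 n3311
theorem D7179 : act 0 n3311 = n7179 := rfl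
def n7180 : Q := act 1 n3311
theorem D7180 : act 1 n3311 = n7180 := rfl
def n7181 : Q := act 2 n3311
theorem D7181 : act 2 n3311 = n7181 := rfl
def n7182 : Q := act 4 n3311
theorem D7182 : act 4 n3311 = n7182 := rfl
theorem F11510 : act 3 n7182 = n6451 := d5_1 D7182 (iv4 D6451) (iv3 D2870) (iv4 F4938) D3311
def n7183 : Q := act 5 n3311
theorem D7183 : act 5 n3311 = n7183 := rfl
theorem F11511 : act 3 n7183 = n3312 := d6_1 D7183 (iv5 D3312) D3311
def n7184 : Q := act 6 n3311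
theorem D7184 : act 6 n3311 = n7184 := rfl
theorem F11512 : act 3 n7184 = n3313 := d7_1 D7184 (iv6 D3313) D3311
def n7185 : Q := act 6 n3312
theorem D7185 : act 6 n3312 = n7185 := rfl
def n7186 : Q := act 1 n3313
theorem D7186 : act 1 n3313 = n7186 := rfl
def n7187 : Q := act 5 n3313
theorem D7187 : act 5 n3313 = n7187 := rfl
def n7188 : Q := act 7 n3313
theorem D7188 : act 7 n3313 = n7188 := rfl
theorem F11513 : act 4 n7188 = n6453 := d11_1 D7188 (iv7 D6453) (iv4 F5302)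
theorem F11514 : act 1 n6699 = n7188 := d18_6 (iv1 F4145) (iv4 F5700) (iv1 F10677) (iv4 D5957) (iv5 F4725) (iv4 F10915) F11513 F10523 (iv5 D6137)
theorem F11515 : act 1 n5907 = n6699 := d15_0 F11514 (iv7 D7188) (iv2 F9152)
def n7189 : Q := act 0 n3314
theorem D7189 : act 0 n3314 = n7189 := rfl
theorem F11516 : act 2 n3318 = n7189 := d15_3 (iv0 D7189) (iv0 D3314) D3318
theorem F11517 : act 7 n7189 = n3316 := d4_2 D3318 F11516 (iv2 D3316)
theorem F11518 : act 1 n3315 = n7189 := d15_1 D3315 F11517 (iv2 D3316)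
def n7190 : Q := act 2 n3314
theorem D7190 : act 2 n3314 = n7190 := rfl
theorem F11519 : act 7 n3315 = n7190 := d15_2 (iv0 D3314) D3315 (iv2 D7190)
def n7191 : Q := act 3 n3314
theorem D7191 : act 3 n3314 = n7191 := rfl
def n7192 : Q := act 4 n3314
theorem D7192 : act 4 n3314 = n7192 := rfl
def n7193 : Q := act 5 n3314
theorem D7193 : act 5 n3314 = n7193 := rfl
def n7194 : Q := act 6 n3314
theorem D7194 : act 6 n3314 = n7194 := rfl
def n7195 : Q := act 7 n3314
theorem D7195 : act 7 n3314 = n7195 := rfl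
theorem F11520 : act 2 n7195 = n3315 := d4_1 D7195 F11519 (iv2 D7190)
def n7196 : Q := act 3 n3315
theorem D7196 : act 3 n3315 = n7196 := rfl
def n7197 : Q := act 4 n3315
theorem D7197 : act 4 n3315 = n7197 := rfl
def n7198 : Q := act 5 n3315
theorem D7198 : act 5 n3315 = n7198 := rfl
def n7199 : Q := act 6 n3315
theorem D7199 : act 6 n3315 = n7199 := rfl
def n7200 : Q := act 0 n3316
theorem D7200 : act 0 n3316 = n7200 := rfl
theorem F11521 : act 1 n3318 = n7200 := d15_0 (iv0 D7200) (iv7 F11517) (iv2 F11516)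
theorem F11522 : act 4 n7191 = n7200 := d20_6 (iv4 D1461) (iv1 D799) D800 D1466 D3314 D7191 (iv1 F11521) (iv4 F10528) F10527 (iv1 F5181)
def n7201 : Q := act 1 n3316
theorem D7201 : act 1 n3316 = n7201 := rfl
theorem F11523 : act 1 n7201 = n3318 := d15_1 D7201 (iv7 D3318) D3316
theorem F11524 : act 3 n7201 = n7197 := d20_5 (iv4 D2488) (iv1 F2120) (iv4 F2575) (iv3 F5305) (iv1 F11523) (iv4 D7197) (iv1 D3315) (iv4 F4468) (iv3 D2875) (iv1 F5276)
def n7202 : Q := act 5 n3316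
theorem D7202 : act 5 n3316 = n7202 := rfl
theorem F11525 : act 2 n7202 = n3317 := d2_1 D7202 (iv5 D3317) D3316
def n7203 : Q := act 0 n3317
theorem D7203 : act 0 n3317 = n7203 := rfl
def n7204 : Q := act 1 n3317
theorem D7204 : act 1 n3317 = n7204 := rfl
def n7205 : Q := act 4 n3317
theorem D7205 : act 4 n3317 = n7205 := rfl
def n7206 : Q := act 6 n3317
theorem D7206 : act 6 n3317 = n7206 := rfl
theorem F11526 : act 3 n7206 = n3322 := d7_1 D7206 (iv6 D3322) (iv3 F5304)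
theorem F11527 : act 5 n7206 = n3448 := d12_1 D7206 (iv6 D3448) (iv5 D1512) (iv6 F2574) D3317
def n7207 : Q := act 7 n3317
theorem D7207 : act 7 n3317 = n7207 := rfl
theorem F11528 : act 3 n7207 = n3323 := d8_1 D7207 (iv7 D3323) (iv3 F5304)
theorem F11529 : act 5 n7207 = n3318 := d13_1 D7207 (iv7 D3318) D3317
def n7208 : Q := act 6 n3318
theorem D7208 : act 6 n3318 = n7208 := rfl
theorem F11530 : act 3 n7208 = n3324 := d7_1 D7208 (iv6 D3324) (iv3 F5305)
theorem F11531 : act 7 n7208 = n3449 := d14_2 D3318 D7208 (iv6 D3449) (iv7 D1513) (iv6 F2574)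
def n7209 : Q := act 3 n3319
theorem D7209 : act 3 n3319 = n7209 := rfl
theorem F11532 : act 5 n7209 = n6439 := d6_2 (iv5 F5306) D7209 (iv3 D6439)
def n7210 : Q := act 6 n3319
theorem D7210 : act 6 n3319 = n7210 := rfl
def n7211 : Q := act 3 n3320
theorem D7211 : act 3 n3320 = n7211 := rfl
theorem F11533 : act 5 n7211 = n6446 := d6_2 (iv5 F5307) D7211 (iv3 D6446)
def n7212 : Q := act 6 n3320
theorem D7212 : act 6 n3320 = n7212 := rfl
def n7213 : Q := act 3 n3321
theorem D7213 : act 3 n3321 = n7213 := rfl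
def n7214 : Q := act 6 n3321
theorem D7214 : act 6 n3321 = n7214 := rfl
theorem F11534 : act 4 n7214 = n3322 := d10_1 D7214 (iv6 D3322) D3321
def n7215 : Q := act 0 n3322
theorem D7215 : act 0 n3322 = n7215 := rfl
def n7216 : Q := act 1 n3322
theorem D7216 : act 1 n3322 = n7216 := rfl
def n7217 : Q := act 7 n3322
theorem D7217 : act 7 n3322 = n7217 := rfl
theorem F11535 : act 5 n7217 = n3456 := d13_1 D7217 (iv7 D3456) (iv5 F5308)
def n7218 : Q := act 6 n3323
theorem D7218 : act 6 n3323 = n7218 := rfl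
def n7219 : Q := act 5 n3324
theorem D7219 : act 5 n3324 = n7219 := rfl
theorem F11536 : act 7 n7219 = n3459 := d13_2 (iv7 F5311) D7219 (iv5 D3459)
def n7220 : Q := act 3 n3325
theorem D7220 : act 3 n3325 = n7220 := rfl
theorem F11537 : act 4 n7220 = n3327 := d5_2 D3325 D7220 (iv3 D3327) (iv4 D1471) D1470
theorem F11538 : act 7 n7220 = n6035 := d8_2 (iv7 F5312) D7220 (iv3 D6035)
def n7221 : Q := act 5 n3325
theorem D7221 : act 5 n3325 = n7221 := rfl
theorem F11539 : act 7 n7221 = n6036 := d13_2 (iv7 F5312) D7221 (iv5 D6036)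
theorem F11540 : act 0 n7221 = n5776 := d17_2 F5608 D7221 (iv5 D5776) F3810 F2398 D1523 (iv5 F4132) F4130 D3573
theorem F11541 : act 1 n7221 = n5779 := d17_6 (iv1 F2735) D2416 F3808 (iv5 F2578) D3325 D7221 (iv5 D5779) (iv0 F5587) (iv4 D3564)
def n7222 : Q := act 6 n3325
theorem D7222 : act 6 n3325 = n7222 := rfl
theorem F11542 : act 4 n7222 = n3326 := d10_1 D7222 (iv6 D3326) D3325
def n7223 : Q := act 0 n3326
theorem D7223 : act 0 n3326 = n7223 := rfl
def n7224 : Q := act 1 n3326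
theorem D7224 : act 1 n3326 = n7224 := rfl
theorem F11543 : act 6 n6567 = n7224 := d21_3 F8735 (iv1 F10355) F10627 (iv1 D7224) (iv6 D3326) F2578 (iv1 F2181) (iv5 F2091) (iv6 F3716) D5680
def n7225 : Q := act 7 n3326
theorem D7225 : act 7 n3326 = n7225 := rfl
theorem F11544 : act 3 n7225 = n3330 := d8_1 D7225 (iv7 D3330) (iv3 F5314)
theorem F11545 : act 5 n7225 = n7225 := d13_1 D7225 (iv7 D7225) F5315
theorem F11546 : act 6 n7225 = n5513 := d14_1 D7225 (iv7 D5513) F3640 (iv7 F2579) D3326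
def n7226 : Q := act 0 n3327
theorem D7226 : act 0 n3327 = n7226 := rfl
theorem F11547 : act 1 n6046 = n7226 := d15_0 (iv0 D7226) F5316 D6046
def n7227 : Q := act 1 n3327
theorem D7227 : act 1 n3327 = n7227 := rfl
def n7228 : Q := act 2 n3327
theorem D7228 : act 2 n3327 = n7228 := rfl
theorem F11548 : act 7 n7228 = n6046 := d4_2 (iv7 F5316) D7228 (iv2 D6046)
theorem F11549 : act 1 n7228 = n6044 := d15_0 (iv0 D6044) (iv7 F5316) D7228
theorem F11550 : act 1 n7227 = n6046 := d15_1 D7227 (iv7 F11548) (iv2 D7228)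
theorem F11551 : act 1 n6045 = n7228 := d15_1 D6045 F11548 (iv2 D6046)
def n7229 : Q := act 6 n3327
theorem D7229 : act 6 n3327 = n7229 := rfl
theorem F11552 : act 3 n7229 = n3328 := d7_1 D7229 (iv6 D3328) D3327
def n7230 : Q := act 0 n3328
theorem D7230 : act 0 n3328 = n7230 := rfl
def n7231 : Q := act 1 n3328
theorem D7231 : act 1 n3328 = n7231 := rfl
def n7232 : Q := act 5 n3328
theorem D7232 : act 5 n3328 = n7232 := rfl
theorem F11553 : act 0 n7177 = n7232 := d21_7 (iv5 F2629) (iv1 D1515) (iv5 D818) (iv6 F1511) D1464 D3309 D7177 (iv5 D7232) (iv6 D3328) F2581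
theorem E1569 : n7176 = n7146 := ((c17_10 (iv1 D7176) D7177 F11553 (iv5 D7232) F5317 F2584 (iv0 F5280) (iv5 D3292) D3291 D7146)).symm
theorem F11554 : act 0 n7146 = n3309 := (sb E1569 (iv1 D7176))
def n7233 : Q := act 7 n3328
theorem D7233 : act 7 n3328 = n7233 := rfl
theorem F11555 : act 4 n7233 = n3330 := d11_1 D7233 (iv7 D3330) (iv4 F5317)
theorem F11556 : act 6 n7233 = n6043 := d14_1 D7233 (iv7 D6043) F4055 (iv7 F2580) D3328
def n7234 : Q := act 3 n3329
theorem D7234 : act 3 n3329 = n7234 := rfl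
theorem F11557 : act 2 n7234 = n7234 := d0_1 D7234 (iv3 D7234) F5536 F5537 (iv2 F5536)
def n7235 : Q := act 4 n3329
theorem D7235 : act 4 n3329 = n7235 := rfl
def n7236 : Q := act 0 n3331
theorem D7236 : act 0 n3331 = n7236 := rfl
def n7237 : Q := act 1 n3331
theorem D7237 : act 1 n3331 = n7237 := rfl
def n7238 : Q := act 2 n3331
theorem D7238 : act 2 n3331 = n7238 := rfl
def n7239 : Q := act 5 n3331
theorem D7239 : act 5 n3331 = n7239 := rfl
theorem F11558 : act 3 n7239 = n3332 := d6_1 D7239 (iv5 D3332) D3331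
def n7240 : Q := act 6 n3331
theorem D7240 : act 6 n3331 = n7240 := rfl
theorem F11559 : act 3 n7240 = n3333 := d7_1 D7240 (iv6 D3333) D3331
def n7241 : Q := act 6 n3332
theorem D7241 : act 6 n3332 = n7241 := rfl
theorem F11560 : act 4 n7241 = n3739 := d10_1 D7241 (iv6 D3739) (iv4 F5320)
def n7242 : Q := act 0 n3333
theorem D7242 : act 0 n3333 = n7242 := rfl
def n7243 : Q := act 1 n3333
theorem D7243 : act 1 n3333 = n7243 := rfl
def n7244 : Q := act 5 n3333
theorem D7244 : act 5 n3333 = n7244 := rfl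
theorem F11561 : act 0 n7140 = n7244 := d21_7 D1488 (iv1 F3439) (iv5 D2110) (iv6 F3429) F5189 D3286 D7140 (iv5 D7244) (iv6 D3333) (iv1 F2586)
def n7245 : Q := act 7 n3333
theorem D7245 : act 7 n3333 = n7245 := rfl
theorem F11562 : act 4 n7245 = n5367 := d11_1 D7245 F8181 (iv4 F5323)
theorem F11563 : act 6 n7245 = n5366 := d14_1 D7245 (iv7 D5366) F3570 F2666 D3333
def n7246 : Q := act 0 n3334
theorem D7246 : act 0 n3334 = n7246 := rfl
def n7247 : Q := act 1 n3334
theorem D7247 : act 1 n3334 = n7247 := rfl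
def n7248 : Q := act 2 n3334
theorem D7248 : act 2 n3334 = n7248 := rfl
def n7249 : Q := act 4 n3334
theorem D7249 : act 4 n3334 = n7249 := rfl
theorem F11564 : act 3 n7249 = n3666 := d5_1 D7249 (iv4 D3666) F2796 (iv4 F2588) D3334
def n7250 : Q := act 5 n3334
theorem D7250 : act 5 n3334 = n7250 := rfl
theorem F11565 : act 3 n7250 = n3335 := d6_1 D7250 (iv5 D3335) D3334
def n7251 : Q := act 6 n3335
theorem D7251 : act 6 n3335 = n7251 := rfl
theorem F11566 : act 4 n7251 = n3741 := d10_1 D7251 (iv6 D3741) (iv4 F5324)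
def n7252 : Q := act 2 n3336
theorem D7252 : act 2 n3336 = n7252 := rfl
theorem F11567 : act 7 n3337 = n7252 := d15_2 (iv0 D3336) D3337 (iv2 D7252)
def n7253 : Q := act 3 n3336
theorem D7253 : act 3 n3336 = n7253 := rfl
def n7254 : Q := act 4 n3336
theorem D7254 : act 4 n3336 = n7254 := rfl
def n7255 : Q := act 5 n3336
theorem D7255 : act 5 n3336 = n7255 := rfl
def n7256 : Q := act 6 n3336
theorem D7256 : act 6 n3336 = n7256 := rfl
def n7257 : Q := act 7 n3336
theorem D7257 : act 7 n3336 = n7257 := rfl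
theorem F11568 : act 2 n7257 = n3337 := d4_1 D7257 F11567 (iv2 D7252)
def n7258 : Q := act 3 n3337
theorem D7258 : act 3 n3337 = n7258 := rfl
def n7259 : Q := act 4 n3337
theorem D7259 : act 4 n3337 = n7259 := rfl
theorem F11569 : act 3 n6128 = n7259 := d20_5 F2585 (iv1 F2202) D1210 D2583 D6128 (iv4 D7259) (iv1 D3337) F2589 (iv3 D1475) D1473
def n7260 : Q := act 5 n3337
theorem D7260 : act 5 n3337 = n7260 := rfl
def n7261 : Q := act 6 n3337
theorem D7261 : act 6 n3337 = n7261 := rfl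
def n7262 : Q := act 5 n3338
theorem D7262 : act 5 n3338 = n7262 := rfl
theorem F11570 : act 2 n7262 = n3339 := d2_1 D7262 (iv5 D3339) D3338
def n7263 : Q := act 6 n3338
theorem D7263 : act 6 n3338 = n7263 := rfl
theorem F11571 : act 2 n7263 = n3340 := d3_1 D7263 (iv6 D3340) D3338
theorem F11572 : act 4 n7263 = n7263 := d10_1 D7263 (iv6 D7263) F5327
def n7264 : Q := act 0 n3339
theorem D7264 : act 0 n3339 = n7264 := rfl
def n7265 : Q := act 1 n3339
theorem D7265 : act 1 n3339 = n7265 := rfl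
def n7266 : Q := act 4 n3339
theorem D7266 : act 4 n3339 = n7266 := rfl
theorem F11573 : act 3 n7266 = n3905 := d5_1 D7266 (iv4 D3905) (iv3 D1689) (iv4 F2590) (iv3 F5328)
def n7267 : Q := act 6 n3339
theorem D7267 : act 6 n3339 = n7267 := rfl
theorem F11574 : act 3 n7267 = n3341 := d7_1 D7267 (iv6 D3341) (iv3 F5328)
def n7268 : Q := act 0 n3340
theorem D7268 : act 0 n3340 = n7268 := rfl
def n7269 : Q := act 1 n3340
theorem D7269 : act 1 n3340 = n7269 := rfl
def n7270 : Q := act 5 n3340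
theorem D7270 : act 5 n3340 = n7270 := rfl
theorem F11575 : act 3 n7270 = n3344 := d6_1 D7270 (iv5 D3344) (iv3 F5329)
def n7271 : Q := act 7 n3340
theorem D7271 : act 7 n3340 = n7271 := rfl
theorem F11576 : act 3 n7271 = n3345 := d8_1 D7271 (iv7 D3345) (iv3 F5329)
def n7272 : Q := act 0 n3341
theorem D7272 : act 0 n3341 = n7272 := rfl
def n7273 : Q := act 1 n3341
theorem D7273 : act 1 n3341 = n7273 := rfl
def n7274 : Q := act 5 n3341
theorem D7274 : act 5 n3341 = n7274 := rfl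
theorem F11578 : act 6 n7274 = n3344 := d12_2 D3341 D7274 (iv5 D3344) (iv6 D1477) D1476
def n7275 : Q := act 7 n3341
theorem D7275 : act 7 n3341 = n7275 := rfl
theorem F11579 : act 4 n7275 = n3910 := d11_1 D7275 (iv7 D3910) (iv4 F5331)
def n7276 : Q := act 2 n3342
theorem D7276 : act 2 n3342 = n7276 := rfl
theorem F11580 : act 4 n7276 = n6078 := d1_2 (iv4 F10684) D7276 (iv2 D6078)
theorem F11581 : act 7 n3343 = n7276 := d15_2 (iv0 D3342) D3343 (iv2 D7276)
def n7277 : Q := act 3 n3342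
theorem D7277 : act 3 n3342 = n7277 := rfl
def n7278 : Q := act 5 n3342
theorem D7278 : act 5 n3342 = n7278 := rfl
theorem F11582 : act 0 n7278 = n7161 := d17_2 D3342 D7278 (iv5 D7161) F5290 D3304 (iv0 F5334) (iv5 D3349) (iv0 D1478) (iv4 F2591)
theorem F11583 : act 6 n7086 = n3342 := d21_5 D5119 F7634 (iv5 D3232) D3233 D7086 D7278 F11582 (iv5 D7161) (iv6 D3301) (iv1 F5180)
theorem F11584 : act 4 n6082 = n7086 := d10_3 F11583 F10684 D6082
theorem F11585 : act 4 n3401 = n3524 := d18_3 (iv1 F4011) (iv4 F9283) (iv1 F9286) (iv5 F9455) F11584 (iv0 D7086) F5028 D3235 (iv5 F5032)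
def n7279 : Q := act 7 n3342
theorem D7279 : act 7 n3342 = n7279 := rfl
theorem F11586 : act 2 n7279 = n3343 := d4_1 D7279 F11581 (iv2 D7276)
def n7280 : Q := act 3 n3343
theorem D7280 : act 3 n3343 = n7280 := rfl
def n7281 : Q := act 5 n3343
theorem D7281 : act 5 n3343 = n7281 := rfl
def n7282 : Q := act 6 n3343
theorem D7282 : act 6 n3343 = n7282 := rfl
theorem F11588 : act 4 n7282 = n6087 := d10_1 D7282 (iv6 D6087) (iv4 F10673)
def n7283 : Q := act 0 n3344
theorem D7283 : act 0 n3344 = n7283 := rfl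
def n7284 : Q := act 1 n3344
theorem D7284 : act 1 n3344 = n7284 := rfl
theorem F11589 : act 5 n7284 = n6707 := d17_7 (iv1 F5296) F4725 (iv1 D2513) F2134 (iv4 F2591) D3344 D7284 F11482 F11481
def n7285 : Q := act 4 n3344
theorem D7285 : act 4 n3344 = n7285 := rfl
def n7286 : Q := act 7 n3344
theorem D7286 : act 7 n3344 = n7286 := rfl
theorem F11590 : act 5 n7286 = n3345 := d13_1 D7286 (iv7 D3345) D3344
def n7287 : Q := act 0 n3347
theorem D7287 : act 0 n3347 = n7287 := rfl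
def n7288 : Q := act 1 n3347
theorem D7288 : act 1 n3347 = n7288 := rfl
def n7289 : Q := act 2 n3347
theorem D7289 : act 2 n3347 = n7289 := rfl
def n7290 : Q := act 4 n3347
theorem D7290 : act 4 n3347 = n7290 := rfl
def n7291 : Q := act 5 n3347
theorem D7291 : act 5 n3347 = n7291 := rfl
theorem F11591 : act 3 n7291 = n3349 := d6_1 D7291 (iv5 D3349) D3347
def n7292 : Q := act 3 n3348
theorem D7292 : act 3 n3348 = n7292 := rfl
def n7293 : Q := act 5 n3348
theorem D7293 : act 5 n3348 = n7293 := rfl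
theorem F11592 : act 0 n7293 = n7187 := d17_2 (iv1 F10681) D7293 (iv5 D7187) F5302 (iv5 F7944) (iv0 F7947) (iv5 D3602) (iv0 D1585) (iv4 F2760)
theorem F11593 : act 0 n6440 = n7092 := d21_4 D1467 D3319 F5306 D6440 F11344 D7293 F11592 (iv5 D7187) (iv6 D3313) (iv1 D1465)
theorem E1570 : n3428 = n3409 := ((c18_6 (iv1 D6441) (iv4 F10498) F11593 (iv4 D7092) F5029 D3409 F9326 F9323 F5551 F10500)).symm
theorem F11594 : act 0 n3409 = n1508 := (sb E1570 (iv1 D3428))
theorem F11595 : act 1 n3409 = n5999 := (sb E1570 F9326)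
theorem E1571 : n3427 = n3406 := (c15_2 F11595 F9327 (iv7 F11377) (iv2 F11378))
theorem F11596 : act 0 n3406 = n5999 := (sb E1571 (iv1 F9327))
theorem F11597 : act 1 n3406 = n1508 := (sb E1571 (iv0 D3427))
def n7294 : Q := act 4 n3349
theorem D7294 : act 4 n3349 = n7294 := rfl
def n7295 : Q := act 0 n3351
theorem D7295 : act 0 n3351 = n7295 := rfl
def n7299 : Q := act 5 n3351
theorem D7299 : act 5 n3351 = n7299 := rfl
theorem F11598 : act 3 n7299 = n3353 := d6_1 D7299 (iv5 D3353) D3351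
theorem F11599 : act 6 n3405 = n7299 := d7_0 F11598 F5336 D3405
def n7300 : Q := act 6 n3351
theorem D7300 : act 6 n3351 = n7300 := rfl
theorem F11600 : act 3 n7300 = n3354 := d7_1 D7300 (iv6 D3354) D3351
def n7301 : Q := act 3 n3352
theorem D7301 : act 3 n3352 = n7301 := rfl
def n7302 : Q := act 5 n3352
theorem D7302 : act 5 n3352 = n7302 := rfl
def n7303 : Q := act 6 n3352
theorem D7303 : act 6 n3352 = n7303 := rfl
theorem F11601 : act 4 n7303 = n3354 := d10_1 D7303 (iv6 D3354) D3352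
def n7304 : Q := act 4 n3353
theorem D7304 : act 4 n3353 = n7304 := rfl
theorem F11602 : act 6 n7304 = n3406 := d10_2 (iv6 F5336) D7304 (iv4 D3406)
def n7305 : Q := act 3 n3355
theorem D7305 : act 3 n3355 = n7305 := rfl
theorem F11603 : act 7 n7305 = n6365 := d8_2 (iv7 F5339) D7305 (iv3 D6365)
def n7306 : Q := act 5 n3355
theorem D7306 : act 5 n3355 = n7306 := rfl
theorem F11605 : act 7 n7306 = n6366 := d13_2 (iv7 F5339) D7306 (iv5 D6366)
theorem F11606 : act 4 n7306 = n6366 := d16_2 D3355 D7306 (iv5 D6366) (iv4 D2709) (iv5 D1256) F1429 D1256 (iv7 F2594) F2593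
theorem F11607 : act 0 n7306 = n3361 := d17_2 (iv1 F5341) D7306 (iv5 D3361) (iv4 D1484) (iv5 D807) D806 D1481 F2596 D2515
theorem F11608 : act 1 n7306 = n5920 := d17_6 (iv1 F2597) (iv5 D1167) (iv1 F1519) D1481 D3355 D7306 (iv5 D5920) (iv0 F5345) (iv4 D3357)
def n7307 : Q := act 6 n3355
theorem D7307 : act 6 n3355 = n7307 := rfl
theorem F11610 : act 4 n7307 = n3356 := d10_1 D7307 (iv6 D3356) D3355
def n7308 : Q := act 3 n3357
theorem D7308 : act 3 n3357 = n7308 := rfl
def n7309 : Q := act 5 n3357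
theorem D7309 : act 5 n3357 = n7309 := rfl
theorem F11612 : act 0 n7309 = n3389 := d17_2 (iv1 F5346) D7309 (iv5 D3389) (iv4 D1495) (iv5 F2192) (iv0 F2653) F2654 (iv0 D1482) D1484
def n7310 : Q := act 3 n3358
theorem D7310 : act 3 n3358 = n7310 := rfl
def n7311 : Q := act 5 n3358
theorem D7311 : act 5 n3358 = n7311 := rfl
theorem F11619 : act 1 n7311 = n3389 := d17_6 (iv1 F2595) (iv5 F2192) (iv1 F2659) (iv5 F2663) D3358 D7311 (iv5 D3389) (iv0 F5340) (iv4 D3355)
def n7312 : Q := act 6 n3358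
theorem D7312 : act 6 n3358 = n7312 := rfl
def n7313 : Q := act 0 n3359
theorem D7313 : act 0 n3359 = n7313 := rfl
def n7314 : Q := act 1 n3359
theorem D7314 : act 1 n3359 = n7314 := rfl
theorem F11622 : act 6 n6616 = n7314 := d21_3 (iv5 F10393) (iv1 F10395) F10714 (iv1 D7314) (iv6 D3359) F2663 (iv1 D1526) (iv5 F2136) (iv6 F2454) D2968
theorem F11623 : act 5 n5890 = n7314 := d21_6 (iv5 D807) F2418 D1256 (iv6 F4295) F10301 D5890 (iv1 D7314) F5352 (iv6 D3359) (iv1 D1483)
theorem F11625 : act 3 n7314 = n3520 := d6_1 F11623 (iv5 F5532) (iv3 F9111)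
theorem F11626 : act 7 n7234 = n7314 := d8_0 F11625 (iv7 F5534) D7234
theorem E1572 : n7313 = n7234 := ((c15_4 (iv0 D7313) D7314 (iv7 F11626) F11557)).symm
theorem F11627 : act 1 n7234 = n3359 := (sb E1572 (iv0 D7313))
def n7315 : Q := act 7 n3359
theorem D7315 : act 7 n3359 = n7315 := rfl
theorem F11628 : act 2 n7315 = n7315 := d4_1 D7315 (iv7 D7315) F5351
theorem F11630 : act 6 n7315 = n6368 := d14_1 D7315 (iv7 D6368) F4307 (iv7 F2657) D3359
theorem F11631 : act 1 n7315 = n7234 := d15_0 F11627 D7315 F11628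
def n7317 : Q := act 1 n3360
theorem D7317 : act 1 n3360 = n7317 := rfl
def n7318 : Q := act 2 n3360
theorem D7318 : act 2 n3360 = n7318 := rfl
theorem F11634 : act 4 n7318 = n3369 := d1_2 (iv4 F5353) D7318 (iv2 D3369)
def n7319 : Q := act 5 n3360
theorem D7319 : act 5 n3360 = n7319 := rfl
theorem F11635 : act 3 n7319 = n3361 := d6_1 D7319 (iv5 D3361) D3360
def n7322 : Q := act 0 n3362
theorem D7322 : act 0 n3362 = n7322 := rfl
def n7323 : Q := act 1 n3362
theorem D7323 : act 1 n3362 = n7323 := rfl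
theorem F11639 : act 4 n3364 = n7323 := d20_0 (iv1 D7323) F5356 F2601 D1490 F10069 D3683 F10669 F5372 (iv3 F5359) (iv1 F5361)
theorem F11640 : act 6 n7102 = n7323 := d21_3 (iv5 F10294) (iv1 F11402) F11401 (iv1 D7323) (iv6 D3362) D3361 (iv1 F10376) (iv5 D6366) (iv6 F10370) F10371
theorem F11641 : act 2 n7323 = n7323 := d3_1 F11640 (iv6 F11640) F11400
def n7325 : Q := act 7 n3362
theorem D7325 : act 7 n3362 = n7325 := rfl
theorem F11643 : act 2 n7325 = n7325 := d4_1 D7325 (iv7 D7325) F5355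
theorem F11644 : act 4 n7325 = n3365 := d11_1 D7325 (iv7 D3365) (iv4 F5356)
theorem F11645 : act 1 n7325 = n7322 := d15_0 (iv0 D7322) D7325 F11643
theorem F11646 : act 1 n7323 = n7325 := d15_1 D7323 (iv7 D7325) F5355
theorem F11647 : act 7 n7322 = n7323 := d15_2 F11646 F11645 F11641
theorem F11649 : act 4 n3363 = n7322 := d11_3 F11647 (iv4 F11639) F10103
theorem F11650 : act 6 n6619 = n7322 := d14_5 F11647 (iv6 F11640) (iv7 F11407) F11406 (iv7 F10724)
def n7326 : Q := act 3 n3364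
theorem D7326 : act 3 n3364 = n7326 := rfl
theorem F11651 : act 6 n7326 = n7101 := d7_2 (iv6 F10204) D7326 (iv3 D7101)
theorem F11652 : act 7 n7326 = n6125 := d8_2 (iv7 F10103) D7326 (iv3 F10722)
theorem F11653 : act 0 n6127 = n7326 := d20_4 D3378 F10653 F9542 (iv3 F9529) (iv3 D7326) F11639 (iv1 D7323) F5356 F2601 D1490
theorem F11654 : act 1 n5165 = n7326 := d15_0 (iv0 F11653) (iv7 D6127) (iv2 F7683)
def n7327 : Q := act 2 n3367
theorem D7327 : act 2 n3367 = n7327 := rfl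
theorem F11655 : act 7 n3368 = n7327 := d15_2 (iv0 D3367) D3368 (iv2 D7327)
def n7328 : Q := act 3 n3367
theorem D7328 : act 3 n3367 = n7328 := rfl
def n7329 : Q := act 4 n3367
theorem D7329 : act 4 n3367 = n7329 := rfl
def n7330 : Q := act 5 n3367
theorem D7330 : act 5 n3367 = n7330 := rfl
def n7331 : Q := act 6 n3367
theorem D7331 : act 6 n3367 = n7331 := rfl
def n7333 : Q := act 3 n3368
theorem D7333 : act 3 n3368 = n7333 := rfl
def n7334 : Q := act 4 n3368
theorem D7334 : act 4 n3368 = n7334 := rfl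
def n7335 : Q := act 5 n3368
theorem D7335 : act 5 n3368 = n7335 := rfl
def n7336 : Q := act 6 n3368
theorem D7336 : act 6 n3368 = n7336 := rfl
def n7337 : Q := act 5 n3369
theorem D7337 : act 5 n3369 = n7337 := rfl
theorem F11657 : act 2 n7337 = n3370 := d2_1 D7337 (iv5 D3370) D3369
def n7339 : Q := act 0 n3370
theorem D7339 : act 0 n3370 = n7339 := rfl
def n7340 : Q := act 1 n3370
theorem D7340 : act 1 n3370 = n7340 := rfl
def n7341 : Q := act 4 n3370
theorem D7341 : act 4 n3370 = n7341 := rfl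
theorem F11659 : act 3 n7341 = n3896 := d5_1 D7341 (iv4 D3896) (iv3 D1687) (iv4 F2606) (iv3 F5369)
def n7342 : Q := act 6 n3370
theorem D7342 : act 6 n3370 = n7342 := rfl
theorem F11660 : act 3 n7342 = n3372 := d7_1 D7342 (iv6 D3372) (iv3 F5369)
def n7345 : Q := act 5 n3371
theorem D7345 : act 5 n3371 = n7345 := rfl
def n7347 : Q := act 0 n3372
theorem D7347 : act 0 n3372 = n7347 := rfl
def n7348 : Q := act 1 n3372
theorem D7348 : act 1 n3372 = n7348 := rfl
def n7349 : Q := act 5 n3372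
theorem D7349 : act 5 n3372 = n7349 := rfl
theorem F11663 : act 6 n7349 = n3375 := d12_2 D3372 D7349 (iv5 D3375) (iv6 D1489) D1488
def n7350 : Q := act 7 n3372
theorem D7350 : act 7 n3372 = n7350 := rfl
theorem F11664 : act 4 n7350 = n3901 := d11_1 D7350 (iv7 D3901) (iv4 F5371)
def n7351 : Q := act 3 n3373
theorem D7351 : act 3 n3373 = n7351 := rfl
def n7352 : Q := act 5 n3373
theorem D7352 : act 5 n3373 = n7352 := rfl
def n7353 : Q := act 3 n3374
theorem D7353 : act 3 n3374 = n7353 := rfl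
def n7354 : Q := act 5 n3374
theorem D7354 : act 5 n3374 = n7354 := rfl
def n7355 : Q := act 0 n3375
theorem D7355 : act 0 n3375 = n7355 := rfl
def n7356 : Q := act 1 n3375
theorem D7356 : act 1 n3375 = n7356 := rfl
def n7357 : Q := act 4 n3375
theorem D7357 : act 4 n3375 = n7357 := rfl
def n7358 : Q := act 7 n3375
theorem D7358 : act 7 n3375 = n7358 := rfl
theorem F11665 : act 5 n7358 = n3376 := d13_1 D7358 (iv7 D3376) D3375
def n7359 : Q := act 3 n3378
theorem D7359 : act 3 n3378 = n7359 := rfl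
theorem F11666 : act 6 n7359 = n6589 := d7_2 (iv6 F5374) D7359 (iv3 D6589)
def n7360 : Q := act 5 n3378
theorem D7360 : act 5 n3378 = n7360 := rfl
def n7361 : Q := act 4 n3379
theorem D7361 : act 4 n3379 = n7361 := rfl
theorem F11667 : act 0 n7361 = n6124 := d20_7 (iv4 F10660) (iv1 F9241) F9237 F3985 (iv1 F3989) D3379 D7361 F9528 F4136 D2585
def n7362 : Q := act 3 n3380
theorem D7362 : act 3 n3380 = n7362 := rfl
def n7363 : Q := act 5 n3380
theorem D7363 : act 5 n3380 = n7363 := rfl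
def n7364 : Q := act 2 n3381
theorem D7364 : act 2 n3381 = n7364 := rfl
theorem F11668 : act 7 n3382 = n7364 := d15_2 (iv0 D3381) D3382 (iv2 D7364)
def n7365 : Q := act 3 n3381
theorem D7365 : act 3 n3381 = n7365 := rfl
def n7366 : Q := act 4 n3381
theorem D7366 : act 4 n3381 = n7366 := rfl
def n7367 : Q := act 5 n3381
theorem D7367 : act 5 n3381 = n7367 := rfl
def n7368 : Q := act 6 n3381
theorem D7368 : act 6 n3381 = n7368 := rfl
def n7369 : Q := act 7 n3381
theorem D7369 : act 7 n3381 = n7369 := rfl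
theorem F11669 : act 2 n7369 = n3382 := d4_1 D7369 F11668 (iv2 D7364)
def n7370 : Q := act 3 n3382
theorem D7370 : act 3 n3382 = n7370 := rfl
def n7371 : Q := act 4 n3382
theorem D7371 : act 4 n3382 = n7371 := rfl
theorem F11670 : act 3 n5989 = n7371 := d20_5 F2426 (iv1 F1589) (iv4 F2153) D2527 D5989 (iv4 D7371) (iv1 D3382) F2609 (iv3 D1493) (iv1 F2428)
def n7372 : Q := act 5 n3382
theorem D7372 : act 5 n3382 = n7372 := rfl
def n7373 : Q := act 6 n3382
theorem D7373 : act 6 n3382 = n7373 := rfl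
def n7374 : Q := act 5 n3383
theorem D7374 : act 5 n3383 = n7374 := rfl
theorem F11671 : act 2 n7374 = n3384 := d2_1 D7374 (iv5 D3384) D3383
def n7375 : Q := act 0 n3384
theorem D7375 : act 0 n3384 = n7375 := rfl
def n7376 : Q := act 1 n3384
theorem D7376 : act 1 n3384 = n7376 := rfl
def n7377 : Q := act 4 n3384
theorem D7377 : act 4 n3384 = n7377 := rfl
theorem F11672 : act 3 n7377 = n3804 := d5_1 D7377 (iv4 D3804) F2841 (iv4 F2610) (iv3 F5376)
def n7378 : Q := act 6 n3384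
theorem D7378 : act 6 n3384 = n7378 := rfl
theorem F11673 : act 3 n7378 = n3387 := d7_1 D7378 (iv6 D3387) (iv3 F5376)
def n7379 : Q := act 3 n3385
theorem D7379 : act 3 n3385 = n7379 := rfl
theorem F11674 : act 5 n7379 = n3466 := d6_2 (iv5 F5377) D7379 (iv3 D3466)
theorem F11675 : act 7 n7379 = n7239 := d8_2 F5381 D7379 F11558
def n7380 : Q := act 6 n3385
theorem D7380 : act 6 n3385 = n7380 := rfl
theorem F11676 : act 2 n7380 = n7251 := d3_1 D7380 (iv6 D7251) F5380
theorem F11677 : act 4 n7380 = n3621 := d10_1 D7380 (iv6 D3621) (iv4 F5378)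
def n7381 : Q := act 3 n3386
theorem D7381 : act 3 n3386 = n7381 := rfl
theorem F11678 : act 5 n7381 = n3586 := d6_2 (iv5 F5384) D7381 (iv3 D3586)
theorem F11679 : act 7 n7381 = n7250 := d8_2 (iv7 F5383) D7381 F11565
def n7382 : Q := act 6 n3386
theorem D7382 : act 6 n3386 = n7382 := rfl
theorem F11680 : act 2 n7382 = n7241 := d3_1 D7382 (iv6 D7241) F5386
theorem F11681 : act 4 n7382 = n3627 := d10_1 D7382 (iv6 D3627) (iv4 F5385)
def n7383 : Q := act 0 n3387
theorem D7383 : act 0 n3387 = n7383 := rfl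
def n7384 : Q := act 1 n3387
theorem D7384 : act 1 n3387 = n7384 := rfl
def n7385 : Q := act 7 n3387
theorem D7385 : act 7 n3387 = n7385 := rfl
theorem F11682 : act 4 n7385 = n3812 := d11_1 D7385 (iv7 D3812) (iv4 F5387)
def n7386 : Q := act 0 n3388
theorem D7386 : act 0 n3388 = n7386 := rfl
def n7387 : Q := act 1 n3388
theorem D7387 : act 1 n3388 = n7387 := rfl
def n7388 : Q := act 2 n3388
theorem D7388 : act 2 n3388 = n7388 := rfl
theorem F11684 : act 4 n7388 = n3396 := d1_2 (iv4 F5388) D7388 (iv2 D3396)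
def n7389 : Q := act 5 n3388
theorem D7389 : act 5 n3388 = n7389 := rfl
theorem F11685 : act 3 n7389 = n3389 := d6_1 D7389 (iv5 D3389) D3388
def n7390 : Q := act 6 n3388
theorem D7390 : act 6 n3388 = n7390 := rfl
theorem F11686 : act 3 n7390 = n3390 := d7_1 D7390 (iv6 D3390) D3388
def n7391 : Q := act 6 n3389
theorem D7391 : act 6 n3389 = n7391 := rfl
def n7392 : Q := act 0 n3390
theorem D7392 : act 0 n3390 = n7392 := rfl
def n7393 : Q := act 1 n3390
theorem D7393 : act 1 n3390 = n7393 := rfl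
def n7394 : Q := act 5 n3390
theorem D7394 : act 5 n3390 = n7394 := rfl
theorem F11689 : act 2 n7394 = n7394 := d2_1 D7394 (iv5 D7394) F5390
def n7395 : Q := act 7 n3390
theorem D7395 : act 7 n3390 = n7395 := rfl
theorem F11690 : act 2 n7395 = n7395 := d4_1 D7395 (iv7 D7395) F5390
theorem F11691 : act 4 n7395 = n3393 := d11_1 D7395 (iv7 D3393) (iv4 F5391)
theorem F11693 : act 1 n7395 = n7392 := d15_0 (iv0 D7392) D7395 F11690
theorem F11694 : act 1 n7393 = n7395 := d15_1 D7393 (iv7 D7395) F5390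
def n7396 : Q := act 2 n3391
theorem D7396 : act 2 n3391 = n7396 := rfl
theorem F11695 : act 7 n3392 = n7396 := d15_2 (iv0 D3391) D3392 (iv2 D7396)
def n7397 : Q := act 3 n3391
theorem D7397 : act 3 n3391 = n7397 := rfl
def n7398 : Q := act 4 n3391
theorem D7398 : act 4 n3391 = n7398 := rfl
def n7399 : Q := act 5 n3391
theorem D7399 : act 5 n3391 = n7399 := rfl
def n7400 : Q := act 6 n3391
theorem D7400 : act 6 n3391 = n7400 := rfl
theorem F11696 : act 5 n7400 = n5923 := d21_6 (iv5 F2654) F2653 F2192 D1496 D3391 D7400 (iv1 D5923) F3957 (iv6 D1485) D1482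
theorem F11697 : act 0 n7151 = n7400 := d21_10 F11696 (iv1 D5923) F3957 (iv6 D1485) D1482 (iv6 F4307) (iv5 D2712) F10280 D6038 (iv6 F11472)
def n7401 : Q := act 7 n3391
theorem D7401 : act 7 n3391 = n7401 := rfl
theorem F11698 : act 2 n7401 = n3392 := d4_1 D7401 F11695 (iv2 D7396)
def n7402 : Q := act 3 n3392
theorem D7402 : act 3 n3392 = n7402 := rfl
def n7403 : Q := act 4 n3392
theorem D7403 : act 4 n3392 = n7403 := rfl
def n7404 : Q := act 5 n3392
theorem D7404 : act 5 n3392 = n7404 := rfl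
theorem F11699 : act 6 n7404 = n5922 := d21_3 F5394 (iv1 F5397) D7404 (iv1 F9192) F9191 (iv5 F9190) (iv1 F9193) (iv5 F11696) (iv6 D7400) (iv1 F5396)
theorem F11700 : act 0 n5855 = n7404 := d21_10 (iv5 D7404) (iv1 D3392) F2614 (iv6 D1496) (iv1 F2342) (iv6 F4295) (iv5 D2707) (iv1 F9903) D2456 D5855
def n7405 : Q := act 6 n3392
theorem D7405 : act 6 n3392 = n7405 := rfl
def n7406 : Q := act 2 n3394
theorem D7406 : act 2 n3394 = n7406 := rfl
theorem F11701 : act 7 n3395 = n7406 := d15_2 (iv0 D3394) D3395 (iv2 D7406)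
def n7407 : Q := act 3 n3394
theorem D7407 : act 3 n3394 = n7407 := rfl
def n7408 : Q := act 4 n3394
theorem D7408 : act 4 n3394 = n7408 := rfl
def n7409 : Q := act 5 n3394
theorem D7409 : act 5 n3394 = n7409 := rfl
def n7410 : Q := act 6 n3394
theorem D7410 : act 6 n3394 = n7410 := rfl
def n7411 : Q := act 7 n3394
theorem D7411 : act 7 n3394 = n7411 := rfl
theorem F11702 : act 2 n7411 = n3395 := d4_1 D7411 F11701 (iv2 D7406)
def n7412 : Q := act 3 n3395
theorem D7412 : act 3 n3395 = n7412 := rfl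
def n7413 : Q := act 4 n3395
theorem D7413 : act 4 n3395 = n7413 := rfl
def n7414 : Q := act 5 n3395
theorem D7414 : act 5 n3395 = n7414 := rfl
def n7415 : Q := act 6 n3395
theorem D7415 : act 6 n3395 = n7415 := rfl
def n7416 : Q := act 5 n3396
theorem D7416 : act 5 n3396 = n7416 := rfl
theorem F11703 : act 2 n7416 = n3397 := d2_1 D7416 (iv5 D3397) D3396
def n7417 : Q := act 6 n3396
theorem D7417 : act 6 n3396 = n7417 := rfl
theorem F11704 : act 2 n7417 = n3398 := d3_1 D7417 (iv6 D3398) D3396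
def n7418 : Q := act 0 n3397
theorem D7418 : act 0 n3397 = n7418 := rfl
def n7419 : Q := act 1 n3397
theorem D7419 : act 1 n3397 = n7419 := rfl
def n7420 : Q := act 4 n3397
theorem D7420 : act 4 n3397 = n7420 := rfl
theorem F11705 : act 3 n7420 = n3787 := d5_1 D7420 (iv4 D3787) F2838 (iv4 F2615) (iv3 F5398)
def n7421 : Q := act 6 n3397
theorem D7421 : act 6 n3397 = n7421 := rfl
theorem F11706 : act 3 n7421 = n3399 := d7_1 D7421 (iv6 D3399) (iv3 F5398)
def n7422 : Q := act 0 n3398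
theorem D7422 : act 0 n3398 = n7422 := rfl
def n7423 : Q := act 1 n3398
theorem D7423 : act 1 n3398 = n7423 := rfl
def n7424 : Q := act 5 n3398
theorem D7424 : act 5 n3398 = n7424 := rfl
theorem F11707 : act 3 n7424 = n3402 := d6_1 D7424 (iv5 D3402) (iv3 F5399)
def n7425 : Q := act 7 n3398
theorem D7425 : act 7 n3398 = n7425 := rfl
def n7426 : Q := act 0 n3399
theorem D7426 : act 0 n3399 = n7426 := rfl
def n7427 : Q := act 1 n3399
theorem D7427 : act 1 n3399 = n7427 := rfl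
def n7428 : Q := act 5 n3399
theorem D7428 : act 5 n3399 = n7428 := rfl
theorem F11710 : act 6 n7428 = n3402 := d12_2 D3399 D7428 (iv5 D3402) (iv6 D1499) D1498
def n7429 : Q := act 7 n3399
theorem D7429 : act 7 n3399 = n7429 := rfl
theorem F11711 : act 4 n7429 = n3791 := d11_1 D7429 (iv7 D3791) (iv4 F5400)
def n7430 : Q := act 2 n3400
theorem D7430 : act 2 n3400 = n7430 := rfl
theorem F11712 : act 7 n3401 = n7430 := d15_2 (iv0 D3400) D3401 (iv2 D7430)
def n7431 : Q := act 3 n3400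
theorem D7431 : act 3 n3400 = n7431 := rfl
def n7432 : Q := act 4 n3400
theorem D7432 : act 4 n3400 = n7432 := rfl
theorem F11713 : act 3 n6465 = n7432 := d20_5 D3409 F11594 F2622 (iv3 F4478) D6465 (iv4 D7432) (iv1 F9287) F9283 F4006 (iv1 F4010)
def n7433 : Q := act 5 n3400
theorem D7433 : act 5 n3400 = n7433 := rfl
def n7434 : Q := act 6 n3400
theorem D7434 : act 6 n3400 = n7434 := rfl
def n7435 : Q := act 7 n3400
theorem D7435 : act 7 n3400 = n7435 := rfl
theorem F11714 : act 2 n7435 = n3401 := d4_1 D7435 F11712 (iv2 D7430)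
def n7436 : Q := act 3 n3401
theorem D7436 : act 3 n3401 = n7436 := rfl
def n7437 : Q := act 5 n3401
theorem D7437 : act 5 n3401 = n7437 := rfl
def n7438 : Q := act 6 n3401
theorem D7438 : act 6 n3401 = n7438 := rfl
def n7439 : Q := act 0 n3402
theorem D7439 : act 0 n3402 = n7439 := rfl
def n7440 : Q := act 1 n3402
theorem D7440 : act 1 n3402 = n7440 := rfl
theorem F11715 : act 5 n7440 = n7086 := d17_7 D3234 F5029 (iv1 D1501) F1527 (iv4 F2616) D3402 D7440 (iv0 D7086) F5028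
def n7441 : Q := act 4 n3402
theorem D7441 : act 4 n3402 = n7441 := rfl
def n7442 : Q := act 7 n3402
theorem D7442 : act 7 n3402 = n7442 := rfl
theorem F11716 : act 5 n7442 = n3403 := d13_1 D7442 (iv7 D3403) D3402
def n7447 : Q := act 3 n3406
theorem D7447 : act 3 n3406 = n7447 := rfl
def n7448 : Q := act 5 n3406
theorem D7448 : act 5 n3406 = n7448 := rfl
def n7449 : Q := act 0 n3408
theorem D7449 : act 0 n3408 = n7449 := rfl
def n7450 : Q := act 1 n3408
theorem D7450 : act 1 n3408 = n7450 := rfl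
def n7451 : Q := act 2 n3408
theorem D7451 : act 2 n3408 = n7451 := rfl
def n7452 : Q := act 4 n3408
theorem D7452 : act 4 n3408 = n7452 := rfl
def n7453 : Q := act 3 n3409
theorem D7453 : act 3 n3409 = n7453 := rfl
def n7454 : Q := act 5 n3409
theorem D7454 : act 5 n3409 = n7454 := rfl
def n7455 : Q := act 2 n3411
theorem D7455 : act 2 n3411 = n7455 := rfl
theorem F11717 : act 7 n3412 = n7455 := d15_2 (iv0 D3411) D3412 (iv2 D7455)
def n7456 : Q := act 3 n3411
theorem D7456 : act 3 n3411 = n7456 := rfl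
theorem F11718 : act 4 n7456 = n5966 := d20_6 (iv4 D759) D757 (iv4 F1528) D1503 D3411 D7456 (iv1 D5966) F3997 (iv3 D2518) F2143
def n7457 : Q := act 4 n3411
theorem D7457 : act 4 n3411 = n7457 := rfl
def n7458 : Q := act 5 n3411
theorem D7458 : act 5 n3411 = n7458 := rfl
def n7459 : Q := act 6 n3411
theorem D7459 : act 6 n3411 = n7459 := rfl
def n7460 : Q := act 7 n3411
theorem D7460 : act 7 n3411 = n7460 := rfl
theorem F11719 : act 2 n7460 = n3412 := d4_1 D7460 F11717 (iv2 D7455)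
def n7461 : Q := act 3 n3412
theorem D7461 : act 3 n3412 = n7461 := rfl
def n7462 : Q := act 4 n3412
theorem D7462 : act 4 n3412 = n7462 := rfl
def n7463 : Q := act 5 n3412
theorem D7463 : act 5 n3412 = n7463 := rfl
def n7464 : Q := act 6 n3412
theorem D7464 : act 6 n3412 = n7464 := rfl
def n7465 : Q := act 4 n3413
theorem D7465 : act 4 n3413 = n7465 := rfl
theorem F11720 : act 2 n7465 = n3414 := d1_1 D7465 (iv4 D3414) D3413
def n7466 : Q := act 5 n3413
theorem D7466 : act 5 n3413 = n7466 := rfl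
theorem F11721 : act 2 n7466 = n3415 := d2_1 D7466 (iv5 D3415) D3413
def n7467 : Q := act 6 n3413
theorem D7467 : act 6 n3413 = n7467 := rfl
theorem F11722 : act 2 n7467 = n3416 := d3_1 D7467 (iv6 D3416) D3413
def n7468 : Q := act 0 n3414
theorem D7468 : act 0 n3414 = n7468 := rfl
def n7469 : Q := act 1 n3414
theorem D7469 : act 1 n3414 = n7469 := rfl
theorem F11723 : act 4 n7407 = n7469 := d20_6 F2159 (iv1 F1338) D813 D1497 D3394 D7407 (iv1 D7469) (iv4 D3414) (iv3 D1503) (iv1 F2162)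
def n7470 : Q := act 5 n3414
theorem D7470 : act 5 n3414 = n7470 := rfl
theorem F11724 : act 3 n7470 = n5776 := d6_1 D7470 (iv5 D5776) (iv3 F5405)
def n7471 : Q := act 6 n3414
theorem D7471 : act 6 n3414 = n7471 := rfl
theorem F11725 : act 3 n7471 = n5777 := d7_1 D7471 (iv6 D5777) (iv3 F5405)
theorem F11726 : act 4 n7471 = n3416 := d10_1 D7471 (iv6 D3416) D3414
def n7472 : Q := act 0 n3415
theorem D7472 : act 0 n3415 = n7472 := rfl
def n7473 : Q := act 1 n3415
theorem D7473 : act 1 n3415 = n7473 := rfl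
def n7474 : Q := act 4 n3415
theorem D7474 : act 4 n3415 = n7474 := rfl
theorem F11727 : act 3 n7474 = n3758 := d5_1 D7474 (iv4 D3758) F2821 (iv4 F2619) (iv3 F5406)
def n7475 : Q := act 6 n3415
theorem D7475 : act 6 n3415 = n7475 := rfl
theorem F11728 : act 3 n7475 = n3417 := d7_1 D7475 (iv6 D3417) (iv3 F5406)
def n7476 : Q := act 0 n3416
theorem D7476 : act 0 n3416 = n7476 := rfl
def n7477 : Q := act 1 n3416
theorem D7477 : act 1 n3416 = n7477 := rfl
def n7478 : Q := act 5 n3416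
theorem D7478 : act 5 n3416 = n7478 := rfl
theorem F11729 : act 3 n7478 = n3418 := d6_1 D7478 (iv5 D3418) (iv3 F5407)
def n7479 : Q := act 7 n3416
theorem D7479 : act 7 n3416 = n7479 := rfl
theorem F11730 : act 3 n7479 = n3419 := d8_1 D7479 (iv7 D3419) (iv3 F5407)
def n7480 : Q := act 0 n3417
theorem D7480 : act 0 n3417 = n7480 := rfl
def n7481 : Q := act 1 n3417
theorem D7481 : act 1 n3417 = n7481 := rfl
def n7482 : Q := act 5 n3417
theorem D7482 : act 5 n3417 = n7482 := rfl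
theorem F11731 : act 6 n7482 = n3418 := d12_2 D3417 D7482 (iv5 D3418) (iv6 D1505) D1504
def n7483 : Q := act 7 n3417
theorem D7483 : act 7 n3417 = n7483 := rfl
theorem F11732 : act 4 n7483 = n3766 := d11_1 D7483 (iv7 D3766) (iv4 F5408)
def n7484 : Q := act 4 n3418
theorem D7484 : act 4 n3418 = n7484 := rfl
theorem F11733 : act 5 n7484 = n6787 := d16_3 (iv4 F2620) D3418 D7484 F11045 F4799 F2510 (iv5 F4390) (iv7 D2804) F2378
theorem F11734 : act 7 n6786 = n7484 := d13_0 F11733 (iv7 D6787) D6786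
def n7485 : Q := act 7 n3418
theorem D7485 : act 7 n3418 = n7485 := rfl
theorem F11735 : act 4 n7485 = n6786 := d11_1 D7485 F11734 (iv4 D7484)
theorem F11736 : act 5 n7485 = n3419 := d13_1 D7485 (iv7 D3419) D3418
theorem F11737 : act 1 n6695 = n7485 := d15_1 (iv0 F10906) (iv7 D7485) (iv2 F9301)
theorem F11738 : act 1 n7485 = n6681 := d15_1 F11737 F10874 (iv2 F10904)
def n7486 : Q := act 2 n3420
theorem D7486 : act 2 n3420 = n7486 := rfl
theorem F11739 : act 7 n3421 = n7486 := d15_2 (iv0 D3420) D3421 (iv2 D7486)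
def n7487 : Q := act 3 n3420
theorem D7487 : act 3 n3420 = n7487 := rfl
def n7488 : Q := act 4 n3420
theorem D7488 : act 4 n3420 = n7488 := rfl
def n7489 : Q := act 5 n3420
theorem D7489 : act 5 n3420 = n7489 := rfl
def n7490 : Q := act 6 n3420
theorem D7490 : act 6 n3420 = n7490 := rfl
def n7491 : Q := act 7 n3420
theorem D7491 : act 7 n3420 = n7491 := rfl
theorem F11740 : act 2 n7491 = n3421 := d4_1 D7491 F11739 (iv2 D7486)
def n7492 : Q := act 3 n3421
theorem D7492 : act 3 n3421 = n7492 := rfl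
def n7493 : Q := act 4 n3421
theorem D7493 : act 4 n3421 = n7493 := rfl
theorem F11741 : act 3 n7468 = n7493 := d20_5 (iv4 D2125) F2399 (iv4 F3810) (iv3 F5405) D7468 (iv4 D7493) (iv1 D3421) D3423 F5412 F4476
def n7494 : Q := act 5 n3421
theorem D7494 : act 5 n3421 = n7494 := rfl
def n7495 : Q := act 6 n3421
theorem D7495 : act 6 n3421 = n7495 := rfl
def n7496 : Q := act 4 n3422
theorem D7496 : act 4 n3422 = n7496 := rfl
theorem F11742 : act 2 n7496 = n3423 := d1_1 D7496 (iv4 D3423) D3422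
def n7497 : Q := act 5 n3422
theorem D7497 : act 5 n3422 = n7497 := rfl
theorem F11743 : act 2 n7497 = n3424 := d2_1 D7497 (iv5 D3424) D3422
def n7498 : Q := act 6 n3422
theorem D7498 : act 6 n3422 = n7498 := rfl
theorem F11744 : act 2 n7498 = n3425 := d3_1 D7498 (iv6 D3425) D3422
def n7499 : Q := act 0 n3423
theorem D7499 : act 0 n3423 = n7499 := rfl
def n7500 : Q := act 1 n3423
theorem D7500 : act 1 n3423 = n7500 := rfl
theorem F11745 : act 4 n7365 = n7500 := d20_6 (iv4 D469) D467 D811 D1493 D3381 D7365 (iv1 D7500) (iv4 D3423) (iv3 D1506) (iv1 D816)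
def n7501 : Q := act 5 n3423
theorem D7501 : act 5 n3423 = n7501 := rfl
theorem F11746 : act 3 n7501 = n6463 := d6_1 D7501 (iv5 D6463) (iv3 F5412)
def n7502 : Q := act 6 n3423
theorem D7502 : act 6 n3423 = n7502 := rfl
theorem F11747 : act 3 n7502 = n6464 := d7_1 D7502 (iv6 D6464) (iv3 F5412)
theorem F11748 : act 4 n7502 = n3425 := d10_1 D7502 (iv6 D3425) D3423
def n7503 : Q := act 0 n3424
theorem D7503 : act 0 n3424 = n7503 := rfl
def n7504 : Q := act 1 n3424
theorem D7504 : act 1 n3424 = n7504 := rfl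
def n7505 : Q := act 4 n3424
theorem D7505 : act 4 n3424 = n7505 := rfl
theorem F11749 : act 3 n7505 = n3736 := d5_1 D7505 (iv4 D3736) F2811 (iv4 F2621) (iv3 F5413)
def n7506 : Q := act 6 n3424
theorem D7506 : act 6 n3424 = n7506 := rfl
theorem F11750 : act 3 n7506 = n3426 := d7_1 D7506 (iv6 D3426) (iv3 F5413)
def n7507 : Q := act 0 n3425
theorem D7507 : act 0 n3425 = n7507 := rfl
def n7508 : Q := act 1 n3425
theorem D7508 : act 1 n3425 = n7508 := rfl
def n7509 : Q := act 5 n3425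
theorem D7509 : act 5 n3425 = n7509 := rfl
theorem F11751 : act 3 n7509 = n3429 := d6_1 D7509 (iv5 D3429) (iv3 F5414)
def n7510 : Q := act 7 n3425
theorem D7510 : act 7 n3425 = n7510 := rfl
theorem F11752 : act 3 n7510 = n3430 := d8_1 D7510 (iv7 D3430) (iv3 F5414)
def n7511 : Q := act 0 n3426
theorem D7511 : act 0 n3426 = n7511 := rfl
def n7512 : Q := act 1 n3426
theorem D7512 : act 1 n3426 = n7512 := rfl
def n7513 : Q := act 5 n3426
theorem D7513 : act 5 n3426 = n7513 := rfl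
theorem F11753 : act 6 n7513 = n3429 := d12_2 D3426 D7513 (iv5 D3429) (iv6 D1508) D1507
def n7514 : Q := act 7 n3426
theorem D7514 : act 7 n3426 = n7514 := rfl
theorem F11754 : act 4 n7514 = n3744 := d11_1 D7514 (iv7 D3744) (iv4 F5415)
def n7515 : Q := act 0 n3429
theorem D7515 : act 0 n3429 = n7515 := rfl
theorem F11755 : act 5 n7515 = n7095 := d17_3 F11594 D3429 D7515 (iv4 D7095) (iv5 F5032) (iv0 D1500) F1527 D1501 D3409
def n7516 : Q := act 1 n3429
theorem D7516 : act 1 n3429 = n7516 := rfl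
theorem F11756 : act 5 n7516 = n7092 := d17_7 F5633 F5632 (iv1 D2882) F2424 (iv4 F2622) D3429 D7516 (iv0 F11593) F10498
def n7517 : Q := act 4 n3429
theorem D7517 : act 4 n3429 = n7517 := rfl
def n7518 : Q := act 7 n3429
theorem D7518 : act 7 n3429 = n7518 := rfl
theorem F11757 : act 5 n7518 = n3430 := d13_1 D7518 (iv7 D3430) D3429
def n7519 : Q := act 6 n3431
theorem D7519 : act 6 n3431 = n7519 := rfl
theorem F11758 : act 2 n7519 = n3449 := d3_1 D7519 (iv6 D3449) F5417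
def n7520 : Q := act 0 n3432
theorem D7520 : act 0 n3432 = n7520 := rfl
theorem F11759 : act 1 n3437 = n7520 := d15_0 (iv0 D7520) (iv7 F5420) (iv2 F5421)
def n7521 : Q := act 1 n3432
theorem D7521 : act 1 n3432 = n7521 := rfl
def n7522 : Q := act 3 n3432
theorem D7522 : act 3 n3432 = n7522 := rfl
theorem F11761 : act 7 n7522 = n3438 := d8_2 F5420 D7522 (iv3 D3438)
def n7523 : Q := act 4 n3432
theorem D7523 : act 4 n3432 = n7523 := rfl
theorem F11762 : act 2 n7523 = n3434 := d1_1 D7523 (iv4 D3434) D3432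
theorem F11763 : act 7 n7523 = n3439 := d11_2 F5420 D7523 (iv4 D3439)
def n7524 : Q := act 5 n3432
theorem D7524 : act 5 n3432 = n7524 := rfl
theorem F11764 : act 2 n7524 = n3435 := d2_1 D7524 (iv5 D3435) D3432
theorem F11765 : act 7 n7524 = n3440 := d13_2 F5420 D7524 (iv5 D3440)
def n7525 : Q := act 6 n3432
theorem D7525 : act 6 n3432 = n7525 := rfl
theorem F11766 : act 2 n7525 = n3436 := d3_1 D7525 (iv6 D3436) D3432
def n7526 : Q := act 0 n3433
theorem D7526 : act 0 n3433 = n7526 := rfl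
def n7527 : Q := act 1 n3433
theorem D7527 : act 1 n3433 = n7527 := rfl
def n7528 : Q := act 2 n3433
theorem D7528 : act 2 n3433 = n7528 := rfl
def n7529 : Q := act 5 n3433
theorem D7529 : act 5 n3433 = n7529 := rfl
theorem F11767 : act 3 n7529 = n3435 := d6_1 D7529 (iv5 D3435) D3433
def n7530 : Q := act 6 n3433
theorem D7530 : act 6 n3433 = n7530 := rfl
theorem F11768 : act 3 n7530 = n3436 := d7_1 D7530 (iv6 D3436) D3433
def n7531 : Q := act 7 n3433
theorem D7531 : act 7 n3433 = n7531 := rfl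
theorem F11769 : act 3 n7531 = n3437 := d8_1 D7531 (iv7 D3437) D3433
def n7532 : Q := act 0 n3434
theorem D7532 : act 0 n3434 = n7532 := rfl
theorem F11770 : act 4 n7532 = n7412 := d20_2 D3434 D7532 (iv3 D7412) (iv1 D3395) (iv3 D1497) (iv4 D813) (iv1 D468) D469 D817 D1509
def n7533 : Q := act 1 n3434
theorem D7533 : act 1 n3434 = n7533 := rfl
theorem F11771 : act 1 n7533 = n3439 := d15_1 D7533 (iv7 F11763) F11762
def n7534 : Q := act 3 n3434
theorem D7534 : act 3 n3434 = n7534 := rfl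
theorem F11772 : act 0 n7534 = n7456 := d20_10 F11718 (iv1 D5966) F3997 (iv3 D2518) F2143 D1311 F2425 D1509 D3434 D7534
def n7535 : Q := act 5 n3434
theorem D7535 : act 5 n3434 = n7535 := rfl
def n7536 : Q := act 6 n3434
theorem D7536 : act 6 n3434 = n7536 := rfl
theorem F11773 : act 4 n7536 = n3436 := d10_1 D7536 (iv6 D3436) D3434
def n7537 : Q := act 7 n3434
theorem D7537 : act 7 n3434 = n7537 := rfl
theorem F11774 : act 2 n7537 = n3439 := d4_1 D7537 (iv7 F11763) F11762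
theorem F11775 : act 4 n7537 = n3437 := d11_1 D7537 (iv7 D3437) D3434
theorem F11776 : act 1 n3439 = n7532 := d15_0 (iv0 D7532) D7537 F11774
def n7538 : Q := act 0 n3435
theorem D7538 : act 0 n3435 = n7538 := rfl
def n7539 : Q := act 1 n3435
theorem D7539 : act 1 n3435 = n7539 := rfl
theorem F11777 : act 1 n7539 = n3440 := d15_1 D7539 (iv7 F11765) F11764
def n7540 : Q := act 4 n3435
theorem D7540 : act 4 n3435 = n7540 := rfl
def n7541 : Q := act 6 n3435
theorem D7541 : act 6 n3435 = n7541 := rfl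
def n7542 : Q := act 7 n3435
theorem D7542 : act 7 n3435 = n7542 := rfl
theorem F11778 : act 2 n7542 = n3440 := d4_1 D7542 (iv7 F11765) F11764
theorem F11779 : act 5 n7542 = n3437 := d13_1 D7542 (iv7 D3437) D3435
theorem F11780 : act 1 n3440 = n7538 := d15_0 (iv0 D7538) D7542 F11778
def n7543 : Q := act 0 n3436
theorem D7543 : act 0 n3436 = n7543 := rfl
def n7544 : Q := act 1 n3436
theorem D7544 : act 1 n3436 = n7544 := rfl
def n7545 : Q := act 5 n3436
theorem D7545 : act 5 n3436 = n7545 := rfl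
def n7546 : Q := act 7 n3436
theorem D7546 : act 7 n3436 = n7546 := rfl
def n7547 : Q := act 6 n3437
theorem D7547 : act 6 n3437 = n7547 := rfl
theorem F11781 : act 2 n7547 = n3441 := d3_1 D7547 (iv6 D3441) (iv2 F5421)
def n7548 : Q := act 0 n3438
theorem D7548 : act 0 n3438 = n7548 := rfl
theorem F11782 : act 4 n7548 = n5965 := d20_0 (iv1 F9267) F5375 (iv3 F9258) (iv1 F9262) D7412 (iv4 F11770) (iv1 F11776) (iv4 D3439) D3438 D7548
def n7549 : Q := act 1 n3438
theorem D7549 : act 1 n3438 = n7549 := rfl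
def n7550 : Q := act 2 n3438
theorem D7550 : act 2 n3438 = n7550 := rfl
def n7551 : Q := act 4 n3438
theorem D7551 : act 4 n3438 = n7551 := rfl
theorem F11783 : act 0 n7366 = n7551 := d20_1 D7366 (iv4 D7551) (iv3 D3438) (iv1 D1510) (iv3 D817) (iv4 D469) D467 D811 D1493 D3381
def n7552 : Q := act 5 n3438
theorem D7552 : act 5 n3438 = n7552 := rfl
theorem F11784 : act 3 n7552 = n3440 := d6_1 D7552 (iv5 D3440) D3438
def n7553 : Q := act 6 n3438
theorem D7553 : act 6 n3438 = n7553 := rfl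
theorem F11785 : act 3 n7553 = n3441 := d7_1 D7553 (iv6 D3441) D3438
def n7554 : Q := act 5 n3439
theorem D7554 : act 5 n3439 = n7554 := rfl
def n7555 : Q := act 6 n3439
theorem D7555 : act 6 n3439 = n7555 := rfl
theorem F11786 : act 4 n7555 = n3441 := d10_1 D7555 (iv6 D3441) D3439
def n7556 : Q := act 4 n3440
theorem D7556 : act 4 n3440 = n7556 := rfl
def n7557 : Q := act 6 n3440
theorem D7557 : act 6 n3440 = n7557 := rfl
def n7558 : Q := act 0 n3441
theorem D7558 : act 0 n3441 = n7558 := rfl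
def n7559 : Q := act 1 n3441
theorem D7559 : act 1 n3441 = n7559 := rfl
def n7560 : Q := act 5 n3441
theorem D7560 : act 5 n3441 = n7560 := rfl
def n7561 : Q := act 7 n3441
theorem D7561 : act 7 n3441 = n7561 := rfl
def n7562 : Q := act 2 n3442
theorem D7562 : act 2 n3442 = n7562 := rfl
theorem F11787 : act 4 n7562 = n7528 := d1_2 F5423 D7562 (iv2 D7528)
theorem F11788 : act 7 n3443 = n7562 := d15_2 (iv0 D3442) D3443 (iv2 D7562)
theorem F11789 : act 3 n7562 = n7523 := d8_1 F11788 F11763 (iv3 F5425)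
def n7563 : Q := act 3 n3442
theorem D7563 : act 3 n3442 = n7563 := rfl
theorem F11790 : act 2 n7563 = n7534 := d0_1 D7563 (iv3 D7534) (iv2 F11762) (iv3 F11789) (iv2 D7562)
theorem F11791 : act 4 n7563 = n7534 := d5_2 F5423 D7563 (iv3 D7534) (iv4 D3434) D3433
theorem F11792 : act 0 n7548 = n7534 := d20_1 (iv4 F11782) (iv4 F11791) (iv3 D7563) (iv1 F5422) F2624 F1529 (iv1 F1329) D1174 D2518 D5965
theorem E1573 : n7563 = n7522 := ((c15_3 (iv0 F11792) (iv0 D7548) (iv7 F11761) F11790)).symm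
theorem F11793 : act 2 n7522 = n7534 := (sb E1573 F11790)
theorem E1574 : n3442 = n3432 := ((((iv3 D7522)).symm.trans (sb E1573 (iv3 D7563)))).symm
theorem F11794 : act 4 n7522 = n7534 := (sb E1573 F11791)
theorem E1575 : n7520 = n1513 := ((D7520).symm.trans (sb E1574 (iv1 F5422)))
theorem E1576 : n7521 = n1511 := ((D7521).symm.trans (sb E1574 (iv0 D3442)))
theorem E1577 : n7562 = n1509 := ((((iv2 D3432)).symm.trans (sb E1574 D7562))).symm
theorem E1578 : n7523 = n3433 := ((D7523).symm.trans (sb E1574 (iv4 F5423)))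
theorem E1579 : n3443 = n3437 := (((iv1 F5424)).symm.trans (sb E1575 (iv1 F11759)))
theorem F11795 : act 1 n1513 = n3432 := (sb E1575 (iv0 D7520))
theorem F11796 : act 0 n1511 = n3432 := (sb E1576 (iv1 D7521))
theorem E1580 : n7528 = n3434 := (((D3434).symm.trans (sb E1577 F11787))).symm
theorem F11797 : act 4 n3433 = n3432 := (sb E1578 (iv4 D7523))
theorem E1581 : n7531 = n3439 := ((D7531).symm.trans (sb E1578 F11763))
theorem F11798 : act 0 n3437 = n1511 := (sb E1579 (iv1 D3443))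
theorem F11799 : act 1 n3437 = n1513 := (sb E1579 F5424)
theorem F11800 : act 2 n3434 = n3433 := (sb E1580 (iv2 D7528))
theorem F11801 : act 3 n3439 = n3437 := (sb E1581 F11769)
theorem F11802 : act 7 n3439 = n3433 := (sb E1581 (iv7 D7531))
theorem F11803 : act 7 n7529 = n7554 := d13_2 F11802 D7529 (iv5 D7554)
theorem F11804 : act 1 n7537 = n7526 := d15_0 (iv0 D7526) (iv7 F11802) (iv2 F11774)
theorem F11805 : act 3 n7554 = n7542 := d8_1 F11803 (iv7 D7542) (iv3 F11767)
theorem F11806 : act 3 n7550 = n7537 := d0_4 F11801 F5421 D3438 D7550 F11774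
theorem E1582 : n7551 = n7550 := ((c5_4 D3439 F11801 (iv4 F11775) (iv3 F11806) (iv4 D7551) (iv3 D3438))).symm
theorem F11807 : act 1 n7550 = n7366 := (sb E1582 (iv0 F11783))
theorem F11808 : act 4 n7550 = n3438 := (sb E1582 (iv4 D7551))
theorem F11809 : act 3 n7547 = n7555 := d7_3 (iv6 D7555) F11801 D7547
theorem F11810 : act 7 n7534 = n7550 := d11_0 F11808 (iv7 F11761) F11794
theorem E1583 : n7549 = n7456 := (c15_1 D7549 (iv0 F11772) F11810 (iv2 D7550))
theorem F11811 : act 0 n7456 = n3438 := (sb E1583 (iv1 D7549))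
theorem F11812 : act 1 n7366 = n7522 := d15_1 F11807 F11761 D7550
theorem F11813 : act 0 n7550 = n7371 := d20_10 (iv4 D7371) (iv1 D3382) F2609 (iv3 D1493) (iv1 F2428) (iv3 F4484) F4485 (iv1 F11799) (iv4 F11775) (iv3 F11806)
theorem F11814 : act 1 n7522 = n7371 := d15_0 (iv0 F11813) (iv7 F11810) (iv2 F11793)
theorem F11815 : act 2 n7529 = n7535 := d2_3 (iv5 D7535) F11800 D7529
theorem F11816 : act 2 n7530 = n7536 := d3_3 (iv6 D7536) F11800 D7530
theorem F11817 : act 1 n7527 = n7537 := d15_1 D7527 (iv7 D7537) F11800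
theorem F11818 : act 4 n7525 = n7530 := d1_0 F11816 F11773 (iv2 F11766)
def n7564 : Q := act 4 n3444
theorem D7564 : act 4 n3444 = n7564 := rfl
theorem F11819 : act 2 n7564 = n3447 := d1_1 D7564 (iv4 D3447) (iv2 F5426)
def n7565 : Q := act 6 n3444
theorem D7565 : act 6 n3444 = n7565 := rfl
theorem F11820 : act 2 n7565 = n3448 := d3_1 D7565 (iv6 D3448) (iv2 F5426)
def n7566 : Q := act 2 n3445
theorem D7566 : act 2 n3445 = n7566 := rfl
theorem F11821 : act 7 n3446 = n7566 := d15_2 (iv0 D3445) D3446 (iv2 D7566)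
def n7567 : Q := act 3 n3445
theorem D7567 : act 3 n3445 = n7567 := rfl
def n7568 : Q := act 4 n3445
theorem D7568 : act 4 n3445 = n7568 := rfl
def n7569 : Q := act 5 n3445
theorem D7569 : act 5 n3445 = n7569 := rfl
def n7570 : Q := act 6 n3445
theorem D7570 : act 6 n3445 = n7570 := rfl
def n7571 : Q := act 7 n3445
theorem D7571 : act 7 n3445 = n7571 := rfl
theorem F11822 : act 2 n7571 = n3446 := d4_1 D7571 F11821 (iv2 D7566)
def n7572 : Q := act 3 n3446
theorem D7572 : act 3 n3446 = n7572 := rfl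
def n7573 : Q := act 4 n3446
theorem D7573 : act 4 n3446 = n7573 := rfl
def n7574 : Q := act 5 n3446
theorem D7574 : act 5 n3446 = n7574 := rfl
def n7575 : Q := act 6 n3446
theorem D7575 : act 6 n3446 = n7575 := rfl
def n7576 : Q := act 0 n3447
theorem D7576 : act 0 n3447 = n7576 := rfl
def n7577 : Q := act 1 n3447
theorem D7577 : act 1 n3447 = n7577 := rfl
def n7578 : Q := act 5 n3447
theorem D7578 : act 5 n3447 = n7578 := rfl
def n7579 : Q := act 6 n3447
theorem D7579 : act 6 n3447 = n7579 := rfl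
theorem F11823 : act 4 n7579 = n3448 := d10_1 D7579 (iv6 D3448) D3447
def n7580 : Q := act 0 n3448
theorem D7580 : act 0 n3448 = n7580 := rfl
def n7581 : Q := act 1 n3448
theorem D7581 : act 1 n3448 = n7581 := rfl
def n7582 : Q := act 7 n3448
theorem D7582 : act 7 n3448 = n7582 := rfl
theorem F11824 : act 3 n7582 = n3456 := d8_1 D7582 (iv7 D3456) (iv3 F5427)
def n7583 : Q := act 0 n3449
theorem D7583 : act 0 n3449 = n7583 := rfl
def n7584 : Q := act 1 n3449
theorem D7584 : act 1 n3449 = n7584 := rfl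
def n7585 : Q := act 5 n3449
theorem D7585 : act 5 n3449 = n7585 := rfl
theorem F11825 : act 3 n7585 = n3459 := d6_1 D7585 (iv5 D3459) (iv3 F5428)
def n7586 : Q := act 0 n3450
theorem D7586 : act 0 n3450 = n7586 := rfl
def n7587 : Q := act 1 n3450
theorem D7587 : act 1 n3450 = n7587 := rfl
def n7588 : Q := act 2 n3450
theorem D7588 : act 2 n3450 = n7588 := rfl
theorem F11826 : act 5 n7588 = n3593 := d2_2 (iv5 F5429) D7588 (iv2 D3593)
def n7589 : Q := act 4 n3450
theorem D7589 : act 4 n3450 = n7589 := rfl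
theorem F11827 : act 3 n7589 = n3704 := d5_1 D7589 (iv4 D3704) F2802 (iv4 F2626) D3450
def n7590 : Q := act 6 n3450
theorem D7590 : act 6 n3450 = n7590 := rfl
theorem F11828 : act 3 n7590 = n3451 := d7_1 D7590 (iv6 D3451) D3450
def n7591 : Q := act 0 n3451
theorem D7591 : act 0 n3451 = n7591 := rfl
def n7592 : Q := act 1 n3451
theorem D7592 : act 1 n3451 = n7592 := rfl
def n7593 : Q := act 5 n3451
theorem D7593 : act 5 n3451 = n7593 := rfl
theorem F11829 : act 6 n7593 = n3597 := d12_2 D3451 D7593 (iv5 D3597) (iv6 D1584) (iv5 F2625)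
def n7594 : Q := act 7 n3451
theorem D7594 : act 7 n3451 = n7594 := rfl
theorem F11830 : act 4 n7594 = n3713 := d11_1 D7594 (iv7 D3713) (iv4 F5430)
def n7595 : Q := act 0 n3452
theorem D7595 : act 0 n3452 = n7595 := rfl
def n7596 : Q := act 1 n3452
theorem D7596 : act 1 n3452 = n7596 := rfl
def n7597 : Q := act 2 n3452
theorem D7597 : act 2 n3452 = n7597 := rfl
theorem F11831 : act 5 n7597 = n3675 := d2_2 (iv5 F5431) D7597 (iv2 D3675)
def n7598 : Q := act 4 n3452
theorem D7598 : act 4 n3452 = n7598 := rfl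
theorem F11832 : act 3 n7598 = n3642 := d5_1 D7598 (iv4 D3642) F2778 (iv4 F2630) D3452
def n7599 : Q := act 6 n3452
theorem D7599 : act 6 n3452 = n7599 := rfl
theorem F11833 : act 3 n7599 = n3453 := d7_1 D7599 (iv6 D3453) D3452
def n7600 : Q := act 0 n3453
theorem D7600 : act 0 n3453 = n7600 := rfl
def n7601 : Q := act 1 n3453
theorem D7601 : act 1 n3453 = n7601 := rfl
def n7602 : Q := act 5 n3453
theorem D7602 : act 5 n3453 = n7602 := rfl
theorem F11834 : act 6 n7602 = n3679 := d12_2 D3453 D7602 (iv5 D3679) (iv6 D1617) (iv5 F2629)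
def n7603 : Q := act 7 n3453
theorem D7603 : act 7 n3453 = n7603 := rfl
theorem F11835 : act 4 n7603 = n3653 := d11_1 D7603 (iv7 D3653) (iv4 F5432)
def n7604 : Q := act 2 n3454
theorem D7604 : act 2 n3454 = n7604 := rfl
theorem F11836 : act 7 n3455 = n7604 := d15_2 (iv0 D3454) D3455 (iv2 D7604)
def n7605 : Q := act 3 n3454
theorem D7605 : act 3 n3454 = n7605 := rfl
def n7606 : Q := act 4 n3454
theorem D7606 : act 4 n3454 = n7606 := rfl
def n7607 : Q := act 5 n3454
theorem D7607 : act 5 n3454 = n7607 := rfl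
def n7608 : Q := act 6 n3454
theorem D7608 : act 6 n3454 = n7608 := rfl
def n7609 : Q := act 7 n3454
theorem D7609 : act 7 n3454 = n7609 := rfl
theorem F11837 : act 2 n7609 = n3455 := d4_1 D7609 F11836 (iv2 D7604)
def n7610 : Q := act 3 n3455
theorem D7610 : act 3 n3455 = n7610 := rfl
def n7611 : Q := act 4 n3455
theorem D7611 : act 4 n3455 = n7611 := rfl
def n7612 : Q := act 5 n3455
theorem D7612 : act 5 n3455 = n7612 := rfl
def n7613 : Q := act 6 n3455
theorem D7613 : act 6 n3455 = n7613 := rfl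
def n7614 : Q := act 2 n3457
theorem D7614 : act 2 n3457 = n7614 := rfl
theorem F11838 : act 7 n3458 = n7614 := d15_2 (iv0 D3457) D3458 (iv2 D7614)
def n7615 : Q := act 3 n3457
theorem D7615 : act 3 n3457 = n7615 := rfl
def n7616 : Q := act 4 n3457
theorem D7616 : act 4 n3457 = n7616 := rfl
def n7617 : Q := act 5 n3457
theorem D7617 : act 5 n3457 = n7617 := rfl
def n7618 : Q := act 6 n3457
theorem D7618 : act 6 n3457 = n7618 := rfl
def n7619 : Q := act 7 n3457
theorem D7619 : act 7 n3457 = n7619 := rfl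
theorem F11839 : act 2 n7619 = n3458 := d4_1 D7619 F11838 (iv2 D7614)
def n7620 : Q := act 3 n3458
theorem D7620 : act 3 n3458 = n7620 := rfl
def n7621 : Q := act 4 n3458
theorem D7621 : act 4 n3458 = n7621 := rfl
def n7622 : Q := act 5 n3458
theorem D7622 : act 5 n3458 = n7622 := rfl
def n7623 : Q := act 6 n3458
theorem D7623 : act 6 n3458 = n7623 := rfl
def n7624 : Q := act 0 n3459
theorem D7624 : act 0 n3459 = n7624 := rfl
def n7625 : Q := act 1 n3459
theorem D7625 : act 1 n3459 = n7625 := rfl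
def n7626 : Q := act 4 n3459
theorem D7626 : act 4 n3459 = n7626 := rfl
def n7627 : Q := act 0 n3460
theorem D7627 : act 0 n3460 = n7627 := rfl
theorem F11840 : act 1 n3463 = n7627 := d15_0 (iv0 D7627) (iv7 F9379) F9378
def n7628 : Q := act 1 n3460
theorem D7628 : act 1 n3460 = n7628 := rfl
theorem F11841 : act 1 n7628 = n3463 := d15_1 D7628 (iv7 F9372) F9370
def n7629 : Q := act 3 n3460
theorem D7629 : act 3 n3460 = n7629 := rfl
theorem F11842 : act 4 n7629 = n7629 := d5_2 D3460 D7629 (iv3 D7629) (iv4 D3460) F5208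
def n7630 : Q := act 5 n3460
theorem D7630 : act 5 n3460 = n7630 := rfl
def n7631 : Q := act 0 n3461
theorem D7631 : act 0 n3461 = n7631 := rfl
theorem F11843 : act 5 n7631 = n5943 := d21_2 D3461 D7631 (iv6 D5943) (iv1 D2507) (iv6 D1169) (iv5 D703) (iv1 F683) (iv5 F768) D820 D1518
theorem F11844 : act 6 n7631 = n5877 := d21_5 (iv5 F2448) (iv1 F4694) (iv5 F4691) (iv6 F5434) D7631 (iv5 F9083) (iv1 F4009) F2617 F2618 (iv1 F2480)
theorem F11845 : act 2 n7096 = n7631 := d15_3 (iv0 D7631) (iv0 F5435) (iv7 F11349)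
theorem F11846 : act 1 n3464 = n7631 := d15_0 (iv0 D7631) (iv7 F9382) F9380
theorem F11847 : act 7 n7631 = n5943 := d15_2 F9377 F11846 (iv2 F11352)
def n7632 : Q := act 4 n3461
theorem D7632 : act 4 n3461 = n7632 := rfl
theorem F11848 : act 6 n7632 = n6676 := d10_2 (iv6 F5434) D7632 (iv4 D6676)
def n7633 : Q := act 4 n3462
theorem D7633 : act 4 n3462 = n7633 := rfl
def n7634 : Q := act 5 n3462
theorem D7634 : act 5 n3462 = n7634 := rfl
theorem F11852 : act 6 n7634 = n7234 := d21_3 F11392 (iv1 F11395) D7634 (iv1 F11631) F11630 F10381 (iv1 F10278) D3496 (iv6 F9368) F11394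
def n7635 : Q := act 6 n3462
theorem D7635 : act 6 n3462 = n7635 := rfl
theorem F11853 : act 2 n7635 = n7635 := d3_1 D7635 (iv6 D7635) F5436
theorem F11854 : act 3 n7635 = n3465 := d7_1 D7635 (iv6 D3465) D3462
theorem F11855 : act 7 n7635 = n7151 := d14_2 F9369 D7635 F11472 F9396 (iv6 F9368)
theorem F11856 : act 5 n7635 = n7152 := d21_6 (iv5 D2456) (iv1 F5068) D3247 D7100 (iv1 F11395) D7635 (iv1 F11476) F10733 F10204 (iv1 F5162)
theorem F11857 : act 1 n7635 = n7400 := d15_0 (iv0 F11697) (iv7 F11855) F11853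
def n7636 : Q := act 3 n3463
theorem D7636 : act 3 n3463 = n7636 := rfl
def n7637 : Q := act 5 n3463
theorem D7637 : act 5 n3463 = n7637 := rfl
def n7638 : Q := act 6 n3463
theorem D7638 : act 6 n3463 = n7638 := rfl
theorem F11858 : act 4 n7638 = n3465 := d10_1 D7638 (iv6 D3465) D3463
def n7639 : Q := act 4 n3464
theorem D7639 : act 4 n3464 = n7639 := rfl
theorem F11860 : act 6 n7639 = n7235 := d10_2 F5437 D7639 (iv4 D7235)
def n7640 : Q := act 0 n3466
theorem D7640 : act 0 n3466 = n7640 := rfl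
theorem F11861 : act 1 n7238 = n7640 := d15_0 (iv0 D7640) F5441 D7238
def n7641 : Q := act 1 n3466
theorem D7641 : act 1 n3466 = n7641 := rfl
def n7642 : Q := act 2 n3466
theorem D7642 : act 2 n3466 = n7642 := rfl
theorem F11862 : act 3 n7642 = n7248 := d0_2 D3466 D7642 (iv2 D7248) (iv3 D3334) (iv2 F2665)
theorem F11863 : act 4 n7642 = n3514 := d1_2 (iv4 F5440) D7642 (iv2 D3514)
theorem F11864 : act 7 n7642 = n7238 := d4_2 (iv7 F5441) D7642 (iv2 D7238)
theorem F11865 : act 1 n7642 = n7236 := d15_0 (iv0 D7236) (iv7 F5441) D7642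
theorem F11866 : act 1 n7641 = n7238 := d15_1 D7641 (iv7 F11864) (iv2 D7642)
theorem F11867 : act 1 n7237 = n7642 := d15_1 D7237 F11864 (iv2 D7238)
def n7643 : Q := act 6 n3467
theorem D7643 : act 6 n3467 = n7643 := rfl
theorem F11868 : act 2 n7643 = n5709 := d3_1 D7643 (iv6 D5709) (iv2 F5442)
theorem F11869 : act 3 n7643 = n3468 := d7_1 D7643 (iv6 D3468) D3467
theorem F11870 : act 4 n7643 = n3469 := d10_1 D7643 (iv6 D3469) (iv4 F5443)
def n7644 : Q := act 0 n3468
theorem D7644 : act 0 n3468 = n7644 := rfl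
def n7645 : Q := act 1 n3468
theorem D7645 : act 1 n3468 = n7645 := rfl
def n7646 : Q := act 5 n3468
theorem D7646 : act 5 n3468 = n7646 := rfl
theorem F11871 : act 6 n7646 = n6844 := d12_2 D3468 D7646 (iv5 D6844) (iv6 D3089) (iv5 F3488)
def n7647 : Q := act 7 n3468
theorem D7647 : act 7 n3468 = n7647 := rfl
theorem F11872 : act 6 n7647 = n7647 := d14_1 D7647 (iv7 D7647) (iv6 D3468) F3487 D3468
def n7648 : Q := act 0 n3469
theorem D7648 : act 0 n3469 = n7648 := rfl
def n7649 : Q := act 1 n3469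
theorem D7649 : act 1 n3469 = n7649 := rfl
def n7650 : Q := act 5 n3469
theorem D7650 : act 5 n3469 = n7650 := rfl
theorem F11874 : act 2 n7650 = n7646 := d2_1 D7650 (iv5 D7646) (iv2 F5448)
theorem F11875 : act 6 n7650 = n6845 := d12_2 D3469 D7650 (iv5 D6845) (iv6 D3090) (iv5 F3484)
def n7651 : Q := act 7 n3469
theorem D7651 : act 7 n3469 = n7651 := rfl
theorem F11876 : act 2 n7651 = n7647 := d4_1 D7651 (iv7 D7647) (iv2 F5448)
theorem F11877 : act 6 n7651 = n7651 := d14_1 D7651 (iv7 D7651) (iv6 D3469) F3485 D3469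
theorem F11878 : act 1 n7647 = n7648 := d15_0 (iv0 D7648) D7651 F11876
theorem F11880 : act 1 n7651 = n7644 := d15_0 (iv0 D7644) D7647 (iv2 F11876)
def n7652 : Q := act 0 n3470
theorem D7652 : act 0 n3470 = n7652 := rfl
theorem F11881 : act 6 n7652 = n6908 := d21_5 (iv5 F3744) (iv1 F2102) (iv5 F2670) D3470 D7652 (iv5 D6908) (iv1 D3108) (iv5 D1391) (iv6 D782) D778
def n7653 : Q := act 1 n3470
theorem D7653 : act 1 n3470 = n7653 := rfl
theorem F11882 : act 1 n7653 = n3474 := d15_1 D7653 (iv7 D3474) (iv2 F5449)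
def n7654 : Q := act 5 n3470
theorem D7654 : act 5 n3470 = n7654 := rfl
theorem F11883 : act 2 n7654 = n3473 := d2_1 D7654 (iv5 D3473) (iv2 F5449)
theorem F11884 : act 3 n7654 = n6830 := d6_1 D7654 (iv5 D6830) (iv3 F5450)
theorem F11885 : act 6 n7654 = n5804 := d12_2 D3470 D7654 (iv5 D5804) (iv6 D2427) (iv5 F2670)
theorem F11886 : act 0 n6884 = n7654 := d21_7 F3484 (iv1 D1386) (iv5 D781) D782 D1389 D3101 D6884 (iv5 D7654) (iv6 D3470) (iv1 F2673)
def n7655 : Q := act 7 n3470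
theorem D7655 : act 7 n3470 = n7655 := rfl
theorem F11887 : act 2 n7655 = n3474 := d4_1 D7655 (iv7 D3474) (iv2 F5449)
theorem F11888 : act 3 n7655 = n6831 := d8_1 D7655 (iv7 D6831) (iv3 F5450)
theorem F11889 : act 6 n7655 = n7655 := d14_1 D7655 (iv7 D7655) (iv6 D3470) F2671 D3470
theorem F11890 : act 1 n3474 = n7652 := d15_0 (iv0 D7652) D7655 F11887
theorem F11891 : act 1 n3472 = n7655 := d15_1 D3472 (iv7 D7655) F5449
theorem F11892 : act 1 n7655 = n3471 := d15_0 (iv0 D3471) D3474 (iv2 F11887)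
def n7656 : Q := act 2 n3471
theorem D7656 : act 2 n3471 = n7656 := rfl
theorem F11893 : act 7 n3472 = n7656 := d15_2 (iv0 D3471) D3472 (iv2 D7656)
def n7657 : Q := act 3 n3471
theorem D7657 : act 3 n3471 = n7657 := rfl
theorem F11894 : act 4 n7657 = n7652 := d20_6 (iv4 D1543) (iv1 D836) (iv4 F1578) (iv3 F2674) D3471 D7657 (iv1 F11890) (iv4 F8121) F8120 (iv1 F5275)
theorem F11895 : act 0 n5702 = n7657 := d20_10 F11894 (iv1 F11890) (iv4 F8121) F8120 (iv1 F5275) D3498 F10291 F10080 (iv4 F3770) (iv3 F8793)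
def n7658 : Q := act 4 n3471
theorem D7658 : act 4 n3471 = n7658 := rfl
def n7659 : Q := act 5 n3471
theorem D7659 : act 5 n3471 = n7659 := rfl
def n7660 : Q := act 6 n3471
theorem D7660 : act 6 n3471 = n7660 := rfl
theorem F11896 : act 5 n7660 = n6841 := d21_6 (iv5 F3749) (iv1 D1146) (iv5 F1575) D1531 D3471 D7660 (iv1 D6841) (iv5 D3087) (iv6 D1384) (iv1 F1502)
def n7661 : Q := act 7 n3471
theorem D7661 : act 7 n3471 = n7661 := rfl
theorem F11897 : act 2 n7661 = n3472 := d4_1 D7661 F11893 (iv2 D7656)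
def n7662 : Q := act 3 n3472
theorem D7662 : act 3 n3472 = n7662 := rfl
def n7663 : Q := act 4 n3472
theorem D7663 : act 4 n3472 = n7663 := rfl
theorem F11898 : act 3 n7653 = n7663 := d20_5 F5270 (iv1 F2187) (iv4 F2679) (iv3 F5453) (iv1 F11882) (iv4 D7663) (iv1 D3472) (iv4 F3553) F3552 D2192
def n7664 : Q := act 5 n3472
theorem D7664 : act 5 n3472 = n7664 := rfl
def n7665 : Q := act 6 n3472
theorem D7665 : act 6 n3472 = n7665 := rfl
def n7666 : Q := act 0 n3473
theorem D7666 : act 0 n3473 = n7666 := rfl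
def n7667 : Q := act 1 n3473
theorem D7667 : act 1 n3473 = n7667 := rfl
theorem F11899 : act 5 n6835 = n7667 := d21_6 F3488 (iv1 F2521) (iv5 D1383) D1384 D3085 D6835 (iv1 D7667) (iv5 D3473) (iv6 D1531) D1528
theorem F11900 : act 2 n7667 = n6884 := d2_1 F11899 (iv5 D6884) (iv2 F11165)
def n7668 : Q := act 4 n3473
theorem D7668 : act 4 n3473 = n7668 := rfl
theorem F11901 : act 6 n7668 = n5818 := d10_2 (iv6 F5452) D7668 (iv4 D5818)
def n7669 : Q := act 7 n3473
theorem D7669 : act 7 n3473 = n7669 := rfl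
theorem F11902 : act 3 n7669 = n3487 := d8_1 D7669 (iv7 D3487) (iv3 F5451)
theorem F11903 : act 5 n7669 = n3474 := d13_1 D7669 (iv7 D3474) D3473
theorem F11904 : act 1 n6884 = n7669 := d15_1 (iv0 F11886) (iv7 D7669) (iv2 F11883)
def n7670 : Q := act 0 n3476
theorem D7670 : act 0 n3476 = n7670 := rfl
theorem F11905 : act 1 n6774 = n7670 := d15_0 (iv0 D7670) F7857 (iv2 F11030)
def n7671 : Q := act 1 n3476
theorem D7671 : act 1 n3476 = n7671 := rfl
def n7672 : Q := act 2 n3476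
theorem D7672 : act 2 n3476 = n7672 := rfl
theorem F11906 : act 3 n7672 = n5549 := d0_2 D3476 D7672 (iv2 F10317) (iv3 D3112) F7846
theorem F11907 : act 4 n7672 = n6761 := d1_2 F10313 D7672 (iv2 F11011)
theorem F11908 : act 7 n7672 = n6774 := d4_2 (iv7 F7857) D7672 F11030
theorem F11910 : act 1 n7671 = n6774 := d15_1 D7671 (iv7 F11908) (iv2 D7672)
theorem F11911 : act 1 n6922 = n7672 := d15_1 D6922 F11908 F11030
def n7673 : Q := act 5 n3476
theorem D7673 : act 5 n3476 = n7673 := rfl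
theorem F11912 : act 3 n7673 = n3478 := d6_1 D7673 (iv5 D3478) D3476
theorem F11913 : act 7 n7673 = n6923 := d13_2 (iv7 F7857) D7673 (iv5 D6923)
def n7674 : Q := act 6 n3476
theorem D7674 : act 6 n3476 = n7674 := rfl
theorem F11914 : act 3 n7674 = n3479 := d7_1 D7674 (iv6 D3479) D3476
theorem F11915 : act 4 n7674 = n6772 := d10_1 D7674 (iv6 D6772) F10313
theorem F11916 : act 5 n5842 = n7674 := d6_0 F11914 F5456 D5842
theorem F11917 : act 7 n7001 = n7674 := d8_0 F11914 (iv7 F7870) (iv3 F11261)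
theorem F11918 : act 7 n6772 = n6985 := d11_2 F11917 F11915 F11493
def n7675 : Q := act 4 n3478
theorem D7675 : act 4 n3478 = n7675 := rfl
theorem F11919 : act 2 n7675 = n6919 := d1_1 D7675 (iv4 D6919) F7859
theorem F11920 : act 7 n7675 = n6925 := d11_2 (iv7 F7858) D7675 (iv4 D6925)
def n7676 : Q := act 6 n3478
theorem D7676 : act 6 n3478 = n7676 := rfl
theorem F11921 : act 2 n7676 = n6920 := d3_1 D7676 (iv6 D6920) F7859
theorem F11922 : act 5 n7676 = n5844 := d12_1 D7676 (iv6 D5844) (iv5 F5456) (iv6 D3479) D3478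
def n7677 : Q := act 4 n3481
theorem D7677 : act 4 n3481 = n7677 := rfl
theorem F11923 : act 3 n7677 = n5201 := d5_1 D7677 F10274 F5461 (iv4 F5460) D3481
theorem F11924 : act 7 n7677 = n6629 := d11_2 F7852 D7677 F10753
def n7678 : Q := act 5 n3481
theorem D7678 : act 5 n3481 = n7678 := rfl
theorem F11925 : act 3 n7678 = n3482 := d6_1 D7678 (iv5 D3482) D3481
theorem F11926 : act 7 n7678 = n6916 := d13_2 F7852 D7678 (iv5 D6916)
def n7679 : Q := act 6 n3481
theorem D7679 : act 6 n3481 = n7679 := rfl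
theorem F11927 : act 3 n7679 = n3483 := d7_1 D7679 (iv6 D3483) D3481
def n7680 : Q := act 4 n3482
theorem D7680 : act 4 n3482 = n7680 := rfl
theorem F11928 : act 2 n7680 = n6925 := d1_1 D7680 (iv4 D6925) F7854
theorem F11929 : act 7 n7680 = n6919 := d11_2 F7853 D7680 (iv4 D6919)
def n7681 : Q := act 6 n3482
theorem D7681 : act 6 n3482 = n7681 := rfl
theorem F11930 : act 2 n7681 = n6926 := d3_1 D7681 (iv6 D6926) F7854
theorem F11931 : act 0 n6962 = n7681 := d21_4 (iv5 F8539) (iv1 F8544) F8239 D6962 (iv6 D7681) (iv5 D3482) (iv1 D1533) D1534 F2677 D2442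
def n7682 : Q := act 3 n3484
theorem D7682 : act 3 n3484 = n7682 := rfl
theorem F11932 : act 5 n7682 = n6956 := d6_2 (iv5 F5465) D7682 F11218
theorem F11933 : act 7 n7682 = n6930 := d8_2 F5466 D7682 (iv3 D6930)
def n7683 : Q := act 4 n3484
theorem D7683 : act 4 n3484 = n7683 := rfl
theorem F11934 : act 2 n7683 = n6928 := d1_1 D7683 (iv4 D6928) (iv2 F5467)
theorem F11935 : act 7 n7683 = n6931 := d11_2 F5466 D7683 (iv4 D6931)
theorem F11936 : act 1 n7683 = n5350 := d18_6 (iv1 F7997) (iv4 F7732) F7990 (iv4 F4945) (iv5 F5465) D7683 (iv4 D5350) (iv0 F5076) (iv5 D3223)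
def n7684 : Q := act 6 n3484
theorem D7684 : act 6 n3484 = n7684 := rfl
theorem F11937 : act 2 n7684 = n6929 := d3_1 D7684 (iv6 D6929) (iv2 F5467)
def n7685 : Q := act 3 n3485
theorem D7685 : act 3 n3485 = n7685 := rfl
theorem F11938 : act 5 n7685 = n5824 := d6_2 F5470 D7685 F8954
theorem F11939 : act 7 n7685 = n6927 := d8_2 (iv7 F5469) D7685 (iv3 D6927)
theorem F11940 : act 0 n7685 = n5551 := d21_7 F2038 (iv1 F2010) (iv5 F2501) D3049 F10170 D5824 (iv5 F11938) (iv5 D5551) (iv6 D2306) (iv1 F2040)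
def n7686 : Q := act 4 n3485
theorem D7686 : act 4 n3485 = n7686 := rfl
theorem F11941 : act 2 n7686 = n6931 := d1_1 D7686 (iv4 D6931) (iv2 F5471)
theorem F11942 : act 7 n7686 = n6928 := d11_2 (iv7 F5469) D7686 (iv4 D6928)
theorem F11943 : act 0 n7686 = n5350 := d18_2 (iv1 F5468) D7686 (iv4 D5350) (iv5 D2194) F1994 D1077 (iv4 F5460) F2675 (iv5 F4847)
def n7687 : Q := act 6 n3485
theorem D7687 : act 6 n3485 = n7687 := rfl
theorem F11944 : act 2 n7687 = n6932 := d3_1 D7687 (iv6 D6932) (iv2 F5471)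
theorem F11945 : act 5 n7687 = n5827 := d12_1 D7687 (iv6 D5827) (iv5 D2435) D2436 F5470
def n7688 : Q := act 0 n3486
theorem D7688 : act 0 n3486 = n7688 := rfl
theorem F11946 : act 4 n7688 = n5308 := d18_3 (iv1 D3485) D3486 D7688 F7923 F5020 (iv0 F4539) (iv4 F4639) F8967 F5470
theorem F11947 : act 2 n6933 = n7688 := d1_3 F11946 F8132 (iv4 F11206)
theorem F11948 : act 7 n6934 = n7688 := d11_0 F11946 (iv7 F7924) (iv4 F11207)
theorem F11949 : act 1 n6937 = n7688 := d18_6 (iv1 F4937) (iv4 D1538) (iv1 F2189) (iv4 F2535) (iv5 F4847) (iv4 F11209) F11946 (iv0 D5308) (iv5 D2172)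
def n7689 : Q := act 1 n3486
theorem D7689 : act 1 n3486 = n7689 := rfl
theorem F11950 : act 1 n7689 = n6937 := d15_1 D7689 (iv7 D6937) (iv2 F5474)
theorem F11951 : act 7 n7689 = n6933 := d15_2 (iv0 D7688) D7689 F11947
theorem F11952 : act 4 n7689 = n5309 := d18_7 (iv1 F5275) (iv4 D1543) (iv1 D836) (iv4 F1578) D1534 D3486 D7689 F8139 F8138
theorem F11953 : act 2 n6934 = n7689 := d1_3 F11952 F7926 (iv4 F11207)
def n7690 : Q := act 3 n3486
theorem D7690 : act 3 n3486 = n7690 := rfl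
theorem F11954 : act 6 n7690 = n5847 := d7_2 (iv6 F5475) D7690 (iv3 D5847)
def n7691 : Q := act 5 n3486
theorem D7691 : act 5 n3486 = n7691 := rfl
theorem F11955 : act 2 n7691 = n6936 := d2_1 D7691 (iv5 D6936) (iv2 F5474)
def n7692 : Q := act 7 n3486
theorem D7692 : act 7 n3486 = n7692 := rfl
theorem F11956 : act 2 n7692 = n6937 := d4_1 D7692 (iv7 D6937) (iv2 F5474)
theorem F11957 : act 4 n7692 = n3487 := d11_1 D7692 (iv7 D3487) D3486
theorem F11958 : act 1 n6934 = n7692 := d15_1 D6934 (iv7 D7692) F5474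
theorem F11959 : act 1 n7692 = n6933 := d15_1 F11958 (iv7 F11951) (iv2 F11953)
def n7693 : Q := act 6 n3487
theorem D7693 : act 6 n3487 = n7693 := rfl
theorem F11960 : act 2 n7693 = n6938 := d3_1 D7693 (iv6 D6938) (iv2 F5476)
theorem F11961 : act 5 n7693 = n7693 := d12_1 D7693 (iv6 D7693) F5477 F2680 (iv5 F5477)
theorem F11962 : act 7 n7693 = n5850 := d14_2 D3487 D7693 (iv6 D5850) (iv7 D2445) (iv6 F2677)
theorem F11963 : act 1 n7036 = n7693 := d15_1 D7036 F11962 F9014
theorem F11964 : act 1 n7693 = n7035 := d15_0 (iv0 D7035) (iv7 F11211) (iv2 F11960)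
def n7694 : Q := act 0 n3488
theorem D7694 : act 0 n3488 = n7694 := rfl
def n7695 : Q := act 1 n3488
theorem D7695 : act 1 n3488 = n7695 := rfl
def n7696 : Q := act 2 n3488
theorem D7696 : act 2 n3488 = n7696 := rfl
theorem F11965 : act 3 n7696 = n5670 := d0_2 D3488 D7696 (iv2 F10286) (iv3 D5344) (iv2 F5272)
theorem F11966 : act 4 n7696 = n7696 := d1_2 F5480 D7696 (iv2 D7696)
def n7697 : Q := act 5 n3488
theorem D7697 : act 5 n3488 = n7697 := rfl
theorem F11967 : act 3 n7697 = n3489 := d6_1 D7697 (iv5 D3489) D3488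
def n7698 : Q := act 6 n3488
theorem D7698 : act 6 n3488 = n7698 := rfl
theorem F11968 : act 3 n7698 = n3490 := d7_1 D7698 (iv6 D3490) D3488
theorem F11969 : act 4 n7698 = n7698 := d10_1 D7698 (iv6 D7698) F5480
theorem F11970 : act 5 n6426 = n7698 := d6_0 F11968 F5483 D6426
theorem F11971 : act 7 n7142 = n7698 := d8_0 F11968 (iv7 F5484) D7142
def n7699 : Q := act 4 n3489
theorem D7699 : act 4 n3489 = n7699 := rfl
def n7700 : Q := act 6 n3489
theorem D7700 : act 6 n3489 = n7700 := rfl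
theorem F11972 : act 5 n7700 = n6427 := d12_1 D7700 (iv6 D6427) (iv5 F5483) (iv6 D3490) D3489
def n7701 : Q := act 0 n3491
theorem D7701 : act 0 n3491 = n7701 := rfl
theorem F11973 : act 4 n7701 = n5315 := d18_3 F4646 D3491 D7701 F7938 F7732 F7997 F2552 D1436 (iv5 F4643)
theorem F11974 : act 1 n3501 = n7701 := d15_0 (iv0 D7701) (iv7 F9401) F9399
theorem F11975 : act 7 n7701 = n6710 := d15_2 (iv0 F10701) F11974 F10940
def n7702 : Q := act 3 n3491
theorem D7702 : act 3 n3491 = n7702 := rfl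
def n7703 : Q := act 5 n3491
theorem D7703 : act 5 n3491 = n7703 := rfl
theorem F11977 : act 1 n7703 = n5333 := d17_6 (iv1 D1547) (iv5 D837) D835 D1539 D3491 D7703 (iv5 D5333) (iv0 F5507) (iv4 D3504)
def n7704 : Q := act 6 n3491
theorem D7704 : act 6 n3491 = n7704 := rfl
theorem F11979 : act 4 n7704 = n3492 := d10_1 D7704 (iv6 D3492) D3491
def n7705 : Q := act 4 n3496
theorem D7705 : act 4 n3496 = n7705 := rfl
def n7706 : Q := act 5 n3498
theorem D7706 : act 5 n3498 = n7706 := rfl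
theorem F11981 : act 3 n7706 = n3499 := d6_1 D7706 (iv5 D3499) D3498
def n7707 : Q := act 6 n3498
theorem D7707 : act 6 n3498 = n7707 := rfl
theorem F11982 : act 3 n7707 = n3500 := d7_1 D7707 (iv6 D3500) D3498
theorem F11983 : act 4 n7707 = n6436 := d10_1 D7707 (iv6 F10485) (iv4 F10291)
def n7708 : Q := act 4 n3499
theorem D7708 : act 4 n3499 = n7708 := rfl
def n7709 : Q := act 6 n3499
theorem D7709 : act 6 n3499 = n7709 := rfl
theorem F11984 : act 0 n7062 = n7709 := d21_4 (iv5 F8382) (iv1 F8720) F8717 D7062 (iv6 D7709) (iv5 D3499) F5274 D2172 F3534 D2825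
def n7710 : Q := act 3 n3501
theorem D7710 : act 3 n3501 = n7710 := rfl
def n7711 : Q := act 5 n3501
theorem D7711 : act 5 n3501 = n7711 := rfl
theorem F11985 : act 0 n7711 = n5333 := d17_2 (iv1 F11974) D7711 (iv5 D5333) (iv4 D2186) (iv5 D1072) D1071 D2182 F7939 (iv4 F11973)
theorem E1584 : n6498 = n6030 := (c21_5 D1476 (iv1 F4490) F4488 D2891 D6498 F9371 D7711 F11985 (iv5 D5333) F3542 (iv1 D1474))
theorem F11986 : act 1 n6030 = n2891 := (sb E1584 (iv0 D6498))
theorem E1585 : n6499 = n6032 := (c15_2 F11986 D6499 F9379 (iv2 F9370))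
theorem F11987 : act 0 n6032 = n2891 := (sb E1585 (iv1 D6499))
theorem E1586 : n7627 = n6462 := (c20_8 D6032 F11987 F4491 F2429 D1518 F5208 D3460 D7627 F10533 F4471 (iv1 F4049))
theorem F11988 : act 0 n6462 = n3463 := (sb E1586 (iv1 F11840))
theorem F11989 : act 1 n6462 = n3460 := (sb E1586 (iv0 D7627))
theorem E1587 : n7628 = n3567 := ((c15_4 F11841 (iv0 F11988) F10534 (iv2 F5593))).symm
theorem F11990 : act 0 n3567 = n3460 := (sb E1587 (iv1 D7628))
theorem F11991 : act 1 n3567 = n3463 := (sb E1587 F11841)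
def n7712 : Q := act 3 n3502
theorem D7712 : act 3 n3502 = n7712 := rfl
theorem F11992 : act 4 n7712 = n7712 := d5_2 D3502 D7712 (iv3 D7712) (iv4 D3502) F5163
theorem F11993 : act 6 n7712 = n5886 := d7_2 (iv6 F5499) D7712 (iv3 D5886)
theorem F11994 : act 7 n7712 = n7097 := d8_2 (iv7 F5500) D7712 (iv3 D7097)
def n7713 : Q := act 5 n3502
theorem D7713 : act 5 n3502 = n7713 := rfl
theorem F11995 : act 2 n7713 = n7129 := d2_1 D7713 (iv5 D7129) (iv2 F5498)
theorem F11996 : act 7 n7713 = n7098 := d13_2 (iv7 F5500) D7713 (iv5 D7098)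
def n7715 : Q := act 6 n3503
theorem D7715 : act 6 n3503 = n7715 := rfl
theorem F12000 : act 2 n7715 = n7715 := d3_1 D7715 (iv6 D7715) F5502
theorem F12001 : act 3 n7715 = n3505 := d7_1 D7715 (iv6 D3505) D3503
theorem F12002 : act 5 n7715 = n5855 := d12_1 D7715 (iv6 D5855) (iv5 D2456) D2457 (iv5 F5503)
theorem F12003 : act 7 n7715 = n5855 := d14_2 (iv7 F5504) D7715 (iv6 D5855) (iv7 F3914) D3260
theorem F12004 : act 0 n7715 = n7399 := d21_10 (iv5 D7399) (iv1 F5396) F5394 F5395 (iv1 F4659) D6625 F10739 (iv1 D5857) (iv5 F5503) D7715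
theorem F12005 : act 0 n7399 = n5855 := d21_1 D7399 (iv5 F12002) (iv6 D7715) F10198 F4307 (iv5 F2654) F2653 F2192 D1496 D3391
theorem F12006 : act 1 n7715 = n7404 := d15_0 (iv0 F11700) (iv7 F12003) F12000
theorem F12007 : act 0 n5890 = n7405 := d21_4 (iv5 F10191) (iv1 F10299) (iv5 D5889) D5890 (iv6 D7405) D7404 (iv1 F12006) F12002 (iv6 D5855) (iv1 F5161)
def n7717 : Q := act 5 n3504
theorem D7717 : act 5 n3504 = n7717 := rfl
theorem F12009 : act 2 n7717 = n7098 := d2_1 D7717 (iv5 D7098) (iv2 F5505)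
theorem F12010 : act 7 n7717 = n7129 := d13_2 (iv7 F5506) D7717 (iv5 D7129)
def n7718 : Q := act 6 n3504
theorem D7718 : act 6 n3504 = n7718 := rfl
theorem F12011 : act 2 n7718 = n7089 := d3_1 D7718 F11338 (iv2 F5505)
theorem F12012 : act 4 n7718 = n3505 := d10_1 D7718 (iv6 D3505) D3504
theorem F12013 : act 7 n7718 = n5875 := d14_2 (iv7 F5506) D7718 (iv6 D5875) (iv7 F3932) D3277
theorem F12014 : act 1 n7087 = n7718 := d15_1 D7087 F12013 F9077
theorem F12015 : act 1 n7718 = n7086 := d15_0 (iv0 D7086) D7089 (iv2 F12011)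
def n7719 : Q := act 3 n3506
theorem D7719 : act 3 n3506 = n7719 := rfl
def n7720 : Q := act 5 n3506
theorem D7720 : act 5 n3506 = n7720 := rfl
def n7721 : Q := act 3 n3507
theorem D7721 : act 3 n3507 = n7721 := rfl
def n7722 : Q := act 5 n3507
theorem D7722 : act 5 n3507 = n7722 := rfl
def n7723 : Q := act 6 n3507
theorem D7723 : act 6 n3507 = n7723 := rfl
theorem F12016 : act 4 n7723 = n5363 := d10_1 D7723 (iv6 D5363) (iv4 F5516)
theorem F12017 : act 1 n7095 = n7723 := d18_6 (iv1 D2882) (iv4 F2622) (iv1 F11597) (iv4 D3406) F5032 D7095 F12016 (iv0 F8170) F5632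
def n7724 : Q := act 0 n3508
theorem D7724 : act 0 n3508 = n7724 := rfl
def n7725 : Q := act 1 n3508
theorem D7725 : act 1 n3508 = n7725 := rfl
def n7726 : Q := act 2 n3508
theorem D7726 : act 2 n3508 = n7726 := rfl
theorem F12018 : act 6 n7726 = n3514 := d3_2 (iv6 F5517) D7726 (iv2 D3514)
def n7727 : Q := act 5 n3508
theorem D7727 : act 5 n3508 = n7727 := rfl
theorem F12019 : act 3 n7727 = n3509 := d6_1 D7727 (iv5 D3509) D3508
def n7728 : Q := act 7 n3508
theorem D7728 : act 7 n3508 = n7728 := rfl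
theorem F12020 : act 3 n7728 = n3510 := d8_1 D7728 (iv7 D3510) D3508
def n7729 : Q := act 0 n3509
theorem D7729 : act 0 n3509 = n7729 := rfl
theorem F12021 : act 5 n7729 = n5358 := d17_3 (iv1 D3507) D3509 D7729 (iv4 D5358) (iv5 D2199) (iv0 D1076) D1078 D2207 (iv4 F5516)
def n7730 : Q := act 1 n3509
theorem D7730 : act 1 n3509 = n7730 := rfl
theorem F12022 : act 5 n7730 = n5360 := d17_7 F4719 (iv5 D1544) (iv1 D836) D837 D1548 D3509 D7730 (iv0 F10908) (iv4 D6696)
theorem F12023 : act 6 n6026 = n5360 := d21_5 (iv5 F2625) (iv1 F2627) (iv5 F2160) D2538 D6026 (iv5 F12022) (iv1 D7730) (iv5 D3509) F2689 (iv1 F1616)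
theorem F12024 : act 2 n6502 = n6026 := d3_3 F12023 F8160 (iv6 F10567)
theorem F12025 : act 4 n3568 = n6026 := d10_3 F12023 (iv4 D5360) (iv6 F5595)
theorem F12026 : act 7 n6026 = n6505 := d11_2 F7863 F12025 (iv4 D6505)
theorem F12027 : act 4 n3569 = n6027 := d20_0 (iv1 D6027) F4046 (iv3 F3814) D5791 (iv3 F8916) F12025 (iv1 F9363) F5310 (iv3 F4471) (iv1 F5597)
theorem F12028 : act 2 n6027 = n6505 := d1_1 F12027 (iv4 D6505) F7865
theorem F12029 : act 7 n6027 = n6502 := d11_2 (iv7 F7864) F12027 (iv4 D6502)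
def n7731 : Q := act 4 n3509
theorem D7731 : act 4 n3509 = n7731 := rfl
theorem F12030 : act 5 n7731 = n6937 := d16_3 D1548 D3509 D7731 F11209 F4847 F2535 (iv5 F4057) (iv7 D2552) F2183
theorem F12031 : act 7 n6936 = n7731 := d13_0 F12030 (iv7 D6937) D6936
def n7732 : Q := act 6 n3509
theorem D7732 : act 6 n3509 = n7732 := rfl
theorem F12032 : act 5 n7732 = n3517 := d12_1 D7732 (iv6 D3517) (iv5 D1551) (iv6 F2689) D3509
def n7733 : Q := act 7 n3509
theorem D7733 : act 7 n3509 = n7733 := rfl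
theorem F12033 : act 4 n7733 = n6936 := d11_1 D7733 F12031 (iv4 D7731)
theorem F12034 : act 5 n7733 = n3510 := d13_1 D7733 (iv7 D3510) D3509
def n7734 : Q := act 6 n3510
theorem D7734 : act 6 n3510 = n7734 := rfl
theorem F12035 : act 2 n7734 = n7233 := d3_1 D7734 F11556 F9404
theorem F12036 : act 4 n7734 = n3511 := d10_1 D7734 (iv6 D3511) (iv4 F5518)
theorem F12037 : act 7 n7734 = n3518 := d14_2 D3510 D7734 (iv6 D3518) (iv7 D1552) (iv6 F2689)
theorem F12038 : act 1 n7231 = n7734 := d15_1 D7231 F12037 F5527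
theorem F12039 : act 4 n3589 = n7231 := d18_5 (iv1 F9126) D7146 F11554 F5299 F5626 F12038 F12036 (iv0 F5523) (iv5 F9124)
theorem F12040 : act 6 n7231 = n6578 := d10_2 F8307 F12039 F10645
theorem F12041 : act 1 n7734 = n7230 := d15_0 (iv0 D7230) D7233 (iv2 F12035)
def n7735 : Q := act 0 n3512
theorem D7735 : act 0 n3512 = n7735 := rfl
theorem F12042 : act 2 n3516 = n7735 := d15_3 (iv0 D7735) (iv0 D3512) D3516
theorem F12043 : act 3 n7735 = n7228 := d0_2 (iv3 F5525) F12042 (iv2 D7228) (iv3 D3327) (iv2 F2692)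
theorem F12044 : act 4 n7735 = n7238 := d1_2 (iv4 F5526) F12042 (iv2 D7238)
theorem F12045 : act 7 n7735 = n3514 := d4_2 D3516 F12042 (iv2 D3514)
theorem F12046 : act 1 n3513 = n7735 := d15_1 D3513 F12045 (iv2 D3514)
def n7736 : Q := act 2 n3512
theorem D7736 : act 2 n3512 = n7736 := rfl
theorem F12047 : act 7 n3513 = n7736 := d15_2 (iv0 D3512) D3513 (iv2 D7736)
def n7737 : Q := act 3 n3512
theorem D7737 : act 3 n3512 = n7737 := rfl
def n7738 : Q := act 4 n3512
theorem D7738 : act 4 n3512 = n7738 := rfl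
def n7739 : Q := act 5 n3512
theorem D7739 : act 5 n3512 = n7739 := rfl
def n7740 : Q := act 6 n3512
theorem D7740 : act 6 n3512 = n7740 := rfl
def n7741 : Q := act 7 n3512
theorem D7741 : act 7 n3512 = n7741 := rfl
theorem F12048 : act 2 n7741 = n3513 := d4_1 D7741 F12047 (iv2 D7736)
def n7742 : Q := act 3 n3513
theorem D7742 : act 3 n3513 = n7742 := rfl
def n7743 : Q := act 4 n3513
theorem D7743 : act 4 n3513 = n7743 := rfl
def n7744 : Q := act 5 n3513
theorem D7744 : act 5 n3513 = n7744 := rfl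
def n7745 : Q := act 6 n3513
theorem D7745 : act 6 n3513 = n7745 := rfl
def n7746 : Q := act 0 n3514
theorem D7746 : act 0 n3514 = n7746 := rfl
theorem F12049 : act 1 n3516 = n7746 := d15_0 (iv0 D7746) (iv7 F12045) (iv2 F12042)
theorem F12050 : act 4 n7737 = n7746 := d20_6 (iv4 D809) F1023 D839 D1550 D3512 D7737 (iv1 F12049) F5526 (iv3 D3331) (iv1 F2586)
def n7747 : Q := act 1 n3514
theorem D7747 : act 1 n3514 = n7747 := rfl
theorem F12051 : act 1 n7747 = n3516 := d15_1 D7747 (iv7 D3516) D3514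
theorem F12052 : act 3 n7747 = n7743 := d20_5 (iv4 D1168) (iv1 F1584) (iv4 F2693) (iv3 F5525) (iv1 F12051) (iv4 D7743) (iv1 D3513) (iv4 F5440) (iv3 D3466) F2667
def n7748 : Q := act 5 n3514
theorem D7748 : act 5 n3514 = n7748 := rfl
theorem F12053 : act 2 n7748 = n3515 := d2_1 D7748 (iv5 D3515) D3514
def n7749 : Q := act 0 n3515
theorem D7749 : act 0 n3515 = n7749 := rfl
def n7750 : Q := act 1 n3515
theorem D7750 : act 1 n3515 = n7750 := rfl
def n7751 : Q := act 4 n3515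
theorem D7751 : act 4 n3515 = n7751 := rfl
def n7752 : Q := act 6 n3515
theorem D7752 : act 6 n3515 = n7752 := rfl
theorem F12054 : act 3 n7752 = n3517 := d7_1 D7752 (iv6 D3517) (iv3 F5524)
def n7753 : Q := act 6 n3516
theorem D7753 : act 6 n3516 = n7753 := rfl
theorem F12055 : act 3 n7753 = n3518 := d7_1 D7753 (iv6 D3518) (iv3 F5525)
theorem F12056 : act 4 n7753 = n7240 := d10_1 D7753 (iv6 D7240) (iv4 F5526)
def n7754 : Q := act 0 n3517
theorem D7754 : act 0 n3517 = n7754 := rfl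
def n7755 : Q := act 1 n3517
theorem D7755 : act 1 n3517 = n7755 := rfl
def n7756 : Q := act 7 n3517
theorem D7756 : act 7 n3517 = n7756 := rfl
def n7757 : Q := act 0 n3518
theorem D7757 : act 0 n3518 = n7757 := rfl
theorem F12057 : act 1 n7233 = n7757 := d15_0 (iv0 D7757) (iv7 F12037) F12035
def n7758 : Q := act 1 n3518
theorem D7758 : act 1 n3518 = n7758 := rfl
theorem F12058 : act 1 n7758 = n7233 := d15_1 D7758 (iv7 D7233) (iv2 F5527)
def n7759 : Q := act 5 n3518
theorem D7759 : act 5 n3518 = n7759 := rfl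
theorem F12059 : act 2 n7759 = n7232 := d2_1 D7759 (iv5 D7232) (iv2 F5527)
def n7760 : Q := act 4 n3519
theorem D7760 : act 4 n3519 = n7760 := rfl
theorem F12060 : act 2 n7760 = n7235 := d1_1 D7760 (iv4 D7235) F5536
theorem F12061 : act 7 n7760 = n7147 := d11_2 (iv7 F5535) D7760 (iv4 D7147)
def n7761 : Q := act 4 n3520
theorem D7761 : act 4 n3520 = n7761 := rfl
theorem F12062 : act 2 n7761 = n7147 := d1_1 D7761 (iv4 D7147) (iv2 F5533)
theorem F12063 : act 6 n7761 = n6677 := d10_2 F5531 D7761 (iv4 D6677)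
theorem F12064 : act 7 n7761 = n7235 := d11_2 F5534 D7761 (iv4 D7235)
def n7762 : Q := act 5 n3521
theorem D7762 : act 5 n3521 = n7762 := rfl
theorem F12065 : act 2 n7762 = n5779 := d2_1 D7762 (iv5 D5779) (iv2 F5539)
theorem F12066 : act 7 n7762 = n5776 := d13_2 (iv7 F5540) D7762 (iv5 D5776)
theorem F12067 : act 1 n7762 = n6036 := d17_6 F3463 F2748 F2636 D1556 D3521 D7762 (iv5 D6036) (iv0 F7681) (iv4 D5164)
def n7763 : Q := act 6 n3521
theorem D7763 : act 6 n3521 = n7763 := rfl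
theorem F12068 : act 2 n7763 = n5780 := d3_1 D7763 (iv6 D5780) (iv2 F5539)
theorem F12069 : act 4 n7763 = n3522 := d10_1 D7763 (iv6 D3522) D3521
def n7764 : Q := act 0 n3522
theorem D7764 : act 0 n3522 = n7764 := rfl
def n7765 : Q := act 1 n3522
theorem D7765 : act 1 n3522 = n7765 := rfl
def n7766 : Q := act 7 n3522
theorem D7766 : act 7 n3522 = n7766 := rfl
theorem F12070 : act 3 n7766 = n3525 := d8_1 D7766 (iv7 D3525) (iv3 F5543)
theorem F12071 : act 5 n7766 = n7766 := d13_1 D7766 (iv7 D7766) F5544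
theorem F12072 : act 6 n7766 = n6390 := d14_1 D7766 (iv7 D6390) F4362 (iv7 F2709) D3522
def n7767 : Q := act 2 n3523
theorem D7767 : act 2 n3523 = n7767 := rfl
theorem F12073 : act 7 n3524 = n7767 := d15_2 (iv0 D3523) D3524 (iv2 D7767)
theorem F12074 : act 4 n7767 = n7430 := d11_1 F12073 (iv7 F11712) F11585
theorem E1588 : n7432 = n3523 := (c1_3 F12074 (iv2 D7430) D7432 D7767)
theorem F12075 : act 3 n3523 = n6465 := (sb E1588 (iv3 F11713))
theorem F12076 : act 4 n3523 = n3400 := (sb E1588 (iv4 D7432))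
theorem F12077 : act 4 n7434 = n6086 := d10_3 F9459 F12076 D7434
theorem F12078 : act 0 n7452 = n7763 := d20_7 F12076 (iv1 F9287) F9283 F4006 (iv1 F4010) D3408 D7452 F12069 F5543 D3523
theorem F12080 : act 0 n7165 = n7434 := d18_2 F5334 D7165 F12077 (iv5 D6086) (iv4 F10673) F9211 F9208 F3972 D3349
def n7768 : Q := act 5 n3523
theorem D7768 : act 5 n3523 = n7768 := rfl
theorem F12081 : act 4 n7768 = n7087 := d18_5 (iv1 D1501) (iv4 F2616) D3400 (iv4 F12076) D7768 F12014 F12012 (iv0 F5513) F5029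
theorem F12082 : act 0 n7768 = n5106 := d21_1 D7768 (iv5 F8168) (iv6 D5363) (iv1 D2207) F1998 (iv5 D832) F1111 D842 D1557 D3523
theorem F12083 : act 5 n7439 = n7087 := d17_3 (iv1 D3401) D3402 D7439 (iv4 F12081) (iv5 D7768) (iv0 D3523) F2712 D3524 (iv4 F11585)
theorem F12084 : act 0 n5331 = n7768 := d21_10 (iv5 D7768) (iv1 F5549) F4480 F4481 (iv1 F4392) (iv6 F8155) (iv5 F8153) F3702 F3541 D5331
theorem F12085 : act 0 n6086 = n6507 := d21_10 F10573 (iv1 F10522) (iv5 D6140) (iv6 F8034) (iv1 D2848) D2850 (iv5 F8098) F12084 (iv5 D7768) (iv6 F9459)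
def n7769 : Q := act 7 n3523
theorem D7769 : act 7 n3523 = n7769 := rfl
theorem F12087 : act 4 n7769 = n7435 := d11_1 D7769 (iv7 D7435) (iv4 F12076)
def n7770 : Q := act 3 n3524
theorem D7770 : act 3 n3524 = n7770 := rfl
def n7771 : Q := act 6 n3524
theorem D7771 : act 6 n3524 = n7771 := rfl
theorem F12088 : act 4 n7771 = n7438 := d10_1 D7771 (iv6 D7438) F11585
theorem F12089 : act 5 n7771 = n6449 := d12_1 D7771 (iv6 F10515) (iv5 D6081) D6082 F9455
theorem F12090 : act 0 n7771 = n6450 := d21_10 F10516 (iv1 F9430) F5627 F5628 (iv1 F3567) D5363 F8168 F9456 F9455 D7771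
theorem F12091 : act 0 n5114 = n7771 := d21_4 (iv5 D2369) D2367 F3711 D5114 (iv6 D7771) (iv5 F9455) (iv1 F9457) F8098 (iv6 D2850) F3713
def n7772 : Q := act 2 n3526
theorem D7772 : act 2 n3526 = n7772 := rfl
theorem F12092 : act 7 n3527 = n7772 := d15_2 (iv0 D3526) D3527 (iv2 D7772)
theorem F12093 : act 4 n7772 = n4357 := d11_1 F12092 (iv7 D4357) F5552
def n7773 : Q := act 4 n3526
theorem D7773 : act 4 n3526 = n7773 := rfl
theorem F12094 : act 2 n7773 = n4357 := d1_1 D7773 (iv4 F12093) (iv2 D7772)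
theorem F12095 : act 3 n4374 = n7773 := d0_0 F12094 F6275 F3126 D1842 D4374
theorem F12096 : act 7 n4354 = n7773 := d4_0 F12094 (iv7 D4357) D4354
theorem F12097 : act 1 n7773 = n4352 := d15_0 (iv0 D4352) D4357 (iv2 F12094)
theorem F12098 : act 1 n4353 = n7773 := d15_1 D4353 (iv7 F12096) (iv2 D4354)
theorem F12099 : act 4 n3696 = n4374 := d5_0 F12095 (iv4 D7773) F5707 (iv4 D3697) D3696
theorem F12100 : act 0 n4108 = n3696 := d20_1 D4108 F12099 F12095 (iv1 F12098) (iv3 F6311) F6310 (iv1 D3549) F2718 F1754 F6289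
theorem F12101 : act 0 n4374 = n3545 := d20_10 (iv4 D3545) (iv1 D1563) F1593 (iv3 D617) (iv1 F947) D919 (iv4 F2713) D3526 D7773 (iv3 F12095)
theorem F12102 : act 0 n3544 = n3692 := d20_10 (iv4 D3692) (iv1 F4096) F4094 (iv3 F4093) (iv1 F4098) D3696 F12099 F12101 (iv4 D3545) D3544
theorem F12103 : act 5 n3696 = n4763 := d17_1 F12100 (iv1 D4763) (iv5 D1971) (iv4 D1002) D1003 (iv0 F6908) F3039 F6288 D4108
theorem F12104 : act 1 n4123 = n3696 := d15_0 (iv0 F12100) F6028 (iv2 F6045)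
theorem F12105 : act 3 n4763 = n3698 := d6_1 F12103 (iv5 D3698) D3696
theorem F12106 : act 2 n4118 = n3696 := d1_3 F12099 (iv2 D4374) (iv4 F6038)
theorem F12107 : act 0 n3540 = n4374 := d20_1 D3540 (iv4 F12099) (iv3 D3696) (iv1 D1622) (iv3 D871) (iv4 D547) (iv1 F1025) D507 D845 D1562
theorem E1589 : n4225 = n1842 := (c15_3 (iv0 F12107) (iv0 F6152) (iv7 F6134) D4374)
theorem E1590 : n1801 = n963 := ((((iv3 D1842)).symm.trans (sb E1589 (iv3 D4225)))).symm
theorem E1591 : n4348 = n1807 := (((iv7 F6264)).symm.trans (sb E1589 F6134))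
theorem E1592 : n4223 = n628 := ((((iv1 D963)).symm.trans (sb E1590 D4223))).symm
theorem E1594 : n1841 = n946 := (((iv2 F3126)).symm.trans (sb E1590 (iv2 D1801)))
theorem E1595 : n4226 = n1843 := (((D1843).symm.trans (sb E1590 D4226))).symm
theorem E1596 : n4227 = n1844 := (((D1844).symm.trans (sb E1590 D4227))).symm
theorem E1597 : n4228 = n1845 := (((D1845).symm.trans (sb E1590 D4228))).symm
theorem E1598 : n1836 = n947 := ((F3125).symm.trans (sb E1590 (iv7 F3068)))
theorem F12108 : act 7 n1807 = n1842 := (sb E1591 F6264)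
theorem E1599 : n1806 = n962 := (((D962).symm.trans (sb E1592 (iv1 F6132)))).symm
theorem F12109 : act 2 n946 = n963 := (sb E1594 F3126)
theorem E1602 : n4357 = n1802 := (((D1802).symm.trans (sb E1594 (iv3 F6275)))).symm
theorem E1603 : n4361 = n1803 := (((D1803).symm.trans (sb E1594 (iv4 F6304)))).symm
theorem E1604 : n4366 = n1804 := (((D1804).symm.trans (sb E1594 (iv5 F6307)))).symm
theorem E1605 : n4371 = n1805 := (((D1805).symm.trans (sb E1594 D4371))).symm
theorem E1606 : n4010 = n1731 := ((((iv3 F3127)).symm.trans (sb E1595 (iv3 F6137)))).symm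
theorem E1607 : n4349 = n1808 := (((iv7 F6266)).symm.trans (sb E1595 F6136))
theorem E1608 : n4350 = n1809 := (((iv7 F6271)).symm.trans (sb E1596 F6139))
theorem E1609 : n4384 = n1853 := ((D4384).symm.trans (sb E1597 F7075))
theorem F12110 : act 7 n947 = n963 := (sb E1598 (iv7 F3125))
theorem F12111 : act 2 n962 = n947 := (sb E1599 F3069)
theorem E1611 : n4234 = n1837 := (((D1837).symm.trans (sb E1599 (iv3 F6144)))).symm
theorem E1612 : n4239 = n1838 := (((D1838).symm.trans (sb E1599 (iv4 F6150)))).symm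
theorem E1613 : n4244 = n1839 := (((D1839).symm.trans (sb E1599 (iv5 F6155)))).symm
theorem E1614 : n4249 = n1840 := (((D1840).symm.trans (sb E1599 D4249))).symm
theorem F12112 : act 7 n962 = n946 := (sb E1599 (iv7 D1806))
theorem E1615 : n7773 = n4231 := (((D4231).symm.trans (sb E1602 (iv2 F12094)))).symm
theorem E1616 : n7772 = n3950 := (((F5901).symm.trans (sb E1602 (iv4 F12093)))).symm
theorem F12113 : act 2 n1803 = n1843 := (sb E1603 F6303)
theorem F12114 : act 2 n1804 = n1844 := (sb E1604 F6306)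
theorem F12115 : act 2 n1805 = n1845 := (sb E1605 F6309)
theorem E1617 : n4388 = n4248 := (((D4248).symm.trans (sb E1605 (iv7 F7288)))).symm
theorem E1618 : n3992 = n1740 := ((D3992).symm.trans (sb E1606 F5946))
theorem E1619 : n4615 = n1941 := ((((iv5 F7292)).symm.trans (sb E1606 F6928))).symm
theorem E1620 : n3996 = n1739 := ((D3996).symm.trans (sb E1606 (iv7 D4010)))
theorem F12116 : act 7 n1808 = n1843 := (sb E1607 F6266)
theorem F12117 : act 7 n1809 = n1844 := (sb E1608 F6271)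
theorem F12118 : act 7 n1853 = n1845 := (sb E1609 (iv7 D4384))
theorem F12119 : act 7 n1837 = n1802 := (sb E1611 (iv7 D4234))
theorem F12120 : act 2 n1838 = n1808 := (sb E1612 F6149)
theorem F12121 : act 7 n1838 = n1803 := (sb E1612 (iv7 D4239))
theorem F12122 : act 2 n1839 = n1809 := (sb E1613 F6154)
theorem F12123 : act 7 n1839 = n1804 := (sb E1613 (iv7 D4244))
theorem F12124 : act 2 n1840 = n1810 := (sb E1614 F6157)
theorem F12125 : act 0 n4231 = n4353 := (sb E1615 (iv1 F12098))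
theorem F12126 : act 1 n4231 = n4352 := (sb E1615 F12097)
theorem F12127 : act 3 n4231 = n4374 := (sb E1615 (iv3 F12095))
theorem F12128 : act 4 n4231 = n3526 := (sb E1615 (iv4 D7773))
theorem F12129 : act 7 n4231 = n4354 := (sb E1615 (iv7 F12096))
theorem F12130 : act 2 n3950 = n3526 := (sb E1616 (iv2 D7772))
theorem F12131 : act 7 n3950 = n3527 := (sb E1616 (iv7 F12092))
theorem F12132 : act 0 n4248 = n1847 := (sb E1617 (iv1 D4388))
theorem F12134 : act 6 n4248 = n4370 := (sb E1617 (iv6 F7290))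
theorem F12135 : act 2 n1740 = n1731 := (sb E1618 (iv2 D3992))
theorem E1621 : n4678 = n1919 := ((((iv5 F6930)).symm.trans (sb E1618 F7296))).symm
theorem E1622 : n4006 = n1732 := ((F5945).symm.trans (sb E1618 (iv7 F5937)))
theorem E1623 : n4683 = n1918 := ((D4683).symm.trans (sb E1619 (iv7 D4615)))
theorem F12136 : act 7 n1739 = n1731 := (sb E1620 (iv7 D3996))
theorem F12137 : act 2 n1919 = n1941 := (sb E1621 (iv2 D4678))
theorem E1624 : n4610 = n1942 := ((F6678).symm.trans (sb E1621 (iv7 F6781)))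
theorem F12138 : act 2 n1732 = n1739 := (sb E1622 (iv2 D4006))
theorem F12139 : act 7 n1732 = n1740 := (sb E1622 (iv7 F5945))
theorem F12140 : act 7 n1918 = n1941 := (sb E1623 (iv7 D4683))
theorem F12141 : act 2 n1942 = n1918 := (sb E1624 (iv2 D4610))
theorem F12142 : act 7 n1942 = n1919 := (sb E1624 (iv7 F6678))
theorem F12143 : act 7 n4616 = n4684 := d8_2 F12142 D4616 (iv3 D4684)
theorem F12144 : act 7 n4617 = n4685 := d11_2 F12142 D4617 (iv4 D4685)
theorem F12145 : act 7 n3997 = n4011 := d13_2 F12143 (iv5 F7301) F6931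
theorem F12146 : act 7 n4236 = n4112 := d4_2 F12145 (iv2 F6146) F6269
theorem F12147 : act 1 n4113 = n3997 := d15_1 (iv0 F6301) F12145 (iv2 F6146)
theorem F12148 : act 1 n3997 = n4117 := d15_1 F12147 (iv7 D4117) D4113
theorem E1625 : n4111 = n4011 := ((c15_4 (iv0 D4111) D4112 (iv7 F12146) F6146)).symm
theorem F12149 : act 1 n4011 = n1770 := (sb E1625 (iv0 D4111))
theorem F12150 : act 1 n4740 = n4616 := d17_6 F6032 (iv5 F5742) (iv1 F7184) (iv5 D3955) (iv4 F6530) D4740 (iv5 F6931) F12149 D4114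
theorem F12151 : act 1 n4616 = n4163 := d15_1 F12150 F7138 (iv2 F6846)
theorem F12152 : act 2 n4612 = n4685 := d1_3 (iv4 D4685) F12141 D4612
theorem F12153 : act 2 n4614 = n4687 := d3_3 (iv6 D4687) F12141 D4614
theorem F12154 : act 7 n4377 = n4255 := d8_2 F12140 (iv3 F7294) F6925
theorem F12155 : act 7 n4680 = n4612 := d11_2 F12140 D4680 (iv4 D4612)
theorem F12156 : act 2 n4617 = n4680 := d4_3 F12155 F12152 (iv7 F12144)
theorem F12157 : act 7 n4539 = n4487 := d11_2 F12154 F6926 (iv4 F7295)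
theorem F12158 : act 2 n4377 = n4237 := d15_3 F6914 (iv0 F7307) (iv7 F12154)
theorem F12159 : act 2 n4538 = n4487 := d1_3 (iv4 F7295) F12158 F6916
theorem F12160 : act 7 n4359 = n4237 := d15_2 F7293 F7306 (iv2 F12158)
theorem F12161 : act 2 n4255 = n4359 := d4_3 F12160 (iv2 F12158) F12154
theorem F12162 : act 7 n4538 = n4486 := d11_2 F12160 F6916 F7304
theorem F12163 : act 2 n4486 = n4539 := d4_1 F12162 F12157 (iv2 F12159)
theorem F12164 : act 1 n4168 = n4377 := d15_1 F7305 F12154 F12161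
theorem F12165 : act 7 n4012 = n3691 := d11_2 F12139 D4012 F5705
theorem E1626 : n3695 = n2568 := (c8_3 F12165 (iv3 D3691) D3695 (iv3 F5947))
theorem E1627 : n6091 = n1622 := ((D6091).symm.trans (sb E1626 F5706))
theorem E1628 : n6095 = n1621 := ((D6095).symm.trans (sb E1626 (iv7 D3695)))
theorem F12166 : act 2 n1622 = n2568 := (sb E1627 (iv2 D6091))
theorem E1629 : n3690 = n2569 := ((F5704).symm.trans (sb E1627 (iv7 F9469)))
theorem F12167 : act 7 n1621 = n2568 := (sb E1628 (iv7 D6095))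
theorem F12168 : act 2 n2569 = n1621 := (sb E1629 (iv2 D3690))
theorem F12169 : act 7 n2569 = n1622 := (sb E1629 (iv7 F5704))
theorem F12170 : act 7 n3696 = n6096 := d8_2 F12169 D3696 (iv3 D6096)
theorem F12171 : act 7 n3697 = n6097 := d11_2 F12169 D3697 (iv4 D6097)
theorem F12172 : act 7 n3698 = n6098 := d13_2 F12169 D3698 (iv5 D6098)
theorem F12173 : act 7 n3949 = n3526 := d8_2 F12171 F9471 F5707
theorem F12174 : act 2 n3527 = n3949 := d4_3 F12173 (iv2 F12130) F12131
theorem F12175 : act 4 n4354 = n3949 := d11_3 F12173 (iv4 F12128) F12129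
theorem F12176 : act 7 n4671 = n3785 := d13_2 F12173 F7298 (iv5 F6929)
theorem F12177 : act 2 n3785 = n4672 := d15_3 F6773 F6772 F12176
theorem F12178 : act 2 n4671 = n3786 := d15_3 F6739 F6740 (iv7 F12176)
theorem F12179 : act 7 n3786 = n4672 := d4_2 (iv7 F12176) F12178 (iv2 F12177)
theorem F12180 : act 2 n6096 = n4252 := d15_3 (iv0 F6297) F12104 F12170
theorem F12181 : act 7 n4118 = n4252 := d4_2 (iv7 F12170) (iv2 F12106) (iv2 F12180)
theorem E1630 : n6096 = n4119 := ((c15_2 (iv0 D4118) D4119 (iv7 F12170) (iv2 F12106))).symm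
theorem F12182 : act 2 n4119 = n4252 := (sb E1630 F12180)
theorem F12183 : act 3 n4119 = n2569 := (sb E1630 (iv3 D6096))
theorem F12184 : act 7 n4119 = n3696 := (sb E1630 (iv7 F12170))
theorem F12185 : act 2 n3691 = n4007 := d0_3 F12183 F12168 D3691 (iv3 F6158) (iv2 F12182)
theorem F12186 : act 4 n4251 = n4119 := d1_0 F12182 (iv4 D4252) D4251
theorem F12187 : act 3 n4354 = n4251 := d5_5 F12186 F12183 D6097 F9471 (iv4 F12175)
theorem F12188 : act 7 n4374 = n4251 := d11_0 F12186 F12184 F12099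
theorem F12189 : act 0 n4372 = n4251 := d20_1 (iv4 F6310) F12186 F12183 (iv1 D2569) (iv3 D1201) (iv4 D719) (iv1 F1100) (iv4 F1595) (iv3 F2721) (iv1 F5572)
theorem F12190 : act 0 n4354 = n4230 := d20_4 D1776 (iv1 F6042) (iv4 F12186) (iv3 F12187) (iv3 F6141) (iv4 D3540) D3537 F5565 F3027 (iv1 F3029)
theorem E1631 : n4250 = n3545 := (c15_1 D4250 (iv0 F12101) F12188 (iv2 D4251))
theorem F12191 : act 0 n3545 = n1807 := (sb E1631 (iv1 D4250))
theorem F12192 : act 1 n4373 = n4251 := d15_1 D4373 (iv7 F12188) (iv2 D4374)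
theorem E1632 : n4373 = n3975 := (c20_11 F5926 (iv1 F5571) F2722 F1757 (iv1 F1133) D924 (iv4 F2916) D3949 (iv4 F12175) F12187 (iv1 F12192))
theorem F12193 : act 0 n3975 = n1842 := (sb E1632 (iv1 D4373))
theorem F12194 : act 1 n3975 = n4251 := (sb E1632 F12192)
theorem F12195 : act 0 n4375 = n3831 := d17_2 F12193 D4375 (iv5 D3831) (iv4 D1670) D1671 (iv0 F6938) F5577 F5571 (iv4 F5926)
theorem F12196 : act 1 n4397 = n4074 := d18_8 F12193 (iv4 F6038) F6040 (iv4 D1776) F7108 D2019 F7094 F7089 (iv5 F7007)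
theorem F12197 : act 0 n4121 = n4755 := d17_2 (iv1 D4119) D4121 (iv5 D4755) F3286 (iv5 F7060) F12196 (iv5 F7007) F12194 F12186
theorem F12198 : act 1 n4375 = n3849 := d15_1 (iv0 F12195) F6460 F6459
theorem F12199 : act 7 n4007 = n3993 := d8_2 F12181 F6158 F6039
theorem F12200 : act 2 n3993 = n4012 := d4_1 F12199 F12165 F12185
theorem F12201 : act 2 n3692 = n6097 := d1_3 (iv4 D6097) F12168 D3692
theorem F12202 : act 2 n3693 = n6098 := d2_3 (iv5 D6098) F12168 D3693
theorem F12204 : act 1 n3544 = n3697 := d15_1 (iv0 F12102) F12171 (iv2 F12201)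
theorem F12205 : act 7 n6092 = n3692 := d11_2 F12167 D6092 (iv4 D3692)
theorem F12206 : act 7 n6093 = n3693 := d13_2 F12167 D6093 (iv5 D3693)
theorem F12207 : act 2 n3698 = n6093 := d4_3 F12206 F12202 (iv7 F12172)
theorem F12208 : act 2 n3697 = n6092 := d4_3 F12205 F12201 (iv7 F12171)
theorem F12209 : act 2 n6094 = n3699 := d3_3 (iv6 D3699) F12166 D6094
theorem F12211 : act 2 n4682 = n4619 := d3_3 (iv6 D4619) F12137 D4682
theorem F12212 : act 2 n3995 = n4014 := d3_3 (iv6 D4014) F12135 D3995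
theorem F12213 : act 7 n5064 = n3995 := d15_2 (iv0 F7085) F7505 F12212
theorem F12214 : act 7 n4017 = n4014 := d15_2 F7291 D4017 (iv2 F12212)
theorem F12216 : act 7 n4378 = n4416 := d8_2 F12213 (iv3 F6315) (iv3 F7504)
theorem F12217 : act 2 n4370 = n4262 := d3_1 F12134 F7077 (iv2 F7076)
theorem F12218 : act 1 n4262 = n4367 := d15_0 (iv0 D4367) D4370 F12217
theorem F12221 : act 2 n4261 = n4369 := d2_3 (iv5 D4369) F12124 D4261
theorem F12222 : act 1 n4260 = n4370 := d15_1 D4260 (iv7 D4370) F12124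
theorem F12223 : act 1 n4368 = n4262 := d15_1 D4368 (iv7 D4262) (iv2 F12124)
theorem F12224 : act 7 n4232 = n4355 := d8_2 F12123 (iv3 F6142) F6273
theorem F12225 : act 7 n4242 = n4364 := d11_2 F12123 D4242 (iv4 D4364)
theorem F12226 : act 2 n4242 = n4379 := d15_3 (iv0 F7308) (iv0 F7285) (iv7 F12225)
theorem F12227 : act 7 n4689 = n4621 := d11_2 F12224 F7284 (iv4 F6923)
theorem F12228 : act 2 n4621 = n4688 := d15_3 (iv0 D4688) D4689 F12227
theorem F12229 : act 2 n4689 = n4620 := d15_3 (iv0 D4620) D4621 (iv7 F12227)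
theorem F12230 : act 7 n4620 = n4688 := d4_2 (iv7 F12227) F12229 (iv2 F12228)
theorem F12231 : act 2 n4257 = n4364 := d1_3 (iv4 D4364) F12122 D4257
theorem F12232 : act 2 n4258 = n4365 := d3_3 (iv6 D4365) F12122 D4258
theorem F12233 : act 7 n4379 = n4257 := d4_0 F12231 (iv7 F12225) F12226
theorem F12234 : act 1 n4354 = n4229 := d15_0 (iv0 D4229) (iv7 F12119) D4354
theorem F12235 : act 7 n4376 = n4415 := d8_2 F12118 (iv3 F6313) (iv3 D4415)
theorem F12236 : act 7 n4383 = n4417 := d13_2 F12118 D4383 (iv5 D4417)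
theorem F12237 : act 7 n4375 = n4253 := d8_2 F12117 (iv3 F6312) F6163
theorem F12238 : act 2 n4378 = n4238 := d1_3 F6148 F12115 (iv4 F6316)
theorem F12239 : act 2 n4383 = n4247 := d2_3 (iv5 D4247) F12115 D4383
theorem F12240 : act 2 n4380 = n4243 := d3_3 (iv6 D4243) F12114 D4380
def n7774 : Q := act 6 n3526
theorem D7774 : act 6 n3526 = n7774 := rfl
theorem F12241 : act 0 n3933 = n7774 := d21_4 D4669 (iv1 F7268) F4230 (iv6 F5867) (iv6 D7774) F7298 (iv1 F6772) (iv5 D3784) F2837 (iv1 F3239)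
def n7775 : Q := act 3 n3527
theorem D7775 : act 3 n3527 = n7775 := rfl
theorem F12242 : act 4 n7775 = n4112 := d5_2 F5552 D7775 (iv3 F6034) (iv4 D1838) D1837
theorem F12243 : act 0 n3981 = n7775 := d20_1 D3981 F12242 (iv3 F6034) D4358 F6278 (iv4 F6281) F6117 (iv4 D4217) F3056 (iv1 F3060)
theorem E1633 : n4229 = n3980 := (c20_5 (iv4 F6292) F6290 (iv4 D1803) D1802 D4229 (iv3 D3980) D3981 F12243 F12242 (iv3 F6034) D4358)
theorem F12244 : act 0 n3980 = n4354 := (sb E1633 (iv1 F12234))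
theorem F12245 : act 1 n3980 = n1802 := (sb E1633 (iv0 D4229))
theorem F12246 : act 0 n7775 = n3976 := d20_7 (iv4 F6038) F6040 (iv4 D1776) D1775 F6041 F6034 (iv4 F12242) (iv4 D3976) D3975 F12193
def n7776 : Q := act 6 n3527
theorem D7776 : act 6 n3527 = n7776 := rfl
def n7777 : Q := act 6 n3528
theorem D7777 : act 6 n3528 = n7777 := rfl
theorem F12248 : act 2 n7777 = n3529 := d3_1 D7777 (iv6 D3529) D3528
theorem F12249 : act 4 n7777 = n4000 := d10_1 D7777 (iv6 D4000) (iv4 F5553)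
def n7778 : Q := act 0 n3529
theorem D7778 : act 0 n3529 = n7778 := rfl
def n7779 : Q := act 1 n3529
theorem D7779 : act 1 n3529 = n7779 := rfl
def n7780 : Q := act 5 n3529
theorem D7780 : act 5 n3529 = n7780 := rfl
theorem F12250 : act 3 n7780 = n3530 := d6_1 D7780 (iv5 D3530) (iv3 F5554)
def n7781 : Q := act 7 n3529
theorem D7781 : act 7 n3529 = n7781 := rfl
theorem F12251 : act 3 n7781 = n3531 := d8_1 D7781 (iv7 D3531) (iv3 F5554)
theorem F12252 : act 4 n7781 = n4004 := d11_1 D7781 (iv7 D4004) (iv4 F5555)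
theorem F12253 : act 6 n7781 = n5067 := d14_1 D7781 F7512 F5867 F2917 D3529
def n7782 : Q := act 4 n3530
theorem D7782 : act 4 n3530 = n7782 := rfl
def n7783 : Q := act 2 n3532
theorem D7783 : act 2 n3532 = n7783 := rfl
theorem F12254 : act 7 n3533 = n7783 := d15_2 (iv0 D3532) D3533 (iv2 D7783)
def n7784 : Q := act 4 n3532
theorem D7784 : act 4 n3532 = n7784 := rfl
def n7785 : Q := act 5 n3532
theorem D7785 : act 5 n3532 = n7785 := rfl
def n7786 : Q := act 6 n3532
theorem D7786 : act 6 n3532 = n7786 := rfl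
def n7787 : Q := act 7 n3532
theorem D7787 : act 7 n3532 = n7787 := rfl
theorem F12255 : act 2 n7787 = n3533 := d4_1 D7787 F12254 (iv2 D7783)
def n7788 : Q := act 3 n3533
theorem D7788 : act 3 n3533 = n7788 := rfl
def n7789 : Q := act 5 n3533
theorem D7789 : act 5 n3533 = n7789 := rfl
def n7790 : Q := act 6 n3533
theorem D7790 : act 6 n3533 = n7790 := rfl
def n7791 : Q := act 6 n3534
theorem D7791 : act 6 n3534 = n7791 := rfl
theorem F12256 : act 2 n7791 = n3535 := d3_1 D7791 (iv6 D3535) D3534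
theorem F12257 : act 4 n7791 = n7791 := d10_1 D7791 (iv6 D7791) F5561
def n7792 : Q := act 0 n3535
theorem D7792 : act 0 n3535 = n7792 := rfl
def n7793 : Q := act 1 n3535
theorem D7793 : act 1 n3535 = n7793 := rfl
def n7794 : Q := act 5 n3535
theorem D7794 : act 5 n3535 = n7794 := rfl
theorem F12258 : act 3 n7794 = n3536 := d6_1 D7794 (iv5 D3536) (iv3 F5562)
def n7795 : Q := act 4 n3536
theorem D7795 : act 4 n3536 = n7795 := rfl
def n7796 : Q := act 5 n3537
theorem D7796 : act 5 n3537 = n7796 := rfl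
theorem F12259 : act 2 n7796 = n3555 := d2_1 D7796 F5577 F5564
theorem F12260 : act 7 n7796 = n3550 := d13_2 (iv7 F5566) D7796 (iv5 D3550)
theorem F12261 : act 1 n7796 = n3551 := d17_6 F6537 (iv5 F7120) (iv1 F6018) (iv5 D4103) (iv4 F5565) D7796 F7218 F6433 F1659
theorem F12262 : act 1 n3552 = n7796 := d15_0 F12261 F7219 F7169
def n7797 : Q := act 6 n3537
theorem D7797 : act 6 n3537 = n7797 := rfl
theorem F12263 : act 2 n7797 = n3556 := d3_1 D7797 (iv6 D3556) F5564
theorem F12264 : act 4 n7797 = n4104 := d10_1 D7797 (iv6 D4104) (iv4 F5565)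
theorem F12265 : act 7 n7797 = n3815 := d14_2 (iv7 F5566) D7797 (iv6 D3815) F2855 (iv6 F2719)
theorem F12266 : act 0 n3890 = n7797 := d21_4 (iv5 F2864) (iv1 F5841) F6992 (iv6 F7002) (iv6 D7797) D7796 (iv1 F12262) (iv5 F7170) F7171 (iv1 F6428)
theorem F12267 : act 1 n3891 = n7797 := d15_1 D3891 F12265 F5807
def n7798 : Q := act 0 n3538
theorem D7798 : act 0 n3538 = n7798 := rfl
theorem F12268 : act 1 n3543 = n7798 := d15_0 (iv0 D7798) (iv7 F5568) (iv2 F5569)
def n7799 : Q := act 1 n3538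
theorem D7799 : act 1 n3538 = n7799 := rfl
def n7800 : Q := act 3 n3538
theorem D7800 : act 3 n3538 = n7800 := rfl
theorem F12270 : act 7 n7800 = n3544 := d8_2 F5568 D7800 (iv3 D3544)
def n7801 : Q := act 4 n3538
theorem D7801 : act 4 n3538 = n7801 := rfl
theorem F12271 : act 2 n7801 = n3540 := d1_1 D7801 (iv4 D3540) D3538
theorem F12272 : act 7 n7801 = n3545 := d11_2 F5568 D7801 (iv4 D3545)
theorem F12273 : act 3 n4212 = n7801 := d8_3 F12272 (iv3 F5570) D4212
theorem F12274 : act 2 n4230 = n4213 := d0_3 F12273 F12271 F6141 (iv3 D4213) (iv2 F6112)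
theorem F12275 : act 7 n3980 = n4213 := d15_2 (iv0 F12190) (iv0 F12244) (iv2 F12274)
theorem E1634 : n4208 = n1724 := (c8_3 F12275 (iv3 D4213) F6111 D3980)
theorem E1635 : n3979 = n1795 := (((iv2 F5927)).symm.trans (sb E1634 (iv2 D4208)))
theorem E1636 : n4993 = n1760 := ((((iv5 F7023)).symm.trans (sb E1634 (iv5 F7417)))).symm
theorem E1637 : n3974 = n1796 := ((F5925).symm.trans (sb E1634 (iv7 F6111)))
theorem F12276 : act 2 n1795 = n1724 := (sb E1635 F5927)
theorem E1638 : n4078 = n2053 := ((((iv5 F7323)).symm.trans (sb E1635 F7010))).symm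
theorem E1639 : n4212 = n1723 := ((D4212).symm.trans (sb E1635 (iv7 D3979)))
theorem E1640 : n4073 = n2054 := ((F6004).symm.trans (sb E1636 (iv7 F7418)))
theorem F12277 : act 7 n1796 = n1724 := (sb E1637 (iv7 F5925))
theorem F12278 : act 2 n2053 = n1760 := (sb E1638 F6005)
theorem E1641 : n4996 = n1759 := ((D4996).symm.trans (sb E1638 (iv7 D4078)))
theorem F12279 : act 2 n1723 = n1796 := (sb E1639 F6112)
theorem E1642 : n7801 = n3975 := (((D3975).symm.trans (sb E1639 F12273))).symm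
theorem F12280 : act 7 n1723 = n1795 := (sb E1639 (iv7 D4212))
theorem F12281 : act 7 n2054 = n1760 := (sb E1640 (iv7 F6004))
theorem F12282 : act 2 n1759 = n2054 := (sb E1641 F7419)
theorem F12283 : act 7 n1759 = n2053 := (sb E1641 (iv7 D4996))
theorem F12284 : act 2 n3975 = n3540 := (sb E1642 F12271)
theorem E1643 : n3548 = n3538 := ((F5926).symm.trans (sb E1642 (iv4 D7801)))
theorem F12285 : act 7 n3975 = n3545 := (sb E1642 F12272)
theorem E1644 : n7798 = n1566 := ((D7798).symm.trans (sb E1643 (iv1 F5571)))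
theorem E1645 : n7799 = n1564 := ((D7799).symm.trans (sb E1643 (iv0 D3548)))
theorem F12286 : act 4 n3538 = n3975 := (sb E1643 (iv4 F5926))
theorem E1646 : n3870 = n3866 := ((F7227).symm.trans (sb E1643 (iv5 F7000)))
theorem E1647 : n3549 = n3543 := (((iv1 F5572)).symm.trans (sb E1644 (iv1 F12268)))
theorem F12287 : act 1 n1566 = n3538 := (sb E1644 (iv0 D7798))
theorem F12288 : act 0 n1564 = n3538 := (sb E1645 (iv1 D7799))
theorem F12289 : act 2 n3866 = n1681 := (sb E1646 (iv2 D3870))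
theorem F12290 : act 5 n3866 = n3538 := (sb E1646 (iv5 F7227))
theorem F12291 : act 7 n3866 = n1682 := (sb E1646 (iv7 F5844))
theorem F12292 : act 0 n3543 = n1564 := (sb E1647 (iv1 D3549))
theorem F12293 : act 1 n3543 = n1566 := (sb E1647 F5572)
theorem F12294 : act 4 n3543 = n4372 := (sb E1647 (iv4 F6310))
theorem E1648 : n3875 = n3867 := ((F7225).symm.trans (sb E1647 (iv5 F6992)))
theorem F12295 : act 6 n3543 = n3890 := (sb E1647 (iv6 F7002))
theorem F12296 : act 2 n3867 = n1682 := (sb E1648 F5845)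
theorem F12297 : act 5 n3867 = n3543 := (sb E1648 (iv5 F7225))
theorem F12298 : act 7 n3867 = n1681 := (sb E1648 (iv7 D3875))
theorem F12299 : act 7 n4997 = n4079 := d13_2 F12275 (iv5 F7421) (iv5 F7026)
theorem F12300 : act 2 n3890 = n3547 := d3_1 F12295 (iv6 D3547) (iv2 F5569)
theorem F12301 : act 7 n3891 = n3547 := d15_2 (iv0 D3890) D3891 (iv2 F12300)
theorem F12302 : act 2 n4372 = n3545 := d1_1 F12294 (iv4 D3545) (iv2 F5569)
theorem F12303 : act 7 n4372 = n3540 := d11_2 D3543 F12294 (iv4 D3540)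
theorem F12304 : act 7 n4230 = n4353 := d8_2 F12303 F6141 (iv3 F6311)
theorem F12305 : act 2 n4353 = n3980 := d4_1 F12304 F12275 (iv2 F12274)
theorem E1649 : n4352 = n4213 := ((c15_4 (iv0 D4352) D4353 (iv7 F12304) F12274)).symm
theorem F12306 : act 0 n4213 = n4231 := (sb E1649 (iv1 F12126))
theorem F12307 : act 1 n4213 = n1837 := (sb E1649 (iv0 D4352))
theorem F12308 : act 0 n7800 = n6092 := d20_10 (iv4 D6092) (iv1 F4092) (iv4 F4150) F4149 (iv1 F4097) (iv3 F12183) (iv4 F12186) (iv1 F12194) (iv4 F12286) D7800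
theorem F12309 : act 1 n7800 = n6097 := d15_1 (iv0 F12308) (iv7 F12171) F12208
theorem F12310 : act 7 n4906 = n4074 := d13_2 F12285 (iv5 F7321) (iv5 F7007)
theorem E1650 : n4899 = n4859 := ((c11_2 F12310 F7006 (iv7 F7316) D4906)).symm
theorem F12311 : act 2 n4859 = n2022 := (sb E1650 (iv2 D4899))
theorem F12312 : act 7 n4859 = n2023 := (sb E1650 (iv7 F7316))
theorem E1651 : n4904 = n4860 := (c15_4 F7028 F7005 F12312 (iv2 F7320))
theorem F12313 : act 2 n4860 = n2023 := (sb E1651 F7320)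
theorem F12314 : act 7 n4860 = n2022 := (sb E1651 (iv7 D4904))
theorem F12315 : act 2 n4901 = n4074 := d1_3 F7006 F12311 D4901
theorem F12316 : act 1 n4275 = n4906 := d15_1 F7318 F12310 (iv2 F12315)
theorem F12317 : act 7 n4994 = n4075 := d11_2 F12283 D4994 (iv4 D4075)
theorem F12318 : act 2 n4998 = n4075 := d1_3 (iv4 D4075) F12282 D4998
theorem F12319 : act 2 n4999 = n4077 := d3_3 (iv6 D4077) F12282 D4999
theorem F12320 : act 7 n4080 = n4998 := d11_2 F12281 D4080 (iv4 D4998)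
theorem F12321 : act 2 n4994 = n4080 := d4_3 F12320 F12318 (iv7 F12317)
theorem F12322 : act 7 n4209 = n3976 := d11_2 F12280 D4209 (iv4 D3976)
theorem F12323 : act 2 n4214 = n3976 := d1_3 (iv4 D3976) F12279 D4214
theorem F12324 : act 2 n4216 = n3978 := d3_3 (iv6 D3978) F12279 D4216
theorem F12325 : act 7 n3981 = n4214 := d15_2 (iv0 F12246) (iv0 F12243) F12323
theorem F12326 : act 2 n3981 = n4209 := d4_3 F12322 (iv2 F12323) (iv7 F12325)
theorem E1652 : n6053 = n3609 := (c8_3 F12325 F6113 D6053 F5928)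
theorem F12327 : act 2 n3609 = n2556 := (sb E1652 F9414)
theorem F12328 : act 7 n3609 = n2555 := (sb E1652 (iv7 D6053))
theorem E1653 : n6049 = n3610 := (c15_4 F5641 F5636 F12328 D6049)
theorem F12329 : act 2 n3610 = n2555 := (sb E1653 (iv2 D6049))
theorem F12330 : act 7 n3610 = n2556 := (sb E1653 (iv7 F9413))
theorem F12331 : act 2 n4082 = n4995 := d3_3 (iv6 D4995) F12278 D4082
theorem F12332 : act 2 n3983 = n4090 := d3_3 F7325 F12276 D3983
theorem F12333 : act 7 n4091 = n3983 := d15_2 (iv0 D4090) D4091 F12332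
theorem F12334 : act 7 n4219 = n4090 := d15_2 F7025 F6124 (iv2 F12332)
theorem F12335 : act 2 n4091 = n4219 := d4_3 F12334 (iv2 F12332) (iv7 F12333)
def n7802 : Q := act 6 n3538
theorem D7802 : act 6 n3538 = n7802 := rfl
theorem F12336 : act 2 n7802 = n3542 := d3_1 D7802 (iv6 D3542) D3538
def n7803 : Q := act 0 n3539
theorem D7803 : act 0 n3539 = n7803 := rfl
def n7804 : Q := act 1 n3539
theorem D7804 : act 1 n3539 = n7804 := rfl
theorem F12337 : act 3 n6143 = n7804 := d20_3 (iv4 F2258) D2588 D6143 (iv1 D7804) (iv3 D3539) D3540 F12107 (iv4 F12099) (iv3 D3696) (iv1 D1622)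
def n7805 : Q := act 2 n3539
theorem D7805 : act 2 n3539 = n7805 := rfl
def n7806 : Q := act 6 n3539
theorem D7806 : act 6 n3539 = n7806 := rfl
theorem F12338 : act 3 n7806 = n3542 := d7_1 D7806 (iv6 D3542) D3539
def n7807 : Q := act 7 n3539
theorem D7807 : act 7 n3539 = n7807 := rfl
theorem F12339 : act 3 n7807 = n3543 := d8_1 D7807 (iv7 D3543) D3539
theorem F12340 : act 4 n6089 = n7807 := d20_8 F2718 F6289 D4108 F6287 F6117 (iv3 F6118) F5654 (iv1 F9467) F12339 F12292
theorem F12341 : act 7 n3617 = n6089 := d11_0 F12340 (iv7 D7807) F5653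
theorem F12342 : act 2 n6089 = n3616 := d15_3 (iv0 D3616) D3617 F12341
theorem F12343 : act 2 n3617 = n6088 := d15_3 (iv0 D6088) D6089 (iv7 F12341)
theorem F12344 : act 4 n6088 = n7805 := d1_2 F5653 F12343 (iv2 D7805)
theorem F12345 : act 7 n6088 = n3616 := d4_2 (iv7 F12341) F12343 (iv2 F12342)
def n7808 : Q := act 6 n3540
theorem D7808 : act 6 n3540 = n7808 := rfl
theorem F12346 : act 4 n7808 = n3542 := d10_1 D7808 (iv6 D3542) D3540
def n7809 : Q := act 0 n3542
theorem D7809 : act 0 n3542 = n7809 := rfl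
def n7811 : Q := act 5 n3542
theorem D7811 : act 5 n3542 = n7811 := rfl
theorem F12347 : act 0 n3892 = n7811 := d21_7 D7796 (iv1 F12262) (iv5 F7170) F7171 (iv1 F6428) D1686 D3892 (iv5 D7811) (iv6 D3542) D3537
def n7812 : Q := act 7 n3542
theorem D7812 : act 7 n3542 = n7812 := rfl
def n7813 : Q := act 2 n3544
theorem D7813 : act 2 n3544 = n7813 := rfl
theorem F12348 : act 1 n7813 = n6092 := d15_0 (iv0 F12308) F12270 D7813
theorem F12349 : act 1 n6097 = n7813 := d15_0 F12348 F12205 F12201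
theorem F12350 : act 4 n7813 = n6054 := d20_2 D6092 (iv1 F12348) (iv3 D6054) (iv1 D2556) (iv3 D1193) (iv4 D717) (iv1 F1101) D719 D1201 D2568
def n7814 : Q := act 4 n3544
theorem D7814 : act 4 n3544 = n7814 := rfl
theorem F12351 : act 2 n7814 = n6054 := d1_1 D7814 (iv4 F12350) (iv2 D7813)
theorem F12352 : act 3 n7814 = n4209 := d5_1 D7814 (iv4 D4209) F5570 (iv4 D3545) D3544
theorem F12353 : act 0 n3630 = n7814 := d20_1 D3630 (iv4 D7814) (iv3 D3544) (iv1 D1563) (iv3 D845) (iv4 D507) (iv1 F1029) D530 D862 D1596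
theorem F12354 : act 0 n7814 = n3635 := d20_10 (iv4 D3635) (iv1 D1597) (iv4 F2225) (iv3 D1201) D1199 (iv3 F3061) (iv4 D1798) D1795 D4209 (iv3 F12352)
theorem F12355 : act 0 n3634 = n6050 := d20_10 (iv4 D6050) (iv1 F5640) F5638 F5637 (iv1 F5567) D3544 D7814 F12354 (iv4 D3635) D3634
def n7815 : Q := act 6 n3544
theorem D7815 : act 6 n3544 = n7815 := rfl
theorem F12356 : act 3 n7815 = n3547 := d7_1 D7815 (iv6 D3547) D3544
def n7816 : Q := act 6 n3545
theorem D7816 : act 6 n3545 = n7816 := rfl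
theorem F12357 : act 3 n7816 = n4090 := d7_1 D7816 F7325 F5570
theorem F12358 : act 4 n7816 = n3547 := d10_1 D7816 (iv6 D3547) D3545
def n7817 : Q := act 5 n3547
theorem D7817 : act 5 n3547 = n7817 := rfl
def n7818 : Q := act 4 n3550
theorem D7818 : act 4 n3550 = n7818 := rfl
theorem F12359 : act 2 n7818 = n3553 := d1_1 D7818 (iv4 D3553) (iv2 F5573)
theorem F12360 : act 0 n7818 = n4823 := d18_2 (iv1 F6941) D7818 (iv4 D4823) (iv5 D1990) (iv4 D1007) F1884 (iv4 F2854) (iv0 D1667) D1671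
theorem F12361 : act 1 n7818 = n4764 := d18_6 (iv1 F12104) F6046 F6293 (iv4 F2718) D3550 D7818 (iv4 D4764) D4763 (iv5 F12103)
def n7819 : Q := act 6 n3550
theorem D7819 : act 6 n3550 = n7819 := rfl
theorem F12362 : act 2 n7819 = n3554 := d3_1 D7819 (iv6 D3554) (iv2 F5573)
theorem F12363 : act 5 n7819 = n3869 := d12_1 D7819 (iv6 D3869) (iv5 D1680) (iv6 F2719) D3550
def n7820 : Q := act 3 n3551
theorem D7820 : act 3 n3551 = n7820 := rfl
theorem F12364 : act 5 n7820 = n3827 := d6_2 (iv5 F7218) D7820 F5819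
theorem F12365 : act 7 n7820 = n3825 := d8_2 (iv7 F7219) D7820 F5817
def n7821 : Q := act 4 n3551
theorem D7821 : act 4 n3551 = n7821 := rfl
theorem F12366 : act 2 n7821 = n3851 := d1_1 D7821 (iv4 D3851) (iv2 F7217)
theorem F12367 : act 7 n7821 = n3836 := d11_2 (iv7 F7219) D7821 (iv4 D3836)
def n7822 : Q := act 6 n3551
theorem D7822 : act 6 n3551 = n7822 := rfl
theorem F12368 : act 2 n7822 = n3852 := d3_1 D7822 (iv6 D3852) (iv2 F7217)
def n7823 : Q := act 3 n3552
theorem D7823 : act 3 n3552 = n7823 := rfl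
theorem F12369 : act 5 n7823 = n3818 := d6_2 F7170 D7823 (iv3 D3818)
theorem F12370 : act 7 n7823 = n3847 := d8_2 (iv7 F7168) D7823 F5835
def n7824 : Q := act 4 n3552
theorem D7824 : act 4 n3552 = n7824 := rfl
theorem F12371 : act 2 n7824 = n3836 := d1_1 D7824 (iv4 D3836) F7169
theorem F12372 : act 7 n7824 = n3851 := d11_2 (iv7 F7168) D7824 (iv4 D3851)
def n7825 : Q := act 6 n3552
theorem D7825 : act 6 n3552 = n7825 := rfl
theorem F12373 : act 2 n7825 = n3837 := d3_1 D7825 (iv6 D3837) F7169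
theorem F12374 : act 5 n7825 = n7825 := d12_1 D7825 (iv6 D7825) (iv5 F7170) F7171 F7170
def n7826 : Q := act 0 n3553
theorem D7826 : act 0 n3553 = n7826 := rfl
theorem F12375 : act 4 n7826 = n4766 := d18_3 (iv1 D3552) D3553 D7826 F6876 F3293 (iv0 F6537) (iv4 F1659) F6428 F7170
theorem F12376 : act 2 n4823 = n7826 := d1_3 F12375 F6875 D4823
theorem F12377 : act 7 n4764 = n7826 := d11_0 F12375 (iv7 D4766) D4764
def n7827 : Q := act 1 n3553
theorem D7827 : act 1 n3553 = n7827 := rfl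
theorem F12378 : act 7 n7827 = n4823 := d15_2 (iv0 D7826) D7827 F12376
theorem F12379 : act 4 n4728 = n7827 := d20_6 (iv4 F3996) (iv1 F5326) F5324 D3740 (iv1 F7184) (iv3 F6825) (iv1 D7827) (iv4 D3553) F2720 (iv1 F2290)
theorem F12380 : act 2 n7827 = n4764 := d1_1 F12379 (iv4 D4764) (iv2 F6824)
def n7828 : Q := act 3 n3553
theorem D7828 : act 3 n3553 = n7828 := rfl
theorem F12381 : act 4 n7828 = n3557 := d5_2 D3553 D7828 (iv3 D3557) (iv4 D1567) (iv3 F2720)
def n7829 : Q := act 5 n3553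
theorem D7829 : act 5 n3553 = n7829 := rfl
def n7830 : Q := act 6 n3553
theorem D7830 : act 6 n3553 = n7830 := rfl
theorem F12382 : act 4 n7830 = n3554 := d10_1 D7830 (iv6 D3554) D3553
def n7831 : Q := act 7 n3553
theorem D7831 : act 7 n3553 = n7831 := rfl
theorem F12383 : act 4 n7831 = n3555 := d11_1 D7831 (iv7 D3555) D3553
theorem F12384 : act 1 n4764 = n7831 := d15_1 F12361 (iv7 D7831) (iv2 F12359)
theorem F12385 : act 1 n7831 = n4823 := d15_1 F12384 (iv7 F12378) F12380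
def n7832 : Q := act 0 n3554
theorem D7832 : act 0 n3554 = n7832 := rfl
def n7833 : Q := act 1 n3554
theorem D7833 : act 1 n3554 = n7833 := rfl
def n7834 : Q := act 7 n3554
theorem D7834 : act 7 n3554 = n7834 := rfl
theorem F12386 : act 3 n7834 = n3561 := d8_1 D7834 (iv7 D3561) (iv3 F5574)
theorem F12387 : act 5 n7834 = n3888 := d13_1 D7834 (iv7 D3888) (iv5 F5575)
def n7835 : Q := act 6 n3555
theorem D7835 : act 6 n3555 = n7835 := rfl
theorem F12388 : act 3 n7835 = n3562 := d7_1 D7835 (iv6 D3562) (iv3 F5576)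
def n7836 : Q := act 0 n3556
theorem D7836 : act 0 n3556 = n7836 := rfl
theorem F12389 : act 2 n3891 = n7836 := d15_3 (iv0 D7836) (iv0 F7216) (iv7 F12301)
theorem F12390 : act 1 n3815 = n7836 := d15_0 (iv0 D7836) F5580 (iv2 F5807)
theorem F12391 : act 7 n7836 = n3890 := d15_2 (iv0 F7231) F12390 F12300
theorem F12392 : act 6 n7812 = n7836 := d14_5 F12391 (iv6 F12295) (iv7 D3543) D3542 D7812
def n7837 : Q := act 5 n3556
theorem D7837 : act 5 n3556 = n7837 := rfl
theorem F12393 : act 3 n7837 = n3563 := d6_1 D7837 (iv5 D3563) (iv3 F5578)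
theorem F12394 : act 7 n7837 = n3892 := d13_2 (iv7 F5580) D7837 (iv5 D3892)
def n7838 : Q := act 0 n3557
theorem D7838 : act 0 n3557 = n7838 := rfl
def n7839 : Q := act 1 n3557
theorem D7839 : act 1 n3557 = n7839 := rfl
def n7840 : Q := act 2 n3557
theorem D7840 : act 2 n3557 = n7840 := rfl
theorem F12395 : act 5 n7840 = n7228 := d2_2 (iv5 F5581) D7840 (iv2 D7228)
def n7841 : Q := act 6 n3557
theorem D7841 : act 6 n3557 = n7841 := rfl
theorem F12396 : act 3 n7841 = n3558 := d7_1 D7841 (iv6 D3558) D3557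
def n7842 : Q := act 0 n3558
theorem D7842 : act 0 n3558 = n7842 := rfl
def n7843 : Q := act 1 n3558
theorem D7843 : act 1 n3558 = n7843 := rfl
def n7844 : Q := act 5 n3558
theorem D7844 : act 5 n3558 = n7844 := rfl
theorem F12397 : act 6 n7844 = n7232 := d12_2 D3558 D7844 (iv5 D7232) (iv6 D3328) (iv5 F2723)
def n7845 : Q := act 7 n3558
theorem D7845 : act 7 n3558 = n7845 := rfl
theorem F12398 : act 4 n7845 = n3561 := d11_1 D7845 (iv7 D3561) (iv4 F5582)
def n7846 : Q := act 2 n3559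
theorem D7846 : act 2 n3559 = n7846 := rfl
theorem F12399 : act 7 n3560 = n7846 := d15_2 (iv0 D3559) D3560 (iv2 D7846)
def n7847 : Q := act 3 n3559
theorem D7847 : act 3 n3559 = n7847 := rfl
def n7848 : Q := act 4 n3559
theorem D7848 : act 4 n3559 = n7848 := rfl
def n7849 : Q := act 5 n3559
theorem D7849 : act 5 n3559 = n7849 := rfl
def n7850 : Q := act 6 n3559
theorem D7850 : act 6 n3559 = n7850 := rfl
def n7851 : Q := act 7 n3559
theorem D7851 : act 7 n3559 = n7851 := rfl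
theorem F12400 : act 2 n7851 = n3560 := d4_1 D7851 F12399 (iv2 D7846)
def n7852 : Q := act 3 n3560
theorem D7852 : act 3 n3560 = n7852 := rfl
def n7853 : Q := act 4 n3560
theorem D7853 : act 4 n3560 = n7853 := rfl
def n7854 : Q := act 5 n3560
theorem D7854 : act 5 n3560 = n7854 := rfl
def n7855 : Q := act 6 n3560
theorem D7855 : act 6 n3560 = n7855 := rfl
def n7856 : Q := act 6 n3561
theorem D7856 : act 6 n3561 = n7856 := rfl
theorem F12401 : act 7 n7856 = n3562 := d14_2 D3561 D7856 (iv6 D3562) (iv7 D1569) D1568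
def n7857 : Q := act 0 n3562
theorem D7857 : act 0 n3562 = n7857 := rfl
def n7858 : Q := act 1 n3562
theorem D7858 : act 1 n3562 = n7858 := rfl
def n7859 : Q := act 5 n3562
theorem D7859 : act 5 n3562 = n7859 := rfl
theorem F12402 : act 6 n7859 = n3563 := d12_2 D3562 D7859 (iv5 D3563) (iv6 D1570) (iv5 F2725)
def n7860 : Q := act 4 n3563
theorem D7860 : act 4 n3563 = n7860 := rfl
theorem F12403 : act 7 n7860 = n3938 := d11_2 (iv7 F5584) D7860 (iv4 D3938)
theorem F12404 : act 5 n7860 = n6314 := d16_1 D7860 (iv4 D6314) (iv5 D2646) F2317 F1415 (iv4 F2317) D2646 (iv7 F5651) F5650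
theorem F12405 : act 1 n7860 = n6117 := d18_6 (iv1 D1628) F1634 F1599 (iv4 F2728) D3563 D7860 (iv4 D6117) (iv0 F5725) (iv5 D3717)
def n7861 : Q := act 3 n3564
theorem D7861 : act 3 n3564 = n7861 := rfl
theorem F12406 : act 4 n7861 = n3566 := d5_2 D3564 D7861 (iv3 D3566) (iv4 D1572) (iv3 F2732)
theorem F12407 : act 7 n7861 = n5090 := d8_2 (iv7 F5586) D7861 (iv3 D5090)
def n7862 : Q := act 6 n3564
theorem D7862 : act 6 n3564 = n7862 := rfl
theorem F12408 : act 2 n7862 = n5790 := d3_1 D7862 (iv6 D5790) (iv2 F5585)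
theorem F12409 : act 4 n7862 = n3565 := d10_1 D7862 (iv6 D3565) D3564
def n7863 : Q := act 0 n3565
theorem D7863 : act 0 n3565 = n7863 := rfl
theorem F12410 : act 6 n7863 = n5509 := d21_5 (iv5 D1138) F1604 D1571 D3565 D7863 (iv5 D5509) (iv1 D2283) D2284 F3640 F2176
theorem F12411 : act 2 n5791 = n7863 := d3_3 F12410 F8409 (iv6 F8915)
theorem F12412 : act 0 n7863 = n5754 := d21_4 F7909 (iv1 F3637) D5509 (iv6 F12410) (iv6 D5754) F3794 F4913 D2859 (iv6 F8084) F8104
theorem F12413 : act 1 n3565 = n6504 := d15_1 (iv0 D7863) F10570 F12411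
theorem F12414 : act 7 n5792 = n7863 := d15_2 (iv0 D5791) D5792 (iv2 F12411)
theorem F12415 : act 2 n6504 = n5792 := d4_3 F12414 (iv2 F12411) (iv7 F10570)
theorem F12416 : act 1 n6504 = n5754 := d15_0 (iv0 F12412) (iv7 F12414) (iv2 F12415)
theorem E1654 : n7621 = n2893 := (c20_3 (iv4 F9177) (iv1 F9179) D7621 D6504 (iv1 F12413) F5590 (iv4 F5594) F11990 (iv4 D3460) F5208 (iv1 F3952))
theorem E1655 : n6505 = n3458 := ((D6505).symm.trans (sb E1654 (iv4 D7621)))
theorem E1656 : n7619 = n6027 := (((iv2 F11839)).symm.trans (sb E1655 (iv2 F12028)))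
theorem F12417 : act 4 n3458 = n2893 := (sb E1655 (iv4 D6505))
theorem E1657 : n7614 = n6026 := ((F11838).symm.trans (sb E1655 (iv7 F12026)))
theorem F12418 : act 2 n6027 = n3458 := (sb E1656 F11839)
theorem E1658 : n6502 = n3457 := ((F12029).symm.trans (sb E1656 (iv7 D7619)))
theorem F12419 : act 7 n6026 = n3458 := (sb E1657 (iv7 F11838))
theorem F12420 : act 2 n3457 = n6026 := (sb E1658 F12024)
theorem E1659 : n7616 = n2892 := ((D7616).symm.trans (sb E1658 (iv4 D6502)))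
theorem E1660 : n7618 = n5325 := ((D7618).symm.trans (sb E1658 F10567))
theorem F12421 : act 7 n3457 = n6027 := (sb E1658 (iv7 F12029))
theorem F12422 : act 4 n2892 = n3457 := (sb E1659 (iv4 D7616))
theorem F12423 : act 6 n5325 = n3457 := (sb E1660 (iv6 D7618))
theorem F12424 : act 4 n6507 = n7623 := d10_3 (iv6 D7623) F12417 D6507
def n7864 : Q := act 7 n3565
theorem D7864 : act 7 n3565 = n7864 := rfl
theorem F12425 : act 2 n7864 = n5754 := d4_1 D7864 F8858 (iv2 F5589)
theorem F12426 : act 3 n7864 = n3570 := d8_1 D7864 (iv7 D3570) (iv3 F5590)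
theorem F12427 : act 5 n7864 = n7864 := d13_1 D7864 (iv7 D7864) F5591
theorem F12428 : act 6 n7864 = n5085 := d14_1 D7864 (iv7 D5085) F3394 (iv7 F2733) D3565
theorem F12429 : act 1 n5792 = n7864 := d15_1 D5792 (iv7 D7864) F5589
theorem F12430 : act 1 n7864 = n5791 := d15_1 F12429 (iv7 F10570) F12415
def n7865 : Q := act 0 n3566
theorem D7865 : act 0 n3566 = n7865 := rfl
theorem F12431 : act 3 n7865 = n6482 := d20_5 F1528 F1611 D1572 D3566 D7865 (iv4 D6482) (iv1 D2885) F2425 (iv3 D817) D815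
theorem F12432 : act 1 n5123 = n7865 := d15_0 (iv0 D7865) F5592 D5123
def n7866 : Q := act 1 n3566
theorem D7866 : act 1 n3566 = n7866 := rfl
def n7867 : Q := act 2 n3566
theorem D7867 : act 2 n3566 = n7867 := rfl
theorem F12433 : act 3 n7867 = n6474 := d0_2 D3566 D7867 (iv2 F10549) F4484 (iv2 F2737)
theorem F12434 : act 7 n7867 = n5123 := d4_2 (iv7 F5592) D7867 (iv2 D5123)
theorem F12435 : act 1 n7867 = n5121 := d15_0 (iv0 D5121) (iv7 F5592) D7867
theorem F12436 : act 1 n7866 = n5123 := d15_1 D7866 (iv7 F12434) (iv2 D7867)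
theorem F12437 : act 1 n5122 = n7867 := d15_1 D5122 F12434 (iv2 D5123)
def n7868 : Q := act 6 n3566
theorem D7868 : act 6 n3566 = n7868 := rfl
theorem F12438 : act 3 n7868 = n3567 := d7_1 D7868 (iv6 D3567) D3566
def n7869 : Q := act 5 n3567
theorem D7869 : act 5 n3567 = n7869 := rfl
theorem F12439 : act 2 n7869 = n6500 := d2_1 D7869 (iv5 D6500) (iv2 F5593)
def n7870 : Q := act 7 n3567
theorem D7870 : act 7 n3567 = n7870 := rfl
theorem F12440 : act 2 n7870 = n6462 := d4_1 D7870 F10534 (iv2 F5593)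
theorem F12441 : act 4 n7870 = n3570 := d11_1 D7870 (iv7 D3570) (iv4 F5594)
theorem F12442 : act 6 n7870 = n5120 := d14_1 D7870 (iv7 D5120) F3429 (iv7 F2738) D3567
theorem F12443 : act 1 n6032 = n7870 := d15_1 (iv0 F11987) (iv7 D7870) F5593
theorem F12444 : act 1 n7870 = n6030 := d15_1 F12443 F9372 (iv2 F9378)
def n7871 : Q := act 5 n3568
theorem D7871 : act 5 n3568 = n7871 := rfl
theorem F12445 : act 2 n7871 = n6503 := d2_1 D7871 (iv5 D6503) (iv2 F7862)
theorem F12446 : act 6 n7871 = n5361 := d12_2 (iv6 F5595) D7871 (iv5 D5361) (iv6 D2205) D2204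
theorem F12447 : act 7 n7871 = n6506 := d13_2 F7863 D7871 (iv5 D6506)
theorem F12448 : act 0 n6087 = n7871 := d21_10 (iv5 D7871) F5596 F4472 (iv6 D2878) (iv1 F3427) D5117 (iv5 F8159) F9460 (iv5 D6086) D6087
theorem F12449 : act 1 n3608 = n6506 := d15_1 (iv0 F10569) (iv7 F12447) F12445
def n7872 : Q := act 3 n3569
theorem D7872 : act 3 n3569 = n7872 := rfl
theorem F12450 : act 7 n7872 = n6501 := d8_2 (iv7 F7864) D7872 (iv3 D6501)
def n7873 : Q := act 5 n3569
theorem D7873 : act 5 n3569 = n7873 := rfl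
theorem F12451 : act 2 n7873 = n6506 := d2_1 D7873 (iv5 D6506) F7865
theorem F12452 : act 7 n7873 = n6503 := d13_2 (iv7 F7864) D7873 (iv5 D6503)
theorem F12453 : act 6 n7873 = n6068 := d21_3 F4472 (iv1 F5597) D7873 (iv1 F9430) F5628 F3543 (iv1 F1995) D2204 (iv6 F5595) F5596
theorem F12454 : act 1 n6087 = n7873 := d15_1 (iv0 F12448) F12452 (iv2 F12445)
theorem F12455 : act 1 n7632 = n7282 := d18_6 (iv1 D3569) (iv4 F5594) F11990 (iv4 D3460) D3461 D7632 F11588 F12454 (iv5 D7873)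
def n7874 : Q := act 6 n3569
theorem D7874 : act 6 n3569 = n7874 := rfl
theorem F12456 : act 2 n7874 = n6507 := d3_1 D7874 (iv6 D6507) F7865
theorem F12457 : act 7 n7874 = n5359 := d14_2 (iv7 F7864) D7874 (iv6 D5359) F7899 (iv6 F4492)
theorem F12458 : act 1 n3602 = n7874 := d15_1 (iv0 F7947) F12457 F8158
theorem F12459 : act 1 n7874 = n3607 := d15_0 (iv0 F7945) (iv7 F10572) (iv2 F12456)
def n7875 : Q := act 3 n3571
theorem D7875 : act 3 n3571 = n7875 := rfl
theorem F12460 : act 4 n7875 = n7305 := d5_2 D3571 D7875 (iv3 D7305) (iv4 D3355) (iv3 F2743)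
theorem F12461 : act 7 n7875 = n5144 := d8_2 (iv7 F5603) D7875 (iv3 D5144)
def n7876 : Q := act 5 n3571
theorem D7876 : act 5 n3571 = n7876 := rfl
theorem F12462 : act 7 n7876 = n5145 := d13_2 (iv7 F5603) D7876 (iv5 D5145)
theorem F12463 : act 4 n7876 = n5145 := d16_2 D3571 D7876 (iv5 D5145) (iv4 D2117) (iv5 D1046) (iv4 F1240) D1052 D2126 F3471
theorem F12464 : act 0 n7876 = n3668 := d17_2 F7570 D7876 (iv5 D3668) (iv4 D1614) (iv5 D868) F1305 (iv5 F2094) F3408 D5088
def n7877 : Q := act 6 n3571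
theorem D7877 : act 6 n3571 = n7877 := rfl
theorem F12465 : act 4 n7877 = n3572 := d10_1 D7877 (iv6 D3572) D3571
def n7878 : Q := act 0 n3572
theorem D7878 : act 0 n3572 = n7878 := rfl
theorem F12466 : act 6 n7878 = n5212 := d21_5 (iv5 D854) D851 D1574 D3572 D7878 (iv5 D5212) (iv1 D2139) D2140 F3504 (iv1 D1577)
theorem F12467 : act 2 n6501 = n7878 := d3_3 F12466 (iv2 F10342) (iv6 F10565)
theorem F12468 : act 3 n7863 = n7878 := d7_3 F12466 (iv3 F10343) (iv6 F12410)
theorem F12469 : act 1 n3572 = n7872 := d15_1 (iv0 D7878) F12450 F12467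
def n7879 : Q := act 7 n3572
theorem D7879 : act 7 n3572 = n7879 := rfl
theorem F12470 : act 3 n7879 = n7100 := d8_1 D7879 F11393 (iv3 F5605)
theorem F12471 : act 5 n7879 = n7879 := d13_1 D7879 (iv7 D7879) F5606
theorem F12472 : act 6 n7879 = n5143 := d14_1 D7879 (iv7 D5143) F3442 (iv7 F2744) D3572
theorem F12473 : act 0 n6501 = n7879 := d21_4 F7774 (iv1 F3509) D5194 (iv6 F10565) F12472 F7659 (iv1 F3449) D5158 (iv6 F7752) (iv1 F7777)
def n7880 : Q := act 3 n3573
theorem D7880 : act 3 n3573 = n7880 := rfl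
def n7881 : Q := act 5 n3573
theorem D7881 : act 5 n3573 = n7881 := rfl
theorem F12474 : act 2 n7881 = n3580 := d2_1 D7881 (iv5 D3580) (iv2 F5607)
theorem F12475 : act 7 n7881 = n5786 := d13_2 F7680 D7881 F8905
theorem F12476 : act 4 n7881 = n3668 := d16_2 D3573 D7881 (iv5 D3668) (iv4 D1614) (iv5 D868) (iv4 F1378) D1209 F2252 (iv2 F2745)
theorem F12477 : act 0 n7881 = n5789 := d17_2 F5694 D7881 F8913 F3813 F2094 F1920 D2084 (iv0 F3405) D3666
theorem F12478 : act 1 n7881 = n5091 := d17_6 F2710 (iv5 D1046) (iv1 F2415) D1575 D3573 D7881 (iv5 D5091) (iv0 F5541) (iv4 D3521)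
def n7882 : Q := act 6 n3573
theorem D7882 : act 6 n3573 = n7882 := rfl
theorem F12479 : act 2 n7882 = n3581 := d3_1 D7882 (iv6 D3581) (iv2 F5607)
theorem F12480 : act 4 n7882 = n3574 := d10_1 D7882 (iv6 D3574) D3573
theorem F12481 : act 0 n7882 = n7290 := d20_7 (iv4 F9208) (iv1 F9211) F10673 D6084 (iv1 F10683) F7566 (iv4 F12480) (iv4 D7290) (iv3 D3347) (iv1 F3972)
def n7883 : Q := act 0 n3574
theorem D7883 : act 0 n3574 = n7883 := rfl
def n7884 : Q := act 1 n3574
theorem D7884 : act 1 n3574 = n7884 := rfl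
theorem F12482 : act 1 n7884 = n3584 := d15_1 D7884 (iv7 D3584) (iv2 F5609)
def n7885 : Q := act 7 n3574
theorem D7885 : act 7 n3574 = n7885 := rfl
theorem F12483 : act 2 n7885 = n3584 := d4_1 D7885 (iv7 D3584) (iv2 F5609)
theorem F12484 : act 1 n3584 = n7883 := d15_0 (iv0 D7883) D7885 F12483
theorem F12485 : act 1 n3583 = n7885 := d15_1 D3583 (iv7 D7885) F5609
theorem F12486 : act 1 n7885 = n3582 := d15_0 (iv0 D3582) D3584 (iv2 F12483)
def n7886 : Q := act 3 n3575
theorem D7886 : act 3 n3575 = n7886 := rfl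
theorem F12487 : act 4 n7886 = n7310 := d5_2 D3575 D7886 (iv3 D7310) (iv4 D3358) F2747
def n7887 : Q := act 5 n3575
theorem D7887 : act 5 n3575 = n7887 := rfl
theorem F12488 : act 0 n7887 = n5769 := d17_2 F7563 D7887 (iv5 D5769) (iv4 D2414) F2091 F2181 (iv5 F2578) (iv0 F3404) D5086
theorem F12489 : act 1 n7887 = n5771 := d17_6 (iv1 F3474) (iv5 D1556) D1554 (iv5 F2746) D3575 D7887 (iv5 D5771) F7694 F7693
def n7888 : Q := act 6 n3575
theorem D7888 : act 6 n3575 = n7888 := rfl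
theorem F12490 : act 4 n7888 = n3576 := d10_1 D7888 (iv6 D3576) D3575
def n7889 : Q := act 0 n3576
theorem D7889 : act 0 n3576 = n7889 := rfl
def n7890 : Q := act 1 n3576
theorem D7890 : act 1 n3576 = n7890 := rfl
theorem F12491 : act 5 n6447 = n7890 := d21_6 (iv5 D2123) (iv1 D1051) D1052 (iv6 F3452) (iv1 F10326) D6447 (iv1 D7890) F5612 (iv6 D3576) (iv1 F3462)
theorem F12492 : act 3 n7890 = n3589 := d6_1 F12491 (iv5 F5626) (iv3 F10513)
def n7891 : Q := act 7 n3576
theorem D7891 : act 7 n3576 = n7891 := rfl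
theorem F12494 : act 5 n7891 = n7891 := d13_1 D7891 (iv7 D7891) F5612
theorem F12495 : act 6 n7891 = n5199 := d14_1 D7891 (iv7 D5199) F4128 (iv7 F4129) D3576
def n7892 : Q := act 3 n3577
theorem D7892 : act 3 n3577 = n7892 := rfl
theorem F12496 : act 4 n7892 = n7892 := d5_2 D3577 D7892 (iv3 D7892) (iv4 D3577) F2749
def n7893 : Q := act 5 n3577
theorem D7893 : act 5 n3577 = n7893 := rfl
theorem F12497 : act 0 n7893 = n5771 := d17_2 (iv1 F5613) D7893 (iv5 D5771) (iv4 D2415) D2416 (iv0 F3806) (iv5 F2797) (iv0 D1613) D1614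
theorem F12498 : act 1 n7893 = n5769 := d17_6 D2116 F3444 F2640 (iv5 F2748) D3577 D7893 (iv5 D5769) F3800 (iv4 D2117)
def n7894 : Q := act 3 n3578
theorem D7894 : act 3 n3578 = n7894 := rfl
theorem F12499 : act 4 n7894 = n3586 := d5_2 (iv4 F5614) D7894 (iv3 D3586) (iv4 D1581) D1580
theorem F12500 : act 7 n7894 = n7249 := d8_2 F5693 D7894 F11564
def n7895 : Q := act 5 n3578
theorem D7895 : act 5 n3578 = n7895 := rfl
theorem F12501 : act 2 n7895 = n7221 := d2_1 D7895 (iv5 D7221) F5615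
theorem F12502 : act 4 n7895 = n6036 := d16_2 (iv4 F5614) D7895 (iv5 D6036) (iv4 D2541) (iv5 D1185) F1350 D1185 (iv7 F2579) (iv2 F2751)
theorem F12503 : act 1 n7895 = n7762 := d17_6 F2423 F2420 F2649 (iv5 F2752) (iv4 F5614) D7895 (iv5 D7762) F5542 F3813
def n7896 : Q := act 6 n3578
theorem D7896 : act 6 n3578 = n7896 := rfl
theorem F12504 : act 2 n7896 = n7222 := d3_1 D7896 (iv6 D7222) F5615
theorem F12505 : act 4 n7896 = n3585 := d10_1 D7896 (iv6 D3585) (iv4 F5614)
def n7897 : Q := act 0 n3579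
theorem D7897 : act 0 n3579 = n7897 := rfl
def n7898 : Q := act 1 n3579
theorem D7898 : act 1 n3579 = n7898 := rfl
theorem F12506 : act 4 n7328 = n7898 := d20_6 (iv4 D1471) (iv1 F1514) D809 D1487 D3367 D7328 (iv1 D7898) F5616 (iv3 D1583) (iv1 F2582)
def n7899 : Q := act 2 n3579
theorem D7899 : act 2 n3579 = n7899 := rfl
theorem F12507 : act 4 n7899 = n3593 := d1_2 (iv4 F5616) D7899 (iv2 D3593)
def n7900 : Q := act 5 n3579
theorem D7900 : act 5 n3579 = n7900 := rfl
theorem F12508 : act 3 n7900 = n3580 := d6_1 D7900 (iv5 D3580) D3579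
def n7901 : Q := act 6 n3579
theorem D7901 : act 6 n3579 = n7901 := rfl
theorem F12509 : act 3 n7901 = n3581 := d7_1 D7901 (iv6 D3581) D3579
theorem F12510 : act 4 n7901 = n3594 := d10_1 D7901 (iv6 D3594) (iv4 F5616)
def n7902 : Q := act 6 n3580
theorem D7902 : act 6 n3580 = n7902 := rfl
def n7903 : Q := act 0 n3581
theorem D7903 : act 0 n3581 = n7903 := rfl
def n7904 : Q := act 1 n3581
theorem D7904 : act 1 n3581 = n7904 := rfl
theorem F12511 : act 4 n5940 = n7904 := d20_6 D3601 F10685 F5332 F2592 (iv1 F3966) D5940 (iv1 D7904) F5618 F2750 D1585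
theorem F12512 : act 7 n7904 = n7290 := d11_2 (iv7 F11379) F12511 (iv4 D7290)
theorem F12513 : act 2 n7290 = n7903 := d15_3 (iv0 D7903) D7904 F12512
theorem F12514 : act 4 n7903 = n7289 := d1_2 D7290 F12513 (iv2 D7289)
def n7905 : Q := act 5 n3581
theorem D7905 : act 5 n3581 = n7905 := rfl
def n7906 : Q := act 7 n3581
theorem D7906 : act 7 n3581 = n7906 := rfl
theorem F12515 : act 4 n7906 = n3584 := d11_1 D7906 (iv7 D3584) (iv4 F5618)
theorem F12516 : act 0 n7290 = n7906 := d20_7 (iv4 F10673) (iv1 D3343) F2591 F1516 D1478 D3347 D7290 F12515 F5619 (iv1 F4082)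
def n7907 : Q := act 2 n3582
theorem D7907 : act 2 n3582 = n7907 := rfl
theorem F12517 : act 7 n3583 = n7907 := d15_2 (iv0 D3582) D3583 (iv2 D7907)
def n7908 : Q := act 3 n3582
theorem D7908 : act 3 n3582 = n7908 := rfl
def n7909 : Q := act 4 n3582
theorem D7909 : act 4 n3582 = n7909 := rfl
def n7910 : Q := act 5 n3582
theorem D7910 : act 5 n3582 = n7910 := rfl
def n7911 : Q := act 6 n3582
theorem D7911 : act 6 n3582 = n7911 := rfl
def n7912 : Q := act 7 n3582
theorem D7912 : act 7 n3582 = n7912 := rfl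
theorem F12518 : act 2 n7912 = n3583 := d4_1 D7912 F12517 (iv2 D7907)
def n7913 : Q := act 3 n3583
theorem D7913 : act 3 n3583 = n7913 := rfl
def n7914 : Q := act 4 n3583
theorem D7914 : act 4 n3583 = n7914 := rfl
def n7915 : Q := act 5 n3583
theorem D7915 : act 5 n3583 = n7915 := rfl
def n7916 : Q := act 6 n3583
theorem D7916 : act 6 n3583 = n7916 := rfl
def n7917 : Q := act 0 n3585
theorem D7917 : act 0 n3585 = n7917 := rfl
def n7918 : Q := act 1 n3585
theorem D7918 : act 1 n3585 = n7918 := rfl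
theorem F12519 : act 1 n7918 = n7225 := d15_1 D7918 (iv7 D7225) (iv2 F5620)
theorem F12520 : act 6 n6685 = n7918 := d21_3 (iv5 F10361) (iv1 F10363) (iv5 F10881) (iv1 D7918) (iv6 D3585) F2752 F2648 (iv5 F3406) (iv6 F3725) (iv1 F10024)
theorem F12521 : act 5 n5745 = n7918 := d21_6 (iv5 D1140) (iv1 D693) D694 (iv6 F2079) D2406 D5745 (iv1 D7918) F5622 (iv6 D3585) F2754
theorem F12522 : act 3 n7918 = n6069 := d6_1 F12521 (iv5 F9433) (iv3 F8849)
theorem F12523 : act 2 n7918 = n7224 := d3_1 F12520 (iv6 F11543) F10883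
def n7919 : Q := act 7 n3585
theorem D7919 : act 7 n3585 = n7919 := rfl
theorem F12524 : act 2 n7919 = n7225 := d4_1 D7919 (iv7 D7225) (iv2 F5620)
theorem F12525 : act 3 n7919 = n3590 := d8_1 D7919 (iv7 D3590) (iv3 F5621)
theorem F12526 : act 5 n7919 = n7919 := d13_1 D7919 (iv7 D7919) F5622
theorem F12527 : act 6 n7919 = n5298 := d14_1 D7919 (iv7 D5298) F3525 F2799 D3585
theorem F12528 : act 1 n7225 = n7917 := d15_0 (iv0 D7917) D7919 F12524
theorem F12529 : act 1 n7224 = n7919 := d15_1 D7224 (iv7 D7919) F5620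
theorem F12530 : act 7 n7917 = n7224 := d15_2 F12519 F12528 (iv2 F12523)
theorem F12531 : act 2 n7917 = n7223 := d15_3 (iv0 D7223) D7224 (iv7 F12530)
theorem F12532 : act 7 n7223 = n7918 := d4_2 (iv7 F12530) F12531 F12523
theorem F12533 : act 3 n3588 = n7223 := d8_3 F12532 F12522 (iv7 F9435)
theorem F12534 : act 1 n7919 = n7223 := d15_1 F12529 F12532 F12523
theorem F12535 : act 4 n3588 = n7230 := d20_6 F12039 (iv1 D7231) F5317 (iv3 F5314) D7223 (iv3 F12533) (iv1 F12041) F12036 (iv3 F8179) F8182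
def n7920 : Q := act 0 n3586
theorem D7920 : act 0 n3586 = n7920 := rfl
theorem F12536 : act 1 n7248 = n7920 := d15_0 (iv0 D7920) F5623 D7248
def n7921 : Q := act 1 n3586
theorem D7921 : act 1 n3586 = n7921 := rfl
def n7922 : Q := act 2 n3586
theorem D7922 : act 2 n3586 = n7922 := rfl
theorem F12537 : act 3 n7922 = n7238 := d0_2 D3586 D7922 (iv2 D7238) (iv3 D3331) (iv2 F2755)
theorem F12538 : act 7 n7922 = n7248 := d4_2 (iv7 F5623) D7922 (iv2 D7248)
theorem F12539 : act 1 n7922 = n7246 := d15_0 (iv0 D7246) (iv7 F5623) D7922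
theorem F12540 : act 1 n7921 = n7248 := d15_1 D7921 (iv7 F12538) (iv2 D7922)
theorem F12541 : act 1 n7247 = n7922 := d15_1 D7247 F12538 (iv2 D7248)
def n7923 : Q := act 6 n3586
theorem D7923 : act 6 n3586 = n7923 := rfl
theorem F12542 : act 3 n7923 = n3587 := d7_1 D7923 (iv6 D3587) D3586
def n7924 : Q := act 0 n3587
theorem D7924 : act 0 n3587 = n7924 := rfl
def n7925 : Q := act 1 n3587
theorem D7925 : act 1 n3587 = n7925 := rfl
theorem F12543 : act 1 n7925 = n7245 := d15_1 D7925 (iv7 D7245) (iv2 F5624)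
def n7926 : Q := act 5 n3587
theorem D7926 : act 5 n3587 = n7926 := rfl
theorem F12544 : act 2 n7926 = n7244 := d2_1 D7926 (iv5 D7244) (iv2 F5624)
def n7927 : Q := act 7 n3587
theorem D7927 : act 7 n3587 = n7927 := rfl
theorem F12545 : act 2 n7927 = n7245 := d4_1 D7927 (iv7 D7245) (iv2 F5624)
theorem F12546 : act 4 n7927 = n3590 := d11_1 D7927 (iv7 D3590) (iv4 F5625)
theorem F12547 : act 6 n7927 = n5334 := d14_1 D7927 (iv7 D5334) F3542 (iv7 F2756) D3587
theorem F12548 : act 1 n7245 = n7924 := d15_0 (iv0 D7924) D7927 F12545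
theorem F12549 : act 1 n7243 = n7927 := d15_1 D7243 (iv7 D7927) F5624
theorem E1661 : n7243 = n7147 := (c20_8 (iv4 F5317) D7230 (iv4 F12535) F12533 (iv1 F12534) F12525 (iv4 F12546) (iv1 F12549) (iv4 D7147) F5278 F5280)
theorem F12550 : act 0 n7147 = n3333 := (sb E1661 (iv1 D7243))
theorem F12551 : act 1 n7147 = n7927 := (sb E1661 F12549)
theorem F12552 : act 1 n7927 = n7235 := d15_1 F12551 (iv7 F12064) F12062
theorem E1662 : n7242 = n7235 := ((c15_1 F12552 (iv0 D7242) D7245 (iv2 F12545))).symm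
theorem F12553 : act 1 n7235 = n3333 := (sb E1662 (iv0 D7242))
theorem E1663 : n7924 = n7760 := ((c20_7 D7147 F12550 F5323 F4077 D3519 F5537 D7760 (iv1 F12548) F11562 F8179 F5522)).symm
theorem F12554 : act 0 n7760 = n7245 := (sb E1663 (iv1 F12548))
theorem F12555 : act 1 n7760 = n3587 := (sb E1663 (iv0 D7924))
theorem E1664 : n7925 = n7761 := (c15_2 F12555 D7925 F12064 (iv2 F12060))
theorem F12556 : act 0 n7761 = n3587 := (sb E1664 (iv1 D7925))
theorem F12557 : act 1 n7761 = n7245 := (sb E1664 F12543)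
theorem F12558 : act 4 n7758 = n6069 := d20_2 (iv4 F11555) (iv1 F12058) (iv3 F12522) (iv1 D7918) F5621 (iv4 F5625) (iv1 F12555) (iv4 D7760) F5537 (iv1 F5529)
theorem F12559 : act 2 n7231 = n7758 := d1_3 F12558 F9434 F12039
theorem F12560 : act 6 n6679 = n7758 := d10_0 F12558 (iv6 F9432) (iv4 F10870)
theorem F12561 : act 7 n7230 = n7758 := d11_0 F12558 (iv7 F9435) F12535
theorem F12562 : act 4 n6068 = n7757 := d20_0 (iv1 F12057) F11555 (iv3 F11544) (iv1 F12519) F12522 (iv4 F12558) (iv1 D7758) F5528 (iv3 F4077) D6068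
theorem F12563 : act 2 n7757 = n7230 := d1_1 F12562 (iv4 F12535) F9437
theorem F12564 : act 7 n7757 = n7231 := d11_2 (iv7 F9436) F12562 (iv4 F12039)
def n7928 : Q := act 5 n3588
theorem D7928 : act 5 n3588 = n7928 := rfl
theorem F12565 : act 2 n7928 = n6450 := d2_1 D7928 F10516 (iv2 F9437)
theorem F12566 : act 6 n7928 = n6453 := d12_2 F10571 D7928 (iv5 F10573) (iv6 D6507) D6506
theorem F12567 : act 7 n7928 = n5114 := d13_2 (iv7 F9435) D7928 F9433
theorem F12568 : act 0 n7928 = n6449 := d21_1 D7928 (iv5 F12089) (iv6 D7771) (iv1 D3524) (iv6 D1557) (iv5 D842) (iv1 F1556) (iv5 F1614) D1582 D3588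
theorem F12569 : act 0 n6448 = n7928 := d21_10 (iv5 D7928) (iv1 F8183) F8180 (iv6 D5367) (iv1 F3575) D5331 F8098 F5633 F5632 (iv6 F10514)
def n7929 : Q := act 2 n3591
theorem D7929 : act 2 n3591 = n7929 := rfl
theorem F12570 : act 7 n3592 = n7929 := d15_2 (iv0 D3591) D3592 (iv2 D7929)
def n7930 : Q := act 3 n3591
theorem D7930 : act 3 n3591 = n7930 := rfl
theorem F12571 : act 4 n7930 = n5945 := d20_6 (iv4 D1527) F1573 D856 D1583 D3591 D7930 (iv1 D5945) F3973 (iv3 D2509) (iv1 F2668)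
def n7931 : Q := act 4 n3591
theorem D7931 : act 4 n3591 = n7931 := rfl
def n7932 : Q := act 5 n3591
theorem D7932 : act 5 n3591 = n7932 := rfl
def n7933 : Q := act 6 n3591
theorem D7933 : act 6 n3591 = n7933 := rfl
def n7934 : Q := act 7 n3591
theorem D7934 : act 7 n3591 = n7934 := rfl
def n7935 : Q := act 3 n3592
theorem D7935 : act 3 n3592 = n7935 := rfl
def n7936 : Q := act 4 n3592
theorem D7936 : act 4 n3592 = n7936 := rfl
def n7937 : Q := act 5 n3592
theorem D7937 : act 5 n3592 = n7937 := rfl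
def n7938 : Q := act 6 n3592
theorem D7938 : act 6 n3592 = n7938 := rfl
def n7939 : Q := act 6 n3593
theorem D7939 : act 6 n3593 = n7939 := rfl
theorem F12573 : act 2 n7939 = n3594 := d3_1 D7939 (iv6 D3594) D3593
def n7940 : Q := act 0 n3594
theorem D7940 : act 0 n3594 = n7940 := rfl
def n7941 : Q := act 1 n3594
theorem D7941 : act 1 n3594 = n7941 := rfl
def n7942 : Q := act 5 n3594
theorem D7942 : act 5 n3594 = n7942 := rfl
theorem F12574 : act 3 n7942 = n3597 := d6_1 D7942 (iv5 D3597) (iv3 F5629)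
def n7943 : Q := act 7 n3594
theorem D7943 : act 7 n3594 = n7943 := rfl
theorem F12575 : act 3 n7943 = n3598 := d8_1 D7943 (iv7 D3598) (iv3 F5629)
def n7944 : Q := act 0 n3597
theorem D7944 : act 0 n3597 = n7944 := rfl
def n7945 : Q := act 1 n3597
theorem D7945 : act 1 n3597 = n7945 := rfl
theorem F12576 : act 5 n7945 = n6699 := d17_7 (iv1 F10522) (iv5 D6140) (iv1 D2586) F2257 (iv4 F2760) D3597 D7945 F11514 F11513
def n7946 : Q := act 4 n3597
theorem D7946 : act 4 n3597 = n7946 := rfl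
def n7947 : Q := act 7 n3597
theorem D7947 : act 7 n3597 = n7947 := rfl
theorem F12577 : act 5 n7947 = n3598 := d13_1 D7947 (iv7 D3598) D3597
def n7948 : Q := act 0 n3599
theorem D7948 : act 0 n3599 = n7948 := rfl
theorem F12578 : act 1 n3604 = n7948 := d15_0 (iv0 D7948) (iv7 F5631) (iv2 F5634)
def n7950 : Q := act 3 n3599
theorem D7950 : act 3 n3599 = n7950 := rfl
theorem F12580 : act 7 n7950 = n3605 := d8_2 F5631 D7950 (iv3 D3605)
def n7951 : Q := act 4 n3599
theorem D7951 : act 4 n3599 = n7951 := rfl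
theorem F12582 : act 7 n7951 = n3606 := d11_2 F5631 D7951 (iv4 D3606)
def n7952 : Q := act 5 n3599
theorem D7952 : act 5 n3599 = n7952 := rfl
theorem F12583 : act 2 n7952 = n3602 := d2_1 D7952 (iv5 D3602) D3599
theorem F12584 : act 7 n7952 = n3607 := d13_2 F5631 D7952 (iv5 D3607)
def n7953 : Q := act 6 n3599
theorem D7953 : act 6 n3599 = n7953 := rfl
theorem F12585 : act 2 n7953 = n3603 := d3_1 D7953 (iv6 D3603) D3599
theorem F12586 : act 5 n6471 = n7953 := d2_0 F12585 F5632 (iv2 F10548)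
theorem F12587 : act 7 n6441 = n7953 := d15_2 (iv0 F5633) D6441 F12585
def n7954 : Q := act 0 n3600
theorem D7954 : act 0 n3600 = n7954 := rfl
theorem F12588 : act 2 n5762 = n7954 := d15_3 (iv0 D7954) F10687 D5762
theorem F12589 : act 3 n7954 = n7885 := d0_2 (iv3 F8873) F12588 F12483 F5619 (iv2 F4083)
theorem F12590 : act 5 n7954 = n5767 := d2_2 (iv5 F8874) F12588 F8888
theorem F12591 : act 6 n7954 = n5767 := d3_2 (iv6 F8875) F12588 F8888
theorem F12592 : act 7 n7954 = n5087 := d4_2 D5762 F12588 F7565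
theorem F12593 : act 1 n5761 = n7954 := d15_1 D5761 F12592 F7565
theorem E1665 : n5940 = n5761 := (c18_8 (iv1 F10055) D7361 F11667 F9528 F4137 (iv4 F5618) D7904 (iv4 F12511) F12593 F12590)
theorem F12594 : act 3 n5761 = n2507 := (sb E1665 (iv3 D5940))
theorem F12595 : act 4 n5761 = n7904 := (sb E1665 F12511)
theorem F12596 : act 7 n5761 = n3347 := (sb E1665 F11379)
theorem E1666 : n7289 = n3600 := (c15_4 F10687 D5761 F12596 D7289)
theorem F12597 : act 2 n3600 = n3347 := (sb E1666 (iv2 D7289))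
theorem F12598 : act 4 n3600 = n7903 := (sb E1666 (iv4 F12514))
theorem E1667 : n7295 = n857 := (c20_5 (iv4 F9448) (iv1 F10679) (iv4 D3352) D3351 D7295 (iv3 F2750) (iv4 F5618) D7903 (iv4 F12598) (iv3 D3600) (iv1 F4088))
theorem E1668 : n3351 = n1586 := (((D1586).symm.trans (sb E1667 (iv0 D7295)))).symm
theorem E1671 : n3605 = n1479 := ((D3605).symm.trans (sb E1668 (iv3 D3351)))
theorem E1673 : n7299 = n3607 := (((D3607).symm.trans (sb E1668 D7299))).symm
theorem E1674 : n7300 = n3608 := (((D3608).symm.trans (sb E1668 D7300))).symm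
theorem F12599 : act 3 n1479 = n1586 := (sb E1671 (iv3 D3605))
theorem E1676 : n7950 = n2506 := ((((iv7 F11354)).symm.trans (sb E1671 (iv7 F12580)))).symm
theorem F12600 : act 3 n3607 = n3353 := (sb E1673 F11598)
theorem E1677 : n3405 = n2881 := (((F5635).symm.trans (sb E1673 (iv6 F11599)))).symm
theorem F12601 : act 3 n3608 = n3354 := (sb E1674 F11600)
theorem F12602 : act 3 n2506 = n3599 := (sb E1676 (iv3 D7950))
theorem E1681 : n6469 = n1500 := ((D6469).symm.trans (sb E1677 (iv3 D3405)))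
theorem E1683 : n7094 = n6441 := (((F10500).symm.trans (sb E1677 (iv5 F11347)))).symm
theorem E1684 : n6471 = n5979 := ((D6471).symm.trans (sb E1677 (iv7 F11376)))
theorem F12603 : act 3 n1500 = n2881 := (sb E1681 (iv3 D6469))
theorem F12604 : act 3 n6441 = n3235 := (sb E1683 (iv3 D7094))
theorem F12605 : act 2 n5979 = n2882 := (sb E1684 F10548)
theorem F12606 : act 5 n5979 = n7953 := (sb E1684 F12586)
theorem F12607 : act 7 n5979 = n2881 := (sb E1684 (iv7 D6471))
theorem F12608 : act 3 n7953 = n5876 := d6_1 F12606 F9079 D5979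
theorem E1685 : n7451 = n6472 := ((c0_3 D5979 F12605 D6472 (iv2 D7451) (iv3 D3408) F11359)).symm
theorem F12609 : act 2 n6472 = n3408 := (sb E1685 (iv2 D7451))
theorem E1686 : n7449 = n2880 := (c20_5 (iv4 F9323) (iv1 F11595) (iv4 D3409) D3408 D7449 F4478 (iv4 F2622) (iv1 F11597) (iv4 D3406) F12603 (iv1 F5551))
theorem E1687 : n6466 = n3408 := ((D6466).symm.trans (sb E1686 (iv0 D7449)))
theorem F12610 : act 0 n3408 = n2880 := (sb E1687 (iv1 D6466))
theorem E1688 : n7450 = n5775 := ((D7450).symm.trans (sb E1687 F10539))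
theorem F12611 : act 0 n5775 = n3408 := (sb E1688 (iv1 D7450))
theorem F12612 : act 7 n6465 = n6472 := d15_2 (iv0 F12611) F10544 F12609
theorem F12613 : act 2 n5976 = n6465 := d4_3 F12612 F12609 F11365
theorem E1689 : n6468 = n3523 := (c8_3 F12612 (iv3 D6472) F10547 F12075)
theorem E1690 : n7767 = n2881 := ((D7767).symm.trans (sb E1689 (iv2 D6468)))
theorem E1691 : n7769 = n2882 := ((D7769).symm.trans (sb E1689 (iv7 F10547)))
theorem F12614 : act 2 n2881 = n3523 := (sb E1690 (iv2 D7767))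
theorem E1692 : n7430 = n6470 := (((D6470).symm.trans (sb E1690 F12074))).symm
theorem E1693 : n5979 = n3524 := (((iv7 F12607)).symm.trans (sb E1690 (iv7 F12073)))
theorem E1694 : n7435 = n6473 := (((D6473).symm.trans (sb E1691 F12087))).symm
theorem F12615 : act 7 n2882 = n3523 := (sb E1691 (iv7 D7769))
theorem F12616 : act 2 n6470 = n3400 := (sb E1692 (iv2 D7430))
theorem F12617 : act 7 n6470 = n3401 := (sb E1692 (iv7 F11712))
theorem F12618 : act 2 n3524 = n2882 := (sb E1693 F12605)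
theorem E1695 : n7770 = n2522 := ((D7770).symm.trans (sb E1693 (iv3 D5979)))
theorem E1696 : n7953 = n6082 := ((((iv5 F9455)).symm.trans (sb E1693 F12606))).symm
theorem F12619 : act 7 n3524 = n2881 := (sb E1693 F12607)
theorem F12620 : act 2 n6473 = n3401 := (sb E1694 F11714)
theorem F12621 : act 7 n6473 = n3400 := (sb E1694 (iv7 D7435))
theorem F12622 : act 3 n2522 = n3524 := (sb E1695 (iv3 D7770))
theorem F12623 : act 2 n6082 = n3603 := (sb E1696 F12585)
theorem F12624 : act 3 n6082 = n5876 := (sb E1696 F12608)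
theorem E1697 : n3599 = n2564 := ((((iv6 D6082)).symm.trans (sb E1696 (iv6 D7953)))).symm
theorem F12625 : act 7 n6082 = n6441 := (sb E1696 (iv7 F12587))
theorem E1698 : n7948 = n1587 := ((((iv1 F4086)).symm.trans (sb E1697 D7948))).symm
theorem E1700 : n6078 = n1585 := ((D6078).symm.trans (sb E1697 (iv2 D3599)))
theorem E1701 : n6079 = n2506 := ((D6079).symm.trans (sb E1697 (iv3 F12602)))
theorem E1702 : n7951 = n3342 := ((((iv4 F10684)).symm.trans (sb E1697 D7951))).symm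
theorem E1703 : n7952 = n6081 := (((D6081).symm.trans (sb E1697 D7952))).symm
theorem E1704 : n6083 = n1586 := ((D6083).symm.trans (sb E1697 (iv7 F5631)))
theorem E1705 : n3604 = n2565 := ((((iv1 F4082)).symm.trans (sb E1698 (iv1 F12578)))).symm
theorem F12626 : act 2 n1585 = n2564 := (sb E1700 (iv2 D6078))
theorem E1706 : n7276 = n3601 := (((D3601).symm.trans (sb E1700 (iv4 F11580)))).symm
theorem F12627 : act 3 n2506 = n2564 := (sb E1701 (iv3 D6079))
theorem E1707 : n7279 = n3606 := ((D7279).symm.trans (sb E1702 F12582))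
theorem F12628 : act 2 n6081 = n3602 := (sb E1703 F12583)
theorem F12629 : act 7 n6081 = n3607 := (sb E1703 F12584)
theorem F12630 : act 7 n1586 = n2564 := (sb E1704 (iv7 D6083))
theorem F12631 : act 2 n2565 = n1586 := (sb E1705 F5634)
theorem F12632 : act 7 n2565 = n1585 := (sb E1705 (iv7 D3604))
theorem F12633 : act 2 n3601 = n3342 := (sb E1706 (iv2 D7276))
theorem F12634 : act 7 n3601 = n3343 := (sb E1706 (iv7 F11581))
theorem F12635 : act 2 n3606 = n3343 := (sb E1707 F11586)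
theorem F12636 : act 7 n3606 = n3342 := (sb E1707 (iv7 D7279))
theorem F12637 : act 7 n3600 = n6084 := d8_2 F12632 D3600 (iv3 D6084)
theorem F12638 : act 7 n3602 = n6086 := d13_2 F12632 D3602 (iv5 D6086)
theorem F12639 : act 2 n6086 = n3607 := d4_1 F12638 (iv7 F12629) F12628
theorem F12640 : act 2 n6084 = n5761 := d4_1 F12637 F12596 (iv2 F12597)
theorem E1708 : n7288 = n5087 := (c15_1 D7288 F10683 (iv7 F12637) F12597)
theorem F12641 : act 0 n5087 = n3347 := (sb E1708 (iv1 D7288))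
theorem E1709 : n7287 = n5762 := ((c15_4 (iv0 D7287) (iv0 F12641) (iv7 F12592) (iv2 F12588))).symm
theorem F12642 : act 1 n5762 = n3347 := (sb E1709 (iv0 D7287))
theorem F12643 : act 2 n3608 = n6087 := d3_3 (iv6 D6087) F12631 D3608
theorem F12644 : act 3 n5938 = n6081 := d8_3 F12629 F12600 (iv7 F11369)
theorem F12645 : act 7 n7771 = n6449 := d14_4 F12629 F5635 (iv7 F12619) D7771 (iv6 F10515)
theorem F12646 : act 2 n7771 = n6448 := d15_3 (iv0 D6448) D6449 (iv7 F12645)
theorem E1710 : n7145 = n6449 := ((c7_3 (iv6 F9214) F12644 F10515 (iv3 D7145))).symm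
theorem F12647 : act 3 n6449 = n3291 := (sb E1710 (iv3 D7145))
theorem F12648 : act 3 n5894 = n7771 := d6_3 F12089 F12647 (iv5 F9118)
theorem F12649 : act 2 n6441 = n7768 := d15_3 (iv0 F12084) F9457 F12625
theorem F12650 : act 7 n3603 = n7768 := d4_2 (iv7 F12625) F12623 (iv2 F12649)
theorem E1711 : n7398 = n7392 := (c20_1 D7398 (iv1 F11693) F11691 F5393 (iv1 F4004) F12622 (iv4 F11585) (iv1 D3401) F2616 (iv3 F2613) D3391)
theorem F12651 : act 4 n7392 = n3391 := (sb E1711 (iv4 D7398))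
theorem E1712 : n6470 = n5971 := ((c20_8 (iv4 F9283) (iv1 F9286) F11585 (iv3 F12622) (iv1 D2522) F2145 (iv4 F4003) D5971 (iv4 D6470) (iv3 F12603) (iv1 F4011))).symm
theorem F12652 : act 2 n5971 = n3400 := (sb E1712 F12616)
theorem F12653 : act 4 n5971 = n2881 := (sb E1712 (iv4 D6470))
theorem F12654 : act 7 n5971 = n3401 := (sb E1712 F12617)
theorem E1713 : n6473 = n5972 := (c15_4 F9280 F9285 F12654 (iv2 F12620))
theorem F12655 : act 2 n5972 = n3401 := (sb E1713 F12620)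
theorem F12656 : act 4 n5972 = n2882 := (sb E1713 (iv4 D6473))
theorem F12657 : act 7 n5972 = n3400 := (sb E1713 F12621)
theorem E1714 : n7403 = n7393 := (c20_1 D7403 (iv1 D7393) F5391 F2613 D1500 F12603 (iv4 F12653) (iv1 F9285) F5401 (iv3 F5393) (iv1 F5397))
theorem F12658 : act 4 n7393 = n3392 := (sb E1714 (iv4 D7403))
theorem F12659 : act 0 n7766 = n7402 := d20_4 D3406 F11596 F9323 (iv3 F12070) (iv3 D7402) (iv4 F12658) (iv1 D7393) F5391 F2613 D1500
theorem F12660 : act 1 n5166 = n7402 := d15_0 (iv0 F12659) (iv7 D7766) (iv2 F7686)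
theorem F12661 : act 5 n7911 = n7402 := d21_6 (iv5 D1052) (iv1 F2409) D854 D1579 D3582 D7911 (iv1 F12660) F7688 (iv6 D5166) (iv1 D2124)
theorem F12662 : act 3 n7404 = n7911 := d6_3 F12661 (iv3 D7402) D7404
theorem F12663 : act 0 n6435 = n7911 := d21_10 F12661 (iv1 F12660) F7688 (iv6 D5166) (iv1 D2124) (iv6 F3452) (iv5 D2121) F9939 D2839 D6435
theorem E1715 : n7908 = n5922 := (c7_4 (iv6 F11699) F12662 (iv6 D7911) D7908)
theorem F12664 : act 3 n5922 = n3582 := (sb E1715 (iv3 D7908))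
def n7955 : Q := act 5 n3600
theorem D7955 : act 5 n3600 = n7955 := rfl
theorem F12665 : act 2 n7955 = n7291 := d2_1 D7955 (iv5 D7291) (iv2 F12597)
theorem F12666 : act 3 n7955 = n3602 := d6_1 D7955 (iv5 D3602) D3600
def n7956 : Q := act 6 n3600
theorem D7956 : act 6 n3600 = n7956 := rfl
theorem F12667 : act 2 n7956 = n7091 := d3_1 D7956 F11343 (iv2 F12597)
theorem F12668 : act 3 n7956 = n3603 := d7_1 D7956 (iv6 D3603) D3600
theorem F12669 : act 5 n7956 = n5774 := d21_6 (iv5 D694) D692 D1138 D2411 (iv1 F10687) D7956 (iv1 D5774) F3809 (iv6 D2417) (iv1 D1142)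
theorem E1716 : n6472 = n5774 := ((c2_1 F12669 F12609 (iv5 F11342) (iv2 F12667))).symm
theorem F12670 : act 2 n5774 = n3408 := (sb E1716 F12609)
theorem F12671 : act 3 n5774 = n2882 := (sb E1716 (iv3 D6472))
theorem F12672 : act 7 n5774 = n6465 := (sb E1716 (iv7 F12612))
theorem F12673 : act 0 n5734 = n7956 := d21_10 F12669 (iv1 D5774) F3809 (iv6 D2417) (iv1 D1142) (iv6 F2079) (iv5 D1136) D1134 D2399 D5734
theorem E1717 : n5976 = n5773 := (c15_4 (iv0 D5773) D5774 F12672 (iv2 F12613))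
theorem F12674 : act 2 n5773 = n6465 := (sb E1717 F12613)
theorem F12675 : act 3 n5773 = n2521 := (sb E1717 (iv3 D5976))
theorem F12676 : act 7 n5773 = n3408 := (sb E1717 (iv7 F11365))
theorem E1718 : n5996 = n5977 := ((c20_1 D5977 (iv1 F9325) F5416 (iv3 F10541) (iv1 F10545) F12671 (iv4 F12656) (iv1 D5972) F4003 F2145 D2521)).symm
theorem F12677 : act 0 n5977 = n3430 := (sb E1718 (iv1 F9325))
theorem F12678 : act 1 n5977 = n2529 := (sb E1718 (iv0 D5996))
theorem E1719 : n5997 = n5980 := (c15_2 F12678 D5997 F11377 F11367)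
theorem F12679 : act 0 n5980 = n2529 := (sb E1719 (iv1 D5997))
theorem F12680 : act 1 n5980 = n3430 := (sb E1719 F9320)
theorem E1720 : n7764 = n7397 := (c20_5 D5980 F12679 F4027 (iv3 F5543) D7764 (iv3 D7397) (iv4 F12651) (iv1 F11693) F11691 F5393 (iv1 F4004))
theorem F12681 : act 1 n7397 = n3522 := (sb E1720 (iv0 D7764))
def n7957 : Q := act 3 n3601
theorem D7957 : act 3 n3601 = n7957 := rfl
theorem F12682 : act 7 n7957 = n7280 := d8_2 (iv7 F12634) D7957 (iv3 D7280)
def n7958 : Q := act 5 n3601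
theorem D7958 : act 5 n3601 = n7958 := rfl
theorem F12683 : act 2 n7958 = n7278 := d2_1 D7958 (iv5 D7278) (iv2 F12633)
theorem F12684 : act 7 n7958 = n7281 := d13_2 (iv7 F12634) D7958 (iv5 D7281)
def n7959 : Q := act 6 n3601
theorem D7959 : act 6 n3601 = n7959 := rfl
theorem F12685 : act 2 n7959 = n7086 := d3_1 D7959 F11583 (iv2 F12633)
theorem F12686 : act 4 n7959 = n3603 := d10_1 D7959 (iv6 D3603) D3601
theorem F12687 : act 7 n7087 = n7959 := d11_0 F12686 F12650 F12081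
theorem F12688 : act 0 n5875 = n7959 := d18_2 (iv1 D5877) (iv4 F9078) F12686 F5632 (iv4 F12656) F9280 F5401 F4009 F9083
theorem F12689 : act 1 n7089 = n7959 := d18_6 F12084 F12081 (iv1 D7087) F5028 D3236 (iv4 F11337) F12686 (iv0 F5633) (iv5 F8098)
def n7960 : Q := act 4 n3602
theorem D7960 : act 4 n3602 = n7960 := rfl
theorem F12690 : act 7 n7960 = n7434 := d11_2 (iv7 F12638) D7960 F12077
theorem F12691 : act 5 n7960 = n7355 := d17_5 (iv1 D2586) F2257 D1585 D3602 D7960 (iv0 D7355) (iv5 D3375) D3374 F10664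
theorem F12692 : act 1 n7960 = n7638 := d18_6 (iv1 D2507) (iv4 F3965) (iv1 F10686) (iv4 D3601) D3602 D7960 F11858 (iv0 F9218) (iv5 D5942)
theorem F12694 : act 6 n7960 = n7139 := d21_3 D3375 D7355 (iv5 F12691) (iv1 D7139) (iv6 D3286) D3285 D7135 F11450 (iv6 F10665) (iv1 D3374)
def n7961 : Q := act 6 n3602
theorem D7961 : act 6 n3602 = n7961 := rfl
theorem F12695 : act 2 n7961 = n6449 := d3_1 D7961 (iv6 F10515) F12628
theorem F12696 : act 4 n7961 = n7139 := d10_1 D7961 (iv6 F12694) (iv4 D7960)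
theorem F12697 : act 5 n7961 = n6448 := d12_1 D7961 F10514 (iv5 F5632) (iv6 D3603) D3602
theorem F12698 : act 7 n7961 = n6448 := d14_2 (iv7 F12638) D7961 F10514 F12615 (iv6 F9459)
theorem F12699 : act 0 n7961 = n5114 := d21_4 F2257 D1585 D3602 D7961 (iv6 D5114) (iv5 F3711) F8038 (iv5 F8033) F8034 (iv1 D2586)
theorem F12700 : act 1 n7961 = n6450 := d15_1 (iv0 F12699) (iv7 D6450) F7894
def n7962 : Q := act 3 n3606
theorem D7962 : act 3 n3606 = n7962 := rfl
theorem F12701 : act 4 n7962 = n7301 := d5_2 D3606 D7962 (iv3 D7301) (iv4 D3352) F12599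
theorem F12702 : act 7 n7962 = n7277 := d8_2 (iv7 F12636) D7962 (iv3 D7277)
def n7963 : Q := act 5 n3606
theorem D7963 : act 5 n3606 = n7963 := rfl
theorem F12703 : act 2 n7963 = n7281 := d2_1 D7963 (iv5 D7281) (iv2 F12635)
theorem F12704 : act 7 n7963 = n7278 := d13_2 (iv7 F12636) D7963 (iv5 D7278)
theorem F12705 : act 1 n7281 = n7161 := d15_0 (iv0 F11582) (iv7 F12704) F12703
theorem E1721 : n7160 = n6602 := (c17_9 F9560 (iv5 F8159) F9460 (iv5 D6086) (iv4 F10673) D7281 F12705 (iv5 D7161) D7160 F10699)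
theorem F12706 : act 0 n6602 = n3301 := (sb E1721 (iv1 D7160))
def n7964 : Q := act 6 n3606
theorem D7964 : act 6 n3606 = n7964 := rfl
theorem F12707 : act 2 n7964 = n7282 := d3_1 D7964 (iv6 D7282) (iv2 F12635)
theorem F12708 : act 4 n7964 = n3608 := d10_1 D7964 (iv6 D3608) D3606
def n7965 : Q := act 4 n3607
theorem D7965 : act 4 n3607 = n7965 := rfl
theorem F12709 : act 2 n7965 = n7434 := d1_1 D7965 F12077 F12639
theorem F12710 : act 6 n7965 = n5971 := d10_2 (iv6 F5635) D7965 F12653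
theorem F12711 : act 1 n7965 = n7704 := d18_6 (iv1 F3970) (iv4 F5332) (iv1 F10668) (iv4 D3606) D3607 D7965 F11979 (iv0 F9215) (iv5 D5938)
theorem F12712 : act 5 n7356 = n7965 := d17_7 F9220 (iv5 D5942) (iv1 D2507) F2129 (iv4 F2607) D3375 D7356 F12711 F11979
def n7966 : Q := act 5 n3608
theorem D7966 : act 5 n3608 = n7966 := rfl
theorem F12713 : act 3 n7966 = n7096 := d6_1 D7966 F11348 (iv3 F12601)
theorem F12714 : act 6 n7966 = n6441 := d12_2 D3608 D7966 (iv5 F10500) (iv6 F5635) (iv5 D3607)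
theorem F12715 : act 0 n7966 = n7873 := d21_1 D7966 (iv5 D7873) D7874 (iv1 F12458) D7961 F12697 F12569 (iv5 D7928) (iv6 F10571) (iv1 F12449)
theorem F12716 : act 0 n7871 = n7966 := d21_10 (iv5 D7966) F10569 (iv5 D6503) F4492 (iv1 F7941) F7943 (iv5 D2260) (iv1 F7889) D5361 (iv6 F12446)
theorem F12717 : act 7 n7966 = n3608 := d15_2 F12454 (iv0 F12715) F12643
def n7967 : Q := act 4 n3609
theorem D7967 : act 4 n3609 = n7967 := rfl
theorem F12718 : act 2 n7967 = n6055 := d1_1 D7967 (iv4 D6055) (iv2 F12327)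
theorem F12719 : act 7 n7967 = n6050 := d11_2 (iv7 F12328) D7967 (iv4 D6050)
def n7968 : Q := act 5 n3609
theorem D7968 : act 5 n3609 = n7968 := rfl
theorem F12720 : act 2 n7968 = n6056 := d2_1 D7968 (iv5 D6056) (iv2 F12327)
theorem F12721 : act 7 n7968 = n6051 := d13_2 (iv7 F12328) D7968 (iv5 D6051)
def n7969 : Q := act 6 n3609
theorem D7969 : act 6 n3609 = n7969 := rfl
theorem F12722 : act 2 n7969 = n6057 := d3_1 D7969 (iv6 D6057) (iv2 F12327)
def n7970 : Q := act 3 n3610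
theorem D7970 : act 3 n3610 = n7970 := rfl
theorem F12723 : act 7 n7970 = n6054 := d8_2 (iv7 F12330) D7970 (iv3 D6054)
theorem F12724 : act 1 n3630 = n7970 := d15_1 (iv0 F12353) F12723 (iv2 F12351)
def n7971 : Q := act 4 n3610
theorem D7971 : act 4 n3610 = n7971 := rfl
theorem F12725 : act 2 n7971 = n6050 := d1_1 D7971 (iv4 D6050) (iv2 F12329)
theorem F12726 : act 7 n7971 = n6055 := d11_2 (iv7 F12330) D7971 (iv4 D6055)
theorem F12727 : act 3 n7971 = n6088 := d20_3 F4066 (iv1 F5641) D7971 (iv1 F9461) F6118 (iv4 D4217) (iv1 F3060) D3981 (iv3 F5928) (iv1 F5636)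
theorem F12728 : act 1 n3634 = n6055 := d15_1 (iv0 F12355) (iv7 F12726) F12725
def n7972 : Q := act 5 n3610
theorem D7972 : act 5 n3610 = n7972 := rfl
theorem F12729 : act 2 n7972 = n6051 := d2_1 D7972 (iv5 D6051) (iv2 F12329)
theorem F12730 : act 7 n7972 = n6056 := d13_2 (iv7 F12330) D7972 (iv5 D6056)
def n7973 : Q := act 6 n3610
theorem D7973 : act 6 n3610 = n7973 := rfl
theorem F12731 : act 2 n7973 = n6052 := d3_1 D7973 (iv6 D6052) (iv2 F12329)
def n7974 : Q := act 5 n3611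
theorem D7974 : act 5 n3611 = n7974 := rfl
theorem F12732 : act 2 n7974 = n3612 := d2_1 D7974 (iv5 D3612) D3611
theorem F12733 : act 3 n7974 = n7796 := d6_1 D7974 (iv5 D7796) (iv3 F5637)
theorem F12734 : act 7 n7974 = n6058 := d13_2 (iv7 F5639) D7974 (iv5 D6058)
theorem F12735 : act 1 n6060 = n7974 := d15_1 D6060 F12734 F9416
theorem F12736 : act 1 n7974 = n6059 := d15_0 (iv0 D6059) (iv7 F5644) (iv2 F12732)
def n7975 : Q := act 6 n3611
theorem D7975 : act 6 n3611 = n7975 := rfl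
theorem F12737 : act 2 n7975 = n3613 := d3_1 D7975 (iv6 D3613) D3611
theorem F12738 : act 3 n7975 = n7797 := d7_1 D7975 (iv6 D7797) (iv3 F5637)
theorem F12739 : act 4 n7975 = n7975 := d10_1 D7975 (iv6 D7975) F5638
theorem F12740 : act 7 n7975 = n6226 := d14_2 (iv7 F5639) D7975 (iv6 D6226) F4212 (iv6 F4067)
theorem F12741 : act 1 n6274 = n7975 := d15_1 D6274 F12740 F9705
theorem F12742 : act 1 n7975 = n6273 := d15_0 (iv0 D6273) (iv7 F5647) (iv2 F12737)
def n7976 : Q := act 0 n3612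
theorem D7976 : act 0 n3612 = n7976 := rfl
theorem F12743 : act 1 n6058 = n7976 := d15_0 (iv0 D7976) F5644 (iv2 F9416)
def n7977 : Q := act 1 n3612
theorem D7977 : act 1 n3612 = n7977 := rfl
theorem F12744 : act 1 n7977 = n6058 := d15_1 D7977 (iv7 F12734) F12732
def n7978 : Q := act 4 n3612
theorem D7978 : act 4 n3612 = n7978 := rfl
theorem F12745 : act 3 n7978 = n7751 := d5_1 D7978 (iv4 D7751) F5524 (iv4 F2764) (iv3 F5643)
theorem F12746 : act 7 n7978 = n6061 := d11_2 (iv7 F5644) D7978 (iv4 D6061)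
def n7979 : Q := act 6 n3612
theorem D7979 : act 6 n3612 = n7979 := rfl
theorem F12747 : act 3 n7979 = n3614 := d7_1 D7979 (iv6 D3614) (iv3 F5643)
def n7980 : Q := act 0 n3613
theorem D7980 : act 0 n3613 = n7980 := rfl
theorem F12748 : act 1 n6226 = n7980 := d15_0 (iv0 D7980) F5647 (iv2 F9705)
def n7981 : Q := act 1 n3613
theorem D7981 : act 1 n3613 = n7981 := rfl
theorem F12749 : act 1 n7981 = n6226 := d15_1 D7981 (iv7 F12740) F12737
def n7982 : Q := act 5 n3613
theorem D7982 : act 5 n3613 = n7982 := rfl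
theorem F12750 : act 3 n7982 = n3615 := d6_1 D7982 (iv5 D3615) (iv3 F5645)
theorem F12751 : act 7 n7982 = n6275 := d13_2 (iv7 F5647) D7982 (iv5 D6275)
def n7983 : Q := act 0 n3614
theorem D7983 : act 0 n3614 = n7983 := rfl
theorem F12752 : act 6 n7983 = n7854 := d21_5 F1660 (iv1 F1621) D1589 D3614 D7983 (iv5 D7854) (iv1 D3560) F2724 (iv6 D897) D894
theorem F12753 : act 0 n7983 = n7856 := d21_4 (iv5 F9426) (iv1 F9428) D7854 (iv6 F12752) (iv6 D7856) F5583 (iv1 F4237) (iv5 F5861) (iv6 D3923) (iv1 F4241)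
def n7984 : Q := act 1 n3614
theorem D7984 : act 1 n3614 = n7984 := rfl
theorem F12754 : act 1 n7984 = n7856 := d15_1 D7984 F12401 (iv2 F5648)
def n7985 : Q := act 5 n3614
theorem D7985 : act 5 n3614 = n7985 := rfl
theorem F12755 : act 2 n7985 = n7859 := d2_1 D7985 (iv5 D7859) (iv2 F5648)
theorem F12756 : act 6 n7985 = n3615 := d12_2 D3614 D7985 (iv5 D3615) (iv6 D1590) D1589
def n7986 : Q := act 7 n3614
theorem D7986 : act 7 n3614 = n7986 := rfl
theorem F12757 : act 2 n7986 = n7856 := d4_1 D7986 F12401 (iv2 F5648)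
theorem F12758 : act 4 n7986 = n7756 := d11_1 D7986 (iv7 D7756) (iv4 F5649)
theorem F12759 : act 6 n7986 = n6067 := d14_1 D7986 (iv7 D6067) (iv6 D2560) (iv7 F2765) D3614
theorem F12760 : act 1 n7858 = n7986 := d15_1 D7858 (iv7 D7986) F5648
theorem F12761 : act 1 n7986 = n7857 := d15_0 (iv0 D7857) (iv7 F12401) (iv2 F12757)
def n7987 : Q := act 4 n3615
theorem D7987 : act 4 n3615 = n7987 := rfl
theorem F12762 : act 2 n7987 = n7860 := d1_1 D7987 (iv4 D7860) (iv2 F5650)
theorem F12763 : act 7 n7987 = n6314 := d11_2 (iv7 F5651) D7987 (iv4 D6314)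
theorem F12764 : act 5 n7987 = n3938 := d16_1 D7987 (iv4 D3938) (iv5 D1699) F1663 F856 (iv4 F1663) D1699 (iv7 F5584) (iv2 F5650)
theorem F12765 : act 1 n7987 = n3659 := d18_6 F2939 F2263 F1626 (iv4 F2769) D3615 D7987 (iv4 D3659) D3658 F5680
def n7988 : Q := act 4 n3616
theorem D7988 : act 4 n3616 = n7988 := rfl
theorem F12766 : act 2 n7988 = n7807 := d1_1 D7988 (iv4 F12340) F12342
theorem F12767 : act 3 n7988 = n7813 := d5_1 D7988 F12350 (iv3 D6054) D6055 (iv3 F9415)
theorem F12768 : act 7 n7988 = n7805 := d11_2 F12345 D7988 (iv4 F12344)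
theorem F12769 : act 1 n7804 = n7988 := d15_1 D7804 F12768 (iv2 D7805)
theorem F12770 : act 0 n6148 = n6054 := d20_1 D6148 (iv4 F12350) (iv3 F12767) (iv1 F12769) (iv3 F12337) (iv4 D6143) (iv1 F4148) (iv4 F4094) F4093 (iv1 F4153)
theorem F12771 : act 1 n7988 = n7803 := d15_0 (iv0 D7803) D7807 (iv2 F12766)
def n7989 : Q := act 5 n3616
theorem D7989 : act 5 n3616 = n7989 := rfl
def n7990 : Q := act 6 n3616
theorem D7990 : act 6 n3616 = n7990 := rfl
def n7991 : Q := act 3 n3617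
theorem D7991 : act 3 n3617 = n7991 := rfl
theorem F12772 : act 4 n7991 = n4230 := d5_2 F5653 D7991 (iv3 F6141) (iv4 D3540) D3539
theorem F12773 : act 0 n3691 = n7991 := d20_1 (iv4 F5705) F12772 (iv3 F6141) F12107 (iv3 F12127) F12128 (iv1 F5906) F5904 F2997 (iv1 F3001)
theorem F12774 : act 0 n7991 = n3993 := d20_1 (iv4 F12772) (iv4 D3993) F3127 F6268 (iv3 D1775) D1776 (iv1 F6042) (iv4 F12186) (iv3 F12187) F12190
def n7992 : Q := act 5 n3617
theorem D7992 : act 5 n3617 = n7992 := rfl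
def n7993 : Q := act 6 n3617
theorem D7993 : act 6 n3617 = n7993 := rfl
theorem F12775 : act 4 n7993 = n7806 := d10_1 D7993 (iv6 D7806) F5653
def n7994 : Q := act 5 n3618
theorem D7994 : act 5 n3618 = n7994 := rfl
theorem F12776 : act 2 n7994 = n3619 := d2_1 D7994 (iv5 D3619) D3618
def n7995 : Q := act 6 n3618
theorem D7995 : act 6 n3618 = n7995 := rfl
theorem F12777 : act 2 n7995 = n3620 := d3_1 D7995 (iv6 D3620) D3618
theorem F12778 : act 4 n7995 = n7995 := d10_1 D7995 (iv6 D7995) F5654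
def n7996 : Q := act 0 n3619
theorem D7996 : act 0 n3619 = n7996 := rfl
def n7997 : Q := act 1 n3619
theorem D7997 : act 1 n3619 = n7997 := rfl
def n7998 : Q := act 4 n3619
theorem D7998 : act 4 n3619 = n7998 := rfl
def n7999 : Q := act 6 n3619
theorem D7999 : act 6 n3619 = n7999 := rfl
theorem F12779 : act 3 n7999 = n3621 := d7_1 D7999 (iv6 D3621) (iv3 F5655)
def n8000 : Q := act 0 n3620
theorem D8000 : act 0 n3620 = n8000 := rfl
def n8001 : Q := act 1 n3620
theorem D8001 : act 1 n3620 = n8001 := rfl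
def n8002 : Q := act 5 n3620
theorem D8002 : act 5 n3620 = n8002 := rfl
theorem F12780 : act 3 n8002 = n3622 := d6_1 D8002 (iv5 D3622) (iv3 F5656)
def n8003 : Q := act 0 n3621
theorem D8003 : act 0 n3621 = n8003 := rfl
def n8004 : Q := act 1 n3621
theorem D8004 : act 1 n3621 = n8004 := rfl
def n8005 : Q := act 5 n3621
theorem D8005 : act 5 n3621 = n8005 := rfl
theorem F12781 : act 6 n8005 = n3622 := d12_2 D3621 D8005 (iv5 D3622) (iv6 D1593) D1592
def n8006 : Q := act 7 n3621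
theorem D8006 : act 7 n3621 = n8006 := rfl
def n8007 : Q := act 4 n3622
theorem D8007 : act 4 n3622 = n8007 := rfl
def n8008 : Q := act 6 n3623
theorem D8008 : act 6 n3623 = n8008 := rfl
def n8009 : Q := act 3 n3624
theorem D8009 : act 3 n3624 = n8009 := rfl
def n8010 : Q := act 6 n3624
theorem D8010 : act 6 n3624 = n8010 := rfl
theorem F12782 : act 4 n8010 = n4937 := d10_1 D8010 F7355 F6296
theorem F12783 : act 0 n8010 = n3714 := d20_7 F1826 (iv1 F1166) (iv4 F1213) (iv3 F1894) D2032 D4937 (iv4 F12782) F5714 F3063 (iv1 F1828)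
def n8011 : Q := act 5 n3625
theorem D8011 : act 5 n3625 = n8011 := rfl
theorem F12784 : act 2 n8011 = n3626 := d2_1 D8011 (iv5 D3626) D3625
theorem F12785 : act 1 n8011 = n3955 := d17_6 D928 D1749 (iv1 F7179) (iv5 D3984) (iv4 F5659) D8011 (iv5 D3955) (iv0 D1714) F1708
theorem F12786 : act 1 n3959 = n8011 := d15_0 F12785 (iv7 F6966) F6964
def n8012 : Q := act 4 n3626
theorem D8012 : act 4 n3626 = n8012 := rfl
def n8013 : Q := act 6 n3626
theorem D8013 : act 6 n3626 = n8013 := rfl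
theorem F12787 : act 3 n8013 = n3627 := d7_1 D8013 (iv6 D3627) (iv3 F5661)
theorem F12788 : act 5 n8013 = n3965 := d12_1 D8013 (iv6 D3965) (iv5 D1717) (iv6 F2775) D3626
def n8014 : Q := act 0 n3627
theorem D8014 : act 0 n3627 = n8014 := rfl
def n8015 : Q := act 1 n3627
theorem D8015 : act 1 n3627 = n8015 := rfl
def n8016 : Q := act 7 n3627
theorem D8016 : act 7 n3627 = n8016 := rfl
theorem F12789 : act 5 n8016 = n3972 := d13_1 D8016 (iv7 D3972) (iv5 F5662)
def n8019 : Q := act 3 n3628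
theorem D8019 : act 3 n3628 = n8019 := rfl
theorem F12792 : act 7 n8019 = n3634 := d8_2 F5663 D8019 (iv3 D3634)
def n8020 : Q := act 4 n3628
theorem D8020 : act 4 n3628 = n8020 := rfl
theorem F12793 : act 2 n8020 = n3630 := d1_1 D8020 (iv4 D3630) D3628
theorem F12794 : act 7 n8020 = n3635 := d11_2 F5663 D8020 (iv4 D3635)
theorem F12795 : act 3 n7787 = n8020 := d8_3 F12794 (iv3 F5666) D7787
theorem F12796 : act 1 n7970 = n3635 := d15_1 F12724 (iv7 F12794) F12793
def n8021 : Q := act 5 n3628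
theorem D8021 : act 5 n3628 = n8021 := rfl
theorem F12797 : act 2 n8021 = n3631 := d2_1 D8021 (iv5 D3631) D3628
theorem F12798 : act 7 n8021 = n3636 := d13_2 F5663 D8021 (iv5 D3636)
def n8022 : Q := act 6 n3628
theorem D8022 : act 6 n3628 = n8022 := rfl
theorem F12799 : act 2 n8022 = n3632 := d3_1 D8022 (iv6 D3632) D3628
def n8023 : Q := act 0 n3629
theorem D8023 : act 0 n3629 = n8023 := rfl
def n8024 : Q := act 2 n3629
theorem D8024 : act 2 n3629 = n8024 := rfl
theorem F12800 : act 4 n8024 = n7787 := d1_2 (iv4 F5664) D8024 F12255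
theorem F12801 : act 7 n7784 = n8024 := d11_0 F12800 (iv7 D7787) D7784
theorem F12802 : act 1 n4120 = n7784 := d15_1 (iv0 F6043) F12801 (iv2 D8024)
def n8025 : Q := act 5 n3629
theorem D8025 : act 5 n3629 = n8025 := rfl
theorem F12803 : act 3 n8025 = n3631 := d6_1 D8025 (iv5 D3631) D3629
def n8026 : Q := act 6 n3629
theorem D8026 : act 6 n3629 = n8026 := rfl
theorem F12804 : act 3 n8026 = n3632 := d7_1 D8026 (iv6 D3632) D3629
theorem F12805 : act 4 n8026 = n7790 := d10_1 D8026 (iv6 D7790) (iv4 F5664)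
def n8027 : Q := act 7 n3629
theorem D8027 : act 7 n3629 = n8027 := rfl
theorem F12806 : act 2 n8027 = n7784 := d4_1 D8027 F12801 (iv2 D8024)
theorem F12807 : act 3 n8027 = n3633 := d8_1 D8027 (iv7 D3633) D3629
theorem F12808 : act 4 n8027 = n7783 := d11_1 D8027 (iv7 F12254) (iv4 F5664)
theorem F12809 : act 1 n7784 = n8023 := d15_0 (iv0 D8023) D8027 F12806
def n8028 : Q := act 3 n3630
theorem D8028 : act 3 n3630 = n8028 := rfl
theorem F12810 : act 2 n8028 = n7788 := d0_1 D8028 (iv3 D7788) (iv2 F12255) F12795 F12793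
theorem F12811 : act 4 n8028 = n7788 := d5_2 D3630 D8028 (iv3 D7788) (iv4 F5664) (iv3 D3629)
theorem F12812 : act 0 n8028 = n7807 := d20_4 F2225 D1596 D3630 D8028 F12339 F12294 F12189 F12186 F12183 (iv1 D2569)
theorem E1722 : n7803 = n7788 := (c20_2 (iv4 F5653) D7803 (iv4 F12811) (iv3 D8028) F12353 F12352 (iv4 D4209) (iv1 F3055) (iv4 F5659) (iv3 F9462) F9468)
theorem F12813 : act 0 n7788 = n7988 := (sb E1722 (iv1 F12771))
theorem F12814 : act 1 n7788 = n3539 := (sb E1722 (iv0 D7803))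
theorem F12815 : act 7 n7804 = n8028 := d15_2 F12814 D7804 F12810
theorem F12816 : act 7 n3630 = n6143 := d8_2 F12815 (iv3 D8028) F12337
theorem F12817 : act 2 n6143 = n3635 := d4_1 F12816 (iv7 F12794) F12793
theorem E1723 : n6146 = n1596 := (c11_3 F12816 (iv4 D6143) D6146 D3630)
theorem E1724 : n3628 = n2589 := ((D3628).symm.trans (sb E1723 F9563))
theorem E1725 : n3633 = n2588 := ((D3633).symm.trans (sb E1723 (iv7 D6146)))
theorem F12818 : act 2 n2589 = n1596 := (sb E1724 (iv2 D3628))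
theorem E1728 : n8019 = n6147 := (((D6147).symm.trans (sb E1724 D8019))).symm
theorem E1729 : n8020 = n6148 := (((D6148).symm.trans (sb E1724 D8020))).symm
theorem E1730 : n8021 = n6149 := (((D6149).symm.trans (sb E1724 D8021))).symm
theorem E1731 : n8022 = n6150 := (((D6150).symm.trans (sb E1724 D8022))).symm
theorem E1732 : n6141 = n1597 := ((F9561).symm.trans (sb E1724 (iv7 F5663)))
theorem E1733 : n8027 = n6142 := (((D6142).symm.trans (sb E1725 (iv3 F12807)))).symm
theorem F12819 : act 7 n2588 = n1596 := (sb E1725 (iv7 D3633))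
theorem F12820 : act 7 n6147 = n3634 := (sb E1728 F12792)
theorem F12821 : act 2 n6148 = n3630 := (sb E1729 F12793)
theorem E1734 : n7787 = n3944 := (((F9564).symm.trans (sb E1729 (iv3 F12795)))).symm
theorem F12822 : act 7 n6148 = n3635 := (sb E1729 F12794)
theorem F12823 : act 2 n6149 = n3631 := (sb E1730 F12797)
theorem F12824 : act 7 n6149 = n3636 := (sb E1730 F12798)
theorem F12825 : act 2 n6150 = n3632 := (sb E1731 F12799)
theorem F12826 : act 2 n1597 = n2588 := (sb E1732 (iv2 D6141))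
theorem F12827 : act 7 n1597 = n2589 := (sb E1732 (iv7 F9561))
theorem F12828 : act 2 n6142 = n7784 := (sb E1733 F12806)
theorem E1735 : n7783 = n3945 := (((F9562).symm.trans (sb E1733 F12808))).symm
theorem F12829 : act 7 n6142 = n3629 := (sb E1733 (iv7 D8027))
theorem F12830 : act 2 n3944 = n3533 := (sb E1734 F12255)
theorem F12831 : act 4 n3944 = n8024 := (sb E1734 (iv4 F12800))
theorem F12832 : act 7 n3944 = n3532 := (sb E1734 (iv7 D7787))
theorem F12833 : act 2 n3945 = n3532 := (sb E1735 (iv2 D7783))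
theorem F12834 : act 7 n3945 = n3533 := (sb E1735 (iv7 F12254))
theorem F12835 : act 2 n6144 = n3636 := d2_3 (iv5 D3636) F12826 D6144
theorem F12836 : act 2 n6145 = n3637 := d3_3 (iv6 D3637) F12826 D6145
theorem F12837 : act 7 n3631 = n6144 := d4_0 F12835 (iv7 F12824) F12823
theorem F12838 : act 1 n6143 = n6054 := d15_0 (iv0 F12770) F12822 (iv2 F12817)
theorem F12839 : act 1 n8028 = n7805 := d15_1 (iv0 F12812) (iv7 F12768) F12766
def n8029 : Q := act 5 n3630
theorem D8029 : act 5 n3630 = n8029 := rfl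
def n8030 : Q := act 6 n3630
theorem D8030 : act 6 n3630 = n8030 := rfl
theorem F12840 : act 4 n8030 = n3632 := d10_1 D8030 (iv6 D3632) D3630
def n8031 : Q := act 0 n3631
theorem D8031 : act 0 n3631 = n8031 := rfl
theorem F12841 : act 1 n3636 = n8031 := d15_0 (iv0 D8031) F12837 F12835
def n8032 : Q := act 1 n3631
theorem D8032 : act 1 n3631 = n8032 := rfl
def n8033 : Q := act 4 n3631
theorem D8033 : act 4 n3631 = n8033 := rfl
def n8034 : Q := act 6 n3631
theorem D8034 : act 6 n3631 = n8034 := rfl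
def n8035 : Q := act 0 n3632
theorem D8035 : act 0 n3632 = n8035 := rfl
def n8036 : Q := act 1 n3632
theorem D8036 : act 1 n3632 = n8036 := rfl
def n8037 : Q := act 5 n3632
theorem D8037 : act 5 n3632 = n8037 := rfl
def n8038 : Q := act 7 n3632
theorem D8038 : act 7 n3632 = n8038 := rfl
def n8039 : Q := act 2 n3634
theorem D8039 : act 2 n3634 = n8039 := rfl
theorem F12843 : act 3 n8039 = n7784 := d0_2 D3634 D8039 (iv2 F12828) (iv3 D6142) (iv2 F12826)
theorem F12844 : act 4 n3634 = n8039 := d5_0 F12843 (iv4 D7784) F5666 (iv4 D3635) D3634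
theorem F12845 : act 0 n8039 = n7971 := d20_4 F2715 D3532 D7784 (iv3 F12843) F12727 F12344 (iv1 F12839) F12811 (iv3 D7788) (iv1 D3533)
theorem F12846 : act 1 n8039 = n7967 := d15_1 (iv0 F12845) F12719 (iv2 F12725)
theorem F12847 : act 1 n7967 = n6147 := d15_1 F12846 F12820 D8039
theorem F12848 : act 1 n6147 = n7971 := d15_1 F12847 F12726 (iv2 F12718)
def n8040 : Q := act 5 n3634
theorem D8040 : act 5 n3634 = n8040 := rfl
theorem F12849 : act 3 n8040 = n3636 := d6_1 D8040 (iv5 D3636) D3634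
def n8041 : Q := act 6 n3634
theorem D8041 : act 6 n3634 = n8041 := rfl
theorem F12850 : act 3 n8041 = n3637 := d7_1 D8041 (iv6 D3637) D3634
def n8042 : Q := act 5 n3635
theorem D8042 : act 5 n3635 = n8042 := rfl
theorem F12851 : act 3 n8042 = n7785 := d6_1 D8042 (iv5 D7785) F5666
def n8043 : Q := act 6 n3635
theorem D8043 : act 6 n3635 = n8043 := rfl
theorem F12852 : act 3 n8043 = n7786 := d7_1 D8043 (iv6 D7786) F5666
theorem F12853 : act 4 n8043 = n3637 := d10_1 D8043 (iv6 D3637) D3635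
def n8044 : Q := act 4 n3636
theorem D8044 : act 4 n3636 = n8044 := rfl
def n8045 : Q := act 6 n3636
theorem D8045 : act 6 n3636 = n8045 := rfl
def n8049 : Q := act 7 n3637
theorem D8049 : act 7 n3637 = n8049 := rfl
def n8050 : Q := act 4 n3638
theorem D8050 : act 4 n3638 = n8050 := rfl
theorem F12854 : act 2 n8050 = n3642 := d1_1 D8050 (iv4 D3642) (iv2 F5667)
def n8051 : Q := act 6 n3638
theorem D8051 : act 6 n3638 = n8051 := rfl
theorem F12855 : act 2 n8051 = n3643 := d3_1 D8051 (iv6 D3643) (iv2 F5667)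
def n8052 : Q := act 0 n3639
theorem D8052 : act 0 n3639 = n8052 := rfl
def n8053 : Q := act 1 n3639
theorem D8053 : act 1 n3639 = n8053 := rfl
theorem F12856 : act 1 n8053 = n3647 := d15_1 D8053 (iv7 D3647) (iv2 F5668)
def n8054 : Q := act 5 n3639
theorem D8054 : act 5 n3639 = n8054 := rfl
theorem F12857 : act 2 n8054 = n3646 := d2_1 D8054 (iv5 D3646) (iv2 F5668)
def n8055 : Q := act 7 n3639
theorem D8055 : act 7 n3639 = n8055 := rfl
theorem F12858 : act 2 n8055 = n3647 := d4_1 D8055 (iv7 D3647) (iv2 F5668)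
theorem F12859 : act 1 n3647 = n8052 := d15_0 (iv0 D8052) D8055 F12858
theorem F12860 : act 1 n3645 = n8055 := d15_1 D3645 (iv7 D8055) F5668
theorem F12861 : act 1 n8055 = n3644 := d15_0 (iv0 D3644) D3647 (iv2 F12858)
def n8056 : Q := act 2 n3640
theorem D8056 : act 2 n3640 = n8056 := rfl
theorem F12862 : act 7 n3641 = n8056 := d15_2 (iv0 D3640) D3641 (iv2 D8056)
def n8057 : Q := act 3 n3640
theorem D8057 : act 3 n3640 = n8057 := rfl
def n8058 : Q := act 4 n3640
theorem D8058 : act 4 n3640 = n8058 := rfl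
def n8059 : Q := act 5 n3640
theorem D8059 : act 5 n3640 = n8059 := rfl
def n8060 : Q := act 6 n3640
theorem D8060 : act 6 n3640 = n8060 := rfl
def n8061 : Q := act 7 n3640
theorem D8061 : act 7 n3640 = n8061 := rfl
theorem F12863 : act 2 n8061 = n3641 := d4_1 D8061 F12862 (iv2 D8056)
def n8062 : Q := act 3 n3641
theorem D8062 : act 3 n3641 = n8062 := rfl
def n8063 : Q := act 4 n3641
theorem D8063 : act 4 n3641 = n8063 := rfl
def n8064 : Q := act 5 n3641
theorem D8064 : act 5 n3641 = n8064 := rfl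
def n8065 : Q := act 6 n3641
theorem D8065 : act 6 n3641 = n8065 := rfl
def n8066 : Q := act 0 n3642
theorem D8066 : act 0 n3642 = n8066 := rfl
def n8067 : Q := act 1 n3642
theorem D8067 : act 1 n3642 = n8067 := rfl
def n8068 : Q := act 5 n3642
theorem D8068 : act 5 n3642 = n8068 := rfl
def n8069 : Q := act 6 n3642
theorem D8069 : act 6 n3642 = n8069 := rfl
theorem F12864 : act 4 n8069 = n3643 := d10_1 D8069 (iv6 D3643) D3642
def n8070 : Q := act 0 n3643
theorem D8070 : act 0 n3643 = n8070 := rfl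
def n8071 : Q := act 1 n3643
theorem D8071 : act 1 n3643 = n8071 := rfl
def n8072 : Q := act 5 n3643
theorem D8072 : act 5 n3643 = n8072 := rfl
theorem F12865 : act 3 n8072 = n3652 := d6_1 D8072 (iv5 D3652) (iv3 F5669)
theorem F12866 : act 6 n8072 = n3646 := d12_2 D3643 D8072 (iv5 D3646) (iv6 D1600) D1599
def n8073 : Q := act 7 n3643
theorem D8073 : act 7 n3643 = n8073 := rfl
theorem F12867 : act 3 n8073 = n3653 := d8_1 D8073 (iv7 D3653) (iv3 F5669)
def n8074 : Q := act 2 n3644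
theorem D8074 : act 2 n3644 = n8074 := rfl
theorem F12868 : act 7 n3645 = n8074 := d15_2 (iv0 D3644) D3645 (iv2 D8074)
def n8075 : Q := act 3 n3644
theorem D8075 : act 3 n3644 = n8075 := rfl
def n8076 : Q := act 4 n3644
theorem D8076 : act 4 n3644 = n8076 := rfl
def n8077 : Q := act 5 n3644
theorem D8077 : act 5 n3644 = n8077 := rfl
def n8078 : Q := act 6 n3644
theorem D8078 : act 6 n3644 = n8078 := rfl
def n8079 : Q := act 7 n3644
theorem D8079 : act 7 n3644 = n8079 := rfl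
theorem F12869 : act 2 n8079 = n3645 := d4_1 D8079 F12868 (iv2 D8074)
def n8080 : Q := act 3 n3645
theorem D8080 : act 3 n3645 = n8080 := rfl
def n8081 : Q := act 4 n3645
theorem D8081 : act 4 n3645 = n8081 := rfl
def n8082 : Q := act 5 n3645
theorem D8082 : act 5 n3645 = n8082 := rfl
def n8083 : Q := act 6 n3645
theorem D8083 : act 6 n3645 = n8083 := rfl
def n8084 : Q := act 0 n3646
theorem D8084 : act 0 n3646 = n8084 := rfl
def n8085 : Q := act 1 n3646
theorem D8085 : act 1 n3646 = n8085 := rfl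
def n8086 : Q := act 4 n3646
theorem D8086 : act 4 n3646 = n8086 := rfl
def n8087 : Q := act 7 n3646
theorem D8087 : act 7 n3646 = n8087 := rfl
theorem F12870 : act 3 n8087 = n3660 := d8_1 D8087 (iv7 D3660) (iv3 F5670)
theorem F12871 : act 5 n8087 = n3647 := d13_1 D8087 (iv7 D3647) D3646
def n8088 : Q := act 0 n3648
theorem D8088 : act 0 n3648 = n8088 := rfl
def n8089 : Q := act 1 n3648
theorem D8089 : act 1 n3648 = n8089 := rfl
def n8090 : Q := act 2 n3648
theorem D8090 : act 2 n3648 = n8090 := rfl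
theorem F12872 : act 5 n8090 = n3722 := d2_2 (iv5 F5672) D8090 (iv2 D3722)
def n8091 : Q := act 4 n3648
theorem D8091 : act 4 n3648 = n8091 := rfl
theorem F12873 : act 3 n8091 = n6490 := d5_1 D8091 (iv4 D6490) F4483 (iv4 F2781) D3648
def n8092 : Q := act 6 n3648
theorem D8092 : act 6 n3648 = n8092 := rfl
theorem F12874 : act 3 n8092 = n3649 := d7_1 D8092 (iv6 D3649) D3648
def n8093 : Q := act 0 n3649
theorem D8093 : act 0 n3649 = n8093 := rfl
def n8094 : Q := act 1 n3649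
theorem D8094 : act 1 n3649 = n8094 := rfl
def n8095 : Q := act 5 n3649
theorem D8095 : act 5 n3649 = n8095 := rfl
theorem F12875 : act 6 n8095 = n3717 := d12_2 D3649 D8095 (iv5 D3717) (iv6 F2804) (iv5 F2780)
def n8096 : Q := act 7 n3649
theorem D8096 : act 7 n3649 = n8096 := rfl
theorem F12876 : act 4 n8096 = n6496 := d11_1 D8096 (iv7 D6496) (iv4 F5673)
def n8097 : Q := act 2 n3650
theorem D8097 : act 2 n3650 = n8097 := rfl
theorem F12877 : act 7 n3651 = n8097 := d15_2 (iv0 D3650) D3651 (iv2 D8097)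
def n8098 : Q := act 3 n3650
theorem D8098 : act 3 n3650 = n8098 := rfl
def n8099 : Q := act 4 n3650
theorem D8099 : act 4 n3650 = n8099 := rfl
def n8100 : Q := act 5 n3650
theorem D8100 : act 5 n3650 = n8100 := rfl
def n8101 : Q := act 6 n3650
theorem D8101 : act 6 n3650 = n8101 := rfl
theorem F12878 : act 5 n8101 = n6178 := d21_6 (iv5 D1595) (iv1 D861) D863 D1602 D3650 D8101 (iv1 D6178) F4178 (iv6 D2600) (iv1 F2777)
def n8102 : Q := act 7 n3650
theorem D8102 : act 7 n3650 = n8102 := rfl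
theorem F12879 : act 2 n8102 = n3651 := d4_1 D8102 F12877 (iv2 D8097)
def n8103 : Q := act 3 n3651
theorem D8103 : act 3 n3651 = n8103 := rfl
def n8104 : Q := act 4 n3651
theorem D8104 : act 4 n3651 = n8104 := rfl
def n8105 : Q := act 5 n3651
theorem D8105 : act 5 n3651 = n8105 := rfl
def n8106 : Q := act 6 n3651
theorem D8106 : act 6 n3651 = n8106 := rfl
def n8107 : Q := act 0 n3652
theorem D8107 : act 0 n3652 = n8107 := rfl
def n8108 : Q := act 1 n3652
theorem D8108 : act 1 n3652 = n8108 := rfl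
def n8109 : Q := act 4 n3652
theorem D8109 : act 4 n3652 = n8109 := rfl
theorem F12880 : act 6 n8109 = n3659 := d10_2 (iv6 F5674) D8109 (iv4 D3659)
def n8110 : Q := act 7 n3652
theorem D8110 : act 7 n3652 = n8110 := rfl
theorem F12881 : act 5 n8110 = n3653 := d13_1 D8110 (iv7 D3653) D3652
def n8111 : Q := act 0 n3654
theorem D8111 : act 0 n3654 = n8111 := rfl
def n8112 : Q := act 1 n3654
theorem D8112 : act 1 n3654 = n8112 := rfl
def n8113 : Q := act 2 n3654
theorem D8113 : act 2 n3654 = n8113 := rfl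
theorem F12882 : act 4 n8113 = n8113 := d1_2 F5675 D8113 (iv2 D8113)
def n8114 : Q := act 5 n3654
theorem D8114 : act 5 n3654 = n8114 := rfl
theorem F12883 : act 3 n8114 = n3655 := d6_1 D8114 (iv5 D3655) D3654
def n8115 : Q := act 4 n3655
theorem D8115 : act 4 n3655 = n8115 := rfl
def n8116 : Q := act 6 n3655
theorem D8116 : act 6 n3655 = n8116 := rfl
def n8117 : Q := act 0 n3656
theorem D8117 : act 0 n3656 = n8117 := rfl
def n8118 : Q := act 1 n3656
theorem D8118 : act 1 n3656 = n8118 := rfl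
def n8119 : Q := act 2 n3656
theorem D8119 : act 2 n3656 = n8119 := rfl
theorem F12884 : act 4 n8119 = n4324 := d1_2 (iv4 F5677) D8119 (iv2 D4324)
theorem F12885 : act 6 n8119 = n8119 := d3_2 F5678 D8119 (iv2 D8119)
def n8120 : Q := act 5 n3656
theorem D8120 : act 5 n3656 = n8120 := rfl
theorem F12886 : act 3 n8120 = n3657 := d6_1 D8120 (iv5 D3657) D3656
def n8121 : Q := act 4 n3657
theorem D8121 : act 4 n3657 = n8121 := rfl
def n8122 : Q := act 6 n3657
theorem D8122 : act 6 n3657 = n8122 := rfl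
theorem F12887 : act 5 n8122 = n8122 := d12_1 D8122 (iv6 D8122) (iv5 D3657) F2963 D3657
def n8123 : Q := act 3 n3658
theorem D8123 : act 3 n3658 = n8123 := rfl
theorem F12888 : act 5 n8123 = n3967 := d6_2 (iv5 F5680) D8123 F5919
def n8124 : Q := act 4 n3658
theorem D8124 : act 4 n3658 = n8124 := rfl
theorem F12889 : act 5 n8124 = n8007 := d16_1 D8124 (iv4 D8007) (iv5 D3622) (iv4 F2906) F2907 F2906 D3622 (iv7 F5724) F5723
def n8125 : Q := act 6 n3658
theorem D8125 : act 6 n3658 = n8125 := rfl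
theorem F12890 : act 2 n8125 = n8095 := d3_1 D8125 F12875 F5723
theorem F12891 : act 5 n8125 = n3973 := d12_1 D8125 (iv6 D3973) F2933 D1722 (iv5 F5680)
def n8126 : Q := act 3 n3659
theorem D8126 : act 3 n3659 = n8126 := rfl
def n8127 : Q := act 5 n3659
theorem D8127 : act 5 n3659 = n8127 := rfl
theorem F12892 : act 4 n8127 = n3719 := d16_2 D3659 D8127 F5727 F2808 (iv5 F2239) (iv4 F4116) (iv5 F9509) (iv7 D6118) F4114
theorem F12893 : act 7 n8127 = n3718 := d16_8 (iv4 D6165) (iv5 D2594) F2263 F1387 (iv4 F1631) D1605 D3659 D8127 (iv2 F9589)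
def n8128 : Q := act 7 n3659
theorem D8128 : act 7 n3659 = n8128 := rfl
theorem F12894 : act 4 n8128 = n3660 := d11_1 D8128 (iv7 D3660) D3659
theorem F12895 : act 5 n8128 = n3718 := d13_1 D8128 (iv7 F12893) (iv5 D8127)
theorem F12896 : act 1 n6314 = n8128 := d15_1 (iv0 F9832) (iv7 D8128) (iv2 F9507)
theorem F12897 : act 1 n8128 = n7860 := d15_1 F12896 F12403 (iv2 F9831)
def n8129 : Q := act 6 n3660
theorem D8129 : act 6 n3660 = n8129 := rfl
def n8130 : Q := act 3 n3661
theorem D8130 : act 3 n3661 = n8130 := rfl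
theorem F12898 : act 4 n8130 = n8130 := d5_2 (iv4 F5682) D8130 (iv3 D8130) F5682 F2915
theorem F12899 : act 6 n8130 = n3935 := d7_2 F5686 D8130 (iv3 D3935)
theorem F12900 : act 7 n8130 = n3947 := d8_2 (iv7 F5685) D8130 F5894
def n8131 : Q := act 0 n3662
theorem D8131 : act 0 n3662 = n8131 := rfl
def n8132 : Q := act 1 n3662
theorem D8132 : act 1 n3662 = n8132 := rfl
def n8133 : Q := act 2 n3662
theorem D8133 : act 2 n3662 = n8133 := rfl
theorem F12901 : act 4 n8133 = n8133 := d1_2 F5687 D8133 (iv2 D8133)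
def n8134 : Q := act 5 n3662
theorem D8134 : act 5 n3662 = n8134 := rfl
theorem F12902 : act 3 n8134 = n3663 := d6_1 D8134 (iv5 D3663) D3662
def n8135 : Q := act 4 n3663
theorem D8135 : act 4 n3663 = n8135 := rfl
theorem F12903 : act 0 n8135 = n3718 := d17_0 (iv5 F12895) (iv1 F12896) (iv5 F12404) (iv4 D7860) (iv5 D3563) (iv0 F2730) D3536 (iv0 F5688) D8135
def n8136 : Q := act 6 n3663
theorem D8136 : act 6 n3663 = n8136 := rfl
def n8137 : Q := act 0 n3664
theorem D8137 : act 0 n3664 = n8137 := rfl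
def n8138 : Q := act 1 n3664
theorem D8138 : act 1 n3664 = n8138 := rfl
def n8139 : Q := act 2 n3664
theorem D8139 : act 2 n3664 = n8139 := rfl
theorem F12904 : act 4 n8139 = n4342 := d1_2 (iv4 F5689) D8139 (iv2 D4342)
theorem F12905 : act 6 n8139 = n8139 := d3_2 F5690 D8139 (iv2 D8139)
def n8140 : Q := act 5 n3664
theorem D8140 : act 5 n3664 = n8140 := rfl
theorem F12906 : act 3 n8140 = n3665 := d6_1 D8140 (iv5 D3665) D3664
def n8141 : Q := act 4 n3665
theorem D8141 : act 4 n3665 = n8141 := rfl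
theorem F12907 : act 1 n8141 = n3718 := d18_6 (iv1 F4119) F4116 (iv1 F2242) D1612 D3665 D8141 (iv4 D3718) (iv0 F5676) (iv5 D3655)
def n8142 : Q := act 6 n3665
theorem D8142 : act 6 n3665 = n8142 := rfl
theorem F12908 : act 5 n8142 = n8142 := d12_1 D8142 (iv6 D8142) (iv5 D3665) F2795 D3665
def n8143 : Q := act 5 n3666
theorem D8143 : act 5 n3666 = n8143 := rfl
theorem F12909 : act 2 n8143 = n6036 := d2_1 D8143 (iv5 D6036) (iv2 F5692)
theorem F12910 : act 7 n8143 = n7895 := d13_2 (iv7 F5693) D8143 (iv5 D7895)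
theorem F12911 : act 4 n8143 = n7221 := d16_2 D3666 D8143 (iv5 D7221) (iv4 D3325) F2578 F2179 (iv5 F2578) F2579 F2798
theorem F12912 : act 0 n8143 = n5779 := d17_2 (iv1 F5695) D8143 (iv5 D5779) F3811 F3467 F2706 (iv5 F4124) (iv0 D2579) D2581
theorem F12913 : act 1 n8143 = n5776 := d17_6 D1141 F2091 F2170 (iv5 F2797) D3666 D8143 (iv5 D5776) (iv0 D2418) (iv4 D1143)
def n8144 : Q := act 0 n3667
theorem D8144 : act 0 n3667 = n8144 := rfl
def n8145 : Q := act 1 n3667
theorem D8145 : act 1 n3667 = n8145 := rfl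
theorem F12914 : act 4 n7253 = n8145 := d20_6 (iv4 D839) F1108 D803 D1475 D3336 D7253 (iv1 D8145) F5696 (iv3 D1616) F1633
def n8146 : Q := act 2 n3667
theorem D8146 : act 2 n3667 = n8146 := rfl
theorem F12915 : act 4 n8146 = n3675 := d1_2 (iv4 F5696) D8146 (iv2 D3675)
def n8147 : Q := act 5 n3667
theorem D8147 : act 5 n3667 = n8147 := rfl
theorem F12916 : act 3 n8147 = n3668 := d6_1 D8147 (iv5 D3668) D3667
def n8148 : Q := act 6 n3667
theorem D8148 : act 6 n3667 = n8148 := rfl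
theorem F12917 : act 3 n8148 = n3669 := d7_1 D8148 (iv6 D3669) D3667
theorem F12918 : act 4 n8148 = n3676 := d10_1 D8148 (iv6 D3676) (iv4 F5696)
def n8149 : Q := act 6 n3668
theorem D8149 : act 6 n3668 = n8149 := rfl
def n8150 : Q := act 0 n3669
theorem D8150 : act 0 n3669 = n8150 := rfl
def n8151 : Q := act 1 n3669
theorem D8151 : act 1 n3669 = n8151 := rfl
theorem F12919 : act 4 n7326 = n8151 := d20_0 (iv1 D8151) F5697 F2800 D1618 (iv3 F10069) D3378 F10653 F9542 (iv3 F9529) F11653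
def n8152 : Q := act 5 n3669
theorem D8152 : act 5 n3669 = n8152 := rfl
def n8153 : Q := act 7 n3669
theorem D8153 : act 7 n3669 = n8153 := rfl
theorem F12920 : act 4 n8153 = n3672 := d11_1 D8153 (iv7 D3672) (iv4 F5697)
def n8154 : Q := act 4 n3670
theorem D8154 : act 4 n3670 = n8154 := rfl
theorem F12921 : act 0 n6124 = n8154 := d20_7 (iv4 F5700) (iv1 F10677) (iv4 D5957) F10068 (iv1 D2586) (iv3 F4136) (iv4 F9528) (iv4 D8154) (iv3 F8768) (iv1 F4145)
def n8155 : Q := act 5 n3670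
theorem D8155 : act 5 n3670 = n8155 := rfl
theorem F12922 : act 3 n8155 = n6137 := d6_1 D8155 (iv5 D6137) F8768
theorem F12923 : act 0 n6452 = n8155 := d21_10 (iv5 D8155) (iv1 F8890) (iv5 F12590) F12591 (iv1 F10055) F10057 (iv5 F8830) (iv1 F8551) F7937 D6452
def n8156 : Q := act 2 n3673
theorem D8156 : act 2 n3673 = n8156 := rfl
theorem F12924 : act 7 n3674 = n8156 := d15_2 (iv0 D3673) D3674 (iv2 D8156)
def n8157 : Q := act 3 n3673
theorem D8157 : act 3 n3673 = n8157 := rfl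
def n8158 : Q := act 4 n3673
theorem D8158 : act 4 n3673 = n8158 := rfl
def n8159 : Q := act 5 n3673
theorem D8159 : act 5 n3673 = n8159 := rfl
def n8160 : Q := act 6 n3673
theorem D8160 : act 6 n3673 = n8160 := rfl
def n8161 : Q := act 7 n3673
theorem D8161 : act 7 n3673 = n8161 := rfl
def n8162 : Q := act 3 n3674
theorem D8162 : act 3 n3674 = n8162 := rfl
def n8163 : Q := act 4 n3674
theorem D8163 : act 4 n3674 = n8163 := rfl
theorem F12926 : act 3 n7897 = n8163 := d20_5 (iv4 D3577) (iv1 D1577) D1578 D3579 D7897 (iv4 D8163) (iv1 D3674) (iv4 F5696) (iv3 D3667) (iv1 F5613)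
def n8164 : Q := act 5 n3674
theorem D8164 : act 5 n3674 = n8164 := rfl
def n8165 : Q := act 6 n3674
theorem D8165 : act 6 n3674 = n8165 := rfl
def n8166 : Q := act 6 n3675
theorem D8166 : act 6 n3675 = n8166 := rfl
theorem F12927 : act 2 n8166 = n3676 := d3_1 D8166 (iv6 D3676) D3675
def n8167 : Q := act 0 n3676
theorem D8167 : act 0 n3676 = n8167 := rfl
def n8168 : Q := act 1 n3676
theorem D8168 : act 1 n3676 = n8168 := rfl
def n8169 : Q := act 5 n3676
theorem D8169 : act 5 n3676 = n8169 := rfl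
theorem F12928 : act 3 n8169 = n3679 := d6_1 D8169 (iv5 D3679) (iv3 F5699)
def n8170 : Q := act 7 n3676
theorem D8170 : act 7 n3676 = n8170 := rfl
theorem F12929 : act 3 n8170 = n3680 := d8_1 D8170 (iv7 D3680) (iv3 F5699)
def n8171 : Q := act 0 n3679
theorem D8171 : act 0 n3679 = n8171 := rfl
def n8172 : Q := act 1 n3679
theorem D8172 : act 1 n3679 = n8172 := rfl
def n8173 : Q := act 4 n3679
theorem D8173 : act 4 n3679 = n8173 := rfl
def n8174 : Q := act 7 n3679
theorem D8174 : act 7 n3679 = n8174 := rfl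
theorem F12930 : act 5 n8174 = n3680 := d13_1 D8174 (iv7 D3680) D3679
def n8175 : Q := act 3 n3683
theorem D8175 : act 3 n3683 = n8175 := rfl
theorem F12931 : act 4 n8175 = n7359 := d5_2 D3683 D8175 (iv3 D7359) (iv4 D3378) F10069
def n8176 : Q := act 5 n3683
theorem D8176 : act 5 n3683 = n8176 := rfl
def n8177 : Q := act 0 n3684
theorem D8177 : act 0 n3684 = n8177 := rfl
theorem F12935 : act 5 n8177 = n7874 := d21_2 D3684 D8177 (iv6 D7874) (iv1 D3569) (iv6 D1573) (iv5 D850) (iv1 F839) D545 D870 D1618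
theorem F12936 : act 6 n8177 = n6450 := d21_5 (iv5 F3568) (iv1 F7991) (iv5 F7938) (iv6 F7940) D8177 F10516 (iv1 F9430) F5627 F5628 (iv1 F3567)
theorem F12937 : act 2 n6453 = n8177 := d15_3 (iv0 D8177) (iv0 F7954) D6453
theorem F12938 : act 1 n3688 = n8177 := d15_0 (iv0 D8177) (iv7 F9559) F9557
theorem F12939 : act 7 n8177 = n5117 := d15_2 (iv0 F7946) F12938 F7896
def n8178 : Q := act 4 n3684
theorem D8178 : act 4 n3684 = n8178 := rfl
theorem F12940 : act 2 n8178 = n7159 := d1_1 D8178 F11479 F9549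
theorem F12941 : act 6 n8178 = n7701 := d10_2 (iv6 F7940) D8178 F11973
theorem F12942 : act 7 n8178 = n6602 := d11_2 F9559 D8178 F10699
theorem F12943 : act 5 n8178 = n7283 := d17_5 (iv1 D2565) F2215 D1618 D3684 D8178 (iv0 D7283) (iv5 D3344) D3343 F10673
theorem F12944 : act 1 n8178 = n5899 := d18_6 (iv1 D2513) (iv4 F3981) (iv1 F10670) (iv4 D3683) D3684 D8178 F9133 (iv0 F4726) F4725
theorem F12945 : act 1 n7162 = n8178 := d15_1 F11482 F12942 (iv2 F10934)
theorem F12946 : act 0 n7965 = n7638 := d18_2 F7945 D7965 F11858 F5439 (iv4 F11481) F12945 (iv4 D8178) (iv0 F7954) (iv5 F7944)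
def n8179 : Q := act 4 n3686
theorem D8179 : act 4 n3686 = n8179 := rfl
theorem F12947 : act 2 n8179 = n7361 := d1_1 D8179 (iv4 D7361) F10056
theorem F12948 : act 7 n8179 = n8154 := d11_2 F8769 D8179 (iv4 D8154)
def n8180 : Q := act 5 n3686
theorem D8180 : act 5 n3686 = n8180 := rfl
theorem F12949 : act 2 n8180 = n6593 := d2_1 D8180 F10693 F10056
theorem F12950 : act 3 n8180 = n3688 := d6_1 D8180 (iv5 D3688) D3686
theorem F12951 : act 6 n8180 = n5680 := d12_2 (iv6 F10510) D8180 F8735 (iv6 F8695) (iv5 F10506)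
theorem F12952 : act 7 n8180 = n8155 := d13_2 F8769 D8180 (iv5 D8155)
theorem F12953 : act 0 n8180 = n5748 := d21_4 F10623 F8648 (iv5 F8735) (iv6 F12951) (iv6 D5748) (iv5 F7901) F8687 (iv5 F10014) F5022 D6566
def n8181 : Q := act 3 n3687
theorem D8181 : act 3 n3687 = n8181 := rfl
theorem F12954 : act 6 n8181 = n7078 := d7_2 F8002 D8181 (iv3 D7078)
theorem F12955 : act 7 n8181 = n7351 := d8_2 F10662 D8181 (iv3 D7351)
def n8182 : Q := act 5 n3687
theorem D8182 : act 5 n3687 = n8182 := rfl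
def n8183 : Q := act 1 n3691
theorem D8183 : act 1 n3691 = n8183 := rfl
theorem F12958 : act 1 n8183 = n3993 := d15_1 D8183 (iv7 F12199) (iv2 F12185)
theorem F12959 : act 4 n3980 = n8183 := d20_0 (iv1 D8183) F5705 D3997 (iv1 F12147) (iv3 F6278) (iv4 F6292) F6290 (iv4 D1803) D1802 (iv1 F12245)
theorem F12960 : act 3 n7967 = n8183 := d20_9 F5705 (iv1 D1732) (iv4 F2713) (iv3 D1558) (iv1 F1621) D1588 F2761 D3609 D7967 (iv1 D8183)
def n8184 : Q := act 5 n3691
theorem D8184 : act 5 n3691 = n8184 := rfl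
theorem F12961 : act 3 n8184 = n3693 := d6_1 D8184 (iv5 D3693) D3691
def n8185 : Q := act 6 n3691
theorem D8185 : act 6 n3691 = n8185 := rfl
def n8186 : Q := act 0 n3692
theorem D8186 : act 0 n3692 = n8186 := rfl
theorem F12964 : act 4 n8186 = n7970 := d20_2 D3692 D8186 (iv3 D7970) (iv1 D3610) (iv3 D1588) (iv4 D858) (iv1 F843) D547 D871 D1621
theorem F12965 : act 2 n7800 = n8186 := d15_3 (iv0 D8186) (iv0 F12102) (iv7 F12270)
theorem F12966 : act 1 n3697 = n8186 := d15_0 (iv0 D8186) (iv7 F12205) (iv2 F12208)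
theorem F12967 : act 7 n8186 = n7813 := d15_2 F12204 F12966 (iv2 D7813)
theorem F12968 : act 3 n7805 = n8186 := d20_9 (iv4 D3697) (iv1 D1622) (iv4 F2258) (iv3 D1212) (iv1 F2220) D2567 F4089 D6088 F12344 (iv1 F12966)
def n8187 : Q := act 3 n3692
theorem D8187 : act 3 n3692 = n8187 := rfl
theorem F12969 : act 2 n8187 = n7775 := d0_1 D8187 (iv3 D7775) F12174 (iv3 F9471) (iv2 F12201)
theorem F12970 : act 4 n8187 = n3997 := d5_2 D3692 D8187 (iv3 D3997) (iv4 F5705) (iv3 D3691)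
theorem F12971 : act 0 n8187 = n4214 := d20_10 (iv4 D4214) (iv1 D1796) D1798 F3061 (iv1 F2217) D1212 F2258 D1621 D3692 D8187
theorem F12972 : act 0 n4209 = n8187 := d20_4 D3697 (iv1 F12204) D7814 F12352 (iv3 D8187) (iv4 D3692) (iv1 F4096) F4094 (iv3 F4093) (iv1 F4098)
theorem E1736 : n8023 = n8009 := (c20_5 F12964 (iv1 F12724) (iv4 D3630) D3629 D8023 (iv3 D8009) (iv4 F6296) (iv1 F12148) (iv4 F12970) (iv3 D8187) D8186)
theorem F12973 : act 0 n8009 = n7784 := (sb E1736 (iv1 F12809))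
theorem F12974 : act 1 n8009 = n3629 := (sb E1736 (iv0 D8023))
def n8188 : Q := act 5 n3692
theorem D8188 : act 5 n3692 = n8188 := rfl
def n8189 : Q := act 6 n3692
theorem D8189 : act 6 n3692 = n8189 := rfl
def n8190 : Q := act 0 n3693
theorem D8190 : act 0 n3693 = n8190 := rfl
theorem F12976 : act 1 n3698 = n8190 := d15_0 (iv0 D8190) (iv7 F12206) (iv2 F12207)
def n8191 : Q := act 1 n3693
theorem D8191 : act 1 n3693 = n8191 := rfl
theorem F12977 : act 1 n8191 = n3698 := d15_1 D8191 F12172 (iv2 F12202)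
def n8192 : Q := act 4 n3693
theorem D8192 : act 4 n3693 = n8192 := rfl
def n8193 : Q := act 6 n3693
theorem D8193 : act 6 n3693 = n8193 := rfl
def n8197 : Q := act 7 n3694
theorem D8197 : act 7 n3694 = n8197 := rfl
def n8198 : Q := act 6 n3696
theorem D8198 : act 6 n3696 = n8198 := rfl
theorem F12978 : act 3 n8198 = n3699 := d7_1 D8198 (iv6 D3699) D3696
theorem F12979 : act 0 n4141 = n8198 := d21_4 D4755 F7111 (iv5 D4140) D4141 (iv6 D8198) F12103 (iv1 D4763) (iv5 D1971) F7118 D1968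
def n8199 : Q := act 5 n3697
theorem D8199 : act 5 n3697 = n8199 := rfl
theorem F12980 : act 3 n8199 = n4671 := d6_1 D8199 (iv5 F7298) F5707
def n8200 : Q := act 6 n3697
theorem D8200 : act 6 n3697 = n8200 := rfl
theorem F12981 : act 3 n8200 = n7774 := d7_1 D8200 (iv6 D7774) F5707
theorem F12982 : act 4 n8200 = n3699 := d10_1 D8200 (iv6 D3699) D3697
theorem F12983 : act 0 n3699 = n3709 := d20_7 (iv4 F2896) F2898 (iv4 F2870) D3933 F12241 (iv3 F12981) F12982 (iv4 F9579) F9578 (iv1 F4164)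
def n8201 : Q := act 4 n3698
theorem D8201 : act 4 n3698 = n8201 := rfl
def n8202 : Q := act 6 n3698
theorem D8202 : act 6 n3698 = n8202 := rfl
def n8203 : Q := act 1 n3699
theorem D8203 : act 1 n3699 = n8203 := rfl
def n8204 : Q := act 5 n3699
theorem D8204 : act 5 n3699 = n8204 := rfl
def n8205 : Q := act 7 n3699
theorem D8205 : act 7 n3699 = n8205 := rfl
def n8206 : Q := act 4 n3700
theorem D8206 : act 4 n3700 = n8206 := rfl
theorem F12984 : act 2 n8206 = n3704 := d1_1 D8206 (iv4 D3704) (iv2 F5708)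
def n8207 : Q := act 6 n3700
theorem D8207 : act 6 n3700 = n8207 := rfl
theorem F12985 : act 2 n8207 = n3705 := d3_1 D8207 (iv6 D3705) (iv2 F5708)
def n8208 : Q := act 0 n3701
theorem D8208 : act 0 n3701 = n8208 := rfl
def n8209 : Q := act 1 n3701
theorem D8209 : act 1 n3701 = n8209 := rfl
theorem F12986 : act 1 n8209 = n3709 := d15_1 D8209 (iv7 D3709) (iv2 F5709)
theorem F12987 : act 2 n8205 = n8209 := d15_3 F12986 (iv0 F12983) D8205
theorem F12988 : act 7 n8209 = n6094 := d4_2 D8205 F12987 F12209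
theorem F12989 : act 6 n8197 = n8209 := d14_5 F12988 (iv6 D6094) (iv7 F12167) D3694 D8197
theorem E1737 : n8203 = n3701 := (c15_1 D8203 D8209 F12988 F12209)
theorem E1738 : n8208 = n3699 := ((D8208).symm.trans (sb E1737 (iv1 D8203)))
theorem F12990 : act 1 n3699 = n3701 := (sb E1738 (iv0 D8208))
def n8210 : Q := act 5 n3701
theorem D8210 : act 5 n3701 = n8210 := rfl
theorem F12991 : act 2 n8210 = n3708 := d2_1 D8210 (iv5 D3708) (iv2 F5709)
def n8211 : Q := act 7 n3701
theorem D8211 : act 7 n3701 = n8211 := rfl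
theorem F12992 : act 2 n8211 = n3709 := d4_1 D8211 (iv7 D3709) (iv2 F5709)
theorem F12993 : act 1 n3707 = n8211 := d15_1 D3707 (iv7 D8211) F5709
theorem F12994 : act 1 n8211 = n3706 := d15_0 (iv0 D3706) D3709 (iv2 F12992)
def n8212 : Q := act 2 n3702
theorem D8212 : act 2 n3702 = n8212 := rfl
theorem F12995 : act 7 n3703 = n8212 := d15_2 (iv0 D3702) D3703 (iv2 D8212)
def n8213 : Q := act 3 n3702
theorem D8213 : act 3 n3702 = n8213 := rfl
def n8214 : Q := act 4 n3702
theorem D8214 : act 4 n3702 = n8214 := rfl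
def n8215 : Q := act 5 n3702
theorem D8215 : act 5 n3702 = n8215 := rfl
def n8216 : Q := act 6 n3702
theorem D8216 : act 6 n3702 = n8216 := rfl
def n8217 : Q := act 7 n3702
theorem D8217 : act 7 n3702 = n8217 := rfl
theorem F12996 : act 2 n8217 = n3703 := d4_1 D8217 F12995 (iv2 D8212)
def n8218 : Q := act 3 n3703
theorem D8218 : act 3 n3703 = n8218 := rfl
def n8219 : Q := act 4 n3703
theorem D8219 : act 4 n3703 = n8219 := rfl
def n8220 : Q := act 5 n3703
theorem D8220 : act 5 n3703 = n8220 := rfl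
def n8221 : Q := act 6 n3703
theorem D8221 : act 6 n3703 = n8221 := rfl
def n8222 : Q := act 0 n3704
theorem D8222 : act 0 n3704 = n8222 := rfl
def n8223 : Q := act 1 n3704
theorem D8223 : act 1 n3704 = n8223 := rfl
def n8224 : Q := act 5 n3704
theorem D8224 : act 5 n3704 = n8224 := rfl
def n8225 : Q := act 6 n3704
theorem D8225 : act 6 n3704 = n8225 := rfl
theorem F12997 : act 4 n8225 = n3705 := d10_1 D8225 (iv6 D3705) D3704
def n8226 : Q := act 0 n3705
theorem D8226 : act 0 n3705 = n8226 := rfl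
def n8227 : Q := act 1 n3705
theorem D8227 : act 1 n3705 = n8227 := rfl
def n8228 : Q := act 5 n3705
theorem D8228 : act 5 n3705 = n8228 := rfl
theorem F12998 : act 3 n8228 = n3712 := d6_1 D8228 (iv5 D3712) (iv3 F5710)
theorem F12999 : act 6 n8228 = n3708 := d12_2 D3705 D8228 (iv5 D3708) (iv6 D1625) D1624
def n8229 : Q := act 7 n3705
theorem D8229 : act 7 n3705 = n8229 := rfl
theorem F13000 : act 3 n8229 = n3713 := d8_1 D8229 (iv7 D3713) (iv3 F5710)
def n8230 : Q := act 2 n3706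
theorem D8230 : act 2 n3706 = n8230 := rfl
theorem F13001 : act 7 n3707 = n8230 := d15_2 (iv0 D3706) D3707 (iv2 D8230)
def n8231 : Q := act 3 n3706
theorem D8231 : act 3 n3706 = n8231 := rfl
theorem F13002 : act 4 n8231 = n4014 := d20_6 F2317 F1416 (iv4 F1634) (iv3 F2803) D3706 D8231 F7509 D5067 F7511 (iv1 D2645)
theorem F13003 : act 6 n4012 = n8231 := d10_0 F13002 (iv6 D4014) D4012
theorem E1739 : n6094 = n3706 := ((c7_2 F13003 (iv3 D8231) (iv6 D6094) (iv3 F5947))).symm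
theorem E1740 : n8230 = n3699 := ((D8230).symm.trans (sb E1739 F12209))
theorem F13004 : act 6 n3706 = n2568 := (sb E1739 (iv6 D6094))
theorem F13005 : act 7 n3706 = n8209 := (sb E1739 (iv7 F12988))
theorem F13006 : act 2 n3699 = n3706 := (sb E1740 (iv2 D8230))
theorem E1741 : n8205 = n3707 := ((D8205).symm.trans (sb E1740 (iv7 F13001)))
theorem F13007 : act 2 n3707 = n8209 := (sb E1741 F12987)
theorem F13008 : act 7 n3707 = n3699 := (sb E1741 (iv7 D8205))
def n8232 : Q := act 4 n3706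
theorem D8232 : act 4 n3706 = n8232 := rfl
theorem F13009 : act 2 n8232 = n8200 := d1_1 D8232 F12982 F13006
theorem F13010 : act 6 n8232 = n6092 := d10_2 (iv6 F13004) D8232 (iv4 D6092)
def n8233 : Q := act 5 n3706
theorem D8233 : act 5 n3706 = n8233 := rfl
theorem F13011 : act 2 n8233 = n8204 := d2_1 D8233 (iv5 D8204) F13006
def n8234 : Q := act 3 n3707
theorem D8234 : act 3 n3707 = n8234 := rfl
theorem F13012 : act 7 n8234 = n8198 := d8_2 (iv7 F13008) D8234 F12978
def n8235 : Q := act 4 n3707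
theorem D8235 : act 4 n3707 = n8235 := rfl
theorem F13013 : act 7 n8235 = n8200 := d11_2 (iv7 F13008) D8235 F12982
def n8236 : Q := act 5 n3707
theorem D8236 : act 5 n3707 = n8236 := rfl
theorem F13014 : act 7 n8236 = n8204 := d13_2 (iv7 F13008) D8236 (iv5 D8204)
def n8237 : Q := act 6 n3707
theorem D8237 : act 6 n3707 = n8237 := rfl
theorem F13016 : act 7 n8237 = n6099 := d14_2 (iv7 F13008) D8237 (iv6 D6099) F12169 D3699
def n8238 : Q := act 0 n3708
theorem D8238 : act 0 n3708 = n8238 := rfl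
def n8239 : Q := act 1 n3708
theorem D8239 : act 1 n3708 = n8239 := rfl
def n8240 : Q := act 4 n3708
theorem D8240 : act 4 n3708 = n8240 := rfl
def n8241 : Q := act 7 n3708
theorem D8241 : act 7 n3708 = n8241 := rfl
theorem F13019 : act 3 n8241 = n3719 := d8_1 D8241 (iv7 D3719) (iv3 F5711)
theorem F13020 : act 5 n8241 = n3709 := d13_1 D8241 (iv7 D3709) D3708
def n8242 : Q := act 2 n3710
theorem D8242 : act 2 n3710 = n8242 := rfl
theorem F13021 : act 7 n3711 = n8242 := d15_2 (iv0 D3710) D3711 (iv2 D8242)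
def n8243 : Q := act 3 n3710
theorem D8243 : act 3 n3710 = n8243 := rfl
def n8244 : Q := act 4 n3710
theorem D8244 : act 4 n3710 = n8244 := rfl
def n8245 : Q := act 5 n3710
theorem D8245 : act 5 n3710 = n8245 := rfl
def n8246 : Q := act 6 n3710
theorem D8246 : act 6 n3710 = n8246 := rfl
def n8247 : Q := act 7 n3710
theorem D8247 : act 7 n3710 = n8247 := rfl
theorem F13022 : act 2 n8247 = n3711 := d4_1 D8247 F13021 (iv2 D8242)
def n8248 : Q := act 3 n3711
theorem D8248 : act 3 n3711 = n8248 := rfl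
def n8249 : Q := act 4 n3711
theorem D8249 : act 4 n3711 = n8249 := rfl
def n8250 : Q := act 5 n3711
theorem D8250 : act 5 n3711 = n8250 := rfl
theorem F13023 : act 6 n8107 = n8250 := d21_5 (iv5 D3657) (iv1 D1604) D1605 (iv6 F5674) D8107 (iv5 D8250) (iv1 D3711) D3712 F5713 (iv1 F5679)
def n8251 : Q := act 6 n3711
theorem D8251 : act 6 n3711 = n8251 := rfl
def n8252 : Q := act 0 n3712
theorem D8252 : act 0 n3712 = n8252 := rfl
def n8253 : Q := act 1 n3712
theorem D8253 : act 1 n3712 = n8253 := rfl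
def n8254 : Q := act 4 n3712
theorem D8254 : act 4 n3712 = n8254 := rfl
theorem F13024 : act 6 n8254 = n3718 := d10_2 (iv6 F5713) D8254 (iv4 D3718)
def n8255 : Q := act 7 n3712
theorem D8255 : act 7 n3712 = n8255 := rfl
theorem F13025 : act 5 n8255 = n3713 := d13_1 D8255 (iv7 D3713) D3712
def n8256 : Q := act 0 n3714
theorem D8256 : act 0 n3714 = n8256 := rfl
theorem F13026 : act 3 n8256 = n4941 := d20_5 F2870 F2903 F2900 D3714 D8256 (iv4 D4941) (iv1 D2033) (iv4 F2866) F2865 D1697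
def n8257 : Q := act 2 n3714
theorem D8257 : act 2 n3714 = n8257 := rfl
theorem F13027 : act 3 n8257 = n7995 := d0_2 D3714 D8257 F12777 F5656 F2806
theorem F13028 : act 4 n8257 = n4218 := d1_2 (iv4 F5714) D8257 F6119
theorem F13029 : act 6 n8257 = n4217 := d3_2 (iv6 F5715) D8257 F6114
def n8258 : Q := act 5 n3714
theorem D8258 : act 5 n3714 = n8258 := rfl
theorem F13030 : act 3 n8258 = n3715 := d6_1 D8258 (iv5 D3715) D3714
theorem F13031 : act 7 n8258 = n8123 := d13_2 F5921 D8258 F12888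
def n8259 : Q := act 4 n3715
theorem D8259 : act 4 n3715 = n8259 := rfl
theorem F13032 : act 2 n8259 = n8007 := d1_1 D8259 (iv4 D8007) (iv2 F5716)
theorem F13033 : act 7 n8259 = n8124 := d11_2 (iv7 F5717) D8259 (iv4 D8124)
theorem F13034 : act 1 n8259 = n7782 := d18_6 D1697 F2870 F2903 F2900 D3715 D8259 (iv4 D7782) F5556 (iv5 D1699)
def n8260 : Q := act 6 n3715
theorem D8260 : act 6 n3715 = n8260 := rfl
theorem F13035 : act 2 n8260 = n8005 := d3_1 D8260 F12781 (iv2 F5716)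
theorem F13036 : act 5 n8260 = n3741 := d12_1 D8260 (iv6 D3741) F2818 (iv6 F2807) D3715
def n8261 : Q := act 0 n3716
theorem D8261 : act 0 n3716 = n8261 := rfl
theorem F13037 : act 1 n7995 = n8261 := d15_0 (iv0 D8261) F5722 (iv2 F12777)
def n8262 : Q := act 1 n3716
theorem D8262 : act 1 n3716 = n8262 := rfl
def n8263 : Q := act 2 n3716
theorem D8263 : act 2 n3716 = n8263 := rfl
theorem F13038 : act 4 n8263 = n8263 := d1_2 F5720 D8263 (iv2 D8263)
theorem F13039 : act 6 n8263 = n3722 := d3_2 (iv6 F5721) D8263 (iv2 D3722)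
theorem F13040 : act 7 n8263 = n7995 := d4_2 (iv7 F5722) D8263 F12777
theorem F13041 : act 1 n8263 = n8000 := d15_0 (iv0 D8000) (iv7 F5722) D8263
theorem F13042 : act 1 n8262 = n7995 := d15_1 D8262 (iv7 F13040) (iv2 D8263)
theorem F13043 : act 1 n8001 = n8263 := d15_1 D8001 F13040 F12777
def n8264 : Q := act 5 n3716
theorem D8264 : act 5 n3716 = n8264 := rfl
theorem F13044 : act 3 n8264 = n3717 := d6_1 D8264 (iv5 D3717) D3716
theorem F13045 : act 7 n8264 = n8002 := d13_2 (iv7 F5722) D8264 (iv5 D8002)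
def n8265 : Q := act 4 n3717
theorem D8265 : act 4 n3717 = n8265 := rfl
theorem F13046 : act 2 n8265 = n8124 := d1_1 D8265 (iv4 D8124) (iv2 F5723)
theorem F13047 : act 7 n8265 = n8007 := d11_2 (iv7 F5724) D8265 (iv4 D8007)
theorem F13048 : act 5 n8265 = n8259 := d16_1 D8265 (iv4 D8259) (iv5 D3715) (iv4 F2900) F2901 F2900 D3715 F5717 (iv2 F5723)
theorem F13049 : act 0 n8265 = n7782 := d18_2 (iv1 F5726) D8265 (iv4 D7782) (iv5 D3530) F2714 D1729 F4112 F4109 (iv5 F5681)
def n8266 : Q := act 3 n3718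
theorem D8266 : act 3 n3718 = n8266 := rfl
def n8267 : Q := act 6 n3719
theorem D8267 : act 6 n3719 = n8267 := rfl
def n8268 : Q := act 4 n3720
theorem D8268 : act 4 n3720 = n8268 := rfl
theorem F13050 : act 2 n8268 = n3827 := d1_1 D8268 F6434 F6449
theorem F13051 : act 3 n8268 = n3845 := d5_1 D8268 (iv4 F6465) (iv3 D2622) D2623 (iv3 F5728)
theorem F13052 : act 7 n8268 = n3824 := d11_2 (iv7 F6450) D8268 (iv4 F6451)
theorem F13053 : act 0 n8268 = n3823 := d20_1 D8268 (iv4 F9669) (iv3 D6209) (iv1 D2609) (iv3 D1221) F1398 (iv1 F1684) F1681 D1631 D3720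
theorem F13054 : act 0 n3797 = n8268 := d20_10 (iv4 D8268) (iv1 F5880) F5878 F5877 F3281 D4742 F6850 F5733 F5732 D3797
def n8269 : Q := act 5 n3720
theorem D8269 : act 5 n3720 = n8269 := rfl
theorem F13055 : act 3 n8269 = n6242 := d6_1 D8269 (iv5 D6242) (iv3 F5728)
def n8270 : Q := act 6 n3720
theorem D8270 : act 6 n3720 = n8270 := rfl
theorem F13056 : act 3 n8270 = n6243 := d7_1 D8270 (iv6 D6243) (iv3 F5728)
theorem F13057 : act 7 n8270 = n8270 := d14_2 (iv7 F6450) D8270 (iv6 D8270) F6450 F7211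
def n8271 : Q := act 5 n3721
theorem D8271 : act 5 n3721 = n8271 := rfl
def n8273 : Q := act 1 n3723
theorem D8273 : act 1 n3723 = n8273 := rfl
theorem F13059 : act 1 n8273 = n3728 := d15_1 D8273 (iv7 D3728) D3723
def n8274 : Q := act 3 n3723
theorem D8274 : act 3 n3723 = n8274 := rfl
theorem F13060 : act 7 n8274 = n3729 := d8_2 F5731 D8274 (iv3 D3729)
theorem F13061 : act 2 n8274 = n6231 := d15_3 (iv0 D6231) (iv0 F5998) (iv7 F13060)
theorem F13062 : act 2 n6205 = n3724 := d0_3 D8274 F13061 F9724 (iv3 D3724) D3723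
theorem E1742 : n3796 = n2608 := (c1_4 D6205 F13062 F5732 (iv2 F5791))
theorem E1743 : n6204 = n1658 := ((D6204).symm.trans (sb E1742 F5791))
theorem E1744 : n6208 = n1657 := ((D6208).symm.trans (sb E1742 (iv7 D3796)))
theorem F13063 : act 2 n1658 = n2608 := (sb E1743 (iv2 D6204))
theorem E1745 : n3792 = n2609 := ((F5790).symm.trans (sb E1743 (iv7 F9665)))
theorem F13064 : act 7 n1657 = n2608 := (sb E1744 (iv7 D6208))
theorem F13065 : act 2 n2609 = n1657 := (sb E1745 (iv2 D3792))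
theorem F13066 : act 7 n2609 = n1658 := (sb E1745 (iv7 F5790))
theorem F13067 : act 7 n3793 = n6205 := d15_2 (iv0 F5733) (iv0 F6852) F13062
theorem F13068 : act 7 n6181 = n3724 := d15_2 (iv0 F9667) (iv0 F9629) (iv2 F13062)
theorem F13069 : act 2 n3793 = n6181 := d4_3 F13068 (iv2 F13062) (iv7 F13067)
theorem E1746 : n3728 = n2601 := (c8_3 F13068 (iv3 D3724) D3728 D6181)
theorem E1747 : n8273 = n1634 := ((((iv1 F4179)).symm.trans (sb E1746 (iv1 F13059)))).symm
theorem E1749 : n6180 = n1633 := ((D6180).symm.trans (sb E1746 F5734))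
theorem E1750 : n6185 = n1632 := ((D6185).symm.trans (sb E1746 (iv7 D3728)))
theorem E1751 : n3723 = n2602 := ((((iv1 F4184)).symm.trans (sb E1747 (iv1 D8273)))).symm
theorem F13070 : act 2 n1633 = n2601 := (sb E1749 (iv2 D6180))
theorem F13071 : act 7 n1632 = n2601 := (sb E1750 (iv7 D6185))
theorem F13072 : act 2 n2602 = n1632 := (sb E1751 (iv2 D3723))
theorem E1752 : n8274 = n6186 := (((D6186).symm.trans (sb E1751 D8274))).symm
theorem F13073 : act 7 n2602 = n1633 := (sb E1751 (iv7 F5731))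
theorem F13074 : act 2 n6186 = n6231 := (sb E1752 F13061)
theorem F13075 : act 7 n6186 = n3729 := (sb E1752 F13060)
theorem F13076 : act 7 n3730 = n6187 := d11_2 F13073 D3730 (iv4 D6187)
theorem F13077 : act 7 n3731 = n6188 := d13_2 F13073 D3731 (iv5 D6188)
theorem F13078 : act 2 n6187 = n3725 := d15_3 F9711 F9712 F13076
theorem F13079 : act 2 n3730 = n6182 := d15_3 (iv0 F9632) F9636 (iv7 F13076)
theorem F13080 : act 2 n3823 = n6209 := d0_3 (iv3 F5735) F13079 F9631 (iv3 D6209) F13065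
theorem F13081 : act 7 n6182 = n3725 := d4_2 (iv7 F13076) F13079 (iv2 F13078)
theorem F13082 : act 7 n3797 = n6209 := d15_2 (iv0 F13053) (iv0 F13054) (iv2 F13080)
theorem F13083 : act 2 n3726 = n6188 := d2_3 (iv5 D6188) F13072 D3726
theorem F13084 : act 2 n3727 = n6189 := d3_3 (iv6 D6189) F13072 D3727
theorem F13085 : act 7 n6183 = n3726 := d13_2 F13071 D6183 (iv5 D3726)
theorem F13086 : act 2 n3731 = n6183 := d4_3 F13085 F13083 (iv7 F13077)
theorem F13088 : act 7 n3798 = n6210 := d13_2 F13066 D3798 (iv5 D6210)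
theorem F13089 : act 2 n3794 = n6210 := d2_3 (iv5 D6210) F13065 D3794
theorem F13091 : act 7 n6206 = n3794 := d13_2 F13064 D6206 (iv5 D3794)
theorem F13092 : act 2 n3798 = n6206 := d4_3 F13091 F13089 (iv7 F13088)
theorem F13093 : act 2 n6207 = n3799 := d3_3 (iv6 D3799) F13063 D6207
def n8275 : Q := act 5 n3724
theorem D8275 : act 5 n3724 = n8275 := rfl
theorem F13094 : act 3 n8275 = n3726 := d6_1 D8275 (iv5 D3726) D3724
def n8276 : Q := act 6 n3724
theorem D8276 : act 6 n3724 = n8276 := rfl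
theorem F13095 : act 3 n8276 = n3727 := d7_1 D8276 (iv6 D3727) D3724
theorem F13096 : act 4 n8276 = n3799 := d10_1 D8276 (iv6 D3799) (iv4 F5732)
def n8277 : Q := act 3 n3725
theorem D8277 : act 3 n3725 = n8277 := rfl
theorem F13097 : act 2 n8277 = n3797 := d0_1 D8277 (iv3 D3797) F13063 (iv3 F9634) F13078
theorem F13098 : act 4 n8277 = n3797 := d5_2 D3725 D8277 (iv3 D3797) (iv4 F5732) (iv3 D3724)
theorem F13099 : act 7 n8277 = n3823 := d8_2 F13081 D8277 (iv3 F9631)
theorem F13100 : act 0 n8277 = n3827 := d20_4 F2270 D1632 D3725 D8277 F5819 (iv4 F5828) F6425 (iv4 F6435) F6437 (iv1 D2597)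
theorem F13101 : act 1 n8277 = n3824 := d15_1 (iv0 F13100) (iv7 F13052) F13050
def n8278 : Q := act 5 n3725
theorem D8278 : act 5 n3725 = n8278 := rfl
def n8279 : Q := act 6 n3725
theorem D8279 : act 6 n3725 = n8279 := rfl
theorem F13102 : act 4 n8279 = n3727 := d10_1 D8279 (iv6 D3727) D3725
def n8280 : Q := act 0 n3726
theorem D8280 : act 0 n3726 = n8280 := rfl
theorem F13103 : act 1 n3731 = n8280 := d15_0 (iv0 D8280) (iv7 F13085) (iv2 F13086)
def n8284 : Q := act 0 n3727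
theorem D8284 : act 0 n3727 = n8284 := rfl
def n8285 : Q := act 1 n3727
theorem D8285 : act 1 n3727 = n8285 := rfl
def n8286 : Q := act 5 n3727
theorem D8286 : act 5 n3727 = n8286 := rfl
def n8287 : Q := act 7 n3727
theorem D8287 : act 7 n3727 = n8287 := rfl
def n8288 : Q := act 2 n3729
theorem D8288 : act 2 n3729 = n8288 := rfl
theorem F13105 : act 3 n8288 = n3793 := d0_2 D3729 D8288 F13069 (iv3 D6181) (iv2 F13070)
theorem F13106 : act 7 n8288 = n6231 := d4_2 F13075 D8288 (iv2 F13074)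
theorem F13107 : act 1 n8288 = n6233 := d15_0 (iv0 F9730) F13075 D8288
theorem F13108 : act 1 n6228 = n8288 := d15_0 F13107 (iv7 D6233) (iv2 F9713)
theorem F13109 : act 4 n8288 = n3729 := d20_2 (iv4 F9729) (iv1 F13107) (iv3 D3729) (iv1 D1633) (iv3 D876) (iv4 D555) (iv1 F713) (iv4 F1410) (iv3 F2297) (iv1 F6462)
def n8289 : Q := act 5 n3729
theorem D8289 : act 5 n3729 = n8289 := rfl
theorem F13110 : act 3 n8289 = n3731 := d6_1 D8289 (iv5 D3731) D3729
def n8290 : Q := act 6 n3729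
theorem D8290 : act 6 n3729 = n8290 := rfl
def n8291 : Q := act 5 n3730
theorem D8291 : act 5 n3730 = n8291 := rfl
theorem F13112 : act 3 n8291 = n3794 := d6_1 D8291 (iv5 D3794) (iv3 F5735)
def n8292 : Q := act 6 n3730
theorem D8292 : act 6 n3730 = n8292 := rfl
def n8299 : Q := act 4 n3733
theorem D8299 : act 4 n3733 = n8299 := rfl
theorem F13115 : act 2 n8299 = n3736 := d1_1 D8299 (iv4 D3736) (iv2 F5736)
def n8300 : Q := act 6 n3733
theorem D8300 : act 6 n3733 = n8300 := rfl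
theorem F13116 : act 2 n8300 = n3737 := d3_1 D8300 (iv6 D3737) (iv2 F5736)
theorem F13117 : act 5 n8300 = n8300 := d12_1 D8300 (iv6 D8300) (iv5 D3733) F2810 D3733
def n8301 : Q := act 2 n3734
theorem D8301 : act 2 n3734 = n8301 := rfl
theorem F13118 : act 7 n3735 = n8301 := d15_2 (iv0 D3734) D3735 (iv2 D8301)
def n8302 : Q := act 3 n3734
theorem D8302 : act 3 n3734 = n8302 := rfl
def n8303 : Q := act 4 n3734
theorem D8303 : act 4 n3734 = n8303 := rfl
def n8304 : Q := act 5 n3734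
theorem D8304 : act 5 n3734 = n8304 := rfl
def n8305 : Q := act 6 n3734
theorem D8305 : act 6 n3734 = n8305 := rfl
def n8306 : Q := act 7 n3734
theorem D8306 : act 7 n3734 = n8306 := rfl
def n8307 : Q := act 3 n3735
theorem D8307 : act 3 n3735 = n8307 := rfl
def n8308 : Q := act 4 n3735
theorem D8308 : act 4 n3735 = n8308 := rfl
def n8309 : Q := act 5 n3735
theorem D8309 : act 5 n3735 = n8309 := rfl
def n8310 : Q := act 6 n3735
theorem D8310 : act 6 n3735 = n8310 := rfl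
def n8311 : Q := act 0 n3736
theorem D8311 : act 0 n3736 = n8311 := rfl
def n8312 : Q := act 1 n3736
theorem D8312 : act 1 n3736 = n8312 := rfl
theorem F13120 : act 4 n8199 = n8312 := d20_6 (iv4 F5320) F5321 F3996 (iv3 F3241) D4671 (iv3 F12980) (iv1 D8312) (iv4 D3736) F2811 D1636
def n8313 : Q := act 5 n3736
theorem D8313 : act 5 n3736 = n8313 := rfl
def n8314 : Q := act 6 n3736
theorem D8314 : act 6 n3736 = n8314 := rfl
theorem F13121 : act 4 n8314 = n3737 := d10_1 D8314 (iv6 D3737) D3736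
def n8315 : Q := act 0 n3737
theorem D8315 : act 0 n3737 = n8315 := rfl
def n8316 : Q := act 1 n3737
theorem D8316 : act 1 n3737 = n8316 := rfl
def n8317 : Q := act 7 n3737
theorem D8317 : act 7 n3737 = n8317 := rfl
theorem F13122 : act 3 n8317 = n3744 := d8_1 D8317 (iv7 D3744) (iv3 F5737)
theorem F13123 : act 5 n8317 = n8317 := d13_1 D8317 (iv7 D8317) F5738
def n8318 : Q := act 0 n3738
theorem D8318 : act 0 n3738 = n8318 := rfl
theorem F13124 : act 1 n7994 = n8318 := d15_0 (iv0 D8318) F5740 (iv2 F12776)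
def n8319 : Q := act 1 n3738
theorem D8319 : act 1 n3738 = n8319 := rfl
def n8320 : Q := act 2 n3738
theorem D8320 : act 2 n3738 = n8320 := rfl
theorem F13125 : act 3 n8320 = n8011 := d0_2 D3738 D8320 F12784 F5661 F2814
theorem F13126 : act 5 n8320 = n6090 := d2_2 (iv5 F5739) D8320 (iv2 D6090)
theorem F13127 : act 7 n8320 = n7994 := d4_2 (iv7 F5740) D8320 F12776
theorem F13128 : act 1 n8320 = n7996 := d15_0 (iv0 D7996) (iv7 F5740) D8320
theorem F13129 : act 1 n8319 = n7994 := d15_1 D8319 (iv7 F13127) (iv2 D8320)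
theorem F13130 : act 1 n7997 = n8320 := d15_1 D7997 F13127 F12776
def n8321 : Q := act 4 n3738
theorem D8321 : act 4 n3738 = n8321 := rfl
theorem F13131 : act 7 n8321 = n7998 := d11_2 (iv7 F5740) D8321 (iv4 D7998)
def n8322 : Q := act 6 n3738
theorem D8322 : act 6 n3738 = n8322 := rfl
theorem F13132 : act 3 n8322 = n3739 := d7_1 D8322 (iv6 D3739) D3738
def n8323 : Q := act 0 n3739
theorem D8323 : act 0 n3739 = n8323 := rfl
def n8324 : Q := act 1 n3739
theorem D8324 : act 1 n3739 = n8324 := rfl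
theorem F13133 : act 1 n8324 = n8016 := d15_1 D8324 (iv7 D8016) (iv2 F5741)
def n8325 : Q := act 7 n3739
theorem D8325 : act 7 n3739 = n8325 := rfl
theorem F13134 : act 2 n8325 = n8016 := d4_1 D8325 (iv7 D8016) (iv2 F5741)
theorem F13135 : act 6 n8325 = n8006 := d14_1 D8325 (iv7 D8006) (iv6 D3621) F2815 D3739
theorem F13136 : act 1 n8016 = n8323 := d15_0 (iv0 D8323) D8325 F13134
theorem F13137 : act 1 n8015 = n8325 := d15_1 D8015 (iv7 D8325) F5741
theorem F13138 : act 1 n8325 = n8014 := d15_0 (iv0 D8014) D8016 (iv2 F13134)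
def n8326 : Q := act 2 n3740
theorem D8326 : act 2 n3740 = n8326 := rfl
theorem F13139 : act 3 n8326 = n7994 := d0_2 D3740 D8326 F12776 F5655 F2819
theorem F13140 : act 5 n8326 = n4217 := d2_2 (iv5 F5742) D8326 F6114
theorem F13141 : act 7 n8326 = n8011 := d4_2 (iv7 F5743) D8326 F12784
theorem F13142 : act 1 n8326 = n4821 := d15_0 F7022 (iv7 F5743) D8326
theorem F13143 : act 1 n4743 = n8326 := d15_0 F13142 F6966 (iv2 F6853)
def n8327 : Q := act 4 n3740
theorem D8327 : act 4 n3740 = n8327 := rfl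
theorem F13144 : act 7 n8327 = n8012 := d11_2 (iv7 F5743) D8327 (iv4 D8012)
def n8328 : Q := act 6 n3740
theorem D8328 : act 6 n3740 = n8328 := rfl
theorem F13145 : act 3 n8328 = n3741 := d7_1 D8328 (iv6 D3741) D3740
def n8329 : Q := act 0 n3741
theorem D8329 : act 0 n3741 = n8329 := rfl
def n8330 : Q := act 1 n3741
theorem D8330 : act 1 n3741 = n8330 := rfl
theorem F13146 : act 1 n8330 = n8006 := d15_1 D8330 (iv7 D8006) (iv2 F5744)
def n8331 : Q := act 7 n3741
theorem D8331 : act 7 n3741 = n8331 := rfl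
theorem F13147 : act 2 n8331 = n8006 := d4_1 D8331 (iv7 D8006) (iv2 F5744)
theorem F13148 : act 6 n8331 = n8016 := d14_1 D8331 (iv7 D8016) (iv6 D3627) (iv7 F2817) D3741
theorem F13149 : act 1 n8006 = n8329 := d15_0 (iv0 D8329) D8331 F13147
theorem F13150 : act 1 n8004 = n8331 := d15_1 D8004 (iv7 D8331) F5744
theorem F13151 : act 1 n8331 = n8003 := d15_0 (iv0 D8003) D8006 (iv2 F13147)
def n8332 : Q := act 2 n3742
theorem D8332 : act 2 n3742 = n8332 := rfl
theorem F13152 : act 7 n3743 = n8332 := d15_2 (iv0 D3742) D3743 (iv2 D8332)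
def n8333 : Q := act 3 n3742
theorem D8333 : act 3 n3742 = n8333 := rfl
def n8334 : Q := act 4 n3742
theorem D8334 : act 4 n3742 = n8334 := rfl
def n8335 : Q := act 5 n3742
theorem D8335 : act 5 n3742 = n8335 := rfl
def n8336 : Q := act 6 n3742
theorem D8336 : act 6 n3742 = n8336 := rfl
theorem F13153 : act 5 n8336 = n8253 := d21_6 (iv5 D912) F1110 D877 D1638 D3742 D8336 (iv1 D8253) (iv5 D3712) (iv6 D1626) (iv1 F1710)
def n8337 : Q := act 7 n3742
theorem D8337 : act 7 n3742 = n8337 := rfl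
theorem F13154 : act 2 n8337 = n3743 := d4_1 D8337 F13152 (iv2 D8332)
def n8338 : Q := act 3 n3743
theorem D8338 : act 3 n3743 = n8338 := rfl
def n8339 : Q := act 4 n3743
theorem D8339 : act 4 n3743 = n8339 := rfl
def n8340 : Q := act 5 n3743
theorem D8340 : act 5 n3743 = n8340 := rfl
theorem F13155 : act 6 n6110 = n8340 := d21_5 F2812 (iv1 D1200) D1202 D2573 D6110 (iv5 D8340) (iv1 D3743) F2820 (iv6 D1638) D1636
def n8341 : Q := act 6 n3743
theorem D8341 : act 6 n3743 = n8341 := rfl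
def n8342 : Q := act 0 n3746
theorem D8342 : act 0 n3746 = n8342 := rfl
theorem F13156 : act 4 n8342 = n6227 := d20_2 D3746 D8342 (iv3 D6227) F6466 F2297 F1410 (iv1 F712) D560 D878 D1639
theorem F13157 : act 3 n8342 = n3824 := d20_5 (iv4 F6535) F6533 D4597 F6664 D8342 (iv4 F6451) (iv1 F5875) F5730 (iv3 F5908) (iv1 F5912)
theorem F13158 : act 2 n3818 = n8342 := d15_3 (iv0 D8342) (iv0 F5823) (iv7 F5811)
theorem F13159 : act 1 n3751 = n8342 := d15_0 (iv0 D8342) (iv7 F9596) F9594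
theorem F13160 : act 7 n8342 = n3845 := d15_2 (iv0 F6668) F13159 (iv2 D3845)
theorem F13161 : act 6 n8342 = n8342 := d3_2 F7188 F13158 (iv2 F13158)
def n8343 : Q := act 5 n3746
theorem D8343 : act 5 n3746 = n8343 := rfl
def n8344 : Q := act 6 n3746
theorem D8344 : act 6 n3746 = n8344 := rfl
theorem F13162 : act 4 n8344 = n3748 := d10_1 D8344 (iv6 D3748) D3746
def n8346 : Q := act 1 n3747
theorem D8346 : act 1 n3747 = n8346 := rfl
theorem F13164 : act 1 n8346 = n3752 := d15_1 D8346 (iv7 F9606) F9604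
def n8353 : Q := act 5 n3750
theorem D8353 : act 5 n3750 = n8353 := rfl
theorem F13165 : act 2 n8353 = n4755 := d2_1 D8353 (iv5 D4755) (iv2 F6445)
theorem F13166 : act 3 n8353 = n3752 := d6_1 D8353 (iv5 D3752) D3750
theorem F13167 : act 7 n8353 = n4757 := d13_2 (iv7 F6436) D8353 (iv5 D4757)
def n8354 : Q := act 6 n3750
theorem D8354 : act 6 n3750 = n8354 := rfl
theorem F13168 : act 2 n8354 = n4756 := d3_1 D8354 (iv6 D4756) (iv2 F6445)
theorem F13169 : act 3 n8354 = n3753 := d7_1 D8354 (iv6 D3753) D3750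
def n8355 : Q := act 5 n3751
theorem D8355 : act 5 n3751 = n8355 := rfl
theorem F13170 : act 3 n8355 = n3778 := d6_1 D8355 (iv5 D3778) (iv3 F5748)
def n8356 : Q := act 6 n3751
theorem D8356 : act 6 n3751 = n8356 := rfl
theorem F13171 : act 3 n8356 = n3779 := d7_1 D8356 (iv6 D3779) (iv3 F5748)
theorem F13172 : act 4 n8356 = n3753 := d10_1 D8356 (iv6 D3753) D3751
def n8361 : Q := act 5 n3753
theorem D8361 : act 5 n3753 = n8361 := rfl
def n8363 : Q := act 4 n3754
theorem D8363 : act 4 n3754 = n8363 := rfl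
theorem F13173 : act 2 n8363 = n3758 := d1_1 D8363 (iv4 D3758) (iv2 F5749)
def n8364 : Q := act 6 n3754
theorem D8364 : act 6 n3754 = n8364 := rfl
theorem F13174 : act 2 n8364 = n3759 := d3_1 D8364 (iv6 D3759) (iv2 F5749)
def n8365 : Q := act 5 n3755
theorem D8365 : act 5 n3755 = n8365 := rfl
theorem F13175 : act 2 n8365 = n3762 := d2_1 D8365 (iv5 D3762) (iv2 F5750)
theorem F13176 : act 7 n8365 = n8365 := d13_2 F5751 D8365 (iv5 D8365)
def n8366 : Q := act 2 n3756
theorem D8366 : act 2 n3756 = n8366 := rfl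
theorem F13177 : act 7 n3757 = n8366 := d15_2 (iv0 D3756) D3757 (iv2 D8366)
def n8367 : Q := act 3 n3756
theorem D8367 : act 3 n3756 = n8367 := rfl
def n8368 : Q := act 4 n3756
theorem D8368 : act 4 n3756 = n8368 := rfl
def n8369 : Q := act 5 n3756
theorem D8369 : act 5 n3756 = n8369 := rfl
def n8370 : Q := act 6 n3756
theorem D8370 : act 6 n3756 = n8370 := rfl
def n8371 : Q := act 7 n3756
theorem D8371 : act 7 n3756 = n8371 := rfl
theorem F13178 : act 2 n8371 = n3757 := d4_1 D8371 F13177 (iv2 D8366)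
def n8372 : Q := act 3 n3757
theorem D8372 : act 3 n3757 = n8372 := rfl
def n8373 : Q := act 4 n3757
theorem D8373 : act 4 n3757 = n8373 := rfl
def n8374 : Q := act 5 n3757
theorem D8374 : act 5 n3757 = n8374 := rfl
def n8375 : Q := act 6 n3757
theorem D8375 : act 6 n3757 = n8375 := rfl
def n8376 : Q := act 0 n3758
theorem D8376 : act 0 n3758 = n8376 := rfl
def n8377 : Q := act 1 n3758
theorem D8377 : act 1 n3758 = n8377 := rfl
def n8378 : Q := act 5 n3758
theorem D8378 : act 5 n3758 = n8378 := rfl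
def n8379 : Q := act 6 n3758
theorem D8379 : act 6 n3758 = n8379 := rfl
theorem F13179 : act 4 n8379 = n3759 := d10_1 D8379 (iv6 D3759) D3758
def n8380 : Q := act 0 n3759
theorem D8380 : act 0 n3759 = n8380 := rfl
def n8381 : Q := act 1 n3759
theorem D8381 : act 1 n3759 = n8381 := rfl
def n8382 : Q := act 5 n3759
theorem D8382 : act 5 n3759 = n8382 := rfl
theorem F13180 : act 3 n8382 = n3765 := d6_1 D8382 (iv5 D3765) (iv3 F5752)
theorem F13181 : act 6 n8382 = n3762 := d12_2 D3759 D8382 (iv5 D3762) (iv6 D1643) D1642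
def n8383 : Q := act 7 n3759
theorem D8383 : act 7 n3759 = n8383 := rfl
theorem F13182 : act 3 n8383 = n3766 := d8_1 D8383 (iv7 D3766) (iv3 F5752)
def n8384 : Q := act 2 n3760
theorem D8384 : act 2 n3760 = n8384 := rfl
theorem F13183 : act 7 n3761 = n8384 := d15_2 (iv0 D3760) D3761 (iv2 D8384)
def n8385 : Q := act 4 n3760
theorem D8385 : act 4 n3760 = n8385 := rfl
def n8386 : Q := act 5 n3760
theorem D8386 : act 5 n3760 = n8386 := rfl
def n8387 : Q := act 6 n3760
theorem D8387 : act 6 n3760 = n8387 := rfl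
def n8388 : Q := act 7 n3760
theorem D8388 : act 7 n3760 = n8388 := rfl
theorem F13184 : act 2 n8388 = n3761 := d4_1 D8388 F13183 (iv2 D8384)
def n8389 : Q := act 3 n3761
theorem D8389 : act 3 n3761 = n8389 := rfl
def n8390 : Q := act 4 n3761
theorem D8390 : act 4 n3761 = n8390 := rfl
theorem F13185 : act 3 n8390 = n4675 := d20_9 F6743 (iv1 F3252) D4702 (iv3 F6797) (iv1 F5753) (iv3 F9643) F9644 (iv1 F5754) D8390 (iv1 F6776)
def n8391 : Q := act 5 n3761
theorem D8391 : act 5 n3761 = n8391 := rfl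
def n8392 : Q := act 6 n3761
theorem D8392 : act 6 n3761 = n8392 := rfl
def n8393 : Q := act 0 n3762
theorem D8393 : act 0 n3762 = n8393 := rfl
theorem F13186 : act 1 n8365 = n8393 := d15_0 (iv0 D8393) F5756 (iv2 F13175)
def n8394 : Q := act 1 n3762
theorem D8394 : act 1 n3762 = n8394 := rfl
theorem F13187 : act 1 n8394 = n8365 := d15_1 D8394 F13176 F13175
def n8395 : Q := act 4 n3762
theorem D8395 : act 4 n3762 = n8395 := rfl
def n8396 : Q := act 2 n3763
theorem D8396 : act 2 n3763 = n8396 := rfl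
theorem F13189 : act 7 n3764 = n8396 := d15_2 (iv0 D3763) D3764 (iv2 D8396)
def n8397 : Q := act 3 n3763
theorem D8397 : act 3 n3763 = n8397 := rfl
def n8398 : Q := act 4 n3763
theorem D8398 : act 4 n3763 = n8398 := rfl
def n8399 : Q := act 5 n3763
theorem D8399 : act 5 n3763 = n8399 := rfl
def n8400 : Q := act 6 n3763
theorem D8400 : act 6 n3763 = n8400 := rfl
theorem F13190 : act 5 n8400 = n8108 := d21_6 F2780 (iv1 F1637) D879 D1644 D3763 D8400 (iv1 D8108) (iv5 D3652) (iv6 D1602) D1601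
def n8401 : Q := act 7 n3763
theorem D8401 : act 7 n3763 = n8401 := rfl
theorem F13191 : act 2 n8401 = n3764 := d4_1 D8401 F13189 (iv2 D8396)
def n8402 : Q := act 3 n3764
theorem D8402 : act 3 n3764 = n8402 := rfl
def n8403 : Q := act 4 n3764
theorem D8403 : act 4 n3764 = n8403 := rfl
def n8404 : Q := act 5 n3764
theorem D8404 : act 5 n3764 = n8404 := rfl
def n8405 : Q := act 6 n3764
theorem D8405 : act 6 n3764 = n8405 := rfl
def n8406 : Q := act 0 n3765
theorem D8406 : act 0 n3765 = n8406 := rfl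
def n8407 : Q := act 1 n3765
theorem D8407 : act 1 n3765 = n8407 := rfl
def n8408 : Q := act 4 n3765
theorem D8408 : act 4 n3765 = n8408 := rfl
theorem F13192 : act 6 n8408 = n3771 := d10_2 (iv6 F5757) D8408 (iv4 D3771)
def n8409 : Q := act 7 n3765
theorem D8409 : act 7 n3765 = n8409 := rfl
theorem F13193 : act 5 n8409 = n3766 := d13_1 D8409 (iv7 D3766) D3765
theorem F13194 : act 6 n8409 = n8409 := d14_1 D8409 (iv7 D8409) F5757 F2826 (iv6 F5757)
def n8410 : Q := act 0 n3767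
theorem D8410 : act 0 n3767 = n8410 := rfl
def n8411 : Q := act 1 n3767
theorem D8411 : act 1 n3767 = n8411 := rfl
def n8412 : Q := act 2 n3767
theorem D8412 : act 2 n3767 = n8412 := rfl
theorem F13195 : act 4 n8412 = n4575 := d1_2 (iv4 F5758) D8412 (iv2 D4575)
theorem F13196 : act 7 n8412 = n8412 := d4_2 F5759 D8412 (iv2 D8412)
theorem F13197 : act 1 n8412 = n8410 := d15_0 (iv0 D8410) F5759 D8412
theorem F13198 : act 1 n8411 = n8412 := d15_1 D8411 F13196 (iv2 D8412)
def n8413 : Q := act 5 n3767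
theorem D8413 : act 5 n3767 = n8413 := rfl
theorem F13199 : act 3 n8413 = n3768 := d6_1 D8413 (iv5 D3768) D3767
theorem F13200 : act 7 n8413 = n8413 := d13_2 F5759 D8413 (iv5 D8413)
def n8414 : Q := act 4 n3768
theorem D8414 : act 4 n3768 = n8414 := rfl
theorem F13201 : act 7 n8414 = n8414 := d11_2 F5760 D8414 (iv4 D8414)
theorem F13202 : act 0 n8414 = n3813 := d18_2 (iv1 F5762) D8414 (iv4 D3813) (iv5 D1666) (iv4 F2847) F2922 (iv4 F3095) (iv0 D1645) D1647
theorem F13203 : act 1 n8414 = n6224 := d18_6 F3091 F2292 D1712 (iv4 F3095) D3768 D8414 (iv4 D6224) (iv0 F5774) (iv5 D3773)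
def n8415 : Q := act 6 n3768
theorem D8415 : act 6 n3768 = n8415 := rfl
def n8416 : Q := act 0 n3769
theorem D8416 : act 0 n3769 = n8416 := rfl
def n8417 : Q := act 1 n3769
theorem D8417 : act 1 n3769 = n8417 := rfl
def n8418 : Q := act 2 n3769
theorem D8418 : act 2 n3769 = n8418 := rfl
theorem F13204 : act 3 n8418 = n8412 := d0_2 D3769 D8418 (iv2 D8412) (iv3 D3767) F3097
theorem F13205 : act 4 n8418 = n8418 := d1_2 F5763 D8418 (iv2 D8418)
theorem F13206 : act 6 n8418 = n8113 := d3_2 (iv6 F5764) D8418 (iv2 D8113)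
theorem F13207 : act 7 n8418 = n8418 := d4_2 F5765 D8418 (iv2 D8418)
theorem F13208 : act 1 n8418 = n8416 := d15_0 (iv0 D8416) F5765 D8418
theorem F13209 : act 1 n8417 = n8418 := d15_1 D8417 F13207 (iv2 D8418)
def n8419 : Q := act 5 n3769
theorem D8419 : act 5 n3769 = n8419 := rfl
theorem F13210 : act 3 n8419 = n3770 := d6_1 D8419 (iv5 D3770) D3769
theorem F13211 : act 7 n8419 = n8419 := d13_2 F5765 D8419 (iv5 D8419)
def n8420 : Q := act 4 n3770
theorem D8420 : act 4 n3770 = n8420 := rfl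
theorem F13212 : act 2 n8420 = n8414 := d1_1 D8420 (iv4 D8414) (iv2 F5766)
theorem F13213 : act 7 n8420 = n8420 := d11_2 F5767 D8420 (iv4 D8420)
theorem F13214 : act 5 n8420 = n8414 := d16_1 D8420 (iv4 D8414) (iv5 D3768) F3095 F2923 (iv4 F3095) D3768 F5760 (iv2 F5766)
theorem F13215 : act 0 n8420 = n6224 := d18_2 (iv1 F5769) D8420 (iv4 D6224) (iv5 D2614) F2292 D1713 (iv4 F3096) F2825 D2607
theorem F13216 : act 1 n8420 = n3813 := d18_6 F3100 (iv4 F2847) (iv1 F2924) (iv4 F3096) D3770 D8420 (iv4 D3813) (iv0 F5781) (iv5 D3775)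
def n8421 : Q := act 6 n3770
theorem D8421 : act 6 n3770 = n8421 := rfl
theorem F13217 : act 2 n8421 = n8415 := d3_1 D8421 (iv6 D8415) (iv2 F5766)
theorem F13218 : act 5 n8421 = n8116 := d12_1 D8421 (iv6 D8116) (iv5 D3655) F3098 D3770
def n8422 : Q := act 0 n3771
theorem D8422 : act 0 n3771 = n8422 := rfl
theorem F13219 : act 4 n8422 = n3773 := d18_3 F5768 D3771 D8422 (iv5 D3773) (iv4 D1649) (iv0 D881) (iv4 F1639) D1646 D3770
theorem F13220 : act 1 n6203 = n8422 := d15_0 (iv0 D8422) F5770 (iv2 F9662)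
theorem F13221 : act 7 n8422 = n8422 := d11_0 F13219 F5773 (iv4 F13219)
def n8423 : Q := act 1 n3771
theorem D8423 : act 1 n3771 = n8423 := rfl
theorem F13222 : act 1 n8423 = n6203 := d15_1 D8423 F9663 F9662
theorem F13223 : act 5 n8423 = n8422 := d17_7 (iv1 F5762) (iv5 D3768) (iv1 F2824) D2607 D6203 F9664 D8423 (iv0 D8422) (iv4 D3771)
theorem F13224 : act 4 n8423 = n3775 := d17_9 F5781 (iv5 D1666) (iv1 F3092) D3773 (iv4 F13219) (iv5 F13223) F13222 F9664 D8423
theorem F13225 : act 2 n8422 = n8423 := d1_3 F13224 F5779 (iv4 F13219)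
theorem F13226 : act 7 n8423 = n8423 := d11_0 F13224 F5780 (iv4 F13224)
def n8424 : Q := act 3 n3771
theorem D8424 : act 3 n3771 = n8424 := rfl
theorem F13227 : act 7 n8424 = n8424 := d8_2 F5770 D8424 (iv3 D8424)
def n8425 : Q := act 0 n3772
theorem D8425 : act 0 n3772 = n8425 := rfl
def n8426 : Q := act 1 n3772
theorem D8426 : act 1 n3772 = n8426 := rfl
def n8427 : Q := act 2 n3772
theorem D8427 : act 2 n3772 = n8427 := rfl
theorem F13228 : act 4 n8427 = n4583 := d1_2 (iv4 F5771) D8427 (iv2 D4583)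
theorem F13230 : act 1 n8427 = n8425 := d15_0 (iv0 D8425) F5772 D8427
def n8428 : Q := act 5 n3772
theorem D8428 : act 5 n3772 = n8428 := rfl
theorem F13232 : act 3 n8428 = n3773 := d6_1 D8428 (iv5 D3773) D3772
theorem F13233 : act 7 n8428 = n8428 := d13_2 F5772 D8428 (iv5 D8428)
def n8429 : Q := act 6 n3773
theorem D8429 : act 6 n3773 = n8429 := rfl
def n8430 : Q := act 0 n3774
theorem D8430 : act 0 n3774 = n8430 := rfl
def n8431 : Q := act 1 n3774
theorem D8431 : act 1 n3774 = n8431 := rfl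
def n8432 : Q := act 2 n3774
theorem D8432 : act 2 n3774 = n8432 := rfl
theorem F13234 : act 3 n8432 = n8427 := d0_2 D3774 D8432 (iv2 D8427) (iv3 D3772) (iv2 F2833)
theorem F13235 : act 4 n8432 = n8432 := d1_2 F5776 D8432 (iv2 D8432)
theorem F13236 : act 6 n8432 = n8133 := d3_2 (iv6 F5777) D8432 (iv2 D8133)
theorem F13237 : act 7 n8432 = n8432 := d4_2 F5778 D8432 (iv2 D8432)
theorem F13238 : act 1 n8432 = n8430 := d15_0 (iv0 D8430) F5778 D8432
theorem F13239 : act 1 n8431 = n8432 := d15_1 D8431 F13237 (iv2 D8432)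
def n8433 : Q := act 5 n3774
theorem D8433 : act 5 n3774 = n8433 := rfl
theorem F13240 : act 3 n8433 = n3775 := d6_1 D8433 (iv5 D3775) D3774
theorem F13241 : act 7 n8433 = n8433 := d13_2 F5778 D8433 (iv5 D8433)
def n8434 : Q := act 6 n3775
theorem D8434 : act 6 n3775 = n8434 := rfl
theorem F13242 : act 2 n8434 = n8429 := d3_1 D8434 (iv6 D8429) (iv2 F5779)
theorem F13243 : act 5 n8434 = n8136 := d12_1 D8434 (iv6 D8136) (iv5 D3663) (iv6 F2834) D3775
def n8435 : Q := act 5 n3777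
theorem D8435 : act 5 n3777 = n8435 := rfl
theorem F13244 : act 2 n8435 = n4270 := d2_1 D8435 F7255 (iv2 F6382)
theorem F13245 : act 1 n8435 = n4997 := d17_6 (iv1 D3527) (iv5 F2867) (iv1 F7084) (iv5 D3778) D3777 D8435 F7421 F12307 F5552
theorem F13246 : act 4 n8435 = n4948 := d18_5 (iv1 D986) (iv4 F1646) D1652 D3777 D8435 (iv0 D4948) (iv4 D2038) (iv0 F7081) (iv5 D1915)
theorem F13247 : act 1 n4997 = n4392 := d15_1 F13245 (iv7 F7256) (iv2 F13244)
def n8436 : Q := act 6 n3777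
theorem D8436 : act 6 n3777 = n8436 := rfl
theorem F13248 : act 2 n8436 = n4448 := d3_1 D8436 (iv6 D4448) (iv2 F6382)
theorem F13249 : act 4 n8436 = n3779 := d10_1 D8436 (iv6 D3779) D3777
def n8437 : Q := act 4 n3778
theorem D8437 : act 4 n3778 = n8437 := rfl
def n8438 : Q := act 6 n3778
theorem D8438 : act 6 n3778 = n8438 := rfl
def n8439 : Q := act 0 n3779
theorem D8439 : act 0 n3779 = n8439 := rfl
def n8440 : Q := act 1 n3779
theorem D8440 : act 1 n3779 = n8440 := rfl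
def n8441 : Q := act 5 n3779
theorem D8441 : act 5 n3779 = n8441 := rfl
def n8442 : Q := act 7 n3779
theorem D8442 : act 7 n3779 = n8442 := rfl
def n8443 : Q := act 5 n3781
theorem D8443 : act 5 n3781 = n8443 := rfl
theorem F13250 : act 3 n8443 = n3782 := d6_1 D8443 (iv5 D3782) D3781
def n8444 : Q := act 6 n3781
theorem D8444 : act 6 n3781 = n8444 := rfl
def n8445 : Q := act 4 n3782
theorem D8445 : act 4 n3782 = n8445 := rfl
def n8446 : Q := act 6 n3782
theorem D8446 : act 6 n3782 = n8446 := rfl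
def n8448 : Q := act 1 n3783
theorem D8448 : act 1 n3783 = n8448 := rfl
def n8450 : Q := act 7 n3783
theorem D8450 : act 7 n3783 = n8450 := rfl
def n8451 : Q := act 4 n3784
theorem D8451 : act 4 n3784 = n8451 := rfl
theorem F13253 : act 2 n8451 = n3787 := d1_1 D8451 (iv4 D3787) (iv2 F5786)
def n8452 : Q := act 6 n3784
theorem D8452 : act 6 n3784 = n8452 := rfl
theorem F13254 : act 2 n8452 = n3788 := d3_1 D8452 (iv6 D3788) (iv2 F5786)
theorem F13255 : act 5 n8452 = n8452 := d12_1 D8452 (iv6 D8452) (iv5 D3784) F2837 D3784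
def n8453 : Q := act 3 n3785
theorem D8453 : act 3 n3785 = n8453 := rfl
theorem F13256 : act 5 n8453 = n6097 := d6_2 F6929 D8453 F9471
theorem F13257 : act 7 n8453 = n8199 := d8_2 F12176 D8453 F12980
theorem F13258 : act 2 n8188 = n8453 := d2_3 F13256 (iv2 F12201) D8188
def n8454 : Q := act 4 n3785
theorem D8454 : act 4 n3785 = n8454 := rfl
def n8455 : Q := act 6 n3785
theorem D8455 : act 6 n3785 = n8455 := rfl
def n8456 : Q := act 3 n3786
theorem D8456 : act 3 n3786 = n8456 := rfl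
def n8457 : Q := act 4 n3786
theorem D8457 : act 4 n3786 = n8457 := rfl
def n8458 : Q := act 6 n3786
theorem D8458 : act 6 n3786 = n8458 := rfl
def n8459 : Q := act 0 n3787
theorem D8459 : act 0 n3787 = n8459 := rfl
def n8460 : Q := act 1 n3787
theorem D8460 : act 1 n3787 = n8460 := rfl
theorem F13259 : act 4 n8367 = n8460 := d20_6 D2559 F4072 F2619 (iv3 F2821) D3756 D8367 (iv1 D8460) (iv4 D3787) F2838 (iv1 F2200)
def n8461 : Q := act 5 n3787
theorem D8461 : act 5 n3787 = n8461 := rfl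
def n8462 : Q := act 6 n3787
theorem D8462 : act 6 n3787 = n8462 := rfl
theorem F13260 : act 4 n8462 = n3788 := d10_1 D8462 (iv6 D3788) D3787
def n8463 : Q := act 0 n3788
theorem D8463 : act 0 n3788 = n8463 := rfl
def n8464 : Q := act 1 n3788
theorem D8464 : act 1 n3788 = n8464 := rfl
def n8465 : Q := act 7 n3788
theorem D8465 : act 7 n3788 = n8465 := rfl
theorem F13261 : act 3 n8465 = n3791 := d8_1 D8465 (iv7 D3791) (iv3 F5787)
theorem F13262 : act 5 n8465 = n8465 := d13_1 D8465 (iv7 D8465) F5788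
def n8466 : Q := act 2 n3789
theorem D8466 : act 2 n3789 = n8466 := rfl
theorem F13263 : act 7 n3790 = n8466 := d15_2 (iv0 D3789) D3790 (iv2 D8466)
def n8467 : Q := act 3 n3789
theorem D8467 : act 3 n3789 = n8467 := rfl
def n8468 : Q := act 4 n3789
theorem D8468 : act 4 n3789 = n8468 := rfl
def n8469 : Q := act 5 n3789
theorem D8469 : act 5 n3789 = n8469 := rfl
def n8470 : Q := act 6 n3789
theorem D8470 : act 6 n3789 = n8470 := rfl
def n8471 : Q := act 7 n3789
theorem D8471 : act 7 n3789 = n8471 := rfl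
theorem F13264 : act 2 n8471 = n3790 := d4_1 D8471 F13263 (iv2 D8466)
def n8472 : Q := act 3 n3790
theorem D8472 : act 3 n3790 = n8472 := rfl
def n8473 : Q := act 4 n3790
theorem D8473 : act 4 n3790 = n8473 := rfl
def n8474 : Q := act 5 n3790
theorem D8474 : act 5 n3790 = n8474 := rfl
theorem F13265 : act 6 n6281 = n8474 := d21_5 (iv5 D1194) (iv1 F1698) (iv5 F2299) D2636 D6281 (iv5 D8474) (iv1 D3790) F2839 (iv6 D1656) (iv1 F2200)
def n8475 : Q := act 6 n3790
theorem D8475 : act 6 n3790 = n8475 := rfl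
def n8476 : Q := act 5 n3793
theorem D8476 : act 5 n3793 = n8476 := rfl
def n8477 : Q := act 6 n3793
theorem D8477 : act 6 n3793 = n8477 := rfl
theorem F13266 : act 4 n8477 = n3795 := d10_1 D8477 (iv6 D3795) D3793
def n8478 : Q := act 0 n3794
theorem D8478 : act 0 n3794 = n8478 := rfl
theorem F13267 : act 1 n3798 = n8478 := d15_0 (iv0 D8478) (iv7 F13091) (iv2 F13092)
def n8479 : Q := act 1 n3794
theorem D8479 : act 1 n3794 = n8479 := rfl
theorem F13268 : act 1 n8479 = n3798 := d15_1 D8479 F13088 (iv2 F13089)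
def n8480 : Q := act 4 n3794
theorem D8480 : act 4 n3794 = n8480 := rfl
def n8481 : Q := act 6 n3794
theorem D8481 : act 6 n3794 = n8481 := rfl
def n8486 : Q := act 5 n3797
theorem D8486 : act 5 n3797 = n8486 := rfl
theorem F13269 : act 3 n8486 = n3798 := d6_1 D8486 (iv5 D3798) D3797
def n8487 : Q := act 6 n3797
theorem D8487 : act 6 n3797 = n8487 := rfl
theorem F13270 : act 3 n8487 = n3799 := d7_1 D8487 (iv6 D3799) D3797
def n8488 : Q := act 4 n3798
theorem D8488 : act 4 n3798 = n8488 := rfl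
def n8489 : Q := act 6 n3798
theorem D8489 : act 6 n3798 = n8489 := rfl
def n8490 : Q := act 0 n3799
theorem D8490 : act 0 n3799 = n8490 := rfl
def n8491 : Q := act 1 n3799
theorem D8491 : act 1 n3799 = n8491 := rfl
def n8492 : Q := act 5 n3799
theorem D8492 : act 5 n3799 = n8492 := rfl
def n8493 : Q := act 7 n3799
theorem D8493 : act 7 n3799 = n8493 := rfl
def n8494 : Q := act 4 n3800
theorem D8494 : act 4 n3800 = n8494 := rfl
theorem F13271 : act 2 n8494 = n3804 := d1_1 D8494 (iv4 D3804) (iv2 F5792)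
def n8495 : Q := act 6 n3800
theorem D8495 : act 6 n3800 = n8495 := rfl
theorem F13272 : act 2 n8495 = n3805 := d3_1 D8495 (iv6 D3805) (iv2 F5792)
def n8496 : Q := act 5 n3801
theorem D8496 : act 5 n3801 = n8496 := rfl
theorem F13273 : act 2 n8496 = n3808 := d2_1 D8496 (iv5 D3808) (iv2 F5793)
theorem F13274 : act 7 n8496 = n8496 := d13_2 F5795 D8496 (iv5 D8496)
def n8497 : Q := act 2 n3802
theorem D8497 : act 2 n3802 = n8497 := rfl
theorem F13275 : act 7 n3803 = n8497 := d15_2 (iv0 D3802) D3803 (iv2 D8497)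
def n8498 : Q := act 3 n3802
theorem D8498 : act 3 n3802 = n8498 := rfl
def n8499 : Q := act 4 n3802
theorem D8499 : act 4 n3802 = n8499 := rfl
def n8500 : Q := act 5 n3802
theorem D8500 : act 5 n3802 = n8500 := rfl
def n8501 : Q := act 6 n3802
theorem D8501 : act 6 n3802 = n8501 := rfl
def n8502 : Q := act 7 n3802
theorem D8502 : act 7 n3802 = n8502 := rfl
theorem F13276 : act 2 n8502 = n3803 := d4_1 D8502 F13275 (iv2 D8497)
def n8503 : Q := act 3 n3803
theorem D8503 : act 3 n3803 = n8503 := rfl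
def n8504 : Q := act 4 n3803
theorem D8504 : act 4 n3803 = n8504 := rfl
def n8505 : Q := act 5 n3803
theorem D8505 : act 5 n3803 = n8505 := rfl
def n8506 : Q := act 6 n3803
theorem D8506 : act 6 n3803 = n8506 := rfl
def n8507 : Q := act 0 n3804
theorem D8507 : act 0 n3804 = n8507 := rfl
def n8508 : Q := act 1 n3804
theorem D8508 : act 1 n3804 = n8508 := rfl
theorem F13277 : act 4 n8302 = n8508 := d20_6 (iv4 F4062) F4063 F2621 (iv3 F2811) D3734 D8302 (iv1 D8508) (iv4 D3804) F2841 (iv1 F2727)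
theorem F13278 : act 0 n4759 = n8302 := d18_0 F13277 (iv1 D8508) (iv4 D3804) (iv5 D1660) F1653 D1658 (iv4 F5732) (iv0 F5733) D4759
def n8509 : Q := act 5 n3804
theorem D8509 : act 5 n3804 = n8509 := rfl
theorem F13279 : act 0 n4784 = n8509 := d19_0 (iv5 D8509) (iv4 D3804) F2841 (iv1 F2727) F2725 F1595 F821 (iv1 F566) (iv5 D106) F91 F977 (iv1 D25) D26 D110 D341 D643 D1003 D1976 D4784
def n8510 : Q := act 6 n3804
theorem D8510 : act 6 n3804 = n8510 := rfl
theorem F13280 : act 4 n8510 = n3805 := d10_1 D8510 (iv6 D3805) D3804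
def n8511 : Q := act 0 n3805
theorem D8511 : act 0 n3805 = n8511 := rfl
def n8512 : Q := act 1 n3805
theorem D8512 : act 1 n3805 = n8512 := rfl
def n8513 : Q := act 5 n3805
theorem D8513 : act 5 n3805 = n8513 := rfl
theorem F13281 : act 3 n8513 = n3811 := d6_1 D8513 (iv5 D3811) (iv3 F5796)
theorem F13282 : act 6 n8513 = n3808 := d12_2 D3805 D8513 (iv5 D3808) (iv6 D1661) D1660
def n8514 : Q := act 7 n3805
theorem D8514 : act 7 n3805 = n8514 := rfl
theorem F13283 : act 3 n8514 = n3812 := d8_1 D8514 (iv7 D3812) (iv3 F5796)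
def n8515 : Q := act 2 n3806
theorem D8515 : act 2 n3806 = n8515 := rfl
theorem F13284 : act 7 n3807 = n8515 := d15_2 (iv0 D3806) D3807 (iv2 D8515)
def n8516 : Q := act 3 n3806
theorem D8516 : act 3 n3806 = n8516 := rfl
theorem F13285 : act 4 n8516 = n6197 := d20_6 F3095 (iv1 F2922) F2847 (iv3 F2842) D3806 D8516 (iv1 D6197) F4189 F2822 D1645
def n8517 : Q := act 4 n3806
theorem D8517 : act 4 n3806 = n8517 := rfl
def n8518 : Q := act 5 n3806
theorem D8518 : act 5 n3806 = n8518 := rfl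
def n8519 : Q := act 6 n3806
theorem D8519 : act 6 n3806 = n8519 := rfl
def n8520 : Q := act 7 n3806
theorem D8520 : act 7 n3806 = n8520 := rfl
theorem F13286 : act 2 n8520 = n3807 := d4_1 D8520 F13284 (iv2 D8515)
def n8521 : Q := act 3 n3807
theorem D8521 : act 3 n3807 = n8521 := rfl
def n8522 : Q := act 4 n3807
theorem D8522 : act 4 n3807 = n8522 := rfl
theorem F13287 : act 3 n8522 = n6196 := d20_3 F5794 (iv1 F5798) D8522 (iv1 F9650) F9643 (iv4 F9644) (iv1 F9651) (iv4 F13285) (iv3 D8516) (iv1 F5797)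
def n8523 : Q := act 5 n3807
theorem D8523 : act 5 n3807 = n8523 := rfl
def n8524 : Q := act 6 n3807
theorem D8524 : act 6 n3807 = n8524 := rfl
def n8525 : Q := act 0 n3808
theorem D8525 : act 0 n3808 = n8525 := rfl
theorem F13288 : act 1 n8496 = n8525 := d15_0 (iv0 D8525) F5800 (iv2 F13273)
def n8526 : Q := act 1 n3808
theorem D8526 : act 1 n3808 = n8526 := rfl
theorem F13289 : act 1 n8526 = n8496 := d15_1 D8526 F13274 F13273
def n8527 : Q := act 4 n3808
theorem D8527 : act 4 n3808 = n8527 := rfl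
theorem F13290 : act 7 n8527 = n8527 := d11_2 F5800 D8527 (iv4 D8527)
def n8528 : Q := act 2 n3809
theorem D8528 : act 2 n3809 = n8528 := rfl
theorem F13291 : act 7 n3810 = n8528 := d15_2 (iv0 D3809) D3810 (iv2 D8528)
def n8529 : Q := act 3 n3809
theorem D8529 : act 3 n3809 = n8529 := rfl
def n8530 : Q := act 4 n3809
theorem D8530 : act 4 n3809 = n8530 := rfl
def n8531 : Q := act 5 n3809
theorem D8531 : act 5 n3809 = n8531 := rfl
def n8532 : Q := act 6 n3809
theorem D8532 : act 6 n3809 = n8532 := rfl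
def n8533 : Q := act 7 n3809
theorem D8533 : act 7 n3809 = n8533 := rfl
theorem F13292 : act 2 n8533 = n3810 := d4_1 D8533 F13291 (iv2 D8528)
def n8534 : Q := act 3 n3810
theorem D8534 : act 3 n3810 = n8534 := rfl
def n8535 : Q := act 4 n3810
theorem D8535 : act 4 n3810 = n8535 := rfl
def n8536 : Q := act 5 n3810
theorem D8536 : act 5 n3810 = n8536 := rfl
def n8537 : Q := act 6 n3810
theorem D8537 : act 6 n3810 = n8537 := rfl
def n8538 : Q := act 0 n3811
theorem D8538 : act 0 n3811 = n8538 := rfl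
def n8539 : Q := act 1 n3811
theorem D8539 : act 1 n3811 = n8539 := rfl
def n8540 : Q := act 4 n3811
theorem D8540 : act 4 n3811 = n8540 := rfl
theorem F13293 : act 6 n8540 = n3813 := d10_2 (iv6 F5801) D8540 (iv4 D3813)
def n8541 : Q := act 7 n3811
theorem D8541 : act 7 n3811 = n8541 := rfl
theorem F13294 : act 5 n8541 = n3812 := d13_1 D8541 (iv7 D3812) D3811
theorem F13295 : act 6 n8541 = n8541 := d14_1 D8541 (iv7 D8541) F5801 F2852 (iv6 F5801)
def n8542 : Q := act 3 n3813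
theorem D8542 : act 3 n3813 = n8542 := rfl
theorem F13296 : act 7 n8542 = n8542 := d8_2 F5802 D8542 (iv3 D8542)
def n8543 : Q := act 4 n3814
theorem D8543 : act 4 n3814 = n8543 := rfl
theorem F13297 : act 2 n8543 = n3885 := d1_1 D8543 F5848 (iv2 F5803)
theorem F13298 : act 7 n8543 = n3868 := d11_2 (iv7 F5804) D8543 (iv4 D3868)
theorem F13299 : act 5 n8543 = n4915 := d16_1 D8543 (iv4 D4915) (iv5 D2025) (iv4 D1015) (iv5 D646) (iv4 F853) D892 D1685 (iv2 F5803)
theorem F13300 : act 0 n8543 = n3881 := d18_2 (iv1 F5806) D8543 (iv4 F7224) (iv5 D4140) (iv4 D1776) F3029 (iv4 F5565) (iv0 D3537) (iv5 F7229)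
theorem F13301 : act 1 n8543 = n3880 := d18_6 (iv1 D1969) (iv4 D1002) D999 (iv4 F2854) D3814 D8543 (iv4 F7228) (iv0 F7236) (iv5 D4757)
def n8544 : Q := act 6 n3814
theorem D8544 : act 6 n3814 = n8544 := rfl
theorem F13302 : act 2 n8544 = n3889 := d3_1 D8544 (iv6 D3889) (iv2 F5803)
def n8545 : Q := act 5 n3815
theorem D8545 : act 5 n3815 = n8545 := rfl
theorem F13303 : act 2 n8545 = n3892 := d2_1 D8545 (iv5 D3892) (iv2 F5807)
def n8546 : Q := act 5 n3823
theorem D8546 : act 5 n3823 = n8546 := rfl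
def n8547 : Q := act 6 n3823
theorem D8547 : act 6 n3823 = n8547 := rfl
def n8548 : Q := act 5 n3824
theorem D8548 : act 5 n3824 = n8548 := rfl
theorem F13304 : act 2 n8548 = n3825 := d2_1 D8548 (iv5 D3825) D3824
def n8549 : Q := act 0 n3825
theorem D8549 : act 0 n3825 = n8549 := rfl
def n8550 : Q := act 1 n3825
theorem D8550 : act 1 n3825 = n8550 := rfl
def n8551 : Q := act 4 n3825
theorem D8551 : act 4 n3825 = n8551 := rfl
theorem F13305 : act 0 n8551 = n8321 := d20_7 (iv4 F2619) (iv1 F4064) F4062 (iv3 F5576) F6938 (iv3 F5817) D8551 (iv4 D8321) (iv3 D3738) (iv1 F2813)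
theorem F13306 : act 5 n8550 = n8028 := d18_9 F12812 (iv4 F12340) (iv1 D6089) F4089 (iv5 F5739) D8321 (iv0 F13305) (iv4 D8551) D8550
theorem F13307 : act 3 n8029 = n8550 := d6_3 F13306 (iv3 D8028) D8029
theorem E1753 : n8319 = n8271 := (c17_3 (iv1 F9461) D7994 (iv1 F13129) (iv5 D8271) (iv4 F5729) D3825 D8550 F13306 F12839 (iv4 F12344))
theorem F13308 : act 0 n8271 = n3738 := (sb E1753 (iv1 D8319))
theorem F13309 : act 1 n8271 = n7994 := (sb E1753 F13129)
theorem F13310 : act 5 n3939 = n7996 := d21_6 D8271 F13308 F5739 F4090 D3939 F7211 (iv1 F13128) F13126 F9464 F5882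
theorem F13311 : act 2 n7996 = n8271 := d2_1 F13310 (iv5 D8271) F6448
theorem F13312 : act 7 n7996 = n8269 := d13_2 F6450 F13310 (iv5 D8269)
theorem F13313 : act 2 n8269 = n7997 := d15_3 F13130 F13128 F13312
theorem F13314 : act 7 n8271 = n7997 := d4_2 (iv7 F13312) F13311 (iv2 F13313)
theorem E1754 : n8318 = n8269 := (c15_2 F13309 F13124 (iv7 F13312) F13311)
theorem F13315 : act 0 n8269 = n7994 := (sb E1754 (iv1 F13124))
theorem F13316 : act 1 n8269 = n3738 := (sb E1754 (iv0 D8318))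
theorem F13317 : act 5 n7997 = n3940 := d13_1 F13314 F6447 D8271
theorem F13318 : act 4 n8376 = n8029 := d20_8 D8551 F13305 (iv4 D8321) (iv3 D3738) (iv1 F2813) (iv3 F2821) D3758 D8376 F13307 (iv1 D8550)
theorem E1755 : n6098 = n3757 := (c18_10 (iv1 D3757) D3758 D8376 F13318 (iv5 D8029) (iv4 D3630) (iv0 D1596) (iv4 F2225) D2569 D6098)
theorem E1756 : n8371 = n3693 := (((iv2 F13178)).symm.trans (sb E1755 (iv2 F12202)))
theorem E1757 : n8374 = n2569 := ((D8374).symm.trans (sb E1755 (iv5 D6098)))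
theorem E1758 : n8366 = n3698 := ((F13177).symm.trans (sb E1755 (iv7 F12172)))
theorem F13319 : act 2 n3693 = n3757 := (sb E1756 F13178)
theorem E1759 : n6093 = n3756 := (((iv7 F12206)).symm.trans (sb E1756 (iv7 D8371)))
theorem F13320 : act 5 n2569 = n3757 := (sb E1757 (iv5 D8374))
theorem F13321 : act 7 n3698 = n3757 := (sb E1758 (iv7 F13177))
theorem F13322 : act 2 n3756 = n3698 := (sb E1759 (iv2 F12207))
theorem E1760 : n8369 = n2568 := ((D8369).symm.trans (sb E1759 (iv5 D6093)))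
theorem F13323 : act 7 n3756 = n3693 := (sb E1759 F12206)
theorem F13324 : act 5 n2568 = n3756 := (sb E1760 (iv5 D8369))
theorem F13325 : act 5 n8367 = n4012 := d6_2 F13324 D8367 F5947
theorem E1761 : n6192 = n3631 := (c17_7 D2568 F13324 (iv1 F9613) (iv5 D6172) F4169 D3733 F9646 (iv5 D3631) (iv0 D1596) (iv4 F2225))
theorem E1762 : n8031 = n3733 := ((D8031).symm.trans (sb E1761 (iv1 F9646)))
theorem E1763 : n8032 = n2604 := ((D8032).symm.trans (sb E1761 (iv0 D6192)))
theorem E1764 : n6193 = n3636 := (((iv1 F9647)).symm.trans (sb E1762 (iv1 F12841)))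
theorem F13326 : act 1 n3733 = n3631 := (sb E1762 (iv0 D8031))
theorem F13327 : act 0 n2604 = n3631 := (sb E1763 (iv1 D8032))
theorem F13328 : act 0 n3636 = n2604 := (sb E1764 (iv1 D6193))
theorem F13329 : act 1 n3636 = n3733 := (sb E1764 F9647)
theorem F13330 : act 0 n8361 = n6108 := d21_7 F13324 (iv1 F9613) (iv5 D6172) F4170 (iv1 F4174) D3753 D8361 (iv5 D6108) (iv6 D2572) D2568
theorem E1765 : n8346 = n1624 := (c21_2 D3752 (iv1 F13164) (iv5 D1624) D1625 D3706 F13004 F13324 (iv1 F9613) (iv5 D6172) F4170 (iv1 F4174))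
theorem E1766 : n3747 = n3702 := (((D3702).symm.trans (sb E1765 (iv1 D8346)))).symm
theorem E1767 : n3752 = n3703 := (((D3703).symm.trans (sb E1765 F13164))).symm
theorem E1769 : n8212 = n6170 := ((D8212).symm.trans (sb E1766 (iv2 F9604)))
theorem E1770 : n8213 = n4600 := ((D8213).symm.trans (sb E1766 (iv3 F6671)))
theorem E1772 : n8215 = n1639 := ((D8215).symm.trans (sb E1766 (iv5 D3747)))
theorem E1774 : n8217 = n6168 := ((D8217).symm.trans (sb E1766 (iv7 F9601)))
theorem E1775 : n8353 = n8218 := (((D8218).symm.trans (sb E1767 (iv3 F13166)))).symm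
theorem E1777 : n8220 = n1640 := ((D8220).symm.trans (sb E1767 (iv5 D3752)))
theorem F13331 : act 2 n6170 = n3702 := (sb E1769 (iv2 D8212))
theorem F13332 : act 7 n6170 = n3703 := (sb E1769 (iv7 F12995))
theorem F13333 : act 3 n4600 = n3702 := (sb E1770 (iv3 D8213))
theorem F13334 : act 5 n1639 = n3702 := (sb E1772 (iv5 D8215))
theorem F13335 : act 2 n6168 = n3703 := (sb E1774 F12996)
theorem F13336 : act 7 n6168 = n3702 := (sb E1774 (iv7 D8217))
theorem F13337 : act 2 n8218 = n4755 := (sb E1775 F13165)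
theorem F13338 : act 5 n8218 = n3750 := (sb E1775 (iv5 D8353))
theorem F13339 : act 7 n8218 = n4757 := (sb E1775 F13167)
theorem F13340 : act 5 n1640 = n3703 := (sb E1777 (iv5 D8220))
theorem E1779 : n6188 = n6154 := ((c17_7 (iv1 F4174) F13340 (iv1 D3703) (iv5 D1624) (iv4 F2258) D2591 D6154 (iv5 D6188) F4184 (iv4 F4169))).symm
theorem F13342 : act 5 n6154 = n2602 := (sb E1779 (iv5 D6188))
theorem F13343 : act 7 n6154 = n3731 := (sb E1779 (iv7 F13077))
theorem E1780 : n6183 = n6153 := (c15_4 (iv0 D6153) D6154 F13343 F13086)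
theorem F13344 : act 2 n6153 = n3731 := (sb E1780 (iv2 F13086))
theorem F13345 : act 5 n6153 = n2601 := (sb E1780 (iv5 D6183))
theorem E1781 : n6157 = n3632 := (c21_5 (iv5 F13342) (iv1 D6154) (iv5 D2591) D2592 D6157 (iv6 D3632) D3631 (iv1 F13326) (iv5 D3733) F2810 (iv1 F4184))
theorem E1782 : n8036 = n2592 := ((D8036).symm.trans (sb E1781 (iv0 D6157)))
theorem F13347 : act 0 n2592 = n3632 := (sb E1782 (iv1 D8036))
theorem F13348 : act 0 n7790 = n3935 := d20_7 F1663 F1388 (iv4 F2263) (iv3 F4157) F13347 (iv3 F12804) F12805 F5869 (iv3 D3935) (iv1 D1698)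
theorem F13349 : act 7 n6158 = n6150 := d15_2 (iv0 F13347) D6158 F12825
theorem F13350 : act 2 n6160 = n8035 := d15_3 (iv0 D8035) (iv0 F13347) D6160
theorem F13351 : act 3 n8035 = n8211 := d0_2 (iv3 F9578) F13350 F12992 F5712 (iv2 F4161)
theorem F13352 : act 4 n8035 = n8211 := d1_2 (iv4 F9579) F13350 F12992
theorem F13353 : act 6 n8035 = n8055 := d3_2 (iv6 F9580) F13350 F12858
theorem F13354 : act 7 n8035 = n6152 := d4_2 D6160 F13350 F9570
theorem F13355 : act 1 n6158 = n8035 := d15_1 D6158 F13354 F9570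
theorem F13356 : act 2 n8038 = n6158 := d15_3 F13355 (iv0 D8035) D8038
theorem F13357 : act 6 n8049 = n6158 := d14_5 F13349 (iv6 D6150) (iv7 F12827) D3637 D8049
theorem F13358 : act 0 n3876 = n8343 := d17_2 (iv1 F12204) F7226 (iv5 D8343) (iv4 D3746) F13334 (iv0 D3702) (iv5 D1624) D1622 D3697
theorem F13359 : act 1 n8029 = n6240 := d17_6 (iv1 D2602) D2604 F13327 (iv5 D3631) D3630 D8029 (iv5 D6240) F9636 (iv4 D6187)
theorem F13360 : act 5 n6189 = n8085 := d21_6 D3631 (iv1 F13326) (iv5 D3733) F2810 (iv1 F4184) D6189 (iv1 D8085) (iv5 D3646) (iv6 D1600) D1596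
theorem F13361 : act 2 n8085 = n8286 := d2_1 F13360 (iv5 D8286) F13084
theorem F13362 : act 7 n8184 = n8367 := d13_0 F13325 F12165 D8184
theorem F13363 : act 7 n8192 = n8368 := d11_2 F13323 D8192 (iv4 D8368)
theorem F13364 : act 2 n8201 = n8368 := d1_3 (iv4 D8368) F13322 D8201
theorem F13365 : act 2 n8202 = n8370 := d3_3 (iv6 D8370) F13322 D8202
theorem F13366 : act 7 n8372 = n4763 := d8_2 F13321 D8372 F12105
theorem F13367 : act 7 n8373 = n8201 := d11_2 F13321 D8373 (iv4 D8201)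
theorem F13368 : act 2 n8192 = n8373 := d4_3 F13367 F13364 (iv7 F13363)
theorem F13369 : act 5 n4119 = n8372 := d13_3 F13366 (iv5 F12103) (iv7 F12184)
theorem F13370 : act 2 n8372 = n4762 := d15_3 (iv0 D4762) D4763 (iv7 F13366)
theorem F13371 : act 0 n8372 = n4766 := d17_2 (iv1 F6042) F13369 F6876 F3293 (iv5 F7120) (iv0 D1782) (iv5 D938) D936 D1776
theorem F13372 : act 1 n8372 = n4728 := d15_1 (iv0 F13371) F6826 (iv2 F6875)
theorem F13373 : act 2 n8375 = n8193 := d3_3 (iv6 D8193) F13319 D8375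
def n8552 : Q := act 6 n3825
theorem D8552 : act 6 n3825 = n8552 := rfl
theorem F13374 : act 3 n8552 = n3837 := d7_1 D8552 (iv6 D3837) (iv3 F5817)
theorem F13375 : act 5 n8552 = n8552 := d12_1 D8552 (iv6 D8552) (iv5 D3825) F7174 D3825
def n8553 : Q := act 6 n3827
theorem D8553 : act 6 n3827 = n8553 := rfl
theorem F13376 : act 3 n8553 = n3843 := d7_1 D8553 (iv6 D3843) (iv3 F5819)
theorem F13377 : act 7 n8553 = n8553 := d14_2 D3827 D8553 (iv6 D8553) (iv7 D3827) F7174
def n8554 : Q := act 5 n3828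
theorem D8554 : act 5 n3828 = n8554 := rfl
theorem F13378 : act 2 n8554 = n4397 := d2_1 D8554 F7060 F6392
theorem F13379 : act 3 n8554 = n8435 := d6_1 D8554 (iv5 D8435) F5821
theorem F13380 : act 0 n8554 = n4906 := d17_2 D3828 D8554 F7321 (iv4 D3545) (iv5 F7110) F5805 (iv5 D3814) (iv0 D1667) D1670
theorem F13381 : act 0 n7816 = n4376 := d21_4 D8554 F13380 F7321 D7816 (iv6 D4376) D4375 F12195 (iv5 D3831) F7175 D3828
theorem F13382 : act 1 n8554 = n4901 := d15_0 F7318 F7248 (iv2 F13378)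
def n8555 : Q := act 6 n3828
theorem D8555 : act 6 n3828 = n8555 := rfl
theorem F13383 : act 2 n8555 = n4516 := d3_1 D8555 (iv6 D4516) F6392
theorem F13384 : act 3 n8555 = n8436 := d7_1 D8555 (iv6 D8436) F5821
theorem F13385 : act 4 n8555 = n8354 := d10_1 D8555 (iv6 D8354) (iv4 F5820)
def n8556 : Q := act 5 n3830
theorem D8556 : act 5 n3830 = n8556 := rfl
theorem F13386 : act 3 n8556 = n3831 := d6_1 D8556 (iv5 D3831) D3830
theorem F13387 : act 0 n8556 = n4355 := d17_2 (iv1 F6409) D8556 (iv5 D4355) F5552 F7302 F6773 (iv5 D3784) F3238 (iv4 F5984)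
def n8557 : Q := act 0 n3831
theorem D8557 : act 0 n3831 = n8557 := rfl
theorem F13388 : act 5 n8557 = n4251 := d17_3 F6379 D3831 D8557 F12186 F13369 F13372 (iv5 D4728) F6546 (iv4 D4463)
theorem F13389 : act 2 n4253 = n8557 := d15_3 (iv0 D8557) (iv0 F12195) F12237
theorem F13390 : act 1 n3849 = n8557 := d17_6 F12292 D3550 F6940 (iv5 D1676) D1675 D3849 F13388 (iv0 F12189) (iv4 F12294)
def n8558 : Q := act 4 n3831
theorem D8558 : act 4 n3831 = n8558 := rfl
theorem F13391 : act 2 n8558 = n4173 := d1_1 D8558 (iv4 F7185) F6459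
theorem F13392 : act 5 n8558 = n4913 := d17_5 (iv1 F12316) F7247 F6379 D3831 D8558 (iv0 D4913) (iv5 D2025) D2023 D4906
theorem F13393 : act 0 n8558 = n4160 := d18_2 F12195 D8558 (iv4 D4160) (iv5 D1781) (iv4 F2718) (iv0 F12292) F12294 (iv0 D4372) D4375
theorem F13394 : act 1 n8558 = n4177 := d18_6 (iv1 D644) (iv4 F853) D889 D1670 D3831 D8558 F6074 (iv0 F6909) (iv5 D1008)
def n8559 : Q := act 6 n3831
theorem D8559 : act 6 n3831 = n8559 := rfl
theorem F13395 : act 5 n8559 = n8559 := d12_1 D8559 (iv6 D8559) (iv5 D3831) F7175 D3831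
def n8560 : Q := act 7 n3831
theorem D8560 : act 7 n3831 = n8560 := rfl
theorem F13396 : act 2 n8560 = n3849 := d4_1 D8560 F6460 F6459
theorem F13397 : act 5 n8560 = n3833 := d13_1 D8560 (iv7 D3833) D3831
theorem F13398 : act 0 n4253 = n8560 := d17_2 F12191 D4253 F13397 F5828 (iv5 F7218) (iv0 D3551) (iv5 D1565) D1563 D3545
theorem F13399 : act 4 n4172 = n8560 := d18_3 (iv1 D1783) D1784 D4172 F13397 F5828 F6433 F1659 (iv0 F6540) (iv5 F7124)
theorem F13400 : act 7 n8558 = n4172 := d11_0 F13399 (iv7 D8560) D8558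
def n8561 : Q := act 6 n3833
theorem D8561 : act 6 n3833 = n8561 := rfl
theorem F13401 : act 2 n8561 = n3850 := d3_1 D8561 (iv6 D3850) (iv2 F5827)
theorem F13402 : act 4 n8561 = n3843 := d10_1 D8561 (iv6 D3843) (iv4 F5828)
theorem F13403 : act 7 n8561 = n8561 := d14_2 D3833 D8561 (iv6 D8561) (iv7 D3833) F7175
def n8562 : Q := act 0 n3836
theorem D8562 : act 0 n3836 = n8562 := rfl
theorem F13404 : act 4 n8562 = n8372 := d18_3 F6938 D3836 D8562 (iv5 F13369) (iv4 F12186) (iv0 F12189) (iv4 F12294) F12293 (iv5 F5577)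
theorem F13405 : act 1 n3851 = n8562 := d15_0 (iv0 D8562) (iv7 F12367) F12366
def n8563 : Q := act 1 n3836
theorem D8563 : act 1 n3836 = n8563 := rfl
theorem F13406 : act 1 n8563 = n3851 := d15_1 D8563 (iv7 F12372) F12371
def n8564 : Q := act 3 n3836
theorem D8564 : act 3 n3836 = n8564 := rfl
def n8565 : Q := act 5 n3836
theorem D8565 : act 5 n3836 = n8565 := rfl
def n8566 : Q := act 6 n3836
theorem D8566 : act 6 n3836 = n8566 := rfl
theorem F13407 : act 4 n8566 = n3837 := d10_1 D8566 (iv6 D3837) D3836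
def n8567 : Q := act 0 n3837
theorem D8567 : act 0 n3837 = n8567 := rfl
def n8568 : Q := act 1 n3837
theorem D8568 : act 1 n3837 = n8568 := rfl
def n8569 : Q := act 7 n3837
theorem D8569 : act 7 n3837 = n8569 := rfl
theorem F13408 : act 5 n8569 = n8569 := d13_1 D8569 (iv7 D8569) F7215
def n8570 : Q := act 5 n3843
theorem D8570 : act 5 n3843 = n8570 := rfl
theorem F13409 : act 2 n8570 = n3855 := d2_1 D8570 (iv5 D3855) (iv2 F5833)
theorem F13410 : act 7 n8570 = n8570 := d13_2 F7191 D8570 (iv5 D8570)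
def n8571 : Q := act 5 n3845
theorem D8571 : act 5 n3845 = n8571 := rfl
theorem F13411 : act 2 n8571 = n3847 := d2_1 D8571 (iv5 D3847) D3845
theorem F13412 : act 0 n8571 = n8199 := d18_0 F13120 (iv1 D8312) (iv4 D3736) (iv5 D1635) (iv4 F2270) D2597 (iv4 F6755) (iv0 F6758) D8571
theorem E1783 : n6174 = n3698 := (c17_3 (iv1 F4167) D3754 (iv1 F9615) (iv5 D3698) D3697 D8199 (iv0 F13412) (iv5 D8571) (iv0 F9597) (iv4 D6167))
theorem E1784 : n8191 = n2599 := (((iv1 F12977)).symm.trans (sb E1783 (iv1 D6174)))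
theorem E1785 : n8190 = n3754 := ((F12976).symm.trans (sb E1783 F9615))
theorem E1786 : n6173 = n3693 := ((D6173).symm.trans (sb E1784 (iv1 D8191)))
theorem F13413 : act 1 n2599 = n3698 := (sb E1784 F12977)
theorem F13414 : act 0 n3754 = n3698 := (sb E1785 (iv1 F12976))
theorem F13415 : act 0 n3693 = n3754 := (sb E1786 (iv1 F9614))
theorem F13416 : act 1 n3693 = n2599 := (sb E1786 (iv0 D6173))
theorem F13417 : act 0 n7823 = n8188 := d17_2 F6757 (iv5 F12369) (iv5 D8188) (iv4 D3692) D3693 F13416 (iv5 D2599) D2597 (iv4 F6755)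
theorem F13418 : act 1 n7823 = n8199 := d15_1 (iv0 F13417) (iv7 F13257) (iv2 F13258)
theorem F13419 : act 1 n8571 = n8188 := d15_0 (iv0 F13417) F12370 (iv2 F13411)
theorem F13420 : act 0 n8042 = n6240 := d17_2 F12354 D8042 (iv5 D6240) F6465 D8571 F13419 (iv5 D8188) (iv0 F12102) D7814
theorem E1787 : n8304 = n2588 := (c17_8 D1621 D3693 F13415 (iv5 D3754) (iv4 F4181) D6190 F9641 D8304 (iv0 D2588) F2258)
theorem E1788 : n6144 = n3734 := ((D6144).symm.trans (sb E1787 (iv5 D8304)))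
theorem E1789 : n8301 = n3636 := ((D8301).symm.trans (sb E1788 F12835))
theorem F13421 : act 5 n3734 = n2588 := (sb E1788 (iv5 D6144))
theorem E1790 : n8306 = n3631 := ((D8306).symm.trans (sb E1788 (iv7 F12837)))
theorem F13422 : act 2 n3636 = n3734 := (sb E1789 (iv2 D8301))
theorem E1791 : n6149 = n3735 := (((iv7 F12824)).symm.trans (sb E1789 (iv7 F13118)))
theorem F13423 : act 7 n3631 = n3734 := (sb E1790 (iv7 D8306))
theorem F13424 : act 2 n3735 = n3631 := (sb E1791 F12823)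
theorem E1792 : n8309 = n2589 := ((D8309).symm.trans (sb E1791 (iv5 D6149)))
theorem F13425 : act 7 n3735 = n3636 := (sb E1791 F12824)
theorem F13426 : act 5 n2589 = n3735 := (sb E1792 (iv5 D8309))
theorem F13427 : act 5 n8392 = n8239 := d21_6 D3693 F13415 (iv5 D3754) D3755 (iv1 F5754) D8392 (iv1 D8239) (iv5 D3708) (iv6 D1625) D1621
theorem F13428 : act 5 n8307 = n6147 := d6_2 F13426 D8307 (iv3 D6147)
theorem F13429 : act 4 n8311 = n8188 := d18_3 (iv1 D3735) D3736 D8311 (iv5 D8188) (iv4 D3692) (iv0 D1621) (iv4 F2258) D2589 F13426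
theorem F13430 : act 0 n8286 = n8054 := d21_7 F13426 (iv1 D3735) (iv5 D1635) F1638 D1632 D3727 D8286 (iv5 D8054) (iv6 D3639) (iv1 F4153)
theorem F13431 : act 1 n8286 = n8087 := d15_1 (iv0 F13430) (iv7 D8087) (iv2 F12857)
theorem F13432 : act 0 n6150 = n6160 := d21_4 D6190 (iv1 F9640) (iv5 F13426) D6150 F9580 (iv5 F12871) (iv1 F13431) (iv5 D8286) (iv6 D3727) (iv1 F4183)
theorem F13433 : act 1 n6150 = n6152 := d15_1 (iv0 F13432) (iv7 F13354) (iv2 F13350)
theorem F13434 : act 1 n8038 = n6160 := d15_0 (iv0 F13432) (iv7 F13349) (iv2 F13356)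
theorem F13435 : act 1 n6152 = n8038 := d15_0 F13434 (iv7 D6160) (iv2 F9570)
theorem E1793 : n8280 = n6151 := (c21_2 D3726 D8280 (iv5 D6151) D6152 (iv1 F13433) (iv6 D6150) F13426 (iv1 D3735) (iv5 D1635) F1638 D1632)
theorem E1794 : n3731 = n3641 := ((((iv1 F9568)).symm.trans (sb E1793 (iv1 F13103)))).symm
theorem E1795 : n3726 = n3640 := (((F9569).symm.trans (sb E1793 (iv0 D8280)))).symm
theorem E1797 : n8061 = n6153 := (((iv2 F12863)).symm.trans (sb E1794 (iv2 F13344)))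
theorem E1798 : n8289 = n8062 := (((D8062).symm.trans (sb E1794 (iv3 F13110)))).symm
theorem E1800 : n8064 = n1633 := ((D8064).symm.trans (sb E1794 (iv5 D3731)))
theorem E1802 : n8056 = n6154 := ((F12862).symm.trans (sb E1794 (iv7 F13343)))
theorem E1803 : n8275 = n8057 := (((D8057).symm.trans (sb E1795 (iv3 F13094)))).symm
theorem E1805 : n8059 = n1632 := ((D8059).symm.trans (sb E1795 (iv5 D3726)))
theorem F13436 : act 2 n6153 = n3641 := (sb E1797 F12863)
theorem F13437 : act 7 n6153 = n3640 := (sb E1797 (iv7 D8061))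
theorem F13438 : act 5 n8062 = n3729 := (sb E1798 (iv5 D8289))
theorem F13439 : act 5 n1633 = n3641 := (sb E1800 (iv5 D8064))
theorem F13440 : act 2 n6154 = n3640 := (sb E1802 (iv2 D8056))
theorem F13441 : act 7 n6154 = n3641 := (sb E1802 (iv7 F12862))
theorem F13442 : act 5 n8057 = n3724 := (sb E1803 (iv5 D8275))
theorem F13443 : act 5 n1632 = n3640 := (sb E1805 (iv5 D8059))
theorem E1807 : n6168 = n6102 := ((c17_7 D1632 F13443 (iv1 F9569) (iv5 D6151) F4150 D3700 F9480 (iv5 D6168) (iv0 D2596) F2270)).symm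
theorem F13444 : act 2 n6102 = n3703 := (sb E1807 F13335)
theorem F13445 : act 3 n6102 = n4652 := (sb E1807 F9600)
theorem F13446 : act 5 n6102 = n2596 := (sb E1807 (iv5 D6168))
theorem F13447 : act 7 n6102 = n3702 := (sb E1807 F13336)
theorem E1808 : n6170 = n6103 := (c15_4 F9481 F9480 F13447 (iv2 F13331))
theorem F13448 : act 2 n6103 = n3702 := (sb E1808 F13331)
theorem F13449 : act 3 n6103 = n4757 := (sb E1808 F9605)
theorem F13450 : act 5 n6103 = n2597 := (sb E1808 (iv5 D6170))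
theorem F13451 : act 7 n6103 = n3703 := (sb E1808 F13332)
theorem F13452 : act 7 n8040 = n8307 := d13_0 F13428 F12820 D8040
theorem F13453 : act 7 n8044 = n8308 := d11_2 F13425 D8044 (iv4 D8308)
theorem F13454 : act 2 n8033 = n8308 := d1_3 (iv4 D8308) F13424 D8033
theorem F13455 : act 2 n8034 = n8310 := d3_3 (iv6 D8310) F13424 D8034
theorem F13456 : act 7 n8302 = n8025 := d8_2 F13423 D8302 F12803
theorem F13457 : act 7 n8303 = n8033 := d11_2 F13423 D8303 (iv4 D8033)
theorem F13458 : act 2 n8044 = n8303 := d4_3 F13457 F13454 (iv7 F13453)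
theorem F13459 : act 5 n6142 = n8302 := d13_3 F13456 (iv5 D8025) (iv7 F12829)
theorem E1809 : n8505 = n3945 := (c17_4 (iv1 F4199) D6212 (iv1 F9675) D8505 (iv4 F9562) F13459 (iv0 F13278) (iv5 D4759) (iv0 F6852) (iv4 D3793))
theorem F13460 : act 5 n3945 = n3803 := (sb E1809 (iv5 D8505))
theorem E1810 : n8502 = n7785 := (c2_2 F13460 (iv2 F13276) (iv5 D7785) (iv2 F12833))
theorem F13461 : act 2 n7785 = n3803 := (sb E1810 F13276)
theorem F13462 : act 7 n7785 = n3802 := (sb E1810 (iv7 D8502))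
theorem E1811 : n8497 = n7789 := (c13_3 (iv7 F12834) F13460 F13275 (iv5 D7789))
theorem F13463 : act 2 n7789 = n3802 := (sb E1811 (iv2 D8497))
theorem F13464 : act 7 n7789 = n3803 := (sb E1811 (iv7 F13275))
theorem E1812 : n8500 = n3944 := (c2_3 D7789 F13463 D8500 F12830)
theorem F13465 : act 5 n3944 = n3802 := (sb E1812 (iv5 D8500))
theorem F13466 : act 5 n8498 = n6148 := d6_2 F13465 D8498 F9564
theorem F13467 : act 2 n8029 = n8498 := d2_3 F13466 F12821 D8029
theorem F13468 : act 7 n8042 = n8498 := d13_0 F13466 F12822 D8042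
theorem F13469 : act 2 n8305 = n8045 := d3_3 (iv6 D8045) F13422 D8305
def n8572 : Q := act 6 n3845
theorem D8572 : act 6 n3845 = n8572 := rfl
theorem F13470 : act 2 n8572 = n3848 := d3_1 D8572 (iv6 D3848) D3845
theorem F13471 : act 4 n8572 = n6241 := d10_1 D8572 (iv6 D6241) F6465
theorem F13472 : act 7 n8572 = n8572 := d14_2 F13160 D8572 (iv6 D8572) (iv7 F13160) F13161
def n8573 : Q := act 5 n3846
theorem D8573 : act 5 n3846 = n8573 := rfl
theorem F13473 : act 2 n8573 = n6240 := d2_1 D8573 (iv5 D6240) (iv2 F6464)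
theorem F13474 : act 0 n8573 = n8498 := d17_2 F5834 D8573 F13466 (iv4 D6148) F13426 F9640 (iv5 D6190) F4183 D3725
def n8574 : Q := act 6 n3846
theorem D8574 : act 6 n3846 = n8574 := rfl
theorem F13475 : act 2 n8574 = n6241 := d3_1 D8574 (iv6 D6241) (iv2 F6464)
theorem F13476 : act 4 n8574 = n3848 := d10_1 D8574 (iv6 D3848) D3846
theorem F13477 : act 7 n8574 = n8574 := d14_2 F6454 D8574 (iv6 D8574) (iv7 F6454) F7187
def n8575 : Q := act 0 n3847
theorem D8575 : act 0 n3847 = n8575 := rfl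
theorem F13478 : act 5 n8575 = n6092 := d17_3 F6668 D3847 D8575 (iv4 D6092) F13324 (iv0 D3756) (iv5 D1642) D1640 D3751
theorem F13479 : act 2 n8199 = n8575 := d2_3 F13478 (iv2 F12208) D8199
theorem F13480 : act 7 n8188 = n8575 := d13_0 F13478 F12205 D8188
theorem F13481 : act 1 n3847 = n8453 := d15_1 (iv0 D8575) F13257 F13479
def n8576 : Q := act 4 n3847
theorem D8576 : act 4 n3847 = n8576 := rfl
theorem F13482 : act 1 n8576 = n8303 := d18_6 D1632 D3725 F5834 (iv4 D3846) D3847 D8576 (iv4 D8303) (iv0 D3734) (iv5 D1635)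
theorem F13483 : act 1 n8308 = n8576 := d15_0 F13482 F13457 F13454
def n8577 : Q := act 6 n3847
theorem D8577 : act 6 n3847 = n8577 := rfl
theorem F13484 : act 3 n8577 = n3852 := d7_1 D8577 (iv6 D3852) (iv3 F5835)
def n8578 : Q := act 0 n3848
theorem D8578 : act 0 n3848 = n8578 := rfl
theorem F13485 : act 1 n8572 = n8578 := d15_0 (iv0 D8578) F7189 (iv2 F13470)
def n8579 : Q := act 1 n3848
theorem D8579 : act 1 n3848 = n8579 := rfl
theorem F13486 : act 1 n8579 = n8572 := d15_1 D8579 F13472 F13470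
def n8580 : Q := act 5 n3848
theorem D8580 : act 5 n3848 = n8580 := rfl
theorem F13487 : act 3 n8580 = n3855 := d6_1 D8580 (iv5 D3855) (iv3 F5836)
def n8581 : Q := act 4 n3849
theorem D8581 : act 4 n3849 = n8581 := rfl
theorem F13489 : act 2 n8581 = n4172 := d1_1 D8581 F13399 F13396
theorem F13490 : act 7 n8581 = n4173 := d11_2 (iv7 F6460) D8581 (iv4 F7185)
theorem F13491 : act 0 n8581 = n4177 := d18_2 (iv1 F13390) D8581 F6074 F3039 (iv4 F2722) F12287 F12286 F12194 (iv5 F13388)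
theorem F13492 : act 1 n8581 = n4160 := d18_6 D999 (iv4 F2854) (iv1 F2856) D1675 D3849 D8581 (iv4 D4160) F6907 (iv5 D1003)
theorem F13493 : act 5 n4914 = n8581 := d17_7 (iv1 F6910) (iv5 D1008) (iv1 D644) D646 D1015 D2025 D4914 F13492 (iv4 D4160)
theorem F13494 : act 4 n8565 = n4914 := d16_2 D3836 D8565 F13493 (iv4 D8581) (iv5 D3849) (iv4 D1675) D1676 (iv7 F7168) (iv2 F7169)
def n8582 : Q := act 6 n3849
theorem D8582 : act 6 n3849 = n8582 := rfl
def n8583 : Q := act 0 n3850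
theorem D8583 : act 0 n3850 = n8583 := rfl
theorem F13495 : act 1 n8561 = n8583 := d15_0 (iv0 D8583) F7192 (iv2 F13401)
def n8584 : Q := act 1 n3850
theorem D8584 : act 1 n3850 = n8584 := rfl
theorem F13496 : act 1 n8584 = n8561 := d15_1 D8584 F13403 F13401
def n8585 : Q := act 5 n3850
theorem D8585 : act 5 n3850 = n8585 := rfl
theorem F13497 : act 7 n8585 = n8585 := d13_2 F7192 D8585 (iv5 D8585)
def n8586 : Q := act 3 n3851
theorem D8586 : act 3 n3851 = n8586 := rfl
def n8587 : Q := act 5 n3851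
theorem D8587 : act 5 n3851 = n8587 := rfl
theorem F13498 : act 4 n8587 = n4913 := d9_1 D8587 (iv5 F13392) (iv4 D8558) (iv5 D3831) (iv4 D1670) D1671 D3836 D8565 F13494 F13493 (iv4 D8581) (iv5 D3849) (iv4 D1675) D1676 D3851
def n8588 : Q := act 6 n3851
theorem D8588 : act 6 n3851 = n8588 := rfl
theorem F13499 : act 4 n8588 = n3852 := d10_1 D8588 (iv6 D3852) D3851
def n8589 : Q := act 0 n3852
theorem D8589 : act 0 n3852 = n8589 := rfl
def n8590 : Q := act 1 n3852
theorem D8590 : act 1 n3852 = n8590 := rfl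
def n8591 : Q := act 5 n3852
theorem D8591 : act 5 n3852 = n8591 := rfl
theorem F13500 : act 6 n8591 = n3855 := d12_2 D3852 D8591 (iv5 D3855) (iv6 D1677) D1676
def n8592 : Q := act 7 n3852
theorem D8592 : act 7 n3852 = n8592 := rfl
def n8593 : Q := act 2 n3853
theorem D8593 : act 2 n3853 = n8593 := rfl
theorem F13501 : act 7 n3854 = n8593 := d15_2 (iv0 D3853) D3854 (iv2 D8593)
def n8595 : Q := act 4 n3853
theorem D8595 : act 4 n3853 = n8595 := rfl
def n8596 : Q := act 5 n3853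
theorem D8596 : act 5 n3853 = n8596 := rfl
theorem F13502 : act 0 n8596 = n8570 := d21_1 D8596 (iv5 D8570) (iv6 D3843) F6432 (iv6 F2719) D3550 F6940 (iv5 D1676) D1677 D3853
theorem F13503 : act 1 n8596 = n3855 := d15_1 (iv0 F13502) F7193 (iv2 F13409)
def n8597 : Q := act 6 n3853
theorem D8597 : act 6 n3853 = n8597 := rfl
theorem F13504 : act 0 n7802 = n8597 := d21_4 D1680 D3866 F12290 D7802 (iv6 D8597) D8596 F13502 (iv5 D8570) (iv6 D3843) F6432
def n8599 : Q := act 3 n3854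
theorem D8599 : act 3 n3854 = n8599 := rfl
def n8600 : Q := act 4 n3854
theorem D8600 : act 4 n3854 = n8600 := rfl
def n8601 : Q := act 5 n3854
theorem D8601 : act 5 n3854 = n8601 := rfl
theorem F13506 : act 0 n8601 = n3855 := d21_1 D8601 (iv5 D3855) (iv6 D1677) (iv1 D890) (iv6 F1594) D1565 D3551 F7218 D3843 (iv1 F7213)
theorem F13507 : act 6 n7809 = n3854 := d21_5 D892 D1681 F7229 D3542 D7809 D8601 F13506 (iv5 D3855) (iv6 D1677) (iv1 D890)
theorem F13508 : act 1 n8601 = n8570 := d15_1 (iv0 F13506) F13410 F13409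
def n8602 : Q := act 4 n3855
theorem D8602 : act 4 n3855 = n8602 := rfl
theorem F13509 : act 7 n8602 = n8602 := d11_2 F7193 D8602 (iv4 D8602)
def n8603 : Q := act 3 n3866
theorem D8603 : act 3 n3866 = n8603 := rfl
theorem F13510 : act 5 n8603 = n7800 := d6_2 (iv5 F12290) D8603 (iv3 D7800)
theorem F13511 : act 7 n8603 = n3876 := d8_2 (iv7 F12291) D8603 (iv3 D3876)
def n8604 : Q := act 4 n3866
theorem D8604 : act 4 n3866 = n8604 := rfl
theorem F13512 : act 2 n8604 = n3872 := d1_1 D8604 (iv4 D3872) (iv2 F12289)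
theorem F13513 : act 7 n8604 = n3877 := d11_2 (iv7 F12291) D8604 (iv4 D3877)
def n8605 : Q := act 6 n3866
theorem D8605 : act 6 n3866 = n8605 := rfl
theorem F13514 : act 2 n8605 = n3874 := d3_1 D8605 (iv6 D3874) (iv2 F12289)
def n8606 : Q := act 3 n3867
theorem D8606 : act 3 n3867 = n8606 := rfl
theorem F13515 : act 5 n8606 = n7807 := d6_2 (iv5 F12297) D8606 F12339
theorem F13516 : act 7 n8606 = n3871 := d8_2 (iv7 F12298) D8606 (iv3 D3871)
def n8607 : Q := act 4 n3867
theorem D8607 : act 4 n3867 = n8607 := rfl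
theorem F13517 : act 2 n8607 = n3877 := d1_1 D8607 (iv4 D3877) (iv2 F12296)
theorem F13518 : act 7 n8607 = n3872 := d11_2 (iv7 F12298) D8607 (iv4 D3872)
def n8608 : Q := act 6 n3867
theorem D8608 : act 6 n3867 = n8608 := rfl
theorem F13519 : act 2 n8608 = n3879 := d3_1 D8608 (iv6 D3879) (iv2 F12296)
def n8609 : Q := act 0 n3868
theorem D8609 : act 0 n3868 = n8609 := rfl
theorem F13520 : act 1 n3885 = n8609 := d15_0 (iv0 D8609) (iv7 F13298) F13297
def n8610 : Q := act 1 n3868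
theorem D8610 : act 1 n3868 = n8610 := rfl
theorem F13521 : act 1 n8610 = n3885 := d15_1 D8610 (iv7 D3885) (iv2 F5842)
def n8611 : Q := act 3 n3868
theorem D8611 : act 3 n3868 = n8611 := rfl
def n8612 : Q := act 5 n3868
theorem D8612 : act 5 n3868 = n8612 := rfl
theorem F13522 : act 2 n8612 = n3883 := d2_1 D8612 (iv5 D3883) (iv2 F5842)
theorem F13523 : act 7 n8612 = n4915 := d13_2 F13298 D8612 (iv5 F13299)
theorem F13524 : act 4 n8612 = n4917 := d16_2 D3868 D8612 F7343 F3320 F1893 (iv4 F1659) (iv5 F2864) (iv7 D1685) (iv2 F2861)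
def n8613 : Q := act 6 n3868
theorem D8613 : act 6 n3868 = n8613 := rfl
theorem F13525 : act 2 n8613 = n3884 := d3_1 D8613 (iv6 D3884) (iv2 F5842)
theorem F13526 : act 4 n8613 = n3869 := d10_1 D8613 (iv6 D3869) D3868
def n8614 : Q := act 0 n3869
theorem D8614 : act 0 n3869 = n8614 := rfl
def n8615 : Q := act 1 n3869
theorem D8615 : act 1 n3869 = n8615 := rfl
theorem F13527 : act 1 n8615 = n3888 := d15_1 D8615 (iv7 D3888) (iv2 F5843)
def n8616 : Q := act 7 n3869
theorem D8616 : act 7 n3869 = n8616 := rfl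
theorem F13528 : act 2 n8616 = n3888 := d4_1 D8616 (iv7 D3888) (iv2 F5843)
theorem F13529 : act 1 n3888 = n8614 := d15_0 (iv0 D8614) D8616 F13528
theorem F13530 : act 1 n3887 = n8616 := d15_1 D3887 (iv7 D8616) F5843
theorem F13531 : act 1 n8616 = n3886 := d15_0 (iv0 D3886) D3888 (iv2 F13528)
def n8617 : Q := act 0 n3871
theorem D8617 : act 0 n3871 = n8617 := rfl
def n8618 : Q := act 1 n3871
theorem D8618 : act 1 n3871 = n8618 := rfl
def n8619 : Q := act 2 n3871
theorem D8619 : act 2 n3871 = n8619 := rfl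
theorem F13532 : act 5 n8619 = n7805 := d2_2 F7230 D8619 (iv2 D7805)
def n8620 : Q := act 4 n3871
theorem D8620 : act 4 n3871 = n8620 := rfl
theorem F13533 : act 0 n8620 = n8091 := d20_7 (iv4 F2626) (iv1 F2627) (iv4 D896) (iv3 F1657) D1681 D3871 D8620 (iv4 D8091) (iv3 D3648) (iv1 F2782)
theorem E1813 : n8618 = n8546 := (c18_9 (iv1 D3823) F5729 (iv1 D3721) F2809 (iv5 F5672) D8091 (iv0 F13533) (iv4 D8620) D8618 (iv5 D8546))
theorem F13534 : act 0 n8546 = n3871 := (sb E1813 (iv1 D8618))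
def n8621 : Q := act 6 n3871
theorem D8621 : act 6 n3871 = n8621 := rfl
theorem F13535 : act 3 n8621 = n3874 := d7_1 D8621 (iv6 D3874) D3871
def n8622 : Q := act 0 n3872
theorem D8622 : act 0 n3872 = n8622 := rfl
theorem F13536 : act 4 n8622 = n8218 := d18_3 D1681 D3872 D8622 F13338 (iv4 F5820) (iv0 D3828) (iv4 D1670) (iv0 D889) D892
theorem F13537 : act 1 n3877 = n8622 := d15_0 (iv0 D8622) (iv7 F13518) F13517
def n8623 : Q := act 1 n3872
theorem D8623 : act 1 n3872 = n8623 := rfl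
theorem F13538 : act 1 n8623 = n3877 := d15_1 D8623 (iv7 F13513) F13512
def n8624 : Q := act 3 n3872
theorem D8624 : act 3 n3872 = n8624 := rfl
def n8625 : Q := act 5 n3872
theorem D8625 : act 5 n3872 = n8625 := rfl
theorem F13539 : act 4 n8625 = n4907 := d16_2 D3872 D8625 (iv5 D4907) D4906 F7321 (iv4 D3545) (iv5 F7110) (iv7 F12291) F12289
def n8626 : Q := act 6 n3872
theorem D8626 : act 6 n3872 = n8626 := rfl
theorem F13540 : act 4 n8626 = n3874 := d10_1 D8626 (iv6 D3874) D3872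
def n8627 : Q := act 0 n3874
theorem D8627 : act 0 n3874 = n8627 := rfl
def n8628 : Q := act 1 n3874
theorem D8628 : act 1 n3874 = n8628 := rfl
def n8629 : Q := act 5 n3874
theorem D8629 : act 5 n3874 = n8629 := rfl
theorem F13541 : act 6 n8629 = n7811 := d12_2 D3874 D8629 (iv5 D7811) (iv6 D3542) (iv5 F7229)
def n8630 : Q := act 7 n3874
theorem D8630 : act 7 n3874 = n8630 := rfl
def n8631 : Q := act 1 n3876
theorem D8631 : act 1 n3876 = n8631 := rfl
def n8632 : Q := act 2 n3876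
theorem D8632 : act 2 n3876 = n8632 := rfl
theorem F13542 : act 5 n8632 = n7813 := d2_2 F7226 D8632 (iv2 D7813)
def n8633 : Q := act 4 n3876
theorem D8633 : act 4 n3876 = n8633 := rfl
theorem F13543 : act 1 n8633 = n8058 := d18_6 D1596 D3630 F12353 (iv4 D7814) F7226 D8633 (iv4 D8058) (iv0 D3640) (iv5 D1599)
def n8634 : Q := act 6 n3876
theorem D8634 : act 6 n3876 = n8634 := rfl
theorem F13544 : act 3 n8634 = n3879 := d7_1 D8634 (iv6 D3879) D3876
def n8635 : Q := act 3 n3877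
theorem D8635 : act 3 n3877 = n8635 := rfl
def n8636 : Q := act 5 n3877
theorem D8636 : act 5 n3877 = n8636 := rfl
theorem F13545 : act 4 n8636 = n4902 := d9_1 D8636 (iv5 D4902) D4901 F7317 (iv4 D3540) (iv5 F7229) D3872 D8625 F13539 (iv5 D4907) D4906 F7321 (iv4 D3545) (iv5 F7110) D3877
def n8637 : Q := act 6 n3877
theorem D8637 : act 6 n3877 = n8637 := rfl
theorem F13546 : act 4 n8637 = n3879 := d10_1 D8637 (iv6 D3879) D3877
def n8638 : Q := act 0 n3879
theorem D8638 : act 0 n3879 = n8638 := rfl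
def n8639 : Q := act 1 n3879
theorem D8639 : act 1 n3879 = n8639 := rfl
def n8640 : Q := act 5 n3879
theorem D8640 : act 5 n3879 = n8640 := rfl
theorem F13547 : act 6 n8640 = n7817 := d12_2 D3879 D8640 (iv5 D7817) (iv6 D3547) (iv5 F7110)
def n8641 : Q := act 7 n3879
theorem D8641 : act 7 n3879 = n8641 := rfl
def n8642 : Q := act 2 n3880
theorem D8642 : act 2 n3880 = n8642 := rfl
theorem F13548 : act 7 n3881 = n8642 := d15_2 (iv0 D3880) D3881 (iv2 D8642)
def n8643 : Q := act 3 n3880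
theorem D8643 : act 3 n3880 = n8643 := rfl
def n8644 : Q := act 5 n3880
theorem D8644 : act 5 n3880 = n8644 := rfl
theorem F13549 : act 4 n8644 = n4893 := d16_4 D1771 D4121 F7228 D8644 (iv5 D4893) (iv4 D2019) (iv5 F7108) F3030 (iv2 D1769)
theorem F13550 : act 1 n8644 = n7829 := d17_6 (iv1 F13372) (iv5 F13369) (iv1 D4119) D4121 F7228 D8644 (iv5 D7829) D7827 (iv4 F12379)
def n8645 : Q := act 6 n3880
theorem D8645 : act 6 n3880 = n8645 := rfl
def n8646 : Q := act 7 n3880
theorem D8646 : act 7 n3880 = n8646 := rfl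
theorem F13551 : act 2 n8646 = n3881 := d4_1 D8646 F13548 (iv2 D8642)
def n8647 : Q := act 3 n3881
theorem D8647 : act 3 n3881 = n8647 := rfl
def n8648 : Q := act 5 n3881
theorem D8648 : act 5 n3881 = n8648 := rfl
theorem F13552 : act 4 n8648 = n4883 := d9_1 D8648 (iv5 D4883) (iv4 D2014) (iv5 F7097) D1771 D4121 F7228 D8644 F13549 (iv5 D4893) (iv4 D2019) (iv5 F7108) D1776 D4140 F7224
theorem F13553 : act 0 n8648 = n7829 := d17_2 F13300 D8648 (iv5 D7829) (iv4 D3553) (iv5 D1565) D1563 (iv5 F7110) F5805 D8543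
theorem F13554 : act 3 n8033 = n8648 := d19_19 F13553 (iv5 D7829) (iv4 D3553) F2720 (iv1 F2290) (iv5 D1223) (iv4 F1406) (iv3 F919) (iv1 D317) (iv5 D88) F21 (iv3 F17) D71 D273 D530 D862 D1596 D3631 D8033
theorem F13555 : act 5 n8647 = n8033 := d6_0 F13554 (iv5 D8648) D8647
def n8649 : Q := act 6 n3881
theorem D8649 : act 6 n3881 = n8649 := rfl
def n8650 : Q := act 0 n3882
theorem D8650 : act 0 n3882 = n8650 := rfl
def n8651 : Q := act 1 n3882
theorem D8651 : act 1 n3882 = n8651 := rfl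
def n8652 : Q := act 2 n3882
theorem D8652 : act 2 n3882 = n8652 := rfl
theorem F13556 : act 4 n8652 = n3913 := d1_2 (iv4 F5846) D8652 (iv2 D3913)
def n8653 : Q := act 5 n3882
theorem D8653 : act 5 n3882 = n8653 := rfl
theorem F13557 : act 3 n8653 = n3883 := d6_1 D8653 (iv5 D3883) D3882
def n8654 : Q := act 6 n3882
theorem D8654 : act 6 n3882 = n8654 := rfl
theorem F13558 : act 3 n8654 = n3884 := d7_1 D8654 (iv6 D3884) D3882
theorem F13559 : act 4 n8654 = n3914 := d10_1 D8654 (iv6 D3914) (iv4 F5846)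
def n8655 : Q := act 0 n3883
theorem D8655 : act 0 n3883 = n8655 := rfl
def n8656 : Q := act 1 n3883
theorem D8656 : act 1 n3883 = n8656 := rfl
theorem F13560 : act 1 n8656 = n4915 := d15_1 D8656 (iv7 F13523) F13522
theorem F13561 : act 5 n8656 = n4823 := d17_7 F6940 (iv5 D1676) (iv1 D890) D892 D1683 D3883 D8656 (iv0 F12360) (iv4 D7818)
theorem F13562 : act 3 n8058 = n8656 := d19_19 (iv1 D8656) (iv5 D3883) (iv4 D1683) F1657 D894 F1660 F1592 F945 (iv1 F941) F940 F520 (iv3 F417) F1053 F1065 D555 D876 D1632 F13443 D8058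
theorem F13563 : act 4 n4785 = n8656 := d16_2 D1976 D4785 F13561 (iv4 D4823) (iv5 D1990) (iv4 D1007) D1008 (iv7 F7125) F7123
def n8657 : Q := act 4 n3883
theorem D8657 : act 4 n3883 = n8657 := rfl
theorem F13564 : act 2 n8657 = n4917 := d1_1 D8657 (iv4 F13524) F13522
theorem F13565 : act 5 n8657 = n4723 := d9_2 D3883 D8657 (iv4 D4723) (iv5 D1953) (iv4 F2854) D3814 D8543 F13299 (iv4 D4915) (iv5 D2025) (iv4 D1015) (iv5 D646) (iv4 F853) D892 D1683
theorem F13566 : act 0 n8657 = n4914 := d18_2 (iv1 D8656) D8657 (iv4 F13494) (iv5 D8565) (iv4 D3836) (iv0 F6938) (iv4 F12383) F12385 (iv5 F13561)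
theorem F13567 : act 7 n8657 = n4862 := d15_2 D4914 (iv0 F13566) F7030
theorem F13568 : act 0 n4913 = n8657 := d17_2 (iv1 F13394) F13392 F13565 (iv4 D4723) (iv5 D1953) (iv0 D999) D1003 (iv0 F6908) (iv4 F6074)
theorem F13569 : act 4 n8655 = n4830 := d18_3 F13568 (iv4 D8657) D8655 (iv5 D4830) (iv4 D1992) F6910 D4160 (iv0 F13393) F13392
theorem F13570 : act 5 n4764 = n8655 := d9_0 F13569 (iv5 D4830) (iv4 D1992) (iv5 D1008) D1007 D1990 D4823 (iv5 F13561) (iv4 F13563) (iv5 D4785) (iv4 D1976) (iv5 D1003) D1002 D1971 D4764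
theorem F13571 : act 0 n8655 = n4915 := d17_2 (iv1 F12384) F13570 (iv5 F13299) (iv4 D8543) (iv5 D3814) (iv0 D1667) D1671 (iv0 F6938) (iv4 F12383)
theorem F13572 : act 0 n4140 = n4757 := d17_0 (iv5 D4757) (iv1 D1969) D1971 D4764 F13570 (iv0 D8655) (iv5 D3883) D3881 (iv4 F7224)
def n8658 : Q := act 6 n3883
theorem D8658 : act 6 n3883 = n8658 := rfl
def n8659 : Q := act 7 n3883
theorem D8659 : act 7 n3883 = n8659 := rfl
theorem F13573 : act 2 n8659 = n4915 := d4_1 D8659 (iv7 F13523) F13522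
theorem F13574 : act 4 n8659 = n4862 := d11_1 D8659 (iv7 F13567) (iv4 D8657)
theorem F13575 : act 5 n8659 = n3885 := d13_1 D8659 (iv7 D3885) D3883
def n8660 : Q := act 0 n3884
theorem D8660 : act 0 n3884 = n8660 := rfl
def n8661 : Q := act 1 n3884
theorem D8661 : act 1 n3884 = n8661 := rfl
def n8662 : Q := act 5 n3884
theorem D8662 : act 5 n3884 = n8662 := rfl
def n8663 : Q := act 7 n3884
theorem D8663 : act 7 n3884 = n8663 := rfl
theorem F13576 : act 4 n8663 = n3888 := d11_1 D8663 (iv7 D3888) (iv4 F5847)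
def n8664 : Q := act 6 n3885
theorem D8664 : act 6 n3885 = n8664 := rfl
theorem F13577 : act 4 n8664 = n3889 := d10_1 D8664 (iv6 D3889) (iv4 F5848)
def n8665 : Q := act 2 n3886
theorem D8665 : act 2 n3886 = n8665 := rfl
theorem F13578 : act 7 n3887 = n8665 := d15_2 (iv0 D3886) D3887 (iv2 D8665)
def n8666 : Q := act 3 n3886
theorem D8666 : act 3 n3886 = n8666 := rfl
def n8667 : Q := act 4 n3886
theorem D8667 : act 4 n3886 = n8667 := rfl
def n8668 : Q := act 5 n3886
theorem D8668 : act 5 n3886 = n8668 := rfl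
def n8669 : Q := act 6 n3886
theorem D8669 : act 6 n3886 = n8669 := rfl
theorem F13579 : act 5 n8669 = n8615 := d21_6 (iv5 D1676) (iv1 D890) D892 D1684 D3886 D8669 (iv1 D8615) (iv5 F12363) (iv6 D7819) F6940
def n8670 : Q := act 7 n3886
theorem D8670 : act 7 n3886 = n8670 := rfl
theorem F13580 : act 2 n8670 = n3887 := d4_1 D8670 F13578 (iv2 D8665)
def n8671 : Q := act 3 n3887
theorem D8671 : act 3 n3887 = n8671 := rfl
def n8672 : Q := act 4 n3887
theorem D8672 : act 4 n3887 = n8672 := rfl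
def n8673 : Q := act 5 n3887
theorem D8673 : act 5 n3887 = n8673 := rfl
theorem F13581 : act 6 n8614 = n8673 := d21_5 F7218 F6432 D1680 D3869 D8614 (iv5 D8673) (iv1 D3887) (iv5 F5575) (iv6 D3554) D3551
def n8674 : Q := act 6 n3887
theorem D8674 : act 6 n3887 = n8674 := rfl
def n8675 : Q := act 6 n3888
theorem D8675 : act 6 n3888 = n8675 := rfl
theorem F13582 : act 3 n8675 = n3929 := d7_1 D8675 (iv6 D3929) (iv3 F5849)
theorem F13583 : act 7 n8675 = n3889 := d14_2 D3888 D8675 (iv6 D3889) (iv7 D1685) D1684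
def n8676 : Q := act 0 n3889
theorem D8676 : act 0 n3889 = n8676 := rfl
def n8677 : Q := act 1 n3889
theorem D8677 : act 1 n3889 = n8677 := rfl
def n8678 : Q := act 5 n3889
theorem D8678 : act 5 n3889 = n8678 := rfl
theorem F13584 : act 3 n8678 = n3932 := d6_1 D8678 (iv5 D3932) (iv3 F5850)
theorem F13585 : act 6 n8678 = n3892 := d12_2 D3889 D8678 (iv5 D3892) (iv6 D1686) (iv5 F2864)
def n8679 : Q := act 3 n3890
theorem D8679 : act 3 n3890 = n8679 := rfl
theorem F13586 : act 6 n8679 = n7807 := d7_2 F12295 D8679 F12339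
theorem F13587 : act 4 n8679 = n8001 := d20_6 F2808 (iv1 F1635) (iv4 F1663) (iv3 F2865) D3890 D8679 (iv1 D8001) F5657 F5656 F2910
theorem F13588 : act 6 n8001 = n6089 := d10_2 (iv6 F13586) F13587 F12340
theorem F13589 : act 2 n7990 = n8001 := d3_3 F13588 F12342 D7990
theorem F13590 : act 7 n8000 = n7990 := d15_2 F13043 F13041 F13589
def n8680 : Q := act 4 n3890
theorem D8680 : act 4 n3890 = n8680 := rfl
theorem F13591 : act 2 n8680 = n7816 := d1_1 D8680 F12358 (iv2 F12300)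
theorem F13592 : act 6 n8680 = n4372 := d10_2 F12295 D8680 (iv4 F12294)
def n8681 : Q := act 5 n3890
theorem D8681 : act 5 n3890 = n8681 := rfl
theorem F13593 : act 2 n8681 = n7817 := d2_1 D8681 (iv5 D7817) (iv2 F12300)
def n8682 : Q := act 3 n3891
theorem D8682 : act 3 n3891 = n8682 := rfl
theorem F13594 : act 7 n8682 = n7815 := d8_2 (iv7 F12301) D8682 F12356
def n8683 : Q := act 4 n3891
theorem D8683 : act 4 n3891 = n8683 := rfl
theorem F13595 : act 7 n8683 = n7816 := d11_2 (iv7 F12301) D8683 F12358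
theorem F13596 : act 3 n4219 = n8683 := d20_5 F1737 F1724 (iv4 F1776) (iv3 F3063) D4219 (iv4 D8683) (iv1 D3891) F2866 F1894 F1738
def n8684 : Q := act 5 n3891
theorem D8684 : act 5 n3891 = n8684 := rfl
theorem F13597 : act 7 n8684 = n7817 := d13_2 (iv7 F12301) D8684 (iv5 D7817)
def n8685 : Q := act 6 n3891
theorem D8685 : act 6 n3891 = n8685 := rfl
theorem F13598 : act 2 n8685 = n7812 := d3_1 D8685 F12392 (iv2 F12389)
theorem F13599 : act 7 n8685 = n7802 := d14_2 (iv7 F12301) D8685 (iv6 D7802) (iv7 F5568) D3547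
theorem F13601 : act 1 n7812 = n8597 := d15_0 (iv0 F13504) (iv7 F13599) F13598
theorem F13602 : act 1 n8685 = n7809 := d15_0 (iv0 D7809) D7812 (iv2 F13598)
def n8686 : Q := act 1 n3892
theorem D8686 : act 1 n3892 = n8686 := rfl
theorem F13603 : act 5 n8685 = n8686 := d21_0 (iv1 D8686) (iv5 D3892) (iv6 D1686) (iv1 F6433) D3843 D8570 (iv1 F13508) (iv5 D8601) (iv6 F13507) (iv1 F13602)
theorem F13604 : act 4 n4129 = n7809 := d17_9 (iv1 F13602) F13603 (iv1 D8686) (iv5 D3892) F2866 D2034 D4944 (iv5 F7367) F7366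
theorem E1814 : n8600 = n1995 := (c10_4 (iv6 F7237) F13604 F13507 D8600)
theorem E1815 : n4843 = n3854 := ((D4843).symm.trans (sb E1814 (iv4 D8600)))
theorem F13605 : act 4 n3854 = n1995 := (sb E1815 (iv4 D4843))
theorem F13607 : act 4 n4836 = n8593 := d11_3 (iv7 F13501) F13605 F6972
theorem E1816 : n4838 = n3853 := (c17_10 (iv1 F7194) D8570 (iv1 F13508) (iv5 D8601) F13605 D4844 F7162 (iv5 D4810) (iv0 F7126) D4838)
theorem E1817 : n8595 = n1994 := ((D8595).symm.trans (sb E1816 (iv4 D4838)))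
theorem F13608 : act 4 n1994 = n3853 := (sb E1817 (iv4 D8595))
def n8687 : Q := act 4 n3892
theorem D8687 : act 4 n3892 = n8687 := rfl
def n8688 : Q := act 4 n3895
theorem D8688 : act 4 n3895 = n8688 := rfl
theorem F13610 : act 2 n8688 = n3896 := d1_1 D8688 (iv4 D3896) D3895
def n8689 : Q := act 6 n3895
theorem D8689 : act 6 n3895 = n8689 := rfl
theorem F13611 : act 2 n8689 = n3897 := d3_1 D8689 (iv6 D3897) D3895
def n8690 : Q := act 0 n3896
theorem D8690 : act 0 n3896 = n8690 := rfl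
theorem F13612 : act 4 n8690 = n4587 := d18_3 F7083 D3896 D8690 (iv5 D4587) (iv4 D1909) (iv0 D985) (iv4 F1646) D1653 D3782
def n8691 : Q := act 1 n3896
theorem D8691 : act 1 n3896 = n8691 := rfl
theorem F13613 : act 4 n4600 = n8691 := d20_6 F2312 D1514 F2626 (iv3 F2802) D3702 (iv3 F13333) (iv1 D8691) (iv4 D3896) (iv3 D1687) (iv1 F2315)
def n8692 : Q := act 5 n3896
theorem D8692 : act 5 n3896 = n8692 := rfl
def n8693 : Q := act 6 n3896
theorem D8693 : act 6 n3896 = n8693 := rfl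
theorem F13614 : act 4 n8693 = n3897 := d10_1 D8693 (iv6 D3897) D3896
def n8694 : Q := act 0 n3897
theorem D8694 : act 0 n3897 = n8694 := rfl
def n8695 : Q := act 1 n3897
theorem D8695 : act 1 n3897 = n8695 := rfl
def n8696 : Q := act 5 n3897
theorem D8696 : act 5 n3897 = n8696 := rfl
theorem F13615 : act 3 n8696 = n3900 := d6_1 D8696 (iv5 D3900) (iv3 F5853)
theorem F13616 : act 6 n8696 = n7780 := d12_2 D3897 D8696 (iv5 D7780) (iv6 D3529) (iv5 F2867)
def n8697 : Q := act 7 n3897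
theorem D8697 : act 7 n3897 = n8697 := rfl
theorem F13617 : act 3 n8697 = n3901 := d8_1 D8697 (iv7 D3901) (iv3 F5853)
def n8698 : Q := act 2 n3898
theorem D8698 : act 2 n3898 = n8698 := rfl
theorem F13618 : act 7 n3899 = n8698 := d15_2 (iv0 D3898) D3899 (iv2 D8698)
def n8699 : Q := act 3 n3898
theorem D8699 : act 3 n3898 = n8699 := rfl
def n8700 : Q := act 4 n3898
theorem D8700 : act 4 n3898 = n8700 := rfl
def n8701 : Q := act 5 n3898
theorem D8701 : act 5 n3898 = n8701 := rfl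
def n8702 : Q := act 6 n3898
theorem D8702 : act 6 n3898 = n8702 := rfl
theorem F13619 : act 5 n8702 = n6218 := d21_6 (iv5 D846) D843 (iv5 F1660) D1688 D3898 D8702 (iv1 D6218) F4205 (iv6 D2612) F2287
def n8703 : Q := act 7 n3898
theorem D8703 : act 7 n3898 = n8703 := rfl
theorem F13620 : act 2 n8703 = n3899 := d4_1 D8703 F13618 (iv2 D8698)
def n8704 : Q := act 3 n3899
theorem D8704 : act 3 n3899 = n8704 := rfl
def n8705 : Q := act 4 n3899
theorem D8705 : act 4 n3899 = n8705 := rfl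
def n8706 : Q := act 5 n3899
theorem D8706 : act 5 n3899 = n8706 := rfl
def n8707 : Q := act 6 n3899
theorem D8707 : act 6 n3899 = n8707 := rfl
def n8708 : Q := act 0 n3900
theorem D8708 : act 0 n3900 = n8708 := rfl
def n8709 : Q := act 1 n3900
theorem D8709 : act 1 n3900 = n8709 := rfl
theorem F13621 : act 5 n8532 = n8709 := d21_6 F2313 (iv1 F1411) D887 D1663 D3809 D8532 (iv1 D8709) (iv5 D3900) (iv6 D1688) (iv1 F2315)
def n8710 : Q := act 4 n3900
theorem D8710 : act 4 n3900 = n8710 := rfl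
theorem F13622 : act 6 n8710 = n7782 := d10_2 (iv6 F5854) D8710 (iv4 D7782)
def n8711 : Q := act 7 n3900
theorem D8711 : act 7 n3900 = n8711 := rfl
theorem F13623 : act 5 n8711 = n3901 := d13_1 D8711 (iv7 D3901) D3900
def n8720 : Q := act 5 n3903
theorem D8720 : act 5 n3903 = n8720 := rfl
def n8722 : Q := act 4 n3904
theorem D8722 : act 4 n3904 = n8722 := rfl
theorem F13626 : act 2 n8722 = n3905 := d1_1 D8722 (iv4 D3905) D3904
def n8723 : Q := act 6 n3904
theorem D8723 : act 6 n3904 = n8723 := rfl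
theorem F13627 : act 2 n8723 = n3906 := d3_1 D8723 (iv6 D3906) D3904
def n8724 : Q := act 0 n3905
theorem D8724 : act 0 n3905 = n8724 := rfl
def n8725 : Q := act 1 n3905
theorem D8725 : act 1 n3905 = n8725 := rfl
theorem F13628 : act 4 n8057 = n8725 := d20_6 D896 (iv1 F2628) F2630 (iv3 F2778) D3640 D8057 (iv1 D8725) (iv4 D3905) (iv3 D1689) (iv1 D895)
theorem F13629 : act 3 n8725 = n4785 := d5_1 F13628 F13563 (iv3 F13562) (iv4 D8058) D8057
theorem F13630 : act 5 n4784 = n8725 := d6_0 F13629 (iv5 D4785) D4784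
def n8726 : Q := act 5 n3905
theorem D8726 : act 5 n3905 = n8726 := rfl
theorem F13631 : act 0 n4882 = n8726 := d19_0 (iv5 D8726) (iv4 D3905) (iv3 D1689) (iv1 D895) (iv5 D566) (iv4 D282) F59 D108 F90 F84 F465 F478 D96 D320 D617 D935 F7097 D2014 D4882
def n8727 : Q := act 6 n3905
theorem D8727 : act 6 n3905 = n8727 := rfl
theorem F13632 : act 4 n8727 = n3906 := d10_1 D8727 (iv6 D3906) D3905
def n8728 : Q := act 0 n3906
theorem D8728 : act 0 n3906 = n8728 := rfl
def n8729 : Q := act 1 n3906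
theorem D8729 : act 1 n3906 = n8729 := rfl
def n8730 : Q := act 5 n3906
theorem D8730 : act 5 n3906 = n8730 := rfl
theorem F13633 : act 3 n8730 = n3909 := d6_1 D8730 (iv5 D3909) (iv3 F5856)
theorem F13634 : act 6 n8730 = n7794 := d12_2 D3906 D8730 (iv5 D7794) (iv6 D3535) (iv5 F2868)
def n8731 : Q := act 7 n3906
theorem D8731 : act 7 n3906 = n8731 := rfl
theorem F13635 : act 3 n8731 = n3910 := d8_1 D8731 (iv7 D3910) (iv3 F5856)
def n8732 : Q := act 2 n3907
theorem D8732 : act 2 n3907 = n8732 := rfl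
theorem F13636 : act 7 n3908 = n8732 := d15_2 (iv0 D3907) D3908 (iv2 D8732)
def n8733 : Q := act 3 n3907
theorem D8733 : act 3 n3907 = n8733 := rfl
def n8734 : Q := act 4 n3907
theorem D8734 : act 4 n3907 = n8734 := rfl
def n8735 : Q := act 5 n3907
theorem D8735 : act 5 n3907 = n8735 := rfl
def n8736 : Q := act 6 n3907
theorem D8736 : act 6 n3907 = n8736 := rfl
def n8737 : Q := act 7 n3907
theorem D8737 : act 7 n3907 = n8737 := rfl
theorem F13637 : act 2 n8737 = n3908 := d4_1 D8737 F13636 (iv2 D8732)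
def n8738 : Q := act 3 n3908
theorem D8738 : act 3 n3908 = n8738 := rfl
def n8739 : Q := act 4 n3908
theorem D8739 : act 4 n3908 = n8739 := rfl
def n8740 : Q := act 5 n3908
theorem D8740 : act 5 n3908 = n8740 := rfl
theorem F13638 : act 6 n8708 = n8740 := d21_5 (iv5 D3665) F2873 D3530 (iv6 F5854) D8708 (iv5 D8740) (iv1 D3908) D3909 F5857 (iv1 F5691)
def n8741 : Q := act 6 n3908
theorem D8741 : act 6 n3908 = n8741 := rfl
def n8742 : Q := act 0 n3909
theorem D8742 : act 0 n3909 = n8742 := rfl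
def n8743 : Q := act 1 n3909
theorem D8743 : act 1 n3909 = n8743 := rfl
theorem F13639 : act 5 n8470 = n8743 := d21_6 (iv5 D566) D563 D884 D1656 D3789 D8470 (iv1 D8743) (iv5 D3909) (iv6 D1690) (iv1 D895)
def n8744 : Q := act 4 n3909
theorem D8744 : act 4 n3909 = n8744 := rfl
theorem F13640 : act 6 n8744 = n7795 := d10_2 (iv6 F5857) D8744 (iv4 D7795)
def n8745 : Q := act 7 n3909
theorem D8745 : act 7 n3909 = n8745 := rfl
theorem F13641 : act 5 n8745 = n3910 := d13_1 D8745 (iv7 D3910) D3909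
def n8746 : Q := act 2 n3911
theorem D8746 : act 2 n3911 = n8746 := rfl
theorem F13642 : act 7 n3912 = n8746 := d15_2 (iv0 D3911) D3912 (iv2 D8746)
def n8747 : Q := act 3 n3911
theorem D8747 : act 3 n3911 = n8747 := rfl
def n8748 : Q := act 4 n3911
theorem D8748 : act 4 n3911 = n8748 := rfl
def n8749 : Q := act 5 n3911
theorem D8749 : act 5 n3911 = n8749 := rfl
def n8750 : Q := act 6 n3911
theorem D8750 : act 6 n3911 = n8750 := rfl
def n8751 : Q := act 7 n3911
theorem D8751 : act 7 n3911 = n8751 := rfl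
theorem F13643 : act 2 n8751 = n3912 := d4_1 D8751 F13642 (iv2 D8746)
def n8752 : Q := act 3 n3912
theorem D8752 : act 3 n3912 = n8752 := rfl
def n8753 : Q := act 4 n3912
theorem D8753 : act 4 n3912 = n8753 := rfl
def n8754 : Q := act 5 n3912
theorem D8754 : act 5 n3912 = n8754 := rfl
def n8755 : Q := act 6 n3912
theorem D8755 : act 6 n3912 = n8755 := rfl
def n8756 : Q := act 6 n3913
theorem D8756 : act 6 n3913 = n8756 := rfl
theorem F13644 : act 2 n8756 = n3914 := d3_1 D8756 (iv6 D3914) D3913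
def n8757 : Q := act 0 n3914
theorem D8757 : act 0 n3914 = n8757 := rfl
def n8758 : Q := act 1 n3914
theorem D8758 : act 1 n3914 = n8758 := rfl
def n8759 : Q := act 5 n3914
theorem D8759 : act 5 n3914 = n8759 := rfl
theorem F13645 : act 3 n8759 = n3917 := d6_1 D8759 (iv5 D3917) (iv3 F5858)
def n8760 : Q := act 7 n3914
theorem D8760 : act 7 n3914 = n8760 := rfl
theorem F13646 : act 3 n8760 = n3918 := d8_1 D8760 (iv7 D3918) (iv3 F5858)
def n8761 : Q := act 2 n3915
theorem D8761 : act 2 n3915 = n8761 := rfl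
theorem F13647 : act 7 n3916 = n8761 := d15_2 (iv0 D3915) D3916 (iv2 D8761)
def n8762 : Q := act 3 n3915
theorem D8762 : act 3 n3915 = n8762 := rfl
def n8763 : Q := act 4 n3915
theorem D8763 : act 4 n3915 = n8763 := rfl
def n8764 : Q := act 5 n3915
theorem D8764 : act 5 n3915 = n8764 := rfl
def n8765 : Q := act 6 n3915
theorem D8765 : act 6 n3915 = n8765 := rfl
def n8766 : Q := act 7 n3915
theorem D8766 : act 7 n3915 = n8766 := rfl
theorem F13648 : act 2 n8766 = n3916 := d4_1 D8766 F13647 (iv2 D8761)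
def n8767 : Q := act 3 n3916
theorem D8767 : act 3 n3916 = n8767 := rfl
def n8768 : Q := act 4 n3916
theorem D8768 : act 4 n3916 = n8768 := rfl
def n8769 : Q := act 5 n3916
theorem D8769 : act 5 n3916 = n8769 := rfl
def n8770 : Q := act 6 n3916
theorem D8770 : act 6 n3916 = n8770 := rfl
def n8771 : Q := act 0 n3917
theorem D8771 : act 0 n3917 = n8771 := rfl
def n8772 : Q := act 1 n3917
theorem D8772 : act 1 n3917 = n8772 := rfl
def n8773 : Q := act 4 n3917
theorem D8773 : act 4 n3917 = n8773 := rfl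
def n8774 : Q := act 7 n3917
theorem D8774 : act 7 n3917 = n8774 := rfl
theorem F13649 : act 5 n8774 = n3918 := d13_1 D8774 (iv7 D3918) D3917
def n8776 : Q := act 1 n3919
theorem D8776 : act 1 n3919 = n8776 := rfl
theorem F13651 : act 1 n8776 = n3924 := d15_1 D8776 (iv7 D3924) D3919
def n8777 : Q := act 3 n3919
theorem D8777 : act 3 n3919 = n8777 := rfl
theorem F13652 : act 7 n8777 = n3925 := d8_2 F5860 D8777 (iv3 D3925)
def n8778 : Q := act 4 n3919
theorem D8778 : act 4 n3919 = n8778 := rfl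
theorem F13653 : act 2 n8778 = n3921 := d1_1 D8778 (iv4 D3921) D3919
theorem F13654 : act 7 n8778 = n3926 := d11_2 F5860 D8778 (iv4 D3926)
def n8779 : Q := act 5 n3919
theorem D8779 : act 5 n3919 = n8779 := rfl
theorem F13655 : act 2 n8779 = n3922 := d2_1 D8779 (iv5 D3922) D3919
theorem F13656 : act 7 n8779 = n3927 := d13_2 F5860 D8779 (iv5 D3927)
def n8780 : Q := act 6 n3919
theorem D8780 : act 6 n3919 = n8780 := rfl
theorem F13657 : act 2 n8780 = n3923 := d3_1 D8780 (iv6 D3923) D3919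
theorem F13658 : act 5 n6304 = n8780 := d2_0 F13657 F5861 (iv2 F9813)
theorem F13659 : act 7 n8780 = n6303 := d13_2 D6304 F13658 (iv5 D6303)
def n8781 : Q := act 0 n3920
theorem D8781 : act 0 n3920 = n8781 := rfl
def n8782 : Q := act 1 n3920
theorem D8782 : act 1 n3920 = n8782 := rfl
def n8783 : Q := act 2 n3920
theorem D8783 : act 2 n3920 = n8783 := rfl
def n8784 : Q := act 4 n3920
theorem D8784 : act 4 n3920 = n8784 := rfl
def n8785 : Q := act 5 n3920
theorem D8785 : act 5 n3920 = n8785 := rfl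
theorem F13660 : act 3 n8785 = n3922 := d6_1 D8785 (iv5 D3922) D3920
def n8786 : Q := act 6 n3920
theorem D8786 : act 6 n3920 = n8786 := rfl
theorem F13661 : act 3 n8786 = n3923 := d7_1 D8786 (iv6 D3923) D3920
theorem F13662 : act 5 n6305 = n8786 := d6_0 F13661 F5861 D6305
def n8787 : Q := act 7 n3920
theorem D8787 : act 7 n3920 = n8787 := rfl
theorem F13663 : act 3 n8787 = n3924 := d8_1 D8787 (iv7 D3924) D3920
def n8788 : Q := act 0 n3921
theorem D8788 : act 0 n3921 = n8788 := rfl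
def n8789 : Q := act 1 n3921
theorem D8789 : act 1 n3921 = n8789 := rfl
theorem F13664 : act 1 n8789 = n3926 := d15_1 D8789 (iv7 F13654) F13653
def n8790 : Q := act 3 n3921
theorem D8790 : act 3 n3921 = n8790 := rfl
def n8791 : Q := act 5 n3921
theorem D8791 : act 5 n3921 = n8791 := rfl
def n8792 : Q := act 6 n3921
theorem D8792 : act 6 n3921 = n8792 := rfl
theorem F13665 : act 4 n8792 = n3923 := d10_1 D8792 (iv6 D3923) D3921
def n8793 : Q := act 7 n3921
theorem D8793 : act 7 n3921 = n8793 := rfl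
theorem F13666 : act 2 n8793 = n3926 := d4_1 D8793 (iv7 F13654) F13653
theorem F13667 : act 4 n8793 = n3924 := d11_1 D8793 (iv7 D3924) D3921
theorem F13668 : act 1 n3926 = n8788 := d15_0 (iv0 D8788) D8793 F13666
def n8794 : Q := act 0 n3922
theorem D8794 : act 0 n3922 = n8794 := rfl
theorem F13669 : act 5 n8794 = n8537 := d21_2 D3922 D8794 (iv6 D8537) (iv1 D3810) (iv6 D1663) (iv5 D887) (iv1 D564) D566 D897 D1693
def n8795 : Q := act 1 n3922
theorem D8795 : act 1 n3922 = n8795 := rfl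
theorem F13670 : act 1 n8795 = n3927 := d15_1 D8795 (iv7 F13656) F13655
def n8796 : Q := act 4 n3922
theorem D8796 : act 4 n3922 = n8796 := rfl
def n8797 : Q := act 6 n3922
theorem D8797 : act 6 n3922 = n8797 := rfl
theorem F13671 : act 5 n8797 = n6307 := d12_1 D8797 (iv6 D6307) (iv5 F5861) (iv6 D3923) D3922
theorem F13672 : act 0 n8797 = n8702 := d21_10 F13619 (iv1 D6218) F4205 (iv6 D2612) F2287 D1568 F2724 D1693 D3922 D8797
def n8798 : Q := act 7 n3922
theorem D8798 : act 7 n3922 = n8798 := rfl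
theorem F13673 : act 2 n8798 = n3927 := d4_1 D8798 (iv7 F13656) F13655
theorem F13674 : act 5 n8798 = n3924 := d13_1 D8798 (iv7 D3924) D3922
theorem F13675 : act 1 n3927 = n8794 := d15_0 (iv0 D8794) D8798 F13673
theorem F13676 : act 6 n6300 = n8798 := d3_0 F13673 (iv6 F5863) D6300
theorem F13677 : act 7 n8797 = n6307 := d14_4 F9812 F13676 (iv7 D8798) D8797 (iv6 D6307)
def n8799 : Q := act 0 n3923
theorem D8799 : act 0 n3923 = n8799 := rfl
def n8800 : Q := act 1 n3923
theorem D8800 : act 1 n3923 = n8800 := rfl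
theorem F13678 : act 1 n8800 = n6303 := d15_1 D8800 (iv7 F13659) F13657
def n8801 : Q := act 7 n3923
theorem D8801 : act 7 n3923 = n8801 := rfl
theorem F13679 : act 2 n8801 = n6303 := d4_1 D8801 (iv7 F13659) F13657
theorem F13681 : act 1 n6303 = n8799 := d15_0 (iv0 D8799) D8801 F13679
def n8802 : Q := act 6 n3924
theorem D8802 : act 6 n3924 = n8802 := rfl
theorem F13682 : act 2 n8802 = n3928 := d3_1 D8802 (iv6 D3928) (iv2 F5862)
def n8803 : Q := act 0 n3925
theorem D8803 : act 0 n3925 = n8803 := rfl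
def n8804 : Q := act 1 n3925
theorem D8804 : act 1 n3925 = n8804 := rfl
def n8805 : Q := act 2 n3925
theorem D8805 : act 2 n3925 = n8805 := rfl
def n8806 : Q := act 4 n3925
theorem D8806 : act 4 n3925 = n8806 := rfl
def n8807 : Q := act 5 n3925
theorem D8807 : act 5 n3925 = n8807 := rfl
theorem F13683 : act 3 n8807 = n3927 := d6_1 D8807 (iv5 D3927) D3925
theorem F13684 : act 6 n6301 = n8807 := d7_0 F13683 (iv6 F5863) D6301
def n8808 : Q := act 6 n3925
theorem D8808 : act 6 n3925 = n8808 := rfl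
theorem F13685 : act 3 n8808 = n3928 := d7_1 D8808 (iv6 D3928) D3925
def n8809 : Q := act 3 n3926
theorem D8809 : act 3 n3926 = n8809 := rfl
def n8810 : Q := act 5 n3926
theorem D8810 : act 5 n3926 = n8810 := rfl
def n8811 : Q := act 6 n3926
theorem D8811 : act 6 n3926 = n8811 := rfl
theorem F13686 : act 4 n8811 = n3928 := d10_1 D8811 (iv6 D3928) D3926
def n8812 : Q := act 4 n3927
theorem D8812 : act 4 n3927 = n8812 := rfl
theorem F13687 : act 6 n8812 = n6302 := d10_2 F5863 D8812 (iv4 D6302)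
def n8813 : Q := act 0 n3928
theorem D8813 : act 0 n3928 = n8813 := rfl
theorem F13688 : act 5 n8813 = n6217 := d21_0 (iv1 F9686) F5789 (iv6 F9693) (iv1 F9695) D8537 (iv5 F13669) (iv1 F13675) (iv5 D3927) D3928 D8813
theorem F13689 : act 0 n8813 = n8797 := d21_1 (iv5 F13688) F13671 (iv6 D6307) (iv1 D2642) (iv6 D1233) (iv5 D731) D728 D1222 D2612 D6217
def n8814 : Q := act 1 n3928
theorem D8814 : act 1 n3928 = n8814 := rfl
def n8815 : Q := act 5 n3928
theorem D8815 : act 5 n3928 = n8815 := rfl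
theorem F13690 : act 6 n8815 = n6303 := d12_2 D3928 D8815 (iv5 D6303) F5863 (iv5 D3927)
theorem F13691 : act 0 n8469 = n8815 := d21_1 D8469 (iv5 D8815) (iv6 D3928) (iv1 D1694) (iv6 D897) (iv5 D566) D563 D884 D1656 D3789
theorem F13692 : act 7 n3928 = n8815 := d14_0 F13690 (iv7 F13659) (iv6 D8780) (iv7 F5860) D3928
theorem F13693 : act 0 n8815 = n8474 := d21_10 (iv5 D8474) (iv1 D3790) F2839 (iv6 D1656) (iv1 F2200) D2560 F4075 D2641 D6303 (iv6 F13690)
theorem F13694 : act 1 n8802 = n8474 := d15_0 (iv0 F13693) (iv7 F13692) (iv2 F13682)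
theorem F13695 : act 2 n8815 = n8797 := d15_3 (iv0 F13689) (iv0 D8813) F13692
theorem E1818 : n8802 = n6307 := (c4_2 (iv7 F13692) (iv2 F13682) (iv7 F13677) (iv2 F13695))
theorem F13696 : act 1 n6307 = n8474 := (sb E1818 F13694)
theorem F13697 : act 2 n6307 = n3928 := (sb E1818 F13682)
theorem E1819 : n3924 = n2642 := ((((iv6 D6307)).symm.trans (sb E1818 (iv6 D8802)))).symm
theorem E1820 : n8776 = n1233 := ((((iv1 D2642)).symm.trans (sb E1819 (iv1 F13651)))).symm
theorem E1822 : n6304 = n1694 := (((iv2 F9813)).symm.trans (sb E1819 F5862))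
theorem E1823 : n8787 = n6305 := (((D6305).symm.trans (sb E1819 (iv3 F13663)))).symm
theorem E1824 : n8793 = n6306 := (((D6306).symm.trans (sb E1819 (iv4 F13667)))).symm
theorem E1825 : n8798 = n3923 := ((((iv5 F5861)).symm.trans (sb E1819 (iv5 F13674)))).symm
theorem E1826 : n6300 = n1693 := ((F9812).symm.trans (sb E1819 (iv7 D3924)))
theorem E1827 : n3919 = n2641 := (((D2641).symm.trans (sb E1820 (iv1 D8776)))).symm
theorem F13698 : act 2 n1694 = n2642 := (sb E1822 F9813)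
theorem E1828 : n8780 = n3927 := (((D3927).symm.trans (sb E1822 F13658))).symm
theorem F13699 : act 7 n6305 = n3920 := (sb E1823 (iv7 D8787))
theorem F13700 : act 2 n6306 = n3926 := (sb E1824 F13666)
theorem F13701 : act 7 n6306 = n3921 := (sb E1824 (iv7 D8793))
theorem E1829 : n8801 = n3922 := ((D8801).symm.trans (sb E1825 (iv7 D8798)))
theorem F13702 : act 7 n1693 = n2642 := (sb E1826 (iv7 F9812))
theorem F13703 : act 2 n2641 = n1693 := (sb E1827 (iv2 D3919))
theorem E1830 : n8777 = n6301 := (((D6301).symm.trans (sb E1827 D8777))).symm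
theorem E1831 : n8778 = n6302 := (((D6302).symm.trans (sb E1827 D8778))).symm
theorem E1832 : n8779 = n6303 := (((D6303).symm.trans (sb E1827 D8779))).symm
theorem F13704 : act 7 n2641 = n1694 := (sb E1827 (iv7 F5860))
theorem F13705 : act 2 n3927 = n3923 := (sb E1828 F13657)
theorem F13706 : act 7 n3922 = n3923 := (sb E1829 (iv7 D8801))
theorem F13707 : act 7 n6301 = n3925 := (sb E1830 F13652)
theorem F13708 : act 2 n6302 = n3921 := (sb E1831 F13653)
theorem F13709 : act 7 n6302 = n3926 := (sb E1831 F13654)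
theorem F13710 : act 2 n6303 = n3922 := (sb E1832 F13655)
theorem F13711 : act 7 n6303 = n3927 := (sb E1832 F13656)
theorem F13712 : act 2 n8792 = n8812 := d3_3 F13687 F13708 D8792
theorem F13713 : act 7 n8786 = n8785 := d8_2 F13706 (iv3 F13661) F13660
theorem F13714 : act 7 n8792 = n8796 := d11_2 F13706 (iv4 F13665) (iv4 D8796)
theorem E1833 : n8814 = n8702 := (c15_1 D8814 (iv0 F13672) F13677 F13697)
theorem F13715 : act 0 n8702 = n3928 := (sb E1833 (iv1 D8814))
theorem F13716 : act 1 n8469 = n6307 := d15_1 (iv0 F13691) (iv7 F13677) (iv2 F13695)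
def n8816 : Q := act 5 n3929
theorem D8816 : act 5 n3929 = n8816 := rfl
theorem F13717 : act 7 n8816 = n3932 := d13_2 (iv7 F5864) D8816 (iv5 D3932)
def n8817 : Q := act 2 n3930
theorem D8817 : act 2 n3930 = n8817 := rfl
theorem F13718 : act 7 n3931 = n8817 := d15_2 (iv0 D3930) D3931 (iv2 D8817)
def n8818 : Q := act 3 n3930
theorem D8818 : act 3 n3930 = n8818 := rfl
def n8819 : Q := act 4 n3930
theorem D8819 : act 4 n3930 = n8819 := rfl
def n8820 : Q := act 5 n3930
theorem D8820 : act 5 n3930 = n8820 := rfl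
def n8821 : Q := act 6 n3930
theorem D8821 : act 6 n3930 = n8821 := rfl
def n8822 : Q := act 7 n3930
theorem D8822 : act 7 n3930 = n8822 := rfl
theorem F13719 : act 2 n8822 = n3931 := d4_1 D8822 F13718 (iv2 D8817)
def n8823 : Q := act 3 n3931
theorem D8823 : act 3 n3931 = n8823 := rfl
def n8824 : Q := act 4 n3931
theorem D8824 : act 4 n3931 = n8824 := rfl
def n8825 : Q := act 5 n3931
theorem D8825 : act 5 n3931 = n8825 := rfl
def n8826 : Q := act 6 n3931
theorem D8826 : act 6 n3931 = n8826 := rfl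
def n8827 : Q := act 0 n3932
theorem D8827 : act 0 n3932 = n8827 := rfl
def n8828 : Q := act 1 n3932
theorem D8828 : act 1 n3932 = n8828 := rfl
def n8829 : Q := act 4 n3932
theorem D8829 : act 4 n3932 = n8829 := rfl
theorem F13720 : act 6 n8829 = n3938 := d10_2 (iv6 F5865) D8829 (iv4 D3938)
def n8830 : Q := act 1 n3933
theorem D8830 : act 1 n3933 = n8830 := rfl
def n8831 : Q := act 2 n3933
theorem D8831 : act 2 n3933 = n8831 := rfl
theorem F13721 : act 3 n8831 = n7791 := d0_2 D3933 D8831 F12256 F5562 F2885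
theorem F13722 : act 4 n8831 = n4015 := d1_2 (iv4 F5866) D8831 F5948
theorem F13723 : act 6 n8831 = n3951 := d3_2 (iv6 F5867) D8831 (iv2 D3951)
def n8832 : Q := act 5 n3933
theorem D8832 : act 5 n3933 = n8832 := rfl
theorem F13724 : act 3 n8832 = n3934 := d6_1 D8832 (iv5 D3934) D3933
def n8833 : Q := act 4 n3934
theorem D8833 : act 4 n3934 = n8833 := rfl
theorem F13725 : act 2 n8833 = n7795 := d1_1 D8833 (iv4 D7795) (iv2 F5868)
theorem F13726 : act 0 n8833 = n8121 := d18_2 F6237 D8833 (iv4 D8121) (iv5 D3657) F2961 F2960 (iv4 F5557) F5560 D4333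
theorem F13727 : act 1 n8833 = n8115 := d18_6 (iv1 F4164) (iv4 F2896) F2898 (iv4 F2870) D3934 D8833 (iv4 D8115) F9592 F9591
def n8834 : Q := act 0 n3935
theorem D8834 : act 0 n3935 = n8834 := rfl
theorem F13728 : act 1 n7791 = n8834 := d15_0 (iv0 D8834) F5870 (iv2 F12256)
def n8835 : Q := act 2 n3935
theorem D8835 : act 2 n3935 = n8835 := rfl
theorem F13730 : act 7 n8835 = n7791 := d4_2 (iv7 F5870) D8835 F12256
theorem F13731 : act 1 n8835 = n7792 := d15_0 (iv0 D7792) (iv7 F5870) D8835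
theorem F13732 : act 1 n7790 = n7791 := d15_1 (iv0 F13348) (iv7 F13730) (iv2 D8835)
theorem F13733 : act 1 n7793 = n8835 := d15_1 D7793 F13730 F12256
def n8836 : Q := act 5 n3935
theorem D8836 : act 5 n3935 = n8836 := rfl
theorem F13734 : act 3 n8836 = n3936 := d6_1 D8836 (iv5 D3936) D3935
theorem F13735 : act 7 n8836 = n7794 := d13_2 (iv7 F5870) D8836 (iv5 D7794)
def n8837 : Q := act 4 n3936
theorem D8837 : act 4 n3936 = n8837 := rfl
theorem F13736 : act 7 n8837 = n7795 := d11_2 (iv7 F5871) D8837 (iv4 D7795)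
theorem F13737 : act 5 n8837 = n7782 := d16_1 D8837 (iv4 D7782) (iv5 D3530) F2714 F1727 (iv4 F2870) D3934 (iv7 F9824) F9823
theorem F13738 : act 0 n8837 = n8115 := d18_2 F9517 D8837 (iv4 D8115) (iv5 D3655) F2995 (iv0 D1707) (iv4 F2914) (iv0 F4123) D6120
theorem F13739 : act 1 n8837 = n8121 := d18_6 D1627 (iv4 F2900) (iv1 F5368) F5364 D3936 D8837 (iv4 D8121) F5679 (iv5 D1629)
def n8838 : Q := act 6 n3936
theorem D8838 : act 6 n3936 = n8838 := rfl
def n8839 : Q := act 3 n3937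
theorem D8839 : act 3 n3937 = n8839 := rfl
theorem F13740 : act 5 n8839 = n8130 := d6_2 (iv5 F5873) D8839 (iv3 D8130)
def n8840 : Q := act 4 n3937
theorem D8840 : act 4 n3937 = n8840 := rfl
theorem F13741 : act 5 n8840 = n8833 := d9_2 (iv5 F5873) D8840 (iv4 D8833) (iv5 D3934) F2870 (iv5 F1727) (iv4 F2714) D3530 D7782 (iv5 F13737) (iv4 D8837) (iv5 D3936) (iv4 F5364) F5365 (iv4 F5682)
theorem F13742 : act 0 n8840 = n8265 := d18_2 (iv1 F5872) D8840 (iv4 D8265) (iv5 D3717) (iv4 F2896) F5367 F5364 F2886 D3615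
theorem F13743 : act 1 n8840 = n8259 := d18_6 D2574 F4104 (iv1 F2959) (iv4 F5682) (iv5 F5873) D8840 (iv4 D8259) F5719 (iv5 D2576)
def n8841 : Q := act 6 n3937
theorem D8841 : act 6 n3937 = n8841 := rfl
theorem F13744 : act 5 n8841 = n8838 := d12_1 D8841 (iv6 D8838) (iv5 D3936) F5686 (iv5 F5873)
def n8842 : Q := act 1 n3938
theorem D8842 : act 1 n3938 = n8842 := rfl
theorem F13745 : act 1 n8842 = n7987 := d15_1 D8842 F12763 F9831
theorem F13746 : act 7 n8842 = n6117 := d15_2 (iv0 F5874) D8842 F9507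
theorem F13747 : act 4 n8842 = n6118 := d18_7 F2910 F2808 (iv1 F1635) (iv4 F1663) D1699 D3938 D8842 F9511 (iv5 D3622)
theorem F13748 : act 5 n8842 = n6165 := d17_3 (iv1 D8842) (iv5 F12764) (iv1 F13745) (iv4 D6165) (iv5 D2594) (iv0 F2939) (iv5 F5680) F9510 (iv4 F13747)
theorem F13749 : act 2 n8128 = n8842 := d2_3 F13748 F9589 (iv5 F12895)
def n8843 : Q := act 3 n3938
theorem D8843 : act 3 n3938 = n8843 := rfl
def n8844 : Q := act 6 n3940
theorem D8844 : act 6 n3940 = n8844 := rfl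
theorem F13750 : act 2 n8844 = n8270 := d3_1 D8844 (iv6 D8270) (iv2 F6449)
theorem F13751 : act 4 n8844 = n8553 := d10_1 D8844 (iv6 D8553) F6434
def n8845 : Q := act 5 n3941
theorem D8845 : act 5 n3941 = n8845 := rfl
theorem F13753 : act 2 n8845 = n3942 := d2_1 D8845 (iv5 D3942) D3941
theorem F13754 : act 3 n8845 = n3961 := d6_1 D8845 (iv5 D3961) (iv3 F5877)
theorem F13755 : act 7 n8845 = n8090 := d13_2 (iv7 F5879) D8845 F12872
theorem F13756 : act 0 n8845 = n7992 := d17_2 (iv1 F5880) D8845 (iv5 D7992) (iv4 F5653) F7230 (iv0 F13534) (iv5 D8546) (iv0 F13053) (iv4 D8268)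
theorem E1834 : n8089 = n7992 := (c15_1 D8089 (iv0 F13756) F13755 (iv2 D8090))
theorem F13757 : act 0 n7992 = n3648 := (sb E1834 (iv1 D8089))
theorem F13758 : act 1 n8845 = n8088 := d15_0 (iv0 D8088) (iv7 F5884) (iv2 F13753)
def n8846 : Q := act 0 n3942
theorem D8846 : act 0 n3942 = n8846 := rfl
theorem F13759 : act 1 n8090 = n8846 := d15_0 (iv0 D8846) F5884 D8090
def n8847 : Q := act 1 n3942
theorem D8847 : act 1 n3942 = n8847 := rfl
theorem F13760 : act 1 n8847 = n8090 := d15_1 D8847 (iv7 F13755) F13753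
theorem F13761 : act 5 n8847 = n6089 := d21_2 (iv5 F12872) (iv1 F13760) (iv6 F13588) (iv1 D8001) (iv6 D3620) D3619 D7996 (iv5 F13310) F7211 (iv1 F5875)
theorem F13762 : act 2 n7989 = n8847 := d2_3 F13761 F12342 D7989
theorem F13763 : act 7 n7992 = n8847 := d13_0 F13761 (iv7 F12341) D7992
theorem F13764 : act 5 n6088 = n8846 := d21_0 (iv1 F13759) F12872 (iv6 F13039) (iv1 F13043) F13588 (iv5 F13761) (iv1 D8847) (iv5 D3942) (iv6 F4090) D6088
theorem F13765 : act 2 n8846 = n7992 := d2_1 F13764 (iv5 D7992) F12343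
theorem F13766 : act 7 n8846 = n7989 := d13_2 (iv7 F12345) F13764 (iv5 D7989)
theorem E1835 : n8088 = n7989 := (c15_2 (iv0 F13756) F13758 (iv7 F13766) F13765)
theorem F13767 : act 0 n7989 = n8845 := (sb E1835 (iv1 F13758))
theorem F13768 : act 1 n7989 = n3648 := (sb E1835 (iv0 D8088))
theorem E1836 : n8261 = n7990 := ((c21_4 (iv5 F5672) (iv1 F13768) (iv5 D7989) D7990 (iv1 F13037) (iv6 D7995) D7994 (iv1 F13309) (iv5 D8271) F7210 (iv1 D3721))).symm
theorem F13769 : act 0 n7990 = n7995 := (sb E1836 (iv1 F13037))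
theorem F13770 : act 1 n7990 = n3716 := (sb E1836 (iv0 D8261))
theorem F13771 : act 7 n8262 = n8001 := d15_2 F13770 D8262 (iv2 F13589)
theorem F13772 : act 2 n8000 = n8262 := d4_3 F13771 (iv2 F13589) (iv7 F13590)
def n8848 : Q := act 4 n3942
theorem D8848 : act 4 n3942 = n8848 := rfl
theorem F13773 : act 7 n8848 = n8091 := d11_2 (iv7 F5884) D8848 (iv4 D8091)
def n8849 : Q := act 6 n3942
theorem D8849 : act 6 n3942 = n8849 := rfl
theorem F13774 : act 3 n8849 = n3943 := d7_1 D8849 (iv6 D3943) (iv3 F5883)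
theorem F13775 : act 5 n8849 = n8322 := d12_1 D8849 (iv6 D8322) F5739 F4090 D3942
def n8850 : Q := act 0 n3943
theorem D8850 : act 0 n3943 = n8850 := rfl
def n8851 : Q := act 1 n3943
theorem D8851 : act 1 n3943 = n8851 := rfl
theorem F13776 : act 1 n8851 = n3972 := d15_1 D8851 (iv7 D3972) (iv2 F5885)
def n8852 : Q := act 7 n3943
theorem D8852 : act 7 n3943 = n8852 := rfl
theorem F13777 : act 2 n8852 = n3972 := d4_1 D8852 (iv7 D3972) (iv2 F5885)
theorem F13778 : act 5 n8852 = n8325 := d13_1 D8852 (iv7 D8325) (iv5 F5886)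
theorem F13779 : act 6 n8852 = n8096 := d14_1 D8852 (iv7 D8096) (iv6 D3649) (iv7 F2891) D3943
theorem F13780 : act 1 n3972 = n8850 := d15_0 (iv0 D8850) D8852 F13777
theorem F13781 : act 1 n3971 = n8852 := d15_1 D3971 (iv7 D8852) F5885
theorem F13782 : act 1 n8852 = n3970 := d15_0 (iv0 D3970) D3972 (iv2 F13777)
def n8853 : Q := act 6 n3944
theorem D8853 : act 6 n3944 = n8853 := rfl
theorem F13783 : act 2 n8853 = n7790 := d3_1 D8853 (iv6 D7790) (iv2 F12830)
theorem F13784 : act 7 n8834 = n8853 := d15_2 F13732 F13728 F13783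
def n8854 : Q := act 3 n3945
theorem D8854 : act 3 n3945 = n8854 := rfl
theorem F13785 : act 2 n8854 = n7804 := d0_1 D8854 (iv3 F12337) F12817 (iv3 F5666) (iv2 F12833)
theorem F13786 : act 4 n8854 = n7804 := d5_2 F9562 D8854 (iv3 F12337) (iv4 D6143) D6142
theorem F13787 : act 5 n8854 = n8503 := d6_2 (iv5 F13460) D8854 (iv3 D8503)
theorem F13788 : act 7 n8854 = n7788 := d8_2 (iv7 F12834) D8854 (iv3 D7788)
theorem F13789 : act 1 n7805 = n8854 := d15_1 F12839 F13788 (iv2 F12810)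
theorem F13790 : act 1 n8854 = n7807 := d15_1 F13789 (iv7 D7807) D7805
def n8855 : Q := act 6 n3945
theorem D8855 : act 6 n3945 = n8855 := rfl
theorem F13791 : act 2 n8855 = n7786 := d3_1 D8855 (iv6 D7786) (iv2 F12833)
def n8856 : Q := act 6 n3946
theorem D8856 : act 6 n3946 = n8856 := rfl
theorem F13792 : act 2 n8856 = n3947 := d3_1 D8856 (iv6 D3947) D3946
theorem F13793 : act 3 n8856 = n7777 := d7_1 D8856 (iv6 D7777) (iv3 F5888)
theorem F13794 : act 4 n8856 = n8856 := d10_1 D8856 (iv6 D8856) F5889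
def n8857 : Q := act 0 n3947
theorem D8857 : act 0 n3947 = n8857 := rfl
def n8858 : Q := act 1 n3947
theorem D8858 : act 1 n3947 = n8858 := rfl
def n8859 : Q := act 5 n3947
theorem D8859 : act 5 n3947 = n8859 := rfl
theorem F13795 : act 3 n8859 = n3948 := d6_1 D8859 (iv5 D3948) (iv3 F5894)
theorem F13796 : act 7 n8859 = n8839 := d13_2 F12900 D8859 F13740
theorem F13797 : act 0 n8492 = n8859 := d21_7 F13465 (iv1 F9676) (iv5 D6212) F4197 (iv1 F4201) D3799 D8492 (iv5 D8859) (iv6 D3947) D3944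
theorem F13798 : act 4 n8491 = n8491 := d17_9 (iv1 D8491) D8492 F13797 (iv5 D8859) F5895 D8859 (iv0 F13797) (iv5 D8492) D8491
def n8860 : Q := act 4 n3948
theorem D8860 : act 4 n3948 = n8860 := rfl
theorem F13799 : act 2 n8860 = n7782 := d1_1 D8860 (iv4 D7782) (iv2 F5896)
theorem F13800 : act 7 n8860 = n8840 := d11_2 (iv7 F5897) D8860 (iv4 D8840)
theorem F13801 : act 0 n8860 = n8007 := d18_2 (iv1 F5899) D8860 (iv4 D8007) (iv5 D3622) (iv4 F2906) (iv0 F2909) (iv4 F2716) (iv0 F2717) D2646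
theorem F13802 : act 1 n8860 = n8124 := d18_6 (iv1 F4118) F2961 (iv1 D1708) (iv4 F2914) D3948 D8860 (iv4 D8124) F9510 F9509
def n8861 : Q := act 6 n3949
theorem D8861 : act 6 n3949 = n8861 := rfl
def n8862 : Q := act 3 n3950
theorem D8862 : act 3 n3950 = n8862 := rfl
theorem F13804 : act 4 n8862 = n4236 := d5_2 F5901 D8862 (iv3 D4236) (iv4 D1803) D1802
theorem F13805 : act 5 n8862 = n8456 := d6_2 (iv5 F6932) D8862 (iv3 D8456)
theorem F13806 : act 7 n8862 = n7775 := d8_2 (iv7 F12131) D8862 (iv3 D7775)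
theorem F13807 : act 0 n8862 = n4209 := d20_4 F12772 (iv1 D4230) F5901 D8862 (iv3 F12352) (iv4 D7814) F12102 (iv4 D3692) D3691 F12773
theorem F13808 : act 0 n4214 = n8862 := d20_4 (iv4 F12844) F12355 (iv4 D6050) (iv3 F6113) (iv3 D8862) (iv4 F5901) (iv1 F12245) F12959 (iv3 F12960) (iv1 F12846)
theorem F13809 : act 0 n8456 = n4036 := d17_2 F13808 F13805 (iv5 D4036) (iv4 D1748) D1749 (iv0 F7180) F3042 D1796 D4214
theorem F13810 : act 1 n8456 = n4055 := d15_1 (iv0 F13809) (iv7 F9722) F9720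
def n8863 : Q := act 6 n3950
theorem D8863 : act 6 n3950 = n8863 := rfl
theorem F13811 : act 2 n8863 = n7774 := d3_1 D8863 (iv6 D7774) (iv2 F12130)
theorem F13812 : act 4 n8863 = n4233 := d10_1 D8863 (iv6 D4233) F5901
theorem F13814 : act 0 n8863 = n5067 := d20_7 F1213 F608 (iv4 F1160) (iv3 F1820) F7074 (iv3 F6143) (iv4 F13812) (iv4 D5067) (iv3 D2074) (iv1 D1029)
theorem F13815 : act 7 n8830 = n8863 := d15_2 (iv0 F12241) D8830 F13811
def n8864 : Q := act 5 n3952
theorem D8864 : act 5 n3952 = n8864 := rfl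
theorem F13816 : act 2 n8864 = n3966 := d2_1 D8864 F5918 F5910
theorem F13817 : act 3 n8864 = n8090 := d6_1 D8864 F12872 (iv3 F5908)
theorem F13818 : act 7 n8864 = n3961 := d13_2 (iv7 F5911) D8864 (iv5 D3961)
theorem F13819 : act 1 n8864 = n3962 := d17_6 D1723 (iv5 F7008) (iv1 F3353) F3351 (iv4 F5909) D8864 F7337 (iv0 D3623) F2774
theorem F13820 : act 0 n8864 = n3963 := d21_1 D8864 (iv5 F7027) D8010 F12783 F5715 (iv5 F5742) (iv1 F7184) (iv5 D3955) F7149 D3952
def n8865 : Q := act 6 n3952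
theorem D8865 : act 6 n3952 = n8865 := rfl
theorem F13821 : act 2 n8865 = n3967 := d3_1 D8865 (iv6 D3967) F5910
theorem F13822 : act 3 n8865 = n8263 := d7_1 D8865 F13039 (iv3 F5908)
theorem F13823 : act 4 n8865 = n4020 := d10_1 D8865 (iv6 D4020) (iv4 F5909)
theorem F13824 : act 7 n8865 = n8257 := d14_2 (iv7 F5911) D8865 F13029 F6115 F5660
theorem F13825 : act 0 n8865 = n8010 := d21_4 (iv5 F7337) (iv1 F13819) (iv5 D8864) D8865 (iv6 D8010) F7027 (iv1 D3963) (iv5 D1717) (iv6 F2775) D3623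
theorem F13826 : act 0 n8256 = n8865 := d20_4 F12264 (iv1 F6022) D4941 (iv3 F13026) F13822 F13038 (iv1 F13043) (iv4 F13587) (iv3 D8679) F12266
def n8866 : Q := act 4 n3955
theorem D8866 : act 4 n3955 = n8866 := rfl
def n8867 : Q := act 6 n3955
theorem D8867 : act 6 n3955 = n8867 := rfl
theorem F13827 : act 5 n8867 = n8867 := d12_1 D8867 (iv6 D8867) (iv5 D3955) F7149 D3955
def n8868 : Q := act 5 n3958
theorem D8868 : act 5 n3958 = n8868 := rfl
theorem F13828 : act 3 n8868 = n3959 := d6_1 D8868 (iv5 D3959) D3958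
def n8869 : Q := act 6 n3958
theorem D8869 : act 6 n3958 = n8869 := rfl
theorem F13829 : act 3 n8869 = n3960 := d7_1 D8869 (iv6 D3960) D3958
theorem F13830 : act 7 n8869 = n8869 := d14_2 F6851 D8869 (iv6 D8869) (iv7 F6851) F7155
def n8870 : Q := act 4 n3959
theorem D8870 : act 4 n3959 = n8870 := rfl
def n8871 : Q := act 6 n3959
theorem D8871 : act 6 n3959 = n8871 := rfl
def n8872 : Q := act 0 n3960
theorem D8872 : act 0 n3960 = n8872 := rfl
theorem F13831 : act 1 n4822 = n8872 := d15_0 (iv0 D8872) F7151 (iv2 F6967)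
def n8873 : Q := act 1 n3960
theorem D8873 : act 1 n3960 = n8873 := rfl
theorem F13832 : act 1 n8873 = n4822 := d15_1 D8873 F7150 F6967
def n8874 : Q := act 5 n3960
theorem D8874 : act 5 n3960 = n8874 := rfl
theorem F13833 : act 7 n8874 = n8874 := d13_2 F7151 D8874 (iv5 D8874)
def n8875 : Q := act 0 n3961
theorem D8875 : act 0 n3961 = n8875 := rfl
theorem F13834 : act 5 n8875 = n4114 := d17_3 (iv1 F3303) D3961 D8875 (iv4 D4114) F7102 (iv0 F7048) (iv5 D4738) F6717 F6715
theorem F13835 : act 1 n3966 = n8875 := d15_0 (iv0 D8875) (iv7 F13818) F13816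
theorem F13836 : act 2 n3962 = n8875 := d2_3 F13834 F6282 (iv5 F7337)
theorem F13837 : act 7 n3963 = n8875 := d13_0 F13834 (iv7 F6283) F7027
def n8876 : Q := act 1 n3961
theorem D8876 : act 1 n3961 = n8876 := rfl
theorem F13838 : act 1 n8876 = n3966 := d15_1 D8876 (iv7 D3966) (iv2 F5915)
theorem F13839 : act 7 n8876 = n3962 := d15_2 (iv0 D8875) D8876 F13836
theorem F13840 : act 5 n8876 = n4139 := d17_7 D1795 (iv5 F7323) (iv1 F3349) (iv5 D1758) (iv4 F2927) D3961 D8876 (iv0 F6055) (iv4 D1798)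
theorem F13841 : act 2 n3963 = n8876 := d2_3 F13840 (iv2 F6285) F7027
theorem F13842 : act 3 n4140 = n8876 := d6_3 F13840 (iv3 D4139) D4140
def n8877 : Q := act 4 n3961
theorem D8877 : act 4 n3961 = n8877 := rfl
theorem F13843 : act 2 n8877 = n3964 := d1_1 D8877 (iv4 D3964) (iv2 F5915)
def n8878 : Q := act 6 n3961
theorem D8878 : act 6 n3961 = n8878 := rfl
theorem F13844 : act 2 n8878 = n3965 := d3_1 D8878 (iv6 D3965) (iv2 F5915)
def n8879 : Q := act 3 n3962
theorem D8879 : act 3 n3962 = n8879 := rfl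
theorem F13845 : act 5 n8879 = n4108 := d6_2 (iv5 F7337) D8879 F6287
theorem F13846 : act 7 n8879 = n4140 := d8_2 F13839 D8879 F13842
theorem F13847 : act 4 n8879 = n8609 := d20_6 (iv4 F3961) F3962 (iv4 D1719) (iv3 F2928) D3962 D8879 (iv1 F13520) F5848 F2863 (iv1 F2303)
theorem E1837 : n8642 = n8609 := ((c11_2 (iv7 F13846) F13847 (iv7 F13548) (iv4 F7224))).symm
theorem F13848 : act 2 n8609 = n3880 := (sb E1837 (iv2 D8642))
theorem F13849 : act 7 n8609 = n3881 := (sb E1837 (iv7 F13548))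
theorem F13850 : act 2 n8879 = n4121 := d1_1 (iv4 F13847) F7228 (iv2 F13848)
theorem E1838 : n8646 = n8610 := (c15_4 F13521 F13520 F13849 (iv2 F13551))
theorem F13851 : act 2 n8610 = n3881 := (sb E1838 F13551)
theorem F13852 : act 7 n8610 = n3880 := (sb E1838 (iv7 D8646))
theorem F13853 : act 1 n8218 = n8879 := d17_6 F6152 (iv5 F7317) (iv1 F13382) (iv5 D8554) F5820 (iv5 F13338) F13845 F6286 (iv4 D4252)
def n8880 : Q := act 4 n3962
theorem D8880 : act 4 n3962 = n8880 := rfl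
def n8881 : Q := act 6 n3962
theorem D8881 : act 6 n3962 = n8881 := rfl
def n8882 : Q := act 3 n3963
theorem D8882 : act 3 n3963 = n8882 := rfl
theorem F13854 : act 5 n8882 = n8009 := d6_2 F7027 D8882 (iv3 D8009)
def n8883 : Q := act 4 n3963
theorem D8883 : act 4 n3963 = n8883 := rfl
def n8884 : Q := act 6 n3963
theorem D8884 : act 6 n3963 = n8884 := rfl
def n8885 : Q := act 0 n3964
theorem D8885 : act 0 n3964 = n8885 := rfl
def n8886 : Q := act 1 n3964
theorem D8886 : act 1 n3964 = n8886 := rfl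
def n8887 : Q := act 3 n3964
theorem D8887 : act 3 n3964 = n8887 := rfl
theorem F13855 : act 4 n8887 = n3968 := d5_2 D3964 D8887 (iv3 D3968) (iv4 D1719) (iv3 F2928)
def n8888 : Q := act 5 n3964
theorem D8888 : act 5 n3964 = n8888 := rfl
def n8889 : Q := act 6 n3964
theorem D8889 : act 6 n3964 = n8889 := rfl
theorem F13856 : act 4 n8889 = n3965 := d10_1 D8889 (iv6 D3965) D3964
def n8890 : Q := act 7 n3964
theorem D8890 : act 7 n3964 = n8890 := rfl
theorem F13857 : act 4 n8890 = n3966 := d11_1 D8890 (iv7 D3966) D3964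
def n8891 : Q := act 0 n3965
theorem D8891 : act 0 n3965 = n8891 := rfl
def n8892 : Q := act 1 n3965
theorem D8892 : act 1 n3965 = n8892 := rfl
def n8893 : Q := act 7 n3965
theorem D8893 : act 7 n3965 = n8893 := rfl
theorem F13858 : act 3 n8893 = n3972 := d8_1 D8893 (iv7 D3972) (iv3 F5916)
def n8894 : Q := act 6 n3966
theorem D8894 : act 6 n3966 = n8894 := rfl
theorem F13859 : act 3 n8894 = n3973 := d7_1 D8894 (iv6 D3973) (iv3 F5917)
def n8895 : Q := act 0 n3967
theorem D8895 : act 0 n3967 = n8895 := rfl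
theorem F13860 : act 3 n8895 = n4141 := d20_5 (iv4 F4246) (iv1 F2919) (iv4 F2937) (iv3 F5919) D8895 F6057 (iv1 F7112) (iv4 F5579) F5578 (iv1 F4244)
theorem F13861 : act 6 n8895 = n4139 := d21_5 (iv5 F13834) (iv1 F13835) F5918 D3967 D8895 (iv5 F13840) (iv1 D8876) (iv5 D3961) (iv6 F5660) F6033
theorem F13862 : act 1 n8257 = n8895 := d15_0 (iv0 D8895) F5921 D8257
theorem F13863 : act 2 n8010 = n8895 := d3_3 F13861 (iv2 F6285) D8010
theorem F13864 : act 7 n8256 = n8895 := d15_2 (iv0 F13825) (iv0 F13826) (iv2 F13863)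
def n8896 : Q := act 1 n3967
theorem D8896 : act 1 n3967 = n8896 := rfl
theorem F13865 : act 1 n8896 = n8257 := d15_1 D8896 (iv7 F13824) F13821
theorem F13866 : act 7 n8896 = n8010 := d15_2 (iv0 D8895) D8896 F13863
theorem F13867 : act 2 n8256 = n8896 := d4_3 F13866 F13863 (iv7 F13864)
def n8897 : Q := act 0 n3968
theorem D8897 : act 0 n3968 = n8897 := rfl
def n8898 : Q := act 1 n3968
theorem D8898 : act 1 n3968 = n8898 := rfl
def n8899 : Q := act 2 n3968
theorem D8899 : act 2 n3968 = n8899 := rfl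
theorem F13868 : act 5 n8899 = n7867 := d2_2 (iv5 F5922) D8899 (iv2 D7867)
def n8900 : Q := act 6 n3968
theorem D8900 : act 6 n3968 = n8900 := rfl
theorem F13869 : act 3 n8900 = n3969 := d7_1 D8900 (iv6 D3969) D3968
def n8902 : Q := act 1 n3969
theorem D8902 : act 1 n3969 = n8902 := rfl
def n8903 : Q := act 5 n3969
theorem D8903 : act 5 n3969 = n8903 := rfl
theorem F13870 : act 6 n8903 = n7869 := d12_2 D3969 D8903 (iv5 D7869) (iv6 D3567) (iv5 F2931)
def n8904 : Q := act 7 n3969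
theorem D8904 : act 7 n3969 = n8904 := rfl
theorem F13871 : act 4 n8904 = n3972 := d11_1 D8904 (iv7 D3972) (iv4 F5923)
def n8905 : Q := act 2 n3970
theorem D8905 : act 2 n3970 = n8905 := rfl
theorem F13872 : act 7 n3971 = n8905 := d15_2 (iv0 D3970) D3971 (iv2 D8905)
def n8906 : Q := act 3 n3970
theorem D8906 : act 3 n3970 = n8906 := rfl
def n8907 : Q := act 4 n3970
theorem D8907 : act 4 n3970 = n8907 := rfl
def n8908 : Q := act 5 n3970
theorem D8908 : act 5 n3970 = n8908 := rfl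
def n8909 : Q := act 6 n3970
theorem D8909 : act 6 n3970 = n8909 := rfl
theorem F13873 : act 5 n8909 = n8851 := d21_6 (iv5 D879) F1070 D912 D1720 D3970 D8909 (iv1 D8851) F5886 (iv6 D3739) (iv1 F2813)
def n8910 : Q := act 7 n3970
theorem D8910 : act 7 n3970 = n8910 := rfl
theorem F13874 : act 2 n8910 = n3971 := d4_1 D8910 F13872 (iv2 D8905)
def n8911 : Q := act 3 n3971
theorem D8911 : act 3 n3971 = n8911 := rfl
def n8912 : Q := act 4 n3971
theorem D8912 : act 4 n3971 = n8912 := rfl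
def n8913 : Q := act 5 n3971
theorem D8913 : act 5 n3971 = n8913 := rfl
theorem F13875 : act 6 n8850 = n8913 := d21_5 (iv5 D1219) (iv1 F1677) D1701 D3943 D8850 (iv5 D8913) (iv1 D3971) (iv5 F5662) (iv6 D3627) F2776
def n8914 : Q := act 6 n3971
theorem D8914 : act 6 n3971 = n8914 := rfl
def n8915 : Q := act 6 n3972
theorem D8915 : act 6 n3972 = n8915 := rfl
theorem F13876 : act 2 n8915 = n8096 := d3_1 D8915 (iv6 F13779) F13777
theorem F13877 : act 7 n8915 = n3973 := d14_2 D3972 D8915 (iv6 D3973) (iv7 D1721) D1720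
theorem F13879 : act 1 n8915 = n8093 := d15_0 (iv0 D8093) D8096 (iv2 F13876)
def n8916 : Q := act 0 n3973
theorem D8916 : act 0 n3973 = n8916 := rfl
theorem F13880 : act 1 n8096 = n8916 := d15_0 (iv0 D8916) (iv7 F13877) F13876
def n8917 : Q := act 1 n3973
theorem D8917 : act 1 n3973 = n8917 := rfl
theorem F13881 : act 1 n8917 = n8096 := d15_1 D8917 (iv7 D8096) (iv2 F5924)
def n8918 : Q := act 6 n3975
theorem D8918 : act 6 n3975 = n8918 := rfl
theorem F13882 : act 2 n8918 = n7808 := d3_1 D8918 (iv6 D7808) (iv2 F12284)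
theorem F13883 : act 3 n8918 = n3978 := d7_1 D8918 (iv6 D3978) D3975
theorem F13884 : act 4 n8918 = n7802 := d10_1 D8918 (iv6 D7802) F12286
def n8919 : Q := act 0 n3976
theorem D8919 : act 0 n3976 = n8919 := rfl
theorem F13885 : act 4 n8919 = n4011 := d20_2 D3976 D8919 (iv3 D4011) (iv1 D1740) (iv3 D924) (iv4 D609) F526 D595 D915 D1723
theorem F13886 : act 2 n8862 = n8919 := d15_3 (iv0 D8919) (iv0 F12246) (iv7 F13806)
theorem F13887 : act 1 n3981 = n8919 := d15_0 (iv0 D8919) (iv7 F12322) (iv2 F12326)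
theorem F13888 : act 7 n8919 = n8187 := d15_2 (iv0 F12243) F13887 F12969
theorem F13889 : act 3 n6092 = n8919 := d20_3 (iv4 F2225) D2568 D6092 (iv1 F13887) (iv3 F5928) D7967 (iv1 F12846) (iv4 F12844) (iv3 D3634) (iv1 D1597)
def n8920 : Q := act 3 n3976
theorem D8920 : act 3 n3976 = n8920 := rfl
theorem F13890 : act 2 n8920 = n7970 := d0_1 D8920 (iv3 D7970) F12329 (iv3 F6113) F12323
theorem F13891 : act 4 n8920 = n7800 := d5_2 D3976 D8920 (iv3 D7800) F12286 (iv3 D3975)
theorem F13892 : act 7 n8920 = n7814 := d8_2 F12322 D8920 F12352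
theorem F13893 : act 0 n8920 = n6148 := d20_10 (iv4 D6148) (iv1 D2589) F2258 (iv3 D871) (iv1 F1628) D1594 F2774 D1723 D3976 D8920
theorem F13894 : act 0 n6143 = n8920 := d20_4 F12340 (iv1 F13790) F13786 (iv3 F12337) (iv3 D8920) (iv4 D3976) (iv1 F3058) D4217 (iv3 F6118) (iv1 F9467)
def n8921 : Q := act 5 n3976
theorem D8921 : act 5 n3976 = n8921 := rfl
theorem F13895 : act 1 n8921 = n8443 := d17_6 (iv1 D929) D931 D1759 F7008 D3976 D8921 (iv5 D8443) F6472 (iv4 D1753)
theorem F13896 : act 4 n8921 = n8885 := d18_5 (iv1 D3624) F2774 D1723 D3976 D8921 (iv0 D8885) (iv4 D3964) D3963 (iv5 F7027)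
def n8922 : Q := act 6 n3976
theorem D8922 : act 6 n3976 = n8922 := rfl
theorem F13897 : act 4 n8922 = n3978 := d10_1 D8922 (iv6 D3978) D3976
def n8923 : Q := act 0 n3978
theorem D8923 : act 0 n3978 = n8923 := rfl
def n8924 : Q := act 1 n3978
theorem D8924 : act 1 n3978 = n8924 := rfl
def n8925 : Q := act 5 n3978
theorem D8925 : act 5 n3978 = n8925 := rfl
theorem F13898 : act 0 n4092 = n8925 := d21_7 (iv5 F6084) (iv1 F6088) F7015 F7177 (iv1 F6411) D1763 D4092 (iv5 D8925) (iv6 D3978) (iv1 F3058)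
def n8926 : Q := act 7 n3978
theorem D8926 : act 7 n3978 = n8926 := rfl
theorem F13899 : act 6 n8926 = n4219 := d14_1 D8926 F12334 F7325 (iv7 F12280) D3978
def n8927 : Q := act 6 n3980
theorem D8927 : act 6 n3980 = n8927 := rfl
theorem F13900 : act 3 n8927 = n3983 := d7_1 D8927 (iv6 D3983) D3980
def n8928 : Q := act 5 n3981
theorem D8928 : act 5 n3981 = n8928 := rfl
theorem F13901 : act 3 n8928 = n7968 := d6_1 D8928 (iv5 D7968) F5928
def n8929 : Q := act 6 n3981
theorem D8929 : act 6 n3981 = n8929 := rfl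
theorem F13902 : act 3 n8929 = n7969 := d7_1 D8929 (iv6 D7969) F5928
theorem F13903 : act 4 n8929 = n3983 := d10_1 D8929 (iv6 D3983) D3981
theorem E1839 : n7969 = n6273 := ((c20_5 F4162 (iv1 F2268) (iv4 F2317) (iv3 F4225) D6273 (iv3 F13902) F13903 F7024 (iv4 F5714) (iv3 D3714) (iv1 F4165))).symm
theorem F13904 : act 2 n6273 = n6057 := (sb E1839 F12722)
theorem F13905 : act 3 n6273 = n8929 := (sb E1839 (iv3 F13902))
theorem F13906 : act 6 n6273 = n3609 := (sb E1839 (iv6 D7969))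
theorem F13907 : act 7 n6274 = n6057 := d15_2 (iv0 D6273) D6274 (iv2 F13904)
def n8930 : Q := act 5 n3983
theorem D8930 : act 5 n3983 = n8930 := rfl
def n8931 : Q := act 4 n3984
theorem D8931 : act 4 n3984 = n8931 := rfl
theorem F13908 : act 2 n8931 = n3987 := d1_1 D8931 (iv4 D3987) (iv2 F5929)
def n8932 : Q := act 6 n3984
theorem D8932 : act 6 n3984 = n8932 := rfl
theorem F13909 : act 2 n8932 = n3988 := d3_1 D8932 (iv6 D3988) (iv2 F5929)
theorem F13910 : act 3 n8932 = n8932 := d7_1 D8932 (iv6 D8932) F5930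
theorem F13911 : act 5 n8932 = n4072 := d12_1 D8932 (iv6 D4072) (iv5 D1758) (iv6 F2942) D3984
def n8933 : Q := act 4 n3985
theorem D8933 : act 4 n3985 = n8933 := rfl
theorem F13912 : act 2 n8933 = n4057 := d1_1 D8933 (iv4 D4057) (iv2 F7017)
theorem F13913 : act 7 n8933 = n4041 := d11_2 (iv7 F7020) D8933 (iv4 D4041)
def n8934 : Q := act 6 n3985
theorem D8934 : act 6 n3985 = n8934 := rfl
theorem F13914 : act 2 n8934 = n4058 := d3_1 D8934 (iv6 D4058) (iv2 F7017)
theorem F13915 : act 3 n8934 = n8582 := d7_1 D8934 (iv6 D8582) (iv3 F7018)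
def n8935 : Q := act 3 n3986
theorem D8935 : act 3 n3986 = n8935 := rfl
theorem F13916 : act 2 n8935 = n8556 := d0_1 D8935 F13386 (iv2 F6459) F5965 (iv2 F7014)
theorem F13917 : act 5 n8935 = n4023 := d6_2 (iv5 F7015) D8935 (iv3 D4023)
theorem F13918 : act 7 n8935 = n4053 := d8_2 (iv7 F7016) D8935 F5989
def n8936 : Q := act 4 n3986
theorem D8936 : act 4 n3986 = n8936 := rfl
theorem F13919 : act 2 n8936 = n4041 := d1_1 D8936 (iv4 D4041) (iv2 F7014)
theorem F13920 : act 7 n8936 = n4057 := d11_2 (iv7 F7016) D8936 (iv4 D4057)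
def n8937 : Q := act 6 n3986
theorem D8937 : act 6 n3986 = n8937 := rfl
theorem F13921 : act 2 n8937 = n4042 := d3_1 D8937 (iv6 D4042) (iv2 F7014)
theorem F13922 : act 5 n8937 = n8937 := d12_1 D8937 (iv6 D8937) F7015 F7177 (iv5 F7015)
def n8938 : Q := act 0 n3987
theorem D8938 : act 0 n3987 = n8938 := rfl
def n8939 : Q := act 5 n3987
theorem D8939 : act 5 n3987 = n8939 := rfl
def n8940 : Q := act 6 n3987
theorem D8940 : act 6 n3987 = n8940 := rfl
theorem F13923 : act 4 n8940 = n3988 := d10_1 D8940 (iv6 D3988) D3987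
def n8941 : Q := act 0 n3988
theorem D8941 : act 0 n3988 = n8941 := rfl
def n8942 : Q := act 1 n3988
theorem D8942 : act 1 n3988 = n8942 := rfl
def n8943 : Q := act 7 n3988
theorem D8943 : act 7 n3988 = n8943 := rfl
theorem F13924 : act 3 n8943 = n3991 := d8_1 D8943 (iv7 D3991) (iv3 F5931)
theorem F13925 : act 5 n8943 = n4089 := d13_1 D8943 (iv7 D4089) (iv5 F5932)
def n8944 : Q := act 2 n3989
theorem D8944 : act 2 n3989 = n8944 := rfl
theorem F13926 : act 7 n3990 = n8944 := d15_2 (iv0 D3989) D3990 (iv2 D8944)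
def n8945 : Q := act 3 n3989
theorem D8945 : act 3 n3989 = n8945 := rfl
def n8946 : Q := act 4 n3989
theorem D8946 : act 4 n3989 = n8946 := rfl
def n8947 : Q := act 5 n3989
theorem D8947 : act 5 n3989 = n8947 := rfl
def n8948 : Q := act 6 n3989
theorem D8948 : act 6 n3989 = n8948 := rfl
theorem F13927 : act 5 n8948 = n5016 := d21_6 (iv5 D629) (iv1 F938) D916 D1727 D3989 D8948 (iv1 D5016) (iv5 D2059) (iv6 D1024) F1203
def n8949 : Q := act 7 n3989
theorem D8949 : act 7 n3989 = n8949 := rfl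
theorem F13928 : act 2 n8949 = n3990 := d4_1 D8949 F13926 (iv2 D8944)
def n8950 : Q := act 3 n3990
theorem D8950 : act 3 n3990 = n8950 := rfl
def n8951 : Q := act 4 n3990
theorem D8951 : act 4 n3990 = n8951 := rfl
def n8952 : Q := act 5 n3990
theorem D8952 : act 5 n3990 = n8952 := rfl
theorem F13929 : act 6 n8952 = n4189 := d21_3 (iv5 F5934) (iv1 F5936) D8952 (iv1 F6095) F6094 F5934 (iv1 F3023) (iv5 F6010) (iv6 D4097) (iv1 F3022)
def n8953 : Q := act 6 n3990
theorem D8953 : act 6 n3990 = n8953 := rfl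
def n8954 : Q := act 5 n3993
theorem D8954 : act 5 n3993 = n8954 := rfl
theorem F13930 : act 2 n8954 = n8367 := d2_1 D8954 F13325 (iv2 F12200)
def n8955 : Q := act 6 n3993
theorem D8955 : act 6 n3993 = n8955 := rfl
theorem F13931 : act 2 n8955 = n8231 := d3_1 D8955 (iv6 F13003) (iv2 F12200)
theorem F13932 : act 4 n8955 = n3995 := d10_1 D8955 (iv6 D3995) D3993
def n8956 : Q := act 5 n3995
theorem D8956 : act 5 n3995 = n8956 := rfl
def n8957 : Q := act 6 n3997
theorem D8957 : act 6 n3997 = n8957 := rfl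
def n8962 : Q := act 0 n4000
theorem D8962 : act 0 n4000 = n8962 := rfl
def n8963 : Q := act 1 n4000
theorem D8963 : act 1 n4000 = n8963 := rfl
theorem F13935 : act 1 n8963 = n4004 := d15_1 D8963 (iv7 D4004) (iv2 F5939)
theorem F13936 : act 3 n8963 = n4294 := d20_5 F1792 (iv1 F1733) (iv4 F2969) (iv3 F5942) (iv1 F13935) (iv4 D4294) (iv1 D1818) F1783 F1782 D952
def n8964 : Q := act 5 n4000
theorem D8964 : act 5 n4000 = n8964 := rfl
theorem F13937 : act 2 n8964 = n4003 := d2_1 D8964 (iv5 D4003) (iv2 F5939)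
theorem F13938 : act 3 n8964 = n8964 := d6_1 D8964 (iv5 D8964) F5940
theorem F13939 : act 0 n4595 = n8964 := d21_7 (iv5 F6930) (iv1 D1919) (iv5 D988) F1181 D985 D1911 D4595 (iv5 D8964) (iv6 D4000) (iv1 F3000)
def n8965 : Q := act 7 n4000
theorem D8965 : act 7 n4000 = n8965 := rfl
theorem F13940 : act 2 n8965 = n4004 := d4_1 D8965 (iv7 D4004) (iv2 F5939)
theorem F13941 : act 3 n8965 = n8965 := d8_1 D8965 (iv7 D8965) F5940
theorem F13942 : act 6 n8965 = n5066 := d14_1 D8965 F7507 (iv6 D4015) F2998 D4000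
theorem F13943 : act 1 n4004 = n8962 := d15_0 (iv0 D8962) D8965 F13940
theorem F13944 : act 1 n4002 = n8965 := d15_1 D4002 (iv7 D8965) F5939
theorem F13945 : act 1 n8965 = n4001 := d15_0 (iv0 D4001) D4004 (iv2 F13940)
def n8966 : Q := act 2 n4001
theorem D8966 : act 2 n4001 = n8966 := rfl
theorem F13946 : act 7 n4002 = n8966 := d15_2 (iv0 D4001) D4002 (iv2 D8966)
def n8967 : Q := act 3 n4001
theorem D8967 : act 3 n4001 = n8967 := rfl
theorem F13947 : act 4 n8967 = n4265 := d20_6 F1785 (iv1 D922) (iv4 F1729) (iv3 F2965) D4001 D8967 (iv1 F6177) F3079 F3078 (iv1 F1791)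
def n8968 : Q := act 4 n4001
theorem D8968 : act 4 n4001 = n8968 := rfl
def n8969 : Q := act 5 n4001
theorem D8969 : act 5 n4001 = n8969 := rfl
def n8970 : Q := act 6 n4001
theorem D8970 : act 6 n4001 = n8970 := rfl
theorem F13948 : act 5 n8970 = n4705 := d21_6 D1915 F7081 F1895 D1734 D4001 D8970 (iv1 F6798) (iv5 D4664) (iv6 D1936) (iv1 F1869)
def n8971 : Q := act 7 n4001
theorem D8971 : act 7 n4001 = n8971 := rfl
theorem F13949 : act 2 n8971 = n4002 := d4_1 D8971 F13946 (iv2 D8966)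
def n8972 : Q := act 3 n4002
theorem D8972 : act 3 n4002 = n8972 := rfl
def n8973 : Q := act 4 n4002
theorem D8973 : act 4 n4002 = n8973 := rfl
def n8974 : Q := act 5 n4002
theorem D8974 : act 5 n4002 = n8974 := rfl
def n8975 : Q := act 6 n4002
theorem D8975 : act 6 n4002 = n8975 := rfl
def n8976 : Q := act 0 n4003
theorem D8976 : act 0 n4003 = n8976 := rfl
def n8977 : Q := act 4 n4003
theorem D8977 : act 4 n4003 = n8977 := rfl
def n8978 : Q := act 3 n4005
theorem D8978 : act 3 n4005 = n8978 := rfl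
def n8979 : Q := act 0 n4007
theorem D8979 : act 0 n4007 = n8979 := rfl
theorem F13950 : act 4 n8979 = n4213 := d20_2 D4007 D8979 (iv3 D4213) (iv1 D1796) (iv3 D944) F1138 (iv1 F942) D609 D924 D1739
theorem F13951 : act 3 n8979 = n6050 := d20_5 D3545 F12191 D4252 F6158 D8979 (iv4 D6050) (iv1 F5640) F5638 F5637 (iv1 F5567)
theorem F13952 : act 1 n4012 = n8979 := d15_0 (iv0 D8979) F12199 F12200
theorem F13953 : act 2 n7991 = n8979 := d0_5 F13951 (iv2 F12725) F12727 (iv2 F12343) D7991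
theorem F13954 : act 7 n8183 = n8979 := d8_0 F13951 (iv7 F12719) F12960
def n8980 : Q := act 1 n4007
theorem D8980 : act 1 n4007 = n8980 := rfl
theorem F13955 : act 1 n8980 = n4012 := d15_1 D8980 F12165 F12185
theorem F13956 : act 7 n8980 = n7991 := d15_2 (iv0 D8979) D8980 F13953
theorem F13957 : act 4 n4353 = n8980 := d20_0 (iv1 D8980) (iv4 D4007) F3070 (iv1 F6291) (iv3 D4107) D4108 F12100 F12099 (iv3 F12127) F12125
theorem F13958 : act 3 n6089 = n8980 := d20_3 (iv4 F12811) F12812 (iv4 F12340) (iv1 D8980) (iv3 F6158) (iv4 D4252) F6152 (iv4 D3540) D3539 (iv1 F12814)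
theorem F13959 : act 2 n8980 = n8183 := d0_1 F13958 (iv3 F12960) F12718 (iv3 F9415) (iv2 F12342)
def n8981 : Q := act 5 n4007
theorem D8981 : act 5 n4007 = n8981 := rfl
theorem F13960 : act 2 n8981 = n8184 := d2_1 D8981 (iv5 D8184) F12185
theorem F13961 : act 3 n8981 = n4762 := d6_1 D8981 F6937 F6158
theorem F13962 : act 7 n8981 = n8954 := d13_2 (iv7 F12199) D8981 (iv5 D8954)
theorem F13963 : act 4 n8981 = n8459 := d18_5 (iv1 D3950) F2916 D1739 D4007 D8981 (iv0 D8459) (iv4 D3787) D3786 (iv5 F6932)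
def n8982 : Q := act 6 n4007
theorem D8982 : act 6 n4007 = n8982 := rfl
def n8985 : Q := act 5 n4009
theorem D8985 : act 5 n4009 = n8985 := rfl
def n8986 : Q := act 7 n4009
theorem D8986 : act 7 n4009 = n8986 := rfl
theorem F13969 : act 6 n8986 = n5064 := d14_1 D8986 F12213 (iv6 D3995) (iv7 F12136) D4009
def n8987 : Q := act 0 n4011
theorem D8987 : act 0 n4011 = n8987 := rfl
theorem F13973 : act 4 n8987 = n4139 := d20_2 F13885 D8987 (iv3 D4139) (iv1 F6042) F12183 D6097 (iv1 F12309) (iv4 F13891) (iv3 D8920) D8919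
theorem F13974 : act 3 n8987 = n4135 := d20_5 (iv4 F13950) (iv1 F13952) (iv4 D4012) D4011 D8987 F6300 F6041 (iv4 D1838) D1837 (iv1 F12307)
theorem F13975 : act 2 n4117 = n8987 := d15_3 (iv0 D8987) F12149 D4117
theorem F13976 : act 1 n4112 = n8987 := d15_0 (iv0 D8987) (iv7 F12145) (iv2 F6269)
theorem F13977 : act 7 n8987 = n4113 := d15_2 D4112 F13976 (iv2 D4113)
def n8988 : Q := act 6 n4011
theorem D8988 : act 6 n4011 = n8988 := rfl
theorem F13978 : act 3 n8988 = n4014 := d7_1 D8988 (iv6 D4014) D4011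
def n8989 : Q := act 5 n4014
theorem D8989 : act 5 n4014 = n8989 := rfl
theorem F13979 : act 2 n8989 = n8956 := d2_1 D8989 (iv5 D8956) F12212
def n8990 : Q := act 5 n4015
theorem D8990 : act 5 n4015 = n8990 := rfl
theorem F13980 : act 2 n8990 = n4018 := d2_1 D8990 (iv5 D4018) (iv2 F5948)
theorem F13981 : act 3 n8990 = n8990 := d6_1 D8990 (iv5 D8990) F5949
def n8991 : Q := act 3 n4017
theorem D8991 : act 3 n4017 = n8991 := rfl
theorem F13982 : act 7 n8991 = n8988 := d8_2 (iv7 F12214) D8991 F13978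
def n8992 : Q := act 4 n4017
theorem D8992 : act 4 n4017 = n8992 := rfl
theorem F13983 : act 7 n8992 = n8231 := d11_2 (iv7 F12214) D8992 F13002
def n8993 : Q := act 5 n4017
theorem D8993 : act 5 n4017 = n8993 := rfl
theorem F13985 : act 7 n8993 = n8989 := d13_2 (iv7 F12214) D8993 (iv5 D8989)
def n8994 : Q := act 0 n4018
theorem D8994 : act 0 n4018 = n8994 := rfl
def n8995 : Q := act 1 n4018
theorem D8995 : act 1 n4018 = n8995 := rfl
theorem F13986 : act 5 n4704 = n8995 := d21_6 (iv5 F6924) (iv1 F3234) (iv5 D1935) D1936 (iv1 F3252) D4704 (iv1 D8995) (iv5 D4018) (iv6 D1742) D1739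
def n8996 : Q := act 4 n4018
theorem D8996 : act 4 n4018 = n8996 := rfl
def n8997 : Q := act 3 n4019
theorem D8997 : act 3 n4019 = n8997 := rfl
def n8998 : Q := act 5 n4020
theorem D8998 : act 5 n4020 = n8998 := rfl
theorem F13987 : act 2 n8998 = n4092 := d2_1 D8998 (iv5 D4092) (iv2 F5952)
theorem F13988 : act 3 n8998 = n8998 := d6_1 D8998 (iv5 D8998) F5953
def n8999 : Q := act 5 n4028
theorem D8999 : act 5 n4028 = n8999 := rfl
theorem F13989 : act 2 n8999 = n4275 := d2_1 D8999 F7247 F6468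
theorem F13990 : act 7 n8999 = n8554 := d13_2 (iv7 F6407) D8999 (iv5 D8554)
theorem F13991 : act 0 n8999 = n4074 := d17_2 F6425 D8999 (iv5 F7007) (iv4 F12286) (iv5 F12290) (iv0 D3866) (iv5 D1680) (iv0 F6432) (iv4 F5828)
theorem F13992 : act 4 n8999 = n4881 := d18_5 (iv1 F1884) D1007 (iv1 F3290) F6435 D8999 F7238 (iv4 D2019) F3268 (iv5 D1953)
def n9000 : Q := act 6 n4028
theorem D9000 : act 6 n4028 = n9000 := rfl
theorem F13994 : act 4 n9000 = n4758 := d10_1 D9000 (iv6 D4758) F6435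
def n9001 : Q := act 1 n4030
theorem D9001 : act 1 n4030 = n9001 := rfl
theorem F13995 : act 1 n9001 = n8560 := d15_1 D9001 (iv7 D8560) (iv2 F6459)
theorem F13996 : act 7 n9001 = n8557 := d15_2 F6919 D9001 (iv2 F13389)
theorem F13997 : act 5 n9001 = n4374 := d17_7 D3537 D7796 (iv1 F12262) (iv5 F7170) F6424 D4030 D9001 (iv0 F12107) (iv4 D3540)
theorem F13998 : act 2 n4375 = n9001 := d2_3 F13997 (iv2 D4374) D4375
theorem F13999 : act 4 n4783 = n9001 := d18_3 (iv1 F6910) D1992 (iv1 F6883) F13997 (iv4 F12099) (iv0 F12100) (iv4 D4108) (iv0 F6289) D1781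
def n9002 : Q := act 6 n4030
theorem D9002 : act 6 n4030 = n9002 := rfl
theorem F14000 : act 2 n9002 = n8559 := d3_1 D9002 (iv6 D8559) (iv2 F6459)
theorem F14001 : act 3 n9002 = n4042 := d7_1 D9002 (iv6 D4042) (iv3 F5965)
theorem F14002 : act 5 n9002 = n9002 := d12_1 D9002 (iv6 D9002) (iv5 D4030) F7173 D4030
def n9003 : Q := act 5 n4033
theorem D9003 : act 5 n4033 = n9003 := rfl
theorem F14003 : act 0 n9003 = n8928 := d17_2 D4033 D9003 (iv5 D8928) (iv4 D3981) (iv5 F7023) F3355 F3351 (iv0 D1745) D1748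
theorem F14004 : act 4 n8928 = n8886 := d18_1 F14003 (iv1 D8886) (iv4 D3964) (iv5 D1717) F1708 D929 D1753 F5978 D9003
theorem E1840 : n7968 = n6250 := ((c20_5 (iv4 F2630) (iv1 D1515) (iv4 F2312) (iv3 F4223) (iv1 F9749) (iv3 F13901) F14004 (iv1 D8886) (iv4 D3964) F2928 F1709)).symm
theorem F14005 : act 2 n6250 = n6056 := (sb E1840 F12720)
theorem F14006 : act 3 n6250 = n8928 := (sb E1840 (iv3 F13901))
theorem F14007 : act 5 n6250 = n3609 := (sb E1840 (iv5 D7968))
theorem F14008 : act 7 n6250 = n6051 := (sb E1840 F12721)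
theorem E1841 : n7972 = n6249 := (c15_4 (iv0 D6249) D6250 F14008 (iv2 F12729))
theorem F14009 : act 2 n6249 = n6051 := (sb E1841 F12729)
theorem F14010 : act 5 n6249 = n3610 := (sb E1841 (iv5 D7972))
theorem F14011 : act 7 n6249 = n6056 := (sb E1841 F12730)
theorem E1842 : n6229 = n6060 := ((c21_8 (iv5 F4224) (iv1 F9749) F14007 (iv6 F13906) (iv1 F12742) (iv6 D7975) D7974 (iv1 F12735) (iv5 D6229) F7208 F6466)).symm
theorem F14012 : act 2 n6060 = n2619 := (sb E1842 F9718)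
theorem F14013 : act 5 n6060 = n2616 := (sb E1842 (iv5 D6229))
theorem F14014 : act 7 n6060 = n2624 := (sb E1842 F9719)
theorem E1843 : n6238 = n6059 := (c15_4 (iv0 D6059) D6060 F14014 (iv2 F9733))
theorem F14015 : act 2 n6059 = n2624 := (sb E1843 F9733)
theorem F14016 : act 3 n6059 = n4055 := (sb E1843 F9734)
theorem F14017 : act 5 n6059 = n2621 := (sb E1843 F9735)
theorem F14018 : act 7 n6059 = n2619 := (sb E1843 (iv7 D6238))
theorem E1844 : n6234 = n6058 := (c21_8 (iv5 F14013) (iv1 D6060) (iv5 D2558) F2197 D1225 F7207 D2619 D6234 (iv5 D6058) F4067 (iv1 F6467))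
theorem E1845 : n7977 = n2624 := (((iv1 F12744)).symm.trans (sb E1844 (iv1 F9736)))
theorem E1846 : n7976 = n2619 := ((F12743).symm.trans (sb E1844 (iv0 D6234)))
theorem E1847 : n6235 = n3612 := (((iv1 F9731)).symm.trans (sb E1845 (iv1 D7977)))
theorem F14019 : act 1 n2624 = n6058 := (sb E1845 F12744)
theorem F14020 : act 0 n2619 = n6058 := (sb E1846 (iv1 F12743))
theorem F14021 : act 0 n3612 = n2619 := (sb E1847 (iv1 D6235))
theorem F14022 : act 1 n3612 = n2624 := (sb E1847 F9731)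
theorem F14023 : act 1 n6232 = n8307 := d17_6 (iv1 D3610) D3612 F14021 (iv5 D2619) D2618 D6232 F13428 F12848 (iv4 D7971)
theorem F14024 : act 6 n6261 = n7981 := d21_3 D6225 (iv1 F9703) D6261 (iv1 D7981) (iv6 D3613) D3612 F14021 (iv5 D2619) F7207 D2615
theorem E1848 : n6051 = n2629 := (c21_1 D6051 (iv1 F9704) (iv5 D6225) D6226 (iv1 F12749) (iv6 F14024) (iv5 D6261) (iv1 D2630) (iv5 D1228) (iv6 F2197) D2555)
theorem E1849 : n6253 = n6249 := ((D6253).symm.trans (sb E1848 (iv2 F14009)))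
theorem E1850 : n6256 = n2555 := ((D6256).symm.trans (sb E1848 (iv5 D6051)))
theorem E1851 : n6258 = n6250 := ((D6258).symm.trans (sb E1848 (iv7 F14008)))
theorem F14025 : act 2 n6249 = n2629 := (sb E1849 (iv2 D6253))
theorem E1852 : n6056 = n2630 := ((F14011).symm.trans (sb E1849 (iv7 F9753)))
theorem F14026 : act 5 n2555 = n2629 := (sb E1850 (iv5 D6256))
theorem F14027 : act 7 n6250 = n2629 := (sb E1851 (iv7 D6258))
theorem F14028 : act 2 n2630 = n6250 := (sb E1852 (iv2 F14005))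
theorem E1853 : n6261 = n2556 := ((D6261).symm.trans (sb E1852 (iv5 D6056)))
theorem F14029 : act 7 n2630 = n6249 := (sb E1852 (iv7 F14011))
theorem F14030 : act 5 n2556 = n2630 := (sb E1853 (iv5 D6261))
theorem E1854 : n7981 = n6057 := (((D6057).symm.trans (sb E1853 F14024))).symm
theorem F14031 : act 0 n6057 = n3613 := (sb E1854 (iv1 D7981))
theorem F14032 : act 1 n6057 = n6226 := (sb E1854 F12749)
theorem F14033 : act 7 n7980 = n6273 := d15_2 F14032 F12748 F13904
theorem F14034 : act 2 n6274 = n7980 := d4_3 F14033 F13904 (iv7 F13907)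
theorem F14035 : act 5 n6259 = n6054 := d6_2 F14030 D6259 (iv3 D6054)
theorem F14036 : act 7 n6254 = n8928 := d8_2 F14027 D6254 (iv3 F14006)
theorem F14037 : act 5 n4214 = n6254 := d13_3 F14036 (iv5 D8928) F12325
theorem F14038 : act 2 n6254 = n8921 := d2_1 F14037 (iv5 D8921) (iv2 F12323)
theorem F14039 : act 1 n8443 = n8928 := d15_1 F13895 (iv7 F14036) F14038
def n9004 : Q := act 6 n4033
theorem D9004 : act 6 n4033 = n9004 := rfl
theorem F14040 : act 4 n9004 = n4651 := d10_1 D9004 (iv6 D4651) (iv4 F5972)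
def n9005 : Q := act 5 n4035
theorem D9005 : act 5 n4035 = n9005 := rfl
theorem F14041 : act 3 n9005 = n4036 := d6_1 D9005 (iv5 D4036) D4035
theorem F14042 : act 7 n9005 = n8573 := d13_2 (iv7 F6454) D9005 (iv5 D8573)
theorem F14043 : act 0 n9005 = n8042 := d17_2 F9630 D9005 (iv5 D8042) (iv4 D3635) D3636 F13329 (iv5 D3733) F4179 D6182
theorem F14044 : act 1 n9005 = n8029 := d17_6 (iv1 F12966) D8199 (iv1 F13418) F12369 F6430 D9005 (iv5 D8029) F12724 (iv4 F12964)
theorem F14045 : act 4 n8042 = n8377 := d18_1 F14043 (iv1 D8377) (iv4 D3758) (iv5 D1642) (iv4 F2275) D2602 D6187 (iv0 F9635) D9005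
theorem E1855 : n7785 = n6213 := ((c20_5 (iv4 F5324) F5325 F4000 (iv3 F4202) D6213 (iv3 F12851) F14045 (iv1 D8377) (iv4 D3758) F2821 (iv1 F2816))).symm
theorem F14046 : act 2 n6213 = n3803 := (sb E1855 F13461)
theorem F14047 : act 3 n6213 = n8042 := (sb E1855 (iv3 F12851))
theorem F14048 : act 5 n6213 = n3532 := (sb E1855 (iv5 D7785))
theorem F14049 : act 7 n6213 = n3802 := (sb E1855 F13462)
theorem E1856 : n7789 = n6214 := (c15_4 F9678 F9677 F14049 (iv2 F13463))
theorem F14050 : act 2 n6214 = n3802 := (sb E1856 F13463)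
theorem F14051 : act 5 n6214 = n3533 := (sb E1856 (iv5 D7789))
theorem F14052 : act 7 n6214 = n3803 := (sb E1856 F13464)
theorem E1857 : n6276 = n6206 := ((c21_1 D6206 (iv1 F9763) F5855 D7791 (iv1 F13732) (iv6 D7790) (iv5 F14051) (iv1 D6214) (iv5 D2611) F2283 D2608)).symm
theorem F14053 : act 0 n6206 = n3904 := (sb E1857 (iv1 F9763))
theorem F14054 : act 1 n6206 = n2635 := (sb E1857 (iv0 D6276))
theorem E1858 : n6277 = n6210 := (c15_2 F14054 D6277 (iv7 F13088) F13092)
theorem F14055 : act 0 n6210 = n2635 := (sb E1858 (iv1 D6277))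
theorem F14056 : act 1 n6210 = n3904 := (sb E1858 F9768)
def n9006 : Q := act 0 n4036
theorem D9006 : act 0 n4036 = n9006 := rfl
def n9007 : Q := act 4 n4036
theorem D9007 : act 4 n4036 = n9007 := rfl
theorem F14057 : act 1 n9007 = n8327 := d18_6 (iv1 D1715) F1708 D928 D1748 D4036 D9007 (iv4 D8327) F7183 (iv5 D3959)
def n9008 : Q := act 6 n4036
theorem D9008 : act 6 n4036 = n9008 := rfl
theorem F14058 : act 5 n9008 = n9008 := d12_1 D9008 (iv6 D9008) (iv5 D4036) F7178 D4036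
def n9009 : Q := act 7 n4036
theorem D9009 : act 7 n4036 = n9009 := rfl
theorem F14059 : act 2 n9009 = n4055 := d4_1 D9009 (iv7 F9722) F9720
theorem F14060 : act 3 n9009 = n8573 := d8_1 D9009 (iv7 F14042) F14041
theorem F14061 : act 5 n9009 = n4038 := d13_1 D9009 (iv7 D4038) D4036
theorem F14062 : act 1 n4055 = n9006 := d15_0 (iv0 D9006) D9009 F14059
theorem F14063 : act 5 n9006 = n8187 := d17_7 (iv1 F3055) D3984 (iv1 F7182) (iv5 D1754) D1753 D4055 F14062 (iv0 F12972) (iv4 D4209)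
theorem F14064 : act 3 n8188 = n9006 := d6_3 F14063 (iv3 D8187) D8188
theorem E1859 : n4745 = n4684 := ((c17_6 F6471 D4036 D9006 F14063 F12970 F7301 (iv0 D4745) (iv5 D1965) D1962 (iv4 F5785))).symm
theorem F14065 : act 1 n4684 = n1965 := (sb E1859 (iv0 D4745))
def n9010 : Q := act 6 n4038
theorem D9010 : act 6 n4038 = n9010 := rfl
theorem F14066 : act 2 n9010 = n4056 := d3_1 D9010 (iv6 D4056) (iv2 F5976)
theorem F14067 : act 3 n9010 = n8574 := d7_1 D9010 (iv6 D8574) (iv3 F6420)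
theorem F14068 : act 4 n9010 = n4048 := d10_1 D9010 (iv6 D4048) (iv4 F5977)
theorem F14069 : act 7 n9010 = n9010 := d14_2 D4038 D9010 (iv6 D9010) (iv7 D4038) F7178
def n9011 : Q := act 0 n4041
theorem D9011 : act 0 n4041 = n9011 := rfl
theorem F14070 : act 4 n9011 = n4684 := d18_3 F7180 D4041 D9011 (iv5 F7301) (iv4 F12970) (iv0 F12972) (iv4 D4209) (iv0 D1795) (iv5 F3042)
theorem F14071 : act 1 n4057 = n9011 := d15_0 (iv0 D9011) (iv7 F13913) F13912
def n9012 : Q := act 1 n4041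
theorem D9012 : act 1 n4041 = n9012 := rfl
theorem F14072 : act 1 n9012 = n4057 := d15_1 D9012 (iv7 F13920) F13919
theorem F14073 : act 4 n4746 = n9012 := d20_6 F6920 (iv1 F6887) (iv4 D1992) (iv3 F3300) (iv1 F6914) F6915 (iv1 D9012) (iv4 D4041) (iv3 F5965) (iv1 F6919)
def n9013 : Q := act 3 n4041
theorem D9013 : act 3 n4041 = n9013 := rfl
def n9014 : Q := act 5 n4041
theorem D9014 : act 5 n4041 = n9014 := rfl
def n9015 : Q := act 6 n4041
theorem D9015 : act 6 n4041 = n9015 := rfl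
theorem F14074 : act 4 n9015 = n4042 := d10_1 D9015 (iv6 D4042) D4041
def n9016 : Q := act 0 n4042
theorem D9016 : act 0 n4042 = n9016 := rfl
def n9017 : Q := act 1 n4042
theorem D9017 : act 1 n4042 = n9017 := rfl
def n9018 : Q := act 7 n4042
theorem D9018 : act 7 n4042 = n9018 := rfl
theorem F14075 : act 5 n9018 = n9018 := d13_1 D9018 (iv7 D9018) F7214
def n9019 : Q := act 5 n4048
theorem D9019 : act 5 n4048 = n9019 := rfl
theorem F14076 : act 2 n9019 = n4061 := d2_1 D9019 (iv5 D4061) (iv2 F5983)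
theorem F14077 : act 3 n9019 = n8585 := d6_1 D9019 (iv5 D8585) (iv3 F6422)
theorem F14078 : act 7 n9019 = n9019 := d13_2 F7195 D9019 (iv5 D9019)
def n9020 : Q := act 5 n4049
theorem D9020 : act 5 n4049 = n9020 := rfl
theorem F14079 : act 2 n9020 = n4392 := d2_1 D9020 F7052 (iv2 F6406)
theorem F14080 : act 3 n9020 = n8999 := d6_1 D9020 (iv5 D8999) (iv3 F5985)
theorem F14081 : act 7 n9020 = n8435 := d13_2 F6405 D9020 (iv5 D8435)
theorem F14082 : act 1 n9020 = n4079 := d17_6 (iv1 D3950) (iv5 F4230) (iv1 F7270) (iv5 D4666) (iv4 F5984) D9020 (iv5 F7026) F12245 F5901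
theorem F14083 : act 4 n9020 = n4971 := d18_5 (iv1 D991) D993 D1937 (iv4 F5984) D9020 (iv0 D4971) (iv4 D2047) (iv0 F7266) (iv5 D1932)
theorem F14084 : act 1 n4079 = n4270 := d15_1 F14082 F7256 (iv2 F14079)
def n9021 : Q := act 6 n4049
theorem D9021 : act 6 n4049 = n9021 := rfl
theorem F14085 : act 2 n9021 = n4503 := d3_1 D9021 (iv6 D4503) (iv2 F6406)
theorem F14086 : act 3 n9021 = n9000 := d7_1 D9021 (iv6 D9000) (iv3 F5985)
def n9022 : Q := act 5 n4051
theorem D9022 : act 5 n4051 = n9022 := rfl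
theorem F14088 : act 2 n9022 = n4053 := d2_1 D9022 (iv5 D4053) D4051
theorem F14089 : act 3 n9022 = n8560 := d6_1 D9022 F13397 F6427
theorem F14090 : act 7 n9022 = n8556 := d13_2 (iv7 F6455) D9022 (iv5 D8556)
theorem F14091 : act 0 n9022 = n4232 := d17_2 (iv1 F6408) D9022 (iv5 D4232) F5901 F6932 F6739 (iv5 D4660) F3229 D3777
theorem F14092 : act 1 n8935 = n4232 := d15_0 (iv0 F14091) F14090 (iv2 F13916)
theorem F14093 : act 1 n4053 = n4355 := d15_0 (iv0 F13387) (iv7 F14090) F14088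
def n9023 : Q := act 6 n4051
theorem D9023 : act 6 n4051 = n9023 := rfl
theorem F14094 : act 2 n9023 = n4054 := d3_1 D9023 (iv6 D4054) D4051
theorem F14095 : act 3 n9023 = n8561 := d7_1 D9023 (iv6 D8561) F6427
theorem F14096 : act 7 n9023 = n9023 := d14_2 (iv7 F6455) D9023 (iv6 D9023) F6455 F7203
def n9024 : Q := act 5 n4052
theorem D9024 : act 5 n4052 = n9024 := rfl
theorem F14097 : act 0 n9024 = n8367 := d17_2 F5988 D9024 F13325 (iv4 D4012) (iv5 F6930) F3233 (iv5 D1935) F1867 D1909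
theorem F14098 : act 1 n9024 = n8981 := d17_6 (iv1 D4353) D4355 (iv1 F14093) (iv5 D4053) D4052 D9024 (iv5 D8981) D8980 (iv4 F13957)
def n9025 : Q := act 6 n4052
theorem D9025 : act 6 n4052 = n9025 := rfl
theorem F14099 : act 4 n9025 = n4054 := d10_1 D9025 (iv6 D4054) D4052
def n9026 : Q := act 0 n4053
theorem D9026 : act 0 n4053 = n9026 := rfl
theorem F14101 : act 5 n9026 = n4231 := d17_3 (iv1 F6457) D4053 D9026 F12128 F7298 (iv0 D4671) (iv5 D1939) D1938 (iv4 F3240)
theorem F14102 : act 4 n9026 = n4688 := d18_1 D9026 (iv1 F6784) (iv4 D4608) (iv5 D1917) (iv4 F2836) F3238 (iv4 F5984) (iv0 D4049) D4053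
theorem F14103 : act 3 n9026 = n9001 := d20_5 (iv4 F14070) (iv1 F14071) (iv4 D4057) (iv3 F5989) D9026 (iv4 F13999) (iv1 D4783) (iv4 D1976) (iv3 F3283) (iv1 F14065)
theorem F14104 : act 2 n4232 = n9026 := d15_3 (iv0 D9026) F14093 (iv7 F12224)
theorem F14105 : act 1 n8556 = n9026 := d15_0 (iv0 D9026) (iv7 F13918) F13916
def n9027 : Q := act 4 n4053
theorem D9027 : act 4 n4053 = n9027 := rfl
theorem F14106 : act 0 n9027 = n4617 := d18_2 (iv1 F14093) D9027 (iv4 D4617) F6930 D4012 F13952 F13950 F12307 D4355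
theorem F14107 : act 1 n9027 = n4612 := d18_6 D985 D1909 F5988 (iv4 D4052) D4053 D9027 (iv4 D4612) (iv0 D1918) (iv5 D988)
def n9028 : Q := act 6 n4053
theorem D9028 : act 6 n4053 = n9028 := rfl
theorem F14108 : act 3 n9028 = n4058 := d7_1 D9028 (iv6 D4058) (iv3 F5989)
def n9029 : Q := act 0 n4054
theorem D9029 : act 0 n4054 = n9029 := rfl
theorem F14109 : act 1 n9023 = n9029 := d15_0 (iv0 D9029) F7198 (iv2 F14094)
def n9030 : Q := act 1 n4054
theorem D9030 : act 1 n4054 = n9030 := rfl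
theorem F14110 : act 1 n9030 = n9023 := d15_1 D9030 F14096 F14094
def n9031 : Q := act 5 n4054
theorem D9031 : act 5 n4054 = n9031 := rfl
def n9032 : Q := act 4 n4055
theorem D9032 : act 4 n4055 = n9032 := rfl
theorem F14113 : act 0 n9032 = n8327 := d18_2 (iv1 F14062) D9032 (iv4 D8327) F5742 (iv4 D1798) D1796 D4214 (iv0 F12971) (iv5 F14063)
def n9033 : Q := act 6 n4055
theorem D9033 : act 6 n4055 = n9033 := rfl
def n9034 : Q := act 0 n4056
theorem D9034 : act 0 n4056 = n9034 := rfl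
theorem F14114 : act 1 n9010 = n9034 := d15_0 (iv0 D9034) F7199 (iv2 F14066)
def n9035 : Q := act 1 n4056
theorem D9035 : act 1 n4056 = n9035 := rfl
theorem F14115 : act 1 n9035 = n9010 := d15_1 D9035 F14069 F14066
def n9036 : Q := act 5 n4056
theorem D9036 : act 5 n4056 = n9036 := rfl
theorem F14116 : act 7 n9036 = n9036 := d13_2 F7199 D9036 (iv5 D9036)
def n9037 : Q := act 3 n4057
theorem D9037 : act 3 n4057 = n9037 := rfl
def n9038 : Q := act 5 n4057
theorem D9038 : act 5 n4057 = n9038 := rfl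
def n9039 : Q := act 6 n4057
theorem D9039 : act 6 n4057 = n9039 := rfl
theorem F14117 : act 4 n9039 = n4058 := d10_1 D9039 (iv6 D4058) D4057
def n9040 : Q := act 0 n4058
theorem D9040 : act 0 n4058 = n9040 := rfl
def n9041 : Q := act 1 n4058
theorem D9041 : act 1 n4058 = n9041 := rfl
def n9042 : Q := act 5 n4058
theorem D9042 : act 5 n4058 = n9042 := rfl
theorem F14118 : act 6 n9042 = n4061 := d12_2 D4058 D9042 (iv5 D4061) (iv6 D1755) D1754
def n9043 : Q := act 7 n4058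
theorem D9043 : act 7 n4058 = n9043 := rfl
def n9044 : Q := act 2 n4059
theorem D9044 : act 2 n4059 = n9044 := rfl
theorem F14119 : act 7 n4060 = n9044 := d15_2 (iv0 D4059) D4060 (iv2 D9044)
def n9047 : Q := act 5 n4059
theorem D9047 : act 5 n4059 = n9047 := rfl
theorem F14120 : act 0 n9047 = n9019 := d21_1 D9047 (iv5 D9019) (iv6 D4048) F6416 (iv6 F2942) D3984 (iv1 F7182) (iv5 D1754) D1755 D4059
def n9048 : Q := act 6 n4059
theorem D9048 : act 6 n4059 = n9048 := rfl
theorem F14122 : act 0 n4216 = n9048 := d21_4 D1758 (iv1 F3354) F7326 D4216 (iv6 D9048) D9047 F14120 (iv5 D9019) (iv6 D4048) F6416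
def n9049 : Q := act 7 n4059
theorem D9049 : act 7 n4059 = n9049 := rfl
theorem F14123 : act 2 n9049 = n4060 := d4_1 D9049 F14119 (iv2 D9044)
def n9050 : Q := act 3 n4060
theorem D9050 : act 3 n4060 = n9050 := rfl
theorem F14124 : act 4 n9050 = n8873 := d20_6 (iv4 F13605) (iv1 D3854) (iv4 F5837) (iv3 F6422) (iv1 F7197) D9050 (iv1 D8873) (iv4 F6863) F6862 (iv1 F7127)
def n9051 : Q := act 4 n4060
theorem D9051 : act 4 n4060 = n9051 := rfl
def n9052 : Q := act 5 n4060
theorem D9052 : act 5 n4060 = n9052 := rfl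
theorem F14125 : act 0 n9052 = n4061 := d21_1 D9052 (iv5 D4061) (iv6 D1755) (iv1 D929) (iv6 F1717) D1726 D3985 F7019 D4048 (iv1 F7197)
theorem F14126 : act 6 n8923 = n4060 := d21_5 D931 D1759 F7008 D3978 D8923 D9052 F14125 (iv5 D4061) (iv6 D1755) (iv1 D929)
theorem F14127 : act 1 n9052 = n9019 := d15_1 (iv0 F14125) F14078 F14076
def n9053 : Q := act 4 n4061
theorem D9053 : act 4 n4061 = n9053 := rfl
def n9054 : Q := act 3 n4071
theorem D9054 : act 3 n4071 = n9054 := rfl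
theorem F14129 : act 4 n9054 = n9054 := d5_2 D4071 D9054 (iv3 D9054) (iv4 D4071) F3018
def n9055 : Q := act 5 n4071
theorem D9055 : act 5 n4071 = n9055 := rfl
theorem F14130 : act 2 n9055 = n4085 := d2_1 D9055 (iv5 D4085) (iv2 F6001)
def n9056 : Q := act 6 n4071
theorem D9056 : act 6 n4071 = n9056 := rfl
theorem F14131 : act 2 n9056 = n4086 := d3_1 D9056 (iv6 D4086) (iv2 F6001)
theorem F14132 : act 4 n9056 = n4072 := d10_1 D9056 (iv6 D4072) D4071
def n9057 : Q := act 0 n4072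
theorem D9057 : act 0 n4072 = n9057 := rfl
def n9058 : Q := act 1 n4072
theorem D9058 : act 1 n4072 = n9058 := rfl
theorem F14133 : act 1 n9058 = n4089 := d15_1 D9058 (iv7 D4089) (iv2 F6002)
def n9059 : Q := act 7 n4072
theorem D9059 : act 7 n4072 = n9059 := rfl
theorem F14134 : act 2 n9059 = n4089 := d4_1 D9059 (iv7 D4089) (iv2 F6002)
theorem F14135 : act 3 n9059 = n9059 := d8_1 D9059 (iv7 D9059) F6003
theorem F14136 : act 1 n4089 = n9057 := d15_0 (iv0 D9057) D9059 F14134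
theorem F14137 : act 1 n4088 = n9059 := d15_1 D4088 (iv7 D9059) F6002
theorem F14138 : act 1 n9059 = n4087 := d15_0 (iv0 D4087) D4089 (iv2 F14134)
def n9060 : Q := act 6 n4074
theorem D9060 : act 6 n4074 = n9060 := rfl
theorem F14139 : act 3 n9060 = n4077 := d7_1 D9060 (iv6 D4077) D4074
def n9061 : Q := act 0 n4075
theorem D9061 : act 0 n4075 = n9061 := rfl
theorem F14140 : act 4 n9061 = n4650 := d18_3 D1759 D4075 D9061 (iv5 D4650) (iv4 F5972) (iv0 D4033) (iv4 D1748) (iv0 D928) D931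
theorem F14141 : act 1 n4080 = n9061 := d15_0 (iv0 D9061) (iv7 F12317) F12321
theorem E1860 : n4873 = n4650 := ((c18_8 (iv1 F12149) (iv4 F13885) (iv1 F13887) (iv4 D3981) (iv5 F7023) D4080 F14141 F14140 (iv0 D4873) (iv5 F7102))).symm
theorem F14142 : act 1 n4650 = n2013 := (sb E1860 (iv0 D4873))
theorem F14143 : act 0 n8921 = n9003 := d17_2 F12246 D8921 (iv5 D9003) F5972 D4650 F14142 (iv5 F7102) D4112 (iv4 F12242)
def n9062 : Q := act 1 n4075
theorem D9062 : act 1 n4075 = n9062 := rfl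
theorem F14144 : act 1 n9062 = n4080 := d15_1 D9062 F12320 F12318
theorem F14145 : act 4 n4738 = n9062 := d20_6 (iv4 F7089) (iv1 F7094) (iv4 D2019) D2018 F7104 (iv3 F6843) (iv1 D9062) (iv4 D4075) D4074 (iv1 F12196)
def n9063 : Q := act 3 n4075
theorem D9063 : act 3 n4075 = n9063 := rfl
def n9064 : Q := act 5 n4075
theorem D9064 : act 5 n4075 = n9064 := rfl
def n9065 : Q := act 6 n4075
theorem D9065 : act 6 n4075 = n9065 := rfl
theorem F14146 : act 4 n9065 = n4077 := d10_1 D9065 (iv6 D4077) D4075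
def n9066 : Q := act 0 n4077
theorem D9066 : act 0 n4077 = n9066 := rfl
def n9067 : Q := act 1 n4077
theorem D9067 : act 1 n4077 = n9067 := rfl
def n9068 : Q := act 5 n4077
theorem D9068 : act 5 n4077 = n9068 := rfl
theorem F14147 : act 6 n9068 = n8925 := d12_2 D4077 D9068 (iv5 D8925) (iv6 D3978) (iv5 F7008)
def n9069 : Q := act 7 n4077
theorem D9069 : act 7 n4077 = n9069 := rfl
def n9070 : Q := act 2 n4079
theorem D9070 : act 2 n4079 = n9070 := rfl
theorem F14148 : act 5 n9070 = n4353 := d2_2 F7026 D9070 F12305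
theorem F14149 : act 1 n9070 = n8435 := d15_0 F13245 F12299 D9070
theorem F14150 : act 1 n4392 = n9070 := d15_0 F14149 (iv7 F14081) F14079
def n9071 : Q := act 4 n4079
theorem D9071 : act 4 n4079 = n9071 := rfl
theorem F14151 : act 0 n9071 = n4602 := d18_2 (iv1 F14084) D9071 (iv4 D4602) (iv5 D1915) D1914 F6481 (iv4 D4052) F6457 (iv5 F7255)
theorem F14152 : act 1 n9071 = n4591 := d18_6 D1731 D3993 (iv1 F12958) (iv4 F12959) F7026 D9071 (iv4 D4591) (iv0 F7080) F1895
def n9072 : Q := act 6 n4079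
theorem D9072 : act 6 n4079 = n9072 := rfl
theorem F14153 : act 3 n9072 = n4082 := d7_1 D9072 (iv6 D4082) D4079
def n9073 : Q := act 3 n4080
theorem D9073 : act 3 n4080 = n9073 := rfl
def n9074 : Q := act 5 n4080
theorem D9074 : act 5 n4080 = n9074 := rfl
def n9075 : Q := act 6 n4080
theorem D9075 : act 6 n4080 = n9075 := rfl
theorem F14154 : act 4 n9075 = n4082 := d10_1 D9075 (iv6 D4082) D4080
def n9076 : Q := act 0 n4082
theorem D9076 : act 0 n4082 = n9076 := rfl
def n9077 : Q := act 1 n4082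
theorem D9077 : act 1 n4082 = n9077 := rfl
def n9078 : Q := act 5 n4082
theorem D9078 : act 5 n4082 = n9078 := rfl
theorem F14155 : act 6 n9078 = n8930 := d12_2 D4082 D9078 (iv5 D8930) (iv6 D3983) (iv5 F7023)
def n9079 : Q := act 7 n4082
theorem D9079 : act 7 n4082 = n9079 := rfl
def n9080 : Q := act 3 n4083
theorem D9080 : act 3 n4083 = n9080 := rfl
def n9081 : Q := act 5 n4083
theorem D9081 : act 5 n4083 = n9081 := rfl
theorem F14156 : act 1 n9081 = n8939 := d17_6 (iv1 F14065) (iv5 F7301) (iv1 F12147) (iv5 F7235) (iv4 F7234) D9081 (iv5 D8939) (iv0 F6912) (iv4 D4747)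
def n9082 : Q := act 6 n4083
theorem D9082 : act 6 n4083 = n9082 := rfl
def n9083 : Q := act 3 n4084
theorem D9083 : act 3 n4084 = n9083 := rfl
def n9084 : Q := act 5 n4084
theorem D9084 : act 5 n4084 = n9084 := rfl
theorem F14157 : act 0 n9084 = n8939 := d17_2 (iv1 F7334) D9084 (iv5 D8939) (iv4 D3987) (iv5 D1726) D1724 (iv5 F7023) F3355 (iv4 F7331)
theorem F14158 : act 3 n8499 = n9084 := d19_19 F14157 (iv5 D8939) (iv4 D3987) F2943 F1719 (iv5 D635) (iv4 D337) F496 (iv1 D109) (iv5 D26) (iv4 F21) (iv3 F77) D297 D583 D906 D1705 D3944 F13465 D8499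
theorem F14159 : act 5 n9083 = n8499 := d6_0 F14158 (iv5 D9084) D9083
def n9085 : Q := act 6 n4084
theorem D9085 : act 6 n4084 = n9085 := rfl
def n9086 : Q := act 0 n4085
theorem D9086 : act 0 n4085 = n9086 := rfl
def n9087 : Q := act 1 n4085
theorem D9087 : act 1 n4085 = n9087 := rfl
def n9088 : Q := act 4 n4085
theorem D9088 : act 4 n4085 = n9088 := rfl
def n9089 : Q := act 6 n4085
theorem D9089 : act 6 n4085 = n9089 := rfl
def n9090 : Q := act 0 n4086
theorem D9090 : act 0 n4086 = n9090 := rfl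
def n9091 : Q := act 1 n4086
theorem D9091 : act 1 n4086 = n9091 := rfl
def n9092 : Q := act 5 n4086
theorem D9092 : act 5 n4086 = n9092 := rfl
def n9093 : Q := act 7 n4086
theorem D9093 : act 7 n4086 = n9093 := rfl
theorem F14160 : act 4 n9093 = n4089 := d11_1 D9093 (iv7 D4089) (iv4 F6006)
def n9094 : Q := act 2 n4087
theorem D9094 : act 2 n4087 = n9094 := rfl
theorem F14161 : act 7 n4088 = n9094 := d15_2 (iv0 D4087) D4088 (iv2 D9094)
def n9095 : Q := act 3 n4087
theorem D9095 : act 3 n4087 = n9095 := rfl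
def n9096 : Q := act 4 n4087
theorem D9096 : act 4 n4087 = n9096 := rfl
def n9097 : Q := act 5 n4087
theorem D9097 : act 5 n4087 = n9097 := rfl
def n9098 : Q := act 6 n4087
theorem D9098 : act 6 n4087 = n9098 := rfl
theorem F14162 : act 5 n9098 = n9058 := d21_6 (iv5 D1754) (iv1 D929) D931 D1762 D4087 D9098 (iv1 D9058) (iv5 F13911) (iv6 D8932) (iv1 F7182)
def n9099 : Q := act 7 n4087
theorem D9099 : act 7 n4087 = n9099 := rfl
theorem F14163 : act 2 n9099 = n4088 := d4_1 D9099 F14161 (iv2 D9094)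
def n9100 : Q := act 3 n4088
theorem D9100 : act 3 n4088 = n9100 := rfl
def n9101 : Q := act 4 n4088
theorem D9101 : act 4 n4088 = n9101 := rfl
def n9102 : Q := act 5 n4088
theorem D9102 : act 5 n4088 = n9102 := rfl
theorem F14164 : act 6 n9057 = n9102 := d21_5 F7019 F6416 D1758 D4072 D9057 (iv5 D9102) (iv1 D4088) (iv5 F5932) (iv6 D3988) D3985
def n9103 : Q := act 6 n4088
theorem D9103 : act 6 n4088 = n9103 := rfl
def n9104 : Q := act 4 n4090
theorem D9104 : act 4 n4090 = n9104 := rfl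
theorem F14165 : act 2 n9104 = n8929 := d1_1 D9104 F13903 F12332
theorem F14166 : act 6 n9104 = n4209 := d10_2 (iv6 F7325) D9104 (iv4 D4209)
def n9105 : Q := act 5 n4090
theorem D9105 : act 5 n4090 = n9105 := rfl
theorem F14167 : act 2 n9105 = n8930 := d2_1 D9105 (iv5 D8930) F12332
def n9106 : Q := act 3 n4091
theorem D9106 : act 3 n4091 = n9106 := rfl
theorem F14168 : act 7 n9106 = n8927 := d8_2 (iv7 F12333) D9106 F13900
def n9107 : Q := act 4 n4091
theorem D9107 : act 4 n4091 = n9107 := rfl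
theorem F14169 : act 7 n9107 = n8929 := d11_2 (iv7 F12333) D9107 F13903
theorem F14170 : act 3 n9107 = n7980 := d20_3 F13028 (iv1 F6122) D9107 (iv1 F12748) F9706 F5808 F7113 (iv4 F6057) (iv3 F13860) (iv1 F13862)
def n9108 : Q := act 5 n4091
theorem D9108 : act 5 n4091 = n9108 := rfl
theorem F14171 : act 7 n9108 = n8930 := d13_2 (iv7 F12333) D9108 (iv5 D8930)
def n9109 : Q := act 6 n4091
theorem D9109 : act 6 n4091 = n9109 := rfl
theorem F14172 : act 2 n9109 = n8926 := d3_1 D9109 F13899 (iv2 F12335)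
theorem F14173 : act 7 n9109 = n4216 := d14_2 (iv7 F12333) D9109 (iv6 D4216) F12277 D3983
theorem F14174 : act 1 n8924 = n9109 := d15_1 D8924 F14173 F12324
theorem F14175 : act 1 n8926 = n9048 := d15_0 (iv0 F14122) (iv7 F14173) F14172
theorem F14176 : act 1 n9109 = n8923 := d15_0 (iv0 D8923) D8926 (iv2 F14172)
def n9110 : Q := act 1 n4092
theorem D9110 : act 1 n4092 = n9110 := rfl
theorem F14177 : act 5 n9109 = n9110 := d21_0 (iv1 D9110) (iv5 D4092) (iv6 D1763) (iv1 F6417) D4048 D9019 (iv1 F14127) (iv5 D9052) (iv6 F14126) (iv1 F14176)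
def n9111 : Q := act 4 n4092
theorem D9111 : act 4 n4092 = n9111 := rfl
def n9114 : Q := act 3 n4093
theorem D9114 : act 3 n4093 = n9114 := rfl
theorem F14180 : act 7 n9114 = n4099 := d8_2 F6009 D9114 (iv3 D4099)
def n9115 : Q := act 4 n4093
theorem D9115 : act 4 n4093 = n9115 := rfl
theorem F14181 : act 2 n9115 = n4095 := d1_1 D9115 (iv4 D4095) D4093
theorem F14182 : act 7 n9115 = n4100 := d11_2 F6009 D9115 (iv4 D4100)
def n9116 : Q := act 5 n4093
theorem D9116 : act 5 n4093 = n9116 := rfl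
theorem F14183 : act 2 n9116 = n4096 := d2_1 D9116 (iv5 D4096) D4093
theorem F14184 : act 7 n9116 = n4097 := d13_2 F6009 D9116 F6010
def n9117 : Q := act 6 n4093
theorem D9117 : act 6 n4093 = n9117 := rfl
theorem F14185 : act 2 n9117 = n4097 := d3_1 D9117 (iv6 D4097) D4093
theorem F14187 : act 7 n4096 = n9117 := d4_0 F14185 (iv7 F14184) F14183
def n9118 : Q := act 0 n4094
theorem D9118 : act 0 n4094 = n9118 := rfl
def n9119 : Q := act 1 n4094
theorem D9119 : act 1 n4094 = n9119 := rfl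
def n9120 : Q := act 2 n4094
theorem D9120 : act 2 n4094 = n9120 := rfl
def n9121 : Q := act 4 n4094
theorem D9121 : act 4 n4094 = n9121 := rfl
def n9122 : Q := act 5 n4094
theorem D9122 : act 5 n4094 = n9122 := rfl
theorem F14188 : act 3 n9122 = n4096 := d6_1 D9122 (iv5 D4096) D4094
def n9123 : Q := act 6 n4094
theorem D9123 : act 6 n4094 = n9123 := rfl
theorem F14189 : act 3 n9123 = n4097 := d7_1 D9123 (iv6 D4097) D4094
theorem F14190 : act 5 n4099 = n9123 := d6_0 F14189 F6010 D4099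
def n9124 : Q := act 7 n4094
theorem D9124 : act 7 n4094 = n9124 := rfl
def n9126 : Q := act 1 n4095
theorem D9126 : act 1 n4095 = n9126 := rfl
theorem F14192 : act 1 n9126 = n4100 := d15_1 D9126 (iv7 F14182) F14181
def n9127 : Q := act 3 n4095
theorem D9127 : act 3 n4095 = n9127 := rfl
def n9128 : Q := act 5 n4095
theorem D9128 : act 5 n4095 = n9128 := rfl
def n9129 : Q := act 6 n4095
theorem D9129 : act 6 n4095 = n9129 := rfl
theorem F14193 : act 4 n9129 = n4097 := d10_1 D9129 (iv6 D4097) D4095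
def n9130 : Q := act 7 n4095
theorem D9130 : act 7 n4095 = n9130 := rfl
theorem F14194 : act 2 n9130 = n4100 := d4_1 D9130 (iv7 F14182) F14181
def n9131 : Q := act 0 n4096
theorem D9131 : act 0 n4096 = n9131 := rfl
theorem F14197 : act 5 n9131 = n4568 := d21_2 D4096 D9131 (iv6 D4568) (iv1 D1900) (iv6 D980) (iv5 D635) F593 D614 D933 D1764
theorem F14198 : act 1 n4097 = n9131 := d15_0 (iv0 D9131) F14187 F14185
theorem F14199 : act 0 n4101 = n4496 := d21_10 (iv5 D4496) (iv1 F3166) F3165 (iv6 F3194) (iv1 F3196) D4568 (iv5 F14197) (iv1 F14198) F6010 D4101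
def n9132 : Q := act 1 n4096
theorem D9132 : act 1 n4096 = n9132 := rfl
theorem F14200 : act 1 n9132 = n4097 := d15_1 D9132 (iv7 F14184) F14183
def n9133 : Q := act 4 n4096
theorem D9133 : act 4 n4096 = n9133 := rfl
def n9134 : Q := act 6 n4096
theorem D9134 : act 6 n4096 = n9134 := rfl
theorem F14201 : act 5 n9134 = n4101 := d12_1 D9134 (iv6 D4101) (iv5 F6010) (iv6 D4097) D4096
theorem F14202 : act 7 n9134 = n4101 := d14_2 (iv7 F14187) D9134 (iv6 D4101) F6009 D9117
theorem F14203 : act 0 n9134 = n4305 := d21_10 F6191 (iv1 D1878) F1835 (iv6 D974) (iv1 F1720) D1727 F2945 D1764 D4096 D9134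
theorem F14204 : act 0 n4496 = n9134 := d21_1 D4496 F14201 (iv6 D4101) (iv1 D1765) (iv6 D933) (iv5 D614) (iv1 F590) D633 D974 D1877
theorem F14205 : act 2 n9134 = n9134 := d15_3 (iv0 F14204) (iv0 F14199) (iv7 F14202)
theorem F14206 : act 2 n4101 = n4101 := d2_3 (iv5 F14201) F14205 F14201
theorem E1861 : n9116 = n4096 := (c3_4 D9134 F14205 (iv6 D9134) (iv2 F14183))
theorem F14207 : act 2 n4096 = n4096 := (sb E1861 F14183)
theorem E1862 : n4093 = n1764 := ((((iv5 D4096)).symm.trans (sb E1861 (iv5 D9116)))).symm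
theorem E1863 : n9117 = n4097 := ((F14187).symm.trans (sb E1861 F14184))
theorem F14208 : act 2 n1764 = n1764 := (sb E1862 (iv2 D4093))
theorem E1866 : n9114 = n4094 := (((D4094).symm.trans (sb E1862 D9114))).symm
theorem E1867 : n9115 = n4095 := (((D4095).symm.trans (sb E1862 D9115))).symm
theorem E1868 : n4098 = n1765 := ((D4098).symm.trans (sb E1862 (iv7 F6009)))
theorem F14209 : act 2 n4097 = n4097 := (sb E1863 F14185)
theorem F14210 : act 7 n4097 = n4096 := (sb E1863 (iv7 F14187))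
theorem E1869 : n9124 = n4099 := ((D9124).symm.trans (sb E1866 F14180))
theorem F14211 : act 2 n4095 = n4095 := (sb E1867 F14181)
theorem E1870 : n9130 = n4100 := ((D9130).symm.trans (sb E1867 F14182))
theorem F14212 : act 2 n1765 = n1765 := (sb E1868 F6011)
theorem F14213 : act 7 n1765 = n1764 := (sb E1868 (iv7 D4098))
theorem F14214 : act 7 n4099 = n4094 := (sb E1869 (iv7 D9124))
theorem F14215 : act 2 n4100 = n4100 := (sb E1870 F14194)
theorem F14216 : act 7 n4100 = n4095 := (sb E1870 (iv7 D9130))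
theorem F14217 : act 7 n9122 = n9123 := d13_2 F14214 D9122 (iv5 F14190)
theorem F14219 : act 2 n9129 = n9129 := d3_3 (iv6 D9129) F14211 D9129
theorem F14220 : act 7 n9133 = n9129 := d11_2 F14210 D9133 F14193
theorem F14221 : act 2 n9133 = n9133 := d4_3 F14220 F14219 (iv7 F14220)
theorem F14222 : act 3 n9120 = n9120 := d0_4 (iv3 D4094) F14208 D4094 D9120 (iv2 D9120)
theorem F14223 : act 1 n4101 = n4305 := d15_0 (iv0 F14203) F14202 F14206
def n9135 : Q := act 0 n4099
theorem D9135 : act 0 n4099 = n9135 := rfl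
theorem F14224 : act 1 n9120 = n9135 := d15_0 (iv0 D9135) F14214 D9120
def n9136 : Q := act 1 n4099
theorem D9136 : act 1 n4099 = n9136 := rfl
def n9137 : Q := act 2 n4099
theorem D9137 : act 2 n4099 = n9137 := rfl
theorem F14225 : act 3 n9137 = n9137 := d0_2 D4099 D9137 (iv2 D9137) (iv3 D4099) F14212
theorem F14226 : act 7 n9137 = n9120 := d4_2 (iv7 F14214) D9137 (iv2 D9120)
theorem F14227 : act 1 n9137 = n9118 := d15_0 (iv0 D9118) (iv7 F14214) D9137
theorem F14228 : act 1 n9136 = n9120 := d15_1 D9136 (iv7 F14226) (iv2 D9137)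
theorem F14229 : act 1 n9119 = n9137 := d15_1 D9119 F14226 (iv2 D9120)
def n9138 : Q := act 4 n4099
theorem D9138 : act 4 n4099 = n9138 := rfl
theorem F14230 : act 7 n9138 = n9121 := d11_2 (iv7 F14214) D9138 (iv4 D9121)
def n9139 : Q := act 6 n4099
theorem D9139 : act 6 n4099 = n9139 := rfl
theorem F14231 : act 3 n9139 = n4101 := d7_1 D9139 (iv6 D4101) D4099
def n9140 : Q := act 3 n4100
theorem D9140 : act 3 n4100 = n9140 := rfl
theorem F14232 : act 7 n9140 = n9127 := d8_2 (iv7 F14216) D9140 (iv3 D9127)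
def n9141 : Q := act 5 n4100
theorem D9141 : act 5 n4100 = n9141 := rfl
theorem F14233 : act 2 n9141 = n9141 := d2_1 D9141 (iv5 D9141) F14215
theorem F14234 : act 7 n9141 = n9128 := d13_2 (iv7 F14216) D9141 (iv5 D9128)
def n9142 : Q := act 6 n4100
theorem D9142 : act 6 n4100 = n9142 := rfl
theorem F14235 : act 2 n9142 = n9142 := d3_1 D9142 (iv6 D9142) F14215
theorem F14236 : act 4 n9142 = n4101 := d10_1 D9142 (iv6 D4101) D4100
def n9143 : Q := act 3 n4102
theorem D9143 : act 3 n4102 = n9143 := rfl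
def n9144 : Q := act 4 n4103
theorem D9144 : act 4 n4103 = n9144 := rfl
theorem F14237 : act 2 n9144 = n4177 := d1_1 D9144 F6074 (iv2 F6014)
theorem F14238 : act 7 n9144 = n4160 := d11_2 (iv7 F6016) D9144 (iv4 D4160)
theorem F14239 : act 0 n9144 = n4173 := d18_2 (iv1 F6018) D9144 (iv4 F7185) (iv5 D4030) (iv4 F6424) (iv0 F6429) F1656 F6536 (iv5 F7120)
theorem F14240 : act 1 n9144 = n4172 := d18_6 F6152 (iv4 D3540) D3537 F5565 D4103 D9144 F13399 (iv0 F13398) (iv5 D4253)
def n9145 : Q := act 6 n4103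
theorem D9145 : act 6 n4103 = n9145 := rfl
theorem F14241 : act 2 n9145 = n4181 := d3_1 D9145 (iv6 D4181) (iv2 F6014)
theorem F14242 : act 3 n9145 = n9145 := d7_1 D9145 (iv6 D9145) F6015
def n9146 : Q := act 5 n4104
theorem D9146 : act 5 n4104 = n9146 := rfl
theorem F14243 : act 2 n9146 = n4184 := d2_1 D9146 (iv5 D4184) (iv2 F6019)
theorem F14244 : act 3 n9146 = n9146 := d6_1 D9146 (iv5 D9146) F6020
theorem F14245 : act 7 n9146 = n4725 := d13_2 (iv7 F6021) D9146 (iv5 D4725)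
theorem F14246 : act 0 n9146 = n4944 := d21_1 D9146 (iv5 F7367) (iv6 D4943) (iv1 D2033) (iv6 D1018) (iv5 F1893) (iv1 F3310) (iv5 F6987) (iv6 F6989) (iv1 F6023)
theorem F14247 : act 0 n4131 = n9146 := d21_7 F7108 (iv1 D1014) (iv5 D646) (iv6 F1128) D935 D1773 D4131 (iv5 D9146) (iv6 D4104) (iv1 F3029)
def n9147 : Q := act 6 n4107
theorem D9147 : act 6 n4107 = n9147 := rfl
theorem F14248 : act 3 n9147 = n4110 := d7_1 D9147 (iv6 D4110) D4107
def n9148 : Q := act 6 n4108
theorem D9148 : act 6 n4108 = n9148 := rfl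
theorem F14249 : act 2 n9148 = n4122 := d3_1 D9148 (iv6 D4122) (iv2 F6027)
theorem F14250 : act 3 n9148 = n8008 := d7_1 D9148 (iv6 D8008) (iv3 F6287)
theorem F14251 : act 4 n9148 = n4110 := d10_1 D9148 (iv6 D4110) D4108
def n9149 : Q := act 1 n4110
theorem D9149 : act 1 n4110 = n9149 := rfl
theorem F14252 : act 1 n9149 = n4132 := d15_1 D9149 (iv7 D4132) (iv2 F6031)
def n9150 : Q := act 5 n4110
theorem D9150 : act 5 n4110 = n9150 := rfl
theorem F14253 : act 2 n9150 = n4131 := d2_1 D9150 (iv5 D4131) (iv2 F6031)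
theorem F14254 : act 7 n9150 = n4944 := d13_2 F7363 D9150 (iv5 F7367)
theorem F14255 : act 0 n9150 = n4184 := d21_7 F6987 (iv1 D2009) (iv5 D1012) (iv6 F1755) F6289 D4110 D9150 (iv5 D4184) (iv6 D1787) (iv1 F6294)
theorem F14256 : act 0 n4725 = n9150 := d21_7 (iv5 F3039) F6908 (iv5 D1003) F7114 D999 D1954 D4725 (iv5 D9150) (iv6 D4110) (iv1 F6288)
def n9151 : Q := act 5 n4112
theorem D9151 : act 5 n4112 = n9151 := rfl
theorem F14257 : act 2 n9151 = n4684 := d2_1 D9151 (iv5 F7301) (iv2 F6269)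
theorem F14258 : act 3 n9151 = n4359 := d6_1 D9151 (iv5 D4359) F6034
theorem F14259 : act 7 n9151 = n4746 := d13_2 F12146 D9151 (iv5 F6913)
theorem F14260 : act 0 n9151 = n4163 := d17_2 (iv1 F13976) D9151 F7137 F6535 D3959 F12786 (iv5 D8011) F6056 (iv4 F13973)
theorem F14261 : act 1 n9151 = n4740 := d15_0 F12150 F12143 (iv2 F14257)
def n9152 : Q := act 6 n4112
theorem D9152 : act 6 n4112 = n9152 := rfl
def n9153 : Q := act 6 n4113
theorem D9153 : act 6 n4113 = n9153 := rfl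
theorem F14264 : act 2 n9153 = n4116 := d3_1 D9153 (iv6 D4116) D4113
theorem F14265 : act 4 n9153 = n8008 := d10_1 D9153 (iv6 D8008) F6281
def n9154 : Q := act 3 n4114
theorem D9154 : act 3 n4114 = n9154 := rfl
theorem F14266 : act 2 n9154 = n4120 := d0_1 D9154 (iv3 D4120) (iv2 F6027) F6287 (iv2 F6282)
theorem F14267 : act 4 n9154 = n4120 := d5_2 D4114 D9154 (iv3 D4120) (iv4 D1771) D1770
theorem F14268 : act 7 n9154 = n8009 := d8_2 F6283 D9154 (iv3 D8009)
theorem F14269 : act 0 n9154 = n8024 := d20_10 (iv4 F12831) (iv1 F5887) F5561 (iv3 F5903) (iv1 F5907) D7775 F12242 (iv1 D4112) D4114 D9154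
theorem F14270 : act 0 n6142 = n9154 := d20_4 F12350 (iv1 F12838) (iv4 D6143) D6142 (iv3 D9154) (iv4 D4114) (iv1 F12149) (iv4 F13885) (iv3 F13889) (iv1 F12348)
def n9155 : Q := act 6 n4114
theorem D9155 : act 6 n4114 = n9155 := rfl
theorem F14271 : act 2 n9155 = n8008 := d3_1 D9155 (iv6 D8008) (iv2 F6282)
theorem F14272 : act 4 n9155 = n4116 := d10_1 D9155 (iv6 D4116) D4114
def n9156 : Q := act 0 n4116
theorem D9156 : act 0 n4116 = n9156 := rfl
def n9157 : Q := act 1 n4116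
theorem D9157 : act 1 n4116 = n9157 := rfl
def n9158 : Q := act 5 n4116
theorem D9158 : act 5 n4116 = n9158 := rfl
theorem F14273 : act 3 n9158 = n4131 := d6_1 D9158 (iv5 D4131) (iv3 F6036)
def n9159 : Q := act 7 n4116
theorem D9159 : act 7 n4116 = n9159 := rfl
theorem F14274 : act 3 n9159 = n4132 := d8_1 D9159 (iv7 D4132) (iv3 F6036)
def n9160 : Q := act 5 n4118
theorem D9160 : act 5 n4118 = n9160 := rfl
theorem F14275 : act 2 n9160 = n4763 := d2_1 D9160 (iv5 F12103) (iv2 F12106)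
theorem F14276 : act 3 n9160 = n8954 := d6_1 D9160 (iv5 D8954) F6039
theorem F14277 : act 7 n9160 = n4762 := d13_2 (iv7 F12181) D9160 F6937
theorem F14278 : act 0 n9160 = n4728 := d17_2 D4118 D9160 (iv5 D4728) (iv4 D1958) (iv5 F7124) F6017 (iv5 D4103) (iv0 D1768) D1771
theorem F14279 : act 1 n9160 = n4766 := d17_6 F5822 D3849 (iv1 F12198) (iv5 D4375) (iv4 F6038) D9160 F6876 F6539 (iv4 F5820)
theorem F14280 : act 4 n9160 = n8563 := d18_5 F12288 F12286 F12193 (iv4 F6038) D9160 F13406 (iv4 D3851) (iv0 F6940) (iv5 D3550)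
def n9161 : Q := act 6 n4118
theorem D9161 : act 6 n4118 = n9161 := rfl
theorem F14281 : act 2 n9161 = n8198 := d3_1 D9161 (iv6 D8198) (iv2 F12106)
theorem F14282 : act 3 n9161 = n8955 := d7_1 D9161 (iv6 D8955) F6039
theorem F14283 : act 4 n9161 = n4376 := d10_1 D9161 (iv6 D4376) (iv4 F6038)
theorem F14284 : act 0 n4938 = n9161 := d20_1 D4938 F14283 F6313 (iv1 F7286) F3142 F1826 (iv1 F1166) (iv4 F1213) (iv3 F1894) D2032
theorem F14285 : act 1 n4938 = n8234 := d15_1 (iv0 F14284) F13012 (iv2 F14281)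
theorem F14286 : act 1 n8234 = n4941 := d15_1 F14285 F7360 (iv2 F7356)
theorem F14287 : act 0 n9161 = n4941 := d20_10 (iv4 D4941) (iv1 D2033) (iv4 F2866) F2865 D1697 D3933 F5866 (iv1 F7291) (iv4 F13932) (iv3 F14282)
def n9162 : Q := act 6 n4119
theorem D9162 : act 6 n4119 = n9162 := rfl
def n9163 : Q := act 5 n4120
theorem D9163 : act 5 n4120 = n9163 := rfl
theorem F14289 : act 3 n9163 = n4121 := d6_1 D9163 (iv5 D4121) D4120
theorem F14290 : act 0 n9163 = n8057 := d18_0 F13628 (iv1 D8725) (iv4 D3905) F2868 F2715 D3533 (iv4 F5664) (iv0 F6043) D9163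
theorem E1871 : n8720 = n1658 := (c17_4 (iv1 F5891) (iv5 F9765) (iv1 F9769) D8720 (iv4 F5732) (iv5 F13442) (iv0 F14290) (iv5 D9163) F12802 (iv4 D7784))
theorem E1872 : n3903 = n3798 := (((D3798).symm.trans (sb E1871 (iv5 D8720)))).symm
theorem E1873 : n8479 = n1689 := (((iv1 F13268)).symm.trans (sb E1872 (iv1 D3903)))
theorem E1874 : n8478 = n6278 := ((F13267).symm.trans (sb E1872 F9769))
theorem E1880 : n3902 = n3794 := ((D3902).symm.trans (sb E1873 (iv1 D8479)))
theorem F14291 : act 1 n1689 = n3798 := (sb E1873 F13268)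
theorem F14292 : act 0 n6278 = n3798 := (sb E1874 (iv1 F13267))
theorem F14293 : act 0 n3794 = n6278 := (sb E1880 (iv1 F9767))
theorem F14294 : act 1 n3794 = n1689 := (sb E1880 (iv0 D3902))
theorem F14295 : act 0 n8882 = n8476 := d17_2 (iv1 F12974) (iv5 F13854) (iv5 D8476) (iv4 D3793) D3794 F14294 F2868 D3533 (iv4 F5664)
theorem F14296 : act 4 n8476 = n8724 := d18_5 (iv1 D1658) F1653 D1657 D3793 D8476 (iv0 D8724) (iv4 D3905) F14291 (iv5 D3798)
theorem E1885 : n8853 = n7792 := ((c21_5 D3798 (iv1 F14291) F2868 D3535 D7792 (iv6 D8853) F13465 (iv1 F9676) (iv5 D6212) F4197 (iv1 F4201))).symm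
theorem F14297 : act 2 n7792 = n7790 := (sb E1885 F13783)
theorem F14298 : act 6 n7792 = n3944 := (sb E1885 (iv6 D8853))
theorem F14299 : act 7 n7792 = n8834 := (sb E1885 (iv7 F13784))
theorem F14300 : act 2 n8834 = n7793 := d15_3 F13733 F13731 F14299
theorem F14301 : act 7 n7790 = n7793 := d4_2 (iv7 F14299) F14297 (iv2 F14300)
def n9164 : Q := act 6 n4120
theorem D9164 : act 6 n4120 = n9164 := rfl
theorem F14302 : act 3 n9164 = n4122 := d7_1 D9164 (iv6 D4122) D4120
def n9165 : Q := act 7 n4120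
theorem D9165 : act 7 n4120 = n9165 := rfl
theorem F14303 : act 2 n9165 = n8009 := d4_1 D9165 (iv7 F14268) F14266
theorem F14304 : act 3 n9165 = n4123 := d8_1 D9165 (iv7 D4123) D4120
theorem F14305 : act 4 n9165 = n8009 := d11_1 D9165 (iv7 F14268) F14267
theorem F14306 : act 1 n6142 = n9165 := d15_1 (iv0 F14270) (iv7 D9165) (iv2 F14266)
theorem F14307 : act 1 n9165 = n8024 := d15_1 F14306 (iv7 F12801) (iv2 F12828)
def n9166 : Q := act 6 n4121
theorem D9166 : act 6 n4121 = n9166 := rfl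
theorem F14308 : act 4 n9166 = n8645 := d10_1 D9166 (iv6 D8645) (iv4 F7228)
def n9167 : Q := act 7 n4121
theorem D9167 : act 7 n4121 = n9167 := rfl
theorem F14309 : act 2 n9167 = n4140 := d4_1 D9167 (iv7 F13846) F13850
theorem F14310 : act 4 n9167 = n8610 := d11_1 D9167 F13852 (iv4 F7228)
theorem F14311 : act 5 n9167 = n4123 := d13_1 D9167 (iv7 D4123) D4121
theorem F14312 : act 0 n8218 = n9167 := d17_2 F6545 (iv5 F13338) F14311 F6046 F6987 F3310 F1893 (iv0 F6540) D1958
def n9168 : Q := act 0 n4122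
theorem D9168 : act 0 n4122 = n9168 := rfl
def n9169 : Q := act 1 n4122
theorem D9169 : act 1 n4122 = n9169 := rfl
def n9170 : Q := act 5 n4122
theorem D9170 : act 5 n4122 = n9170 := rfl
def n9171 : Q := act 7 n4122
theorem D9171 : act 7 n4122 = n9171 := rfl
theorem F14313 : act 4 n9171 = n4132 := d11_1 D9171 (iv7 D4132) (iv4 F6044)
def n9172 : Q := act 2 n4129
theorem D9172 : act 2 n4129 = n9172 := rfl
theorem F14314 : act 6 n9172 = n4841 := d3_2 (iv6 F7237) D9172 F6974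
theorem F14315 : act 7 n4130 = n9172 := d15_2 (iv0 D4129) D4130 (iv2 D9172)
def n9173 : Q := act 3 n4129
theorem D9173 : act 3 n4129 = n9173 := rfl
theorem F14316 : act 6 n9173 = n4842 := d7_2 (iv6 F7237) D9173 (iv3 D4842)
def n9174 : Q := act 5 n4129
theorem D9174 : act 5 n4129 = n9174 := rfl
theorem F14317 : act 0 n9174 = n4146 := d21_1 D9174 (iv5 D4146) (iv6 D1778) (iv1 D936) F1128 D646 D1013 (iv5 F7097) D1773 D4129
def n9175 : Q := act 7 n4129
theorem D9175 : act 7 n4129 = n9175 := rfl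
theorem F14318 : act 2 n9175 = n4130 := d4_1 D9175 F14315 (iv2 D9172)
def n9178 : Q := act 5 n4130
theorem D9178 : act 5 n4130 = n9178 := rfl
def n9179 : Q := act 6 n4130
theorem D9179 : act 6 n4130 = n9179 := rfl
theorem F14319 : act 7 n9179 = n4840 := d14_2 (iv7 F14315) D9179 (iv6 D4840) D4841 (iv6 F14314)
theorem F14320 : act 2 n9179 = n9149 := d15_3 F14252 F7365 (iv7 F14319)
theorem F14321 : act 6 n9149 = n9175 := d3_2 D9179 F14320 F14318
def n9180 : Q := act 4 n4131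
theorem D9180 : act 4 n4131 = n9180 := rfl
def n9181 : Q := act 7 n4131
theorem D9181 : act 7 n4131 = n9181 := rfl
theorem F14322 : act 2 n9181 = n4944 := d4_1 D9181 (iv7 F14254) F14253
theorem F14323 : act 5 n9181 = n4132 := d13_1 D9181 (iv7 D4132) D4131
theorem F14324 : act 1 n4725 = n9181 := d15_1 (iv0 F14256) (iv7 D9181) (iv2 F14253)
theorem F14325 : act 1 n9181 = n4184 := d15_1 F14324 F6081 (iv2 F6819)
def n9182 : Q := act 6 n4135
theorem D9182 : act 6 n4135 = n9182 := rfl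
theorem F14326 : act 2 n9182 = n4138 := d3_1 D9182 (iv6 D4138) D4135
theorem F14327 : act 4 n9182 = n4138 := d10_1 D9182 (iv6 D4138) (iv4 F6300)
theorem F14328 : act 0 n9182 = n4378 := d21_4 D4452 F7242 F7241 D9182 (iv6 D4378) D4377 (iv1 F12164) F7142 F7131 F6542
def n9183 : Q := act 0 n4138
theorem D9183 : act 0 n4138 = n9183 := rfl
def n9184 : Q := act 1 n4138
theorem D9184 : act 1 n4138 = n9184 := rfl
def n9185 : Q := act 5 n4138
theorem D9185 : act 5 n4138 = n9185 := rfl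
theorem F14329 : act 3 n9185 = n4146 := d6_1 D9185 (iv5 D4146) (iv3 F6054)
def n9186 : Q := act 6 n4140
theorem D9186 : act 6 n4140 = n9186 := rfl
theorem F14330 : act 4 n9186 = n8649 := d10_1 D9186 (iv6 D8649) (iv4 F7224)
def n9187 : Q := act 1 n4141
theorem D9187 : act 1 n4141 = n9187 := rfl
theorem F14331 : act 7 n9187 = n9161 := d15_2 (iv0 F12979) D9187 F14281
theorem F14332 : act 2 n8234 = n9187 := d4_3 F14331 F14281 (iv7 F13012)
theorem F14333 : act 4 n4415 = n9187 := d11_3 F14331 F14283 F12235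
theorem E1886 : n9183 = n4238 := (c20_11 F6148 D4245 F7071 F7070 F7068 D4415 F14333 (iv1 D9187) F6057 (iv3 F6054) D9183)
theorem F14334 : act 1 n4238 = n4138 := (sb E1886 (iv0 D9183))
theorem E1887 : n9184 = n4416 := (c15_2 F14334 D9184 (iv7 F12216) F12238)
theorem F14335 : act 0 n4416 = n4138 := (sb E1887 (iv1 D9184))
def n9188 : Q := act 5 n4141
theorem D9188 : act 5 n4141 = n9188 := rfl
def n9189 : Q := act 0 n4146
theorem D9189 : act 0 n4146 = n9189 := rfl
theorem F14336 : act 5 n9189 = n9179 := d21_2 D4146 D9189 (iv6 D9179) (iv1 D4130) (iv6 D1773) F7097 (iv1 F3269) (iv5 D1953) D1954 F7113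
def n9190 : Q := act 4 n4146
theorem D9190 : act 4 n4146 = n9190 := rfl
def n9191 : Q := act 3 n4160
theorem D9191 : act 3 n4160 = n9191 := rfl
theorem F14337 : act 4 n9191 = n9191 := d5_2 D4160 D9191 (iv3 D9191) (iv4 D4160) F3035
def n9192 : Q := act 5 n4160
theorem D9192 : act 5 n4160 = n9192 := rfl
theorem F14338 : act 2 n9192 = n4175 := d2_1 D9192 (iv5 D4175) (iv2 F6064)
def n9193 : Q := act 6 n4160
theorem D9193 : act 6 n4160 = n9193 := rfl
theorem F14339 : act 2 n9193 = n4176 := d3_1 D9193 (iv6 D4176) (iv2 F6064)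
theorem F14340 : act 4 n9193 = n4161 := d10_1 D9193 (iv6 D4161) D4160
def n9194 : Q := act 0 n4161
theorem D9194 : act 0 n4161 = n9194 := rfl
def n9195 : Q := act 1 n4161
theorem D9195 : act 1 n4161 = n9195 := rfl
theorem F14341 : act 1 n9195 = n4180 := d15_1 D9195 (iv7 D4180) (iv2 F6065)
def n9196 : Q := act 7 n4161
theorem D9196 : act 7 n4161 = n9196 := rfl
theorem F14342 : act 2 n9196 = n4180 := d4_1 D9196 (iv7 D4180) (iv2 F6065)
theorem F14343 : act 3 n9196 = n9196 := d8_1 D9196 (iv7 D9196) F6066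
theorem F14344 : act 5 n9196 = n4866 := d13_1 D9196 (iv7 D4866) (iv5 F6067)
theorem F14345 : act 1 n4180 = n9194 := d15_0 (iv0 D9194) D9196 F14342
theorem F14346 : act 1 n4179 = n9196 := d15_1 D4179 (iv7 D9196) F6065
theorem F14347 : act 1 n9196 = n4178 := d15_0 (iv0 D4178) D4180 (iv2 F14342)
def n9197 : Q := act 2 n4163
theorem D9197 : act 2 n4163 = n9197 := rfl
theorem F14348 : act 3 n9197 = n4811 := d0_2 D4163 D9197 F6900 F3300 (iv2 F7119)
theorem F14349 : act 5 n9197 = n4649 := d2_2 (iv5 F7137) D9197 (iv2 F6716)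
theorem F14350 : act 7 n9197 = n4740 := d4_2 (iv7 F7138) D9197 F6846
theorem F14351 : act 1 n9197 = n4684 := d15_0 F14065 (iv7 F7138) D9197
theorem F14352 : act 1 n4746 = n9197 := d15_0 F14351 (iv7 F12143) F6933
theorem F14353 : act 4 n8938 = n9197 := d18_3 (iv1 D3986) D3987 D8938 F14349 F6715 (iv0 F3302) F2930 F6411 (iv5 F7015)
def n9198 : Q := act 4 n4163
theorem D9198 : act 4 n4163 = n9198 := rfl
theorem F14354 : act 2 n9198 = n8938 := d1_1 D9198 F14353 (iv2 D9197)
theorem F14355 : act 7 n9198 = n4747 := d11_2 (iv7 F7138) D9198 (iv4 D4747)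
theorem F14356 : act 0 n9198 = n4174 := d18_2 F14260 D9198 F6070 F3042 D1798 (iv0 F6032) (iv4 D4114) D4112 D9151
theorem F14357 : act 1 n9198 = n8931 := d18_6 D1745 (iv4 F5909) (iv1 F5912) (iv4 F6535) (iv5 F7137) D9198 (iv4 D8931) F7179 (iv5 D1749)
theorem F14358 : act 5 n9087 = n9198 := d17_7 (iv1 F7182) (iv5 D1754) (iv1 D929) D931 D1761 D4085 D9087 F14357 (iv4 D8931)
def n9199 : Q := act 6 n4163
theorem D9199 : act 6 n4163 = n9199 := rfl
theorem F14359 : act 3 n9199 = n4166 := d7_1 D9199 (iv6 D4166) D4163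
def n9200 : Q := act 0 n4164
theorem D9200 : act 0 n4164 = n9200 := rfl
theorem F14360 : act 4 n9200 = n4375 := d18_3 D1782 D4164 D9200 (iv5 D4375) (iv4 F6038) (iv0 D4118) (iv4 D1771) (iv0 D935) D938
theorem F14361 : act 1 n4169 = n9200 := d15_0 (iv0 D9200) F7140 (iv2 F7144)
theorem F14362 : act 2 n4783 = n9200 := d1_3 F14360 F13998 (iv4 F13999)
theorem F14363 : act 7 n4782 = n9200 := d11_0 F14360 F12237 F6920
def n9201 : Q := act 1 n4164
theorem D9201 : act 1 n4164 = n9201 := rfl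
theorem F14364 : act 1 n9201 = n4169 := d15_1 D9201 F7145 (iv2 F7139)
theorem F14365 : act 7 n9201 = n4783 := d15_2 (iv0 D9200) D9201 F14362
theorem F14366 : act 4 n9201 = n8557 := d18_7 D3828 F5820 (iv1 F6539) F3293 (iv5 F7120) D4164 D9201 (iv0 D8557) (iv5 D3831)
theorem F14367 : act 2 n4782 = n9201 := d1_3 F14366 (iv2 F13389) F6920
def n9202 : Q := act 3 n4164
theorem D9202 : act 3 n4164 = n9202 := rfl
theorem F14368 : act 7 n9202 = n4784 := d8_2 (iv7 F7140) D9202 (iv3 D4784)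
def n9203 : Q := act 5 n4164
theorem D9203 : act 5 n4164 = n9203 := rfl
theorem F14369 : act 2 n9203 = n4830 := d2_1 D9203 (iv5 D4830) (iv2 F7139)
theorem F14370 : act 7 n9203 = n4785 := d13_2 (iv7 F7140) D9203 (iv5 D4785)
def n9204 : Q := act 6 n4164
theorem D9204 : act 6 n4164 = n9204 := rfl
theorem F14371 : act 2 n9204 = n4831 := d3_1 D9204 (iv6 D4831) (iv2 F7139)
theorem F14372 : act 4 n9204 = n4166 := d10_1 D9204 (iv6 D4166) D4164
def n9205 : Q := act 0 n4166
theorem D9205 : act 0 n4166 = n9205 := rfl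
def n9206 : Q := act 1 n4166
theorem D9206 : act 1 n4166 = n9206 := rfl
theorem F14373 : act 1 n9206 = n4835 := d15_1 D9206 (iv7 D4835) (iv2 F7141)
def n9207 : Q := act 5 n4166
theorem D9207 : act 5 n4166 = n9207 := rfl
theorem F14374 : act 2 n9207 = n4834 := d2_1 D9207 (iv5 D4834) (iv2 F7141)
theorem F14375 : act 6 n9207 = n4810 := d12_2 D4166 D9207 (iv5 D4810) (iv6 D1983) (iv5 F7120)
def n9208 : Q := act 7 n4166
theorem D9208 : act 7 n4166 = n9208 := rfl
theorem F14376 : act 2 n9208 = n4835 := d4_1 D9208 (iv7 D4835) (iv2 F7141)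
theorem F14377 : act 6 n9208 = n4791 := d14_1 D9208 (iv7 D4791) (iv6 D1977) (iv7 F7121) D4166
theorem F14378 : act 1 n4835 = n9205 := d15_0 (iv0 D9205) D9208 F14376
theorem F14379 : act 1 n4833 = n9208 := d15_1 D4833 (iv7 D9208) F7141
theorem F14380 : act 1 n9208 = n4832 := d15_0 (iv0 D4832) D4835 (iv2 F14376)
def n9209 : Q := act 2 n4168
theorem D9209 : act 2 n4168 = n9209 := rfl
theorem F14381 : act 3 n9209 = n4740 := d0_2 D4168 D9209 F6846 F3283 (iv2 F7123)
theorem F14382 : act 5 n9209 = n4504 := d2_2 (iv5 F7142) D9209 (iv2 F6524)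
theorem F14383 : act 7 n9209 = n4811 := d4_2 (iv7 F7143) D9209 F6900
theorem F14384 : act 1 n9209 = n4237 := d15_0 F6914 (iv7 F7143) D9209
theorem F14385 : act 1 n4255 = n9209 := d15_0 F14384 (iv7 F12160) (iv2 F12161)
def n9210 : Q := act 4 n4168
theorem D9210 : act 4 n4168 = n9210 := rfl
theorem F14386 : act 7 n9210 = n4815 := d11_2 (iv7 F7143) D9210 (iv4 D4815)
theorem F14387 : act 0 n9210 = n4257 := d18_2 (iv1 F12164) D9210 (iv4 D4257) (iv5 D1809) D1808 (iv0 F6298) F6300 (iv0 F6268) D4377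
theorem F14388 : act 1 n9210 = n4242 := d18_6 D975 D1882 D4504 (iv4 F6544) (iv5 F7142) D9210 (iv4 D4242) F6922 (iv5 D978)
def n9211 : Q := act 6 n4168
theorem D9211 : act 6 n4168 = n9211 := rfl
theorem F14389 : act 3 n9211 = n4171 := d7_1 D9211 (iv6 D4171) D4168
theorem F14390 : act 5 n9211 = n9211 := d12_1 D9211 (iv6 D9211) F7142 F7131 (iv5 F7142)
def n9212 : Q := act 3 n4169
theorem D9212 : act 3 n4169 = n9212 := rfl
theorem F14391 : act 7 n9212 = n4829 := d8_2 (iv7 F7145) D9212 (iv3 D4829)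
def n9213 : Q := act 5 n4169
theorem D9213 : act 5 n4169 = n9213 := rfl
theorem F14392 : act 2 n9213 = n4785 := d2_1 D9213 (iv5 D4785) (iv2 F7144)
theorem F14393 : act 7 n9213 = n4830 := d13_2 (iv7 F7145) D9213 (iv5 D4830)
def n9214 : Q := act 6 n4169
theorem D9214 : act 6 n4169 = n9214 := rfl
theorem F14394 : act 2 n9214 = n4786 := d3_1 D9214 (iv6 D4786) (iv2 F7144)
theorem F14395 : act 4 n9214 = n4171 := d10_1 D9214 (iv6 D4171) D4169
def n9215 : Q := act 0 n4171
theorem D9215 : act 0 n4171 = n9215 := rfl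
def n9216 : Q := act 1 n4171
theorem D9216 : act 1 n4171 = n9216 := rfl
theorem F14396 : act 1 n9216 = n4791 := d15_1 D9216 (iv7 D4791) (iv2 F7146)
def n9217 : Q := act 7 n4171
theorem D9217 : act 7 n4171 = n9217 := rfl
theorem F14397 : act 2 n9217 = n4791 := d4_1 D9217 (iv7 D4791) (iv2 F7146)
theorem F14398 : act 5 n9217 = n9217 := d13_1 D9217 (iv7 D9217) F7147
theorem F14399 : act 6 n9217 = n4835 := d14_1 D9217 (iv7 D4835) (iv6 D1993) (iv7 F7125) D4171
theorem F14400 : act 1 n4791 = n9215 := d15_0 (iv0 D9215) D9217 F14397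
theorem F14401 : act 1 n4789 = n9217 := d15_1 D4789 (iv7 D9217) F7146
theorem F14402 : act 1 n9217 = n4788 := d15_0 (iv0 D4788) D4791 (iv2 F14397)
def n9218 : Q := act 3 n4172
theorem D9218 : act 3 n4172 = n9218 := rfl
def n9219 : Q := act 5 n4172
theorem D9219 : act 5 n4172 = n9219 := rfl
theorem F14403 : act 2 n9219 = n4914 := d2_1 D9219 F13493 F13489
theorem F14404 : act 7 n9219 = n4913 := d13_2 F13400 D9219 (iv5 F13392)
theorem F14405 : act 0 n9219 = n4862 := d17_2 D4172 D9219 (iv5 D4862) (iv4 D2010) (iv5 D1012) F6536 (iv5 F7120) (iv0 D1782) D1784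
theorem F14406 : act 1 n9219 = n4917 := d17_6 (iv1 F12196) F7060 F6469 (iv5 F13397) (iv4 F13399) D9219 F7343 F7005 (iv4 F7006)
def n9220 : Q := act 6 n4172
theorem D9220 : act 6 n4172 = n9220 := rfl
def n9221 : Q := act 3 n4173
theorem D9221 : act 3 n4173 = n9221 := rfl
theorem F14407 : act 4 n9221 = n9013 := d5_2 F7185 D9221 (iv3 D9013) (iv4 D4041) (iv3 F5965)
def n9222 : Q := act 5 n4173
theorem D9222 : act 5 n4173 = n9222 := rfl
theorem F14408 : act 2 n9222 = n4913 := d2_1 D9222 (iv5 F13392) F13391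
theorem F14409 : act 7 n9222 = n4914 := d13_2 F13490 D9222 F13493
theorem F14410 : act 0 n9222 = n4917 := d17_2 F14239 D9222 F7343 F3320 F1893 (iv0 F6540) (iv5 F7124) F6017 D9144
theorem F14411 : act 1 n9222 = n4862 := d15_1 (iv0 F14410) (iv7 F13567) F13564
def n9223 : Q := act 6 n4173
theorem D9223 : act 6 n4173 = n9223 := rfl
theorem F14412 : act 4 n9223 = n9002 := d10_1 D9223 (iv6 D9002) F7185
def n9224 : Q := act 0 n4174
theorem D9224 : act 0 n4174 = n9224 := rfl
theorem F14413 : act 4 n9224 = n4740 := d18_3 F7181 (iv4 F6070) D9224 (iv5 D4740) F6530 (iv0 D1714) F1708 D929 D1754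
theorem F14414 : act 2 n4747 = n9224 := d15_3 (iv0 D9224) (iv0 F14356) F14355
theorem F14415 : act 1 n8931 = n9224 := d15_0 (iv0 D9224) (iv7 F6071) (iv2 F13908)
theorem F14416 : act 7 n9224 = n8938 := d15_2 F14357 F14415 (iv2 F14354)
theorem F14417 : act 5 n9086 = n9224 := d17_3 (iv1 D4084) D4085 D9086 F14413 (iv5 D4740) F6528 D4598 F7336 F6980
def n9225 : Q := act 2 n4174
theorem D9225 : act 2 n4174 = n9225 := rfl
theorem F14418 : act 4 n9225 = n4187 := d1_2 (iv4 F6070) D9225 (iv2 D4187)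
theorem F14419 : act 7 n9225 = n8931 := d4_2 F6071 D9225 F13908
theorem F14420 : act 1 n9225 = n8938 := d15_0 (iv0 D8938) F6071 D9225
theorem F14421 : act 1 n4747 = n9225 := d15_0 F14420 (iv7 F14416) (iv2 F14414)
def n9226 : Q := act 5 n4174
theorem D9226 : act 5 n4174 = n9226 := rfl
theorem F14422 : act 3 n9226 = n4175 := d6_1 D9226 (iv5 D4175) D4174
theorem F14423 : act 7 n9226 = n8939 := d13_2 F6071 D9226 (iv5 D8939)
def n9227 : Q := act 6 n4174
theorem D9227 : act 6 n4174 = n9227 := rfl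
theorem F14424 : act 3 n9227 = n4176 := d7_1 D9227 (iv6 D4176) D4174
theorem F14425 : act 4 n9227 = n4188 := d10_1 D9227 (iv6 D4188) (iv4 F6070)
def n9228 : Q := act 4 n4175
theorem D9228 : act 4 n4175 = n9228 := rfl
theorem F14426 : act 0 n9228 = n8648 := d17_0 (iv5 D8648) (iv1 D3881) D3883 D8657 F13565 F6816 D4902 F7319 D9228
theorem F14427 : act 1 n9228 = n8644 := d18_8 (iv1 F13301) (iv4 D8543) (iv1 F5805) D3877 D8636 F13545 F7319 D9228 (iv5 D8644)
def n9229 : Q := act 6 n4175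
theorem D9229 : act 6 n4175 = n9229 := rfl
def n9230 : Q := act 7 n4175
theorem D9230 : act 7 n4175 = n9230 := rfl
theorem F14428 : act 3 n9230 = n8939 := d8_1 D9230 (iv7 F14423) F14422
theorem F14429 : act 5 n9230 = n4177 := d13_1 D9230 (iv7 D4177) D4175
def n9231 : Q := act 0 n4176
theorem D9231 : act 0 n4176 = n9231 := rfl
def n9232 : Q := act 1 n4176
theorem D9232 : act 1 n4176 = n9232 := rfl
def n9233 : Q := act 5 n4176
theorem D9233 : act 5 n4176 = n9233 := rfl
def n9234 : Q := act 7 n4176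
theorem D9234 : act 7 n4176 = n9234 := rfl
theorem F14430 : act 4 n9234 = n4180 := d11_1 D9234 (iv7 D4180) (iv4 F6072)
def n9235 : Q := act 6 n4177
theorem D9235 : act 6 n4177 = n9235 := rfl
theorem F14431 : act 3 n9235 = n8940 := d7_1 D9235 (iv6 D8940) (iv3 F6073)
theorem F14432 : act 4 n9235 = n4181 := d10_1 D9235 (iv6 D4181) (iv4 F6074)
def n9236 : Q := act 2 n4178
theorem D9236 : act 2 n4178 = n9236 := rfl
theorem F14433 : act 7 n4179 = n9236 := d15_2 (iv0 D4178) D4179 (iv2 D9236)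
def n9237 : Q := act 3 n4178
theorem D9237 : act 3 n4178 = n9237 := rfl
def n9238 : Q := act 4 n4178
theorem D9238 : act 4 n4178 = n9238 := rfl
def n9239 : Q := act 5 n4178
theorem D9239 : act 5 n4178 = n9239 := rfl
def n9240 : Q := act 6 n4178
theorem D9240 : act 6 n4178 = n9240 := rfl
def n9241 : Q := act 7 n4178
theorem D9241 : act 7 n4178 = n9241 := rfl
theorem F14434 : act 2 n9241 = n4179 := d4_1 D9241 F14433 (iv2 D9236)
def n9242 : Q := act 3 n4179
theorem D9242 : act 3 n4179 = n9242 := rfl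
def n9243 : Q := act 4 n4179
theorem D9243 : act 4 n4179 = n9243 := rfl
def n9244 : Q := act 5 n4179
theorem D9244 : act 5 n4179 = n9244 := rfl
def n9245 : Q := act 6 n4179
theorem D9245 : act 6 n4179 = n9245 := rfl
def n9246 : Q := act 6 n4180
theorem D9246 : act 6 n4180 = n9246 := rfl
theorem F14435 : act 3 n9246 = n4203 := d7_1 D9246 (iv6 D4203) (iv3 F6075)
theorem F14436 : act 7 n9246 = n4181 := d14_2 D4180 D9246 (iv6 D4181) (iv7 D1786) D1785
def n9247 : Q := act 0 n4181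
theorem D9247 : act 0 n4181 = n9247 := rfl
def n9248 : Q := act 1 n4181
theorem D9248 : act 1 n4181 = n9248 := rfl
def n9249 : Q := act 5 n4181
theorem D9249 : act 5 n4181 = n9249 := rfl
theorem F14437 : act 3 n9249 = n4206 := d6_1 D9249 (iv5 D4206) (iv3 F6077)
theorem F14438 : act 6 n9249 = n4184 := d12_2 D4181 D9249 (iv5 D4184) (iv6 D1787) (iv5 F3039)
def n9250 : Q := act 3 n4182
theorem D9250 : act 3 n4182 = n9250 := rfl
theorem F14439 : act 6 n9250 = n9159 := d7_2 F7223 D9250 F14274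
theorem F14440 : act 7 n9250 = n4937 := d8_2 (iv7 F7221) D9250 (iv3 D4937)
theorem F14441 : act 4 n9250 = n8896 := d20_6 F1160 F1137 (iv4 F1771) (iv3 F3040) D4182 D9250 (iv1 D8896) F5920 F3020 F1753
def n9251 : Q := act 4 n4182
theorem D9251 : act 4 n4182 = n9251 := rfl
theorem F14442 : act 2 n9251 = n4941 := d1_1 D9251 (iv4 D4941) F7222
theorem F14443 : act 6 n9251 = n9171 := d10_2 F7223 D9251 F14313
theorem F14444 : act 7 n9251 = n4938 := d11_2 (iv7 F7221) D9251 (iv4 D4938)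
theorem F14445 : act 0 n9251 = n9187 := d20_1 D9251 (iv4 F14333) (iv3 D4415) (iv1 D1853) F1820 F1160 F1137 (iv4 F1771) (iv3 F3040) D4182
theorem F14446 : act 1 n9251 = n8198 := d15_1 (iv0 F14445) (iv7 F13012) F14332
def n9252 : Q := act 5 n4182
theorem D9252 : act 5 n4182 = n9252 := rfl
theorem F14447 : act 2 n9252 = n4942 := d2_1 D9252 (iv5 D4942) F7222
theorem F14448 : act 7 n9252 = n4939 := d13_2 (iv7 F7221) D9252 (iv5 D4939)
theorem F14449 : act 0 n9252 = n9174 := d21_1 D9252 (iv5 D9174) F7237 (iv1 D1995) (iv6 D1009) D1008 F6909 F3039 D1787 D4182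
theorem F14450 : act 1 n9252 = n9189 := d15_0 (iv0 D9189) (iv7 F7361) (iv2 F14447)
def n9253 : Q := act 4 n4184
theorem D9253 : act 4 n4184 = n9253 := rfl
theorem F14451 : act 7 n9253 = n4945 := d11_2 (iv7 F6081) D9253 (iv4 D4945)
def n9254 : Q := act 6 n4187
theorem D9254 : act 6 n4187 = n9254 := rfl
theorem F14452 : act 2 n9254 = n4188 := d3_1 D9254 (iv6 D4188) D4187
theorem F14453 : act 3 n9254 = n9254 := d7_1 D9254 (iv6 D9254) F6083
def n9255 : Q := act 0 n4188
theorem D9255 : act 0 n4188 = n9255 := rfl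
def n9256 : Q := act 1 n4188
theorem D9256 : act 1 n4188 = n9256 := rfl
def n9257 : Q := act 5 n4188
theorem D9257 : act 5 n4188 = n9257 := rfl
theorem F14454 : act 3 n9257 = n4191 := d6_1 D9257 (iv5 D4191) (iv3 F6089)
theorem F14455 : act 6 n9257 = n4221 := d12_2 D4188 D9257 (iv5 D4221) (iv6 D1799) (iv5 F3042)
def n9258 : Q := act 7 n4188
theorem D9258 : act 7 n4188 = n9258 := rfl
theorem F14456 : act 3 n9258 = n4192 := d8_1 D9258 (iv7 D4192) (iv3 F6089)
theorem F14457 : act 6 n9258 = n8943 := d14_1 D9258 (iv7 D8943) (iv6 D3988) (iv7 F3043) D4188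
def n9259 : Q := act 2 n4189
theorem D9259 : act 2 n4189 = n9259 := rfl
theorem F14458 : act 7 n4190 = n9259 := d15_2 (iv0 D4189) D4190 (iv2 D9259)
def n9260 : Q := act 3 n4189
theorem D9260 : act 3 n4189 = n9260 := rfl
def n9261 : Q := act 4 n4189
theorem D9261 : act 4 n4189 = n9261 := rfl
def n9262 : Q := act 5 n4189
theorem D9262 : act 5 n4189 = n9262 := rfl
def n9263 : Q := act 7 n4189
theorem D9263 : act 7 n4189 = n9263 := rfl
theorem F14459 : act 2 n9263 = n4190 := d4_1 D9263 F14458 (iv2 D9259)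
def n9264 : Q := act 3 n4190
theorem D9264 : act 3 n4190 = n9264 := rfl
def n9265 : Q := act 4 n4190
theorem D9265 : act 4 n4190 = n9265 := rfl
def n9266 : Q := act 5 n4190
theorem D9266 : act 5 n4190 = n9266 := rfl
def n9267 : Q := act 6 n4190
theorem D9267 : act 6 n4190 = n9267 := rfl
def n9268 : Q := act 0 n4191
theorem D9268 : act 0 n4191 = n9268 := rfl
def n9269 : Q := act 1 n4191
theorem D9269 : act 1 n4191 = n9269 := rfl
theorem F14460 : act 5 n5009 = n9269 := d21_6 (iv5 D633) (iv1 F1122) (iv5 F1202) D1024 D2057 D5009 (iv1 D9269) (iv5 D4191) (iv6 D1789) F1760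
def n9270 : Q := act 4 n4191
theorem D9270 : act 4 n4191 = n9270 := rfl
theorem F14461 : act 2 n9270 = n9270 := d1_1 D9270 (iv4 D9270) F6090
theorem F14462 : act 6 n9270 = n4222 := d10_2 (iv6 F6091) D9270 (iv4 D4222)
def n9271 : Q := act 7 n4191
theorem D9271 : act 7 n4191 = n9271 := rfl
theorem F14463 : act 2 n9271 = n9271 := d4_1 D9271 (iv7 D9271) F6090
theorem F14464 : act 5 n9271 = n4192 := d13_1 D9271 (iv7 D4192) D4191
theorem F14465 : act 6 n9271 = n5018 := d14_1 D9271 (iv7 D5018) F3358 (iv7 F3066) (iv6 F6091)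
theorem F14466 : act 1 n9271 = n9268 := d15_0 (iv0 D9268) D9271 F14463
theorem F14467 : act 1 n9269 = n9271 := d15_1 D9269 (iv7 D9271) F6090
def n9274 : Q := act 3 n4193
theorem D9274 : act 3 n4193 = n9274 := rfl
theorem F14470 : act 7 n9274 = n4199 := d8_2 F6097 D9274 (iv3 D4199)
def n9275 : Q := act 4 n4193
theorem D9275 : act 4 n4193 = n9275 := rfl
theorem F14471 : act 2 n9275 = n4195 := d1_1 D9275 (iv4 D4195) D4193
theorem F14472 : act 7 n9275 = n4200 := d11_2 F6097 D9275 (iv4 D4200)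
def n9276 : Q := act 5 n4193
theorem D9276 : act 5 n4193 = n9276 := rfl
theorem F14473 : act 2 n9276 = n4196 := d2_1 D9276 (iv5 D4196) D4193
theorem F14474 : act 7 n9276 = n4201 := d13_2 F6097 D9276 (iv5 D4201)
def n9277 : Q := act 6 n4193
theorem D9277 : act 6 n4193 = n9277 := rfl
theorem F14475 : act 2 n9277 = n4197 := d3_1 D9277 (iv6 D4197) D4193
def n9278 : Q := act 0 n4194
theorem D9278 : act 0 n4194 = n9278 := rfl
def n9279 : Q := act 1 n4194
theorem D9279 : act 1 n4194 = n9279 := rfl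
def n9280 : Q := act 2 n4194
theorem D9280 : act 2 n4194 = n9280 := rfl
def n9281 : Q := act 4 n4194
theorem D9281 : act 4 n4194 = n9281 := rfl
def n9282 : Q := act 5 n4194
theorem D9282 : act 5 n4194 = n9282 := rfl
theorem F14476 : act 3 n9282 = n4196 := d6_1 D9282 (iv5 D4196) D4194
def n9283 : Q := act 6 n4194
theorem D9283 : act 6 n4194 = n9283 := rfl
theorem F14477 : act 3 n9283 = n4197 := d7_1 D9283 (iv6 D4197) D4194
def n9284 : Q := act 7 n4194
theorem D9284 : act 7 n4194 = n9284 := rfl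
theorem F14478 : act 3 n9284 = n4198 := d8_1 D9284 (iv7 D4198) D4194
def n9285 : Q := act 0 n4195
theorem D9285 : act 0 n4195 = n9285 := rfl
def n9286 : Q := act 1 n4195
theorem D9286 : act 1 n4195 = n9286 := rfl
theorem F14479 : act 1 n9286 = n4200 := d15_1 D9286 (iv7 F14472) F14471
def n9287 : Q := act 3 n4195
theorem D9287 : act 3 n4195 = n9287 := rfl
def n9288 : Q := act 5 n4195
theorem D9288 : act 5 n4195 = n9288 := rfl
def n9289 : Q := act 6 n4195
theorem D9289 : act 6 n4195 = n9289 := rfl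
theorem F14480 : act 4 n9289 = n4197 := d10_1 D9289 (iv6 D4197) D4195
def n9290 : Q := act 7 n4195
theorem D9290 : act 7 n4195 = n9290 := rfl
theorem F14481 : act 2 n9290 = n4200 := d4_1 D9290 (iv7 F14472) F14471
theorem F14482 : act 4 n9290 = n4198 := d11_1 D9290 (iv7 D4198) D4195
theorem F14483 : act 1 n4200 = n9285 := d15_0 (iv0 D9285) D9290 F14481
def n9291 : Q := act 0 n4196
theorem D9291 : act 0 n4196 = n9291 := rfl
theorem F14484 : act 5 n9291 = n4988 := d21_2 D4196 D9291 (iv6 D4988) (iv1 D2050) (iv6 D1022) F1198 F963 D618 D941 D1790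
def n9292 : Q := act 1 n4196
theorem D9292 : act 1 n4196 = n9292 := rfl
theorem F14485 : act 1 n9292 = n4201 := d15_1 D9292 (iv7 F14474) F14473
def n9293 : Q := act 4 n4196
theorem D9293 : act 4 n4196 = n9293 := rfl
def n9294 : Q := act 6 n4196
theorem D9294 : act 6 n4196 = n9294 := rfl
theorem F14486 : act 0 n9294 = n4631 := d21_4 (iv5 F1764) D1790 D4196 D9294 (iv6 D4631) D4630 F7462 F7459 (iv6 D2069) (iv1 D1026)
def n9295 : Q := act 7 n4196
theorem D9295 : act 7 n4196 = n9295 := rfl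
theorem F14487 : act 2 n9295 = n4201 := d4_1 D9295 (iv7 F14474) F14473
theorem F14488 : act 5 n9295 = n4198 := d13_1 D9295 (iv7 D4198) D4196
theorem F14489 : act 1 n4201 = n9291 := d15_0 (iv0 D9291) D9295 F14487
def n9296 : Q := act 0 n4197
theorem D9296 : act 0 n4197 = n9296 := rfl
def n9297 : Q := act 1 n4197
theorem D9297 : act 1 n4197 = n9297 := rfl
def n9298 : Q := act 7 n4197
theorem D9298 : act 7 n4197 = n9298 := rfl
def n9299 : Q := act 6 n4198
theorem D9299 : act 6 n4198 = n9299 := rfl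
theorem F14490 : act 2 n9299 = n4202 := d3_1 D9299 (iv6 D4202) (iv2 F6098)
def n9300 : Q := act 0 n4199
theorem D9300 : act 0 n4199 = n9300 := rfl
def n9301 : Q := act 1 n4199
theorem D9301 : act 1 n4199 = n9301 := rfl
def n9302 : Q := act 2 n4199
theorem D9302 : act 2 n4199 = n9302 := rfl
def n9303 : Q := act 4 n4199
theorem D9303 : act 4 n4199 = n9303 := rfl
def n9304 : Q := act 5 n4199
theorem D9304 : act 5 n4199 = n9304 := rfl
theorem F14491 : act 3 n9304 = n4201 := d6_1 D9304 (iv5 D4201) D4199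
def n9305 : Q := act 6 n4199
theorem D9305 : act 6 n4199 = n9305 := rfl
theorem F14492 : act 3 n9305 = n4202 := d7_1 D9305 (iv6 D4202) D4199
def n9306 : Q := act 3 n4200
theorem D9306 : act 3 n4200 = n9306 := rfl
def n9307 : Q := act 5 n4200
theorem D9307 : act 5 n4200 = n9307 := rfl
def n9308 : Q := act 6 n4200
theorem D9308 : act 6 n4200 = n9308 := rfl
theorem F14493 : act 4 n9308 = n4202 := d10_1 D9308 (iv6 D4202) D4200
def n9309 : Q := act 4 n4201
theorem D9309 : act 4 n4201 = n9309 := rfl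
def n9310 : Q := act 0 n4202
theorem D9310 : act 0 n4202 = n9310 := rfl
theorem F14494 : act 5 n9310 = n4965 := d21_0 (iv1 F7383) F7382 (iv6 F3346) (iv1 F3348) D4988 (iv5 F14484) (iv1 F14489) (iv5 D4201) D4202 D9310
theorem F14495 : act 6 n9291 = n9310 := d12_0 F14494 F7409 (iv5 D4987) D4988 (iv5 F14484)
def n9311 : Q := act 1 n4202
theorem D9311 : act 1 n4202 = n9311 := rfl
def n9312 : Q := act 5 n4202
theorem D9312 : act 5 n4202 = n9312 := rfl
theorem F14496 : act 0 n4959 = n9312 := d21_1 D4959 (iv5 D9312) (iv6 D4202) (iv1 D1791) (iv6 D941) (iv5 D618) (iv1 F947) (iv5 F1195) D1020 D2040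
def n9313 : Q := act 7 n4202
theorem D9313 : act 7 n4202 = n9313 := rfl
def n9314 : Q := act 5 n4203
theorem D9314 : act 5 n4203 = n9314 := rfl
theorem F14497 : act 2 n9314 = n9314 := d2_1 D9314 (iv5 D9314) F6099
theorem F14499 : act 7 n9314 = n4206 := d13_2 (iv7 F6101) D9314 (iv5 D4206)
def n9315 : Q := act 2 n4204
theorem D9315 : act 2 n4204 = n9315 := rfl
theorem F14500 : act 6 n9315 = n9295 := d3_2 (iv6 F6102) D9315 F14487
theorem F14501 : act 7 n4205 = n9315 := d15_2 (iv0 D4204) D4205 (iv2 D9315)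
def n9316 : Q := act 3 n4204
theorem D9316 : act 3 n4204 = n9316 := rfl
theorem F14502 : act 6 n9316 = n9304 := d7_2 (iv6 F6102) D9316 F14491
def n9317 : Q := act 4 n4204
theorem D9317 : act 4 n4204 = n9317 := rfl
theorem F14503 : act 6 n9317 = n9309 := d10_2 (iv6 F6102) D9317 (iv4 D9309)
def n9318 : Q := act 5 n4204
theorem D9318 : act 5 n4204 = n9318 := rfl
theorem F14504 : act 6 n9318 = n9312 := d12_2 (iv6 F6102) D9318 (iv5 D9312) (iv6 D4202) D4201
theorem F14505 : act 0 n9312 = n4963 := d21_10 (iv5 D4963) (iv1 D2041) D2042 F3328 (iv1 F3054) (iv6 F6106) (iv5 D4206) D4204 D9318 F14504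
def n9319 : Q := act 7 n4204
theorem D9319 : act 7 n4204 = n9319 := rfl
theorem F14506 : act 2 n9319 = n4205 := d4_1 D9319 F14501 (iv2 D9315)
def n9320 : Q := act 3 n4205
theorem D9320 : act 3 n4205 = n9320 := rfl
def n9321 : Q := act 4 n4205
theorem D9321 : act 4 n4205 = n9321 := rfl
def n9322 : Q := act 5 n4205
theorem D9322 : act 5 n4205 = n9322 := rfl
def n9323 : Q := act 6 n4205
theorem D9323 : act 6 n4205 = n9323 := rfl
theorem F14507 : act 7 n9323 = n9294 := d14_2 (iv7 F14501) D9323 (iv6 D9294) D9295 (iv6 F14500)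
def n9324 : Q := act 0 n4206
theorem D9324 : act 0 n4206 = n9324 := rfl
theorem F14508 : act 1 n9314 = n9324 := d15_0 (iv0 D9324) (iv7 F14499) F14497
def n9325 : Q := act 1 n4206
theorem D9325 : act 1 n4206 = n9325 := rfl
theorem F14509 : act 1 n9325 = n9314 := d15_1 D9325 F14499 F6105
theorem F14510 : act 5 n5055 = n9325 := d21_6 (iv5 D639) (iv1 F604) (iv5 F1209) D1028 D2071 D5055 (iv1 D9325) (iv5 D4206) (iv6 D1793) (iv1 F1769)
def n9326 : Q := act 4 n4206
theorem D9326 : act 4 n4206 = n9326 := rfl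
theorem F14512 : act 6 n9326 = n4207 := d10_2 (iv6 F6106) D9326 (iv4 D4207)
def n9327 : Q := act 3 n4207
theorem D9327 : act 3 n4207 = n9327 := rfl
theorem F14513 : act 5 n9327 = n5074 := d6_2 (iv5 F6109) D9327 (iv3 D5074)
theorem F14514 : act 7 n9327 = n5074 := d8_2 (iv7 F6108) D9327 (iv3 D5074)
def n9328 : Q := act 5 n4209
theorem D9328 : act 5 n4209 = n9328 := rfl
theorem F14515 : act 2 n9328 = n8928 := d2_1 D9328 (iv5 D8928) F12326
theorem F14516 : act 7 n9328 = n8921 := d13_2 (iv7 F12322) D9328 (iv5 D8921)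
def n9329 : Q := act 6 n4213
theorem D9329 : act 6 n4213 = n9329 := rfl
theorem F14517 : act 3 n9329 = n4216 := d7_1 D9329 (iv6 D4216) D4213
def n9330 : Q := act 6 n4214
theorem D9330 : act 6 n4214 = n9330 := rfl
theorem F14518 : act 2 n9330 = n8922 := d3_1 D9330 (iv6 D8922) (iv2 F12323)
theorem F14519 : act 3 n9330 = n6052 := d7_1 D9330 (iv6 D6052) (iv3 F6113)
theorem F14520 : act 4 n9330 = n4216 := d10_1 D9330 (iv6 D4216) D4214
def n9331 : Q := act 1 n4216
theorem D9331 : act 1 n4216 = n9331 := rfl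
theorem F14521 : act 1 n9331 = n8926 := d15_1 D9331 (iv7 D8926) (iv2 F12324)
def n9332 : Q := act 5 n4216
theorem D9332 : act 5 n4216 = n9332 := rfl
theorem F14522 : act 2 n9332 = n8925 := d2_1 D9332 (iv5 D8925) (iv2 F12324)
theorem F14523 : act 7 n9332 = n9110 := d13_2 F14173 D9332 (iv5 F14177)
theorem F14524 : act 0 n9332 = n4221 := d21_7 (iv5 F7323) (iv1 F3349) (iv5 D1758) (iv6 F2942) (iv1 F3059) D4216 D9332 (iv5 D4221) (iv6 D1799) D1795
theorem F14525 : act 0 n8998 = n9332 := d21_7 (iv5 F3042) F7180 (iv5 D1749) F7176 D1745 D4020 D8998 (iv5 D9332) (iv6 D4216) (iv1 D1796)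
def n9333 : Q := act 5 n4218
theorem D9333 : act 5 n4218 = n9333 := rfl
theorem F14526 : act 2 n9333 = n4221 := d2_1 D9333 (iv5 D4221) (iv2 F6119)
theorem F14527 : act 3 n9333 = n9333 := d6_1 D9333 (iv5 D9333) F6120
theorem F14528 : act 7 n9333 = n8998 := d13_2 (iv7 F6121) D9333 (iv5 D8998)
theorem F14529 : act 0 n9333 = n9110 := d21_1 D9333 (iv5 F14177) (iv6 D9109) (iv1 D4091) (iv6 D1763) (iv5 F1901) D2053 F7323 (iv6 F7325) (iv1 F6123)
theorem F14530 : act 0 n8925 = n9333 := d21_7 (iv5 F7023) (iv1 D1760) (iv5 D931) (iv6 F1717) D1723 D3978 D8925 (iv5 D9333) (iv6 D4218) (iv1 F3060)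
def n9334 : Q := act 4 n4219
theorem D9334 : act 4 n4219 = n9334 := rfl
theorem F14531 : act 2 n9334 = n9107 := d1_1 D9334 (iv4 D9107) F12335
theorem F14532 : act 7 n9334 = n9104 := d11_2 (iv7 F12334) D9334 (iv4 D9104)
def n9335 : Q := act 5 n4219
theorem D9335 : act 5 n4219 = n9335 := rfl
theorem F14533 : act 2 n9335 = n9108 := d2_1 D9335 (iv5 D9108) F12335
theorem F14534 : act 7 n9335 = n9105 := d13_2 (iv7 F12334) D9335 (iv5 D9105)
def n9336 : Q := act 0 n4221
theorem D9336 : act 0 n4221 = n9336 := rfl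
theorem F14535 : act 5 n9336 = n8926 := d21_2 D4221 D9336 F13899 (iv1 F6124) (iv6 D4020) (iv5 F3351) (iv1 F3355) F7023 D3983 F7024
theorem F14536 : act 2 n9110 = n9336 := d15_3 (iv0 D9336) (iv0 F14524) F14523
theorem F14537 : act 1 n8998 = n9336 := d15_0 (iv0 D9336) F6127 (iv2 F13987)
theorem F14538 : act 7 n9336 = n8925 := d15_2 (iv0 F14525) F14537 (iv2 F14522)
def n9337 : Q := act 4 n4221
theorem D9337 : act 4 n4221 = n9337 := rfl
theorem F14539 : act 7 n9337 = n9111 := d11_2 (iv7 F6127) D9337 (iv4 D9111)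
def n9338 : Q := act 3 n4222
theorem D9338 : act 3 n4222 = n9338 := rfl
theorem F14540 : act 5 n9338 = n9143 := d6_2 (iv5 F6130) D9338 (iv3 D9143)
theorem F14541 : act 7 n9338 = n9143 := d8_2 (iv7 F6129) D9338 (iv3 D9143)
def n9339 : Q := act 5 n4230
theorem D9339 : act 5 n4230 = n9339 := rfl
theorem F14542 : act 2 n9339 = n4997 := d2_1 D9339 F7421 (iv2 F12274)
theorem F14543 : act 3 n9339 = n4901 := d6_1 D9339 F7317 F6141
theorem F14544 : act 7 n9339 = n9070 := d13_2 (iv7 F12304) D9339 F14148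
theorem F14545 : act 0 n9339 = n4270 := d17_2 F12190 D9339 F7255 F3240 D4669 F7272 F5852 F5900 (iv4 F12175)
theorem F14546 : act 1 n9339 = n9020 := d15_1 (iv0 F14545) F14081 F13244
def n9340 : Q := act 6 n4230
theorem D9340 : act 6 n4230 = n9340 := rfl
theorem F14547 : act 2 n9340 = n9329 := d3_1 D9340 (iv6 D9329) (iv2 F12274)
theorem F14548 : act 3 n9340 = n7808 := d7_1 D9340 (iv6 D7808) F6141
def n9341 : Q := act 6 n4231
theorem D9341 : act 6 n4231 = n9341 := rfl
theorem F14549 : act 2 n9341 = n4233 := d3_1 D9341 (iv6 D4233) D4231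
theorem F14550 : act 4 n9341 = n7774 := d10_1 D9341 (iv6 D7774) (iv4 F12128)
theorem F14551 : act 0 n8927 = n9341 := d21_4 (iv5 F7255) (iv1 F14084) (iv5 F7026) D8927 (iv6 D9341) (iv5 F14101) (iv1 F14105) (iv5 D8556) F7203 F5825
def n9342 : Q := act 6 n4232
theorem D9342 : act 6 n4232 = n9342 := rfl
theorem F14552 : act 3 n9342 = n4243 := d7_1 D9342 (iv6 D4243) (iv3 F6142)
def n9343 : Q := act 0 n4233
theorem D9343 : act 0 n4233 = n9343 := rfl
def n9344 : Q := act 1 n4233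
theorem D9344 : act 1 n4233 = n9344 := rfl
theorem F14553 : act 3 n8680 = n9344 := d20_9 (iv4 F13812) F13814 (iv4 D5067) (iv3 D2074) (iv1 D1029) (iv3 F1894) (iv4 F2866) D3890 D8680 (iv1 D9344)
theorem F14554 : act 6 n4353 = n9344 := d21_3 D8435 (iv1 F14149) F14148 (iv1 D9344) (iv6 D4233) D4232 (iv1 F14092) F13917 F7202 (iv1 F6458)
theorem F14555 : act 2 n9344 = n8927 := d3_1 F14554 (iv6 D8927) (iv2 F12305)
def n9345 : Q := act 5 n4233
theorem D9345 : act 5 n4233 = n9345 := rfl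
theorem F14556 : act 3 n9345 = n4247 := d6_1 D9345 (iv5 D4247) (iv3 F6143)
def n9346 : Q := act 7 n4233
theorem D9346 : act 7 n4233 = n9346 := rfl
theorem F14557 : act 3 n9346 = n4248 := d8_1 D9346 (iv7 D4248) (iv3 F6143)
theorem F14559 : act 1 n8927 = n9346 := d15_1 (iv0 F14551) (iv7 D9346) (iv2 F14549)
def n9347 : Q := act 6 n4236
theorem D9347 : act 6 n4236 = n9347 := rfl
theorem F14560 : act 2 n9347 = n8988 := d3_1 D9347 (iv6 D8988) (iv2 F6146)
theorem F14561 : act 3 n9347 = n4238 := d7_1 D9347 (iv6 D4238) D4236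
theorem F14562 : act 0 n9347 = n9250 := d20_4 F1821 F7074 (iv4 F6148) (iv3 F14561) (iv3 D9250) D9251 F14445 (iv4 F14333) (iv3 D4415) (iv1 D1853)
def n9348 : Q := act 6 n4237
theorem D9348 : act 6 n4237 = n9348 := rfl
def n9349 : Q := act 0 n4238
theorem D9349 : act 0 n4238 = n9349 := rfl
theorem F14563 : act 4 n9349 = n4940 := d20_2 (iv4 F6148) D9349 (iv3 D4940) (iv1 D2033) F1894 F1213 F608 (iv4 F1160) (iv3 F1820) F7074
theorem F14564 : act 2 n4940 = n9349 := d15_3 (iv0 D9349) F14334 (iv7 F7359)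
theorem F14565 : act 7 n9349 = n9182 := d4_2 (iv7 F7359) F14564 F14326
theorem F14566 : act 1 n4940 = n4378 := d15_0 (iv0 F14328) (iv7 F14565) (iv2 F14564)
theorem F14567 : act 1 n4416 = n9349 := d15_1 (iv0 F14335) F14565 F14326
theorem F14568 : act 0 n4415 = n8680 := d20_10 (iv4 D8680) F12266 F12264 F6020 (iv1 F6022) D4940 (iv4 F14563) (iv1 F14567) (iv4 D4416) D4415
theorem F14569 : act 1 n4415 = n8683 := d15_1 (iv0 F14568) F13595 (iv2 F13591)
def n9350 : Q := act 5 n4238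
theorem D9350 : act 5 n4238 = n9350 := rfl
def n9351 : Q := act 7 n4238
theorem D9351 : act 7 n4238 = n9351 := rfl
theorem F14570 : act 2 n9351 = n4416 := d4_1 D9351 (iv7 F12216) F12238
theorem F14571 : act 4 n9351 = n4248 := d11_1 D9351 (iv7 D4248) (iv4 F6148)
theorem F14572 : act 1 n9182 = n9351 := d15_1 (iv0 F14328) (iv7 D9351) (iv2 F12238)
theorem F14573 : act 1 n9351 = n4940 := d15_1 F14572 F7359 (iv2 F14326)
def n9352 : Q := act 1 n4242
theorem D9352 : act 1 n4242 = n9352 := rfl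
theorem F14574 : act 1 n9352 = n4257 := d15_1 D9352 (iv7 F12233) (iv2 F12226)
theorem F14575 : act 4 n9352 = n4811 := d18_7 D4358 (iv4 F6292) F6290 (iv4 D1803) D1804 D4242 D9352 F7306 (iv5 D4359)
theorem F14576 : act 2 n4815 = n9352 := d1_3 F14575 F6900 D4815
def n9353 : Q := act 3 n4242
theorem D9353 : act 3 n4242 = n9353 := rfl
def n9354 : Q := act 5 n4242
theorem D9354 : act 5 n4242 = n9354 := rfl
def n9355 : Q := act 6 n4242
theorem D9355 : act 6 n4242 = n9355 := rfl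
theorem F14577 : act 4 n9355 = n4243 := d10_1 D9355 (iv6 D4243) D4242
def n9356 : Q := act 0 n4243
theorem D9356 : act 0 n4243 = n9356 := rfl
def n9357 : Q := act 1 n4243
theorem D9357 : act 1 n4243 = n9357 := rfl
def n9358 : Q := act 5 n4243
theorem D9358 : act 5 n4243 = n9358 := rfl
theorem F14578 : act 6 n9358 = n4247 := d12_2 D4243 D9358 (iv5 D4247) (iv6 D1805) D1804
def n9359 : Q := act 7 n4243
theorem D9359 : act 7 n4243 = n9359 := rfl
def n9360 : Q := act 5 n4245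
theorem D9360 : act 5 n4245 = n9360 := rfl
theorem F14579 : act 2 n9360 = n4422 := d2_1 D9360 F6348 (iv2 F7069)
theorem F14580 : act 3 n9360 = n9360 := d6_1 D9360 (iv5 D9360) F7070

end Cfsg.Agent.Helper17.ONTC
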