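import Cfsg.Agent.Helper17.ONTC.Facts19

set_option autoImplicit false
set_option linter.all false

noncomputable section

namespace Cfsg.Agent.Helper17.ONTC

def n96776 : Q := act 7 n45225
theorem D96776 : act 7 n45225 = n96776 := rfl
theorem F149247 : act 3 n96776 = n45243 := d8_1 D96776 (iv7 D45243) (iv3 F71292)
def n96777 : Q := act 2 n45227
theorem D96777 : act 2 n45227 = n96777 := rfl
theorem F149249 : act 7 n45228 = n96777 := d15_2 (iv0 D45227) D45228 (iv2 D96777)
def n96778 : Q := act 3 n45227
theorem D96778 : act 3 n45227 = n96778 := rfl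
def n96779 : Q := act 4 n45227
theorem D96779 : act 4 n45227 = n96779 := rfl
def n96780 : Q := act 5 n45227
theorem D96780 : act 5 n45227 = n96780 := rfl
def n96781 : Q := act 6 n45227
theorem D96781 : act 6 n45227 = n96781 := rfl
def n96782 : Q := act 7 n45227
theorem D96782 : act 7 n45227 = n96782 := rfl
theorem F149250 : act 2 n96782 = n45228 := d4_1 D96782 F149249 (iv2 D96777)
def n96783 : Q := act 3 n45228
theorem D96783 : act 3 n45228 = n96783 := rfl
def n96784 : Q := act 4 n45228
theorem D96784 : act 4 n45228 = n96784 := rfl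
def n96785 : Q := act 5 n45228
theorem D96785 : act 5 n45228 = n96785 := rfl
def n96786 : Q := act 6 n45228
theorem D96786 : act 6 n45228 = n96786 := rfl
def n96787 : Q := act 0 n45229
theorem D96787 : act 0 n45229 = n96787 := rfl
def n96788 : Q := act 1 n45229
theorem D96788 : act 1 n45229 = n96788 := rfl
theorem F149251 : act 1 n96788 = n95897 := d15_1 D96788 (iv7 D95897) (iv2 F71297)
def n96789 : Q := act 4 n45229
theorem D96789 : act 4 n45229 = n96789 := rfl
theorem F149253 : act 6 n96789 = n45242 := d10_2 (iv6 F71298) D96789 (iv4 D45242)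
def n96790 : Q := act 7 n45229
theorem D96790 : act 7 n45229 = n96790 := rfl
theorem F149254 : act 2 n96790 = n95897 := d4_1 D96790 (iv7 D95897) (iv2 F71297)
theorem F149255 : act 5 n96790 = n45230 := d13_1 D96790 (iv7 D45230) D45229
theorem F149256 : act 1 n95897 = n96787 := d15_0 (iv0 D96787) D96790 F149254
theorem F149257 : act 1 n95895 = n96790 := d15_1 D95895 (iv7 D96790) F71297
theorem F149258 : act 1 n96790 = n95894 := d15_0 (iv0 D95894) D95897 (iv2 F149254)
def n96793 : Q := act 2 n45232
theorem D96793 : act 2 n45232 = n96793 := rfl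
theorem F149259 : act 4 n96793 = n82765 := d1_2 (iv4 F118267) D96793 (iv2 D82765)
def n96795 : Q := act 6 n45232
theorem D96795 : act 6 n45232 = n96795 := rfl
theorem F149261 : act 3 n96795 = n45235 := d7_1 D96795 (iv6 D45235) D45232
theorem F149262 : act 4 n96795 = n82767 := d10_1 D96795 (iv6 D82767) (iv4 F118267)
def n96796 : Q := act 0 n45234
theorem D96796 : act 0 n45234 = n96796 := rfl
theorem F149263 : act 5 n96796 = n96311 := d17_3 D21582 D45234 D96796 F148174 (iv5 F71327) (iv0 D45263) (iv5 D21589) (iv0 D10311) (iv4 F16401)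
theorem F149264 : act 1 n45238 = n96796 := d15_0 (iv0 D96796) (iv7 F148616) F148615
def n96800 : Q := act 0 n45235
theorem D96800 : act 0 n45235 = n96800 := rfl
def n96801 : Q := act 1 n45235
theorem D96801 : act 1 n45235 = n96801 := rfl
theorem F149266 : act 4 n96801 = n45269 := d17_9 (iv1 D45269) F59942 (iv1 D38904) (iv5 D18480) (iv4 F29658) D38893 D84353 (iv5 F129415) D96801
theorem F149267 : act 6 n75998 = n96801 := d21_3 D44966 D96312 F148177 (iv1 D96801) (iv6 D45235) D45234 D96796 F149263 (iv6 D96311) (iv1 D44965)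
theorem F149268 : act 7 n96801 = n55597 := d14_2 D75998 F149267 (iv6 D55597) F43228 D34730
theorem F149269 : act 5 n96801 = n84435 := d21_6 (iv5 F125635) (iv1 F125637) (iv5 D37355) D37356 F125652 F149267 (iv1 D84435) (iv5 D38931) D38932 (iv1 F125442)
theorem F149270 : act 3 n78251 = n96801 := d8_3 F149268 (iv3 F131055) (iv7 F119437)
theorem E14773 : n96800 = n96739 := ((c15_4 (iv0 D96800) D96801 F149268 (iv2 F149191))).symm
theorem F149271 : act 1 n96739 = n45235 := (sb E14773 (iv0 D96800))
def n96803 : Q := act 1 n45237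
theorem D96803 : act 1 n45237 = n96803 := rfl
def n96804 : Q := act 2 n45237
theorem D96804 : act 2 n45237 = n96804 := rfl
def n96806 : Q := act 6 n45237
theorem D96806 : act 6 n45237 = n96806 := rfl
theorem F149273 : act 3 n96806 = n45239 := d7_1 D96806 (iv6 D45239) D45237
def n96820 : Q := act 6 n45243
theorem D96820 : act 6 n45243 = n96820 := rfl
theorem F149275 : act 5 n96820 = n81750 := d12_1 D96820 (iv6 D81750) F58283 (iv6 F33984) (iv5 F71307)
def n96821 : Q := act 3 n45253
theorem D96821 : act 3 n45253 = n96821 := rfl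
theorem F149276 : act 4 n96821 = n45259 := d5_2 D45253 D96821 (iv3 D45259) (iv4 D21588) D21587
def n96822 : Q := act 5 n45253
theorem D96822 : act 5 n45253 = n96822 := rfl
def n96823 : Q := act 1 n45254
theorem D96823 : act 1 n45254 = n96823 := rfl
theorem F149280 : act 1 n96823 = n82623 := d15_1 D96823 F127252 (iv2 F118492)
theorem F149281 : act 7 n96823 = n82660 := d15_2 (iv0 F129276) D96823 (iv2 F129272)
theorem F149282 : act 2 n82261 = n96823 := d4_3 F149281 (iv2 F129272) F129274
def n96824 : Q := act 4 n45254
theorem D96824 : act 4 n45254 = n96824 := rfl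
theorem F149285 : act 0 n96824 = n81034 := d20_7 D17833 (iv1 F57969) F57970 (iv3 F126080) (iv1 D45264) (iv3 F71318) D96824 (iv4 D81034) (iv3 D37017) (iv1 F28986)
def n96826 : Q := act 1 n45255
theorem D96826 : act 1 n45255 = n96826 := rfl
theorem F149289 : act 1 n96826 = n75749 := d15_1 D96826 F129171 (iv2 F118491)
theorem F149290 : act 7 n96826 = n75742 := d15_2 (iv0 F129660) D96826 F113609
theorem F149292 : act 5 n96826 = n84465 := d21_0 (iv1 D84465) (iv5 D38951) (iv6 F123050) (iv1 D38784) (iv6 D18440) D18439 D38780 D84134 (iv6 F129170) (iv1 F149289)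
def n96827 : Q := act 3 n45257
theorem D96827 : act 3 n45257 = n96827 := rfl
theorem F149294 : act 6 n96827 = n81756 := d7_2 (iv6 F121466) D96827 (iv3 D81756)
theorem F149295 : act 7 n96827 = n81571 := d8_2 (iv7 F120990) D96827 F125471
def n96829 : Q := act 0 n45259
theorem D96829 : act 0 n45259 = n96829 := rfl
def n96830 : Q := act 1 n45259
theorem D96830 : act 1 n45259 = n96830 := rfl
def n96833 : Q := act 6 n45259
theorem D96833 : act 6 n45259 = n96833 := rfl
theorem F149298 : act 3 n96833 = n45261 := d7_1 D96833 (iv6 D45261) D45259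
def n96834 : Q := act 0 n45260
theorem D96834 : act 0 n45260 = n96834 := rfl
theorem F149299 : act 5 n96834 = n95256 := d17_3 F120756 D45260 D96834 F146845 (iv5 F124537) (iv0 D80825) (iv5 D36911) (iv0 F120754) (iv4 F61788)
def n96838 : Q := act 1 n45261
theorem D96838 : act 1 n45261 = n96838 := rfl
theorem F149302 : act 7 n96838 = n81593 := d15_2 (iv0 F149168) D96838 (iv2 F149165)
theorem F149303 : act 6 n81792 = n96838 := d21_3 D45144 D96668 F148977 (iv1 D96838) (iv6 D45261) D45260 D96834 F149299 (iv6 D95256) F126049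
theorem F149304 : act 4 n96838 = n80830 := d10_1 F149303 (iv6 F146872) (iv4 F146879)
theorem F149305 : act 5 n96838 = n84475 := d21_6 (iv5 F125680) (iv1 F125681) (iv5 D37396) D37397 D81792 F149303 (iv1 D84475) (iv5 D38957) D38958 F125414
def n96839 : Q := act 5 n45261
theorem D96839 : act 5 n45261 = n96839 := rfl
theorem F149306 : act 0 n96839 = n95241 := d17_2 (iv1 D96838) D96839 (iv5 D95241) F70003 D44489 (iv0 F124543) (iv5 D80831) D80830 (iv4 F149304)
def n96843 : Q := act 0 n45265
theorem D96843 : act 0 n45265 = n96843 := rfl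
theorem F149315 : act 4 n96843 = n80825 := d18_3 (iv1 D45264) D45265 D96843 F124537 (iv4 F146845) (iv0 F146846) F91953 D58161 (iv5 F116936)
theorem F149316 : act 1 n45281 = n96843 := d15_0 (iv0 D96843) (iv7 F148649) F148647
def n96844 : Q := act 1 n45265
theorem D96844 : act 1 n45265 = n96844 := rfl
theorem F149318 : act 4 n96844 = n80826 := d18_7 (iv1 F120755) (iv4 F61788) F120756 (iv4 D21588) D21589 D45265 D96844 F124540 (iv5 D46226)
def n96848 : Q := act 0 n45266
theorem D96848 : act 0 n45266 = n96848 := rfl
theorem F149320 : act 5 n96848 = n78818 := d21_0 (iv1 F126150) F60665 (iv6 D21603) F16890 (iv6 F16403) (iv5 D10313) D10311 D21589 D45266 D96848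
theorem F149322 : act 1 n45293 = n96848 := d15_0 (iv0 D96848) (iv7 F148660) F148657
def n96849 : Q := act 0 n45276
theorem D96849 : act 0 n45276 = n96849 := rfl
theorem F149326 : act 3 n96849 = n82087 := d20_5 (iv4 F149315) (iv1 F149316) (iv4 D45281) (iv3 F71336) D96849 (iv4 F127280) (iv1 D80852) (iv4 D36922) (iv3 F57842) D80825
def n96850 : Q := act 1 n45276
theorem D96850 : act 1 n45276 = n96850 := rfl
theorem F149328 : act 1 n96850 = n82658 := d15_1 D96850 F127334 F121032
theorem F149329 : act 5 n96647 = n96850 := d21_6 (iv5 D96711) (iv1 F71209) (iv5 F70090) F70091 (iv1 F71109) D96647 (iv1 D96850) (iv5 D45276) D45277 (iv1 F149094)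
theorem F149331 : act 3 n96850 = n56828 := d6_1 F149329 F120642 (iv3 F148916)
theorem F149332 : act 7 n82285 = n96850 := d8_0 F149331 F124413 D82285
theorem F149333 : act 2 n82285 = n96849 := d15_3 (iv0 D96849) D96850 (iv7 F149332)
def n96851 : Q := act 4 n45276
theorem D96851 : act 4 n45276 = n96851 := rfl
theorem F149335 : act 2 n96851 = n87517 := d1_1 D96851 (iv4 D87517) F121032
theorem F149337 : act 7 n96851 = n87509 := d11_2 F121030 D96851 (iv4 D87509)
def n96852 : Q := act 0 n45278
theorem D96852 : act 0 n45278 = n96852 := rfl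
def n96853 : Q := act 1 n45278
theorem D96853 : act 1 n45278 = n96853 := rfl
def n96859 : Q := act 0 n45280
theorem D96859 : act 0 n45280 = n96859 := rfl
theorem F149341 : act 5 n96859 = n81541 := d17_1 D96859 (iv1 F125415) (iv5 D39511) (iv4 D18718) F61594 (iv0 D16815) D16819 (iv0 F116747) (iv4 F71338)
theorem F149342 : act 4 n96859 = n87172 := d18_3 F116748 (iv4 F71338) D96859 (iv5 D87172) (iv4 F116718) (iv0 D45194) F33954 D21572 (iv5 F71192)
def n96860 : Q := act 5 n45280
theorem D96860 : act 5 n45280 = n96860 := rfl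
theorem F149346 : act 0 n96860 = n95446 := d17_2 (iv1 F149028) D96860 (iv5 D95446) (iv4 D44587) D44588 (iv0 F131322) F131323 F131246 (iv4 F149024)
theorem F149347 : act 1 n96860 = n95444 := d17_6 (iv1 F116658) D18727 (iv1 F29984) F116761 (iv4 F71338) D96860 (iv5 D95444) F116724 F33897
def n96867 : Q := act 6 n45290
theorem D96867 : act 6 n45290 = n96867 := rfl
theorem F149357 : act 2 n96867 = n87521 := d3_1 D96867 (iv6 D87521) F127356
theorem F149358 : act 3 n96867 = n45293 := d7_1 D96867 (iv6 D45293) D45290
def n96871 : Q := act 4 n45292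
theorem D96871 : act 4 n45292 = n96871 := rfl
theorem F149362 : act 6 n96871 = n58112 := d10_2 (iv6 F71346) D96871 (iv4 D58112)
def n96894 : Q := act 0 n45301
theorem D96894 : act 0 n45301 = n96894 := rfl
def n96895 : Q := act 1 n45301
theorem D96895 : act 1 n45301 = n96895 := rfl
def n96897 : Q := act 7 n45301
theorem D96897 : act 7 n45301 = n96897 := rfl
theorem F149383 : act 4 n96897 = n45304 := d11_1 D96897 (iv7 D45304) (iv4 F71354)
def n96898 : Q := act 4 n45302
theorem D96898 : act 4 n45302 = n96898 := rfl
def n96899 : Q := act 5 n45302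
theorem D96899 : act 5 n45302 = n96899 := rfl
theorem F149388 : act 7 n96899 = n84528 := d13_2 F126143 D96899 F129695
theorem F149390 : act 0 n84366 = n96899 := d21_10 (iv5 D96899) (iv1 F71367) F126145 (iv6 F126146) (iv1 F117092) (iv6 F116836) (iv5 F71342) (iv1 D45269) F59942 D84366
def n96906 : Q := act 0 n45307
theorem D96906 : act 0 n45307 = n96906 := rfl
def n96907 : Q := act 1 n45307
theorem D96907 : act 1 n45307 = n96907 := rfl
theorem F149400 : act 1 n96907 = n96897 := d15_1 D96907 (iv7 D96897) (iv2 F71360)
theorem F149401 : act 4 n96907 = n81254 := d20_2 (iv4 F149383) (iv1 F149400) (iv3 D81254) (iv1 D37118) F29020 (iv4 F29025) D37124 F92686 D37166 (iv1 F126139)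
def n96909 : Q := act 7 n45307
theorem D96909 : act 7 n45307 = n96909 := rfl
theorem F149403 : act 2 n96909 = n96897 := d4_1 D96909 (iv7 D96897) (iv2 F71360)
theorem F149404 : act 4 n96909 = n45310 := d11_1 D96909 (iv7 D45310) (iv4 F71361)
theorem F149406 : act 1 n96897 = n96906 := d15_0 (iv0 D96906) D96909 F149403
theorem F149407 : act 1 n96895 = n96909 := d15_1 D96895 (iv7 D96909) F71360
theorem F149408 : act 4 n45559 = n96906 := d20_0 (iv1 F149406) F149383 (iv3 F124640) (iv1 F124643) F129654 D81391 F127629 F58924 F34592 D45559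
theorem F149409 : act 1 n96909 = n96894 := d15_0 (iv0 D96894) D96897 (iv2 F149403)
def n96910 : Q := act 4 n45309
theorem D96910 : act 4 n45309 = n96910 := rfl
theorem F149410 : act 2 n96910 = n81422 := d1_1 D96910 (iv4 D81422) (iv2 F126141)
theorem F149411 : act 7 n96910 = n96898 := d11_2 (iv7 F126143) D96910 (iv4 D96898)
theorem F149412 : act 0 n96910 = n45316 := d20_7 D80913 F126591 (iv4 F126587) F126586 (iv1 F58540) (iv3 F126142) D96910 F71383 F34200 D36961
def n96917 : Q := act 0 n45313
theorem D96917 : act 0 n45313 = n96917 := rfl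
def n96918 : Q := act 1 n45313
theorem D96918 : act 1 n45313 = n96918 := rfl
def n96920 : Q := act 7 n45313
theorem D96920 : act 7 n45313 = n96920 := rfl
theorem F149422 : act 4 n96920 = n45561 := d11_1 D96920 (iv7 D45561) (iv4 F71374)
theorem F149424 : act 1 n96910 = n96920 := d15_1 (iv0 F149412) (iv7 D96920) (iv2 F71382)
theorem F149426 : act 4 n82214 = n82176 := d20_2 (iv4 F58539) D82214 (iv3 F127579) (iv1 F72904) F72900 (iv4 F149422) (iv1 F149424) (iv4 D96910) F126142 (iv1 D37686)
theorem F149430 : act 0 n82175 = n81411 := d20_4 (iv4 F149426) (iv1 F126668) F126621 (iv3 F126586) (iv3 D81411) D81412 F127580 F90225 F90147 D82176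
theorem F149431 : act 1 n56509 = n81411 := d15_0 (iv0 F149430) (iv7 D82175) (iv2 F89362)
def n96928 : Q := act 7 n45316
theorem D96928 : act 7 n45316 = n96928 := rfl
theorem F149447 : act 2 n96928 = n96920 := d4_1 D96928 (iv7 D96920) (iv2 F71382)
theorem F149448 : act 4 n96928 = n45582 := d11_1 D96928 (iv7 D45582) (iv4 F71383)
theorem F149450 : act 1 n96918 = n96928 := d15_1 D96918 (iv7 D96928) F71382
theorem E14775 : n96918 = n81422 := (c20_8 (iv4 F29038) (iv1 F67501) (iv4 D37129) (iv3 F122106) (iv1 F57888) (iv3 F71867) (iv4 F149448) (iv1 F149450) (iv4 D81422) (iv3 D37181) (iv1 D17880))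
theorem F149451 : act 0 n81422 = n45313 := (sb E14775 (iv1 D96918))
theorem F149452 : act 1 n81422 = n96928 := (sb E14775 F149450)
theorem F149453 : act 1 n96928 = n96898 := d15_1 F149452 (iv7 F149411) F149410
theorem E14776 : n96917 = n96898 := ((c15_1 F149453 (iv0 D96917) D96920 (iv2 F149447))).symm
theorem F149454 : act 1 n96898 = n45313 := (sb E14776 (iv0 D96917))
theorem F149455 : act 1 n87060 = n78819 := d18_6 F126101 D81422 F149451 F71374 (iv5 F61549) (iv4 F133660) (iv4 D78819) D78817 (iv5 F126145)
theorem E14777 : n81193 = n46251 := ((c20_11 F127576 (iv1 F127574) F125187 F58108 (iv1 F29049) D37181 D81422 F149451 F71374 (iv3 F34592) D46251)).symm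
theorem F149456 : act 2 n46251 = n46248 := (sb E14777 F141782)
theorem F149457 : act 3 n46251 = n37094 := (sb E14777 (iv3 D81193))
theorem F149458 : act 4 n46251 = n82831 := (sb E14777 F127576)
theorem F149459 : act 7 n46251 = n46249 := (sb E14777 (iv7 F141780))
theorem F149460 : act 2 n46249 = n46252 := d15_3 F72898 F72902 F149459
theorem F149461 : act 7 n46248 = n46252 := d4_2 (iv7 F149459) F149456 (iv2 F149460)
theorem F149462 : act 4 n46252 = n82832 := d11_1 F149461 F141784 (iv4 F127578)
theorem F149463 : act 3 n46252 = n82206 := d20_9 (iv4 F58559) F126191 (iv4 D81416) (iv3 D37177) (iv1 F29053) (iv3 F58108) (iv4 F125187) (iv1 F127569) (iv4 F149462) (iv1 D82206)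
theorem F149464 : act 2 n82206 = n81196 := d0_1 F149463 (iv3 D81196) (iv2 F124964) F141778 F149460
theorem F149465 : act 7 n82206 = n82176 := d8_2 F149461 F149463 (iv3 F127579)
theorem F149466 : act 4 n82191 = n82206 := d20_2 (iv4 F126666) (iv1 F126669) (iv3 F149463) (iv1 D46252) F34592 (iv4 F71374) (iv1 F149454) (iv4 D96898) F126103 (iv1 F58545)
theorem F149468 : act 2 n82215 = n82191 := d1_3 F149466 F149464 (iv4 F126663)
theorem F149469 : act 7 n82214 = n82191 := d11_0 F149466 F149465 (iv4 F149426)
theorem F149470 : act 4 n82173 = n80908 := d20_0 (iv1 F124660) F124656 (iv3 F72896) (iv1 F72898) F149463 (iv4 F149466) (iv1 D82191) F58517 (iv3 F58505) D82173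
theorem F149471 : act 3 n57194 = n82173 := d20_5 F149462 (iv1 D82832) F58912 (iv3 F44287) D57194 F149470 (iv1 F124660) F124656 (iv3 F72896) (iv1 F72898)
theorem F149472 : act 7 n82173 = n81411 := d8_2 (iv7 F124416) F149471 (iv3 D81411)
theorem F149473 : act 7 n80926 = n80908 := d11_2 F149472 (iv4 F125214) (iv4 F149470)
theorem F149474 : act 2 n80908 = n80925 := d15_3 (iv0 D80925) D80926 F149473
theorem F149475 : act 2 n80926 = n80909 := d15_3 F124659 F124660 (iv7 F149473)
theorem F149476 : act 7 n80909 = n80925 := d4_2 (iv7 F149473) F149475 (iv2 F149474)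
theorem F149477 : act 2 n82214 = n82190 := d15_3 (iv0 D82190) D82191 (iv7 F149469)
theorem F149478 : act 7 n82190 = n82215 := d4_2 (iv7 F149469) F149477 F149468
theorem F149479 : act 2 n82176 = n82205 := d15_3 (iv0 D82205) D82206 F149465
theorem F149480 : act 7 n81196 = n82205 := d4_2 (iv7 F149465) F149464 (iv2 F149479)
theorem E14778 : n82177 = n81196 := ((c15_4 F126652 F126653 (iv7 F149465) F149464)).symm
theorem F149482 : act 1 n81196 = n82207 := (sb E14778 F126652)
theorem F149483 : act 3 n82205 = n81178 := d8_1 F149480 (iv7 F124956) D81196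
theorem F149484 : act 4 n82205 = n82190 := d11_1 F149480 F149478 F126663
theorem F149485 : act 6 n46252 = n80857 := d3_2 (iv6 F141779) F149460 (iv2 F124580)
theorem F149486 : act 0 n86432 = n81194 := d20_7 (iv4 F127623) (iv1 F127630) (iv4 D81391) (iv3 F129654) (iv1 D80898) (iv3 F61847) (iv4 F132521) (iv4 D81194) (iv3 F149457) (iv1 F72902)
def n96929 : Q := act 2 n45317
theorem D96929 : act 2 n45317 = n96929 := rfl
theorem F149487 : act 7 n45318 = n96929 := d15_2 (iv0 D45317) D45318 (iv2 D96929)
def n96931 : Q := act 4 n45317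
theorem D96931 : act 4 n45317 = n96931 := rfl
def n96934 : Q := act 7 n45317
theorem D96934 : act 7 n45317 = n96934 := rfl
theorem F149488 : act 2 n96934 = n45318 := d4_1 D96934 F149487 (iv2 D96929)
def n96946 : Q := act 6 n45322
theorem D96946 : act 6 n45322 = n96946 := rfl
theorem F149498 : act 2 n96946 = n87460 := d3_1 D96946 (iv6 D87460) (iv2 F71401)
theorem F149499 : act 3 n96946 = n96525 := d7_1 D96946 (iv6 D96525) (iv3 F71391)
def n96947 : Q := act 6 n45323
theorem D96947 : act 6 n45323 = n96947 := rfl
theorem F149500 : act 2 n96947 = n87458 := d3_1 D96947 (iv6 D87458) F71399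
theorem F149501 : act 3 n96947 = n87460 := d7_1 D96947 (iv6 D87460) F71402
def n96948 : Q := act 6 n45324
theorem D96948 : act 6 n45324 = n96948 := rfl
theorem F149502 : act 2 n96948 = n45325 := d3_1 D96948 (iv6 D45325) D45324
theorem F149503 : act 3 n96948 = n45362 := d7_1 D96948 (iv6 D45362) (iv3 F71394)
theorem F149504 : act 4 n96948 = n46008 := d10_1 D96948 (iv6 D46008) (iv4 F71395)
theorem F149505 : act 7 n96053 = n96948 := d11_0 F149504 (iv7 F136548) (iv4 F147666)
theorem F149506 : act 0 n96051 = n96948 := d20_10 F149504 F134922 F62907 (iv3 D21686) (iv1 F33865) (iv3 F70976) F70977 (iv1 F70980) D95508 (iv3 F147665)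
theorem F149507 : act 1 n96052 = n96948 := d15_1 D96052 (iv7 F149505) (iv2 D96053)
def n96949 : Q := act 0 n45325
theorem D96949 : act 0 n45325 = n96949 := rfl
theorem F149508 : act 3 n96949 = n96537 := d20_5 (iv4 F32943) F66236 (iv4 F34009) (iv3 F71404) D96949 (iv4 D96537) (iv1 F70979) F70143 F70142 (iv1 F33465)
theorem F149509 : act 1 n96053 = n96949 := d15_0 (iv0 D96949) (iv7 F71406) D96053
def n96950 : Q := act 1 n45325
theorem D96950 : act 1 n45325 = n96950 := rfl
theorem F149510 : act 1 n96950 = n96053 := d15_1 D96950 F149505 F149502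
def n96951 : Q := act 5 n45325
theorem D96951 : act 5 n45325 = n96951 := rfl
theorem F149511 : act 3 n96951 = n45326 := d6_1 D96951 (iv5 D45326) (iv3 F71404)
theorem F149512 : act 7 n96951 = n96054 := d13_2 F71406 D96951 (iv5 D96054)
def n96952 : Q := act 0 n45327
theorem D96952 : act 0 n45327 = n96952 := rfl
theorem F149513 : act 5 n96952 = n45534 := d17_3 (iv1 F62911) D45327 D96952 (iv4 D45534) (iv5 D21742) (iv0 D10364) (iv5 D4694) D4693 D10361
theorem F149514 : act 4 n96952 = n45478 := d18_1 D96952 (iv1 F148764) F148761 F71000 F33862 F16289 D10356 (iv0 F62910) D45327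
theorem F149515 : act 1 n45491 = n96952 := d15_0 (iv0 D96952) (iv7 F148769) F148767
theorem F149516 : act 2 n87475 = n96952 := d2_3 F149513 (iv2 F76144) (iv5 F134290)
def n96953 : Q := act 1 n45327
theorem D96953 : act 1 n45327 = n96953 := rfl
theorem F149523 : act 7 n96953 = n87475 := d15_2 (iv0 D96952) D96953 F149516
theorem F149524 : act 5 n96953 = n45541 := d17_7 (iv1 F76089) (iv5 F127444) F127446 (iv5 D40676) (iv4 F34011) D45327 D96953 (iv0 F144047) (iv4 D93387)
theorem F149526 : act 4 n45479 = n96953 := d18_3 (iv1 F71006) (iv4 F148761) (iv1 F148763) F149524 (iv4 D45541) F70807 (iv4 F143326) F143324 (iv5 D45473)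
def n96954 : Q := act 4 n45327
theorem D96954 : act 4 n45327 = n96954 := rfl
theorem F149527 : act 2 n96954 = n87476 := d1_1 D96954 (iv4 D87476) (iv2 F71409)
theorem F149529 : act 1 n96954 = n96573 := d18_6 (iv1 F33859) (iv4 F62909) F62912 (iv4 F34011) D45327 D96954 (iv4 D96573) F70995 F34147
def n96957 : Q := act 5 n45328
theorem D96957 : act 5 n45328 = n96957 := rfl
theorem F149531 : act 2 n96957 = n95568 := d2_1 D96957 (iv5 D95568) (iv2 F71410)
theorem F149532 : act 3 n96957 = n95563 := d6_1 D96957 (iv5 D95563) (iv3 F71411)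
def n96958 : Q := act 7 n45328
theorem D96958 : act 7 n45328 = n96958 := rfl
theorem F149533 : act 2 n96958 = n95569 := d4_1 D96958 (iv7 D95569) (iv2 F71410)
theorem F149534 : act 3 n96958 = n95564 := d8_1 D96958 (iv7 D95564) (iv3 F71411)
theorem F149535 : act 4 n96958 = n90116 := d11_1 D96958 (iv7 D90116) (iv4 F71412)
theorem F149536 : act 6 n96958 = n95564 := d14_1 D96958 (iv7 D95564) (iv6 D44637) (iv7 F40024) D45328
theorem F149538 : act 1 n95567 = n96958 := d15_1 D95567 (iv7 D96958) F71410
theorem F149539 : act 1 n96958 = n95566 := d15_0 (iv0 D95566) D95569 (iv2 F149533)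
def n96959 : Q := act 6 n45329
theorem D96959 : act 6 n45329 = n96959 := rfl
theorem F149540 : act 2 n96959 = n95565 := d3_1 D96959 (iv6 D95565) (iv2 F71413)
theorem F149541 : act 3 n96959 = n45330 := d7_1 D96959 (iv6 D45330) D45329
theorem F149542 : act 4 n96959 = n95565 := d10_1 D96959 (iv6 D95565) (iv4 F71414)
def n96960 : Q := act 0 n45330
theorem D96960 : act 0 n45330 = n96960 := rfl
def n96961 : Q := act 1 n45330
theorem D96961 : act 1 n45330 = n96961 := rfl
theorem F149543 : act 1 n96961 = n95564 := d15_1 D96961 (iv7 D95564) (iv2 F71419)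
def n96962 : Q := act 5 n45330
theorem D96962 : act 5 n45330 = n96962 := rfl
theorem F149544 : act 2 n96962 = n95563 := d2_1 D96962 (iv5 D95563) (iv2 F71419)
def n96963 : Q := act 7 n45330
theorem D96963 : act 7 n45330 = n96963 := rfl
theorem F149545 : act 2 n96963 = n95564 := d4_1 D96963 (iv7 D95564) (iv2 F71419)
theorem F149546 : act 4 n96963 = n90112 := d11_1 D96963 (iv7 D90112) (iv4 F71420)
theorem F149547 : act 6 n96963 = n95569 := d14_1 D96963 (iv7 D95569) (iv6 D44639) F40026 D45330
theorem F149548 : act 1 n95564 = n96960 := d15_0 (iv0 D96960) D96963 F149545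
def n96964 : Q := act 5 n45332
theorem D96964 : act 5 n45332 = n96964 := rfl
theorem F149551 : act 2 n96964 = n45336 := d2_1 D96964 (iv5 D45336) (iv2 F71427)
theorem F149552 : act 3 n96964 = n95645 := d6_1 D96964 (iv5 D95645) (iv3 F71428)
def n96965 : Q := act 7 n45332
theorem D96965 : act 7 n45332 = n96965 := rfl
theorem F149553 : act 2 n96965 = n45337 := d4_1 D96965 (iv7 D45337) (iv2 F71427)
theorem F149554 : act 3 n96965 = n95618 := d8_1 D96965 F147286 (iv3 F71428)
theorem F149555 : act 4 n96965 = n76483 := d11_1 D96965 F114636 (iv4 F71429)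
theorem F149556 : act 6 n96965 = n76482 := d14_1 D96965 (iv7 D76482) F55292 (iv7 F34018) D45332
theorem F149557 : act 1 n45335 = n96965 := d15_1 D45335 (iv7 D96965) F71427
theorem F149558 : act 0 n45334 = n96965 := d20_1 F142162 F149555 (iv3 F145286) (iv1 F145290) D94236 F145298 (iv1 F137204) F72572 (iv3 F67730) D92427
def n96966 : Q := act 0 n45333
theorem D96966 : act 0 n45333 = n96966 := rfl
def n96967 : Q := act 1 n45333
theorem D96967 : act 1 n45333 = n96967 := rfl
theorem F149559 : act 4 n96967 = n52702 := d18_7 (iv1 F40459) (iv4 F114619) (iv1 D48716) F37017 D26992 (iv4 F71431) D96967 F83270 F56627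
def n96968 : Q := act 5 n45333
theorem D96968 : act 5 n45333 = n96968 := rfl
theorem F149560 : act 3 n96968 = n45340 := d6_1 D96968 (iv5 D45340) (iv3 F71430)
theorem F149561 : act 6 n96968 = n45336 := d12_2 D45333 D96968 (iv5 D45336) (iv6 D21615) D21614
def n96969 : Q := act 7 n45333
theorem D96969 : act 7 n45333 = n96969 := rfl
theorem F149562 : act 3 n96969 = n45341 := d8_1 D96969 (iv7 D45341) (iv3 F71430)
theorem F149563 : act 4 n96969 = n55983 := d11_1 D96969 (iv7 D55983) (iv4 F71431)
theorem F149564 : act 6 n96969 = n95573 := d14_1 D96969 (iv7 D95573) (iv6 D44640) (iv7 F34023) D45333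
theorem F149565 : act 1 n78973 = n96969 := d15_1 (iv0 F120145) (iv7 D96969) (iv2 F83721)
theorem F149566 : act 0 n78968 = n96969 := d18_2 D35943 D78968 F149563 F88592 (iv4 F76692) F76697 (iv4 F83209) (iv0 D17397) D17399
def n96970 : Q := act 2 n45334
theorem D96970 : act 2 n45334 = n96970 := rfl
theorem F149567 : act 7 n45335 = n96970 := d15_2 (iv0 D45334) D45335 (iv2 D96970)
def n96971 : Q := act 5 n45334
theorem D96971 : act 5 n45334 = n96971 := rfl
theorem F149568 : act 3 n96971 = n95575 := d6_1 D96971 (iv5 D95575) (iv3 F83216)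
def n96972 : Q := act 6 n45334
theorem D96972 : act 6 n45334 = n96972 := rfl
theorem F149569 : act 3 n96972 = n95576 := d7_1 D96972 (iv6 D95576) (iv3 F83216)
def n96973 : Q := act 7 n45334
theorem D96973 : act 7 n45334 = n96973 := rfl
theorem F149570 : act 2 n96973 = n45335 := d4_1 D96973 F149567 (iv2 D96970)
theorem F149571 : act 3 n96973 = n95577 := d8_1 D96973 (iv7 D95577) (iv3 F83216)
def n96974 : Q := act 3 n45335
theorem D96974 : act 3 n45335 = n96974 := rfl
theorem F149572 : act 2 n96974 = n95578 := d0_1 D96974 (iv3 D95578) (iv2 F147243) (iv3 F149571) F149570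
theorem F149573 : act 4 n96974 = n95578 := d5_2 F142166 D96974 (iv3 D95578) (iv4 F83204) F142165
def n96975 : Q := act 5 n45335
theorem D96975 : act 5 n45335 = n96975 := rfl
def n96976 : Q := act 6 n45335
theorem D96976 : act 6 n45335 = n96976 := rfl
def n96977 : Q := act 0 n45336
theorem D96977 : act 0 n45336 = n96977 := rfl
def n96978 : Q := act 1 n45336
theorem D96978 : act 1 n45336 = n96978 := rfl
def n96979 : Q := act 4 n45336
theorem D96979 : act 4 n45336 = n96979 := rfl
def n96980 : Q := act 7 n45336
theorem D96980 : act 7 n45336 = n96980 := rfl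
theorem F149574 : act 3 n96980 = n45351 := d8_1 D96980 (iv7 D45351) (iv3 F71432)
theorem F149575 : act 5 n96980 = n45337 := d13_1 D96980 (iv7 D45337) D45336
def n96981 : Q := act 2 n45338
theorem D96981 : act 2 n45338 = n96981 := rfl
theorem F149576 : act 7 n45339 = n96981 := d15_2 (iv0 D45338) D45339 (iv2 D96981)
def n96982 : Q := act 3 n45338
theorem D96982 : act 3 n45338 = n96982 := rfl
def n96983 : Q := act 4 n45338
theorem D96983 : act 4 n45338 = n96983 := rfl
def n96984 : Q := act 5 n45338
theorem D96984 : act 5 n45338 = n96984 := rfl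
def n96985 : Q := act 6 n45338
theorem D96985 : act 6 n45338 = n96985 := rfl
def n96986 : Q := act 7 n45338
theorem D96986 : act 7 n45338 = n96986 := rfl
theorem F149578 : act 2 n96986 = n45339 := d4_1 D96986 F149576 (iv2 D96981)
def n96987 : Q := act 3 n45339
theorem D96987 : act 3 n45339 = n96987 := rfl
def n96988 : Q := act 4 n45339
theorem D96988 : act 4 n45339 = n96988 := rfl
def n96989 : Q := act 5 n45339
theorem D96989 : act 5 n45339 = n96989 := rfl
def n96990 : Q := act 6 n45339
theorem D96990 : act 6 n45339 = n96990 := rfl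
def n96991 : Q := act 0 n45340
theorem D96991 : act 0 n45340 = n96991 := rfl
def n96992 : Q := act 1 n45340
theorem D96992 : act 1 n45340 = n96992 := rfl
theorem F149579 : act 1 n96992 = n95671 := d15_1 D96992 (iv7 D95671) (iv2 F71437)
theorem F149580 : act 5 n95471 = n96992 := d21_6 (iv5 D19300) F14151 D10124 D21215 D44599 D95471 (iv1 D96992) (iv5 D45340) (iv6 D21616) (iv1 F30955)
def n96993 : Q := act 4 n45340
theorem D96993 : act 4 n45340 = n96993 := rfl
theorem F149581 : act 2 n96993 = n95670 := d1_1 D96993 (iv4 D95670) (iv2 F71437)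
theorem F149582 : act 6 n96993 = n45350 := d10_2 (iv6 F71438) D96993 (iv4 D45350)
def n96994 : Q := act 7 n45340
theorem D96994 : act 7 n45340 = n96994 := rfl
theorem F149583 : act 2 n96994 = n95671 := d4_1 D96994 (iv7 D95671) (iv2 F71437)
theorem F149584 : act 5 n96994 = n45341 := d13_1 D96994 (iv7 D45341) D45340
theorem F149585 : act 1 n95671 = n96991 := d15_0 (iv0 D96991) D96994 F149583
theorem F149586 : act 1 n95669 = n96994 := d15_1 D95669 (iv7 D96994) F71437
theorem F149587 : act 1 n96994 = n95668 := d15_0 (iv0 D95668) D95671 (iv2 F149583)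
def n96995 : Q := act 0 n45342
theorem D96995 : act 0 n45342 = n96995 := rfl
theorem F149588 : act 1 n95680 = n96995 := d15_0 (iv0 D96995) F71444 D95680
def n96996 : Q := act 1 n45342
theorem D96996 : act 1 n45342 = n96996 := rfl
def n96997 : Q := act 2 n45342
theorem D96997 : act 2 n45342 = n96997 := rfl
theorem F149589 : act 3 n96997 = n45367 := d0_2 D45342 D96997 (iv2 F71522) (iv3 D44686) (iv2 F63471)
theorem F149590 : act 4 n96997 = n87538 := d1_2 F136473 D96997 (iv2 F136476)
theorem F149591 : act 7 n96997 = n95680 := d4_2 (iv7 F71444) D96997 (iv2 D95680)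
theorem F149592 : act 1 n96997 = n95678 := d15_0 (iv0 D95678) (iv7 F71444) D96997
theorem F149593 : act 1 n96996 = n95680 := d15_1 D96996 (iv7 F149591) (iv2 D96997)
theorem F149594 : act 1 n95679 = n96997 := d15_1 D95679 F149591 (iv2 D95680)
def n96998 : Q := act 5 n45342
theorem D96998 : act 5 n45342 = n96998 := rfl
theorem F149595 : act 3 n96998 = n45343 := d6_1 D96998 (iv5 D45343) D45342
theorem F149596 : act 7 n96998 = n95681 := d13_2 (iv7 F71444) D96998 (iv5 D95681)
def n96999 : Q := act 6 n45342
theorem D96999 : act 6 n45342 = n96999 := rfl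
theorem F149597 : act 3 n96999 = n45344 := d7_1 D96999 (iv6 D45344) D45342
theorem F149598 : act 4 n96999 = n87033 := d10_1 D96999 F136477 F136473
theorem F149599 : act 5 n95486 = n96999 := d6_0 F149597 F71449 D95486
def n97000 : Q := act 4 n45343
theorem D97000 : act 4 n45343 = n97000 := rfl
theorem F149600 : act 2 n97000 = n95676 := d1_1 D97000 (iv4 D95676) (iv2 F71445)
theorem F149601 : act 7 n97000 = n95683 := d11_2 (iv7 F71446) D97000 (iv4 D95683)
def n97001 : Q := act 6 n45343
theorem D97001 : act 6 n45343 = n97001 := rfl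
theorem F149602 : act 2 n97001 = n95677 := d3_1 D97001 (iv6 D95677) (iv2 F71445)
theorem F149603 : act 5 n97001 = n95488 := d12_1 D97001 (iv6 D95488) (iv5 F71449) (iv6 D45344) D45343
def n97002 : Q := act 5 n45345
theorem D97002 : act 5 n45345 = n97002 := rfl
theorem F149604 : act 3 n97002 = n45346 := d6_1 D97002 (iv5 D45346) D45345
theorem F149605 : act 7 n97002 = n95672 := d13_2 (iv7 F71456) D97002 (iv5 D95672)
def n97003 : Q := act 6 n45345
theorem D97003 : act 6 n45345 = n97003 := rfl
theorem F149606 : act 3 n97003 = n45347 := d7_1 D97003 (iv6 D45347) D45345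
theorem F149607 : act 4 n97003 = n96153 := d10_1 D97003 F147823 F135757
theorem F149608 : act 7 n96086 = n97003 := d8_0 F149606 (iv7 F71462) D96086
def n97004 : Q := act 4 n45346
theorem D97004 : act 4 n45346 = n97004 := rfl
theorem F149609 : act 2 n97004 = n95683 := d1_1 D97004 (iv4 D95683) (iv2 F71458)
theorem F149610 : act 7 n97004 = n95676 := d11_2 (iv7 F71459) D97004 (iv4 D95676)
def n97005 : Q := act 6 n45346
theorem D97005 : act 6 n45346 = n97005 := rfl
theorem F149611 : act 2 n97005 = n95684 := d3_1 D97005 (iv6 D95684) (iv2 F71458)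
def n97006 : Q := act 5 n45347
theorem D97006 : act 5 n45347 = n97006 := rfl
theorem F149612 : act 2 n97006 = n48087 := d2_1 D97006 F75555 (iv2 F71460)
theorem F149613 : act 7 n97006 = n48088 := d13_2 F71462 D97006 (iv5 F75558)
theorem F149614 : act 0 n97006 = n47996 := d17_2 F133996 D97006 (iv5 D47996) (iv4 D23159) (iv5 F36126) (iv0 F63325) F36357 (iv0 F63326) (iv4 F70180)
theorem F149615 : act 1 n97006 = n47994 := d17_6 D19302 D40987 D87866 F134851 (iv4 F71461) D97006 (iv5 D47994) F63076 F30956
def n97007 : Q := act 3 n45348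
theorem D97007 : act 3 n45348 = n97007 := rfl
theorem F149616 : act 7 n97007 = n95688 := d8_2 (iv7 F71475) D97007 (iv3 D95688)
def n97008 : Q := act 6 n45348
theorem D97008 : act 6 n45348 = n97008 := rfl
theorem F149617 : act 2 n97008 = n95687 := d3_1 D97008 (iv6 D95687) (iv2 F71476)
def n97009 : Q := act 3 n45349
theorem D97009 : act 3 n45349 = n97009 := rfl
theorem F149618 : act 5 n97009 = n96382 := d6_2 F71468 D97009 F148342
theorem F149619 : act 7 n97009 = n95685 := d8_2 F71477 D97009 (iv3 D95685)
theorem F149620 : act 0 n97009 = n45368 := d21_7 (iv5 F70751) (iv1 F70753) (iv5 D44592) D44593 (iv1 F76171) D96382 (iv5 F149618) (iv5 D45368) (iv6 D21641) D21638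
def n97010 : Q := act 6 n45349
theorem D97010 : act 6 n45349 = n97010 := rfl
theorem F149621 : act 2 n97010 = n95690 := d3_1 D97010 (iv6 D95690) (iv2 F71469)
theorem F149622 : act 5 n97010 = n96384 := d12_1 D97010 (iv6 D96384) (iv5 D45003) D45004 F71468
def n97011 : Q := act 0 n45350
theorem D97011 : act 0 n45350 = n97011 := rfl
theorem F149623 : act 4 n97011 = n45401 := d18_3 (iv1 D45349) D45350 D97011 (iv5 F76120) F76119 (iv0 F66782) (iv4 F75066) F75225 F71468
theorem F149624 : act 2 n95691 = n97011 := d1_3 F149623 (iv2 F71620) (iv4 F147381)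
theorem F149625 : act 7 n95692 = n97011 := d11_0 F149623 (iv7 F71621) (iv4 F147382)
theorem F149626 : act 1 n95695 = n97011 := d18_6 (iv1 F63255) (iv4 D21623) (iv1 F16436) (iv4 F33503) (iv5 F70268) (iv4 F147383) F149623 (iv0 D45401) (iv5 D21664)
def n97012 : Q := act 1 n45350
theorem D97012 : act 1 n45350 = n97012 := rfl
theorem F149627 : act 1 n97012 = n95695 := d15_1 D97012 (iv7 D95695) (iv2 F71470)
theorem F149628 : act 7 n97012 = n95691 := d15_2 (iv0 D97011) D97012 F149624
theorem F149629 : act 4 n97012 = n45402 := d18_7 (iv1 F35854) F31576 (iv1 F63246) (iv4 F16430) D21619 D45350 D97012 F71615 F70340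
theorem F149630 : act 2 n95692 = n97012 := d1_3 F149629 F71617 (iv4 F147382)
def n97013 : Q := act 3 n45350
theorem D97013 : act 3 n45350 = n97013 := rfl
def n97014 : Q := act 5 n45350
theorem D97014 : act 5 n45350 = n97014 := rfl
theorem F149632 : act 4 n97014 = n95723 := d16_2 D45350 D97014 F147417 F70282 F33508 (iv4 F33503) (iv5 F70268) (iv7 D44695) (iv2 F34029)
theorem F149633 : act 7 n95721 = n97014 := d11_0 F149632 (iv7 D95723) D95721
def n97015 : Q := act 7 n45350
theorem D97015 : act 7 n45350 = n97015 := rfl
theorem F149634 : act 2 n97015 = n95695 := d4_1 D97015 (iv7 D95695) (iv2 F71470)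
theorem F149635 : act 4 n97015 = n45351 := d11_1 D97015 (iv7 D45351) D45350
theorem F149636 : act 5 n97015 = n95721 := d13_1 D97015 F149633 (iv5 D97014)
theorem F149637 : act 1 n95692 = n97015 := d15_1 D95692 (iv7 D97015) F71470
def n97016 : Q := act 6 n45351
theorem D97016 : act 6 n45351 = n97016 := rfl
theorem F149639 : act 2 n97016 = n95696 := d3_1 D97016 (iv6 D95696) (iv2 F71471)
theorem F149640 : act 5 n97016 = n89821 := d12_1 D97016 (iv6 D89821) (iv5 D41959) F63225 (iv5 F71472)
def n97017 : Q := act 5 n45352
theorem D97017 : act 5 n45352 = n97017 := rfl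
theorem F149641 : act 2 n97017 = n89824 := d2_1 D97017 (iv5 D89824) (iv2 F71479)
theorem F149642 : act 3 n97017 = n45353 := d6_1 D97017 (iv5 D45353) D45352
theorem F149643 : act 7 n97017 = n95697 := d13_2 (iv7 F71481) D97017 (iv5 D95697)
def n97018 : Q := act 4 n45353
theorem D97018 : act 4 n45353 = n97018 := rfl
theorem F149644 : act 2 n97018 = n89841 := d1_1 D97018 (iv4 D89841) (iv2 F71482)
theorem F149645 : act 7 n97018 = n95699 := d11_2 (iv7 F71483) D97018 (iv4 D95699)
def n97019 : Q := act 6 n45353
theorem D97019 : act 6 n45353 = n97019 := rfl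
theorem F149646 : act 2 n97019 = n89842 := d3_1 D97019 (iv6 D89842) (iv2 F71482)
def n97020 : Q := act 3 n45354
theorem D97020 : act 3 n45354 = n97020 := rfl
theorem F149647 : act 4 n97020 = n97020 := d5_2 D45354 D97020 (iv3 D97020) (iv4 D45354) F63275
theorem F149648 : act 7 n97020 = n95701 := d8_2 (iv7 F71485) D97020 (iv3 D95701)
def n97021 : Q := act 5 n45354
theorem D97021 : act 5 n45354 = n97021 := rfl
theorem F149651 : act 1 n97021 = n87102 := d17_6 (iv1 F66788) (iv5 D10330) D10328 D21624 D45354 D97021 (iv5 D87102) (iv0 F66868) (iv4 D42040)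
def n97028 : Q := act 3 n45358
theorem D97028 : act 3 n45358 = n97028 := rfl
def n97029 : Q := act 5 n45358
theorem D97029 : act 5 n45358 = n97029 := rfl
def n97030 : Q := act 6 n45358
theorem D97030 : act 6 n45358 = n97030 := rfl
def n97031 : Q := act 0 n45359
theorem D97031 : act 0 n45359 = n97031 := rfl
def n97032 : Q := act 1 n45359
theorem D97032 : act 1 n45359 = n97032 := rfl
def n97033 : Q := act 2 n45359
theorem D97033 : act 2 n45359 = n97033 := rfl
theorem F149670 : act 3 n97033 = n95716 := d0_2 D45359 D97033 (iv2 D95716) (iv3 D44704) (iv2 F34041)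
theorem F149671 : act 6 n97033 = n87049 := d3_2 (iv6 F71496) D97033 (iv2 D87049)
def n97034 : Q := act 5 n45359
theorem D97034 : act 5 n45359 = n97034 := rfl
def n97036 : Q := act 0 n45360
theorem D97036 : act 0 n45360 = n97036 := rfl
theorem F149675 : act 5 n97036 = n90082 := d17_3 (iv1 D45358) D45360 D97036 (iv4 D90082) (iv5 D42102) (iv0 D19853) D19855 D42106 F125248
theorem F149676 : act 7 n95720 = n97036 := d13_0 F149675 F138457 (iv5 F147415)
theorem F149677 : act 1 n95723 = n97036 := d17_6 (iv1 F64895) (iv5 D21624) (iv1 F16436) (iv5 F33508) (iv4 F70282) (iv5 F147417) F149675 F138459 (iv4 D89941)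
theorem F149678 : act 2 n97036 = n95719 := d15_3 (iv0 D95719) D95720 F149676
def n97037 : Q := act 1 n45360
theorem D97037 : act 1 n45360 = n97037 := rfl
theorem F149680 : act 7 n97037 = n95719 := d15_2 (iv0 D97036) D97037 (iv2 F149678)
theorem F149681 : act 5 n97037 = n90083 := d17_7 (iv1 F63282) (iv5 D19818) (iv1 F63246) D10330 D21633 D45360 D97037 F138461 (iv4 D47905)
theorem F149682 : act 2 n95720 = n97037 := d2_3 F149681 F138460 (iv5 F147415)
def n97038 : Q := act 4 n45360
theorem D97038 : act 4 n45360 = n97038 := rfl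
theorem F149684 : act 5 n97038 = n95695 := d9_2 D45360 D97038 F147383 F70268 F33503 (iv5 F33508) (iv4 F70282) (iv5 F147417) (iv4 F149632) (iv5 D97014) (iv4 D45350) (iv5 D21619) F16430 D10330 D21633
def n97039 : Q := act 6 n45360
theorem D97039 : act 6 n45360 = n97039 := rfl
theorem F149687 : act 5 n97039 = n87051 := d12_1 D97039 (iv6 D87051) (iv5 D40447) (iv6 F34042) D45360
def n97040 : Q := act 7 n45360
theorem D97040 : act 7 n45360 = n97040 := rfl
theorem F149690 : act 5 n97040 = n45361 := d13_1 D97040 (iv7 D45361) D45360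
theorem F149691 : act 1 n95720 = n97040 := d15_1 D95720 (iv7 D97040) F71497
theorem F149692 : act 1 n97040 = n95719 := d15_1 F149691 (iv7 F149680) (iv2 F149682)
def n97041 : Q := act 5 n45362
theorem D97041 : act 5 n45362 = n97041 := rfl
theorem F149693 : act 2 n97041 = n95559 := d2_1 D97041 (iv5 D95559) (iv2 F71512)
def n97042 : Q := act 4 n45363
theorem D97042 : act 4 n45363 = n97042 := rfl
theorem F149694 : act 2 n97042 = n45365 := d1_1 D97042 (iv4 D45365) (iv2 F71513)
theorem F149695 : act 3 n97042 = n57607 := d5_1 D97042 F92116 F68286 (iv4 F55312) (iv3 F71514)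
theorem F149697 : act 5 n97042 = n57605 := d17_5 D44594 F70121 (iv1 F34059) D45363 D97042 (iv0 F90748) D57641 F120178 (iv4 D44595)
theorem F149698 : act 0 n97042 = n71439 := d17_0 F116242 F116241 F112537 (iv4 D44993) (iv5 D21483) (iv0 F33678) (iv5 F70196) F71516 D97042
theorem F149699 : act 1 n97042 = n57664 := d15_1 (iv0 F149698) F90841 (iv2 F107978)
theorem F149700 : act 6 n93865 = n97042 := d7_0 F149695 F92117 D93865
def n97043 : Q := act 6 n45363
theorem D97043 : act 6 n45363 = n97043 := rfl
theorem F149701 : act 2 n97043 = n45366 := d3_1 D97043 (iv6 D45366) (iv2 F71513)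
theorem F149702 : act 3 n97043 = n76504 := d7_1 D97043 (iv6 D76504) (iv3 F71514)
theorem F149703 : act 4 n97043 = n93865 := d10_1 D97043 F149700 (iv4 D97042)
def n97044 : Q := act 5 n45364
theorem D97044 : act 5 n45364 = n97044 := rfl
theorem F149704 : act 2 n97044 = n45368 := d2_1 D97044 (iv5 D45368) (iv2 F71518)
theorem F149705 : act 3 n97044 = n76481 := d6_1 D97044 (iv5 D76481) (iv3 F71519)
def n97045 : Q := act 1 n45365
theorem D97045 : act 1 n45365 = n97045 := rfl
theorem F149708 : act 4 n97045 = n95791 := d17_9 F147486 F106463 F71417 (iv5 F109577) (iv4 D73049) (iv5 D33656) D33653 F90781 D97045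
theorem F149709 : act 3 n54670 = n97045 := d19_19 (iv1 D97045) (iv5 F90781) D73043 F109566 (iv1 D56011) (iv5 F88150) (iv4 F90547) (iv3 D57359) (iv1 D27458) D27460 F44379 (iv3 F46136) (iv1 F76709) (iv5 D48720) F37029 (iv3 D15927) (iv1 F21014) D26442 D54670
theorem F149710 : act 2 n97045 = n57664 := d0_1 F149709 (iv3 D57664) (iv2 F44447) (iv3 F52277) (iv2 F86481)
theorem F149711 : act 5 n75001 = n97045 := d2_0 F149710 F90840 D75001
def n97046 : Q := act 6 n45365
theorem D97046 : act 6 n45365 = n97046 := rfl
theorem F149712 : act 2 n97046 = n93865 := d3_1 D97046 F149700 F149694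
theorem F149713 : act 4 n97046 = n45366 := d10_1 D97046 (iv6 D45366) D45365
def n97047 : Q := act 0 n45366
theorem D97047 : act 0 n45366 = n97047 := rfl
def n97048 : Q := act 1 n45366
theorem D97048 : act 1 n45366 = n97048 := rfl
def n97049 : Q := act 5 n45366
theorem D97049 : act 5 n45366 = n97049 := rfl
theorem F149714 : act 3 n97049 = n45371 := d6_1 D97049 (iv5 D45371) (iv3 F71521)
theorem F149715 : act 6 n97049 = n45368 := d12_2 D45366 D97049 (iv5 D45368) (iv6 D21641) D21640
def n97050 : Q := act 7 n45366
theorem D97050 : act 7 n45366 = n97050 := rfl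
theorem F149716 : act 3 n97050 = n45372 := d8_1 D97050 (iv7 D45372) (iv3 F71521)
theorem F149717 : act 6 n97050 = n95652 := d14_1 D97050 (iv7 D95652) (iv6 D44678) (iv7 F34062) D45366
def n97051 : Q := act 5 n45367
theorem D97051 : act 5 n45367 = n97051 := rfl
theorem F149718 : act 2 n97051 = n95672 := d2_1 D97051 (iv5 D95672) F71522
def n97052 : Q := act 6 n45367
theorem D97052 : act 6 n45367 = n97052 := rfl
theorem F149719 : act 2 n97052 = n95673 := d3_1 D97052 (iv6 D95673) F71522
def n97053 : Q := act 0 n45368
theorem D97053 : act 0 n45368 = n97053 := rfl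
theorem F149720 : act 2 n95685 = n97053 := d15_3 (iv0 D97053) (iv0 F149620) F149619
def n97054 : Q := act 4 n45368
theorem D97054 : act 4 n45368 = n97054 := rfl
def n97055 : Q := act 2 n45369
theorem D97055 : act 2 n45369 = n97055 := rfl
theorem F149721 : act 7 n45370 = n97055 := d15_2 (iv0 D45369) D45370 (iv2 D97055)
def n97056 : Q := act 3 n45369
theorem D97056 : act 3 n45369 = n97056 := rfl
def n97057 : Q := act 4 n45369
theorem D97057 : act 4 n45369 = n97057 := rfl
def n97058 : Q := act 5 n45369
theorem D97058 : act 5 n45369 = n97058 := rfl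
def n97059 : Q := act 6 n45369
theorem D97059 : act 6 n45369 = n97059 := rfl
theorem F149722 : act 5 n97059 = n96267 := d21_6 F33700 (iv1 F16418) D10334 D21642 D45369 D97059 (iv1 D96267) (iv5 D44941) (iv6 D21449) D21446
def n97060 : Q := act 7 n45369
theorem D97060 : act 7 n45369 = n97060 := rfl
theorem F149723 : act 2 n97060 = n45370 := d4_1 D97060 F149721 (iv2 D97055)
def n97061 : Q := act 3 n45370
theorem D97061 : act 3 n45370 = n97061 := rfl
def n97062 : Q := act 4 n45370
theorem D97062 : act 4 n45370 = n97062 := rfl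
def n97063 : Q := act 5 n45370
theorem D97063 : act 5 n45370 = n97063 := rfl
def n97064 : Q := act 6 n45370
theorem D97064 : act 6 n45370 = n97064 := rfl
def n97065 : Q := act 0 n45371
theorem D97065 : act 0 n45371 = n97065 := rfl
def n97066 : Q := act 1 n45371
theorem D97066 : act 1 n45371 = n97066 := rfl
theorem F149724 : act 1 n97066 = n95610 := d15_1 D97066 (iv7 D95610) (iv2 F71525)
theorem F149725 : act 5 n95336 = n97066 := d21_6 (iv5 D21170) (iv1 D10090) D10092 D21178 D44530 D95336 (iv1 D97066) (iv5 D45371) (iv6 D21642) (iv1 F33416)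
def n97067 : Q := act 4 n45371
theorem D97067 : act 4 n45371 = n97067 := rfl
theorem F149726 : act 2 n97067 = n95609 := d1_1 D97067 (iv4 D95609) (iv2 F71525)
theorem F149727 : act 6 n97067 = n45380 := d10_2 (iv6 F71526) D97067 (iv4 D45380)
def n97068 : Q := act 7 n45371
theorem D97068 : act 7 n45371 = n97068 := rfl
theorem F149728 : act 2 n97068 = n95610 := d4_1 D97068 (iv7 D95610) (iv2 F71525)
theorem F149729 : act 5 n97068 = n45372 := d13_1 D97068 (iv7 D45372) D45371
theorem F149730 : act 1 n95610 = n97065 := d15_0 (iv0 D97065) D97068 F149728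
theorem F149731 : act 1 n95608 = n97068 := d15_1 D95608 (iv7 D97068) F71525
theorem F149732 : act 1 n97068 = n95607 := d15_0 (iv0 D95607) D95610 (iv2 F149728)
def n97069 : Q := act 4 n45373
theorem D97069 : act 4 n45373 = n97069 := rfl
theorem F149733 : act 2 n97069 = n95616 := d1_1 D97069 (iv4 D95616) (iv2 F71532)
theorem F149734 : act 7 n97069 = n95622 := d11_2 (iv7 F71533) D97069 (iv4 D95622)
theorem F149735 : act 5 n97069 = n95487 := d16_1 D97069 (iv4 D95487) (iv5 F71449) F71448 (iv5 D40420) (iv4 F63199) D45376 F71546 (iv2 F71532)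
theorem F149736 : act 0 n97069 = n89911 := d17_0 F138063 (iv1 F148099) F148096 (iv4 D95626) (iv5 F76126) (iv0 D48418) D48420 F76137 D97069
theorem F149737 : act 1 n97069 = n89908 := d18_6 (iv1 F35816) (iv4 F32361) F64369 F64367 D45373 D97069 (iv4 D89908) (iv0 D42010) (iv5 D19806)
def n97070 : Q := act 6 n45373
theorem D97070 : act 6 n45373 = n97070 := rfl
theorem F149738 : act 2 n97070 = n95617 := d3_1 D97070 (iv6 D95617) (iv2 F71532)
theorem F149739 : act 5 n97070 = n95365 := d12_1 D97070 (iv6 D95365) (iv5 F71535) (iv6 D45374) D45373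
def n97071 : Q := act 0 n45375
theorem D97071 : act 0 n45375 = n97071 := rfl
theorem F149740 : act 1 n95613 = n97071 := d15_0 (iv0 D97071) F71544 D95613
def n97072 : Q := act 1 n45375
theorem D97072 : act 1 n45375 = n97072 := rfl
def n97073 : Q := act 2 n45375
theorem D97073 : act 2 n45375 = n97073 := rfl
theorem F149741 : act 3 n97073 = n95619 := d0_2 D45375 D97073 (iv2 D95619) (iv3 D44655) (iv2 F63439)
theorem F149742 : act 4 n97073 = n87025 := d1_2 (iv4 F71543) D97073 (iv2 D87025)
theorem F149743 : act 7 n97073 = n95613 := d4_2 (iv7 F71544) D97073 (iv2 D95613)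
theorem F149744 : act 1 n97073 = n95611 := d15_0 (iv0 D95611) (iv7 F71544) D97073
theorem F149745 : act 1 n97072 = n95613 := d15_1 D97072 (iv7 F149743) (iv2 D97073)
theorem F149746 : act 1 n95612 = n97073 := d15_1 D95612 F149743 (iv2 D95613)
theorem E14779 : n87025 = n46013 := (c20_7 (iv4 D21623) (iv1 F16436) (iv4 F33503) (iv3 F70255) (iv1 F147292) (iv3 F149741) F149742 (iv1 D46013) F34493 F34086 (iv1 F63255))
theorem F149747 : act 2 n46013 = n40422 := (sb E14779 (iv2 D87025))
theorem F149748 : act 3 n46013 = n89399 := (sb E14779 F137080)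
theorem F149749 : act 4 n46013 = n97073 := (sb E14779 (iv4 F149742))
def n97074 : Q := act 5 n45375
theorem D97074 : act 5 n45375 = n97074 := rfl
theorem F149750 : act 3 n97074 = n45376 := d6_1 D97074 (iv5 D45376) D45375
theorem F149751 : act 7 n97074 = n95614 := d13_2 (iv7 F71544) D97074 (iv5 D95614)
def n97075 : Q := act 6 n45375
theorem D97075 : act 6 n45375 = n97075 := rfl
theorem F149752 : act 3 n97075 = n45377 := d7_1 D97075 (iv6 D45377) D45375
theorem F149753 : act 4 n97075 = n87027 := d10_1 D97075 (iv6 D87027) (iv4 F71543)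
def n97076 : Q := act 4 n45376
theorem D97076 : act 4 n45376 = n97076 := rfl
theorem F149754 : act 2 n97076 = n95622 := d1_1 D97076 (iv4 D95622) (iv2 F71545)
theorem F149755 : act 5 n97076 = n95484 := d9_2 D45376 D97076 (iv4 D95484) (iv5 F71798) (iv4 F137048) (iv5 D89373) F64367 D45373 D97069 F149735 (iv4 D95487) (iv5 F71449) F71448 (iv5 D40420) (iv4 F63199)
theorem F149756 : act 7 n97076 = n95616 := d11_2 (iv7 F71546) D97076 (iv4 D95616)
theorem F149757 : act 0 n97076 = n89908 := d17_0 F138057 (iv1 F148081) F148079 (iv4 D95629) F70209 (iv0 F70128) D48422 F76142 D97076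
theorem F149758 : act 1 n97076 = n89911 := d18_6 (iv1 F31575) F35818 (iv1 F61491) (iv4 F63199) D45376 D97076 (iv4 D89911) F64849 (iv5 D41961)
def n97077 : Q := act 6 n45376
theorem D97077 : act 6 n45376 = n97077 := rfl
theorem F149759 : act 2 n97077 = n95623 := d3_1 D97077 (iv6 D95623) (iv2 F71545)
def n97078 : Q := act 3 n45378
theorem D97078 : act 3 n45378 = n97078 := rfl
theorem F149760 : act 7 n97078 = n95628 := d8_2 (iv7 F71554) D97078 (iv3 D95628)
theorem F149761 : act 0 n97078 = n95657 := d20_4 D44728 D95776 F147462 D97078 F147353 (iv4 F147383) (iv1 F149627) F149629 F71618 F36653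
theorem F149762 : act 2 n97078 = n95655 := d15_3 (iv0 D95655) (iv0 F147307) (iv7 F149760)
def n97079 : Q := act 6 n45378
theorem D97079 : act 6 n45378 = n97079 := rfl
theorem F149763 : act 2 n97079 = n95627 := d3_1 D97079 (iv6 D95627) (iv2 F71556)
theorem F149764 : act 5 n97079 = n96079 := d12_1 D97079 (iv6 D96079) F75151 (iv6 F75583) F75581
def n97080 : Q := act 3 n45379
theorem D97080 : act 3 n45379 = n97080 := rfl
theorem F149765 : act 5 n97080 = n88352 := d6_2 (iv5 F71552) D97080 (iv3 D88352)
theorem F149766 : act 7 n97080 = n95625 := d8_2 F71555 D97080 (iv3 D95625)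
def n97081 : Q := act 6 n45379
theorem D97081 : act 6 n45379 = n97081 := rfl
theorem F149767 : act 2 n97081 = n95630 := d3_1 D97081 (iv6 D95630) F71553
theorem F149768 : act 5 n97081 = n96275 := d12_1 D97081 (iv6 D96275) (iv5 D44944) F63175 (iv5 F71552)
def n97082 : Q := act 3 n45380
theorem D97082 : act 3 n45380 = n97082 := rfl
def n97083 : Q := act 6 n45381
theorem D97083 : act 6 n45381 = n97083 := rfl
theorem F149769 : act 2 n97083 = n95731 := d3_1 D97083 (iv6 D95731) (iv2 F71558)
theorem F149770 : act 3 n97083 = n93830 := d7_1 D97083 (iv6 D93830) (iv3 F71559)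
theorem F149771 : act 4 n97083 = n45383 := d10_1 D97083 (iv6 D45383) D45381
def n97084 : Q := act 6 n45382
theorem D97084 : act 6 n45382 = n97084 := rfl
theorem F149772 : act 2 n97084 = n95732 := d3_1 D97084 (iv6 D95732) (iv2 F71561)
theorem F149773 : act 3 n97084 = n95784 := d7_1 D97084 (iv6 D95784) (iv3 F71562)
def n97085 : Q := act 0 n45383
theorem D97085 : act 0 n45383 = n97085 := rfl
def n97086 : Q := act 1 n45383
theorem D97086 : act 1 n45383 = n97086 := rfl
def n97087 : Q := act 5 n45383
theorem D97087 : act 5 n45383 = n97087 := rfl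
theorem F149775 : act 2 n97087 = n95735 := d2_1 D97087 (iv5 D95735) (iv2 F71566)
theorem F149776 : act 3 n97087 = n95787 := d6_1 D97087 (iv5 D95787) (iv3 F71567)
def n97088 : Q := act 7 n45383
theorem D97088 : act 7 n45383 = n97088 := rfl
theorem F149777 : act 2 n97088 = n95736 := d4_1 D97088 (iv7 D95736) (iv2 F71566)
theorem F149778 : act 3 n97088 = n95788 := d8_1 D97088 (iv7 D95788) (iv3 F71567)
theorem F149779 : act 6 n97088 = n95729 := d14_1 D97088 (iv7 D95729) (iv6 D44709) (iv7 F34109) D45383
def n97089 : Q := act 5 n45384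
theorem D97089 : act 5 n45384 = n97089 := rfl
theorem F149783 : act 2 n97089 = n79099 := d2_1 D97089 F120352 (iv2 F71568)
theorem F149784 : act 3 n97089 = n45385 := d6_1 D97089 (iv5 D45385) D45384
theorem F149785 : act 4 n97089 = n57641 := d9_1 D97089 (iv5 D57641) (iv4 F59327) (iv5 D38489) D38488 F71633 (iv4 F71629) (iv5 F120176) F120175 (iv5 D73045) F59342 (iv5 D38493) D38492 F71577 (iv4 F71569)
theorem F149786 : act 7 n97089 = n73049 := d13_2 (iv7 F71570) D97089 F109577
theorem F149787 : act 1 n97089 = n95496 := d17_6 (iv1 D44574) D44576 F70105 F71577 (iv4 F71569) D97089 F147126 (iv0 F75431) F75429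
def n97090 : Q := act 6 n45384
theorem D97090 : act 6 n45384 = n97090 := rfl
theorem F149788 : act 2 n97090 = n95779 := d3_1 D97090 (iv6 D95779) (iv2 F71568)
theorem F149789 : act 3 n97090 = n45386 := d7_1 D97090 (iv6 D45386) D45384
theorem F149790 : act 4 n97090 = n95632 := d10_1 D97090 (iv6 D95632) (iv4 F71569)
def n97091 : Q := act 4 n45385
theorem D97091 : act 4 n45385 = n97091 := rfl
theorem F149791 : act 2 n97091 = n71914 := d1_1 D97091 F108420 (iv2 F71580)
theorem F149792 : act 3 n97091 = n57644 := d5_1 D97091 (iv4 D57644) (iv3 F90783) (iv4 F149785) F149784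
theorem F149793 : act 7 n97091 = n60230 := d11_2 (iv7 F71581) D97091 (iv4 F94791)
theorem F149794 : act 1 n97091 = n80740 := d18_6 (iv1 F71398) (iv4 F132439) F132440 F63904 D45385 D97091 (iv4 F147947) F147949 (iv5 D87461)
theorem F149795 : act 5 n60166 = n97091 := d13_3 F149793 (iv5 D60230) (iv7 F94713)
def n97092 : Q := act 6 n45385
theorem D97092 : act 6 n45385 = n97092 := rfl
theorem F149796 : act 2 n97092 = n95725 := d3_1 D97092 (iv6 D95725) (iv2 F71580)
def n97093 : Q := act 0 n45386
theorem D97093 : act 0 n45386 = n97093 := rfl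
def n97094 : Q := act 1 n45386
theorem D97094 : act 1 n45386 = n97094 := rfl
def n97095 : Q := act 5 n45386
theorem D97095 : act 5 n45386 = n97095 := rfl
theorem F149798 : act 2 n97095 = n95728 := d2_1 D97095 (iv5 D95728) (iv2 F71584)
def n97096 : Q := act 7 n45386
theorem D97096 : act 7 n45386 = n97096 := rfl
theorem F149799 : act 2 n97096 = n95729 := d4_1 D97096 (iv7 D95729) (iv2 F71584)
theorem F149800 : act 6 n97096 = n95736 := d14_1 D97096 (iv7 D95736) (iv6 D44713) F34112 D45386
theorem F149801 : act 1 n95729 = n97093 := d15_0 (iv0 D97093) D97096 F149799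
def n97097 : Q := act 4 n45387
theorem D97097 : act 4 n45387 = n97097 := rfl
theorem F149804 : act 2 n97097 = n45391 := d1_1 D97097 (iv4 D45391) (iv2 F71585)
theorem F149805 : act 3 n97097 = n92447 := d5_1 D97097 (iv4 D92447) F67755 (iv4 F70315) (iv3 F71586)
theorem F149806 : act 7 n97097 = n95737 := d11_2 (iv7 F71587) D97097 (iv4 D95737)
theorem F149807 : act 0 n97097 = n95743 := d18_2 (iv1 F71588) D97097 F147437 F147245 F70583 F34941 (iv4 F36063) F36247 F70299
theorem F149808 : act 1 n97097 = n87855 := d18_6 (iv1 D45323) F34006 (iv1 F34489) F34487 D45387 D97097 (iv4 D87855) D87854 F134843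
theorem F149809 : act 6 n92466 = n97097 := d7_0 F149805 F142220 D92466
def n97098 : Q := act 6 n45387
theorem D97098 : act 6 n45387 = n97098 := rfl
theorem F149810 : act 2 n97098 = n45392 := d3_1 D97098 (iv6 D45392) (iv2 F71585)
theorem F149811 : act 3 n97098 = n92441 := d7_1 D97098 F142189 (iv3 F71586)
theorem F149812 : act 4 n97098 = n92466 := d10_1 D97098 F149809 (iv4 D97097)
def n97099 : Q := act 0 n45388
theorem D97099 : act 0 n45388 = n97099 := rfl
def n97100 : Q := act 1 n45388
theorem D97100 : act 1 n45388 = n97100 := rfl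
theorem F149813 : act 1 n97100 = n45396 := d15_1 D97100 (iv7 D45396) (iv2 F71590)
theorem F149814 : act 3 n45410 = n97100 := d20_3 F149555 (iv1 F114637) (iv4 F138034) (iv1 D97100) F71591 F70320 D52662 (iv4 F83215) (iv3 F83216) F149558
def n97101 : Q := act 5 n45388
theorem D97101 : act 5 n45388 = n97101 := rfl
theorem F149815 : act 2 n97101 = n45395 := d2_1 D97101 (iv5 D45395) (iv2 F71590)
theorem F149816 : act 3 n97101 = n95789 := d6_1 D97101 (iv5 D95789) (iv3 F71591)
def n97102 : Q := act 7 n45388
theorem D97102 : act 7 n45388 = n97102 := rfl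
theorem F149817 : act 2 n97102 = n45396 := d4_1 D97102 (iv7 D45396) (iv2 F71590)
theorem F149818 : act 3 n97102 = n95790 := d8_1 D97102 (iv7 D95790) (iv3 F71591)
theorem F149819 : act 6 n97102 = n89835 := d14_1 D97102 F137895 (iv6 D44715) (iv7 F34080) D45388
theorem F149820 : act 1 n45396 = n97099 := d15_0 (iv0 D97099) D97102 F149817
theorem F149821 : act 1 n45394 = n97102 := d15_1 D45394 (iv7 D97102) F71590
theorem F149822 : act 0 n45393 = n97102 := d20_4 F71429 D76505 F138026 (iv3 F138029) F149818 F147479 (iv1 F83214) (iv4 F114618) (iv3 F142182) (iv1 F142185)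
def n97103 : Q := act 6 n45389
theorem D97103 : act 6 n45389 = n97103 := rfl
theorem F149823 : act 2 n97103 = n95742 := d3_1 D97103 (iv6 D95742) (iv2 F71596)
theorem F149824 : act 3 n97103 = n95793 := d7_1 D97103 (iv6 D95793) (iv3 F71592)
def n97104 : Q := act 3 n45390
theorem D97104 : act 3 n45390 = n97104 := rfl
theorem F149825 : act 2 n97104 = n95791 := d0_1 D97104 (iv3 D95791) (iv2 F70323) (iv3 F70298) F71601
theorem F149826 : act 5 n97104 = n46972 := d6_2 (iv5 F71600) D97104 (iv3 F74191)
theorem F149827 : act 7 n97104 = n73106 := d8_2 (iv7 F71599) D97104 F109607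
theorem F149828 : act 4 n97104 = n57664 := d20_6 F70035 (iv1 D25581) D25582 (iv3 F70295) (iv1 F71598) D97104 (iv1 F149699) (iv4 D97042) F71514 (iv1 F70038)
theorem F149829 : act 1 n89084 = n97104 := d17_8 (iv1 F149699) F149697 (iv1 F90749) D73045 (iv4 F120175) F120176 (iv0 F71632) D89084 F149828
def n97105 : Q := act 4 n45390
theorem D97105 : act 4 n45390 = n97105 := rfl
theorem F149831 : act 2 n97105 = n95740 := d1_1 D97105 (iv4 D95740) F71601
theorem F149832 : act 3 n97105 = n57665 := d5_1 D97105 (iv4 D57665) D57664 (iv4 F149828) (iv3 D97104)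
theorem F149833 : act 7 n97105 = n60134 := d11_2 (iv7 F71599) D97105 (iv4 F94695)
theorem F149834 : act 5 n60033 = n97105 := d19_1 F94536 (iv4 D97105) D97104 (iv1 F149829) (iv5 D89084) (iv4 D41624) (iv3 F34432) F34435 F31279 (iv4 D13044) (iv3 F21637) F21639 F14035 (iv4 F12350) (iv3 F12767) (iv1 F12769) D16714 D34460 (iv3 F89058)
def n97106 : Q := act 6 n45390
theorem D97106 : act 6 n45390 = n97106 := rfl
theorem F149835 : act 2 n97106 = n95741 := d3_1 D97106 (iv6 D95741) F71601
def n97107 : Q := act 1 n45391
theorem D97107 : act 1 n45391 = n97107 := rfl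
theorem F149836 : act 1 n97107 = n95737 := d15_1 D97107 (iv7 F149806) F149804
theorem F149837 : act 7 n97107 = n95743 := d15_2 F147251 D97107 (iv2 F147438)
theorem F149838 : act 4 n97107 = n87852 := d18_7 (iv1 F71397) F71395 (iv1 D21984) F16694 D21659 D45391 D97107 F134838 (iv5 D87457)
theorem F149839 : act 2 n87855 = n97107 := d1_3 F149838 F134835 D87855
theorem F149840 : act 5 n80735 = n97107 := d9_0 F149838 (iv5 D87852) F62123 (iv5 F51885) F72246 (iv5 F72248) D80732 (iv5 F147250) (iv4 D95585) F70193 F33672 D23342 (iv4 F72242) (iv5 F72245) D80735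
theorem F149841 : act 3 n73117 = n97107 := d20_5 F55945 F54736 (iv4 F56273) (iv3 F109241) (iv1 F109616) F149838 F134837 F134273 F121966 F58659
def n97108 : Q := act 5 n45391
theorem D97108 : act 5 n45391 = n97108 := rfl
theorem F149842 : act 3 n97108 = n83088 := d6_1 D97108 F149126 F149124
theorem F149843 : act 7 n97108 = n95744 := d13_2 (iv7 F71602) D97108 (iv5 D95744)
theorem F149844 : act 0 n97108 = n79363 := d17_2 (iv1 D97107) D97108 (iv5 F134281) (iv4 D87464) (iv5 D40693) D40691 D87459 (iv0 F134837) (iv4 F149838)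
theorem F149845 : act 1 n97108 = n79366 := d17_8 (iv1 D36140) D36143 (iv1 F72251) (iv5 F72248) D80732 (iv5 F147250) F147251 D97108 (iv4 D79366)
def n97109 : Q := act 6 n45391
theorem D97109 : act 6 n45391 = n97109 := rfl
theorem F149846 : act 2 n97109 = n92466 := d3_1 D97109 F149809 F149804
theorem F149847 : act 4 n97109 = n45392 := d10_1 D97109 (iv6 D45392) D45391
def n97110 : Q := act 0 n45392
theorem D97110 : act 0 n45392 = n97110 := rfl
def n97111 : Q := act 1 n45392
theorem D97111 : act 1 n45392 = n97111 := rfl
def n97112 : Q := act 5 n45392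
theorem D97112 : act 5 n45392 = n97112 := rfl
theorem F149848 : act 3 n97112 = n45399 := d6_1 D97112 (iv5 D45399) (iv3 F71603)
theorem F149849 : act 6 n97112 = n45395 := d12_2 D45392 D97112 (iv5 D45395) (iv6 D21660) D21659
def n97113 : Q := act 7 n45392
theorem D97113 : act 7 n45392 = n97113 := rfl
theorem F149850 : act 3 n97113 = n45400 := d8_1 D97113 (iv7 D45400) (iv3 F71603)
theorem F149851 : act 6 n97113 = n95749 := d14_1 D97113 (iv7 D95749) (iv6 D44719) (iv7 F34085) D45392
def n97114 : Q := act 2 n45393
theorem D97114 : act 2 n45393 = n97114 := rfl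
theorem F149852 : act 7 n45394 = n97114 := d15_2 (iv0 D45393) D45394 (iv2 D97114)
def n97115 : Q := act 4 n45393
theorem D97115 : act 4 n45393 = n97115 := rfl
theorem F149853 : act 3 n97115 = n93840 := d5_1 D97115 (iv4 D93840) F138027 F138026 (iv3 F138029)
def n97116 : Q := act 5 n45393
theorem D97116 : act 5 n45393 = n97116 := rfl
def n97117 : Q := act 6 n45393
theorem D97117 : act 6 n45393 = n97117 := rfl
def n97118 : Q := act 7 n45393
theorem D97118 : act 7 n45393 = n97118 := rfl
theorem F149854 : act 2 n97118 = n45394 := d4_1 D97118 F149852 (iv2 D97114)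
def n97119 : Q := act 3 n45394
theorem D97119 : act 3 n45394 = n97119 := rfl
def n97120 : Q := act 4 n45394
theorem D97120 : act 4 n45394 = n97120 := rfl
theorem F149855 : act 3 n86901 = n97120 := d20_5 (iv4 D19700) (iv1 F31138) (iv4 F63719) (iv3 F135744) (iv1 F135748) (iv4 D97120) (iv1 D45394) (iv4 F34493) F34492 (iv1 F63557)
def n97121 : Q := act 5 n45394
theorem D97121 : act 5 n45394 = n97121 := rfl
def n97122 : Q := act 6 n45394
theorem D97122 : act 6 n45394 = n97122 := rfl
def n97123 : Q := act 0 n45395
theorem D97123 : act 0 n45395 = n97123 := rfl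
def n97124 : Q := act 1 n45395
theorem D97124 : act 1 n45395 = n97124 := rfl
def n97125 : Q := act 4 n45395
theorem D97125 : act 4 n45395 = n97125 := rfl
def n97126 : Q := act 7 n45395
theorem D97126 : act 7 n45395 = n97126 := rfl
theorem F149856 : act 3 n97126 = n45404 := d8_1 D97126 (iv7 D45404) (iv3 F71604)
theorem F149857 : act 5 n97126 = n45396 := d13_1 D97126 (iv7 D45396) D45395
def n97127 : Q := act 2 n45397
theorem D97127 : act 2 n45397 = n97127 := rfl
theorem F149858 : act 7 n45398 = n97127 := d15_2 (iv0 D45397) D45398 (iv2 D97127)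
def n97128 : Q := act 3 n45397
theorem D97128 : act 3 n45397 = n97128 := rfl
def n97129 : Q := act 4 n45397
theorem D97129 : act 4 n45397 = n97129 := rfl
def n97130 : Q := act 5 n45397
theorem D97130 : act 5 n45397 = n97130 := rfl
def n97131 : Q := act 6 n45397
theorem D97131 : act 6 n45397 = n97131 := rfl
def n97132 : Q := act 7 n45397
theorem D97132 : act 7 n45397 = n97132 := rfl
theorem F149859 : act 2 n97132 = n45398 := d4_1 D97132 F149858 (iv2 D97127)
def n97133 : Q := act 3 n45398
theorem D97133 : act 3 n45398 = n97133 := rfl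
theorem F149860 : act 4 n97133 = n81683 := d20_6 F147237 (iv1 F142194) (iv4 F147493) F147492 (iv1 F71607) D97133 (iv1 D81683) F58272 (iv3 F70191) D95570
def n97134 : Q := act 4 n45398
theorem D97134 : act 4 n45398 = n97134 := rfl
def n97135 : Q := act 5 n45398
theorem D97135 : act 5 n45398 = n97135 := rfl
def n97136 : Q := act 6 n45398
theorem D97136 : act 6 n45398 = n97136 := rfl
def n97137 : Q := act 0 n45399
theorem D97137 : act 0 n45399 = n97137 := rfl
def n97138 : Q := act 1 n45399
theorem D97138 : act 1 n45399 = n97138 := rfl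
theorem F149861 : act 1 n97138 = n95820 := d15_1 D97138 (iv7 D95820) (iv2 F71608)
theorem F149862 : act 5 n95863 = n97138 := d21_6 (iv5 D10902) F7387 (iv5 F16012) D21319 D44759 D95863 (iv1 D97138) (iv5 D45399) (iv6 D21661) (iv1 F17708)
def n97139 : Q := act 4 n45399
theorem D97139 : act 4 n45399 = n97139 := rfl
theorem F149863 : act 2 n97139 = n95819 := d1_1 D97139 (iv4 D95819) (iv2 F71608)
theorem F149864 : act 6 n97139 = n45403 := d10_2 (iv6 F71609) D97139 (iv4 D45403)
def n97140 : Q := act 7 n45399
theorem D97140 : act 7 n45399 = n97140 := rfl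
theorem F149865 : act 2 n97140 = n95820 := d4_1 D97140 (iv7 D95820) (iv2 F71608)
theorem F149866 : act 5 n97140 = n45400 := d13_1 D97140 (iv7 D45400) D45399
theorem F149867 : act 1 n95820 = n97137 := d15_0 (iv0 D97137) D97140 F149865
theorem F149868 : act 1 n95818 = n97140 := d15_1 D95818 (iv7 D97140) F71608
theorem F149869 : act 1 n97140 = n95817 := d15_0 (iv0 D95817) D95820 (iv2 F149865)
def n97141 : Q := act 3 n45401
theorem D97141 : act 3 n45401 = n97141 := rfl
theorem F149870 : act 2 n97141 = n95774 := d0_1 D97141 (iv3 D95774) (iv2 F70304) F70338 F71620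
theorem F149871 : act 7 n97141 = n95822 := d8_2 F71621 D97141 (iv3 D95822)
def n97142 : Q := act 6 n45401
theorem D97142 : act 6 n45401 = n97142 := rfl
theorem F149872 : act 2 n97142 = n95821 := d3_1 D97142 (iv6 D95821) F71620
def n97143 : Q := act 6 n45402
theorem D97143 : act 6 n45402 = n97143 := rfl
theorem F149873 : act 2 n97143 = n95823 := d3_1 D97143 (iv6 D95823) (iv2 F71617)
theorem F149874 : act 3 n97143 = n48404 := d7_1 D97143 F76071 (iv3 F71618)
theorem F149875 : act 5 n97143 = n48390 := d12_1 D97143 (iv6 D48390) (iv5 D23528) D23529 F71616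
def n97144 : Q := act 3 n45403
theorem D97144 : act 3 n45403 = n97144 := rfl
def n97145 : Q := act 5 n45403
theorem D97145 : act 5 n45403 = n97145 := rfl
theorem F149876 : act 2 n97145 = n95827 := d2_1 D97145 (iv5 D95827) (iv2 F71623)
def n97146 : Q := act 7 n45403
theorem D97146 : act 7 n45403 = n97146 := rfl
theorem F149877 : act 2 n97146 = n95828 := d4_1 D97146 (iv7 D95828) (iv2 F71623)
theorem F149878 : act 4 n97146 = n45404 := d11_1 D97146 (iv7 D45404) D45403
theorem F149879 : act 1 n95825 = n97146 := d15_1 D95825 (iv7 D97146) F71623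
theorem F149880 : act 1 n97146 = n95824 := d15_1 F149879 (iv7 F147508) F147511
def n97147 : Q := act 6 n45404
theorem D97147 : act 6 n45404 = n97147 := rfl
theorem F149881 : act 2 n97147 = n95829 := d3_1 D97147 (iv6 D95829) (iv2 F71624)
theorem F149882 : act 5 n97147 = n89838 := d12_1 D97147 (iv6 D89838) (iv5 D41969) F35860 (iv5 F71625)
def n97148 : Q := act 6 n45405
theorem D97148 : act 6 n45405 = n97148 := rfl
theorem F149883 : act 2 n97148 = n95730 := d3_1 D97148 (iv6 D95730) (iv2 F71628)
theorem F149884 : act 3 n97148 = n45406 := d7_1 D97148 (iv6 D45406) D45405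
theorem F149885 : act 4 n97148 = n95633 := d10_1 D97148 (iv6 D95633) (iv4 F71629)
def n97151 : Q := act 5 n45406
theorem D97151 : act 5 n45406 = n97151 := rfl
theorem F149887 : act 2 n97151 = n95787 := d2_1 D97151 (iv5 D95787) (iv2 F71639)
def n97152 : Q := act 7 n45406
theorem D97152 : act 7 n45406 = n97152 := rfl
theorem F149889 : act 4 n97152 = n76503 := d11_1 D97152 (iv7 D76503) (iv4 F71640)
theorem F149890 : act 6 n97152 = n95783 := d14_1 D97152 (iv7 D95783) (iv6 D44730) F34098 D45406
def n97153 : Q := act 0 n45407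
theorem D97153 : act 0 n45407 = n97153 := rfl
def n97154 : Q := act 1 n45407
theorem D97154 : act 1 n45407 = n97154 := rfl
def n97155 : Q := act 5 n45407
theorem D97155 : act 5 n45407 = n97155 := rfl
theorem F149895 : act 2 n97155 = n95782 := d2_1 D97155 (iv5 D95782) (iv2 F71641)
theorem F149896 : act 3 n97155 = n95728 := d6_1 D97155 (iv5 D95728) (iv3 F71642)
def n97156 : Q := act 7 n45407
theorem D97156 : act 7 n45407 = n97156 := rfl
theorem F149897 : act 2 n97156 = n95783 := d4_1 D97156 (iv7 D95783) (iv2 F71641)
theorem F149900 : act 6 n97156 = n95788 := d14_1 D97156 (iv7 D95788) (iv6 D44732) (iv7 F34099) D45407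
theorem F149903 : act 1 n97156 = n95780 := d15_0 (iv0 D95780) D95783 (iv2 F149897)
def n97157 : Q := act 5 n45408
theorem D97157 : act 5 n45408 = n97157 := rfl
theorem F149904 : act 2 n97157 = n45411 := d2_1 D97157 (iv5 D45411) (iv2 F71644)
theorem F149905 : act 3 n97157 = n95739 := d6_1 D97157 (iv5 D95739) (iv3 F71645)
def n97158 : Q := act 2 n45409
theorem D97158 : act 2 n45409 = n97158 := rfl
theorem F149906 : act 4 n97158 = n93852 := d1_2 F142174 D97158 (iv2 D93852)
theorem F149907 : act 7 n45410 = n97158 := d15_2 (iv0 D45409) D45410 (iv2 D97158)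
def n97159 : Q := act 3 n45409
theorem D97159 : act 3 n45409 = n97159 := rfl
def n97160 : Q := act 5 n45409
theorem D97160 : act 5 n45409 = n97160 := rfl
def n97161 : Q := act 6 n45409
theorem D97161 : act 6 n45409 = n97161 := rfl
theorem F149908 : act 4 n97161 = n93855 := d10_1 D97161 (iv6 D93855) F142174
def n97162 : Q := act 7 n45409
theorem D97162 : act 7 n45409 = n97162 := rfl
theorem F149909 : act 2 n97162 = n45410 := d4_1 D97162 F149907 (iv2 D97158)
theorem F149910 : act 4 n97162 = n93856 := d11_1 D97162 (iv7 D93856) F142174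
def n97163 : Q := act 5 n45410
theorem D97163 : act 5 n45410 = n97163 := rfl
def n97164 : Q := act 6 n45410
theorem D97164 : act 6 n45410 = n97164 := rfl
theorem F149911 : act 4 n97164 = n93858 := d10_1 D97164 (iv6 D93858) (iv4 F138034)
def n97165 : Q := act 0 n45411
theorem D97165 : act 0 n45411 = n97165 := rfl
def n97166 : Q := act 1 n45411
theorem D97166 : act 1 n45411 = n97166 := rfl
def n97167 : Q := act 4 n45411
theorem D97167 : act 4 n45411 = n97167 := rfl
def n97168 : Q := act 2 n45412
theorem D97168 : act 2 n45412 = n97168 := rfl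
theorem F149912 : act 7 n45413 = n97168 := d15_2 (iv0 D45412) D45413 (iv2 D97168)
def n97169 : Q := act 3 n45412
theorem D97169 : act 3 n45412 = n97169 := rfl
theorem F149913 : act 4 n97169 = n81665 := d20_6 (iv4 D78973) (iv1 D35944) D35945 (iv3 F56626) D45412 D97169 (iv1 F129564) F129560 (iv3 F149562) (iv1 F149565)
def n97170 : Q := act 4 n45412
theorem D97170 : act 4 n45412 = n97170 := rfl
def n97171 : Q := act 5 n45412
theorem D97171 : act 5 n45412 = n97171 := rfl
def n97172 : Q := act 6 n45412
theorem D97172 : act 6 n45412 = n97172 := rfl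
def n97173 : Q := act 7 n45412
theorem D97173 : act 7 n45412 = n97173 := rfl
theorem F149914 : act 2 n97173 = n45413 := d4_1 D97173 F149912 (iv2 D97168)
def n97174 : Q := act 3 n45413
theorem D97174 : act 3 n45413 = n97174 := rfl
def n97175 : Q := act 4 n45413
theorem D97175 : act 4 n45413 = n97175 := rfl
def n97176 : Q := act 5 n45413
theorem D97176 : act 5 n45413 = n97176 := rfl
def n97177 : Q := act 6 n45413
theorem D97177 : act 6 n45413 = n97177 := rfl
def n97178 : Q := act 0 n45414
theorem D97178 : act 0 n45414 = n97178 := rfl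
def n97179 : Q := act 1 n45414
theorem D97179 : act 1 n45414 = n97179 := rfl
theorem F149915 : act 1 n97179 = n95773 := d15_1 D97179 (iv7 D95773) (iv2 F71649)
def n97180 : Q := act 4 n45414
theorem D97180 : act 4 n45414 = n97180 := rfl
theorem F149917 : act 2 n97180 = n95772 := d1_1 D97180 (iv4 D95772) (iv2 F71649)
theorem F149918 : act 6 n97180 = n45417 := d10_2 (iv6 F71650) D97180 (iv4 D45417)
def n97181 : Q := act 7 n45414
theorem D97181 : act 7 n45414 = n97181 := rfl
theorem F149919 : act 2 n97181 = n95773 := d4_1 D97181 (iv7 D95773) (iv2 F71649)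
theorem F149920 : act 5 n97181 = n45415 := d13_1 D97181 (iv7 D45415) D45414
theorem F149921 : act 1 n95773 = n97178 := d15_0 (iv0 D97178) D97181 F149919
theorem F149922 : act 1 n95771 = n97181 := d15_1 D95771 (iv7 D97181) F71649
theorem F149923 : act 5 n95938 = n97178 := d21_0 (iv1 F149921) F147458 (iv6 F71611) (iv1 F71613) D95816 (iv5 F147574) (iv1 F147578) (iv5 D44779) D44780 D95938
theorem F149924 : act 1 n97181 = n95770 := d15_0 (iv0 D95770) D95773 (iv2 F149919)
def n97182 : Q := act 3 n45416
theorem D97182 : act 3 n45416 = n97182 := rfl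
theorem F149925 : act 2 n97182 = n95822 := d0_1 D97182 (iv3 D95822) (iv2 F71617) F71618 (iv2 F71659)
theorem F149926 : act 5 n97182 = n48377 := d6_2 F71658 D97182 F76041
theorem F149927 : act 7 n97182 = n95774 := d8_2 (iv7 F71657) D97182 (iv3 D95774)
def n97183 : Q := act 6 n45416
theorem D97183 : act 6 n45416 = n97183 := rfl
theorem F149929 : act 5 n97183 = n48379 := d12_1 D97183 (iv6 D48379) (iv5 D23518) D23519 F71658
def n97184 : Q := act 3 n45417
theorem D97184 : act 3 n45417 = n97184 := rfl
def n97185 : Q := act 4 n45418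
theorem D97185 : act 4 n45418 = n97185 := rfl
theorem F149930 : act 2 n97185 = n45419 := d1_1 D97185 (iv4 D45419) D45418
theorem F149931 : act 7 n97185 = n95830 := d11_2 (iv7 F71663) D97185 (iv4 D95830)
theorem F149932 : act 0 n97185 = n95833 := d18_2 (iv1 F71664) D97185 (iv4 F147521) (iv5 D87461) F61807 F34490 F34487 F34081 D44708
theorem F149933 : act 1 n97185 = n95832 := d18_6 (iv1 D44916) F33672 (iv1 F34943) (iv4 F36249) (iv5 F71662) D97185 F147519 (iv0 F147948) (iv5 D96202)
def n97186 : Q := act 6 n45418
theorem D97186 : act 6 n45418 = n97186 := rfl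
theorem F149934 : act 2 n97186 = n45420 := d3_1 D97186 (iv6 D45420) D45418
theorem F149935 : act 3 n97186 = n95854 := d7_1 D97186 (iv6 D95854) (iv3 F71661)
def n97187 : Q := act 1 n45419
theorem D97187 : act 1 n45419 = n97187 := rfl
theorem F149936 : act 1 n97187 = n95830 := d15_1 D97187 (iv7 F149931) F149930
theorem F149937 : act 7 n97187 = n95833 := d15_2 F134282 D97187 F147522
theorem F149938 : act 4 n97187 = n96240 := d18_7 (iv1 F70585) F70583 (iv1 D22385) (iv4 F17721) (iv5 F34129) D45419 D97187 F148019 F106446
theorem F149939 : act 2 n95832 = n97187 := d1_3 F149938 (iv2 D96240) (iv4 F147519)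
theorem F149940 : act 5 n79366 = n97187 := d9_0 F149938 F148017 F71395 (iv5 F51566) D69962 F106384 D79363 (iv5 F134281) (iv4 D87464) (iv5 D40693) F30851 D19226 D40749 F72261 D79366
def n97188 : Q := act 5 n45419
theorem D97188 : act 5 n45419 = n97188 := rfl
theorem F149941 : act 3 n97188 = n80417 := d6_1 D97188 (iv5 F148961) F148959
def n97189 : Q := act 6 n45419
theorem D97189 : act 6 n45419 = n97189 := rfl
theorem F149943 : act 4 n97189 = n45420 := d10_1 D97189 (iv6 D45420) D45419
def n97190 : Q := act 0 n45420
theorem D97190 : act 0 n45420 = n97190 := rfl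
def n97191 : Q := act 1 n45420
theorem D97191 : act 1 n45420 = n97191 := rfl
def n97192 : Q := act 5 n45420
theorem D97192 : act 5 n45420 = n97192 := rfl
theorem F149944 : act 3 n97192 = n45423 := d6_1 D97192 (iv5 D45423) (iv3 F71667)
theorem F149945 : act 6 n97192 = n48009 := d12_2 D45420 D97192 (iv5 D48009) (iv6 D23167) (iv5 F34129)
def n97193 : Q := act 7 n45420
theorem D97193 : act 7 n45420 = n97193 := rfl
theorem F149946 : act 3 n97193 = n45424 := d8_1 D97193 (iv7 D45424) (iv3 F71667)
theorem F149947 : act 6 n97193 = n95839 := d14_1 D97193 (iv7 D95839) (iv6 D44752) (iv7 F34130) D45420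
def n97194 : Q := act 2 n45421
theorem D97194 : act 2 n45421 = n97194 := rfl
theorem F149948 : act 7 n45422 = n97194 := d15_2 (iv0 D45421) D45422 (iv2 D97194)
def n97195 : Q := act 3 n45421
theorem D97195 : act 3 n45421 = n97195 := rfl
def n97196 : Q := act 4 n45421
theorem D97196 : act 4 n45421 = n97196 := rfl
def n97197 : Q := act 5 n45421
theorem D97197 : act 5 n45421 = n97197 := rfl
def n97198 : Q := act 6 n45421
theorem D97198 : act 6 n45421 = n97198 := rfl
theorem F149949 : act 5 n97198 = n95818 := d21_6 (iv5 D4973) D4971 (iv5 F16465) D21676 D45421 D97198 (iv1 D95818) (iv5 D44744) (iv6 D21311) F16009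
def n97199 : Q := act 7 n45421
theorem D97199 : act 7 n45421 = n97199 := rfl
theorem F149950 : act 2 n97199 = n45422 := d4_1 D97199 F149948 (iv2 D97194)
def n97200 : Q := act 3 n45422
theorem D97200 : act 3 n45422 = n97200 := rfl
def n97201 : Q := act 4 n45422
theorem D97201 : act 4 n45422 = n97201 := rfl
def n97202 : Q := act 5 n45422
theorem D97202 : act 5 n45422 = n97202 := rfl
def n97203 : Q := act 6 n45422
theorem D97203 : act 6 n45422 = n97203 := rfl
def n97204 : Q := act 0 n45423
theorem D97204 : act 0 n45423 = n97204 := rfl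
def n97205 : Q := act 1 n45423
theorem D97205 : act 1 n45423 = n97205 := rfl
theorem F149951 : act 1 n97205 = n95872 := d15_1 D97205 (iv7 D95872) (iv2 F71669)
theorem F149952 : act 5 n97172 = n97205 := d21_6 (iv5 D10145) (iv1 F6785) D10344 D21670 D45412 D97172 (iv1 D97205) (iv5 D45423) (iv6 D21676) (iv1 F16466)
def n97206 : Q := act 4 n45423
theorem D97206 : act 4 n45423 = n97206 := rfl
theorem F149953 : act 2 n97206 = n95871 := d1_1 D97206 (iv4 D95871) (iv2 F71669)
theorem F149954 : act 6 n97206 = n48011 := d10_2 (iv6 F71670) D97206 (iv4 D48011)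
def n97207 : Q := act 7 n45423
theorem D97207 : act 7 n45423 = n97207 := rfl
theorem F149955 : act 2 n97207 = n95872 := d4_1 D97207 (iv7 D95872) (iv2 F71669)
theorem F149956 : act 5 n97207 = n45424 := d13_1 D97207 (iv7 D45424) D45423
theorem F149957 : act 1 n95872 = n97204 := d15_0 (iv0 D97204) D97207 F149955
theorem F149958 : act 1 n95870 = n97207 := d15_1 D95870 (iv7 D97207) F71669
theorem F149959 : act 1 n97207 = n95869 := d15_0 (iv0 D95869) D95872 (iv2 F149955)
def n97208 : Q := act 6 n45425
theorem D97208 : act 6 n45425 = n97208 := rfl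
theorem F149960 : act 2 n97208 = n45426 := d3_1 D97208 (iv6 D45426) D45425
theorem F149961 : act 3 n97208 = n95831 := d7_1 D97208 (iv6 D95831) (iv3 F71676)
theorem F149962 : act 4 n97208 = n76270 := d10_1 D97208 (iv6 D76270) (iv4 F71677)
def n97209 : Q := act 0 n45426
theorem D97209 : act 0 n45426 = n97209 := rfl
def n97210 : Q := act 1 n45426
theorem D97210 : act 1 n45426 = n97210 := rfl
def n97211 : Q := act 5 n45426
theorem D97211 : act 5 n45426 = n97211 := rfl
theorem F149963 : act 3 n97211 = n45429 := d6_1 D97211 (iv5 D45429) (iv3 F71682)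
theorem F149964 : act 6 n97211 = n48018 := d12_2 D45426 D97211 (iv5 D48018) (iv6 D23172) (iv5 F34132)
def n97212 : Q := act 7 n45426
theorem D97212 : act 7 n45426 = n97212 := rfl
theorem F149965 : act 3 n97212 = n45430 := d8_1 D97212 (iv7 D45430) (iv3 F71682)
theorem F149966 : act 6 n97212 = n95858 := d14_1 D97212 (iv7 D95858) (iv6 D44758) (iv7 F34133) D45426
def n97213 : Q := act 2 n45427
theorem D97213 : act 2 n45427 = n97213 := rfl
theorem F149967 : act 7 n45428 = n97213 := d15_2 (iv0 D45427) D45428 (iv2 D97213)
def n97217 : Q := act 6 n45427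
theorem D97217 : act 6 n45427 = n97217 := rfl
theorem F149968 : act 5 n97217 = n95771 := d21_6 (iv5 D10848) (iv1 F7392) (iv5 F16471) D21678 D45427 D97217 (iv1 D95771) (iv5 D44725) (iv6 D21301) (iv1 F17640)
def n97218 : Q := act 7 n45427
theorem D97218 : act 7 n45427 = n97218 := rfl
theorem F149969 : act 2 n97218 = n45428 := d4_1 D97218 F149967 (iv2 D97213)
def n97222 : Q := act 6 n45428
theorem D97222 : act 6 n45428 = n97222 := rfl
def n97223 : Q := act 0 n45429
theorem D97223 : act 0 n45429 = n97223 := rfl
def n97224 : Q := act 1 n45429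
theorem D97224 : act 1 n45429 = n97224 := rfl
def n97225 : Q := act 4 n45429
theorem D97225 : act 4 n45429 = n97225 := rfl
theorem F149973 : act 6 n97225 = n48022 := d10_2 (iv6 F71685) D97225 (iv4 D48022)
def n97226 : Q := act 7 n45429
theorem D97226 : act 7 n45429 = n97226 := rfl
theorem F149974 : act 2 n97226 = n95853 := d4_1 D97226 (iv7 D95853) (iv2 F71684)
theorem F149976 : act 1 n95853 = n97223 := d15_0 (iv0 D97223) D97226 F149974
theorem F149977 : act 1 n95851 = n97226 := d15_1 D95851 (iv7 D97226) F71684
def n97227 : Q := act 3 n45431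
theorem D97227 : act 3 n45431 = n97227 := rfl
theorem F149979 : act 5 n97227 = n84340 := d6_2 (iv5 F74238) D97227 (iv3 D84340)
theorem F149980 : act 7 n97227 = n95873 := d8_2 F74243 D97227 (iv3 D95873)
def n97228 : Q := act 4 n45431
theorem D97228 : act 4 n45431 = n97228 := rfl
theorem F149981 : act 2 n97228 = n95877 := d1_1 D97228 (iv4 D95877) (iv2 F74240)
theorem F149982 : act 7 n97228 = n95874 := d11_2 F74243 D97228 (iv4 D95874)
theorem F149983 : act 5 n97228 = n83679 := d16_1 D97228 F128743 (iv5 F71579) (iv4 D41456) (iv5 F72118) F59922 (iv5 F72119) F74244 (iv2 F74240)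
theorem F149984 : act 1 n97228 = n88814 := d18_8 (iv1 F126264) (iv4 D81920) F85978 F85975 F51984 (iv4 F70352) F71691 D97228 (iv5 D88814)
def n97229 : Q := act 6 n45431
theorem D97229 : act 6 n45431 = n97229 := rfl
def n97230 : Q := act 3 n45432
theorem D97230 : act 3 n45432 = n97230 := rfl
theorem F149986 : act 5 n97230 = n84342 := d6_2 (iv5 F72119) D97230 (iv3 D84342)
def n97231 : Q := act 4 n45432
theorem D97231 : act 4 n45432 = n97231 := rfl
theorem F149988 : act 2 n97231 = n95874 := d1_1 D97231 (iv4 D95874) F74245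
theorem F149989 : act 5 n97231 = n83680 := d9_2 (iv5 F72119) D97231 F128753 F74237 (iv4 D41461) (iv5 F74232) (iv4 F59921) (iv5 F74238) D97228 F149983 F128743 (iv5 F71579) (iv4 D41456) (iv5 F72118) F59922
theorem F149990 : act 7 n97231 = n95877 := d11_2 (iv7 F74244) D97231 (iv4 D95877)
theorem F149991 : act 1 n88814 = n97231 := d15_1 F149984 F149990 (iv2 F149981)
def n97232 : Q := act 6 n45432
theorem D97232 : act 6 n45432 = n97232 := rfl
def n97233 : Q := act 0 n45433
theorem D97233 : act 0 n45433 = n97233 := rfl
def n97234 : Q := act 1 n45433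
theorem D97234 : act 1 n45433 = n97234 := rfl
def n97235 : Q := act 5 n45433
theorem D97235 : act 5 n45433 = n97235 := rfl
theorem F149993 : act 3 n97235 = n45436 := d6_1 D97235 (iv5 D45436) (iv3 F71693)
theorem F149994 : act 6 n97235 = n81550 := d12_2 D45433 D97235 (iv5 D81550) (iv6 D37248) (iv5 F34136)
def n97236 : Q := act 7 n45433
theorem D97236 : act 7 n45433 = n97236 := rfl
theorem F149995 : act 3 n97236 = n45437 := d8_1 D97236 (iv7 D45437) (iv3 F71693)
theorem F149996 : act 4 n97236 = n95883 := d11_1 D97236 (iv7 D95883) (iv4 F71694)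
theorem F149997 : act 6 n97236 = n95883 := d14_1 D97236 (iv7 D95883) (iv6 D44766) (iv7 F34137) D45433
def n97237 : Q := act 2 n45434
theorem D97237 : act 2 n45434 = n97237 := rfl
def n97238 : Q := act 3 n45434
theorem D97238 : act 3 n45434 = n97238 := rfl
def n97239 : Q := act 4 n45434
theorem D97239 : act 4 n45434 = n97239 := rfl
def n97240 : Q := act 5 n45434
theorem D97240 : act 5 n45434 = n97240 := rfl
def n97241 : Q := act 6 n45434
theorem D97241 : act 6 n45434 = n97241 := rfl
theorem F149999 : act 5 n97241 = n84424 := d21_6 F29670 (iv1 F16389) (iv5 F16474) D21680 D45434 D97241 (iv1 D84424) (iv5 D38926) (iv6 D18488) D18486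
def n97242 : Q := act 7 n45434
theorem D97242 : act 7 n45434 = n97242 := rfl
def n97243 : Q := act 3 n45435
theorem D97243 : act 3 n45435 = n97243 := rfl
def n97244 : Q := act 4 n45435
theorem D97244 : act 4 n45435 = n97244 := rfl
def n97245 : Q := act 5 n45435
theorem D97245 : act 5 n45435 = n97245 := rfl
def n97246 : Q := act 6 n45435
theorem D97246 : act 6 n45435 = n97246 := rfl
def n97247 : Q := act 0 n45436
theorem D97247 : act 0 n45436 = n97247 := rfl
def n97248 : Q := act 1 n45436
theorem D97248 : act 1 n45436 = n97248 := rfl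
theorem F150001 : act 1 n97248 = n81715 := d15_1 D97248 (iv7 D81715) (iv2 F71696)
def n97249 : Q := act 4 n45436
theorem D97249 : act 4 n45436 = n97249 := rfl
theorem F150002 : act 2 n97249 = n81714 := d1_1 D97249 (iv4 D81714) (iv2 F71696)
theorem F150003 : act 6 n97249 = n81560 := d10_2 (iv6 F71697) D97249 (iv4 D81560)
def n97250 : Q := act 7 n45436
theorem D97250 : act 7 n45436 = n97250 := rfl
theorem F150004 : act 2 n97250 = n81715 := d4_1 D97250 (iv7 D81715) (iv2 F71696)
theorem F150005 : act 5 n97250 = n45437 := d13_1 D97250 (iv7 D45437) D45436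
theorem F150006 : act 1 n81715 = n97247 := d15_0 (iv0 D97247) D97250 F150004
theorem F150007 : act 1 n81713 = n97250 := d15_1 D81713 (iv7 D97250) F71696
theorem F150008 : act 1 n97250 = n81712 := d15_0 (iv0 D81712) D81715 (iv2 F150004)
def n97251 : Q := act 0 n45438
theorem D97251 : act 0 n45438 = n97251 := rfl
theorem F150009 : act 1 n45443 = n97251 := d15_0 (iv0 D97251) (iv7 F71704) (iv2 F71705)
def n97253 : Q := act 3 n45438
theorem D97253 : act 3 n45438 = n97253 := rfl
theorem F150011 : act 7 n97253 = n45444 := d8_2 F71704 D97253 (iv3 D45444)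
def n97254 : Q := act 4 n45438
theorem D97254 : act 4 n45438 = n97254 := rfl
theorem F150012 : act 2 n97254 = n45440 := d1_1 D97254 (iv4 D45440) D45438
theorem F150013 : act 7 n97254 = n45445 := d11_2 F71704 D97254 (iv4 D45445)
def n97255 : Q := act 5 n45438
theorem D97255 : act 5 n45438 = n97255 := rfl
theorem F150014 : act 2 n97255 = n45441 := d2_1 D97255 (iv5 D45441) D45438
theorem F150015 : act 7 n97255 = n45446 := d13_2 F71704 D97255 (iv5 D45446)
def n97256 : Q := act 6 n45438
theorem D97256 : act 6 n45438 = n97256 := rfl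
theorem F150016 : act 2 n97256 = n45442 := d3_1 D97256 (iv6 D45442) D45438
def n97257 : Q := act 0 n45439
theorem D97257 : act 0 n45439 = n97257 := rfl
def n97258 : Q := act 1 n45439
theorem D97258 : act 1 n45439 = n97258 := rfl
def n97259 : Q := act 2 n45439
theorem D97259 : act 2 n45439 = n97259 := rfl
def n97260 : Q := act 4 n45439
theorem D97260 : act 4 n45439 = n97260 := rfl
def n97261 : Q := act 5 n45439
theorem D97261 : act 5 n45439 = n97261 := rfl
theorem F150017 : act 3 n97261 = n45441 := d6_1 D97261 (iv5 D45441) D45439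
def n97262 : Q := act 6 n45439
theorem D97262 : act 6 n45439 = n97262 := rfl
theorem F150018 : act 3 n97262 = n45442 := d7_1 D97262 (iv6 D45442) D45439
def n97263 : Q := act 7 n45439
theorem D97263 : act 7 n45439 = n97263 := rfl
theorem F150019 : act 3 n97263 = n45443 := d8_1 D97263 (iv7 D45443) D45439
def n97264 : Q := act 0 n45440
theorem D97264 : act 0 n45440 = n97264 := rfl
def n97265 : Q := act 1 n45440
theorem D97265 : act 1 n45440 = n97265 := rfl
theorem F150020 : act 1 n97265 = n45445 := d15_1 D97265 (iv7 F150013) F150012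
def n97266 : Q := act 3 n45440
theorem D97266 : act 3 n45440 = n97266 := rfl
theorem F150021 : act 0 n68943 = n97266 := d20_4 F105823 (iv1 D32057) D32058 D68943 (iv3 D97266) (iv4 D45440) (iv1 F70990) F70986 (iv3 F107458) (iv1 F107461)
def n97267 : Q := act 5 n45440
theorem D97267 : act 5 n45440 = n97267 := rfl
def n97268 : Q := act 6 n45440
theorem D97268 : act 6 n45440 = n97268 := rfl
theorem F150022 : act 4 n97268 = n45442 := d10_1 D97268 (iv6 D45442) D45440
def n97269 : Q := act 7 n45440
theorem D97269 : act 7 n45440 = n97269 := rfl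
theorem F150023 : act 2 n97269 = n45445 := d4_1 D97269 (iv7 F150013) F150012
theorem F150024 : act 4 n97269 = n45443 := d11_1 D97269 (iv7 D45443) D45440
theorem F150025 : act 1 n45445 = n97264 := d15_0 (iv0 D97264) D97269 F150023
def n97270 : Q := act 0 n45441
theorem D97270 : act 0 n45441 = n97270 := rfl
theorem F150026 : act 5 n97270 = n97177 := d21_2 D45441 D97270 (iv6 D97177) (iv1 D45413) (iv6 D21670) (iv5 D10344) (iv1 D4689) D4690 D10349 D21681
def n97271 : Q := act 1 n45441
theorem D97271 : act 1 n45441 = n97271 := rfl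
theorem F150027 : act 1 n97271 = n45446 := d15_1 D97271 (iv7 F150015) F150014
def n97272 : Q := act 4 n45441
theorem D97272 : act 4 n45441 = n97272 := rfl
def n97273 : Q := act 6 n45441
theorem D97273 : act 6 n45441 = n97273 := rfl
def n97274 : Q := act 7 n45441
theorem D97274 : act 7 n45441 = n97274 := rfl
theorem F150028 : act 2 n97274 = n45446 := d4_1 D97274 (iv7 F150015) F150014
theorem F150029 : act 5 n97274 = n45443 := d13_1 D97274 (iv7 D45443) D45441
theorem F150030 : act 1 n45446 = n97270 := d15_0 (iv0 D97270) D97274 F150028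
def n97275 : Q := act 0 n45442
theorem D97275 : act 0 n45442 = n97275 := rfl
def n97276 : Q := act 1 n45442
theorem D97276 : act 1 n45442 = n97276 := rfl
theorem F150031 : act 6 n95938 = n97276 := d21_3 D45414 D97178 (iv5 F149923) (iv1 D97276) (iv6 D45442) D45441 D97270 F150026 (iv6 D97177) (iv1 D45413)
def n97277 : Q := act 5 n45442
theorem D97277 : act 5 n45442 = n97277 := rfl
theorem F150032 : act 0 n97277 = n47987 := d21_1 D97277 (iv5 D47987) (iv6 D23150) F17707 D21670 D45414 D97178 (iv5 F149923) F150031 (iv1 D97276)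
theorem F150033 : act 0 n48045 = n97277 := d21_1 (iv5 F75502) (iv5 D97277) (iv6 D45442) (iv1 F70990) F70987 (iv5 F147147) (iv1 F147149) D95950 F147588 (iv1 F75369)
def n97278 : Q := act 7 n45442
theorem D97278 : act 7 n45442 = n97278 := rfl
def n97279 : Q := act 6 n45443
theorem D97279 : act 6 n45443 = n97279 := rfl
theorem F150034 : act 2 n97279 = n45447 := d3_1 D97279 (iv6 D45447) (iv2 F71705)
def n97280 : Q := act 0 n45444
theorem D97280 : act 0 n45444 = n97280 := rfl
def n97281 : Q := act 1 n45444
theorem D97281 : act 1 n45444 = n97281 := rfl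
def n97282 : Q := act 2 n45444
theorem D97282 : act 2 n45444 = n97282 := rfl
def n97283 : Q := act 4 n45444
theorem D97283 : act 4 n45444 = n97283 := rfl
def n97284 : Q := act 5 n45444
theorem D97284 : act 5 n45444 = n97284 := rfl
theorem F150035 : act 3 n97284 = n45446 := d6_1 D97284 (iv5 D45446) D45444
def n97285 : Q := act 6 n45444
theorem D97285 : act 6 n45444 = n97285 := rfl
theorem F150036 : act 3 n97285 = n45447 := d7_1 D97285 (iv6 D45447) D45444
def n97286 : Q := act 3 n45445
theorem D97286 : act 3 n45445 = n97286 := rfl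
def n97287 : Q := act 5 n45445
theorem D97287 : act 5 n45445 = n97287 := rfl
def n97288 : Q := act 6 n45445
theorem D97288 : act 6 n45445 = n97288 := rfl
theorem F150037 : act 4 n97288 = n45447 := d10_1 D97288 (iv6 D45447) D45445
def n97289 : Q := act 4 n45446
theorem D97289 : act 4 n45446 = n97289 := rfl
def n97290 : Q := act 6 n45446
theorem D97290 : act 6 n45446 = n97290 := rfl
def n97291 : Q := act 0 n45447
theorem D97291 : act 0 n45447 = n97291 := rfl
theorem F150038 : act 5 n97291 = n95817 := d21_0 (iv1 F149869) F149866 F71611 (iv1 F71648) D97177 (iv5 F150026) (iv1 F150030) (iv5 D45446) D45447 D97291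
theorem F150039 : act 6 n97291 = n95923 := d21_3 D44744 D95817 (iv5 F150038) (iv1 D95923) (iv6 D44775) D44774 D95917 F147574 (iv6 D95816) (iv1 D44743)
def n97292 : Q := act 1 n45447
theorem D97292 : act 1 n45447 = n97292 := rfl
def n97293 : Q := act 5 n45447
theorem D97293 : act 5 n45447 = n97293 := rfl
theorem F150040 : act 0 n97130 = n97293 := d21_1 D97130 (iv5 D97293) (iv6 D45447) (iv1 D21682) (iv6 D10349) (iv5 D4690) D4688 D10341 D21661 D45397
def n97294 : Q := act 7 n45447
theorem D97294 : act 7 n45447 = n97294 := rfl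
def n97295 : Q := act 2 n45448
theorem D97295 : act 2 n45448 = n97295 := rfl
theorem F150041 : act 7 n45449 = n97295 := d15_2 (iv0 D45448) D45449 (iv2 D97295)
def n97296 : Q := act 3 n45448
theorem D97296 : act 3 n45448 = n97296 := rfl
def n97297 : Q := act 4 n45448
theorem D97297 : act 4 n45448 = n97297 := rfl
def n97298 : Q := act 5 n45448
theorem D97298 : act 5 n45448 = n97298 := rfl
def n97299 : Q := act 6 n45448
theorem D97299 : act 6 n45448 = n97299 := rfl
def n97300 : Q := act 7 n45448
theorem D97300 : act 7 n45448 = n97300 := rfl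
theorem F150042 : act 2 n97300 = n45449 := d4_1 D97300 F150041 (iv2 D97295)
def n97301 : Q := act 3 n45449
theorem D97301 : act 3 n45449 = n97301 := rfl
def n97302 : Q := act 4 n45449
theorem D97302 : act 4 n45449 = n97302 := rfl
def n97303 : Q := act 5 n45449
theorem D97303 : act 5 n45449 = n97303 := rfl
theorem F150043 : act 6 n97303 = n47768 := d21_3 (iv5 F148724) (iv1 F148726) D97303 (iv1 F75031) (iv6 F36293) (iv5 F75502) F150033 (iv5 D97277) (iv6 D45442) (iv1 F70990)
def n97304 : Q := act 6 n45449
theorem D97304 : act 6 n45449 = n97304 := rfl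
def n97305 : Q := act 0 n45450
theorem D97305 : act 0 n45450 = n97305 := rfl
def n97306 : Q := act 1 n45450
theorem D97306 : act 1 n45450 = n97306 := rfl
def n97307 : Q := act 3 n45450
theorem D97307 : act 3 n45450 = n97307 := rfl
theorem F150044 : act 4 n97307 = n95954 := d5_2 D45450 D97307 (iv3 D95954) (iv4 D44783) (iv3 F34140)
theorem F150045 : act 6 n97307 = n45480 := d7_2 (iv6 F71706) D97307 (iv3 D45480)
def n97308 : Q := act 5 n45450
theorem D97308 : act 5 n45450 = n97308 := rfl
def n97309 : Q := act 7 n45450
theorem D97309 : act 7 n45450 = n97309 := rfl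
theorem F150046 : act 4 n97309 = n45451 := d11_1 D97309 (iv7 D45451) D45450
def n97310 : Q := act 6 n45451
theorem D97310 : act 6 n45451 = n97310 := rfl
theorem F150047 : act 3 n97310 = n95957 := d7_1 D97310 (iv6 D95957) (iv3 F71707)
theorem F150048 : act 5 n97310 = n95957 := d12_1 D97310 (iv6 D95957) F70360 (iv6 F34143) (iv5 F71708)
theorem F150049 : act 7 n97310 = n45483 := d14_2 D45451 D97310 (iv6 D45483) (iv7 D21697) (iv6 F34141)
def n97311 : Q := act 2 n45452
theorem D97311 : act 2 n45452 = n97311 := rfl
theorem F150050 : act 7 n45453 = n97311 := d15_2 (iv0 D45452) D45453 (iv2 D97311)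
def n97312 : Q := act 4 n45452
theorem D97312 : act 4 n45452 = n97312 := rfl
theorem F150051 : act 3 n97312 = n93892 := d5_1 D97312 (iv4 D93892) (iv3 F144799) F144800 (iv3 F144801)
def n97313 : Q := act 5 n45452
theorem D97313 : act 5 n45452 = n97313 := rfl
theorem F150052 : act 3 n97313 = n95996 := d6_1 D97313 (iv5 D95996) (iv3 F144801)
def n97314 : Q := act 6 n45452
theorem D97314 : act 6 n45452 = n97314 := rfl
def n97315 : Q := act 7 n45452
theorem D97315 : act 7 n45452 = n97315 := rfl
theorem F150054 : act 2 n97315 = n45453 := d4_1 D97315 F150050 (iv2 D97311)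
theorem F150055 : act 3 n97315 = n95991 := d8_1 D97315 (iv7 F147626) (iv3 F144801)
def n97316 : Q := act 3 n45453
theorem D97316 : act 3 n45453 = n97316 := rfl
theorem F150056 : act 2 n97316 = n95992 := d0_1 D97316 (iv3 D95992) D95991 (iv3 F150055) F150054
theorem F150057 : act 4 n97316 = n96102 := d20_6 (iv4 F144762) (iv1 F145190) F145188 (iv3 F148730) (iv1 F148735) D97316 (iv1 F147735) (iv4 F147193) F147192 (iv1 F144761)
theorem F150058 : act 2 n96102 = n87408 := d1_1 F150057 (iv4 F147627) (iv2 F150056)
theorem F150059 : act 0 n97316 = n89113 := d20_1 (iv4 F150057) (iv4 D89113) D89112 F136830 (iv3 D43995) F65808 F65814 D21370 D44843 D96102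
theorem F150060 : act 7 n87407 = n96102 := d15_2 F147741 F147739 F150058
theorem F150061 : act 7 n96103 = n87408 := d15_2 (iv0 D96102) D96103 (iv2 F150058)
theorem F150062 : act 2 n87407 = n96103 := d4_3 F150061 (iv2 F150058) (iv7 F150060)
theorem F150063 : act 3 n46318 = n96103 := d8_3 F150061 (iv3 F147628) (iv7 F145450)
def n97317 : Q := act 4 n45453
theorem D97317 : act 4 n45453 = n97317 := rfl
theorem F150064 : act 3 n97317 = n46339 := d20_3 (iv4 F148731) (iv1 F148735) D97317 (iv1 F72990) (iv3 D40649) (iv4 D19189) (iv1 F66170) D20879 D43988 (iv1 F136555)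
def n97320 : Q := act 5 n45454
theorem D97320 : act 5 n45454 = n97320 := rfl
theorem F150065 : act 2 n97320 = n45455 := d2_1 D97320 (iv5 D45455) D45454
def n97321 : Q := act 6 n45454
theorem D97321 : act 6 n45454 = n97321 := rfl
theorem F150066 : act 2 n97321 = n45456 := d3_1 D97321 (iv6 D45456) D45454
def n97322 : Q := act 0 n45455
theorem D97322 : act 0 n45455 = n97322 := rfl
def n97323 : Q := act 1 n45455
theorem D97323 : act 1 n45455 = n97323 := rfl
def n97324 : Q := act 4 n45455
theorem D97324 : act 4 n45455 = n97324 := rfl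
def n97325 : Q := act 6 n45455
theorem D97325 : act 6 n45455 = n97325 := rfl
theorem F150067 : act 3 n97325 = n45460 := d7_1 D97325 (iv6 D45460) (iv3 F71709)
def n97326 : Q := act 0 n45456
theorem D97326 : act 0 n45456 = n97326 := rfl
def n97327 : Q := act 1 n45456
theorem D97327 : act 1 n45456 = n97327 := rfl
def n97328 : Q := act 5 n45456
theorem D97328 : act 5 n45456 = n97328 := rfl
theorem F150068 : act 3 n97328 = n45463 := d6_1 D97328 (iv5 D45463) (iv3 F71710)
theorem F150069 : act 7 n97328 = n47848 := d13_2 F138089 D97328 (iv5 F138087)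
def n97329 : Q := act 3 n45457
theorem D97329 : act 3 n45457 = n97329 := rfl
theorem F150070 : act 2 n97329 = n95977 := d0_1 D97329 (iv3 D95977) (iv2 F70368) (iv3 F76213) F76212
theorem F150071 : act 5 n97329 = n96405 := d6_2 (iv5 F71711) D97329 F148405
def n97330 : Q := act 4 n45457
theorem D97330 : act 4 n45457 = n97330 := rfl
theorem F150072 : act 0 n97330 = n45522 := d18_2 D45457 D97330 (iv4 D45522) (iv5 D21733) (iv4 D10361) F16288 (iv4 F33862) F33865 D21688
def n97331 : Q := act 6 n45457
theorem D97331 : act 6 n45457 = n97331 := rfl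
theorem F150074 : act 5 n97331 = n96407 := d12_1 D97331 (iv6 D96407) (iv5 D45013) D45014 (iv5 F71711)
def n97332 : Q := act 4 n45458
theorem D97332 : act 4 n45458 = n97332 := rfl
theorem F150075 : act 0 n97332 = n45499 := d18_2 (iv1 F71713) D97332 (iv4 D45499) (iv5 D21713) (iv4 D10356) (iv0 D4692) (iv4 F6790) D10351 D21692
theorem F150076 : act 1 n97332 = n45522 := d18_6 F76149 F76145 (iv1 F63321) (iv4 F75514) F75517 D97332 (iv4 D45522) F71749 F71748
def n97334 : Q := act 0 n45459
theorem D97334 : act 0 n45459 = n97334 := rfl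
theorem F150079 : act 4 n97334 = n95359 := d18_3 (iv1 D45458) D45459 D97334 (iv5 D95359) F70055 (iv0 F76088) F62979 D48055 F75517
theorem F150080 : act 3 n95359 = n96114 := d20_3 D45459 D97334 F150079 (iv1 D96114) F70454 D44855 (iv1 F147614) (iv4 D95980) (iv3 F75518) (iv1 D45458)
theorem F150081 : act 1 n45469 = n97334 := d15_0 (iv0 D97334) (iv7 F148739) F148738
def n97335 : Q := act 1 n45459
theorem D97335 : act 1 n45459 = n97335 := rfl
theorem F150083 : act 1 n97335 = n45469 := d15_1 D97335 (iv7 F145514) F145513
theorem F150084 : act 4 n97335 = n96585 := d18_7 F63063 F30854 D19208 (iv4 F62906) D21688 D45459 D97335 F148789 (iv5 D45098)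
def n97336 : Q := act 3 n45459
theorem D97336 : act 3 n45459 = n97336 := rfl
def n97337 : Q := act 5 n45459
theorem D97337 : act 5 n45459 = n97337 := rfl
def n97338 : Q := act 6 n45459
theorem D97338 : act 6 n45459 = n97338 := rfl
theorem F150086 : act 4 n97338 = n45460 := d10_1 D97338 (iv6 D45460) D45459
def n97339 : Q := act 0 n45460
theorem D97339 : act 0 n45460 = n97339 := rfl
def n97340 : Q := act 1 n45460
theorem D97340 : act 1 n45460 = n97340 := rfl
def n97341 : Q := act 5 n45460
theorem D97341 : act 5 n45460 = n97341 := rfl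
theorem F150087 : act 2 n97341 = n47853 := d2_1 D97341 (iv5 F145516) F145515
theorem F150088 : act 6 n97341 = n45463 := d12_2 D45460 D97341 (iv5 D45463) (iv6 D21689) D21688
def n97342 : Q := act 7 n45460
theorem D97342 : act 7 n45460 = n97342 := rfl
def n97343 : Q := act 4 n45463
theorem D97343 : act 4 n45463 = n97343 := rfl
theorem F150089 : act 2 n97343 = n47852 := d1_1 D97343 (iv4 D47852) (iv2 F71714)
theorem F150090 : act 7 n97343 = n47849 := d11_2 F75045 D97343 (iv4 D47849)
theorem F150091 : act 0 n97343 = n95295 := d18_2 F71717 D97343 (iv4 D95295) (iv5 D44515) F33417 (iv0 F66063) F66066 F36036 (iv5 F36073)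
def n97344 : Q := act 2 n45464
theorem D97344 : act 2 n45464 = n97344 := rfl
theorem F150092 : act 4 n97344 = n93921 := d1_2 (iv4 F145505) D97344 (iv2 D93921)
theorem F150093 : act 7 n45465 = n97344 := d15_2 (iv0 D45464) D45465 (iv2 D97344)
theorem F150094 : act 3 n97344 = n95962 := d8_1 F150093 (iv7 D95962) F144587
def n97345 : Q := act 3 n45464
theorem D97345 : act 3 n45464 = n97345 := rfl
theorem F150095 : act 2 n97345 = n95963 := d0_1 D97345 (iv3 D95963) (iv2 F147594) (iv3 F150094) (iv2 D97344)
theorem F150096 : act 0 n97345 = n95503 := d20_10 F147785 (iv1 D96135) F71792 (iv3 F71791) (iv1 F70172) (iv3 F69029) (iv4 D43906) D43903 (iv4 F145505) D97345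
def n97348 : Q := act 7 n45464
theorem D97348 : act 7 n45464 = n97348 := rfl
theorem F150098 : act 2 n97348 = n45465 := d4_1 D97348 F150093 (iv2 D97344)
theorem F150099 : act 4 n97348 = n93926 := d11_1 D97348 (iv7 D93926) (iv4 F145505)
def n97349 : Q := act 5 n45465
theorem D97349 : act 5 n45465 = n97349 := rfl
theorem F150100 : act 3 n97349 = n95960 := d6_1 D97349 (iv5 D95960) F144587
def n97350 : Q := act 6 n45465
theorem D97350 : act 6 n45465 = n97350 := rfl
def n97351 : Q := act 5 n45466
theorem D97351 : act 5 n45466 = n97351 := rfl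
theorem F150103 : act 2 n97351 = n45467 := d2_1 D97351 (iv5 D45467) D45466
def n97352 : Q := act 6 n45466
theorem D97352 : act 6 n45466 = n97352 := rfl
theorem F150104 : act 2 n97352 = n45468 := d3_1 D97352 (iv6 D45468) D45466
def n97353 : Q := act 0 n45467
theorem D97353 : act 0 n45467 = n97353 := rfl
def n97354 : Q := act 1 n45467
theorem D97354 : act 1 n45467 = n97354 := rfl
def n97355 : Q := act 4 n45467
theorem D97355 : act 4 n45467 = n97355 := rfl
def n97356 : Q := act 6 n45467
theorem D97356 : act 6 n45467 = n97356 := rfl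
theorem F150105 : act 3 n97356 = n45470 := d7_1 D97356 (iv6 D45470) (iv3 F71719)
def n97357 : Q := act 0 n45468
theorem D97357 : act 0 n45468 = n97357 := rfl
def n97358 : Q := act 1 n45468
theorem D97358 : act 1 n45468 = n97358 := rfl
def n97359 : Q := act 3 n45469
theorem D97359 : act 3 n45469 = n97359 := rfl
def n97360 : Q := act 5 n45469
theorem D97360 : act 5 n45469 = n97360 := rfl
def n97361 : Q := act 6 n45469
theorem D97361 : act 6 n45469 = n97361 := rfl
theorem F150107 : act 4 n97361 = n45470 := d10_1 D97361 (iv6 D45470) D45469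
def n97362 : Q := act 0 n45470
theorem D97362 : act 0 n45470 = n97362 := rfl
def n97363 : Q := act 1 n45470
theorem D97363 : act 1 n45470 = n97363 := rfl
def n97364 : Q := act 7 n45470
theorem D97364 : act 7 n45470 = n97364 := rfl
def n97365 : Q := act 0 n45471
theorem D97365 : act 0 n45471 = n97365 := rfl
def n97366 : Q := act 1 n45471
theorem D97366 : act 1 n45471 = n97366 := rfl
def n97367 : Q := act 2 n45471
theorem D97367 : act 2 n45471 = n97367 := rfl
def n97368 : Q := act 4 n45471
theorem D97368 : act 4 n45471 = n97368 := rfl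
def n97369 : Q := act 5 n45471
theorem D97369 : act 5 n45471 = n97369 := rfl
theorem F150108 : act 3 n97369 = n45473 := d6_1 D97369 (iv5 D45473) D45471
theorem F150109 : act 7 n97369 = n48050 := d13_2 F148748 D97369 (iv5 F148747)
theorem F150110 : act 6 n48412 = n97369 := d14_5 F150109 (iv6 D48050) (iv7 F75373) (iv6 F76073) (iv7 F76106)
def n97370 : Q := act 6 n45471
theorem D97370 : act 6 n45471 = n97370 := rfl
theorem F150111 : act 3 n97370 = n45474 := d7_1 D97370 (iv6 D45474) D45471
def n97371 : Q := act 0 n45472
theorem D97371 : act 0 n45472 = n97371 := rfl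
theorem F150112 : act 4 n97371 = n96581 := d18_3 D21694 D45472 D97371 (iv5 D96581) F71007 F61778 (iv4 F62906) (iv0 D10350) D10352
theorem F150113 : act 1 n45476 = n97371 := d15_0 (iv0 D97371) (iv7 F148750) F148749
theorem F150114 : act 7 n97371 = n96954 := d15_2 F134292 F150113 F149527
def n97372 : Q := act 3 n45472
theorem D97372 : act 3 n45472 = n97372 := rfl
def n97373 : Q := act 5 n45472
theorem D97373 : act 5 n45472 = n97373 := rfl
def n97374 : Q := act 6 n45472
theorem D97374 : act 6 n45472 = n97374 := rfl
theorem F150116 : act 4 n97374 = n45474 := d10_1 D97374 (iv6 D45474) D45472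
def n97375 : Q := act 0 n45474
theorem D97375 : act 0 n45474 = n97375 := rfl
def n97376 : Q := act 1 n45474
theorem D97376 : act 1 n45474 = n97376 := rfl
def n97377 : Q := act 7 n45474
theorem D97377 : act 7 n45474 = n97377 := rfl
def n97378 : Q := act 0 n45475
theorem D97378 : act 0 n45475 = n97378 := rfl
def n97379 : Q := act 1 n45475
theorem D97379 : act 1 n45475 = n97379 := rfl
def n97380 : Q := act 2 n45475
theorem D97380 : act 2 n45475 = n97380 := rfl
def n97381 : Q := act 4 n45475
theorem D97381 : act 4 n45475 = n97381 := rfl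
def n97382 : Q := act 6 n45475
theorem D97382 : act 6 n45475 = n97382 := rfl
theorem F150117 : act 3 n97382 = n45477 := d7_1 D97382 (iv6 D45477) D45475
def n97383 : Q := act 3 n45476
theorem D97383 : act 3 n45476 = n97383 := rfl
def n97384 : Q := act 5 n45476
theorem D97384 : act 5 n45476 = n97384 := rfl
def n97385 : Q := act 6 n45476
theorem D97385 : act 6 n45476 = n97385 := rfl
theorem F150119 : act 4 n97385 = n45477 := d10_1 D97385 (iv6 D45477) D45476
def n97386 : Q := act 0 n45477
theorem D97386 : act 0 n45477 = n97386 := rfl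
def n97387 : Q := act 1 n45477
theorem D97387 : act 1 n45477 = n97387 := rfl
def n97388 : Q := act 7 n45477
theorem D97388 : act 7 n45477 = n97388 := rfl
def n97389 : Q := act 3 n45478
theorem D97389 : act 3 n45478 = n97389 := rfl
def n97390 : Q := act 5 n45478
theorem D97390 : act 5 n45478 = n97390 := rfl
theorem F150120 : act 4 n97390 = n45539 := d16_2 F149514 D97390 (iv5 D45539) (iv4 D21745) D21746 D45541 (iv5 F149524) F149523 F149516
def n97391 : Q := act 6 n45478
theorem D97391 : act 6 n45478 = n97391 := rfl
def n97392 : Q := act 3 n45479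
theorem D97392 : act 3 n45479 = n97392 := rfl
def n97393 : Q := act 5 n45479
theorem D97393 : act 5 n45479 = n97393 := rfl
def n97394 : Q := act 6 n45479
theorem D97394 : act 6 n45479 = n97394 := rfl
def n97395 : Q := act 0 n45480
theorem D97395 : act 0 n45480 = n97395 := rfl
def n97396 : Q := act 1 n45480
theorem D97396 : act 1 n45480 = n97396 := rfl
def n97397 : Q := act 2 n45480
theorem D97397 : act 2 n45480 = n97397 := rfl
theorem F150122 : act 4 n97397 = n96043 := d1_2 (iv4 F71724) D97397 (iv2 D96043)
def n97398 : Q := act 5 n45480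
theorem D97398 : act 5 n45480 = n97398 := rfl
def n97399 : Q := act 7 n45480
theorem D97399 : act 7 n45480 = n97399 := rfl
theorem F150124 : act 3 n97399 = n45482 := d8_1 D97399 (iv7 D45482) D45480
theorem F150125 : act 4 n97399 = n96045 := d11_1 D97399 (iv7 D96045) (iv4 F71724)
def n97400 : Q := act 0 n45481
theorem D97400 : act 0 n45481 = n97400 := rfl
theorem F150126 : act 5 n97400 = n45499 := d17_3 (iv1 D45479) D45481 D97400 (iv4 D45499) (iv5 D21713) (iv0 F62910) D45327 D96953 (iv4 F149526)
def n97401 : Q := act 1 n45481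
theorem D97401 : act 1 n45481 = n97401 := rfl
theorem F150130 : act 5 n97401 = n45522 := d17_7 (iv1 F71712) (iv5 D21692) (iv1 D10351) D10352 D21696 D45481 D97401 (iv0 F150072) (iv4 D97330)
def n97408 : Q := act 0 n45490
theorem D97408 : act 0 n45490 = n97408 := rfl
theorem F150141 : act 3 n97408 = n96542 := d20_5 (iv4 D20960) (iv1 F62699) (iv4 F62597) D45490 D97408 (iv4 D96542) (iv1 D45079) F33856 F33855 F33141
theorem F150142 : act 1 n87462 = n97408 := d15_0 (iv0 D97408) F71744 (iv2 F134277)
def n97409 : Q := act 1 n45490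
theorem D97409 : act 1 n45490 = n97409 := rfl
def n97410 : Q := act 2 n45490
theorem D97410 : act 2 n45490 = n97410 := rfl
theorem F150143 : act 3 n97410 = n95546 := d0_2 D45490 D97410 (iv2 F147189) F71011 (iv2 F71008)
theorem F150144 : act 4 n97410 = n46087 := d1_2 (iv4 F71742) D97410 (iv2 F72652)
theorem F150145 : act 6 n97410 = n96053 := d3_2 (iv6 F71743) D97410 (iv2 D96053)
theorem F150146 : act 7 n97410 = n87462 := d4_2 (iv7 F71744) D97410 F134277
theorem F150147 : act 1 n97410 = n87466 := d15_0 (iv0 D87466) (iv7 F71744) D97410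
theorem F150148 : act 1 n97409 = n87462 := d15_1 D97409 (iv7 F150146) (iv2 D97410)
theorem F150149 : act 1 n87467 = n97410 := d15_1 D87467 F150146 F134277
def n97411 : Q := act 5 n45490
theorem D97411 : act 5 n45490 = n97411 := rfl
theorem F150150 : act 3 n97411 = n45491 := d6_1 D97411 (iv5 D45491) D45490
theorem F150151 : act 7 n97411 = n87468 := d13_2 (iv7 F71744) D97411 (iv5 D87468)
def n97412 : Q := act 4 n45491
theorem D97412 : act 4 n45491 = n97412 := rfl
theorem F150152 : act 2 n97412 = n97371 := d1_1 D97412 F150112 F148767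
theorem F150153 : act 7 n97412 = n87476 := d11_2 (iv7 F71745) D97412 (iv4 D87476)
theorem F150154 : act 0 n97412 = n96573 := d18_2 (iv1 F149515) D97412 (iv4 D96573) (iv5 F70996) (iv4 F62979) F76089 D93387 (iv0 F144048) (iv5 F149513)
def n97413 : Q := act 6 n45491
theorem D97413 : act 6 n45491 = n97413 := rfl
theorem F150156 : act 5 n97413 = n96056 := d12_1 D97413 (iv6 D96056) (iv5 D44823) (iv6 F66314) D45491
def n97414 : Q := act 2 n45492
theorem D97414 : act 2 n45492 = n97414 := rfl
def n97415 : Q := act 5 n45492
theorem D97415 : act 5 n45492 = n97415 := rfl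
def n97416 : Q := act 6 n45492
theorem D97416 : act 6 n45492 = n97416 := rfl
theorem F150159 : act 3 n97416 = n96059 := d7_1 D97416 (iv6 D96059) F144639
def n97417 : Q := act 7 n45492
theorem D97417 : act 7 n45492 = n97417 := rfl
def n97418 : Q := act 3 n45493
theorem D97418 : act 3 n45493 = n97418 := rfl
theorem F150163 : act 4 n97418 = n96061 := d5_2 F144636 D97418 (iv3 D96061) (iv4 F145183) F145182
theorem F150164 : act 0 n97418 = n96537 := d20_10 (iv4 D96537) (iv1 F70979) F70143 F70142 (iv1 F33465) D21332 (iv4 F68952) D93822 F144636 D97418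
theorem F150165 : act 0 n95508 = n96061 := d20_1 D95508 (iv4 F150163) (iv3 D97418) (iv1 D45493) (iv3 D21712) (iv4 D10356) (iv1 F16289) (iv4 F33862) (iv3 F70976) (iv1 F70980)
theorem F150166 : act 0 n96542 = n97418 := d20_1 D96542 F150163 (iv3 D96061) (iv1 D44825) (iv3 D21353) (iv4 D10183) (iv1 F15994) (iv4 F33464) (iv3 F70142) (iv1 F70972)
def n97421 : Q := act 5 n45494
theorem D97421 : act 5 n45494 = n97421 := rfl
theorem F150167 : act 2 n97421 = n45495 := d2_1 D97421 (iv5 D45495) D45494
def n97422 : Q := act 6 n45494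
theorem D97422 : act 6 n45494 = n97422 := rfl
theorem F150168 : act 2 n97422 = n45496 := d3_1 D97422 (iv6 D45496) D45494
def n97423 : Q := act 0 n45495
theorem D97423 : act 0 n45495 = n97423 := rfl
def n97424 : Q := act 1 n45495
theorem D97424 : act 1 n45495 = n97424 := rfl
def n97425 : Q := act 4 n45495
theorem D97425 : act 4 n45495 = n97425 := rfl
def n97426 : Q := act 6 n45495
theorem D97426 : act 6 n45495 = n97426 := rfl
theorem F150169 : act 3 n97426 = n45500 := d7_1 D97426 (iv6 D45500) (iv3 F71746)
def n97427 : Q := act 0 n45496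
theorem D97427 : act 0 n45496 = n97427 := rfl
def n97428 : Q := act 1 n45496
theorem D97428 : act 1 n45496 = n97428 := rfl
def n97429 : Q := act 5 n45496
theorem D97429 : act 5 n45496 = n97429 := rfl
theorem F150170 : act 3 n97429 = n45502 := d6_1 D97429 (iv5 D45502) (iv3 F71747)
def n97430 : Q := act 3 n45497
theorem D97430 : act 3 n45497 = n97430 := rfl
theorem F150171 : act 5 n97430 = n96389 := d6_2 (iv5 F71748) D97430 F148361
def n97432 : Q := act 6 n45497
theorem D97432 : act 6 n45497 = n97432 := rfl
theorem F150176 : act 5 n97432 = n96391 := d12_1 D97432 (iv6 D96391) (iv5 D45006) D45007 (iv5 F71748)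
def n97433 : Q := act 3 n45498
theorem D97433 : act 3 n45498 = n97433 := rfl
theorem F150177 : act 5 n97433 = n96128 := d6_2 F75561 D97433 (iv3 F147774)
theorem F150178 : act 7 n97433 = n96114 := d8_2 F146991 D97433 (iv3 F150080)
theorem F150179 : act 2 n97433 = n96113 := d15_3 (iv0 D96113) D96114 (iv7 F150178)
def n97434 : Q := act 4 n45498
theorem D97434 : act 4 n45498 = n97434 := rfl
theorem F150180 : act 2 n97434 = n97335 := d1_1 D97434 F150084 (iv2 F148792)
theorem F150181 : act 7 n97434 = n97334 := d11_2 F146991 D97434 F150079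
theorem F150183 : act 1 n97434 = n96567 := d18_6 (iv1 F71722) F75860 (iv1 F75858) F75562 F75561 D97434 (iv4 D96567) (iv0 F76216) (iv5 D48456)
theorem F150184 : act 0 n97433 = n95548 := d20_4 D96567 (iv1 F150183) (iv4 D97434) D97433 F147197 D95552 F147212 (iv4 D48474) (iv3 F76213) F76216
def n97435 : Q := act 6 n45498
theorem D97435 : act 6 n45498 = n97435 := rfl
theorem F150185 : act 5 n97435 = n95687 := d12_1 D97435 (iv6 D95687) (iv5 F75216) F75560 F75561
def n97436 : Q := act 3 n45499
theorem D97436 : act 3 n45499 = n97436 := rfl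
def n97437 : Q := act 6 n45499
theorem D97437 : act 6 n45499 = n97437 := rfl
theorem F150186 : act 4 n97437 = n45500 := d10_1 D97437 (iv6 D45500) D45499
def n97438 : Q := act 0 n45500
theorem D97438 : act 0 n45500 = n97438 := rfl
def n97439 : Q := act 1 n45500
theorem D97439 : act 1 n45500 = n97439 := rfl
def n97440 : Q := act 5 n45500
theorem D97440 : act 5 n45500 = n97440 := rfl
theorem F150187 : act 6 n97440 = n45502 := d12_2 D45500 D97440 (iv5 D45502) (iv6 D21714) D21713
def n97441 : Q := act 7 n45500
theorem D97441 : act 7 n45500 = n97441 := rfl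
def n97442 : Q := act 3 n45501
theorem D97442 : act 3 n45501 = n97442 := rfl
theorem F150188 : act 6 n97442 = n96125 := d7_2 F71752 D97442 (iv3 D96125)
theorem F150189 : act 7 n97442 = n95621 := d8_2 (iv7 F71751) D97442 F147296
theorem F150190 : act 0 n97442 = n95549 := d20_4 F133579 (iv1 F133577) (iv4 F71754) D97442 F147199 F70180 F63326 (iv4 F64843) F64842 D42014
def n97443 : Q := act 4 n45502
theorem D97443 : act 4 n45502 = n97443 := rfl
theorem F150191 : act 2 n97443 = n47855 := d1_1 D97443 F138136 F138133
theorem F150192 : act 7 n97443 = n47854 := d11_2 F138128 D97443 (iv4 F138131)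
theorem F150193 : act 0 n97443 = n47775 := d18_2 (iv1 F146942) D97443 (iv4 D47775) (iv5 D22984) F17642 D10851 D22991 F70031 (iv5 F146941)
theorem F150194 : act 1 n97443 = n47858 := d18_6 (iv1 F138009) F64860 F63258 (iv4 F34161) D45502 D97443 F75131 F75041 (iv5 F138004)
def n97467 : Q := act 5 n45514
theorem D97467 : act 5 n45514 = n97467 := rfl
theorem F150240 : act 6 n97467 = n47889 := d12_2 F145716 D97467 F75195 D95639 F147328
theorem F150243 : act 1 n97467 = n47507 := d17_6 F64037 D44310 F146181 (iv5 D94822) (iv4 F71783) D97467 F74695 (iv0 D41512) D41514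
theorem F150244 : act 0 n97467 = n46835 := d18_0 F73978 (iv1 F76104) (iv4 D43679) (iv5 F62593) D44267 D94741 (iv4 F146046) F72762 D97467
def n97469 : Q := act 5 n45518
theorem D97469 : act 5 n45518 = n97469 := rfl
theorem F150247 : act 3 n97469 = n95545 := d6_1 D97469 (iv5 D95545) F71791
theorem F150248 : act 7 n97469 = n95559 := d13_2 (iv7 F71794) D97469 (iv5 D95559)
def n97470 : Q := act 5 n45519
theorem D97470 : act 5 n45519 = n97470 := rfl
theorem F150249 : act 2 n97470 = n45520 := d2_1 D97470 (iv5 D45520) D45519
def n97471 : Q := act 6 n45519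
theorem D97471 : act 6 n45519 = n97471 := rfl
theorem F150250 : act 2 n97471 = n45521 := d3_1 D97471 (iv6 D45521) D45519
theorem F150251 : act 1 n97471 = n95654 := d15_0 F147771 F138101 (iv2 F150250)
def n97472 : Q := act 0 n45520
theorem D97472 : act 0 n45520 = n97472 := rfl
def n97473 : Q := act 1 n45520
theorem D97473 : act 1 n45520 = n97473 := rfl
theorem F150252 : act 3 n95550 = n97473 := d20_3 D44792 D95982 F147616 (iv1 D97473) F71796 D45522 (iv1 F150076) (iv4 D97332) F75518 (iv1 D44791)
theorem F150253 : act 5 n97473 = n96092 := d6_2 (iv5 F147201) F150252 (iv3 D96092)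
theorem F150254 : act 7 n97473 = n96077 := d8_2 F147204 F150252 (iv3 D96077)
theorem F150255 : act 2 n96077 = n97472 := d15_3 (iv0 D97472) D97473 F150254
def n97474 : Q := act 4 n45520
theorem D97474 : act 4 n45520 = n97474 := rfl
def n97475 : Q := act 6 n45520
theorem D97475 : act 6 n45520 = n97475 := rfl
theorem F150256 : act 3 n97475 = n45523 := d7_1 D97475 (iv6 D45523) (iv3 F71796)
def n97476 : Q := act 0 n45521
theorem D97476 : act 0 n45521 = n97476 := rfl
theorem F150257 : act 2 n96125 = n97476 := d15_3 (iv0 D97476) (iv0 F137038) (iv7 F147769)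
theorem F150258 : act 5 n97476 = n95465 := d2_2 F148367 F150257 (iv2 F148369)
theorem F150259 : act 7 n97476 = n95654 := d4_2 (iv7 F147769) F150257 F147351
theorem F150260 : act 1 n96125 = n97471 := d15_0 F150251 (iv7 F150259) (iv2 F150257)
def n97477 : Q := act 5 n45521
theorem D97477 : act 5 n45521 = n97477 := rfl
theorem F150261 : act 3 n97477 = n45525 := d6_1 D97477 (iv5 D45525) (iv3 F71797)
theorem F150262 : act 0 n96381 = n97477 := d21_1 D96381 (iv5 D97477) (iv6 D45521) (iv1 F71795) (iv6 D45362) (iv5 F70751) (iv1 F70753) (iv5 D44592) D44593 (iv1 F76171)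
def n97478 : Q := act 3 n45522
theorem D97478 : act 3 n45522 = n97478 := rfl
def n97479 : Q := act 6 n45522
theorem D97479 : act 6 n45522 = n97479 := rfl
theorem F150263 : act 4 n97479 = n45523 := d10_1 D97479 (iv6 D45523) D45522
def n97480 : Q := act 0 n45523
theorem D97480 : act 0 n45523 = n97480 := rfl
def n97481 : Q := act 1 n45523
theorem D97481 : act 1 n45523 = n97481 := rfl
def n97482 : Q := act 5 n45523
theorem D97482 : act 5 n45523 = n97482 := rfl
theorem F150264 : act 6 n97482 = n45525 := d12_2 D45523 D97482 (iv5 D45525) (iv6 D21734) D21733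
def n97483 : Q := act 7 n45523
theorem D97483 : act 7 n45523 = n97483 := rfl
def n97484 : Q := act 3 n45524
theorem D97484 : act 3 n45524 = n97484 := rfl
theorem F150265 : act 4 n97484 = n47432 := d5_2 F137048 D97484 F74628 (iv4 F64371) (iv3 F137045)
theorem F150266 : act 5 n97484 = n95483 := d6_2 (iv5 F71798) D97484 (iv3 D95483)
theorem F150267 : act 6 n97484 = n96086 := d7_2 F71801 D97484 (iv3 D96086)
theorem F150268 : act 7 n97484 = n95673 := d8_2 (iv7 F71800) D97484 F147361
theorem F150272 : act 2 n97484 = n96117 := d15_3 (iv0 D96117) (iv0 F147363) (iv7 F150268)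
theorem F150273 : act 5 n96117 = n96364 := d2_2 (iv5 F150266) F150272 (iv2 F148324)
theorem F150274 : act 7 n96117 = n97052 := d4_2 (iv7 F150268) F150272 F149719
def n97499 : Q := act 3 n45534
theorem D97499 : act 3 n45534 = n97499 := rfl
theorem F150291 : act 6 n97499 = n48410 := d7_2 (iv6 F71817) D97499 (iv3 D48410)
def n97509 : Q := act 3 n45541
theorem D97509 : act 3 n45541 = n97509 := rfl
theorem F150306 : act 6 n97509 = n46997 := d7_2 (iv6 F71824) D97509 F74214
def n97553 : Q := act 2 n45559
theorem D97553 : act 2 n45559 = n97553 := rfl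
theorem F150341 : act 7 n45560 = n97553 := d15_2 (iv0 D45559) D45560 (iv2 D97553)
def n97554 : Q := act 3 n45559
theorem D97554 : act 3 n45559 = n97554 := rfl
def n97555 : Q := act 5 n45559
theorem D97555 : act 5 n45559 = n97555 := rfl
def n97556 : Q := act 6 n45559
theorem D97556 : act 6 n45559 = n97556 := rfl
def n97557 : Q := act 7 n45559
theorem D97557 : act 7 n45559 = n97557 := rfl
theorem F150343 : act 2 n97557 = n45560 := d4_1 D97557 F150341 (iv2 D97553)
def n97558 : Q := act 3 n45560
theorem D97558 : act 3 n45560 = n97558 := rfl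
def n97559 : Q := act 4 n45560
theorem D97559 : act 4 n45560 = n97559 := rfl
def n97560 : Q := act 5 n45560
theorem D97560 : act 5 n45560 = n97560 := rfl
theorem F150344 : act 0 n79485 = n97560 := d21_10 (iv5 D97560) (iv1 D45560) (iv5 F61549) (iv6 D40452) (iv1 F33400) (iv6 F69999) (iv5 D44483) (iv1 F120798) D36189 D79485
theorem F150345 : act 6 n79576 = n97560 := d21_5 (iv5 D21164) (iv1 F16753) D17502 D36240 D79576 (iv5 D97560) (iv1 D45560) (iv5 F61549) (iv6 D40452) (iv1 F33400)
theorem F150346 : act 3 n97560 = n81256 := d7_1 F150345 F125063 F133630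
theorem E14780 : n81254 = n45560 := (c6_4 D97560 F150346 (iv5 D81256) D81254)
theorem E14781 : n97558 = n37118 := ((D97558).symm.trans (sb E14780 (iv3 D81254)))
theorem E14782 : n97559 = n96907 := ((D97559).symm.trans (sb E14780 (iv4 F149401)))
theorem F150347 : act 3 n37118 = n45560 := (sb E14781 (iv3 D97558))
theorem F150348 : act 4 n96907 = n45560 := (sb E14782 (iv4 D97559))
theorem F150349 : act 3 n97553 = n81233 := d8_3 F125058 F150347 F150341
theorem F150350 : act 2 n81250 = n97554 := d0_3 F150349 F125057 D81250 (iv3 D97554) D97553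
theorem F150351 : act 4 n96894 = n97553 := d20_2 (iv4 F71354) D96894 F150349 (iv1 F125022) F58047 (iv4 F58060) (iv1 F58063) F67514 D37181 (iv1 F126100)
theorem F150353 : act 7 n96907 = n96894 := d11_0 F150351 (iv7 F150341) (iv4 F150348)
theorem F150354 : act 2 n96907 = n96895 := d15_3 F149407 F149409 (iv7 F150353)
theorem F150355 : act 4 n96895 = n97557 := d1_2 (iv4 F150348) F150354 F150343
def n97561 : Q := act 6 n45560
theorem D97561 : act 6 n45560 = n97561 := rfl
theorem F150358 : act 5 n97561 = n95260 := d12_1 D97561 (iv6 F148219) F148218 F150345 (iv5 D97560)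
theorem F150359 : act 2 n80826 = n97561 := d2_3 F150358 F146864 F126745
theorem F150361 : act 0 n80650 = n97561 := d21_1 D80650 F150358 (iv6 F148219) (iv1 F148220) (iv6 F146825) (iv5 D45941) F121460 F70525 F70526 (iv1 F120976)
theorem F150362 : act 1 n80820 = n97561 := d15_0 (iv0 F150361) F124041 (iv2 F124523)
theorem F150363 : act 0 n80821 = n79108 := d21_4 (iv5 F150358) (iv1 F150362) (iv5 D80820) D80821 (iv6 D79108) D79107 (iv1 F124049) F131271 (iv6 F131272) (iv1 F146867)
theorem F150364 : act 0 n81593 = n84520 := d18_2 F150363 (iv4 F125490) (iv4 D84520) (iv5 D38987) D38986 D84515 (iv4 F129663) D95278 (iv5 F146917)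
theorem E14783 : n97557 = n45580 := (c3_4 (iv6 F146861) F150359 (iv6 D97561) (iv2 F150343))
theorem F150366 : act 4 n45580 = n96895 := (sb E14783 (iv4 F150355))
theorem F150367 : act 7 n45580 = n45559 := (sb E14783 (iv7 D97557))
theorem E14784 : n97553 = n45579 := (c15_4 (iv0 D45579) D45580 F150367 D97553)
theorem F150368 : act 2 n45579 = n45559 := (sb E14784 (iv2 D97553))
theorem F150369 : act 3 n45579 = n81233 := (sb E14784 F150349)
theorem E14785 : n82835 = n80916 := ((c20_5 F150366 (iv1 D96895) F71354 (iv3 F57878) D80916 (iv3 D82835) D82836 (iv1 F127609) F127606 F72900 (iv1 F71862))).symm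
theorem F150373 : act 2 n80916 = n80897 := (sb E14785 F129657)
theorem F150374 : act 3 n80916 = n38108 := (sb E14785 (iv3 D82835))
theorem F150375 : act 7 n80916 = n80898 := (sb E14785 (iv7 F129656))
theorem F150376 : act 2 n80898 = n80917 := d15_3 F124638 F124642 F150375
theorem F150377 : act 7 n80897 = n80917 := d4_2 (iv7 F150375) F150373 (iv2 F150376)
theorem F150378 : act 6 n80917 = n96823 := d3_2 (iv6 F129655) F150376 (iv2 F149282)
def n97565 : Q := act 6 n45563
theorem D97565 : act 6 n45563 = n97565 := rfl
def n97598 : Q := act 5 n45579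
theorem D97598 : act 5 n45579 = n97598 := rfl
theorem F150437 : act 2 n97598 = n97555 := d2_1 D97598 (iv5 D97555) (iv2 F150368)
def n97599 : Q := act 6 n45579
theorem D97599 : act 6 n45579 = n97599 := rfl
theorem F150439 : act 2 n97599 = n97556 := d3_1 D97599 (iv6 D97556) (iv2 F150368)
theorem F150441 : act 5 n97599 = n78487 := d21_6 (iv5 D19203) F17426 D10384 D21762 D45579 D97599 F146853 F61549 (iv6 D21753) (iv1 F30847)
theorem F150442 : act 0 n80828 = n97599 := d21_10 F150441 F146853 F61549 (iv6 D21753) (iv1 F30847) (iv6 F61789) (iv5 D40683) F120754 D36911 D80828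
def n97600 : Q := act 3 n45580
theorem D97600 : act 3 n45580 = n97600 := rfl
theorem F150444 : act 0 n97600 = n57100 := d20_4 (iv4 F149404) (iv1 F149407) (iv4 F150366) D97600 F90147 (iv4 F58551) (iv1 F126702) (iv4 D82194) (iv3 F126103) (iv1 F71367)
def n97601 : Q := act 5 n45580
theorem D97601 : act 5 n45580 = n97601 := rfl
theorem F150447 : act 6 n97601 = n87045 := d12_2 F146861 D97601 (iv5 F146828) F146831 F126745
def n97602 : Q := act 1 n45581
theorem D97602 : act 1 n45581 = n97602 := rfl
theorem F150451 : act 1 n97602 = n87063 := d15_1 D97602 (iv7 D87063) (iv2 F71863)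
theorem F150452 : act 7 n97602 = n87061 := d15_2 (iv0 F146851) D97602 (iv2 F146849)
theorem F150453 : act 5 n97556 = n97602 := d21_6 (iv5 D21428) F17428 D10370 D21753 D45559 D97556 (iv1 D97602) (iv5 D45581) (iv6 D21762) (iv1 F33653)
theorem F150454 : act 2 n97602 = n78487 := d2_1 F150453 (iv5 F150441) F150439
def n97603 : Q := act 7 n45581
theorem D97603 : act 7 n45581 = n97603 := rfl
theorem F150456 : act 3 n97603 = n55785 := d8_1 D97603 (iv7 D55785) (iv3 F71864)
theorem F150458 : act 6 n97603 = n79627 := d14_1 D97603 (iv7 D79627) (iv6 D36261) (iv7 F34203) (iv6 F71865)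
theorem F150459 : act 1 n78487 = n97603 := d15_1 (iv0 F146853) (iv7 D97603) F71863
theorem F150460 : act 1 n97603 = n87061 := d15_1 F150459 (iv7 F150452) F150454
def n97734 : Q := act 4 n45629
theorem D97734 : act 4 n45629 = n97734 := rfl
theorem F150640 : act 0 n97734 = n88973 := d18_2 D45629 D97734 (iv4 D88973) (iv5 D41540) F62915 F58734 F58732 F62622 D21797
def n97740 : Q := act 1 n45631
theorem D97740 : act 1 n45631 = n97740 := rfl
theorem F150647 : act 4 n97740 = n46313 := d18_7 (iv1 D10556) F6970 F62631 D10405 D21797 D45631 D97740 F72972 (iv5 D22151)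
def n97783 : Q := act 0 n45650
theorem D97783 : act 0 n45650 = n97783 := rfl
theorem F150717 : act 4 n97783 = n89157 := d20_0 (iv1 D89157) F64276 (iv3 F72587) F134922 (iv3 D22144) D22145 F62895 (iv4 F62612) D45650 D97783
theorem F150718 : act 1 n82684 = n97783 := d15_0 (iv0 D97783) F71981 (iv2 F127382)
def n97784 : Q := act 1 n45650
theorem D97784 : act 1 n45650 = n97784 := rfl
theorem F150719 : act 4 n89156 = n97784 := d20_0 (iv1 D97784) F71979 (iv3 D44251) (iv1 F62615) D40765 F63048 (iv1 F71795) (iv4 F127122) F127121 D89156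
theorem F150720 : act 3 n86949 = n89156 := d20_5 (iv4 F62621) (iv1 F62628) F31277 (iv3 F61454) D86949 F150719 (iv1 D97784) F71979 (iv3 D44251) (iv1 F62615)
theorem F150722 : act 3 n97784 = n89200 := d20_3 (iv4 F64276) D89156 F150719 (iv1 F144929) (iv3 F145027) F145028 (iv1 F72619) D46042 (iv3 F134127) (iv1 D87364)
def n97785 : Q := act 2 n45650
theorem D97785 : act 2 n45650 = n97785 := rfl
theorem F150723 : act 3 n97785 = n89101 := d0_2 D45650 D97785 F136813 F64259 (iv2 F62611)
theorem F150724 : act 4 n97785 = n94706 := d1_2 (iv4 F71979) D97785 (iv2 D94706)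
theorem F150725 : act 6 n97785 = n89159 := d3_2 (iv6 F71980) D97785 F136858
theorem F150727 : act 1 n97785 = n82685 := d15_0 (iv0 D82685) (iv7 F71981) D97785
def n97786 : Q := act 5 n45650
theorem D97786 : act 5 n45650 = n97786 := rfl
def n97787 : Q := act 4 n45651
theorem D97787 : act 4 n45651 = n97787 := rfl
def n97788 : Q := act 6 n45651
theorem D97788 : act 6 n45651 = n97788 := rfl
theorem F150736 : act 5 n97788 = n89197 := d12_1 D97788 (iv6 D89197) F64294 (iv6 F62613) D45651
def n97791 : Q := act 6 n45652
theorem D97791 : act 6 n45652 = n97791 := rfl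
theorem F150743 : act 5 n97791 = n89477 := d12_1 D97791 (iv6 D89477) (iv5 F73908) (iv6 F144979) F144977
def n97794 : Q := act 6 n45653
theorem D97794 : act 6 n45653 = n97794 := rfl
theorem F150751 : act 5 n97794 = n47488 := d12_1 D97794 (iv6 D47488) (iv5 D22809) D22810 F71988
def n97796 : Q := act 1 n45654
theorem D97796 : act 1 n45654 = n97796 := rfl
theorem F150758 : act 4 n97796 = n47639 := d18_7 (iv1 F31315) F17034 F62633 D10415 D21824 D45654 D97796 F74921 (iv5 D41537)
def n97797 : Q := act 3 n45654
theorem D97797 : act 3 n45654 = n97797 := rfl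
theorem F150760 : act 4 n97797 = n94113 := d5_2 D45654 D97797 (iv3 D94113) (iv4 D43998) (iv3 F34280)
def n97800 : Q := act 0 n45655
theorem D97800 : act 0 n45655 = n97800 := rfl
def n97801 : Q := act 1 n45655
theorem D97801 : act 1 n45655 = n97801 := rfl
def n97802 : Q := act 5 n45655
theorem D97802 : act 5 n45655 = n97802 := rfl
theorem F150769 : act 3 n97802 = n94117 := d6_1 D97802 (iv5 D94117) (iv3 F71990)
theorem F150770 : act 6 n97802 = n45656 := d12_2 D45655 D97802 (iv5 D45656) (iv6 D21825) D21824
def n97803 : Q := act 7 n45655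
theorem D97803 : act 7 n45655 = n97803 := rfl
theorem F150771 : act 3 n97803 = n94118 := d8_1 D97803 (iv7 D94118) (iv3 F71990)
def n97804 : Q := act 4 n45656
theorem D97804 : act 4 n45656 = n97804 := rfl
theorem F150773 : act 2 n97804 = n47383 := d1_1 D97804 (iv4 D47383) (iv2 F71991)
theorem F150774 : act 7 n97804 = n47385 := d11_2 (iv7 F71993) D97804 (iv4 D47385)
theorem F150775 : act 5 n97804 = n89376 := d16_1 D97804 (iv4 D89376) F64374 F35110 (iv5 F31433) D41809 F73592 F73590 (iv2 F71991)
theorem F150776 : act 0 n97804 = n46634 := d17_0 F136276 (iv1 F136274) F64417 (iv4 D22332) (iv5 D10631) D10630 D22328 (iv0 F71994) D97804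
theorem F150777 : act 1 n97804 = n46626 := d18_6 (iv1 F64469) (iv4 D19692) F62655 (iv4 F34283) D45656 D97804 (iv4 D46626) D46625 F73655
def n97942 : Q := act 6 n45717
theorem D97942 : act 6 n45717 = n97942 := rfl
theorem F150957 : act 3 n97942 = n45720 := d7_1 D97942 (iv6 D45720) D45717
theorem F150958 : act 4 n97942 = n48005 := d10_1 D97942 (iv6 D48005) (iv4 F72099)
def n97943 : Q := act 6 n45718
theorem D97943 : act 6 n45718 = n97943 := rfl
theorem F150959 : act 2 n97943 = n46534 := d3_1 D97943 (iv6 D46534) (iv2 F72101)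
theorem F150960 : act 3 n97943 = n95431 := d7_1 D97943 (iv6 D95431) (iv3 F72103)
theorem F150961 : act 4 n97943 = n45720 := d10_1 D97943 (iv6 D45720) D45718
def n97944 : Q := act 6 n45719
theorem D97944 : act 6 n45719 = n97944 := rfl
theorem F150962 : act 2 n97944 = n46535 := d3_1 D97944 (iv6 D46535) (iv2 F72111)
theorem F150963 : act 4 n97944 = n96495 := d10_1 D97944 (iv6 D96495) (iv4 F75474)
def n97945 : Q := act 0 n45720
theorem D97945 : act 0 n45720 = n97945 := rfl
def n97946 : Q := act 1 n45720
theorem D97946 : act 1 n45720 = n97946 := rfl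
theorem F150964 : act 1 n97946 = n46539 := d15_1 D97946 (iv7 D46539) (iv2 F72113)
def n97947 : Q := act 5 n45720
theorem D97947 : act 5 n45720 = n97947 := rfl
theorem F150965 : act 2 n97947 = n46538 := d2_1 D97947 (iv5 D46538) (iv2 F72113)
def n97948 : Q := act 7 n45720
theorem D97948 : act 7 n45720 = n97948 := rfl
theorem F150966 : act 2 n97948 = n46539 := d4_1 D97948 (iv7 D46539) (iv2 F72113)
theorem F150967 : act 6 n97948 = n46529 := d14_1 D97948 (iv7 D46529) (iv6 D22303) (iv7 F68218) D45720
theorem F150968 : act 1 n46539 = n97945 := d15_0 (iv0 D97945) D97948 F150966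
def n97949 : Q := act 6 n45721
theorem D97949 : act 6 n45721 = n97949 := rfl
theorem F150971 : act 2 n97949 = n46524 := d3_1 D97949 (iv6 D46524) (iv2 F72114)
theorem F150972 : act 3 n97949 = n90483 := d7_1 D97949 (iv6 D90483) (iv3 F72115)
theorem F150973 : act 4 n97949 = n45723 := d10_1 D97949 (iv6 D45723) D45721
def n97950 : Q := act 6 n45722
theorem D97950 : act 6 n45722 = n97950 := rfl
theorem F150974 : act 2 n97950 = n46525 := d3_1 D97950 (iv6 D46525) (iv2 F72120)
theorem F150975 : act 4 n97950 = n96493 := d10_1 D97950 (iv6 D96493) (iv4 F75463)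
def n97951 : Q := act 0 n45723
theorem D97951 : act 0 n45723 = n97951 := rfl
def n97952 : Q := act 1 n45723
theorem D97952 : act 1 n45723 = n97952 := rfl
def n97953 : Q := act 5 n45723
theorem D97953 : act 5 n45723 = n97953 := rfl
theorem F150977 : act 2 n97953 = n46528 := d2_1 D97953 (iv5 D46528) (iv2 F72122)
def n97954 : Q := act 7 n45723
theorem D97954 : act 7 n45723 = n97954 := rfl
theorem F150978 : act 2 n97954 = n46529 := d4_1 D97954 (iv7 D46529) (iv2 F72122)
theorem F150979 : act 6 n97954 = n46539 := d14_1 D97954 (iv7 D46539) (iv6 D22308) (iv7 F68216) D45723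
theorem F150980 : act 1 n46529 = n97951 := d15_0 (iv0 D97951) D97954 F150978
def n97955 : Q := act 2 n45724
theorem D97955 : act 2 n45724 = n97955 := rfl
theorem F150983 : act 7 n45725 = n97955 := d15_2 (iv0 D45724) D45725 (iv2 D97955)
def n97956 : Q := act 3 n45724
theorem D97956 : act 3 n45724 = n97956 := rfl
def n97957 : Q := act 4 n45724
theorem D97957 : act 4 n45724 = n97957 := rfl
theorem F150984 : act 3 n97957 = n95435 := d20_9 F135202 (iv1 F76175) (iv4 F72142) (iv3 D45731) (iv1 D21859) (iv3 F34313) F34314 D45724 D97957 (iv1 F147053)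
def n97958 : Q := act 5 n45724
theorem D97958 : act 5 n45724 = n97958 := rfl
def n97959 : Q := act 6 n45724
theorem D97959 : act 6 n45724 = n97959 := rfl
def n97960 : Q := act 7 n45724
theorem D97960 : act 7 n45724 = n97960 := rfl
theorem F150985 : act 2 n97960 = n45725 := d4_1 D97960 F150983 (iv2 D97955)
def n97961 : Q := act 4 n45725
theorem D97961 : act 4 n45725 = n97961 := rfl
def n97962 : Q := act 5 n45725
theorem D97962 : act 5 n45725 = n97962 := rfl
def n97963 : Q := act 6 n45725
theorem D97963 : act 6 n45725 = n97963 := rfl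
def n97964 : Q := act 0 n45726
theorem D97964 : act 0 n45726 = n97964 := rfl
def n97965 : Q := act 1 n45726
theorem D97965 : act 1 n45726 = n97965 := rfl
theorem F150986 : act 1 n97965 = n87685 := d15_1 D97965 (iv7 D87685) (iv2 F72124)
def n97966 : Q := act 4 n45726
theorem D97966 : act 4 n45726 = n97966 := rfl
theorem F150987 : act 2 n97966 = n87684 := d1_1 D97966 (iv4 D87684) (iv2 F72124)
def n97967 : Q := act 7 n45726
theorem D97967 : act 7 n45726 = n97967 := rfl
theorem F150988 : act 2 n97967 = n87685 := d4_1 D97967 (iv7 D87685) (iv2 F72124)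
theorem F150989 : act 3 n97967 = n45736 := d8_1 D97967 (iv7 D45736) (iv3 F72125)
theorem F150990 : act 5 n97967 = n45727 := d13_1 D97967 (iv7 D45727) D45726
theorem F150991 : act 1 n87685 = n97964 := d15_0 (iv0 D97964) D97967 F150988
theorem F150992 : act 1 n87683 = n97967 := d15_1 D87683 (iv7 D97967) F72124
theorem F150993 : act 1 n97967 = n87682 := d15_0 (iv0 D87682) D87685 (iv2 F150988)
def n97968 : Q := act 0 n45728
theorem D97968 : act 0 n45728 = n97968 := rfl
theorem F150994 : act 4 n97968 = n46592 := d20_0 (iv1 F73577) D47406 (iv3 F74613) (iv1 F134635) F73261 F34687 (iv1 F66561) F34322 D45728 D97968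
def n97969 : Q := act 1 n45728
theorem D97969 : act 1 n45728 = n97969 := rfl
theorem F150996 : act 4 n46593 = n97969 := d20_0 (iv1 D97969) F72133 (iv3 D23390) D23388 D48232 F75824 (iv1 F148091) F148089 F73598 (iv1 F73582)
theorem F150997 : act 3 n97969 = n87700 := d20_3 (iv4 D47406) (iv1 F73582) F150996 (iv1 F134607) (iv3 F74675) F74676 (iv1 F73666) (iv4 F74869) (iv3 F74870) (iv1 F74614)
def n97970 : Q := act 2 n45728
theorem D97970 : act 2 n45728 = n97970 := rfl
theorem F150998 : act 3 n97970 = n47473 := d0_2 D45728 D97970 (iv2 D47473) (iv3 D22802) (iv2 F66608)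
theorem F150999 : act 4 n97970 = n48235 := d1_2 (iv4 F72133) D97970 (iv2 D48235)
theorem F151000 : act 7 n97970 = n47483 := d4_2 (iv7 F72134) D97970 (iv2 D47483)
theorem F151001 : act 1 n97970 = n47398 := d15_0 F134640 (iv7 F72134) D97970
theorem F151002 : act 1 n97969 = n47483 := d15_1 D97969 (iv7 F151000) (iv2 D97970)
def n97971 : Q := act 5 n45728
theorem D97971 : act 5 n45728 = n97971 := rfl
theorem F151004 : act 3 n97971 = n45729 := d6_1 D97971 (iv5 D45729) D45728
theorem F151005 : act 7 n97971 = n47485 := d13_2 (iv7 F72134) D97971 (iv5 D47485)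
def n97972 : Q := act 6 n45728
theorem D97972 : act 6 n45728 = n97972 := rfl
theorem F151006 : act 3 n97972 = n45730 := d7_1 D97972 (iv6 D45730) D45728
theorem F151007 : act 4 n97972 = n48237 := d10_1 D97972 (iv6 D48237) (iv4 F72133)
theorem F151008 : act 5 n89478 = n97972 := d6_0 F151006 F72140 D89478
def n97973 : Q := act 1 n45729
theorem D97973 : act 1 n45729 = n97973 := rfl
theorem F151011 : act 5 n97973 = n88854 := d17_7 (iv1 F133530) F133533 (iv1 D48228) (iv5 D23385) F34322 D45729 D97973 F136237 F74590
def n97974 : Q := act 4 n45729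
theorem D97974 : act 4 n45729 = n97974 := rfl
theorem F151013 : act 2 n97974 = n47478 := d1_1 D97974 (iv4 D47478) (iv2 F72135)
theorem F151014 : act 7 n97974 = n47487 := d11_2 (iv7 F72136) D97974 (iv4 D47487)
def n97975 : Q := act 6 n45729
theorem D97975 : act 6 n45729 = n97975 := rfl
theorem F151015 : act 2 n97975 = n47479 := d3_1 D97975 (iv6 D47479) (iv2 F72135)
theorem F151016 : act 5 n97975 = n89480 := d12_1 D97975 (iv6 D89480) (iv5 F72140) (iv6 D45730) D45729
def n97976 : Q := act 0 n45731
theorem D97976 : act 0 n45731 = n97976 := rfl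
theorem F151017 : act 1 n47473 = n97976 := d15_0 (iv0 D97976) F72143 D47473
def n97977 : Q := act 1 n45731
theorem D97977 : act 1 n45731 = n97977 := rfl
def n97978 : Q := act 2 n45731
theorem D97978 : act 2 n45731 = n97978 := rfl
theorem F151018 : act 3 n97978 = n47483 := d0_2 D45731 D97978 (iv2 D47483) (iv3 D22807) (iv2 F66610)
theorem F151019 : act 4 n97978 = n48436 := d1_2 (iv4 F72142) D97978 (iv2 F76168)
theorem F151020 : act 7 n97978 = n47473 := d4_2 (iv7 F72143) D97978 (iv2 D47473)
theorem F151021 : act 1 n97978 = n47471 := d15_0 (iv0 D47471) (iv7 F72143) D97978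
theorem F151022 : act 1 n97977 = n47473 := d15_1 D97977 (iv7 F151020) (iv2 D97978)
theorem F151023 : act 1 n47472 = n97978 := d15_1 D47472 F151020 (iv2 D47473)
def n97979 : Q := act 5 n45731
theorem D97979 : act 5 n45731 = n97979 := rfl
theorem F151025 : act 7 n97979 = n47474 := d13_2 (iv7 F72143) D97979 (iv5 D47474)
def n97981 : Q := act 4 n45732
theorem D97981 : act 4 n45732 = n97981 := rfl
theorem F151029 : act 2 n97981 = n47487 := d1_1 D97981 (iv4 D47487) (iv2 F72144)
theorem F151030 : act 7 n97981 = n47478 := d11_2 (iv7 F72145) D97981 (iv4 D47478)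
def n97982 : Q := act 6 n45732
theorem D97982 : act 6 n45732 = n97982 := rfl
theorem F151031 : act 2 n97982 = n47488 := d3_1 D97982 (iv6 D47488) (iv2 F72144)
def n97983 : Q := act 3 n45734
theorem D97983 : act 3 n45734 = n97983 := rfl
theorem F151033 : act 7 n97983 = n47492 := d8_2 (iv7 F72159) D97983 (iv3 D47492)
def n97984 : Q := act 4 n45734
theorem D97984 : act 4 n45734 = n97984 := rfl
theorem F151034 : act 2 n97984 = n47490 := d1_1 D97984 (iv4 D47490) (iv2 F72160)
theorem F151035 : act 7 n97984 = n47493 := d11_2 (iv7 F72159) D97984 (iv4 D47493)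
def n97985 : Q := act 6 n45734
theorem D97985 : act 6 n45734 = n97985 := rfl
theorem F151036 : act 2 n97985 = n47491 := d3_1 D97985 (iv6 D47491) (iv2 F72160)
def n97986 : Q := act 0 n45735
theorem D97986 : act 0 n45735 = n97986 := rfl
theorem F151037 : act 4 n97986 = n46676 := d18_3 F64381 D45735 D97986 F136337 F136333 F63979 (iv4 F64233) F64385 D41743
theorem F151038 : act 2 n47495 = n97986 := d15_3 (iv0 D97986) (iv0 F137255) F137262
theorem F151039 : act 7 n97986 = n47496 := d4_2 F137262 F151038 (iv2 F137254)
theorem F151040 : act 1 n47470 = n97986 := d15_1 F137256 F151039 (iv2 F137254)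
def n97987 : Q := act 3 n45735
theorem D97987 : act 3 n45735 = n97987 := rfl
def n97988 : Q := act 5 n45735
theorem D97988 : act 5 n45735 = n97988 := rfl
theorem F151041 : act 2 n97988 = n47498 := d2_1 D97988 (iv5 D47498) (iv2 F72154)
theorem F151042 : act 4 n97988 = n47608 := d16_2 D45735 D97988 (iv5 D47608) (iv4 D22895) (iv5 D10817) (iv4 F17293) D22800 F35348 (iv2 F34316)
theorem F151043 : act 7 n47665 = n97988 := d11_0 F151042 F74864 D47665
def n97989 : Q := act 7 n45735
theorem D97989 : act 7 n45735 = n97989 := rfl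
theorem F151044 : act 2 n97989 = n47470 := d4_1 D97989 F74648 (iv2 F72154)
theorem F151045 : act 4 n97989 = n45736 := d11_1 D97989 (iv7 D45736) D45735
theorem F151046 : act 5 n97989 = n47665 := d13_1 D97989 F151043 (iv5 D97988)
theorem F151047 : act 1 n47496 = n97989 := d15_1 D47496 (iv7 D97989) F72154
theorem F151048 : act 1 n97989 = n47495 := d15_1 F151047 (iv7 F137262) F137254
def n97990 : Q := act 6 n45736
theorem D97990 : act 6 n45736 = n97990 := rfl
theorem F151049 : act 2 n97990 = n47469 := d3_1 D97990 F74647 (iv2 F72155)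
theorem F151050 : act 5 n97990 = n46616 := d12_1 D97990 (iv6 D46616) F34843 (iv6 F34319) (iv5 F72156)
def n97991 : Q := act 0 n45738
theorem D97991 : act 0 n45738 = n97991 := rfl
theorem F151051 : act 3 n97991 = n88290 := d20_5 F16600 D10429 D21864 D45738 D97991 F135202 (iv1 F76175) (iv4 F72142) (iv3 D45731) (iv1 D21859)
theorem F151052 : act 4 n97991 = n88478 := d20_0 (iv1 F135462) D92781 (iv3 F143102) (iv1 D45725) F34313 F16600 D10429 D21864 D45738 D97991
theorem F151053 : act 2 n46853 = n97991 := d15_3 (iv0 D97991) (iv0 F72173) D46853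
theorem F151054 : act 1 n46851 = n97991 := d15_0 (iv0 D97991) F72172 (iv2 F143009)
theorem F151055 : act 7 n97991 = n46425 := d15_2 D46851 F151054 F73267
theorem F151056 : act 6 n46621 = n97991 := d14_5 F151055 (iv6 D46425) F34691 D22505 (iv7 F73641)
theorem E14786 : n90560 = n48017 := (c20_1 D90560 (iv1 D48017) F36276 F31793 D19959 D42289 (iv4 F72171) D97991 F151052 (iv3 F135559) (iv1 F135567))
theorem F151057 : act 3 n48017 = n48381 := (sb E14786 F139384)
theorem F151058 : act 4 n48017 = n42391 := (sb E14786 (iv4 D90560))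
theorem E14787 : n90559 = n90521 := ((c20_5 (iv4 F66839) (iv1 F33051) F32903 (iv3 F65449) (iv1 F139319) (iv3 D90559) (iv4 F151058) (iv1 D48017) F36276 F31793 D19959)).symm
theorem F151059 : act 3 n90521 = n42391 := (sb E14787 (iv3 D90559))
def n97992 : Q := act 2 n45738
theorem D97992 : act 2 n45738 = n97992 := rfl
theorem F151060 : act 3 n97992 = n47614 := d0_2 D45738 D97992 (iv2 D47614) (iv3 D22910) (iv2 F66826)
theorem F151061 : act 4 n97992 = n90432 := d1_2 (iv4 F72171) D97992 (iv2 D90432)
theorem F151062 : act 7 n97992 = n46851 := d4_2 (iv7 F72172) D97992 F143009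
theorem F151063 : act 1 n97992 = n46425 := d15_0 F74047 (iv7 F72172) D97992
theorem F151064 : act 1 n46853 = n97992 := d15_0 F151063 (iv7 F151055) (iv2 F151053)
theorem F151065 : act 0 n47614 = n47520 := d20_10 (iv4 D47520) (iv1 F73665) F73663 (iv3 F134608) (iv1 F134612) D88191 (iv4 F143001) (iv1 F143002) (iv4 F151061) F151060
def n97993 : Q := act 5 n45738
theorem D97993 : act 5 n45738 = n97993 := rfl
theorem F151066 : act 3 n97993 = n45739 := d6_1 D97993 (iv5 D45739) D45738
theorem F151067 : act 7 n97993 = n47635 := d13_2 (iv7 F72172) D97993 (iv5 D47635)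
def n97994 : Q := act 6 n45738
theorem D97994 : act 6 n45738 = n97994 := rfl
theorem F151068 : act 3 n97994 = n45740 := d7_1 D97994 (iv6 D45740) D45738
theorem F151069 : act 4 n97994 = n90434 := d10_1 D97994 (iv6 D90434) (iv4 F72171)
theorem F151070 : act 0 n88325 = n97994 := d20_7 F31898 F66514 (iv4 F63637) (iv3 D41311) D41310 D88503 F135491 F151069 F139192 F69099
def n97995 : Q := act 1 n45739
theorem D97995 : act 1 n45739 = n97995 := rfl
theorem F151071 : act 1 n97995 = n45745 := d15_1 D97995 F72193 (iv2 F72174)
theorem F151072 : act 7 n97995 = n47617 := d15_2 (iv0 F72660) D97995 (iv2 F74877)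
theorem F151073 : act 5 n97995 = n88880 := d17_7 (iv1 F63971) F72180 (iv1 D45741) (iv5 D21865) D21864 D45739 D97995 F136323 F64465
theorem F151074 : act 2 n47618 = n97995 := d2_3 F151073 F136327 F74880
def n97996 : Q := act 4 n45739
theorem D97996 : act 4 n45739 = n97996 := rfl
theorem F151076 : act 7 n97996 = n47637 := d11_2 (iv7 F72175) D97996 (iv4 D47637)
theorem F151077 : act 0 n97996 = n96168 := d18_2 (iv1 D97995) D97996 (iv4 D96168) (iv5 D44883) F33632 (iv0 F65755) (iv4 F63963) D88880 (iv5 F151073)
theorem F151078 : act 0 n88315 = n97993 := d20_4 D87705 (iv1 F135228) (iv4 D88316) D88315 F151066 D97996 F151077 (iv4 D96168) F70514 (iv1 F69720)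
def n97997 : Q := act 6 n45739
theorem D97997 : act 6 n45739 = n97997 := rfl
theorem F151079 : act 2 n97997 = n47620 := d3_1 D97997 (iv6 D47620) (iv2 F72174)
def n97998 : Q := act 4 n45741
theorem D97998 : act 4 n45741 = n97998 := rfl
def n97999 : Q := act 0 n45742
theorem D97999 : act 0 n45742 = n97999 := rfl
theorem F151085 : act 4 n97999 = n87301 := d18_3 (iv1 D45741) D45742 D97999 (iv5 D87301) F66279 (iv0 F72662) F63963 D41494 F72180
theorem F151087 : act 2 n47623 = n97999 := d1_3 F151085 F134032 (iv4 F74886)
def n98000 : Q := act 1 n45742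
theorem D98000 : act 1 n45742 = n98000 := rfl
theorem F151090 : act 7 n98000 = n47623 := d15_2 (iv0 D97999) D98000 F151087
theorem F151091 : act 4 n98000 = n48297 := d18_7 (iv1 D20495) (iv4 F17195) (iv1 F66836) (iv4 D21864) D21865 D45742 D98000 F134011 (iv5 D43373)
theorem F151093 : act 6 n47696 = n98000 := d10_0 F151091 F75911 F137454
def n98003 : Q := act 6 n45742
theorem D98003 : act 6 n45742 = n98003 := rfl
theorem F151098 : act 2 n98003 = n47627 := d3_1 D98003 (iv6 D47627) (iv2 F72184)
theorem F151099 : act 4 n98003 = n45743 := d10_1 D98003 (iv6 D45743) D45742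
theorem F151100 : act 7 n98003 = n92260 := d14_2 (iv7 F72185) D98003 (iv6 D92260) F74925 (iv6 D47642)
def n98004 : Q := act 2 n45744
theorem D98004 : act 2 n45744 = n98004 := rfl
theorem F151101 : act 3 n98004 = n46851 := d0_2 D45744 D98004 F143009 (iv3 D22927) (iv2 F66816)
theorem F151102 : act 4 n98004 = n47196 := d1_2 (iv4 F72190) D98004 (iv2 D47196)
theorem F151103 : act 7 n98004 = n47614 := d4_2 (iv7 F72191) D98004 (iv2 D47614)
theorem F151104 : act 1 n98004 = n47612 := d15_0 (iv0 D47612) (iv7 F72191) D98004
theorem F151105 : act 1 n47613 = n98004 := d15_1 D47613 F151103 (iv2 D47614)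
def n98006 : Q := act 6 n45744
theorem D98006 : act 6 n45744 = n98006 := rfl
theorem F151108 : act 3 n98006 = n45746 := d7_1 D98006 (iv6 D45746) D45744
def n98007 : Q := act 4 n45745
theorem D98007 : act 4 n45745 = n98007 := rfl
theorem F151110 : act 2 n98007 = n47637 := d1_1 D98007 (iv4 D47637) (iv2 F72192)
theorem F151112 : act 1 n98007 = n96168 := d18_6 (iv1 F34320) F17293 (iv1 F16601) D21869 D45745 D98007 (iv4 D96168) (iv0 F72137) (iv5 D45729)
def n98008 : Q := act 6 n45745
theorem D98008 : act 6 n45745 = n98008 := rfl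
theorem F151113 : act 2 n98008 = n47638 := d3_1 D98008 (iv6 D47638) (iv2 F72192)
def n98010 : Q := act 5 n45747
theorem D98010 : act 5 n45747 = n98010 := rfl
theorem F151116 : act 2 n98010 = n47641 := d2_1 D98010 (iv5 D47641) (iv2 F72196)
theorem F151117 : act 7 n98010 = n47626 := d13_2 (iv7 F72198) D98010 (iv5 D47626)
def n98011 : Q := act 3 n45748
theorem D98011 : act 3 n45748 = n98011 := rfl
theorem F151119 : act 4 n98011 = n90468 := d5_2 D45748 D98011 (iv3 D90468) (iv4 F68454) F68455
def n98012 : Q := act 5 n45748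
theorem D98012 : act 5 n45748 = n98012 := rfl
theorem F151121 : act 2 n98012 = n47648 := d2_1 D98012 (iv5 D47648) (iv2 F72199)
def n98013 : Q := act 3 n45749
theorem D98013 : act 3 n45749 = n98013 := rfl
theorem F151123 : act 4 n98013 = n48270 := d5_2 F72211 D98013 (iv3 D48270) (iv4 D23421) D23420
theorem F151124 : act 7 n98013 = n47657 := d8_2 (iv7 F72212) D98013 (iv3 D47657)
def n98018 : Q := act 0 n45751
theorem D98018 : act 0 n45751 = n98018 := rfl
def n98019 : Q := act 1 n45751
theorem D98019 : act 1 n45751 = n98019 := rfl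
def n98020 : Q := act 2 n45751
theorem D98020 : act 2 n45751 = n98020 := rfl
theorem F151136 : act 6 n98020 = n45756 := d3_2 (iv6 F72205) D98020 (iv2 D45756)
def n98021 : Q := act 5 n45751
theorem D98021 : act 5 n45751 = n98021 := rfl
def n98023 : Q := act 0 n45752
theorem D98023 : act 0 n45752 = n98023 := rfl
theorem F151140 : act 5 n98023 = n48229 := d17_3 (iv1 D45750) D45752 D98023 (iv4 D48229) (iv5 D23385) F66561 D37843 D82478 F127090
theorem F151141 : act 2 n47663 = n98023 := d2_3 F151140 (iv2 F142947) F142949
def n98024 : Q := act 1 n45752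
theorem D98024 : act 1 n45752 = n98024 := rfl
theorem F151145 : act 7 n98024 = n47663 := d15_2 (iv0 D98023) D98024 F151141
theorem F151146 : act 5 n98024 = n92246 := d17_7 F65686 (iv5 D21870) (iv1 D10430) D10431 D21873 D45752 D98024 (iv0 F141874) (iv4 D44885)
theorem F151147 : act 2 n47664 = n98024 := d2_3 F151146 (iv2 F142954) (iv5 F142959)
def n98025 : Q := act 4 n45752
theorem D98025 : act 4 n45752 = n98025 := rfl
theorem F151148 : act 2 n98025 = n47665 := d1_1 D98025 (iv4 D47665) (iv2 F72206)
theorem F151149 : act 5 n98025 = n47470 := d9_2 D45752 D98025 (iv4 D47470) (iv5 D22800) F17293 D10817 D22895 D47608 (iv4 F151042) (iv5 D97988) (iv4 D45735) (iv5 D21860) F16600 D10431 D21873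
theorem F151150 : act 7 n47498 = n98025 := d13_0 F151149 F74648 D47498
def n98026 : Q := act 6 n45752
theorem D98026 : act 6 n45752 = n98026 := rfl
theorem F151151 : act 2 n98026 = n47666 := d3_1 D98026 (iv6 D47666) (iv2 F72206)
theorem F151152 : act 5 n98026 = n45758 := d12_1 D98026 (iv6 D45758) (iv5 D21876) (iv6 F34330) D45752
def n98027 : Q := act 7 n45752
theorem D98027 : act 7 n45752 = n98027 := rfl
theorem F151154 : act 4 n98027 = n47498 := d11_1 D98027 F151150 (iv4 D98025)
theorem F151155 : act 5 n98027 = n45753 := d13_1 D98027 (iv7 D45753) D45752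
theorem F151156 : act 1 n47664 = n98027 := d15_1 D47664 (iv7 D98027) F72206
theorem F151157 : act 1 n98027 = n47663 := d15_1 F151156 (iv7 F151145) (iv2 F151147)
def n98028 : Q := act 2 n45754
theorem D98028 : act 2 n45754 = n98028 := rfl
theorem F151158 : act 7 n45755 = n98028 := d15_2 (iv0 D45754) D45755 (iv2 D98028)
def n98029 : Q := act 3 n45754
theorem D98029 : act 3 n45754 = n98029 := rfl
theorem F151159 : act 4 n98029 = n87096 := d20_6 F31237 (iv1 F14324) D10433 D21875 D45754 D98029 (iv1 D87096) D87098 F133700 (iv1 F63765)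
def n98030 : Q := act 4 n45754
theorem D98030 : act 4 n45754 = n98030 := rfl
theorem F151160 : act 0 n88701 = n98030 := d20_10 (iv4 D98030) (iv1 F135814) F135812 F135811 (iv1 F64577) D47745 (iv4 F138411) F138413 (iv4 D88702) D88701
def n98031 : Q := act 5 n45754
theorem D98031 : act 5 n45754 = n98031 := rfl
def n98032 : Q := act 6 n45754
theorem D98032 : act 6 n45754 = n98032 := rfl
def n98033 : Q := act 7 n45754
theorem D98033 : act 7 n45754 = n98033 := rfl
theorem F151161 : act 2 n98033 = n45755 := d4_1 D98033 F151158 (iv2 D98028)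
def n98034 : Q := act 3 n45755
theorem D98034 : act 3 n45755 = n98034 := rfl
def n98035 : Q := act 4 n45755
theorem D98035 : act 4 n45755 = n98035 := rfl
theorem F151162 : act 3 n98035 = n88678 := d20_9 F140081 (iv1 F67965) (iv4 F75013) (iv3 D47740) (iv1 F64575) (iv3 F135811) F135812 (iv1 F135816) D98035 (iv1 F140083)
def n98036 : Q := act 5 n45755
theorem D98036 : act 5 n45755 = n98036 := rfl
def n98037 : Q := act 6 n45755
theorem D98037 : act 6 n45755 = n98037 := rfl
def n98038 : Q := act 5 n45756
theorem D98038 : act 5 n45756 = n98038 := rfl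
theorem F151163 : act 2 n98038 = n45757 := d2_1 D98038 (iv5 D45757) D45756
theorem F151164 : act 3 n98038 = n47748 := d6_1 D98038 (iv5 D47748) (iv3 F72219)
def n98039 : Q := act 0 n45757
theorem D98039 : act 0 n45757 = n98039 := rfl
def n98040 : Q := act 1 n45757
theorem D98040 : act 1 n45757 = n98040 := rfl
def n98041 : Q := act 4 n45757
theorem D98041 : act 4 n45757 = n98041 := rfl
def n98042 : Q := act 6 n45757
theorem D98042 : act 6 n45757 = n98042 := rfl
theorem F151165 : act 3 n98042 = n45758 := d7_1 D98042 (iv6 D45758) (iv3 F72221)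
def n98043 : Q := act 0 n45758
theorem D98043 : act 0 n45758 = n98043 := rfl
def n98044 : Q := act 1 n45758
theorem D98044 : act 1 n45758 = n98044 := rfl
theorem F151166 : act 1 n98044 = n47761 := d15_1 D98044 (iv7 D47761) (iv2 F72222)
def n98045 : Q := act 7 n45758
theorem D98045 : act 7 n45758 = n98045 := rfl
theorem F151167 : act 2 n98045 = n47761 := d4_1 D98045 (iv7 D47761) (iv2 F72222)
theorem F151168 : act 1 n47761 = n98043 := d15_0 (iv0 D98043) D98045 F151167
theorem F151169 : act 1 n47760 = n98045 := d15_1 D47760 (iv7 D98045) F72222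
theorem F151170 : act 1 n98045 = n47759 := d15_0 (iv0 D47759) D47761 (iv2 F151167)
def n98046 : Q := act 1 n45763
theorem D98046 : act 1 n45763 = n98046 := rfl
theorem F151171 : act 1 n98046 = n45957 := d15_1 D98046 (iv7 D45957) (iv2 F118965)
theorem F151173 : act 6 n45881 = n98046 := d21_3 F32910 D21942 D45881 (iv1 D98046) (iv6 D45763) D45762 (iv1 F128907) F128903 F72537 (iv1 F59779)
theorem F151174 : act 5 n88741 = n98046 := d21_6 (iv5 D45898) (iv1 F63803) (iv5 F135887) F135888 (iv1 F121708) (iv6 F136094) (iv1 D98046) (iv5 F118981) D79552 F135961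
theorem F151175 : act 2 n98046 = n45956 := d2_1 F151174 (iv5 F122123) F136092
theorem F151176 : act 3 n98046 = n77308 := d6_1 F151174 (iv5 F118535) F136093
def n98047 : Q := act 7 n45767
theorem D98047 : act 7 n45767 = n98047 := rfl
theorem F151178 : act 4 n98047 = n75725 := d11_1 D98047 F118737 F118985
theorem F151179 : act 6 n98047 = n45957 := d14_1 D98047 (iv7 D45957) (iv6 D21963) F118960 D45767
theorem F151180 : act 1 n45882 = n98047 := d15_1 (iv0 F123898) (iv7 D98047) F118977
theorem F151181 : act 1 n98047 = n45969 := d15_1 F151180 (iv7 F121904) F114005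
def n98048 : Q := act 3 n45773
theorem D98048 : act 3 n45773 = n98048 := rfl
theorem F151182 : act 2 n98048 = n71511 := d0_1 D98048 (iv3 D71511) F77210 (iv3 F77211) F72250
theorem F151183 : act 4 n98048 = n48204 := d5_2 (iv4 F72242) D98048 (iv3 D48204) (iv4 D23344) (iv3 F36462)
theorem F151184 : act 5 n98048 = n80734 := d6_2 F72245 D98048 (iv3 D80734)
theorem F151185 : act 7 n98048 = n86398 := d8_2 F72244 D98048 (iv3 D86398)
def n98049 : Q := act 6 n45773
theorem D98049 : act 6 n45773 = n98049 := rfl
theorem F151187 : act 4 n98049 = n48202 := d10_1 D98049 (iv6 D48202) (iv4 F72242)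
def n98050 : Q := act 6 n45774
theorem D98050 : act 6 n45774 = n98050 := rfl
theorem F151188 : act 2 n98050 = n86399 := d3_1 D98050 (iv6 D86399) (iv2 F72247)
theorem F151189 : act 4 n98050 = n70653 := d10_1 D98050 (iv6 D70653) F72246
def n98051 : Q := act 6 n45775
theorem D98051 : act 6 n45775 = n98051 := rfl
theorem F151190 : act 2 n98051 = n45777 := d3_1 D98051 (iv6 D45777) D45775
theorem F151191 : act 3 n98051 = n55694 := d7_1 D98051 (iv6 D55694) (iv3 F72252)
def n98052 : Q := act 6 n45776
theorem D98052 : act 6 n45776 = n98052 := rfl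
theorem F151193 : act 3 n98052 = n45778 := d7_1 D98052 (iv6 D45778) (iv3 F72258)
def n98053 : Q := act 0 n45777
theorem D98053 : act 0 n45777 = n98053 := rfl
def n98054 : Q := act 1 n45777
theorem D98054 : act 1 n45777 = n98054 := rfl
def n98055 : Q := act 5 n45777
theorem D98055 : act 5 n45777 = n98055 := rfl
theorem F151194 : act 3 n98055 = n45781 := d6_1 D98055 (iv5 D45781) (iv3 F72263)
def n98056 : Q := act 0 n45778
theorem D98056 : act 0 n45778 = n98056 := rfl
def n98057 : Q := act 1 n45778
theorem D98057 : act 1 n45778 = n98057 := rfl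
theorem F151195 : act 1 n98057 = n79392 := d15_1 D98057 (iv7 D79392) (iv2 F72264)
def n98059 : Q := act 7 n45778
theorem D98059 : act 7 n45778 = n98059 := rfl
theorem F151198 : act 2 n98059 = n79392 := d4_1 D98059 (iv7 D79392) (iv2 F72264)
theorem F151199 : act 4 n98059 = n47157 := d11_1 D98059 (iv7 D47157) (iv4 F72265)
theorem F151201 : act 1 n79392 = n98056 := d15_0 (iv0 D98056) D98059 F151198
theorem F151202 : act 1 n79390 = n98059 := d15_1 D79390 (iv7 D98059) F72264
theorem F151203 : act 1 n98059 = n79389 := d15_0 (iv0 D79389) D79392 (iv2 F151198)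
def n98060 : Q := act 0 n45781
theorem D98060 : act 0 n45781 = n98060 := rfl
theorem F151205 : act 1 n86387 = n98060 := d15_0 (iv0 D98060) (iv7 F123843) (iv2 F132416)
def n98061 : Q := act 1 n45781
theorem D98061 : act 1 n45781 = n98061 := rfl
theorem F151206 : act 1 n98061 = n86387 := d15_1 D98061 (iv7 D86387) (iv2 F72267)
theorem F151207 : act 5 n98061 = n81781 := d17_7 F118842 (iv5 D36762) (iv1 F118870) F16633 (iv4 F34367) D45781 D98061 F132947 F132945
def n98062 : Q := act 4 n45781
theorem D98062 : act 4 n45781 = n98062 := rfl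
theorem F151208 : act 2 n98062 = n86386 := d1_1 D98062 (iv4 D86386) (iv2 F72267)
def n98064 : Q := act 5 n45795
theorem D98064 : act 5 n45795 = n98064 := rfl
theorem F151213 : act 0 n98064 = n89719 := d17_2 (iv1 F72292) D98064 (iv5 D89719) (iv4 D41904) (iv5 D19725) (iv0 D9255) D9257 D19733 D41920
def n98066 : Q := act 6 n45797
theorem D98066 : act 6 n45797 = n98066 := rfl
theorem F151219 : act 3 n98066 = n45798 := d7_1 D98066 (iv6 D45798) D45797
theorem F151220 : act 4 n98066 = n87460 := d10_1 D98066 (iv6 D87460) (iv4 F72299)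
def n98069 : Q := act 5 n45798
theorem D98069 : act 5 n45798 = n98069 := rfl
theorem F151221 : act 6 n98069 = n81973 := d12_2 D45798 D98069 (iv5 D81973) (iv6 D37540) (iv5 F34384)
def n98070 : Q := act 7 n45798
theorem D98070 : act 7 n45798 = n98070 := rfl
def n98071 : Q := act 0 n45799
theorem D98071 : act 0 n45799 = n98071 := rfl
def n98072 : Q := act 1 n45799
theorem D98072 : act 1 n45799 = n98072 := rfl
def n98073 : Q := act 5 n45799
theorem D98073 : act 5 n45799 = n98073 := rfl
theorem F151222 : act 6 n98073 = n81974 := d12_2 D45799 D98073 (iv5 D81974) (iv6 D37541) (iv5 F34386)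
def n98074 : Q := act 7 n45799
theorem D98074 : act 7 n45799 = n98074 := rfl
def n98075 : Q := act 5 n45800
theorem D98075 : act 5 n45800 = n98075 := rfl
theorem F151223 : act 2 n98075 = n45803 := d2_1 D98075 (iv5 D45803) (iv2 F72302)
theorem F151224 : act 6 n98075 = n56655 := d12_2 D45800 D98075 (iv5 D56655) (iv6 D27236) (iv5 F34389)
def n98076 : Q := act 2 n45801
theorem D98076 : act 2 n45801 = n98076 := rfl
theorem F151225 : act 7 n45802 = n98076 := d15_2 (iv0 D45801) D45802 (iv2 D98076)
def n98077 : Q := act 3 n45801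
theorem D98077 : act 3 n45801 = n98077 := rfl
theorem F151226 : act 4 n98077 = n96052 := d20_6 (iv4 F66230) (iv1 D10449) (iv4 F16643) (iv3 F34391) D45801 D98077 (iv1 D96052) F70407 (iv3 D43988) (iv1 F66223)
def n98078 : Q := act 5 n45801
theorem D98078 : act 5 n45801 = n98078 := rfl
def n98079 : Q := act 6 n45801
theorem D98079 : act 6 n45801 = n98079 := rfl
def n98080 : Q := act 7 n45801
theorem D98080 : act 7 n45801 = n98080 := rfl
theorem F151227 : act 2 n98080 = n45802 := d4_1 D98080 F151225 (iv2 D98076)
def n98081 : Q := act 5 n45802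
theorem D98081 : act 5 n45802 = n98081 := rfl
def n98082 : Q := act 6 n45802
theorem D98082 : act 6 n45802 = n98082 := rfl
def n98083 : Q := act 0 n45803
theorem D98083 : act 0 n45803 = n98083 := rfl
def n98084 : Q := act 1 n45803
theorem D98084 : act 1 n45803 = n98084 := rfl
def n98085 : Q := act 4 n45803
theorem D98085 : act 4 n45803 = n98085 := rfl
theorem F151228 : act 6 n98085 = n81845 := d10_2 (iv6 F72305) D98085 (iv4 D81845)
def n98086 : Q := act 0 n45804
theorem D98086 : act 0 n45804 = n98086 := rfl
theorem F151229 : act 1 n86408 = n98086 := d15_0 (iv0 D98086) (iv7 F133183) (iv2 F133184)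
def n98087 : Q := act 1 n45804
theorem D98087 : act 1 n45804 = n98087 := rfl
def n98089 : Q := act 2 n45805
theorem D98089 : act 2 n45805 = n98089 := rfl
theorem F151234 : act 7 n45806 = n98089 := d15_2 (iv0 D45805) D45806 (iv2 D98089)
def n98090 : Q := act 4 n45805
theorem D98090 : act 4 n45805 = n98090 := rfl
def n98091 : Q := act 5 n45805
theorem D98091 : act 5 n45805 = n98091 := rfl
def n98092 : Q := act 6 n45805
theorem D98092 : act 6 n45805 = n98092 := rfl
theorem F151235 : act 5 n98092 = n88014 := d21_6 F30976 (iv1 F14421) D10446 D21902 D45805 D98092 (iv1 D88014) (iv5 D41085) (iv6 D19336) D19335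
def n98093 : Q := act 7 n45805
theorem D98093 : act 7 n45805 = n98093 := rfl
theorem F151236 : act 2 n98093 = n45806 := d4_1 D98093 F151234 (iv2 D98089)
def n98094 : Q := act 3 n45806
theorem D98094 : act 3 n45806 = n98094 := rfl
def n98095 : Q := act 4 n45806
theorem D98095 : act 4 n45806 = n98095 := rfl
def n98096 : Q := act 5 n45806
theorem D98096 : act 5 n45806 = n98096 := rfl
def n98097 : Q := act 6 n45806
theorem D98097 : act 6 n45806 = n98097 := rfl
def n98098 : Q := act 0 n45807
theorem D98098 : act 0 n45807 = n98098 := rfl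
def n98099 : Q := act 1 n45807
theorem D98099 : act 1 n45807 = n98099 := rfl
theorem F151237 : act 1 n98099 = n88089 := d15_1 D98099 (iv7 D88089) (iv2 F72310)
def n98100 : Q := act 4 n45807
theorem D98100 : act 4 n45807 = n98100 := rfl
theorem F151238 : act 2 n98100 = n88088 := d1_1 D98100 (iv4 D88088) (iv2 F72310)
theorem F151239 : act 6 n98100 = n45810 := d10_2 (iv6 F72312) D98100 (iv4 D45810)
def n98101 : Q := act 7 n45807
theorem D98101 : act 7 n45807 = n98101 := rfl
theorem F151240 : act 2 n98101 = n88089 := d4_1 D98101 (iv7 D88089) (iv2 F72310)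
theorem F151241 : act 3 n98101 = n58483 := d8_1 D98101 (iv7 F117249) (iv3 F72311)
theorem F151242 : act 5 n98101 = n45808 := d13_1 D98101 (iv7 D45808) D45807
theorem F151243 : act 1 n88089 = n98098 := d15_0 (iv0 D98098) D98101 F151240
theorem F151244 : act 1 n88087 = n98101 := d15_1 D88087 (iv7 D98101) F72310
theorem F151245 : act 1 n98101 = n88086 := d15_0 (iv0 D88086) D88089 (iv2 F151240)
def n98102 : Q := act 3 n45809
theorem D98102 : act 3 n45809 = n98102 := rfl
theorem F151246 : act 5 n98102 = n87823 := d6_2 F72320 D98102 F134790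
def n98103 : Q := act 6 n45809
theorem D98103 : act 6 n45809 = n98103 := rfl
theorem F151248 : act 5 n98103 = n87825 := d12_1 D98103 (iv6 D87825) (iv5 D40936) D40937 F72320
def n98104 : Q := act 3 n45810
theorem D98104 : act 3 n45810 = n98104 := rfl
def n98105 : Q := act 3 n45812
theorem D98105 : act 3 n45812 = n98105 := rfl
theorem F151250 : act 5 n98105 = n87419 := d6_2 (iv5 F72342) D98105 (iv3 D87419)
theorem F151251 : act 7 n98105 = n87801 := d8_2 (iv7 F72341) D98105 F134773
def n98106 : Q := act 4 n45817
theorem D98106 : act 4 n45817 = n98106 := rfl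
theorem F151252 : act 2 n98106 = n48246 := d1_1 D98106 F75846 (iv2 F72360)
theorem F151253 : act 6 n98106 = n91285 := d10_2 F73681 D98106 (iv4 F140348)
theorem F151256 : act 1 n98106 = n48219 := d18_6 (iv1 F69202) D44005 F134173 F66305 D45817 D98106 (iv4 D48219) D48218 (iv5 F75788)
def n98107 : Q := act 6 n45818
theorem D98107 : act 6 n45818 = n98107 := rfl
theorem F151257 : act 2 n98107 = n45820 := d3_1 D98107 (iv6 D45820) D45818
theorem F151258 : act 3 n98107 = n83150 := d7_1 D98107 (iv6 D83150) (iv3 F72362)
theorem F151259 : act 4 n98107 = n84379 := d10_1 D98107 (iv6 D84379) (iv4 F72363)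
def n98108 : Q := act 4 n45819
theorem D98108 : act 4 n45819 = n98108 := rfl
theorem F151261 : act 3 n98108 = n46058 := d5_1 D98108 (iv4 D46058) (iv3 D22002) (iv4 F34407) (iv3 F72367)
theorem F151263 : act 0 n98108 = n57449 := d18_2 F72369 D98108 (iv4 F128410) F128411 (iv4 D81651) (iv0 D37319) (iv4 F34447) D45875 F72445
def n98109 : Q := act 6 n45819
theorem D98109 : act 6 n45819 = n98109 := rfl
theorem F151266 : act 2 n98109 = n77633 := d3_1 D98109 (iv6 D77633) (iv2 F86808)
theorem F151267 : act 3 n98109 = n45821 := d7_1 D98109 (iv6 D45821) (iv3 F72367)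
def n98110 : Q := act 0 n45820
theorem D98110 : act 0 n45820 = n98110 := rfl
theorem F151268 : act 3 n98110 = n54902 := d20_5 F121891 (iv1 D21921) (iv4 F34411) (iv3 F72371) D98110 (iv4 D54902) (iv1 F42526) (iv4 F42590) F42589 (iv1 F58636)
def n98111 : Q := act 1 n45820
theorem D98111 : act 1 n45820 = n98111 := rfl
def n98112 : Q := act 5 n45820
theorem D98112 : act 5 n45820 = n98112 := rfl
theorem F151269 : act 3 n98112 = n45824 := d6_1 D98112 (iv5 D45824) (iv3 F72371)
def n98113 : Q := act 7 n45820
theorem D98113 : act 7 n45820 = n98113 := rfl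
theorem F151270 : act 3 n98113 = n45825 := d8_1 D98113 (iv7 D45825) (iv3 F72371)
theorem F151271 : act 4 n98113 = n84383 := d11_1 D98113 (iv7 D84383) (iv4 F72372)
theorem F151273 : act 0 n98113 = n55027 := d20_4 (iv4 F121884) (iv1 F56862) (iv4 F72378) (iv3 F151270) (iv3 D55027) (iv4 D26600) (iv1 D12711) (iv4 F21103) F21102 D18404
theorem F151274 : act 1 n98107 = n55027 := d15_0 (iv0 F151273) (iv7 D98113) (iv2 F151257)
def n98114 : Q := act 0 n45821
theorem D98114 : act 0 n45821 = n98114 := rfl
def n98115 : Q := act 1 n45821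
theorem D98115 : act 1 n45821 = n98115 := rfl
theorem F151275 : act 1 n98115 = n82553 := d15_1 D98115 (iv7 D82553) (iv2 F72373)
def n98116 : Q := act 5 n45821
theorem D98116 : act 5 n45821 = n98116 := rfl
theorem F151276 : act 2 n98116 = n82552 := d2_1 D98116 (iv5 D82552) (iv2 F72373)
theorem F151277 : act 6 n98116 = n45824 := d12_2 D45821 D98116 (iv5 D45824) (iv6 D21919) D21918
def n98117 : Q := act 7 n45821
theorem D98117 : act 7 n45821 = n98117 := rfl
theorem F151278 : act 2 n98117 = n82553 := d4_1 D98117 (iv7 D82553) (iv2 F72373)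
theorem F151279 : act 4 n98117 = n46063 := d11_1 D98117 (iv7 D46063) (iv4 F72374)
theorem F151280 : act 6 n98117 = n82557 := d14_1 D98117 (iv7 D82557) (iv6 D37898) (iv7 F34406) D45821
theorem F151281 : act 1 n82553 = n98114 := d15_0 (iv0 D98114) D98117 F151278
theorem F151283 : act 1 n98117 = n82550 := d15_0 (iv0 D82550) D82553 (iv2 F151278)
def n98118 : Q := act 0 n45824
theorem D98118 : act 0 n45824 = n98118 := rfl
theorem F151284 : act 5 n98118 = n75727 := d17_3 F121803 D45824 D98118 F113583 F113011 (iv0 D18459) (iv5 D8678) D8677 D18456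
theorem F151285 : act 7 n75726 = n98118 := d13_0 F151284 (iv7 D75727) D75726
theorem F151287 : act 4 n84033 = n98118 := d18_3 (iv1 D38702) D38703 D84033 F151284 F113583 F117792 (iv4 F58343) (iv0 F119035) F112955
theorem F151288 : act 2 n98118 = n83155 := d15_3 (iv0 D83155) (iv0 F113582) F151285
def n98119 : Q := act 1 n45824
theorem D98119 : act 1 n45824 = n98119 := rfl
theorem F151289 : act 1 n98119 = n83157 := d15_1 D98119 (iv7 D83157) (iv2 F72376)
theorem F151290 : act 7 n98119 = n83155 := d15_2 (iv0 D98118) D98119 (iv2 F151288)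
theorem F151291 : act 5 n75356 = n98119 := d21_6 D18242 F29426 (iv5 D18153) D18154 (iv1 F72463) D75356 (iv1 D98119) (iv5 D45824) (iv6 D21919) F16652
theorem F151292 : act 2 n98119 = n75726 := d2_1 F151291 (iv5 D75726) F113064
theorem F151293 : act 4 n84034 = n98119 := d18_7 F121804 (iv4 D18456) (iv1 D8677) (iv4 F13577) D18406 D38703 D84034 F151289 F128216
def n98120 : Q := act 4 n45824
theorem D98120 : act 4 n45824 = n98120 := rfl
theorem F151294 : act 2 n98120 = n83156 := d1_1 D98120 (iv4 D83156) (iv2 F72376)
def n98121 : Q := act 7 n45824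
theorem D98121 : act 7 n45824 = n98121 := rfl
theorem F151296 : act 5 n98121 = n45825 := d13_1 D98121 (iv7 D45825) D45824
theorem F151297 : act 1 n75726 = n98121 := d15_1 (iv0 F113582) (iv7 D98121) F72376
theorem F151298 : act 1 n98121 = n83155 := d15_1 F151297 (iv7 F151290) F151292
def n98122 : Q := act 1 n45829
theorem D98122 : act 1 n45829 = n98122 := rfl
theorem F151299 : act 1 n98122 = n45834 := d15_1 D98122 F124496 F124494
theorem F151300 : act 7 n98122 = n88651 := d15_2 (iv0 F72545) D98122 F135937
theorem F151301 : act 5 n98047 = n98122 := d21_6 D88654 (iv1 F135951) (iv5 D88634) D88635 F135952 (iv6 F151179) (iv1 D98122) (iv5 D45829) D45830 (iv1 F128313)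
theorem F151302 : act 6 n98122 = n47687 := d21_3 (iv5 F121903) (iv1 F151181) F151301 (iv1 D47687) (iv6 D22954) (iv5 D10837) (iv1 F14286) D17509 (iv6 F56858) D79321
theorem F151303 : act 3 n95249 = n98122 := d7_3 F151302 F148267 (iv6 F148268)
theorem F151304 : act 4 n84195 = n98122 := d20_8 D95250 (iv1 F146824) F129613 (iv3 F129263) (iv1 D84205) F59853 D38837 (iv1 F129247) (iv3 F151303) (iv1 D95249)
def n98123 : Q := act 4 n45829
theorem D98123 : act 4 n45829 = n98123 := rfl
theorem F151305 : act 0 n98123 = n81825 := d18_2 (iv1 D98122) D98123 (iv4 D81825) (iv5 D37449) (iv4 F58343) (iv0 F119035) F112954 F151180 F151301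
def n98124 : Q := act 6 n45829
theorem D98124 : act 6 n45829 = n98124 := rfl
theorem F151306 : act 3 n98124 = n86710 := d7_1 D98124 (iv6 D86710) (iv3 F121791)
theorem F151307 : act 0 n98124 = n88748 := d21_4 (iv5 D21922) D21920 D45829 D98124 (iv6 D88748) D88747 F136121 (iv5 F122123) (iv6 F122124) (iv1 D45837)
def n98125 : Q := act 4 n45834
theorem D98125 : act 4 n45834 = n98125 := rfl
theorem F151308 : act 1 n98125 = n81825 := d18_6 (iv1 F29294) (iv4 F29568) (iv1 F58636) F121891 D45834 D98125 (iv4 D81825) F117724 (iv5 D37796)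
def n98126 : Q := act 0 n45835
theorem D98126 : act 0 n45835 = n98126 := rfl
theorem F151309 : act 5 n98126 = n45984 := d17_1 D98126 (iv1 F72555) F34588 (iv4 F34584) (iv5 F72858) F113395 (iv5 F129100) (iv0 F129102) F126918
theorem F151310 : act 6 n98126 = n46233 := d21_5 D45971 (iv1 F124498) (iv5 D45834) D45835 D98126 (iv5 D46233) F72880 (iv5 D45881) D45882 F123898
theorem F151311 : act 2 n46238 = n98126 := d15_3 (iv0 D98126) (iv0 F129103) (iv7 F118456)
theorem F151312 : act 3 n98126 = n95259 := d0_2 F120544 F151311 (iv2 F146856) F122083 (iv2 F120543)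
theorem F151313 : act 4 n98126 = n82783 := d1_2 F129117 F151311 (iv2 F129116)
def n98127 : Q := act 7 n45835
theorem D98127 : act 7 n45835 = n98127 := rfl
theorem F151318 : act 5 n98127 = n80857 := d13_1 D98127 F124579 F72875
theorem F151319 : act 6 n98127 = n88653 := d14_1 D98127 F135943 (iv6 D79315) F124457 D45835
theorem F151320 : act 1 n46242 = n98127 := d15_1 (iv0 F126793) (iv7 D98127) F124499
theorem F151321 : act 1 n98127 = n46238 := d15_1 F151320 F118456 (iv2 F118452)
def n98128 : Q := act 6 n45836
theorem D98128 : act 6 n45836 = n98128 := rfl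
theorem F151322 : act 3 n98128 = n78620 := d7_1 D98128 (iv6 D78620) (iv3 F121900)
theorem F151323 : act 5 n98128 = n88663 := d12_1 D98128 (iv6 F135990) F123907 (iv6 F123900) F123894
def n98129 : Q := act 3 n45838
theorem D98129 : act 3 n45838 = n98129 := rfl
theorem F151324 : act 4 n98129 = n95266 := d5_2 D45838 D98129 (iv3 D95266) (iv4 D44503) (iv3 F34412)
theorem F151325 : act 6 n98129 = n45840 := d7_2 (iv6 F72385) D98129 (iv3 D45840)
def n98130 : Q := act 5 n45838
theorem D98130 : act 5 n45838 = n98130 := rfl
theorem F151326 : act 0 n98130 = n84197 := d17_2 (iv1 F121806) D98130 (iv5 D84197) (iv4 D38822) (iv5 D18452) (iv0 D8676) D8678 D18460 D38847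
theorem F151327 : act 1 n98130 = n84218 := d17_6 (iv1 F124498) (iv5 D45834) (iv1 D21921) D21922 D45838 D98130 (iv5 D84218) F129246 F129245
theorem F151328 : act 0 n75304 = n84219 := d21_4 D34471 D75291 F112885 D75304 (iv6 D84219) D84218 (iv1 F151327) (iv5 D98130) F72385 F34415
def n98131 : Q := act 7 n45838
theorem D98131 : act 7 n45838 = n98131 := rfl
theorem F151330 : act 4 n98131 = n45839 := d11_1 D98131 (iv7 D45839) D45838
theorem F151331 : act 1 n75736 = n98131 := d15_1 F121910 (iv7 D98131) (iv2 F121908)
theorem F151332 : act 1 n98131 = n82414 := d15_1 F151331 F126962 (iv2 F113601)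
def n98132 : Q := act 0 n45840
theorem D98132 : act 0 n45840 = n98132 := rfl
theorem F151333 : act 3 n98132 = n76214 := d20_5 F54913 (iv1 F31226) D21924 D45840 D98132 (iv4 D76214) (iv1 D34809) (iv4 F54921) (iv3 D34669) D34667
def n98133 : Q := act 1 n45840
theorem D98133 : act 1 n45840 = n98133 := rfl
def n98134 : Q := act 2 n45840
theorem D98134 : act 2 n45840 = n98134 := rfl
theorem F151334 : act 4 n98134 = n95288 := d1_2 (iv4 F72388) D98134 (iv2 D95288)
theorem F151335 : act 1 n98134 = n86306 := d15_0 (iv0 F135893) F135892 D98134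
def n98135 : Q := act 5 n45840
theorem D98135 : act 5 n45840 = n98135 := rfl
theorem F151336 : act 3 n98135 = n45841 := d6_1 D98135 (iv5 D45841) D45840
def n98136 : Q := act 6 n45841
theorem D98136 : act 6 n45841 = n98136 := rfl
theorem F151337 : act 4 n98136 = n88789 := d10_1 D98136 (iv6 D88789) (iv4 F72389)
def n98137 : Q := act 4 n45842
theorem D98137 : act 4 n45842 = n98137 := rfl
theorem F151338 : act 2 n98137 = n81519 := d1_1 D98137 F125370 F125373
theorem F151339 : act 7 n98137 = n83144 := d11_2 (iv7 F125374) D98137 (iv4 D83144)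
theorem F151340 : act 5 n98137 = n81518 := d16_5 D96658 F148961 (iv4 F123602) (iv5 F122978) D98137 F125367 (iv5 F86708) (iv7 F148950) F148948
theorem F151341 : act 1 n98137 = n83592 := d18_6 D71979 (iv4 F115823) F123603 (iv4 F123602) (iv5 F122978) D98137 (iv4 D83592) F86930 (iv5 F86931)
theorem F151342 : act 0 n98137 = n83548 := d20_1 D98137 (iv4 D83548) (iv3 D38521) (iv1 D18353) (iv3 D8647) (iv4 F7224) F13572 D10460 D21925 D45842
def n98138 : Q := act 6 n45842
theorem D98138 : act 6 n45842 = n98138 := rfl
theorem F151343 : act 2 n98138 = n83149 := d3_1 D98138 (iv6 D83149) F125373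
def n98139 : Q := act 6 n45843
theorem D98139 : act 6 n45843 = n98139 := rfl
def n98140 : Q := act 5 n45844
theorem D98140 : act 5 n45844 = n98140 := rfl
theorem F151345 : act 2 n98140 = n45845 := d2_1 D98140 (iv5 D45845) D45844
theorem F151346 : act 3 n98140 = n56063 := d6_1 D98140 (iv5 F88732) (iv3 F72393)
theorem F151347 : act 7 n98140 = n77631 := d13_2 (iv7 F72394) D98140 F116529
theorem F151348 : act 1 n98140 = n77455 := d17_6 D36845 (iv5 F121919) (iv1 F121920) F107241 F88105 D98140 F116266 (iv0 D37872) F29327
theorem F151349 : act 0 n98140 = n82496 := d18_0 (iv4 F127146) (iv1 F128078) F128075 F108268 (iv4 F120495) (iv0 F125387) F125370 F72397 D98140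
def n98141 : Q := act 6 n45844
theorem D98141 : act 6 n45844 = n98141 := rfl
theorem F151350 : act 2 n98141 = n45846 := d3_1 D98141 (iv6 D45846) D45844
theorem F151351 : act 3 n98141 = n83158 := d7_1 D98141 (iv6 D83158) (iv3 F72393)
theorem F151352 : act 7 n84064 = n98141 := d4_0 F151350 (iv7 F72401) D84064
theorem F151353 : act 1 n98141 = n84062 := d15_0 (iv0 D84062) F72401 (iv2 F151350)
theorem F151354 : act 1 n84063 = n98141 := d15_1 D84063 (iv7 F151352) (iv2 D84064)
def n98142 : Q := act 0 n45845
theorem D98142 : act 0 n45845 = n98142 := rfl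
theorem F151355 : act 4 n98142 = n83088 := d18_1 D98142 (iv1 D83088) F59117 (iv5 F59357) D83548 (iv0 F151342) (iv4 D98137) (iv0 D45842) D45845
theorem F151356 : act 3 n98142 = n56010 := d20_5 (iv4 F13563) D10491 (iv4 F34419) (iv3 F72398) D98142 F88660 (iv1 D47162) F35274 (iv3 D10751) (iv1 F13560)
theorem F151357 : act 1 n77631 = n98142 := d15_0 (iv0 D98142) F72399 (iv2 F116528)
theorem F151358 : act 5 n98142 = n45887 := d17_7 D36035 D79156 (iv1 F120443) F106253 (iv4 F59145) (iv5 F116529) F151357 (iv0 D45887) F34451
theorem F151359 : act 2 n82496 = n98142 := d2_3 F151358 (iv2 F125500) D82496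
def n98143 : Q := act 1 n45845
theorem D98143 : act 1 n45845 = n98143 := rfl
theorem F151361 : act 1 n98143 = n77631 := d15_1 D98143 (iv7 F151347) F151345
theorem F151362 : act 7 n98143 = n82496 := d15_2 (iv0 D98142) D98143 F151359
theorem F151363 : act 5 n98143 = n45888 := d17_7 (iv1 F57791) D79158 (iv1 F120446) (iv5 D55685) F43368 D45845 D98143 F72476 F58740
theorem F151364 : act 4 n98143 = n83087 := d17_9 (iv1 F128072) (iv5 F120086) F148963 F148961 (iv4 F123602) (iv5 F122978) (iv0 D45842) D45845 D98143
def n98144 : Q := act 4 n45845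
theorem D98144 : act 4 n45845 = n98144 := rfl
theorem F151366 : act 3 n98144 = n46051 := d5_1 D98144 (iv4 D46051) (iv3 D22000) (iv4 F34419) (iv3 F72398)
theorem F151367 : act 7 n98144 = n82548 := d11_2 (iv7 F72399) D98144 (iv4 D82548)
theorem F151368 : act 5 n98144 = n68906 := d16_1 D98144 F105085 (iv5 F71214) (iv4 F106252) F106253 (iv4 F59145) (iv5 F116529) (iv7 F151347) F151345
theorem F151369 : act 0 n98144 = n60196 := d18_2 (iv1 D98143) D98144 F94750 D71814 (iv4 F108271) (iv0 D36035) (iv4 F34451) D45888 (iv5 F151363)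
def n98145 : Q := act 6 n45845
theorem D98145 : act 6 n45845 = n98145 := rfl
theorem F151370 : act 3 n98145 = n45847 := d7_1 D98145 (iv6 D45847) (iv3 F72398)
def n98146 : Q := act 0 n45846
theorem D98146 : act 0 n45846 = n98146 := rfl
theorem F151371 : act 1 n84064 = n98146 := d15_0 (iv0 D98146) (iv7 F72401) D84064
def n98147 : Q := act 1 n45846
theorem D98147 : act 1 n45846 = n98147 := rfl
theorem F151372 : act 1 n98147 = n84064 := d15_1 D98147 F151352 F151350
def n98148 : Q := act 5 n45846
theorem D98148 : act 5 n45846 = n98148 := rfl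
theorem F151373 : act 3 n98148 = n45848 := d6_1 D98148 (iv5 D45848) (iv3 F72400)
theorem F151374 : act 7 n98148 = n84066 := d13_2 F72401 D98148 (iv5 D84066)
def n98149 : Q := act 0 n45847
theorem D98149 : act 0 n45847 = n98149 := rfl
def n98150 : Q := act 1 n45847
theorem D98150 : act 1 n45847 = n98150 := rfl
theorem F151375 : act 1 n98150 = n82557 := d15_1 D98150 (iv7 D82557) (iv2 F72402)
def n98151 : Q := act 5 n45847
theorem D98151 : act 5 n45847 = n98151 := rfl
theorem F151376 : act 2 n98151 = n82556 := d2_1 D98151 (iv5 D82556) (iv2 F72402)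
theorem F151377 : act 6 n98151 = n45848 := d12_2 D45847 D98151 (iv5 D45848) (iv6 D21927) D21926
def n98152 : Q := act 7 n45847
theorem D98152 : act 7 n45847 = n98152 := rfl
theorem F151378 : act 2 n98152 = n82557 := d4_1 D98152 (iv7 D82557) (iv2 F72402)
theorem F151379 : act 4 n98152 = n46056 := d11_1 D98152 (iv7 D46056) (iv4 F72403)
theorem F151380 : act 6 n98152 = n82553 := d14_1 D98152 (iv7 D82553) (iv6 D37897) (iv7 F34420) D45847
theorem F151381 : act 1 n82557 = n98149 := d15_0 (iv0 D98149) D98152 F151378
theorem F151382 : act 1 n82555 = n98152 := d15_1 D82555 (iv7 D98152) F72402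
theorem F151383 : act 1 n98152 = n82554 := d15_0 (iv0 D82554) D82557 (iv2 F151378)
def n98153 : Q := act 0 n45848
theorem D98153 : act 0 n45848 = n98153 := rfl
theorem F151384 : act 5 n98153 = n75358 := d17_3 (iv1 F59722) D45848 D98153 (iv4 D75358) (iv5 D34495) (iv0 D16734) F12363 D8615 D18268
theorem F151385 : act 4 n98153 = n83057 := d18_1 D98153 (iv1 F128006) F59488 F29567 F13576 F13529 D18264 (iv0 F59721) D45848
theorem F151386 : act 1 n83066 = n98153 := d15_0 (iv0 D98153) F72405 (iv2 F128025)
theorem F151388 : act 7 n75765 = n98153 := d13_0 F151384 (iv7 F113067) D75765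
theorem E14788 : n83990 = n83057 := ((c11_2 F151388 F151385 (iv7 F128963) (iv4 F113622))).symm
theorem F151389 : act 2 n83057 = n38684 := (sb E14788 (iv2 D83990))
theorem F151390 : act 7 n83057 = n38685 := (sb E14788 (iv7 F128963))
theorem E14789 : n83993 = n83058 := (c15_4 F128007 F128006 F151390 (iv2 F128964))
theorem F151391 : act 2 n83058 = n38685 := (sb E14789 F128964)
theorem F151392 : act 7 n83058 = n38684 := (sb E14789 (iv7 D83993))
def n98154 : Q := act 1 n45848
theorem D98154 : act 1 n45848 = n98154 := rfl
theorem F151395 : act 5 n98154 = n75370 := d17_7 (iv1 F118342) (iv5 D75664) F59758 F28881 (iv4 F34425) D45848 D98154 (iv0 F129079) F129077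
theorem F151396 : act 4 n98154 = n83058 := d17_9 (iv1 D83058) (iv5 F113545) (iv1 F129091) F129089 (iv4 D83073) (iv5 D38232) (iv0 F59721) D45848 D98154
theorem F151397 : act 2 n75765 = n98154 := d1_3 F151396 F151391 (iv4 F113622)
def n98155 : Q := act 5 n45849
theorem D98155 : act 5 n45849 = n98155 := rfl
theorem F151398 : act 2 n98155 = n77336 := d2_1 D98155 (iv5 D77336) (iv2 F114025)
theorem F151400 : act 7 n98155 = n77338 := d13_2 F114024 D98155 (iv5 D77338)
def n98156 : Q := act 0 n45851
theorem D98156 : act 0 n45851 = n98156 := rfl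
def n98157 : Q := act 7 n45851
theorem D98157 : act 7 n45851 = n98157 := rfl
theorem F151401 : act 2 n98157 = n77343 := d4_1 D98157 (iv7 D77343) (iv2 F72407)
theorem F151402 : act 5 n98157 = n45852 := d13_1 D98157 (iv7 D45852) D45851
theorem F151403 : act 1 n77343 = n98156 := d15_0 (iv0 D98156) D98157 F151401
theorem F151404 : act 1 n77341 = n98157 := d15_1 D77341 (iv7 D98157) F72407
theorem F151405 : act 4 n81992 = n77341 := d18_7 (iv1 F72412) (iv4 F117322) (iv1 D37543) F29190 D18019 D37558 D81992 F151404 F151402
theorem F151406 : act 3 n88637 = n77341 := d20_5 F126354 (iv1 F122280) F120474 (iv3 F72494) (iv1 F135876) (iv4 F151405) (iv1 D81992) (iv4 D37558) (iv3 F58426) D81965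
theorem F151407 : act 2 n77341 = n79971 := d0_1 F151406 (iv3 D79971) (iv2 F124473) F122688 (iv2 F135878)
theorem F151408 : act 7 n98156 = n77341 := d15_2 (iv0 F126136) F151403 F151407
theorem F151409 : act 3 n45902 = n98156 := d8_3 F151408 (iv3 F151406) (iv7 F135879)
theorem F151410 : act 2 n98156 = n77340 := d15_3 (iv0 D77340) D77341 (iv7 F151408)
theorem F151411 : act 3 n77340 = n79939 := d0_2 F151409 F151410 F124476 D79968 F124493
theorem F151412 : act 7 n77340 = n79971 := d4_2 (iv7 F151408) F151410 (iv2 F151407)
theorem F151414 : act 4 n81991 = n77340 := d20_2 D37558 D81991 F151411 F122682 F57192 (iv4 F57205) (iv1 F57207) (iv4 D34802) D34801 (iv1 F124345)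
def n98158 : Q := act 6 n45853
theorem D98158 : act 6 n45853 = n98158 := rfl
theorem F151415 : act 2 n98158 = n45854 := d3_1 D98158 (iv6 D45854) D45853
theorem F151416 : act 4 n98158 = n45912 := d10_1 D98158 (iv6 D45912) (iv4 F72414)
def n98159 : Q := act 0 n45854
theorem D98159 : act 0 n45854 = n98159 := rfl
def n98160 : Q := act 1 n45854
theorem D98160 : act 1 n45854 = n98160 := rfl
def n98161 : Q := act 5 n45854
theorem D98161 : act 5 n45854 = n98161 := rfl
theorem F151417 : act 3 n98161 = n45858 := d6_1 D98161 (iv5 D45858) (iv3 F72419)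
theorem F151418 : act 6 n98161 = n89088 := d12_2 D45854 D98161 (iv5 D89088) (iv6 D41625) F34430
def n98162 : Q := act 7 n45854
theorem D98162 : act 7 n45854 = n98162 := rfl
theorem F151419 : act 3 n98162 = n45859 := d8_1 D98162 (iv7 D45859) (iv3 F72419)
theorem F151420 : act 4 n98162 = n45916 := d11_1 D98162 (iv7 D45916) (iv4 F72420)
def n98163 : Q := act 0 n45855
theorem D98163 : act 0 n45855 = n98163 := rfl
def n98164 : Q := act 1 n45855
theorem D98164 : act 1 n45855 = n98164 := rfl
def n98165 : Q := act 5 n45855
theorem D98165 : act 5 n45855 = n98165 := rfl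
theorem F151422 : act 2 n98165 = n98069 := d2_1 D98165 (iv5 D98069) (iv2 F72421)
theorem F151423 : act 3 n98165 = n89088 := d6_1 D98165 (iv5 D89088) (iv3 F72422)
theorem F151424 : act 6 n98165 = n45858 := d12_2 D45855 D98165 (iv5 D45858) (iv6 D21934) D21933
def n98166 : Q := act 7 n45855
theorem D98166 : act 7 n45855 = n98166 := rfl
theorem F151425 : act 2 n98166 = n98070 := d4_1 D98166 (iv7 D98070) (iv2 F72421)
theorem F151426 : act 3 n98166 = n89089 := d8_1 D98166 (iv7 D89089) (iv3 F72422)
theorem F151427 : act 4 n98166 = n98074 := d11_1 D98166 (iv7 D98074) (iv4 F72423)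
theorem F151428 : act 6 n98166 = n98074 := d14_1 D98166 (iv7 D98074) (iv6 D45799) (iv7 F34433) D45855
theorem F151429 : act 1 n98070 = n98163 := d15_0 (iv0 D98163) D98166 F151425
def n98167 : Q := act 4 n45858
theorem D98167 : act 4 n45858 = n98167 := rfl
def n98168 : Q := act 7 n45858
theorem D98168 : act 7 n45858 = n98168 := rfl
theorem F151432 : act 5 n98168 = n45859 := d13_1 D98168 (iv7 D45859) D45858
def n98169 : Q := act 3 n45867
theorem D98169 : act 3 n45867 = n98169 := rfl
theorem F151433 : act 4 n98169 = n57003 := d5_2 D45867 D98169 (iv3 D57003) (iv4 F121443) F119027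
theorem F151434 : act 7 n98169 = n56726 := d8_2 (iv7 F118999) D98169 (iv3 D56726)
def n98170 : Q := act 6 n45867
theorem D98170 : act 6 n45867 = n98170 := rfl
theorem F151435 : act 2 n98170 = n56733 := d3_1 D98170 (iv6 D56733) (iv2 F118998)
theorem F151436 : act 4 n98170 = n45869 := d10_1 D98170 (iv6 D45869) D45867
def n98171 : Q := act 0 n45869
theorem D98171 : act 0 n45869 = n98171 := rfl
def n98172 : Q := act 1 n45869
theorem D98172 : act 1 n45869 = n98172 := rfl
def n98173 : Q := act 5 n45869
theorem D98173 : act 5 n45869 = n98173 := rfl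
theorem F151437 : act 2 n98173 = n77790 := d2_1 D98173 (iv5 F123078) F123075
theorem F151438 : act 6 n98173 = n77783 := d12_2 D45869 D98173 (iv5 D77783) (iv6 F119030) (iv5 D45868)
theorem F151439 : act 0 n77531 = n98173 := d21_1 D77531 (iv5 D98173) (iv6 D45869) (iv1 D21936) (iv6 D10468) (iv5 D4759) F5733 (iv5 F13442) D17174 D35398
theorem F151440 : act 1 n77536 = n98173 := d15_0 (iv0 F151439) (iv7 F132978) F132976
def n98174 : Q := act 7 n45869
theorem D98174 : act 7 n45869 = n98174 := rfl
def n98175 : Q := act 5 n45870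
theorem D98175 : act 5 n45870 = n98175 := rfl
theorem F151441 : act 2 n98175 = n86397 := d2_1 D98175 F132451 (iv2 F72427)
theorem F151443 : act 6 n98175 = n98175 := d12_2 D45870 D98175 (iv5 D98175) (iv6 D45870) F34439
theorem F151446 : act 1 n98175 = n82155 := d15_0 F126567 D86397 (iv2 F151441)
def n98176 : Q := act 5 n45872
theorem D98176 : act 5 n45872 = n98176 := rfl
theorem F151447 : act 2 n98176 = n82066 := d2_1 D98176 (iv5 D82066) F118323
theorem F151449 : act 7 n98176 = n82050 := d13_2 F118324 D98176 (iv5 D82050)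
theorem F151450 : act 6 n98176 = n82155 := d21_3 F132451 (iv1 F72433) D98176 (iv1 F151446) F151443 (iv5 D98175) (iv1 F118210) D82066 (iv6 F126481) F132453
theorem F151451 : act 4 n82157 = n98176 := d10_3 F151450 (iv4 D82155) D82157
def n98177 : Q := act 6 n45872
theorem D98177 : act 6 n45872 = n98177 := rfl
theorem F151454 : act 3 n98177 = n57095 := d7_1 D98177 (iv6 D57095) (iv3 F120737)
theorem F151455 : act 4 n98177 = n76105 := d10_1 D98177 F117527 (iv4 F118322)
def n98178 : Q := act 1 n45873
theorem D98178 : act 1 n45873 = n98178 := rfl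
theorem F151456 : act 1 n98178 = n86397 := d15_1 D98178 (iv7 D86397) (iv2 F72434)
theorem F151458 : act 5 n84699 = n98178 := d21_6 (iv5 D8025) (iv1 F12974) (iv5 F13854) D18947 (iv1 F118418) D84699 (iv1 D98178) (iv5 D45873) (iv6 D21938) (iv1 F16673)
theorem F151460 : act 4 n98178 = n81953 := d18_5 F117369 (iv4 F129935) (iv1 D84705) (iv4 F129932) F151458 F126331 F58503 F58417 F117510
theorem F151461 : act 3 n98178 = n57097 := d20_9 D57098 F120779 (iv4 D56863) (iv3 D27299) (iv1 F21803) (iv3 F29209) (iv4 F58503) (iv1 F126331) (iv4 F151460) (iv1 D57097)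
def n98179 : Q := act 6 n45874
theorem D98179 : act 6 n45874 = n98179 := rfl
theorem F151463 : act 2 n98179 = n77639 := d3_1 D98179 (iv6 D77639) F72439
theorem F151464 : act 3 n98179 = n54767 := d7_1 D98179 (iv6 D54767) (iv3 F72437)
theorem F151465 : act 0 n46228 = n98179 := d20_4 F54826 (iv1 F34466) D22114 D46228 F151464 F86638 F53174 D33148 F52373 (iv1 F117929)
theorem F151466 : act 1 n82765 = n98179 := d15_0 (iv0 F151465) F118292 D82765
def n98180 : Q := act 6 n45875
theorem D98180 : act 6 n45875 = n98180 := rfl
theorem F151467 : act 2 n98180 = n54864 := d3_1 D98180 (iv6 D54864) (iv2 F72444)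
theorem F151468 : act 3 n98180 = n56065 := d7_1 D98180 (iv6 D56065) F72443
theorem F151469 : act 7 n82583 = n98180 := d15_2 (iv0 F118988) D82583 F151467
def n98181 : Q := act 6 n45876
theorem D98181 : act 6 n45876 = n98181 := rfl
theorem F151470 : act 2 n98181 = n45877 := d3_1 D98181 (iv6 D45877) D45876
theorem F151471 : act 3 n98181 = n82498 := d7_1 D98181 (iv6 D82498) (iv3 F72447)
theorem F151472 : act 4 n98181 = n81658 := d10_1 D98181 (iv6 D81658) (iv4 F72448)
def n98182 : Q := act 0 n45877
theorem D98182 : act 0 n45877 = n98182 := rfl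
theorem F151473 : act 3 n98182 = n75823 := d20_5 (iv4 F59780) (iv1 D21943) (iv4 F34450) (iv3 F72453) D98182 (iv4 D75823) (iv1 F54928) (iv4 F54859) F54858 (iv1 F54720)
theorem F151474 : act 7 n75864 = n98182 := d8_0 F151473 F113766 D75864
def n98183 : Q := act 1 n45877
theorem D98183 : act 1 n45877 = n98183 := rfl
def n98184 : Q := act 5 n45877
theorem D98184 : act 5 n45877 = n98184 := rfl
def n98185 : Q := act 7 n45877
theorem D98185 : act 7 n45877 = n98185 := rfl
theorem F151476 : act 3 n98185 = n45879 := d8_1 D98185 (iv7 D45879) (iv3 F72453)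
theorem F151477 : act 4 n98185 = n75984 := d11_1 D98185 F113881 (iv4 F72454)
theorem F151478 : act 6 n98185 = n82515 := d14_1 D98185 (iv7 D82515) (iv6 D37883) (iv7 F34448) D45877
theorem F151479 : act 0 n98185 = n75864 := d20_4 D34592 F59746 (iv4 F72459) (iv3 F151476) (iv3 D75864) (iv4 D34681) (iv1 D16793) (iv4 F27537) F27536 D16769
theorem F151480 : act 1 n98181 = n75864 := d15_0 (iv0 F151479) (iv7 D98185) (iv2 F151470)
def n98186 : Q := act 4 n45878
theorem D98186 : act 4 n45878 = n98186 := rfl
theorem F151482 : act 5 n98186 = n84067 := d16_1 D98186 (iv4 D84067) (iv5 D38730) (iv4 F59690) (iv5 F57776) (iv4 F59784) D75714 F113570 (iv2 F72455)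
def n98187 : Q := act 5 n45886
theorem D98187 : act 5 n45886 = n98187 := rfl
theorem F151484 : act 2 n98187 = n88648 := d2_1 D98187 F135927 F114007
theorem F151486 : act 0 n98187 = n83232 := d17_2 (iv1 F123904) D98187 (iv5 D83232) (iv4 D38310) D38311 F127698 (iv5 D75762) (iv0 F128324) F72871
theorem F151487 : act 0 n83223 = n98187 := d21_10 (iv5 D98187) (iv1 F135969) (iv5 D88656) F63880 (iv1 F136090) F136094 (iv5 F121709) F123898 D45971 (iv6 F128298)
theorem F151488 : act 7 n98187 = n88649 := d15_2 F128908 (iv0 F151486) (iv2 F135934)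
def n98188 : Q := act 7 n45886
theorem D98188 : act 7 n45886 = n98188 := rfl
theorem F151490 : act 5 n98188 = n88649 := d13_1 D98188 (iv7 F151488) (iv5 D98187)
theorem F151491 : act 6 n98188 = n45969 := d14_1 D98188 (iv7 F121904) (iv6 D75646) F113993 D45886
theorem F151492 : act 1 n45978 = n98188 := d15_1 (iv0 F128368) (iv7 D98188) (iv2 F114007)
theorem F151493 : act 1 n98188 = n46220 := d15_1 F151492 (iv7 D46220) (iv2 F118312)
def n98189 : Q := act 3 n45887
theorem D98189 : act 3 n45887 = n98189 := rfl
theorem F151494 : act 5 n98189 = n56010 := d6_2 F151358 D98189 (iv3 F151356)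
theorem F151496 : act 4 n98189 = n55361 := d20_6 (iv4 D4823) (iv1 F6874) D10473 D21945 D45887 D98189 (iv1 D55361) F42980 (iv3 D16731) F12360
theorem F151497 : act 2 n77460 = n98189 := d1_3 F151496 (iv2 F115311) (iv4 F116281)
theorem F151498 : act 1 n71848 = n98189 := d17_8 (iv1 D55361) D55363 F106732 (iv5 D57277) D57276 (iv5 F115015) F89273 D71848 F151496
def n98190 : Q := act 4 n45887
theorem D98190 : act 4 n45887 = n98190 := rfl
theorem F151500 : act 2 n98190 = n81600 := d1_1 D98190 F125497 F125500
theorem F151502 : act 5 n98190 = n81599 := d16_5 D96717 (iv5 F149126) (iv4 F151355) F151358 D98190 F125494 (iv5 F88017) F88014 F83665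
def n98191 : Q := act 6 n45887
theorem D98191 : act 6 n45887 = n98191 := rfl
def n98192 : Q := act 6 n45888
theorem D98192 : act 6 n45888 = n98192 := rfl
theorem F151504 : act 2 n98192 = n82495 := d3_1 D98192 (iv6 D82495) (iv2 F125499)
def n98193 : Q := act 6 n45889
theorem D98193 : act 6 n45889 = n98193 := rfl
theorem F151505 : act 2 n98193 = n45890 := d3_1 D98193 (iv6 D45890) D45889
theorem F151506 : act 3 n98193 = n82511 := d7_1 D98193 (iv6 D82511) (iv3 F72472)
theorem F151507 : act 4 n98193 = n79160 := d10_1 D98193 (iv6 D79160) (iv4 F72473)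
def n98194 : Q := act 0 n45890
theorem D98194 : act 0 n45890 = n98194 := rfl
def n98195 : Q := act 1 n45890
theorem D98195 : act 1 n45890 = n98195 := rfl
def n98196 : Q := act 5 n45890
theorem D98196 : act 5 n45890 = n98196 := rfl
theorem F151508 : act 3 n98196 = n45893 := d6_1 D98196 (iv5 D45893) (iv3 F72478)
def n98197 : Q := act 7 n45890
theorem D98197 : act 7 n45890 = n98197 := rfl
theorem F151509 : act 3 n98197 = n45894 := d8_1 D98197 (iv7 D45894) (iv3 F72478)
theorem F151510 : act 4 n98197 = n79167 := d11_1 D98197 (iv7 D79167) (iv4 F72479)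
theorem F151511 : act 6 n98197 = n75713 := d14_1 D98197 F113569 (iv6 D37876) (iv7 F34452) D45890
def n98198 : Q := act 3 n45891
theorem D98198 : act 3 n45891 = n98198 := rfl
theorem F151512 : act 4 n98198 = n77369 := d5_2 (iv4 F113033) D98198 (iv3 D77369) (iv4 F117067) F117066
theorem F151513 : act 6 n98198 = n75764 := d7_2 (iv6 F113034) D98198 (iv3 D75764)
theorem F151514 : act 7 n98198 = n75785 := d8_2 (iv7 F113035) D98198 (iv3 D75785)
def n98199 : Q := act 5 n45891
theorem D98199 : act 5 n45891 = n98199 := rfl
theorem F151515 : act 2 n98199 = n75776 := d2_1 D98199 (iv5 D75776) F113036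
theorem F151516 : act 7 n98199 = n75786 := d13_2 (iv7 F113035) D98199 (iv5 D75786)
theorem F151517 : act 0 n98199 = n83238 := d21_1 D98199 (iv5 D83238) (iv6 D38312) (iv1 D18292) (iv6 D8626) D8625 D18288 F29488 D21946 D45891
def n98200 : Q := act 3 n45892
theorem D98200 : act 3 n45892 = n98200 := rfl
theorem F151518 : act 4 n98200 = n77127 := d5_2 F72481 D98200 (iv3 D77127) (iv4 F117563) F117562
theorem F151519 : act 7 n98200 = n75775 := d8_2 (iv7 F113037) D98200 (iv3 D75775)
def n98201 : Q := act 5 n45892
theorem D98201 : act 5 n45892 = n98201 := rfl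
theorem F151520 : act 2 n98201 = n75786 := d2_1 D98201 (iv5 D75786) (iv2 F113032)
theorem F151521 : act 7 n98201 = n75776 := d13_2 (iv7 F113037) D98201 (iv5 D75776)
theorem F151522 : act 1 n98201 = n83238 := d17_6 F59651 D38355 F112827 (iv5 D75260) F72481 D98201 (iv5 D83238) (iv0 F148215) F126937
def n98202 : Q := act 6 n45892
theorem D98202 : act 6 n45892 = n98202 := rfl
theorem F151523 : act 2 n98202 = n75787 := d3_1 D98202 (iv6 D75787) (iv2 F113032)
theorem F151524 : act 4 n98202 = n56793 := d10_1 D98202 F117779 F72481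
theorem F151525 : act 7 n98202 = n75733 := d14_2 (iv7 F113037) D98202 (iv6 D75733) (iv7 F113106) F113105
theorem F151526 : act 5 n98202 = n83407 := d21_6 (iv5 F127157) (iv1 F129083) F129085 F72460 (iv1 F72480) D98202 (iv1 F128518) (iv5 D38426) D38427 F113577
theorem F151527 : act 0 n98202 = n82582 := d21_10 F127810 (iv1 F127807) F59280 (iv6 F58978) (iv1 F58980) D38312 D83238 (iv1 F151522) (iv5 D98201) D98202
theorem F151528 : act 1 n98202 = n45948 := d15_1 (iv0 F151527) (iv7 F128528) F128527
def n98203 : Q := act 0 n45893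
theorem D98203 : act 0 n45893 = n98203 := rfl
theorem F151529 : act 2 n82520 = n98203 := d15_3 (iv0 D98203) (iv0 F129242) F129241
theorem F151530 : act 7 n98203 = n82521 := d4_2 F129241 F151529 (iv2 F129240)
def n98204 : Q := act 4 n45893
theorem D98204 : act 4 n45893 = n98204 := rfl
def n98205 : Q := act 7 n45893
theorem D98205 : act 7 n45893 = n98205 := rfl
theorem F151533 : act 2 n98205 = n82523 := d4_1 D98205 (iv7 D82523) (iv2 F72482)
theorem F151534 : act 5 n98205 = n45894 := d13_1 D98205 (iv7 D45894) D45893
theorem F151535 : act 1 n82521 = n98205 := d15_1 D82521 (iv7 D98205) F72482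
theorem F151536 : act 1 n98205 = n82520 := d15_1 F151535 (iv7 F129241) F129240
theorem E14790 : n83276 = n83236 := (c17_8 (iv1 F135964) (iv5 F122754) (iv1 F135880) F72495 (iv4 F72484) (iv5 F151534) F151536 (iv5 F128352) (iv0 D83236) (iv4 F128311))
theorem F151537 : act 4 n83236 = n38353 := (sb E14790 (iv4 D83276))
theorem F151538 : act 5 n83236 = n82520 := (sb E14790 F128352)
theorem F151539 : act 7 n83236 = n38819 := (sb E14790 F128351)
theorem F151540 : act 1 n75793 = n88638 := d18_6 (iv1 F135963) F128311 D83236 F151537 (iv5 F59653) D75793 (iv4 D88638) D88637 (iv5 F135877)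
def n98208 : Q := act 4 n45900
theorem D98208 : act 4 n45900 = n98208 := rfl
def n98209 : Q := act 6 n45902
theorem D98209 : act 6 n45902 = n98209 := rfl
theorem F151545 : act 5 n98209 = n46252 := d12_1 D98209 F149485 (iv5 F151318) F151319 F135941
def n98210 : Q := act 6 n45903
theorem D98210 : act 6 n45903 = n98210 := rfl
def n98211 : Q := act 0 n45904
theorem D98211 : act 0 n45904 = n98211 := rfl
theorem F151548 : act 4 n98211 = n75262 := d20_8 F122227 (iv1 F123300) (iv4 D80244) F125986 (iv1 D36055) (iv3 F34455) D45904 D98211 (iv3 F126204) (iv1 F122232)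
theorem F151549 : act 2 n75793 = n98211 := d15_3 (iv0 D98211) (iv0 F129253) F129252
theorem F151550 : act 7 n98211 = n75797 := d4_2 F129252 F151549 (iv2 F129251)
def n98212 : Q := act 3 n45904
theorem D98212 : act 3 n45904 = n98212 := rfl
theorem F151552 : act 6 n98212 = n75284 := d7_2 (iv6 F72493) D98212 (iv3 D75284)
def n98213 : Q := act 5 n45904
theorem D98213 : act 5 n45904 = n98213 := rfl
def n98215 : Q := act 6 n45906
theorem D98215 : act 6 n45906 = n98215 := rfl
theorem F151557 : act 3 n98215 = n45908 := d7_1 D98215 (iv6 D45908) D45906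
def n98216 : Q := act 6 n45907
theorem D98216 : act 6 n45907 = n98216 := rfl
theorem F151558 : act 4 n98216 = n45908 := d10_1 D98216 (iv6 D45908) D45907
def n98217 : Q := act 0 n45908
theorem D98217 : act 0 n45908 = n98217 := rfl
def n98218 : Q := act 1 n45908
theorem D98218 : act 1 n45908 = n98218 := rfl
def n98219 : Q := act 5 n45908
theorem D98219 : act 5 n45908 = n98219 := rfl
def n98220 : Q := act 7 n45908
theorem D98220 : act 7 n45908 = n98220 := rfl
def n98221 : Q := act 2 n45909
theorem D98221 : act 2 n45909 = n98221 := rfl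
theorem F151559 : act 3 n98221 = n71788 := d0_2 D45909 D98221 F113349 (iv3 D75522) (iv2 F64252)
theorem F151560 : act 5 n98221 = n71959 := d2_2 F116235 D98221 (iv2 F116234)
theorem F151561 : act 1 n98221 = n81651 := d15_0 (iv0 F125556) F113360 D98221
theorem F151562 : act 4 n98221 = n76728 := d16_0 (iv5 D76728) (iv4 F107826) F107827 (iv4 F87169) (iv5 F123334) (iv4 F123332) F123221 F113360 D98221
theorem F151563 : act 1 n81655 = n98221 := d17_8 (iv1 F125525) F86791 F123202 (iv5 D79080) D79079 (iv5 F120307) (iv0 F127924) F127922 F151562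
theorem F151564 : act 3 n76728 = n95229 := d20_3 D81651 (iv1 F151561) F151562 (iv1 D95229) (iv3 D44474) (iv4 D21154) F15940 F13963 D17926 D37319
theorem F151565 : act 5 n95229 = n76727 := d6_2 D76728 F151564 (iv3 D76727)
def n98222 : Q := act 4 n45909
theorem D98222 : act 4 n45909 = n98222 := rfl
theorem F151566 : act 2 n98222 = n76728 := d1_1 D98222 (iv4 F151562) (iv2 D98221)
theorem F151567 : act 3 n98222 = n81920 := d5_1 D98222 (iv4 D81920) F72502 (iv4 D45910) D45909
theorem F151568 : act 7 n98222 = n76724 := d11_2 F113360 D98222 F115102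
theorem F151569 : act 5 n98222 = n76731 := d17_5 F127750 D82973 F127896 F116235 D98222 F115105 F55692 D35988 D79083
theorem F151570 : act 0 n98222 = n81612 := d18_2 (iv1 F149198) D98222 F125523 F72445 (iv4 F60962) (iv0 F110133) (iv4 F128591) (iv0 F128592) (iv5 F112921)
theorem F151571 : act 1 n98222 = n70542 := d18_6 (iv1 F59165) D80256 F123327 F116236 F116235 D98222 F107002 (iv0 D45874) (iv5 F59162)
theorem F151572 : act 0 n81544 = n96742 := d20_4 (iv4 D86898) (iv1 F72921) F72922 D81544 (iv3 D96742) (iv4 F112922) (iv1 F149198) D98222 F151567 (iv1 F133327)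
theorem E14791 : n76731 = n76726 := (c2_1 F151569 F115103 D76728 (iv2 F151566))
theorem F151573 : act 0 n76726 = n35070 := (sb E14791 (iv1 D76731))
theorem F151574 : act 1 n76726 = n35072 := (sb E14791 F115105)
theorem F151575 : act 5 n76726 = n98222 := (sb E14791 (iv5 F151569))
theorem E14792 : n76730 = n76721 := (c15_2 F151574 F115104 (iv7 F115098) (iv2 F115103))
theorem F151576 : act 0 n76721 = n35072 := (sb E14792 (iv1 F115104))
theorem F151577 : act 1 n76721 = n35070 := (sb E14792 (iv0 D76730))
def n98223 : Q := act 6 n45909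
theorem D98223 : act 6 n45909 = n98223 := rfl
def n98224 : Q := act 6 n45910
theorem D98224 : act 6 n45910 = n98224 := rfl
theorem F151579 : act 3 n98224 = n81921 := d7_1 D98224 (iv6 D81921) F72502
def n98228 : Q := act 7 n45911
theorem D98228 : act 7 n45911 = n98228 := rfl
def n98229 : Q := act 0 n45912
theorem D98229 : act 0 n45912 = n98229 := rfl
def n98230 : Q := act 1 n45912
theorem D98230 : act 1 n45912 = n98230 := rfl
theorem F151581 : act 1 n98230 = n45916 := d15_1 D98230 (iv7 D45916) (iv2 F72503)
def n98231 : Q := act 5 n45912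
theorem D98231 : act 5 n45912 = n98231 := rfl
theorem F151582 : act 2 n98231 = n45915 := d2_1 D98231 (iv5 D45915) (iv2 F72503)
theorem F151583 : act 3 n98231 = n77616 := d6_1 D98231 (iv5 D77616) (iv3 F72504)
theorem F151584 : act 6 n98231 = n77612 := d12_2 D45912 D98231 (iv5 D77612) (iv6 D35430) (iv5 F34459)
def n98232 : Q := act 7 n45912
theorem D98232 : act 7 n45912 = n98232 := rfl
theorem F151585 : act 2 n98232 = n45916 := d4_1 D98232 (iv7 D45916) (iv2 F72503)
theorem F151586 : act 3 n98232 = n77617 := d8_1 D98232 (iv7 D77617) (iv3 F72504)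
theorem F151587 : act 1 n45916 = n98229 := d15_0 (iv0 D98229) D98232 F151585
theorem F151588 : act 1 n45914 = n98232 := d15_1 D45914 (iv7 D98232) F72503
theorem F151589 : act 1 n98232 = n45913 := d15_0 (iv0 D45913) D45916 (iv2 F151585)
def n98233 : Q := act 2 n45913
theorem D98233 : act 2 n45913 = n98233 := rfl
theorem F151590 : act 7 n45914 = n98233 := d15_2 (iv0 D45913) D45914 (iv2 D98233)
def n98234 : Q := act 3 n45913
theorem D98234 : act 3 n45913 = n98234 := rfl
def n98235 : Q := act 4 n45913
theorem D98235 : act 4 n45913 = n98235 := rfl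
def n98236 : Q := act 5 n45913
theorem D98236 : act 5 n45913 = n98236 := rfl
def n98237 : Q := act 6 n45913
theorem D98237 : act 6 n45913 = n98237 := rfl
def n98238 : Q := act 7 n45913
theorem D98238 : act 7 n45913 = n98238 := rfl
theorem F151591 : act 2 n98238 = n45914 := d4_1 D98238 F151590 (iv2 D98233)
def n98239 : Q := act 3 n45914
theorem D98239 : act 3 n45914 = n98239 := rfl
def n98240 : Q := act 4 n45914
theorem D98240 : act 4 n45914 = n98240 := rfl
def n98241 : Q := act 5 n45914
theorem D98241 : act 5 n45914 = n98241 := rfl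
def n98242 : Q := act 6 n45914
theorem D98242 : act 6 n45914 = n98242 := rfl
def n98243 : Q := act 0 n45915
theorem D98243 : act 0 n45915 = n98243 := rfl
def n98244 : Q := act 1 n45915
theorem D98244 : act 1 n45915 = n98244 := rfl
def n98245 : Q := act 4 n45915
theorem D98245 : act 4 n45915 = n98245 := rfl
def n98246 : Q := act 7 n45915
theorem D98246 : act 7 n45915 = n98246 := rfl
theorem F151593 : act 5 n98246 = n45916 := d13_1 D98246 (iv7 D45916) D45915
def n98247 : Q := act 3 n45927
theorem D98247 : act 3 n45927 = n98247 := rfl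
theorem F151594 : act 5 n98247 = n82616 := d6_2 (iv5 F118944) D98247 (iv3 D82616)
def n98248 : Q := act 6 n45927
theorem D98248 : act 6 n45927 = n98248 := rfl
def n98249 : Q := act 3 n45928
theorem D98249 : act 3 n45928 = n98249 := rfl
theorem F151595 : act 5 n98249 = n81824 := d6_2 (iv5 F118939) D98249 (iv3 D81824)
def n98250 : Q := act 6 n45928
theorem D98250 : act 6 n45928 = n98250 := rfl
def n98251 : Q := act 0 n45929
theorem D98251 : act 0 n45929 = n98251 := rfl
theorem F151596 : act 4 n98251 = n75500 := d18_3 (iv1 D45928) D45929 D98251 F113316 F119016 D45951 F72536 F118938 (iv5 F118939)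
theorem F151597 : act 2 n82593 = n98251 := d1_3 F151596 F127215 D82593
theorem F151598 : act 7 n82597 = n98251 := d11_0 F151596 F127216 D82597
def n98252 : Q := act 1 n45929
theorem D98252 : act 1 n45929 = n98252 := rfl
theorem F151599 : act 7 n98252 = n82593 := d15_2 (iv0 D98251) D98252 F151597
theorem F151600 : act 4 n98252 = n75501 := d18_7 F118906 (iv4 D21966) (iv1 D10478) (iv4 F16687) D21957 D45929 D98252 F113306 F58756
theorem F151601 : act 2 n82597 = n98252 := d1_3 F151600 F127214 D82597
def n98253 : Q := act 3 n45929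
theorem D98253 : act 3 n45929 = n98253 := rfl
def n98254 : Q := act 5 n45929
theorem D98254 : act 5 n45929 = n98254 := rfl
theorem F151602 : act 4 n98254 = n75576 := d16_2 D45929 D98254 F113424 F54842 F34342 (iv4 F54842) (iv5 F113424) (iv7 D75576) F54840
theorem F151603 : act 7 n98254 = n75575 := d16_8 (iv4 D45929) (iv5 D21957) F16687 F7220 (iv4 F16687) D21957 D45929 D98254 F113422
theorem F151604 : act 0 n98254 = n98252 := d18_0 F151600 (iv1 D75501) D75502 (iv5 F127234) F127233 F113314 (iv4 F151596) (iv0 D98251) D98254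
theorem F151605 : act 1 n98254 = n98251 := d15_1 (iv0 F151604) (iv7 F151598) F151601
def n98255 : Q := act 7 n45929
theorem D98255 : act 7 n45929 = n98255 := rfl
theorem F151606 : act 2 n98255 = n98254 := d4_1 D98255 F151603 F113422
theorem F151607 : act 4 n98255 = n45930 := d11_1 D98255 (iv7 D45930) D45929
theorem F151608 : act 5 n98255 = n75575 := d13_1 D98255 (iv7 F151603) (iv5 D98254)
theorem F151609 : act 1 n82597 = n98255 := d15_1 (iv0 F127218) (iv7 D98255) (iv2 F113422)
theorem F151610 : act 1 n98255 = n82593 := d15_1 F151609 (iv7 F151599) (iv2 F151601)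
def n98256 : Q := act 6 n45930
theorem D98256 : act 6 n45930 = n98256 := rfl
def n98257 : Q := act 7 n45942
theorem D98257 : act 7 n45942 = n98257 := rfl
theorem F151611 : act 2 n98257 = n79542 := d4_1 D98257 F122177 F118949
theorem F151612 : act 3 n98257 = n45957 := d8_1 D98257 (iv7 D45957) (iv3 F72521)
theorem F151613 : act 4 n98257 = n81726 := d11_1 D98257 (iv7 D81726) (iv4 F118954)
theorem F151614 : act 5 n98257 = n79540 := d13_1 D98257 (iv7 F136129) F136128
theorem F151615 : act 1 n79542 = n80669 := d15_0 F136134 D98257 F151611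
theorem F151616 : act 5 n58133 = n81726 := d17_3 (iv1 D27710) D27711 D58133 (iv4 F151613) F151614 F122169 (iv5 D44900) F120826 F56812
theorem F151617 : act 0 n76941 = n81726 := d18_2 F116861 (iv4 F115629) (iv4 F151613) F151614 (iv4 F122175) (iv0 D58186) (iv4 D27725) D27724 (iv5 F58205)
theorem F151618 : act 7 n81725 = n58133 := d13_0 F151616 (iv7 D81726) D81725
theorem F151619 : act 1 n98257 = n77160 := d15_0 (iv0 F147083) (iv7 F122177) (iv2 F151611)
theorem F151620 : act 0 n82461 = n77163 := d20_1 (iv4 F127041) F115927 (iv3 F115926) (iv1 F151619) F151612 (iv4 F128529) (iv1 F128533) F113593 (iv3 F113564) F118662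
def n98258 : Q := act 0 n45946
theorem D98258 : act 0 n45946 = n98258 := rfl
theorem F151621 : act 3 n98258 = n54869 := d20_5 F16687 D10477 D21961 D45946 D98258 F86812 (iv1 F110794) D33318 F52552 (iv1 F118895)
theorem F151622 : act 1 n82584 = n98258 := d15_0 (iv0 D98258) F118924 D82584
theorem F151623 : act 7 n54864 = n98258 := d8_0 F151621 (iv7 D54869) (iv3 F86810)
theorem F151624 : act 2 n98258 = n82583 := d4_1 F151623 F151469 F151467
theorem F151625 : act 1 n98180 = n82584 := d15_0 F151622 (iv7 F151623) (iv2 F151467)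
theorem F151626 : act 1 n45946 = n98180 := d15_1 (iv0 D98258) (iv7 F151469) (iv2 F151624)
theorem F151627 : act 4 n77615 = n79337 := d20_0 (iv1 D79337) (iv4 F88735) (iv3 F151468) (iv1 F151626) (iv3 D45946) (iv4 D21961) (iv1 F34346) (iv4 F54842) (iv3 F113405) (iv1 F116513)
def n98259 : Q := act 2 n45946
theorem D98259 : act 2 n45946 = n98259 := rfl
theorem F151628 : act 3 n98259 = n82574 := d0_2 D45946 D98259 (iv2 D82574) (iv3 D37904) F118914
theorem F151629 : act 4 n98259 = n81718 := d1_2 (iv4 F118923) D98259 (iv2 D81718)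
theorem F151630 : act 7 n98259 = n82584 := d4_2 (iv7 F118924) D98259 (iv2 D82584)
theorem F151631 : act 1 n98259 = n54864 := d15_0 (iv0 F118988) (iv7 F118924) D98259
theorem F151632 : act 1 n82583 = n98259 := d15_0 F151631 F151623 F151624
def n98260 : Q := act 5 n45946
theorem D98260 : act 5 n45946 = n98260 := rfl
theorem F151633 : act 3 n98260 = n45947 := d6_1 D98260 (iv5 D45947) D45946
theorem F151634 : act 7 n98260 = n82585 := d13_2 (iv7 F118924) D98260 (iv5 D82585)
def n98261 : Q := act 6 n45946
theorem D98261 : act 6 n45946 = n98261 := rfl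
theorem F151635 : act 3 n98261 = n45948 := d7_1 D98261 (iv6 D45948) D45946
theorem F151636 : act 4 n98261 = n81720 := d10_1 D98261 (iv6 D81720) (iv4 F118923)
def n98262 : Q := act 4 n45947
theorem D98262 : act 4 n45947 = n98262 := rfl
theorem F151637 : act 2 n98262 = n82579 := d1_1 D98262 (iv4 D82579) (iv2 F118925)
theorem F151638 : act 7 n98262 = n82587 := d11_2 (iv7 F118926) D98262 (iv4 D82587)
theorem F151639 : act 5 n98262 = n98252 := d16_1 D98262 F151600 (iv5 F113310) F118917 (iv5 D21967) D21966 D45966 F118911 (iv2 F118925)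
theorem F151640 : act 0 n98262 = n83962 := d18_2 (iv1 F129204) D98262 (iv4 D83962) (iv5 D38672) (iv4 F59485) (iv0 F118936) (iv4 F127220) F127222 (iv5 F129203)
def n98263 : Q := act 6 n45947
theorem D98263 : act 6 n45947 = n98263 := rfl
theorem F151641 : act 2 n98263 = n82580 := d3_1 D98263 (iv6 D82580) (iv2 F118925)
def n98264 : Q := act 1 n45948
theorem D98264 : act 1 n45948 = n98264 := rfl
theorem F151642 : act 1 n98264 = n82582 := d15_1 D98264 (iv7 D82582) (iv2 F118927)
theorem F151643 : act 7 n98264 = n75787 := d15_2 F151528 D98264 (iv2 F151523)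
theorem F151644 : act 4 n98264 = n56794 := d17_9 (iv1 D56794) (iv5 F44784) (iv1 F117739) (iv5 D18246) (iv4 F29431) D38161 D82939 (iv5 F127802) D98264
theorem F151645 : act 6 n75358 = n98264 := d21_3 D45848 D98153 F151384 (iv1 D98264) (iv6 D45948) D45947 (iv1 F128070) (iv5 D83086) (iv6 D38241) (iv1 F59722)
theorem F151646 : act 2 n98264 = n75733 := d3_1 F151645 (iv6 D75733) F113068
theorem F151647 : act 5 n98264 = n83408 := d21_6 (iv5 F127514) (iv1 F127515) (iv5 D38045) D38046 (iv1 F113108) F151645 (iv1 D83408) (iv5 D38421) D38422 (iv1 F127516)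
theorem F151648 : act 1 n83440 = n79519 := d18_6 (iv1 F136120) F136119 (iv1 F151642) F151644 F117783 D83440 (iv4 D79519) D79518 (iv5 F122125)
def n98270 : Q := act 4 n45966
theorem D98270 : act 4 n45966 = n98270 := rfl
theorem F151658 : act 2 n98270 = n82587 := d1_1 D98270 (iv4 D82587) (iv2 F118910)
theorem F151659 : act 5 n98270 = n98251 := d9_2 D45966 D98270 F151596 F113316 F119016 (iv5 D21962) D21961 D45947 D98262 F151639 F151600 (iv5 F113310) F118917 (iv5 D21967) D21966
theorem F151660 : act 7 n98270 = n82579 := d11_2 (iv7 F118911) D98270 (iv4 D82579)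
theorem F151661 : act 1 n98270 = n83962 := d18_6 F118893 F54842 (iv1 F34345) D21966 D45966 D98270 (iv4 D83962) (iv0 F118928) (iv5 D37933)
def n98271 : Q := act 6 n45966
theorem D98271 : act 6 n45966 = n98271 := rfl
def n98272 : Q := act 0 n45967
theorem D98272 : act 0 n45967 = n98272 := rfl
theorem F151663 : act 5 n98272 = n83155 := d17_1 D98272 (iv1 F151298) F151296 F72378 (iv5 F72387) F121902 (iv5 F121903) (iv0 D45969) (iv4 F72544)
theorem F151664 : act 4 n98272 = n75361 := d18_3 F123898 (iv4 F72544) D98272 F113076 D82414 F126965 (iv4 D79323) D79322 (iv5 F121709)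
theorem F151665 : act 2 n75727 = n98272 := d15_3 (iv0 D98272) F118912 D75727
theorem F151666 : act 7 n98272 = n75356 := d4_2 D75727 F151665 (iv2 F113064)
theorem F151667 : act 6 n75763 = n98272 := d14_5 F151666 (iv6 D75356) (iv7 F113017) D34645 D75763
theorem F151668 : act 1 n75725 = n98272 := d15_1 D75725 F151666 (iv2 F113064)
def n98273 : Q := act 7 n45967
theorem D98273 : act 7 n45967 = n98273 := rfl
theorem F151669 : act 2 n98273 = n75725 := d4_1 D98273 F118737 (iv2 F118913)
theorem F151670 : act 4 n98273 = n45972 := d11_1 D98273 (iv7 D45972) (iv4 F72544)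
theorem F151671 : act 6 n98273 = n82582 := d14_1 D98273 (iv7 D82582) (iv6 D37907) F118916 D45967
theorem F151672 : act 1 n75356 = n98273 := d15_1 (iv0 F127204) (iv7 D98273) F118913
theorem F151673 : act 1 n98273 = n75727 := d15_1 F151672 (iv7 D75727) F113064
def n98275 : Q := act 7 n45971
theorem D98275 : act 7 n45971 = n98275 := rfl
theorem F151674 : act 2 n98275 = n98122 := d4_1 D98275 F151300 F135937
theorem F151676 : act 5 n98275 = n45972 := d13_1 D98275 (iv7 D45972) D45971
theorem F151678 : act 1 n79314 = n98275 := d15_1 F135940 (iv7 D98275) (iv2 F135937)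
theorem F151679 : act 1 n98275 = n79319 := d15_1 F151678 F124464 (iv2 F124494)
def n98277 : Q := act 6 n45977
theorem D98277 : act 6 n45977 = n98277 := rfl
theorem F151685 : act 2 n98277 = n46216 := d3_1 D98277 (iv6 D46216) (iv2 F118310)
theorem F151686 : act 7 n98277 = n46243 := d14_2 (iv7 F118311) D98277 (iv6 D46243) (iv7 F118458) F72554
def n98282 : Q := act 2 n45987
theorem D98282 : act 2 n45987 = n98282 := rfl
theorem F151689 : act 3 n98282 = n46256 := d0_2 D45987 D98282 (iv2 D46256) (iv3 D22123) (iv2 F34472)
def n98283 : Q := act 6 n45988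
theorem D98283 : act 6 n45988 = n98283 := rfl
theorem F151693 : act 2 n98283 = n88798 := d3_1 D98283 (iv6 D88798) (iv2 F72561)
theorem F151694 : act 3 n98283 = n45990 := d7_1 D98283 (iv6 D45990) D45988
theorem F151695 : act 4 n98283 = n88590 := d10_1 D98283 (iv6 D88590) (iv4 F72562)
def n98284 : Q := act 4 n45989
theorem D98284 : act 4 n45989 = n98284 := rfl
theorem F151696 : act 2 n98284 = n60250 := d1_1 D98284 (iv4 F136433) F136428
theorem F151697 : act 7 n98284 = n60251 := d11_2 F129798 D98284 (iv4 F129799)
theorem F151698 : act 5 n98284 = n55621 := d16_1 D98284 (iv4 D55621) F43288 (iv4 F46786) (iv5 F55308) F55309 D45991 (iv7 F136430) F136428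
theorem F151699 : act 0 n98284 = n60176 := d17_0 (iv5 F108407) (iv1 F106739) (iv5 F108874) F108876 (iv5 D46669) F65391 (iv5 F136497) F136499 D98284
theorem F151700 : act 1 n98284 = n60252 := d18_6 (iv1 F64300) (iv4 F69245) (iv1 F69247) F68961 D45989 D98284 F94803 (iv0 D37480) D37482
def n98285 : Q := act 6 n45989
theorem D98285 : act 6 n45989 = n98285 := rfl
def n98286 : Q := act 0 n45990
theorem D98286 : act 0 n45990 = n98286 := rfl
def n98287 : Q := act 1 n45990
theorem D98287 : act 1 n45990 = n98287 := rfl
def n98288 : Q := act 5 n45990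
theorem D98288 : act 5 n45990 = n98288 := rfl
def n98289 : Q := act 7 n45990
theorem D98289 : act 7 n45990 = n98289 := rfl
def n98290 : Q := act 4 n45991
theorem D98290 : act 4 n45991 = n98290 := rfl
theorem F151701 : act 2 n98290 = n60251 := d1_1 D98290 (iv4 F129799) F129796
theorem F151702 : act 3 n98290 = n82917 := d5_1 D98290 F127757 (iv3 D38487) D38488 (iv3 F72566)
theorem F151703 : act 5 n98290 = n55623 := d9_2 D45991 D98290 (iv4 D55623) (iv5 F43292) D32043 (iv5 F68960) F68961 D45989 D98284 F151698 (iv4 D55621) F43288 (iv4 F46786) (iv5 F55308) F55309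
theorem F151704 : act 7 n98290 = n60250 := d11_2 F136430 D98290 (iv4 F136433)
theorem F151705 : act 0 n98290 = n60252 := d17_0 (iv5 F108410) (iv1 D70294) D70296 F106742 (iv5 D46667) (iv0 D22377) (iv5 F34498) (iv0 F72567) D98290
theorem F151706 : act 1 n98290 = n60176 := d18_6 F64274 (iv4 F114648) F114647 F55309 D45991 D98290 F94733 F58367 (iv5 F31389)
def n98291 : Q := act 6 n45991
theorem D98291 : act 6 n45991 = n98291 := rfl
theorem F151707 : act 3 n98291 = n83482 := d7_1 D98291 (iv6 D83482) (iv3 F72566)
def n98292 : Q := act 0 n45992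
theorem D98292 : act 0 n45992 = n98292 := rfl
def n98293 : Q := act 1 n45992
theorem D98293 : act 1 n45992 = n98293 := rfl
def n98294 : Q := act 5 n45992
theorem D98294 : act 5 n45992 = n98294 := rfl
def n98295 : Q := act 7 n45992
theorem D98295 : act 7 n45992 = n98295 := rfl
def n98296 : Q := act 6 n45993
theorem D98296 : act 6 n45993 = n98296 := rfl
def n98297 : Q := act 5 n45994
theorem D98297 : act 5 n45994 = n98297 := rfl
theorem F151710 : act 2 n98297 = n46001 := d2_1 D98297 (iv5 D46001) (iv2 F72570)
theorem F151711 : act 3 n98297 = n87540 := d6_1 D98297 (iv5 D87540) (iv3 F72571)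
def n98298 : Q := act 4 n45995
theorem D98298 : act 4 n45995 = n98298 := rfl
theorem F151712 : act 2 n98298 = n72380 := d1_1 D98298 F108876 F73761
theorem F151713 : act 7 n98298 = n70296 := d11_2 F73757 D98298 F106742
theorem F151714 : act 5 n98298 = n54376 := d16_1 D98298 (iv4 D54376) (iv5 D26288) (iv4 F27786) D34938 F65381 (iv5 F72574) (iv7 F73762) F73761
theorem F151715 : act 0 n98298 = n70723 := d18_2 D45995 D98298 F107184 (iv5 F64271) (iv4 F114648) F114649 F68961 (iv0 D21974) D21977
theorem F151716 : act 1 n98298 = n72381 := d18_6 (iv1 F35233) (iv4 F65135) F68208 F68207 (iv5 F72573) D98298 F108879 (iv0 D37566) F30970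
def n98299 : Q := act 6 n45995
theorem D98299 : act 6 n45995 = n98299 := rfl
def n98300 : Q := act 4 n45996
theorem D98300 : act 4 n45996 = n98300 := rfl
theorem F151717 : act 2 n98300 = n70296 := d1_1 D98300 F106742 F73755
theorem F151718 : act 3 n98300 = n75378 := d5_1 D98300 F113138 (iv3 D45906) D45907 F72575
theorem F151719 : act 5 n98300 = n55619 := d9_2 (iv5 F72574) D98300 (iv4 D55619) (iv5 D26856) D26855 (iv5 F68205) F68207 (iv5 F72573) D98298 F151714 (iv4 D54376) (iv5 D26288) (iv4 F27786) D34938 F65381
theorem F151720 : act 7 n98300 = n72380 := d11_2 F73762 D98300 F108876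
theorem F151721 : act 0 n98300 = n72381 := d18_2 (iv1 F73830) D98300 F108879 (iv5 F64302) (iv4 F69245) (iv0 F69246) F55309 F64048 (iv5 F73827)
theorem F151722 : act 1 n98300 = n70723 := d18_6 F35163 D47064 F74309 F65381 (iv5 F72574) D98300 F107184 F58451 (iv5 D22675)
def n98301 : Q := act 6 n45996
theorem D98301 : act 6 n45996 = n98301 := rfl
theorem F151723 : act 3 n98301 = n98216 := d7_1 D98301 (iv6 D98216) F72575
def n98302 : Q := act 6 n45997
theorem D98302 : act 6 n45997 = n98302 := rfl
theorem F151724 : act 4 n98302 = n45998 := d10_1 D98302 (iv6 D45998) D45997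
def n98303 : Q := act 0 n45998
theorem D98303 : act 0 n45998 = n98303 := rfl
def n98304 : Q := act 1 n45998
theorem D98304 : act 1 n45998 = n98304 := rfl
def n98305 : Q := act 5 n45998
theorem D98305 : act 5 n45998 = n98305 := rfl
theorem F151725 : act 3 n98305 = n46004 := d6_1 D98305 (iv5 D46004) (iv3 F72578)
theorem F151726 : act 6 n98305 = n46001 := d12_2 D45998 D98305 (iv5 D46001) (iv6 D21978) D21977
def n98306 : Q := act 7 n45998
theorem D98306 : act 7 n45998 = n98306 := rfl
theorem F151727 : act 3 n98306 = n46005 := d8_1 D98306 (iv7 D46005) (iv3 F72578)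
def n98307 : Q := act 3 n45999
theorem D98307 : act 3 n45999 = n98307 := rfl
theorem F151728 : act 7 n98307 = n88827 := d8_2 (iv7 F145300) D98307 (iv3 F137203)
theorem F151729 : act 4 n98307 = n88810 := d20_6 D19643 F58698 (iv4 F16693) (iv3 F34479) D45999 D98307 (iv1 F136195) F63918 F63917 (iv1 F31267)
theorem F151730 : act 2 n88822 = n98307 := d1_3 F151729 F147452 D88822
theorem F151731 : act 1 n89510 = n88827 := d15_1 (iv0 F137224) (iv7 F151728) (iv2 F151730)
def n98308 : Q := act 4 n45999
theorem D98308 : act 4 n45999 = n98308 := rfl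
theorem F151732 : act 2 n98308 = n94257 := d1_1 D98308 F145349 (iv2 F145302)
theorem F151733 : act 7 n98308 = n94236 := d11_2 (iv7 F145300) D98308 F145298
theorem F151734 : act 3 n98308 = n94228 := d20_3 (iv4 F34480) D45999 D98308 (iv1 F145289) F69361 F33098 (iv1 F32437) (iv4 F63550) D42130 F65052
def n98309 : Q := act 5 n45999
theorem D98309 : act 5 n45999 = n98309 := rfl
def n98310 : Q := act 6 n45999
theorem D98310 : act 6 n45999 = n98310 := rfl
def n98311 : Q := act 3 n46000
theorem D98311 : act 3 n46000 = n98311 := rfl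
def n98312 : Q := act 5 n46000
theorem D98312 : act 5 n46000 = n98312 := rfl
def n98313 : Q := act 6 n46000
theorem D98313 : act 6 n46000 = n98313 := rfl
def n98314 : Q := act 0 n46001
theorem D98314 : act 0 n46001 = n98314 := rfl
def n98315 : Q := act 1 n46001
theorem D98315 : act 1 n46001 = n98315 := rfl
def n98316 : Q := act 4 n46001
theorem D98316 : act 4 n46001 = n98316 := rfl
def n98317 : Q := act 2 n46002
theorem D98317 : act 2 n46002 = n98317 := rfl
theorem F151735 : act 7 n46003 = n98317 := d15_2 (iv0 D46002) D46003 (iv2 D98317)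
def n98319 : Q := act 4 n46002
theorem D98319 : act 4 n46002 = n98319 := rfl
def n98320 : Q := act 5 n46002
theorem D98320 : act 5 n46002 = n98320 := rfl
def n98321 : Q := act 6 n46002
theorem D98321 : act 6 n46002 = n98321 := rfl
def n98324 : Q := act 4 n46003
theorem D98324 : act 4 n46003 = n98324 := rfl
def n98325 : Q := act 5 n46003
theorem D98325 : act 5 n46003 = n98325 := rfl
def n98326 : Q := act 6 n46003
theorem D98326 : act 6 n46003 = n98326 := rfl
def n98327 : Q := act 0 n46004
theorem D98327 : act 0 n46004 = n98327 := rfl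
def n98328 : Q := act 1 n46004
theorem D98328 : act 1 n46004 = n98328 := rfl
def n98329 : Q := act 4 n46004
theorem D98329 : act 4 n46004 = n98329 := rfl
theorem F151737 : act 6 n98329 = n46007 := d10_2 (iv6 F72580) D98329 (iv4 D46007)
def n98330 : Q := act 7 n46004
theorem D98330 : act 7 n46004 = n98330 := rfl
theorem F151738 : act 5 n98330 = n46005 := d13_1 D98330 (iv7 D46005) D46004
def n98331 : Q := act 3 n46006
theorem D98331 : act 3 n46006 = n98331 := rfl
theorem F151739 : act 5 n98331 = n46628 := d6_2 (iv5 F72581) D98331 (iv3 D46628)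
theorem F151740 : act 7 n98331 = n47605 := d8_2 (iv7 F72583) D98331 F74859
def n98332 : Q := act 6 n46006
theorem D98332 : act 6 n46006 = n98332 := rfl
theorem F151741 : act 2 n98332 = n47567 := d3_1 D98332 (iv6 D47567) F72582
def n98333 : Q := act 3 n46007
theorem D98333 : act 3 n46007 = n98333 := rfl
def n98334 : Q := act 5 n46008
theorem D98334 : act 5 n46008 = n98334 := rfl
theorem F151742 : act 2 n98334 = n86937 := d2_1 D98334 (iv5 D86937) (iv2 F72586)
theorem F151743 : act 3 n98334 = n87365 := d6_1 D98334 (iv5 D87365) (iv3 F72587)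
def n98335 : Q := act 0 n46009
theorem D98335 : act 0 n46009 = n98335 := rfl
theorem F151744 : act 4 n98335 = n95613 := d20_2 (iv4 F72589) D98335 F147280 (iv1 F147289) (iv3 F149554) F149555 (iv1 F114637) (iv4 F138034) F149814 (iv1 D97100)
theorem F151745 : act 2 n46012 = n98335 := d15_3 (iv0 D98335) F72598 F72593
theorem F151746 : act 3 n98335 = n87009 := d0_2 (iv3 F72591) F151745 (iv2 D87009) (iv3 D40406) (iv2 F63445)
theorem F151747 : act 7 n98335 = n46013 := d4_2 F72593 F151745 F149747
theorem F151748 : act 1 n46015 = n98335 := d15_1 (iv0 F72597) F151747 F149747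
theorem E14793 : n89467 = n89391 := (c20_11 (iv4 D89391) (iv1 F136224) F136222 (iv3 F151746) (iv1 F151748) F72595 (iv4 F61670) (iv1 F61673) F61803 D41775 D89467)
theorem F151749 : act 1 n89391 = n41775 := (sb E14793 (iv0 D89467))
def n98336 : Q := act 5 n46009
theorem D98336 : act 5 n46009 = n98336 := rfl
theorem F151750 : act 2 n98336 = n46014 := d2_1 D98336 (iv5 D46014) (iv2 F72588)
theorem F151751 : act 0 n88376 = n98336 := d21_7 D40746 F64073 F64070 D46423 F73263 (iv6 F63569) D88376 (iv5 D98336) (iv6 D46009) (iv1 F34490)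
theorem F151752 : act 0 n87543 = n89068 := d21_7 D88376 F151751 (iv5 D98336) (iv6 D46009) (iv1 F34490) D40747 D87543 F136759 (iv6 F135337) (iv1 D88374)
theorem E14794 : n96015 = n95965 := (c17_7 (iv1 F72657) D87543 F151752 F136759 (iv4 F76239) F76240 D96015 (iv5 D95965) F147158 F147154)
theorem F151753 : act 0 n95965 = n44805 := (sb E14794 (iv1 D96015))
def n98337 : Q := act 7 n46009
theorem D98337 : act 7 n46009 = n98337 := rfl
theorem F151754 : act 2 n98337 = n46015 := d4_1 D98337 (iv7 D46015) (iv2 F72588)
theorem F151755 : act 4 n98337 = n97102 := d11_1 D98337 (iv7 D97102) (iv4 F72589)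
theorem F151756 : act 6 n98337 = n87541 := d14_1 D98337 (iv7 D87541) (iv6 D40745) (iv7 F34488) D46009
theorem F151757 : act 1 n46013 = n98337 := d15_1 D46013 (iv7 D98337) F72588
theorem F151758 : act 1 n98337 = n46012 := d15_1 F151757 (iv7 F72593) (iv2 F149747)
def n98338 : Q := act 0 n46010
theorem D98338 : act 0 n46010 = n98338 := rfl
theorem F151759 : act 4 n98338 = n86392 := d18_3 F51886 D46010 D98338 F132433 (iv4 D47789) (iv0 D22997) (iv4 F34682) F34940 (iv5 F51885)
theorem F151760 : act 5 n98338 = n76561 := d19_1 D98338 F114810 (iv3 D60033) (iv1 F51790) (iv5 F94768) F94769 (iv3 F90156) F94771 (iv5 D57216) (iv4 F56830) (iv3 D36087) (iv1 F28458) D17469 (iv4 F43702) F72443 (iv1 D45875) (iv5 F59162) D83197 F128272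
theorem F151761 : act 1 n87536 = n98338 := d15_0 (iv0 D98338) (iv7 F73842) (iv2 F134435)
theorem F151762 : act 3 n56915 = n98338 := d6_3 F151760 (iv3 D76561) (iv5 F89974)
theorem F151763 : act 7 n87493 = n98338 := d13_0 F151760 F114811 (iv5 F134359)
def n98339 : Q := act 1 n46010
theorem D98339 : act 1 n46010 = n98339 := rfl
theorem F151764 : act 1 n98339 = n87536 := d15_1 D98339 (iv7 F134889) F134888
theorem F151765 : act 4 n98339 = n46522 := d18_7 F132440 F63904 (iv1 D21657) (iv4 F16694) D21986 D46010 D98339 (iv0 F73520) D86393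
theorem F151766 : act 3 n79156 = n98339 := d20_3 (iv4 F149219) F149218 F125419 (iv1 D98339) (iv3 F128272) (iv4 D83197) (iv1 F59165) D80256 (iv3 F132391) (iv1 F132396)
theorem F151767 : act 2 n98339 = n87493 := d0_1 F151766 (iv3 D87493) F89981 F121926 (iv2 F121925)
theorem F151768 : act 5 n98339 = n79155 := d6_2 D79156 F151766 (iv3 D79155)
def n98340 : Q := act 5 n46010
theorem D98340 : act 5 n46010 = n98340 := rfl
theorem F151769 : act 2 n98340 = n88105 := d2_1 D98340 F135086 F134888
theorem F151770 : act 3 n98340 = n57447 := d6_1 D98340 F128275 F128272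
def n98341 : Q := act 6 n46010
theorem D98341 : act 6 n46010 = n98341 := rfl
theorem F151771 : act 4 n98341 = n46011 := d10_1 D98341 (iv6 D46011) D46010
def n98342 : Q := act 0 n46011
theorem D98342 : act 0 n46011 = n98342 := rfl
def n98343 : Q := act 1 n46011
theorem D98343 : act 1 n46011 = n98343 := rfl
def n98344 : Q := act 5 n46011
theorem D98344 : act 5 n46011 = n98344 := rfl
theorem F151772 : act 3 n98344 = n46018 := d6_1 D98344 (iv5 D46018) (iv3 F72590)
theorem F151773 : act 6 n98344 = n46014 := d12_2 D46011 D98344 (iv5 D46014) (iv6 D21987) D21986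
def n98345 : Q := act 7 n46011
theorem D98345 : act 7 n46011 = n98345 := rfl
theorem F151774 : act 3 n98345 = n46019 := d8_1 D98345 (iv7 D46019) (iv3 F72590)
def n98346 : Q := act 5 n46012
theorem D98346 : act 5 n46012 = n98346 := rfl
theorem F151775 : act 3 n98346 = n86913 := d6_1 D98346 (iv5 D86913) (iv3 F72591)
theorem F151776 : act 7 n98346 = n87026 := d13_2 F72593 D98346 (iv5 D87026)
def n98347 : Q := act 5 n46013
theorem D98347 : act 5 n46013 = n98347 := rfl
theorem F151777 : act 2 n98347 = n87026 := d2_1 D98347 (iv5 D87026) (iv2 F149747)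
def n98348 : Q := act 6 n46013
theorem D98348 : act 6 n46013 = n98348 := rfl
theorem F151778 : act 2 n98348 = n87027 := d3_1 D98348 (iv6 D87027) (iv2 F149747)
def n98349 : Q := act 0 n46014
theorem D98349 : act 0 n46014 = n98349 := rfl
def n98350 : Q := act 1 n46014
theorem D98350 : act 1 n46014 = n98350 := rfl
theorem F151779 : act 5 n88375 = n98350 := d21_6 D19226 D40748 F64075 D40999 (iv1 F134638) (iv6 F135342) (iv1 D98350) (iv5 D46014) (iv6 D21987) F16695
theorem F151780 : act 2 n98350 = n88376 := d2_1 F151779 (iv5 D88376) D88375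
def n98351 : Q := act 4 n46014
theorem D98351 : act 4 n46014 = n98351 := rfl
def n98352 : Q := act 7 n46014
theorem D98352 : act 7 n46014 = n98352 := rfl
theorem F151781 : act 3 n98352 = n46023 := d8_1 D98352 (iv7 D46023) (iv3 F72594)
theorem F151782 : act 5 n98352 = n46015 := d13_1 D98352 (iv7 D46015) D46014
theorem F151783 : act 1 n88376 = n98352 := d15_1 (iv0 F151751) (iv7 D98352) (iv2 F151750)
def n98353 : Q := act 2 n46016
theorem D98353 : act 2 n46016 = n98353 := rfl
theorem F151784 : act 7 n46017 = n98353 := d15_2 (iv0 D46016) D46017 (iv2 D98353)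
def n98354 : Q := act 3 n46016
theorem D98354 : act 3 n46016 = n98354 := rfl
def n98355 : Q := act 4 n46016
theorem D98355 : act 4 n46016 = n98355 := rfl
def n98356 : Q := act 5 n46016
theorem D98356 : act 5 n46016 = n98356 := rfl
def n98357 : Q := act 6 n46016
theorem D98357 : act 6 n46016 = n98357 := rfl
def n98358 : Q := act 7 n46016
theorem D98358 : act 7 n46016 = n98358 := rfl
theorem F151785 : act 2 n98358 = n46017 := d4_1 D98358 F151784 (iv2 D98353)
def n98359 : Q := act 3 n46017
theorem D98359 : act 3 n46017 = n98359 := rfl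
def n98360 : Q := act 4 n46017
theorem D98360 : act 4 n46017 = n98360 := rfl
def n98361 : Q := act 5 n46017
theorem D98361 : act 5 n46017 = n98361 := rfl
def n98362 : Q := act 6 n46017
theorem D98362 : act 6 n46017 = n98362 := rfl
def n98363 : Q := act 0 n46018
theorem D98363 : act 0 n46018 = n98363 := rfl
def n98364 : Q := act 1 n46018
theorem D98364 : act 1 n46018 = n98364 := rfl
def n98365 : Q := act 4 n46018
theorem D98365 : act 4 n46018 = n98365 := rfl
theorem F151786 : act 6 n98365 = n46022 := d10_2 (iv6 F72599) D98365 (iv4 D46022)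
def n98366 : Q := act 7 n46018
theorem D98366 : act 7 n46018 = n98366 := rfl
theorem F151787 : act 5 n98366 = n46019 := d13_1 D98366 (iv7 D46019) D46018
def n98367 : Q := act 3 n46020
theorem D98367 : act 3 n46020 = n98367 := rfl
def n98368 : Q := act 6 n46020
theorem D98368 : act 6 n46020 = n98368 := rfl
def n98369 : Q := act 3 n46021
theorem D98369 : act 3 n46021 = n98369 := rfl
theorem F151788 : act 5 n98369 = n97994 := d6_2 F72600 D98369 F151068
theorem F151789 : act 0 n98369 = n46265 := d21_7 (iv5 F44590) (iv1 F44593) F44595 D22507 F72173 D97994 (iv5 F151788) (iv5 D46265) (iv6 D22127) (iv1 F31357)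
theorem F151790 : act 1 n76420 = n88503 := d17_8 F151070 (iv5 F151788) F151789 (iv5 D46265) F55274 (iv5 D34917) D34916 D76420 F135491
theorem E14795 : n94334 = n94226 := ((c21_7 (iv5 D76420) (iv1 D34916) D34917 F55273 (iv1 F33092) D44048 D94226 (iv1 D94334) (iv5 F143213) F143214 (iv1 F151790))).symm
theorem F151791 : act 0 n94226 = n44095 := (sb E14795 (iv1 D94334))
theorem F151792 : act 5 n94337 = n76397 := d21_6 (iv5 D48740) (iv1 F47721) D62765 (iv6 F145277) F151791 D94337 (iv1 D76397) D76398 F114535 (iv1 F76751)
theorem F151793 : act 3 n76397 = n94344 := d6_1 F151792 (iv5 D94344) (iv3 F145471)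
def n98370 : Q := act 6 n46021
theorem D98370 : act 6 n46021 = n98370 := rfl
theorem F151794 : act 5 n98370 = n97997 := d12_1 D98370 (iv6 D97997) (iv5 D45739) D45740 F72600
def n98371 : Q := act 0 n46022
theorem D98371 : act 0 n46022 = n98371 := rfl
theorem F151795 : act 4 n98371 = n88599 := d18_3 (iv1 D46021) D46022 D98371 (iv5 F140584) (iv4 D91403) F134006 F66071 (iv0 F135786) F72600
theorem F151796 : act 2 n89476 = n98371 := d1_3 F151795 (iv2 F135762) D89476
def n98372 : Q := act 1 n46022
theorem D98372 : act 1 n46022 = n98372 := rfl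
theorem F151798 : act 7 n98372 = n89476 := d15_2 (iv0 D98371) D98372 F151796
theorem F151799 : act 4 n98372 = n47480 := d18_7 (iv1 F63713) (iv4 F63715) (iv1 D40541) F30773 D21991 D46022 D98372 (iv0 F74664) (iv5 D41771)
theorem F151800 : act 2 n89479 = n98372 := d1_3 F151799 F74661 D89479
def n98373 : Q := act 3 n46022
theorem D98373 : act 3 n46022 = n98373 := rfl
def n98374 : Q := act 5 n46022
theorem D98374 : act 5 n46022 = n98374 := rfl
def n98375 : Q := act 7 n46022
theorem D98375 : act 7 n46022 = n98375 := rfl
theorem F151801 : act 4 n98375 = n46023 := d11_1 D98375 (iv7 D46023) D46022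
theorem F151802 : act 1 n89479 = n98375 := d15_1 (iv0 F137143) (iv7 D98375) (iv2 F136467)
theorem F151803 : act 1 n98375 = n89476 := d15_1 F151802 (iv7 F151798) (iv2 F151800)
def n98376 : Q := act 6 n46023
theorem D98376 : act 6 n46023 = n98376 := rfl
def n98377 : Q := act 6 n46024
theorem D98377 : act 6 n46024 = n98377 := rfl
theorem F151804 : act 2 n98377 = n88805 := d3_1 D98377 (iv6 D88805) F72603
theorem F151805 : act 3 n98377 = n87334 := d7_1 D98377 (iv6 D87334) F72606
theorem F151806 : act 4 n98377 = n88589 := d10_1 D98377 (iv6 D88589) (iv4 F72602)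
def n98378 : Q := act 6 n46025
theorem D98378 : act 6 n46025 = n98378 := rfl
theorem F151807 : act 2 n98378 = n46026 := d3_1 D98378 (iv6 D46026) D46025
theorem F151808 : act 3 n98378 = n70662 := d7_1 D98378 (iv6 D70662) (iv3 F72607)
theorem F151809 : act 4 n98378 = n46026 := d10_1 D98378 (iv6 D46026) (iv4 F72610)
def n98379 : Q := act 0 n46026
theorem D98379 : act 0 n46026 = n98379 := rfl
def n98380 : Q := act 1 n46026
theorem D98380 : act 1 n46026 = n98380 := rfl
def n98381 : Q := act 5 n46026
theorem D98381 : act 5 n46026 = n98381 := rfl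
theorem F151810 : act 3 n98381 = n46029 := d6_1 D98381 (iv5 D46029) (iv3 F72612)
def n98382 : Q := act 7 n46026
theorem D98382 : act 7 n46026 = n98382 := rfl
theorem F151811 : act 3 n98382 = n46030 := d8_1 D98382 (iv7 D46030) (iv3 F72612)
def n98383 : Q := act 2 n46027
theorem D98383 : act 2 n46027 = n98383 := rfl
theorem F151812 : act 7 n46028 = n98383 := d15_2 (iv0 D46027) D46028 (iv2 D98383)
def n98387 : Q := act 6 n46027
theorem D98387 : act 6 n46027 = n98387 := rfl
def n98388 : Q := act 7 n46027
theorem D98388 : act 7 n46027 = n98388 := rfl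
theorem F151813 : act 2 n98388 = n46028 := d4_1 D98388 F151812 (iv2 D98383)
def n98389 : Q := act 3 n46028
theorem D98389 : act 3 n46028 = n98389 := rfl
def n98390 : Q := act 4 n46028
theorem D98390 : act 4 n46028 = n98390 := rfl
def n98391 : Q := act 5 n46028
theorem D98391 : act 5 n46028 = n98391 := rfl
def n98392 : Q := act 6 n46028
theorem D98392 : act 6 n46028 = n98392 := rfl
def n98393 : Q := act 0 n46029
theorem D98393 : act 0 n46029 = n98393 := rfl
def n98394 : Q := act 1 n46029
theorem D98394 : act 1 n46029 = n98394 := rfl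
theorem F151814 : act 5 n84682 = n98394 := d21_6 F13630 (iv1 D8725) D8726 D18571 D39115 D84682 (iv1 D98394) (iv5 D46029) (iv6 D21994) (iv1 D10488)
def n98395 : Q := act 4 n46029
theorem D98395 : act 4 n46029 = n98395 := rfl
def n98396 : Q := act 7 n46029
theorem D98396 : act 7 n46029 = n98396 := rfl
theorem F151815 : act 5 n98396 = n46030 := d13_1 D98396 (iv7 D46030) D46029
def n98397 : Q := act 2 n46031
theorem D98397 : act 2 n46031 = n98397 := rfl
theorem F151816 : act 4 n98397 = n88925 := d1_2 F72620 D98397 (iv2 D88925)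
def n98398 : Q := act 3 n46031
theorem D98398 : act 3 n46031 = n98398 := rfl
def n98399 : Q := act 5 n46031
theorem D98399 : act 5 n46031 = n98399 := rfl
def n98400 : Q := act 6 n46031
theorem D98400 : act 6 n46031 = n98400 := rfl
theorem F151818 : act 4 n98400 = n88927 := d10_1 D98400 (iv6 D88927) F72620
def n98401 : Q := act 7 n46031
theorem D98401 : act 7 n46031 = n98401 := rfl
def n98402 : Q := act 5 n46032
theorem D98402 : act 5 n46032 = n98402 := rfl
def n98403 : Q := act 6 n46032
theorem D98403 : act 6 n46032 = n98403 := rfl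
theorem F151821 : act 4 n98403 = n88931 := d10_1 D98403 (iv6 D88931) (iv4 F72615)
def n98404 : Q := act 0 n46033
theorem D98404 : act 0 n46033 = n98404 := rfl
def n98405 : Q := act 1 n46033
theorem D98405 : act 1 n46033 = n98405 := rfl
theorem F151823 : act 5 n46704 = n98405 := d21_6 (iv5 D18006) (iv1 F17200) (iv5 D10655) D10656 D22396 D46704 (iv1 D98405) (iv5 D46033) (iv6 D21995) (iv1 F29170)
def n98406 : Q := act 4 n46033
theorem D98406 : act 4 n46033 = n98406 := rfl
theorem F151824 : act 2 n98406 = n46047 := d1_1 D98406 (iv4 D46047) (iv2 F72616)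
def n98407 : Q := act 7 n46033
theorem D98407 : act 7 n46033 = n98407 := rfl
theorem F151825 : act 2 n98407 = n46048 := d4_1 D98407 (iv7 D46048) (iv2 F72616)
theorem F151826 : act 5 n98407 = n46034 := d13_1 D98407 (iv7 D46034) D46033
theorem F151828 : act 1 n46046 = n98407 := d15_1 D46046 (iv7 D98407) F72616
theorem F151829 : act 1 n98407 = n46045 := d15_0 (iv0 D46045) D46048 (iv2 F151825)
def n98408 : Q := act 0 n46035
theorem D98408 : act 0 n46035 = n98408 := rfl
theorem F151830 : act 1 n46040 = n98408 := d15_0 (iv0 D98408) (iv7 F72623) (iv2 F72626)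
def n98410 : Q := act 3 n46035
theorem D98410 : act 3 n46035 = n98410 := rfl
theorem F151832 : act 7 n98410 = n46041 := d8_2 F72623 D98410 (iv3 D46041)
def n98411 : Q := act 4 n46035
theorem D98411 : act 4 n46035 = n98411 := rfl
theorem F151833 : act 2 n98411 = n46037 := d1_1 D98411 (iv4 D46037) D46035
theorem F151834 : act 7 n98411 = n46042 := d11_2 F72623 D98411 (iv4 D46042)
def n98412 : Q := act 5 n46035
theorem D98412 : act 5 n46035 = n98412 := rfl
theorem F151835 : act 2 n98412 = n46038 := d2_1 D98412 (iv5 D46038) D46035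
theorem F151836 : act 7 n98412 = n46043 := d13_2 F72623 D98412 (iv5 D46043)
def n98413 : Q := act 6 n46035
theorem D98413 : act 6 n46035 = n98413 := rfl
theorem F151837 : act 2 n98413 = n46039 := d3_1 D98413 (iv6 D46039) D46035
def n98414 : Q := act 2 n46036
theorem D98414 : act 2 n46036 = n98414 := rfl
theorem F151838 : act 7 n86918 = n98414 := d15_2 (iv0 F72625) D86918 (iv2 D98414)
def n98415 : Q := act 5 n46036
theorem D98415 : act 5 n46036 = n98415 := rfl
theorem F151839 : act 3 n98415 = n46038 := d6_1 D98415 (iv5 D46038) D46036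
def n98416 : Q := act 6 n46036
theorem D98416 : act 6 n46036 = n98416 := rfl
theorem F151840 : act 3 n98416 = n46039 := d7_1 D98416 (iv6 D46039) D46036
def n98417 : Q := act 7 n46036
theorem D98417 : act 7 n46036 = n98417 := rfl
theorem F151841 : act 2 n98417 = n86918 := d4_1 D98417 F151838 (iv2 D98414)
theorem F151842 : act 3 n98417 = n46040 := d8_1 D98417 (iv7 D46040) D46036
def n98418 : Q := act 3 n46037
theorem D98418 : act 3 n46037 = n98418 := rfl
def n98419 : Q := act 5 n46037
theorem D98419 : act 5 n46037 = n98419 := rfl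
def n98420 : Q := act 6 n46037
theorem D98420 : act 6 n46037 = n98420 := rfl
theorem F151843 : act 4 n98420 = n46039 := d10_1 D98420 (iv6 D46039) D46037
theorem F151844 : act 5 n98420 = n46711 := d21_6 (iv5 D8726) D8724 (iv5 F29199) D37592 (iv1 F126455) D98420 (iv1 D46711) (iv5 D22398) (iv6 D10656) F13631
def n98421 : Q := act 7 n46037
theorem D98421 : act 7 n46037 = n98421 := rfl
theorem F151845 : act 2 n98421 = n46042 := d4_1 D98421 (iv7 F151834) F151833
theorem F151846 : act 4 n98421 = n46040 := d11_1 D98421 (iv7 D46040) D46037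
def n98422 : Q := act 0 n46038
theorem D98422 : act 0 n46038 = n98422 := rfl
def n98423 : Q := act 1 n46038
theorem D98423 : act 1 n46038 = n98423 := rfl
theorem F151847 : act 1 n98423 = n46043 := d15_1 D98423 (iv7 F151836) F151835
def n98424 : Q := act 4 n46038
theorem D98424 : act 4 n46038 = n98424 := rfl
def n98425 : Q := act 6 n46038
theorem D98425 : act 6 n46038 = n98425 := rfl
def n98426 : Q := act 7 n46038
theorem D98426 : act 7 n46038 = n98426 := rfl
theorem F151848 : act 2 n98426 = n46043 := d4_1 D98426 (iv7 F151836) F151835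
theorem F151849 : act 5 n98426 = n46040 := d13_1 D98426 (iv7 D46040) D46038
theorem F151850 : act 1 n46043 = n98422 := d15_0 (iv0 D98422) D98426 F151848
def n98427 : Q := act 0 n46039
theorem D98427 : act 0 n46039 = n98427 := rfl
def n98428 : Q := act 1 n46039
theorem D98428 : act 1 n46039 = n98428 := rfl
def n98429 : Q := act 5 n46039
theorem D98429 : act 5 n46039 = n98429 := rfl
theorem F151851 : act 0 n98429 = n84676 := d21_7 (iv5 F21988) F21989 (iv5 F13630) D10490 D21996 D46039 D98429 (iv5 D84676) (iv6 D39114) (iv1 F29816)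
def n98430 : Q := act 7 n46039
theorem D98430 : act 7 n46039 = n98430 := rfl
def n98431 : Q := act 6 n46040
theorem D98431 : act 6 n46040 = n98431 := rfl
theorem F151852 : act 2 n98431 = n46044 := d3_1 D98431 (iv6 D46044) (iv2 F72626)
def n98432 : Q := act 0 n46041
theorem D98432 : act 0 n46041 = n98432 := rfl
theorem F151853 : act 4 n98432 = n89078 := d20_0 (iv1 F136785) F69633 (iv3 D44254) (iv1 F33276) D44290 F69701 F72627 (iv4 D46042) D46041 D98432
def n98433 : Q := act 1 n46041
theorem D98433 : act 1 n46041 = n98433 := rfl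
def n98434 : Q := act 2 n46041
theorem D98434 : act 2 n46041 = n98434 := rfl
theorem F151855 : act 3 n98434 = n86918 := d0_2 D46041 D98434 (iv2 F151841) F151842 F72626
theorem F151856 : act 4 n46041 = n98434 := d5_0 F151855 (iv4 F134128) F134127 (iv4 D46042) D46041
theorem F151857 : act 4 n89079 = n98433 := d20_0 (iv1 D98433) F151856 F151855 (iv1 D86918) F61395 F30609 (iv1 F62561) D21044 D44254 (iv1 F136786)
theorem F151858 : act 3 n98433 = n46078 := d20_3 F69633 (iv1 F136786) F151857 (iv1 F136747) F136744 (iv4 F147154) (iv1 F147158) D95964 F147596 (iv1 F136785)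
def n98435 : Q := act 5 n46041
theorem D98435 : act 5 n46041 = n98435 := rfl
theorem F151859 : act 3 n98435 = n46043 := d6_1 D98435 (iv5 D46043) D46041
def n98436 : Q := act 6 n46041
theorem D98436 : act 6 n46041 = n98436 := rfl
theorem F151860 : act 3 n98436 = n46044 := d7_1 D98436 (iv6 D46044) D46041
def n98437 : Q := act 5 n46042
theorem D98437 : act 5 n46042 = n98437 := rfl
def n98438 : Q := act 6 n46042
theorem D98438 : act 6 n46042 = n98438 := rfl
theorem F151861 : act 4 n98438 = n46044 := d10_1 D98438 (iv6 D46044) D46042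
def n98439 : Q := act 4 n46043
theorem D98439 : act 4 n46043 = n98439 := rfl
def n98440 : Q := act 6 n46043
theorem D98440 : act 6 n46043 = n98440 := rfl
def n98441 : Q := act 0 n46044
theorem D98441 : act 0 n46044 = n98441 := rfl
def n98442 : Q := act 1 n46044
theorem D98442 : act 1 n46044 = n98442 := rfl
def n98443 : Q := act 5 n46044
theorem D98443 : act 5 n46044 = n98443 := rfl
theorem F151862 : act 0 n84681 = n98443 := d21_1 D84681 (iv5 D98443) (iv6 D46044) (iv1 D21997) (iv6 D10490) F13630 (iv1 D8725) D8726 D18571 D39115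
def n98444 : Q := act 7 n46044
theorem D98444 : act 7 n46044 = n98444 := rfl
def n98445 : Q := act 2 n46045
theorem D98445 : act 2 n46045 = n98445 := rfl
theorem F151863 : act 7 n46046 = n98445 := d15_2 (iv0 D46045) D46046 (iv2 D98445)
def n98446 : Q := act 3 n46045
theorem D98446 : act 3 n46045 = n98446 := rfl
def n98447 : Q := act 4 n46045
theorem D98447 : act 4 n46045 = n98447 := rfl
def n98448 : Q := act 5 n46045
theorem D98448 : act 5 n46045 = n98448 := rfl
def n98449 : Q := act 6 n46045
theorem D98449 : act 6 n46045 = n98449 := rfl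
def n98450 : Q := act 7 n46045
theorem D98450 : act 7 n46045 = n98450 := rfl
theorem F151864 : act 2 n98450 = n46046 := d4_1 D98450 F151863 (iv2 D98445)
def n98451 : Q := act 3 n46046
theorem D98451 : act 3 n46046 = n98451 := rfl
def n98453 : Q := act 5 n46046
theorem D98453 : act 5 n46046 = n98453 := rfl
theorem F151865 : act 6 n46692 = n98453 := d21_5 (iv5 D8509) D8507 F17204 D22394 D46692 (iv5 D98453) (iv1 D46046) (iv5 D21998) (iv6 D10490) F13279
def n98454 : Q := act 6 n46046
theorem D98454 : act 6 n46046 = n98454 := rfl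
def n98455 : Q := act 0 n46047
theorem D98455 : act 0 n46047 = n98455 := rfl
def n98456 : Q := act 1 n46047
theorem D98456 : act 1 n46047 = n98456 := rfl
def n98457 : Q := act 3 n46047
theorem D98457 : act 3 n46047 = n98457 := rfl
theorem F151866 : act 4 n98457 = n46107 := d5_2 D46047 D98457 (iv3 D46107) (iv4 D22020) (iv3 F34496)
def n98458 : Q := act 5 n46047
theorem D98458 : act 5 n46047 = n98458 := rfl
def n98460 : Q := act 6 n46048
theorem D98460 : act 6 n46048 = n98460 := rfl
def n98461 : Q := act 6 n46050
theorem D98461 : act 6 n46050 = n98461 := rfl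
theorem F151869 : act 2 n98461 = n46052 := d3_1 D98461 (iv6 D46052) D46050
theorem F151870 : act 3 n98461 = n87544 := d7_1 D98461 (iv6 D87544) (iv3 F72631)
def n98462 : Q := act 6 n46051
theorem D98462 : act 6 n46051 = n98462 := rfl
theorem F151871 : act 4 n98462 = n46052 := d10_1 D98462 (iv6 D46052) D46051
def n98463 : Q := act 0 n46052
theorem D98463 : act 0 n46052 = n98463 := rfl
def n98464 : Q := act 1 n46052
theorem D98464 : act 1 n46052 = n98464 := rfl
def n98465 : Q := act 5 n46052
theorem D98465 : act 5 n46052 = n98465 := rfl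
theorem F151872 : act 3 n98465 = n46055 := d6_1 D98465 (iv5 D46055) (iv3 F72634)
theorem F151873 : act 6 n98465 = n46674 := d12_2 D46052 D98465 (iv5 D46674) (iv6 D22380) (iv5 F34498)
def n98466 : Q := act 7 n46052
theorem D98466 : act 7 n46052 = n98466 := rfl
theorem F151874 : act 3 n98466 = n46056 := d8_1 D98466 (iv7 D46056) (iv3 F72634)
def n98470 : Q := act 5 n46053
theorem D98470 : act 5 n46053 = n98470 := rfl
def n98471 : Q := act 6 n46053
theorem D98471 : act 6 n46053 = n98471 := rfl
def n98477 : Q := act 0 n46055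
theorem D98477 : act 0 n46055 = n98477 := rfl
def n98478 : Q := act 1 n46055
theorem D98478 : act 1 n46055 = n98478 := rfl
theorem F151877 : act 5 n98357 = n98478 := d21_6 (iv5 D4830) (iv1 F6883) D10486 D21988 D46016 D98357 (iv1 D98478) (iv5 D46055) (iv6 D22001) (iv1 F16699)
def n98479 : Q := act 4 n46055
theorem D98479 : act 4 n46055 = n98479 := rfl
theorem F151878 : act 6 n98479 = n46677 := d10_2 (iv6 F72635) D98479 (iv4 D46677)
def n98480 : Q := act 7 n46055
theorem D98480 : act 7 n46055 = n98480 := rfl
theorem F151879 : act 5 n98480 = n46056 := d13_1 D98480 (iv7 D46056) D46055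
def n98481 : Q := act 4 n46057
theorem D98481 : act 4 n46057 = n98481 := rfl
theorem F151880 : act 2 n98481 = n46058 := d1_1 D98481 (iv4 D46058) D46057
theorem F151881 : act 7 n98481 = n86455 := d11_2 (iv7 F72637) D98481 F132575
theorem F151882 : act 1 n98481 = n86565 := d18_6 F75089 (iv4 D47789) (iv1 F36251) F36249 (iv5 F72636) D98481 F132807 F125783 F121997
theorem F151883 : act 3 n98481 = n86363 := d19_3 (iv1 F34943) (iv5 F72636) D98481 (iv1 D86363) F60841 F30989 F29449 (iv1 F27531) (iv5 D16760) (iv4 F12379) F6825 (iv1 F12785) (iv5 D8011) F5659 F2941 (iv1 F3059) (iv5 F7326) D4998 D10966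
def n98482 : Q := act 6 n46057
theorem D98482 : act 6 n46057 = n98482 := rfl
theorem F151884 : act 2 n98482 = n46059 := d3_1 D98482 (iv6 D46059) D46057
def n98483 : Q := act 0 n46058
theorem D98483 : act 0 n46058 = n98483 := rfl
theorem F151885 : act 4 n98483 = n86508 := d18_3 F51567 D46058 D98483 F132703 (iv4 D45381) (iv0 D21656) (iv4 F16694) D21984 (iv5 F51566)
theorem F151886 : act 3 n98483 = n57323 := d20_5 F60962 F72369 D98108 F151261 D98483 (iv4 F90502) (iv1 F90808) F90805 D73427 F110133
theorem F151887 : act 1 n86455 = n98483 := d15_0 (iv0 D98483) (iv7 F136513) F136511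
theorem F151888 : act 7 n86565 = n98483 := d8_0 F151886 (iv7 F90504) D86565
def n98484 : Q := act 1 n46058
theorem D98484 : act 1 n46058 = n98484 := rfl
theorem F151889 : act 1 n98484 = n86455 := d15_1 D98484 (iv7 F151881) F151880
theorem F151890 : act 4 n98484 = n83792 := d18_7 F72100 F72099 (iv1 D23165) F17721 (iv5 F34499) D46058 D98484 (iv0 F128827) (iv5 F62333)
theorem F151891 : act 3 n80708 = n98484 := d20_3 (iv4 F148147) F148146 F129403 (iv1 D98484) (iv3 F151261) (iv4 D98108) (iv1 F72370) D77634 (iv3 F132633) (iv1 F132638)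
theorem F151892 : act 2 n98484 = n86565 := d0_1 F151891 (iv3 D86565) F90508 F120453 F124173
def n98485 : Q := act 5 n46058
theorem D98485 : act 5 n46058 = n98485 := rfl
theorem F151894 : act 0 n98485 = n60118 := d17_2 (iv1 D98484) D98485 (iv5 F134359) F134358 F126382 F73517 D46980 (iv0 F128826) (iv4 F151890)
def n98486 : Q := act 6 n46058
theorem D98486 : act 6 n46058 = n98486 := rfl
theorem F151896 : act 4 n98486 = n46059 := d10_1 D98486 (iv6 D46059) D46058
def n98487 : Q := act 0 n46059
theorem D98487 : act 0 n46059 = n98487 := rfl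
def n98488 : Q := act 1 n46059
theorem D98488 : act 1 n46059 = n98488 := rfl
def n98489 : Q := act 5 n46059
theorem D98489 : act 5 n46059 = n98489 := rfl
theorem F151897 : act 3 n98489 = n46062 := d6_1 D98489 (iv5 D46062) (iv3 F72640)
theorem F151898 : act 6 n98489 = n46684 := d12_2 D46059 D98489 (iv5 D46684) (iv6 D22387) (iv5 F34499)
def n98490 : Q := act 7 n46059
theorem D98490 : act 7 n46059 = n98490 := rfl
theorem F151899 : act 3 n98490 = n46063 := d8_1 D98490 (iv7 D46063) (iv3 F72640)
def n98491 : Q := act 2 n46060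
theorem D98491 : act 2 n46060 = n98491 := rfl
theorem F151900 : act 7 n46061 = n98491 := d15_2 (iv0 D46060) D46061 (iv2 D98491)
def n98492 : Q := act 3 n46060
theorem D98492 : act 3 n46060 = n98492 := rfl
def n98493 : Q := act 4 n46060
theorem D98493 : act 4 n46060 = n98493 := rfl
def n98494 : Q := act 5 n46060
theorem D98494 : act 5 n46060 = n98494 := rfl
def n98495 : Q := act 6 n46060
theorem D98495 : act 6 n46060 = n98495 := rfl
def n98496 : Q := act 7 n46060
theorem D98496 : act 7 n46060 = n98496 := rfl
theorem F151901 : act 2 n98496 = n46061 := d4_1 D98496 F151900 (iv2 D98491)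
def n98497 : Q := act 3 n46061
theorem D98497 : act 3 n46061 = n98497 := rfl
def n98498 : Q := act 4 n46061
theorem D98498 : act 4 n46061 = n98498 := rfl
def n98499 : Q := act 5 n46061
theorem D98499 : act 5 n46061 = n98499 := rfl
def n98500 : Q := act 6 n46061
theorem D98500 : act 6 n46061 = n98500 := rfl
def n98501 : Q := act 0 n46062
theorem D98501 : act 0 n46062 = n98501 := rfl
def n98502 : Q := act 1 n46062
theorem D98502 : act 1 n46062 = n98502 := rfl
theorem F151902 : act 5 n98321 = n98502 := d21_6 (iv5 D4785) D4782 D10483 D21979 D46002 D98321 (iv1 D98502) (iv5 D46062) (iv6 D22003) (iv1 D10492)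
def n98503 : Q := act 4 n46062
theorem D98503 : act 4 n46062 = n98503 := rfl
theorem F151903 : act 6 n98503 = n46685 := d10_2 (iv6 F72641) D98503 (iv4 D46685)
def n98504 : Q := act 7 n46062
theorem D98504 : act 7 n46062 = n98504 := rfl
theorem F151904 : act 5 n98504 = n46063 := d13_1 D98504 (iv7 D46063) D46062
def n98506 : Q := act 1 n46064
theorem D98506 : act 1 n46064 = n98506 := rfl
theorem F151906 : act 1 n98506 = n46069 := d15_1 D98506 (iv7 D46069) D46064
def n98507 : Q := act 3 n46064
theorem D98507 : act 3 n46064 = n98507 := rfl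
theorem F151907 : act 7 n98507 = n46070 := d8_2 F72642 D98507 (iv3 D46070)
def n98508 : Q := act 4 n46064
theorem D98508 : act 4 n46064 = n98508 := rfl
theorem F151908 : act 2 n98508 = n46066 := d1_1 D98508 (iv4 D46066) D46064
theorem F151909 : act 7 n98508 = n46071 := d11_2 F72642 D98508 (iv4 D46071)
def n98509 : Q := act 5 n46064
theorem D98509 : act 5 n46064 = n98509 := rfl
theorem F151910 : act 2 n98509 = n46067 := d2_1 D98509 (iv5 D46067) D46064
theorem F151911 : act 7 n98509 = n46072 := d13_2 F72642 D98509 (iv5 D46072)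
def n98510 : Q := act 6 n46064
theorem D98510 : act 6 n46064 = n98510 := rfl
theorem F151912 : act 2 n98510 = n46068 := d3_1 D98510 (iv6 D46068) D46064
def n98511 : Q := act 0 n46065
theorem D98511 : act 0 n46065 = n98511 := rfl
def n98512 : Q := act 1 n46065
theorem D98512 : act 1 n46065 = n98512 := rfl
def n98513 : Q := act 2 n46065
theorem D98513 : act 2 n46065 = n98513 := rfl
def n98514 : Q := act 4 n46065
theorem D98514 : act 4 n46065 = n98514 := rfl
def n98515 : Q := act 5 n46065
theorem D98515 : act 5 n46065 = n98515 := rfl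
theorem F151913 : act 3 n98515 = n46067 := d6_1 D98515 (iv5 D46067) D46065
def n98516 : Q := act 6 n46065
theorem D98516 : act 6 n46065 = n98516 := rfl
theorem F151914 : act 3 n98516 = n46068 := d7_1 D98516 (iv6 D46068) D46065
def n98517 : Q := act 7 n46065
theorem D98517 : act 7 n46065 = n98517 := rfl
theorem F151915 : act 3 n98517 = n46069 := d8_1 D98517 (iv7 D46069) D46065
def n98518 : Q := act 0 n46066
theorem D98518 : act 0 n46066 = n98518 := rfl
def n98519 : Q := act 1 n46066
theorem D98519 : act 1 n46066 = n98519 := rfl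
theorem F151916 : act 1 n98519 = n46071 := d15_1 D98519 (iv7 F151909) F151908
def n98520 : Q := act 3 n46066
theorem D98520 : act 3 n46066 = n98520 := rfl
def n98521 : Q := act 5 n46066
theorem D98521 : act 5 n46066 = n98521 := rfl
def n98522 : Q := act 6 n46066
theorem D98522 : act 6 n46066 = n98522 := rfl
theorem F151917 : act 4 n98522 = n46068 := d10_1 D98522 (iv6 D46068) D46066
def n98523 : Q := act 7 n46066
theorem D98523 : act 7 n46066 = n98523 := rfl
theorem F151918 : act 2 n98523 = n46071 := d4_1 D98523 (iv7 F151909) F151908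
theorem F151919 : act 4 n98523 = n46069 := d11_1 D98523 (iv7 D46069) D46066
theorem F151920 : act 1 n46071 = n98518 := d15_0 (iv0 D98518) D98523 F151918
def n98524 : Q := act 0 n46067
theorem D98524 : act 0 n46067 = n98524 := rfl
theorem F151921 : act 5 n98524 = n98362 := d21_2 D46067 D98524 (iv6 D98362) (iv1 D46017) (iv6 D21988) (iv5 D10486) (iv1 D4783) D4785 D10493 D22004
def n98525 : Q := act 1 n46067
theorem D98525 : act 1 n46067 = n98525 := rfl
theorem F151922 : act 1 n98525 = n46072 := d15_1 D98525 (iv7 F151911) F151910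
def n98526 : Q := act 4 n46067
theorem D98526 : act 4 n46067 = n98526 := rfl
def n98527 : Q := act 6 n46067
theorem D98527 : act 6 n46067 = n98527 := rfl
def n98528 : Q := act 7 n46067
theorem D98528 : act 7 n46067 = n98528 := rfl
theorem F151923 : act 2 n98528 = n46072 := d4_1 D98528 (iv7 F151911) F151910
theorem F151924 : act 5 n98528 = n46069 := d13_1 D98528 (iv7 D46069) D46067
theorem F151925 : act 1 n46072 = n98524 := d15_0 (iv0 D98524) D98528 F151923
def n98529 : Q := act 0 n46068
theorem D98529 : act 0 n46068 = n98529 := rfl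
def n98530 : Q := act 1 n46068
theorem D98530 : act 1 n46068 = n98530 := rfl
def n98531 : Q := act 5 n46068
theorem D98531 : act 5 n46068 = n98531 := rfl
theorem F151926 : act 0 n98531 = n46435 := d21_7 (iv5 D10486) (iv1 D4783) D4785 D10493 D22004 D46068 D98531 (iv5 D46435) (iv6 D22239) F17115
theorem F151927 : act 0 n46740 = n98531 := d21_7 (iv5 F136728) (iv1 F136730) (iv5 F74093) (iv6 D46884) (iv1 F73371) F73368 (iv5 F73856) (iv5 D98531) (iv6 D46068) (iv1 F64191)
def n98532 : Q := act 7 n46068
theorem D98532 : act 7 n46068 = n98532 := rfl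
def n98533 : Q := act 6 n46069
theorem D98533 : act 6 n46069 = n98533 := rfl
theorem F151928 : act 2 n98533 = n46073 := d3_1 D98533 (iv6 D46073) (iv2 F72643)
def n98534 : Q := act 0 n46070
theorem D98534 : act 0 n46070 = n98534 := rfl
def n98535 : Q := act 1 n46070
theorem D98535 : act 1 n46070 = n98535 := rfl
def n98536 : Q := act 2 n46070
theorem D98536 : act 2 n46070 = n98536 := rfl
def n98537 : Q := act 4 n46070
theorem D98537 : act 4 n46070 = n98537 := rfl
def n98538 : Q := act 5 n46070
theorem D98538 : act 5 n46070 = n98538 := rfl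
theorem F151929 : act 3 n98538 = n46072 := d6_1 D98538 (iv5 D46072) D46070
def n98539 : Q := act 6 n46070
theorem D98539 : act 6 n46070 = n98539 := rfl
theorem F151930 : act 3 n98539 = n46073 := d7_1 D98539 (iv6 D46073) D46070
def n98540 : Q := act 3 n46071
theorem D98540 : act 3 n46071 = n98540 := rfl
theorem F151931 : act 0 n77643 = n98540 := d20_4 (iv4 F123961) (iv1 F89010) F89006 (iv3 F116549) (iv3 D98540) (iv4 D46071) (iv1 D22005) (iv4 F29557) F29556 D35404
theorem F151932 : act 1 n77635 = n98540 := d15_0 (iv0 F151931) (iv7 D77643) (iv2 F116535)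
def n98541 : Q := act 5 n46071
theorem D98541 : act 5 n46071 = n98541 := rfl
def n98542 : Q := act 6 n46071
theorem D98542 : act 6 n46071 = n98542 := rfl
theorem F151933 : act 4 n98542 = n46073 := d10_1 D98542 (iv6 D46073) D46071
def n98543 : Q := act 4 n46072
theorem D98543 : act 4 n46072 = n98543 := rfl
def n98544 : Q := act 6 n46072
theorem D98544 : act 6 n46072 = n98544 := rfl
def n98545 : Q := act 0 n46073
theorem D98545 : act 0 n46073 = n98545 := rfl
def n98546 : Q := act 1 n46073
theorem D98546 : act 1 n46073 = n98546 := rfl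
def n98547 : Q := act 5 n46073
theorem D98547 : act 5 n46073 = n98547 := rfl
theorem F151934 : act 0 n98320 = n98547 := d21_1 D98320 (iv5 D98547) (iv6 D46073) (iv1 D22005) (iv6 D10493) (iv5 D4785) D4782 D10483 D21979 D46002
def n98548 : Q := act 7 n46073
theorem D98548 : act 7 n46073 = n98548 := rfl
def n98549 : Q := act 2 n46074
theorem D98549 : act 2 n46074 = n98549 := rfl
theorem F151935 : act 7 n46075 = n98549 := d15_2 (iv0 D46074) D46075 (iv2 D98549)
def n98550 : Q := act 3 n46074
theorem D98550 : act 3 n46074 = n98550 := rfl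
def n98551 : Q := act 4 n46074
theorem D98551 : act 4 n46074 = n98551 := rfl
def n98552 : Q := act 5 n46074
theorem D98552 : act 5 n46074 = n98552 := rfl
def n98553 : Q := act 6 n46074
theorem D98553 : act 6 n46074 = n98553 := rfl
theorem F151936 : act 5 n98553 = n47596 := d21_6 (iv5 D22016) (iv1 D10495) D10496 (iv6 F34501) D46074 D98553 (iv1 D47596) D47597 F74850 (iv1 F65852)
def n98554 : Q := act 7 n46074
theorem D98554 : act 7 n46074 = n98554 := rfl
theorem F151937 : act 2 n98554 = n46075 := d4_1 D98554 F151935 (iv2 D98549)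
def n98555 : Q := act 3 n46075
theorem D98555 : act 3 n46075 = n98555 := rfl
def n98556 : Q := act 4 n46075
theorem D98556 : act 4 n46075 = n98556 := rfl
def n98557 : Q := act 6 n46075
theorem D98557 : act 6 n46075 = n98557 := rfl
def n98558 : Q := act 0 n46076
theorem D98558 : act 0 n46076 = n98558 := rfl
def n98559 : Q := act 1 n46076
theorem D98559 : act 1 n46076 = n98559 := rfl
def n98560 : Q := act 3 n46076
theorem D98560 : act 3 n46076 = n98560 := rfl
theorem F151938 : act 6 n98560 = n46107 := d7_2 (iv6 F72644) D98560 (iv3 D46107)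
def n98561 : Q := act 5 n46076
theorem D98561 : act 5 n46076 = n98561 := rfl
def n98562 : Q := act 7 n46076
theorem D98562 : act 7 n46076 = n98562 := rfl
theorem F151939 : act 4 n98562 = n46077 := d11_1 D98562 (iv7 D46077) D46076
def n98563 : Q := act 6 n46077
theorem D98563 : act 6 n46077 = n98563 := rfl
theorem F151940 : act 7 n98563 = n46110 := d14_2 D46077 D98563 (iv6 D46110) (iv7 D22021) (iv6 F34501)
def n98564 : Q := act 4 n46078
theorem D98564 : act 4 n46078 = n98564 := rfl
theorem F151941 : act 7 n98564 = n94284 := d11_2 (iv7 F145419) D98564 (iv4 F145416)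
theorem F151942 : act 3 n98564 = n94151 := d20_3 F68937 D46078 D98564 (iv1 D94151) (iv3 D44020) F62875 (iv1 D22064) (iv4 F31715) (iv3 F65038) F68939
theorem F151943 : act 0 n94131 = n98564 := d20_10 (iv4 D98564) (iv1 F136747) F136745 (iv3 F144640) (iv1 F144645) D94005 (iv4 F145557) F145558 (iv4 D94132) D94131
theorem E14796 : n94279 = n94151 := ((c8_2 (iv7 F151941) F151942 (iv7 F145410) D94284)).symm
theorem F151944 : act 2 n94151 = n44076 := (sb E14796 (iv2 D94279))
theorem F151945 : act 7 n94151 = n44077 := (sb E14796 (iv7 F145410))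
theorem E14797 : n94283 = n94150 := (c15_4 (iv0 D94150) D94151 F151945 (iv2 F145413))
theorem F151946 : act 2 n94150 = n44077 := (sb E14797 F145413)
theorem E14798 : n93921 = n93799 := (((F145499).symm.trans (sb E14797 F145414))).symm
theorem F151947 : act 7 n94150 = n44076 := (sb E14797 (iv7 D94283))
theorem F151948 : act 2 n93799 = n43903 := (sb E14798 (iv2 D93921))
theorem E14799 : n97344 = n94375 := (((F145498).symm.trans (sb E14798 (iv4 F150092)))).symm
theorem F151949 : act 7 n93799 = n43904 := (sb E14798 (iv7 F144749))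
theorem E14800 : n95962 = n95529 := ((((iv3 F147151)).symm.trans (sb E14799 F150094))).symm
theorem F151951 : act 7 n94375 = n45465 := (sb E14799 (iv7 F150093))
theorem F151952 : act 2 n95529 = n44786 := (sb E14800 F147594)
theorem F151953 : act 7 n95529 = n44785 := (sb E14800 (iv7 D95962))
theorem E14801 : n95958 = n95530 := (c15_4 F147157 F147152 F151953 D95958)
theorem F151954 : act 2 n95530 = n44785 := (sb E14801 (iv2 D95958))
theorem F151955 : act 7 n95530 = n44786 := (sb E14801 (iv7 F147592))
theorem E14802 : n97348 = n94374 := (c15_4 (iv0 D94374) D94375 F151951 (iv2 F150098))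
theorem F151956 : act 2 n94374 = n45465 := (sb E14802 F150098)
theorem E14803 : n93926 = n93798 := ((((iv4 F145496)).symm.trans (sb E14802 F150099))).symm
theorem F151957 : act 7 n94374 = n45464 := (sb E14802 (iv7 D97348))
theorem F151958 : act 2 n93798 = n43904 := (sb E14803 F144751)
def n98565 : Q := act 5 n46078
theorem D98565 : act 5 n46078 = n98565 := rfl
def n98566 : Q := act 6 n46078
theorem D98566 : act 6 n46078 = n98566 := rfl
def n98567 : Q := act 3 n46079
theorem D98567 : act 3 n46079 = n98567 := rfl
theorem F151960 : act 4 n98567 = n97345 := d5_2 F144750 D98567 (iv3 D97345) F145505 D93922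
theorem F151961 : act 2 n87577 = n98567 := d1_3 F151960 F150095 (iv4 F147595)
theorem F151962 : act 0 n87579 = n98567 := d20_1 (iv4 F134462) F151960 (iv3 D97345) (iv1 F145504) F145501 (iv4 F72953) (iv1 F136552) (iv4 F147666) (iv3 F148772) (iv1 F148775)
theorem F151963 : act 0 n98567 = n86924 := d20_7 F71007 (iv1 F61777) (iv4 F62902) D21691 D45464 D97345 (iv4 F151960) F133385 (iv3 D45093) D45092
theorem F151964 : act 7 n87578 = n98567 := d15_2 (iv0 D87577) D87578 (iv2 F151961)
theorem F151965 : act 3 n89062 = n87578 := d8_3 F151964 (iv3 D98567) (iv7 F145418)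
def n98570 : Q := act 5 n46080
theorem D98570 : act 5 n46080 = n98570 := rfl
theorem F151966 : act 2 n98570 = n46081 := d2_1 D98570 (iv5 D46081) D46080
theorem F151967 : act 3 n98570 = n87550 := d6_1 D98570 (iv5 D87550) (iv3 F72646)
def n98571 : Q := act 6 n46080
theorem D98571 : act 6 n46080 = n98571 := rfl
theorem F151968 : act 2 n98571 = n46082 := d3_1 D98571 (iv6 D46082) D46080
theorem F151969 : act 3 n98571 = n87551 := d7_1 D98571 (iv6 D87551) (iv3 F72646)
def n98572 : Q := act 0 n46081
theorem D98572 : act 0 n46081 = n98572 := rfl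
def n98573 : Q := act 1 n46081
theorem D98573 : act 1 n46081 = n98573 := rfl
def n98574 : Q := act 4 n46081
theorem D98574 : act 4 n46081 = n98574 := rfl
def n98575 : Q := act 6 n46081
theorem D98575 : act 6 n46081 = n98575 := rfl
theorem F151970 : act 3 n98575 = n46085 := d7_1 D98575 (iv6 D46085) (iv3 F72647)
def n98576 : Q := act 0 n46082
theorem D98576 : act 0 n46082 = n98576 := rfl
def n98577 : Q := act 1 n46082
theorem D98577 : act 1 n46082 = n98577 := rfl
def n98578 : Q := act 7 n46082
theorem D98578 : act 7 n46082 = n98578 := rfl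
theorem F151971 : act 3 n98578 = n46086 := d8_1 D98578 (iv7 D46086) (iv3 F72648)
def n98579 : Q := act 3 n46083
theorem D98579 : act 3 n46083 = n98579 := rfl
theorem F151972 : act 5 n98579 = n47566 := d6_2 (iv5 F72650) D98579 F74801
def n98580 : Q := act 6 n46083
theorem D98580 : act 6 n46083 = n98580 := rfl
theorem F151973 : act 5 n98580 = n47567 := d12_1 D98580 (iv6 D47567) (iv5 D22860) D22861 (iv5 F72650)
def n98581 : Q := act 3 n46084
theorem D98581 : act 3 n46084 = n98581 := rfl
def n98582 : Q := act 6 n46084
theorem D98582 : act 6 n46084 = n98582 := rfl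
theorem F151974 : act 4 n98582 = n46085 := d10_1 D98582 (iv6 D46085) D46084
def n98583 : Q := act 0 n46085
theorem D98583 : act 0 n46085 = n98583 := rfl
def n98584 : Q := act 1 n46085
theorem D98584 : act 1 n46085 = n98584 := rfl
def n98585 : Q := act 7 n46085
theorem D98585 : act 7 n46085 = n98585 := rfl
def n98586 : Q := act 5 n46087
theorem D98586 : act 5 n46087 = n98586 := rfl
theorem F151975 : act 2 n98586 = n87555 := d2_1 D98586 F134448 F72652
theorem F151976 : act 7 n98586 = n87543 := d13_2 (iv7 F72651) D98586 (iv5 D87543)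
theorem F151977 : act 1 n46101 = n98586 := d15_1 (iv0 F136896) F151976 F134441
theorem F151978 : act 1 n98586 = n87552 := d15_0 (iv0 D87552) D87555 (iv2 F151975)
def n98587 : Q := act 5 n46088
theorem D98587 : act 5 n46088 = n98587 := rfl
theorem F151979 : act 2 n98587 = n46089 := d2_1 D98587 (iv5 D46089) D46088
theorem F151980 : act 7 n98587 = n87550 := d13_2 (iv7 F72655) D98587 (iv5 D87550)
def n98588 : Q := act 6 n46088
theorem D98588 : act 6 n46088 = n98588 := rfl
theorem F151981 : act 2 n98588 = n46090 := d3_1 D98588 (iv6 D46090) D46088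
theorem F151982 : act 1 n98588 = n87033 := d15_0 (iv0 F137248) F137247 (iv2 F151981)
def n98589 : Q := act 0 n46089
theorem D98589 : act 0 n46089 = n98589 := rfl
theorem F151983 : act 3 n98589 = n87574 := d20_5 D96140 F147799 (iv4 D46091) (iv3 F72658) D98589 (iv4 F146033) (iv1 D94732) (iv4 D44263) (iv3 F33586) D44865
theorem F151984 : act 1 n87550 = n98589 := d15_0 (iv0 D98589) (iv7 F136734) F136732
theorem F151985 : act 5 n93388 = n98589 := d6_0 F151983 (iv5 F134461) D93388
def n98590 : Q := act 1 n46089
theorem D98590 : act 1 n46089 = n98590 := rfl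
theorem F151986 : act 1 n98590 = n87550 := d15_1 D98590 (iv7 F151980) F151979
def n98591 : Q := act 4 n46089
theorem D98591 : act 4 n46089 = n98591 := rfl
def n98592 : Q := act 6 n46089
theorem D98592 : act 6 n46089 = n98592 := rfl
theorem F151987 : act 3 n98592 = n46092 := d7_1 D98592 (iv6 D46092) (iv3 F72658)
def n98593 : Q := act 0 n46090
theorem D98593 : act 0 n46090 = n98593 := rfl
theorem F151988 : act 3 n98593 = n86914 := d20_5 (iv4 F64373) F66265 F66279 (iv3 F72659) D98593 (iv4 D86914) (iv1 F62477) D43711 F68704 (iv1 D41742)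
theorem F151989 : act 6 n94095 = n98593 := d7_0 F151988 F133362 D94095
theorem F151990 : act 7 n87033 = n98593 := d8_0 F151988 F133363 D87033
def n98594 : Q := act 1 n46090
theorem D98594 : act 1 n46090 = n98594 := rfl
def n98595 : Q := act 5 n46090
theorem D98595 : act 5 n46090 = n98595 := rfl
theorem F151991 : act 3 n98595 = n46095 := d6_1 D98595 (iv5 D46095) (iv3 F72659)
def n98596 : Q := act 3 n46091
theorem D98596 : act 3 n46091 = n98596 := rfl
def n98597 : Q := act 6 n46091
theorem D98597 : act 6 n46091 = n98597 := rfl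
theorem F151992 : act 4 n98597 = n46092 := d10_1 D98597 (iv6 D46092) D46091
def n98598 : Q := act 0 n46092
theorem D98598 : act 0 n46092 = n98598 := rfl
def n98599 : Q := act 1 n46092
theorem D98599 : act 1 n46092 = n98599 := rfl
def n98600 : Q := act 5 n46092
theorem D98600 : act 5 n46092 = n98600 := rfl
theorem F151993 : act 6 n98600 = n46095 := d12_2 D46092 D98600 (iv5 D46095) (iv6 D22017) D22016
def n98601 : Q := act 7 n46092
theorem D98601 : act 7 n46092 = n98601 := rfl
def n98602 : Q := act 4 n46095
theorem D98602 : act 4 n46095 = n98602 := rfl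
theorem F151994 : act 0 n98602 = n47487 := d18_2 F72660 D98602 (iv4 D47487) (iv5 D22809) (iv4 F66643) F58688 (iv4 F72165) (iv0 D45737) D45739
theorem F151995 : act 1 n98602 = n47478 := d18_6 (iv1 D41742) (iv4 F64373) F66265 F66279 D46095 D98602 (iv4 D47478) D47477 (iv5 F74660)
theorem E14804 : n98595 = n88358 := (c20_4 D47478 (iv1 F151995) (iv4 D98602) (iv3 F151991) (iv1 D88358) F63089 D41251 (iv1 F135150) (iv4 D88210) F74659 (iv1 D47477))
theorem F151996 : act 3 n88358 = n46095 := (sb E14804 F151991)
theorem F151997 : act 5 n88358 = n46090 := (sb E14804 (iv5 D98595))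
def n98603 : Q := act 0 n46097
theorem D98603 : act 0 n46097 = n98603 := rfl
def n98604 : Q := act 1 n46097
theorem D98604 : act 1 n46097 = n98604 := rfl
def n98605 : Q := act 2 n46097
theorem D98605 : act 2 n46097 = n98605 := rfl
theorem F151998 : act 3 n98605 = n87552 := d0_2 D46097 D98605 (iv2 F136897) (iv3 D89068) F72673
def n98606 : Q := act 4 n46097
theorem D98606 : act 4 n46097 = n98606 := rfl
def n98607 : Q := act 5 n46097
theorem D98607 : act 5 n46097 = n98607 := rfl
theorem F151999 : act 3 n98607 = n46099 := d6_1 D98607 (iv5 D46099) D46097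
theorem F152000 : act 7 n98607 = n46745 := d13_2 F136767 D98607 (iv5 F136766)
def n98608 : Q := act 6 n46097
theorem D98608 : act 6 n46097 = n98608 := rfl
theorem F152002 : act 3 n98608 = n46100 := d7_1 D98608 (iv6 D46100) D46097
def n98609 : Q := act 3 n46098
theorem D98609 : act 3 n46098 = n98609 := rfl
theorem F152003 : act 5 n98609 = n98596 := d6_2 (iv5 F72667) D98609 (iv3 D98596)
def n98610 : Q := act 6 n46098
theorem D98610 : act 6 n46098 = n98610 := rfl
theorem F152004 : act 4 n98610 = n46100 := d10_1 D98610 (iv6 D46100) D46098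
def n98611 : Q := act 0 n46100
theorem D98611 : act 0 n46100 = n98611 := rfl
def n98612 : Q := act 1 n46100
theorem D98612 : act 1 n46100 = n98612 := rfl
def n98613 : Q := act 5 n46100
theorem D98613 : act 5 n46100 = n98613 := rfl
def n98614 : Q := act 7 n46100
theorem D98614 : act 7 n46100 = n98614 := rfl
def n98615 : Q := act 2 n46101
theorem D98615 : act 2 n46101 = n98615 := rfl
theorem F152005 : act 7 n98615 = n87552 := d4_2 F136760 D98615 (iv2 F136897)
theorem F152006 : act 1 n98615 = n87555 := d15_0 (iv0 F143998) F136760 D98615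
theorem F152007 : act 1 n87543 = n98615 := d15_0 F152006 (iv7 D87555) (iv2 F134441)
theorem F152008 : act 5 n87885 = n98615 := d21_6 (iv5 F34957) F34959 (iv5 D19308) D19309 D41003 D87885 (iv1 F152007) (iv5 D87543) (iv6 D40747) (iv1 F34484)
def n98616 : Q := act 4 n46101
theorem D98616 : act 4 n46101 = n98616 := rfl
def n98617 : Q := act 5 n46101
theorem D98617 : act 5 n46101 = n98617 := rfl
theorem F152009 : act 2 n98617 = n87885 := d2_1 D98617 F152008 (iv2 D98615)
theorem F152010 : act 3 n98617 = n46103 := d6_1 D98617 (iv5 D46103) D46101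
theorem F152011 : act 7 n98617 = n47599 := d13_2 F136760 D98617 (iv5 F136759)
theorem F152012 : act 6 n46437 = n98617 := d21_5 D40744 (iv1 F61854) F51885 D41000 (iv1 F73864) (iv5 D98617) F136896 (iv5 D40753) (iv6 D19227) D19224
theorem F152013 : act 4 n98617 = n47833 := d10_1 F152012 (iv6 D47833) (iv4 F73296)
theorem F152015 : act 1 n87885 = n93388 := d15_0 (iv0 F144050) (iv7 F152011) F152009
def n98618 : Q := act 6 n46101
theorem D98618 : act 6 n46101 = n98618 := rfl
theorem F152016 : act 3 n98618 = n46104 := d7_1 D98618 (iv6 D46104) D46101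
def n98619 : Q := act 3 n46102
theorem D98619 : act 3 n46102 = n98619 := rfl
theorem F152017 : act 5 n98619 = n98581 := d6_2 (iv5 F72675) D98619 (iv3 D98581)
def n98620 : Q := act 6 n46102
theorem D98620 : act 6 n46102 = n98620 := rfl
theorem F152018 : act 4 n98620 = n46104 := d10_1 D98620 (iv6 D46104) D46102
def n98621 : Q := act 0 n46104
theorem D98621 : act 0 n46104 = n98621 := rfl
def n98622 : Q := act 1 n46104
theorem D98622 : act 1 n46104 = n98622 := rfl
def n98623 : Q := act 5 n46104
theorem D98623 : act 5 n46104 = n98623 := rfl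
theorem F152019 : act 2 n98623 = n46748 := d2_1 D98623 (iv5 F136773) F136772
theorem F152020 : act 6 n98623 = n46438 := d12_2 D46104 D98623 (iv5 D46438) F72681 (iv5 D46103)
def n98624 : Q := act 7 n46104
theorem D98624 : act 7 n46104 = n98624 := rfl
def n98625 : Q := act 3 n46105
theorem D98625 : act 3 n46105 = n98625 := rfl
theorem F152021 : act 5 n98625 = n96162 := d6_2 F72712 D98625 (iv3 D96162)
def n98626 : Q := act 6 n46105
theorem D98626 : act 6 n46105 = n98626 := rfl
def n98627 : Q := act 3 n46106
theorem D98627 : act 3 n46106 = n98627 := rfl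
def n98628 : Q := act 6 n46106
theorem D98628 : act 6 n46106 = n98628 := rfl
def n98629 : Q := act 0 n46107
theorem D98629 : act 0 n46107 = n98629 := rfl
def n98630 : Q := act 1 n46107
theorem D98630 : act 1 n46107 = n98630 := rfl
def n98631 : Q := act 2 n46107
theorem D98631 : act 2 n46107 = n98631 := rfl
def n98632 : Q := act 5 n46107
theorem D98632 : act 5 n46107 = n98632 := rfl
theorem F152023 : act 3 n98632 = n46108 := d6_1 D98632 (iv5 D46108) D46107
theorem F152024 : act 7 n89076 = n98632 := d8_0 F152023 F72685 D89076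
def n98633 : Q := act 7 n46107
theorem D98633 : act 7 n46107 = n98633 := rfl
theorem F152025 : act 3 n98633 = n46109 := d8_1 D98633 (iv7 D46109) D46107
theorem F152026 : act 5 n98633 = n89076 := d13_1 D98633 F152024 (iv5 D98632)
def n98634 : Q := act 6 n46108
theorem D98634 : act 6 n46108 = n98634 := rfl
theorem F152027 : act 4 n98634 = n89077 := d10_1 D98634 (iv6 D89077) (iv4 F72684)
def n98635 : Q := act 6 n46109
theorem D98635 : act 6 n46109 = n98635 := rfl
theorem F152029 : act 4 n98635 = n46110 := d10_1 D98635 (iv6 D46110) (iv4 F72688)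
def n98638 : Q := act 2 n46111
theorem D98638 : act 2 n46111 = n98638 := rfl
theorem F152030 : act 7 n46112 = n98638 := d15_2 (iv0 D46111) D46112 (iv2 D98638)
def n98639 : Q := act 3 n46111
theorem D98639 : act 3 n46111 = n98639 := rfl
theorem F152031 : act 4 n98639 = n95530 := d20_6 F6884 D4788 D10500 D22037 D46111 D98639 (iv1 D95530) F70151 (iv3 D22014) (iv1 D10495)
theorem F152032 : act 2 n95959 = n98639 := d1_3 F152031 F151954 D95959
theorem F152033 : act 7 n95964 = n98639 := d11_0 F152031 F151955 D95964
theorem F152034 : act 7 n46111 = n89078 := d8_2 F152033 (iv3 D98639) (iv3 F147596)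
theorem F152035 : act 2 n89078 = n46112 := d4_1 F152034 F152030 (iv2 D98638)
theorem E14805 : n98638 = n89079 := (c15_4 F136786 F136785 (iv7 F152034) D98638)
theorem F152036 : act 2 n89079 = n46111 := (sb E14805 (iv2 D98638))
theorem F152037 : act 7 n89079 = n46112 := (sb E14805 (iv7 F152030))
def n98640 : Q := act 4 n46111
theorem D98640 : act 4 n46111 = n98640 := rfl
theorem F152038 : act 2 n98640 = n98433 := d1_1 D98640 (iv4 F151857) F152036
theorem F152039 : act 7 n98640 = n98432 := d11_2 (iv7 F152034) D98640 F151853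
theorem F152040 : act 0 n98640 = n98434 := d20_1 D98640 (iv4 F151856) (iv3 D46041) (iv1 D21997) F16697 F6884 D4788 D10500 D22037 D46111
theorem F152041 : act 0 n98398 = n98640 := d20_10 (iv4 D98640) (iv1 F72691) F62204 (iv3 D40807) (iv1 F62362) (iv3 F64018) F64019 D41524 F72620 D98398
theorem E14806 : n98410 = n98398 := ((c15_2 (iv0 F152040) (iv0 F152041) F151832 D98434)).symm
theorem E14807 : n46035 = n46031 := ((((iv3 D98398)).symm.trans (sb E14806 (iv3 D98410)))).symm
theorem F152042 : act 7 n98398 = n46041 := (sb E14806 F151832)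
theorem E14808 : n98408 = n21999 := ((((iv1 F72618)).symm.trans (sb E14807 D98408))).symm
theorem E14810 : n98397 = n21996 := ((D98397).symm.trans (sb E14807 (iv2 D46035)))
theorem E14811 : n98411 = n41524 := ((((iv4 F72620)).symm.trans (sb E14807 D98411))).symm
theorem E14812 : n98412 = n98399 := (((D98399).symm.trans (sb E14807 D98412))).symm
theorem E14813 : n98413 = n98400 := (((D98400).symm.trans (sb E14807 D98413))).symm
theorem E14814 : n98401 = n21997 := ((D98401).symm.trans (sb E14807 (iv7 F72623)))
theorem E14815 : n46040 = n46032 := ((((iv1 F72614)).symm.trans (sb E14808 (iv1 F151830)))).symm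
theorem F152043 : act 2 n21996 = n46031 := (sb E14810 (iv2 D98397))
theorem E14816 : n88925 = n46037 := (((D46037).symm.trans (sb E14810 F151816))).symm
theorem E14817 : n88928 = n46042 := ((D88928).symm.trans (sb E14811 F151834))
theorem F152044 : act 2 n98399 = n46038 := (sb E14812 F151835)
theorem F152045 : act 7 n98399 = n46043 := (sb E14812 F151836)
theorem F152046 : act 2 n98400 = n46039 := (sb E14813 F151837)
theorem F152047 : act 7 n21997 = n46031 := (sb E14814 (iv7 D98401))
theorem F152048 : act 2 n46032 = n21997 := (sb E14815 F72626)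
theorem E14818 : n98417 = n87377 := (((F134151).symm.trans (sb E14815 (iv3 F151842)))).symm
theorem E14819 : n98421 = n41525 := (((F72615).symm.trans (sb E14815 (iv4 F151846)))).symm
theorem E14820 : n98426 = n98402 := (((D98402).symm.trans (sb E14815 (iv5 F151849)))).symm
theorem E14821 : n98431 = n98403 := (((D98403).symm.trans (sb E14815 D98431))).symm
theorem F152049 : act 7 n46032 = n21996 := (sb E14815 (iv7 D46040))
theorem F152050 : act 2 n46037 = n41524 := (sb E14816 (iv2 D88925))
theorem E14822 : n87375 = n87364 := ((((iv3 F134127)).symm.trans (sb E14817 F136491))).symm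
theorem F152051 : act 7 n46042 = n41524 := (sb E14817 (iv7 D88928))
theorem F152052 : act 2 n87377 = n86918 := (sb E14818 F151841)
theorem F152053 : act 7 n87377 = n46036 := (sb E14818 (iv7 D98417))
theorem F152054 : act 2 n41525 = n46042 := (sb E14819 F151845)
theorem F152055 : act 7 n41525 = n46037 := (sb E14819 (iv7 D98421))
theorem F152056 : act 2 n98402 = n46043 := (sb E14820 F151848)
theorem F152057 : act 7 n98402 = n46038 := (sb E14820 (iv7 D98426))
theorem F152058 : act 2 n98403 = n46044 := (sb E14821 F151852)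
theorem F152059 : act 2 n87364 = n40610 := (sb E14822 F134149)
theorem F152060 : act 7 n87364 = n40609 := (sb E14822 (iv7 D87375))
theorem E14823 : n98414 = n87372 := ((c11_2 F152060 D87372 (iv7 F151838) (iv4 F134128))).symm
theorem F152061 : act 2 n87372 = n46036 := (sb E14823 (iv2 D98414))
theorem F152062 : act 7 n87372 = n86918 := (sb E14823 (iv7 F151838))
theorem E14824 : n87371 = n87363 := (c15_4 (iv0 D87363) D87364 F152060 D87371)
theorem F152063 : act 2 n87363 = n40609 := (sb E14824 (iv2 D87371))
theorem F152064 : act 7 n87363 = n40610 := (sb E14824 (iv7 F134147))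
theorem F152065 : act 2 n98438 = n88931 := d1_3 (iv4 F151821) F152058 (iv4 F151861)
theorem F152066 : act 7 n98418 = n88929 := d8_2 F152055 D98418 (iv3 D88929)
theorem F152067 : act 7 n98419 = n88930 := d13_2 F152055 D98419 (iv5 D88930)
theorem F152068 : act 2 n98437 = n88930 := d2_3 (iv5 D88930) F152054 D98437
theorem F152069 : act 7 n88926 = n98437 := d13_2 F152051 D88926 (iv5 D98437)
theorem F152070 : act 2 n98419 = n88926 := d4_3 F152069 F152068 (iv7 F152067)
theorem F152071 : act 2 n88927 = n98420 := d3_3 (iv6 D98420) F152050 D88927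
def n98641 : Q := act 5 n46111
theorem D98641 : act 5 n46111 = n98641 := rfl
def n98642 : Q := act 6 n46111
theorem D98642 : act 6 n46111 = n98642 := rfl
def n98643 : Q := act 4 n46112
theorem D98643 : act 4 n46112 = n98643 := rfl
theorem F152072 : act 2 n98643 = n98432 := d1_1 D98643 F151853 F152035
theorem F152073 : act 3 n98643 = n89061 := d5_1 D98643 F145416 (iv3 D94284) D94285 F145421
theorem F152074 : act 7 n98643 = n98433 := d11_2 F152037 D98643 (iv4 F151857)
theorem F152075 : act 0 n98434 = n98643 := d20_10 (iv4 D98643) (iv1 D46112) F65940 (iv3 D22037) F66218 (iv3 F64281) F64282 (iv1 F134126) F134128 (iv3 F151855)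
theorem F152076 : act 1 n98398 = n98643 := d15_1 (iv0 F152041) F152074 (iv2 F152038)
theorem F152077 : act 0 n93788 = n94284 := d20_1 (iv4 F144568) (iv4 F145416) (iv3 F152073) (iv1 F152076) (iv3 D98398) (iv4 F72620) (iv1 F126457) F126453 (iv3 F146018) (iv1 F146023)
def n98646 : Q := act 0 n46113
theorem D98646 : act 0 n46113 = n98646 := rfl
theorem F152078 : act 1 n87596 = n98646 := d15_0 (iv0 D98646) (iv7 F136789) F136787
def n98647 : Q := act 1 n46113
theorem D98647 : act 1 n46113 = n98647 := rfl
theorem F152079 : act 1 n98647 = n87596 := d15_1 D98647 (iv7 F146000) F145998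
def n98648 : Q := act 4 n46113
theorem D98648 : act 4 n46113 = n98648 := rfl
def n98649 : Q := act 6 n46113
theorem D98649 : act 6 n46113 = n98649 := rfl
theorem F152080 : act 3 n98649 = n46116 := d7_1 D98649 (iv6 D46116) (iv3 F72693)
def n98650 : Q := act 0 n46114
theorem D98650 : act 0 n46114 = n98650 := rfl
def n98651 : Q := act 1 n46114
theorem D98651 : act 1 n46114 = n98651 := rfl
def n98652 : Q := act 7 n46114
theorem D98652 : act 7 n46114 = n98652 := rfl
theorem F152081 : act 3 n98652 = n46119 := d8_1 D98652 (iv7 D46119) (iv3 F72694)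
def n98653 : Q := act 3 n46115
theorem D98653 : act 3 n46115 = n98653 := rfl
theorem F152083 : act 5 n98653 = n98627 := d6_2 (iv5 F72697) D98653 (iv3 D98627)
def n98654 : Q := act 6 n46115
theorem D98654 : act 6 n46115 = n98654 := rfl
theorem F152084 : act 2 n98654 = n96148 := d3_1 D98654 (iv6 D96148) (iv2 F72696)
theorem F152085 : act 4 n98654 = n46116 := d10_1 D98654 (iv6 D46116) D46115
def n98655 : Q := act 0 n46116
theorem D98655 : act 0 n46116 = n98655 := rfl
def n98656 : Q := act 1 n46116
theorem D98656 : act 1 n46116 = n98656 := rfl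
theorem F152086 : act 1 n98656 = n96152 := d15_1 D98656 (iv7 D96152) (iv2 F72698)
def n98657 : Q := act 7 n46116
theorem D98657 : act 7 n46116 = n98657 := rfl
theorem F152087 : act 2 n98657 = n96152 := d4_1 D98657 (iv7 D96152) (iv2 F72698)
theorem F152088 : act 1 n96152 = n98655 := d15_0 (iv0 D98655) D98657 F152087
theorem F152089 : act 1 n96150 = n98657 := d15_1 D96150 (iv7 D98657) F72698
theorem F152090 : act 1 n98657 = n96149 := d15_0 (iv0 D96149) D96152 (iv2 F152087)
def n98658 : Q := act 3 n46118
theorem D98658 : act 3 n46118 = n98658 := rfl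
theorem F152092 : act 6 n98658 = n47432 := d7_2 F72700 D98658 F74628
theorem F152093 : act 7 n98658 = n96153 := d8_2 (iv7 F73006) D98658 (iv3 D96153)
def n98659 : Q := act 0 n46120
theorem D98659 : act 0 n46120 = n98659 := rfl
theorem F152094 : act 1 n93329 = n98659 := d15_0 (iv0 D98659) F73891 (iv2 F143924)
def n98660 : Q := act 1 n46120
theorem D98660 : act 1 n46120 = n98660 := rfl
def n98661 : Q := act 2 n46120
theorem D98661 : act 2 n46120 = n98661 := rfl
theorem F152095 : act 3 n98661 = n88330 := d0_2 D46120 D98661 F135252 F68624 F65720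
theorem F152097 : act 7 n98661 = n93329 := d4_2 (iv7 F73891) D98661 F143924
theorem F152098 : act 1 n98660 = n93329 := d15_1 D98660 (iv7 F152097) (iv2 D98661)
theorem F152099 : act 6 n88328 = n98661 := d14_5 F152097 (iv6 D93329) F68595 D87931 (iv7 F135247)
def n98662 : Q := act 5 n46120
theorem D98662 : act 5 n46120 = n98662 := rfl
theorem F152100 : act 3 n98662 = n46121 := d6_1 D98662 (iv5 D46121) D46120
theorem F152101 : act 7 n98662 = n89192 := d13_2 (iv7 F73891) D98662 F136890
def n98663 : Q := act 6 n46120
theorem D98663 : act 6 n46120 = n98663 := rfl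
theorem F152102 : act 2 n98663 = n88328 := d3_1 D98663 F152099 (iv2 D98661)
theorem F152103 : act 3 n98663 = n46122 := d7_1 D98663 (iv6 D46122) D46120
def n98664 : Q := act 6 n46121
theorem D98664 : act 6 n46121 = n98664 := rfl
theorem F152105 : act 2 n98664 = n89191 := d3_1 D98664 (iv6 D89191) (iv2 F72707)
theorem F152106 : act 4 n98664 = n98626 := d10_1 D98664 (iv6 D98626) (iv4 F72711)
def n98666 : Q := act 2 n46123
theorem D98666 : act 2 n46123 = n98666 := rfl
theorem F152111 : act 7 n46124 = n98666 := d15_2 (iv0 D46123) D46124 (iv2 D98666)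
def n98667 : Q := act 3 n46123
theorem D98667 : act 3 n46123 = n98667 := rfl
theorem F152112 : act 4 n98667 = n87441 := d20_6 (iv4 D10077) (iv1 F17444) D10508 D22061 D46123 D98667 (iv1 D87441) F61765 (iv3 D38016) F29371
def n98669 : Q := act 5 n46123
theorem D98669 : act 5 n46123 = n98669 := rfl
theorem F152115 : act 4 n98669 = n94974 := d19_2 D46123 D98669 F146337 F69813 (iv5 D21111) (iv4 D10052) F6632 F3201 (iv5 D982) F1176 F595 D637 F1179 D984 D1906 (iv1 F17410) D4810 D10508 D22061
theorem F152116 : act 7 n98669 = n98669 := d11_0 F152115 F146338 (iv4 F152115)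
theorem F152117 : act 7 n46123 = n46123 := d13_2 F152116 (iv5 D98669) D98669
theorem E14825 : n98666 = n46124 := ((c4_3 F152117 D98666 (iv7 F152111) (iv2 D98666))).symm
theorem F152118 : act 2 n46124 = n46123 := (sb E14825 (iv2 D98666))
theorem F152119 : act 7 n46124 = n46124 := (sb E14825 (iv7 F152111))
theorem F152120 : act 7 n98667 = n98667 := d8_2 F152117 D98667 (iv3 D98667)
theorem F152122 : act 7 n87441 = n87441 := d11_2 F152120 F152112 (iv4 F152112)
theorem F152123 : act 2 n87441 = n87440 := d15_3 (iv0 D87440) D87441 F152122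
def n98672 : Q := act 4 n46124
theorem D98672 : act 4 n46124 = n98672 := rfl
def n98673 : Q := act 5 n46124
theorem D98673 : act 5 n46124 = n98673 := rfl
theorem F152130 : act 2 n98673 = n98669 := d2_1 D98673 (iv5 D98669) (iv2 F152118)
theorem F152131 : act 7 n98673 = n98673 := d13_2 F152119 D98673 (iv5 D98673)
def n98678 : Q := act 4 n46126
theorem D98678 : act 4 n46126 = n98678 := rfl
theorem F152139 : act 5 n98678 = n98672 := d16_5 F152115 (iv5 D94974) F69809 D46126 D98678 (iv4 D98672) D98673 F152131 F152130
def n98684 : Q := act 6 n46131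
theorem D98684 : act 6 n46131 = n98684 := rfl
theorem F152154 : act 3 n98684 = n86948 := d7_1 D98684 (iv6 D86948) (iv3 F72743)
theorem F152155 : act 4 n98684 = n46132 := d10_1 D98684 (iv6 D46132) D46131
def n98685 : Q := act 0 n46132
theorem D98685 : act 0 n46132 = n98685 := rfl
def n98686 : Q := act 1 n46132
theorem D98686 : act 1 n46132 = n98686 := rfl
def n98687 : Q := act 7 n46132
theorem D98687 : act 7 n46132 = n98687 := rfl
def n98688 : Q := act 0 n46133
theorem D98688 : act 0 n46133 = n98688 := rfl
def n98689 : Q := act 1 n46133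
theorem D98689 : act 1 n46133 = n98689 := rfl
def n98690 : Q := act 7 n46133
theorem D98690 : act 7 n46133 = n98690 := rfl
def n98691 : Q := act 2 n46137
theorem D98691 : act 2 n46137 = n98691 := rfl
theorem F152156 : act 7 n46138 = n98691 := d15_2 (iv0 D46137) D46138 (iv2 D98691)
def n98692 : Q := act 4 n46137
theorem D98692 : act 4 n46137 = n98692 := rfl
theorem F152157 : act 3 n98692 = n94066 := d5_1 D98692 (iv4 F144925) (iv3 D93783) D93784 (iv3 F144565)
theorem F152158 : act 0 n98692 = n93892 := d20_1 D98692 (iv4 D93892) (iv3 F144799) (iv1 D44087) (iv3 D20943) F62869 (iv1 D10515) (iv4 F16713) (iv3 F34543) D46137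
def n98693 : Q := act 5 n46137
theorem D98693 : act 5 n46137 = n98693 := rfl
def n98694 : Q := act 6 n46137
theorem D98694 : act 6 n46137 = n98694 := rfl
def n98695 : Q := act 7 n46137
theorem D98695 : act 7 n46137 = n98695 := rfl
theorem F152159 : act 2 n98695 = n46138 := d4_1 D98695 F152156 (iv2 D98691)
def n98696 : Q := act 3 n46138
theorem D98696 : act 3 n46138 = n98696 := rfl
def n98697 : Q := act 4 n46138
theorem D98697 : act 4 n46138 = n98697 := rfl
theorem F152160 : act 3 n98697 = n97783 := d20_3 (iv4 F145538) (iv1 F145543) D98697 (iv1 F150718) F127383 (iv4 F70243) (iv1 F147195) F147193 (iv3 D46283) (iv1 F72934)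
theorem F152161 : act 0 n93892 = n98697 := d20_10 (iv4 D98697) (iv1 D46138) F34544 F17033 D10555 D22144 F62907 D45452 D97312 F150051
theorem E14826 : n98696 = n89017 := (c20_4 D93892 F152161 (iv4 D98697) D98696 (iv1 D89017) F64162 F31342 D19578 (iv4 F65917) D20793 D43892)
theorem F152162 : act 3 n89017 = n46138 := (sb E14826 (iv3 D98696))
theorem F152163 : act 0 n98697 = n93897 := d20_10 (iv4 D93897) (iv1 D43893) D43895 F69011 (iv1 F61444) (iv3 F61729) (iv4 F64282) (iv1 F136855) (iv4 F150717) (iv3 F152160)
def n98698 : Q := act 5 n46138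
theorem D98698 : act 5 n46138 = n98698 := rfl
def n98699 : Q := act 6 n46138
theorem D98699 : act 6 n46138 = n98699 := rfl
def n98700 : Q := act 0 n46139
theorem D98700 : act 0 n46139 = n98700 := rfl
def n98701 : Q := act 1 n46139
theorem D98701 : act 1 n46139 = n98701 := rfl
def n98702 : Q := act 4 n46139
theorem D98702 : act 4 n46139 = n98702 := rfl
def n98703 : Q := act 0 n46140
theorem D98703 : act 0 n46140 = n98703 := rfl
theorem F152164 : act 5 n98703 = n55277 := d17_3 (iv1 F55475) D46140 D98703 (iv4 F95759) (iv5 F95765) (iv0 D43888) (iv5 D20790) D20789 F65513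
theorem F152165 : act 2 n61277 = n98703 := d15_3 (iv0 D98703) (iv0 F97636) F97635
theorem F152166 : act 1 n52166 = n98703 := d15_0 (iv0 D98703) (iv7 F108147) F108145
theorem F152167 : act 3 n98703 = n55278 := d0_2 (iv3 F95746) F152165 (iv2 F97536) F97537 F47531
def n98704 : Q := act 4 n46140
theorem D98704 : act 4 n46140 = n98704 := rfl
theorem F152168 : act 6 n98704 = n46142 := d10_2 (iv6 F72755) D98704 (iv4 D46142)
theorem F152169 : act 0 n98704 = n94269 := d18_2 F97636 D98704 (iv4 D94269) F82956 (iv4 F77939) F77942 (iv4 F83226) (iv0 F83227) D62610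
theorem F152170 : act 1 n98704 = n94271 := d18_6 (iv1 F68997) F65509 F69002 F64164 D46140 D98704 (iv4 D94271) F144704 F144703
def n98705 : Q := act 3 n46141
theorem D98705 : act 3 n46141 = n98705 := rfl
theorem F152171 : act 0 n92417 = n98705 := d20_4 D90644 (iv1 F142143) (iv4 D92418) (iv3 F142140) (iv3 D98705) (iv4 F145141) (iv1 F145144) F69445 F33130 (iv1 F65556)
def n98707 : Q := act 3 n46142
theorem D98707 : act 3 n46142 = n98707 := rfl
def n98708 : Q := act 5 n46142
theorem D98708 : act 5 n46142 = n98708 := rfl
def n98737 : Q := act 0 n46162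
theorem D98737 : act 0 n46162 = n98737 := rfl
def n98738 : Q := act 1 n46162
theorem D98738 : act 1 n46162 = n98738 := rfl
theorem F152218 : act 1 n98738 = n79381 := d15_1 D98738 (iv7 D79381) (iv2 F72820)
def n98745 : Q := act 0 n46181
theorem D98745 : act 0 n46181 = n98745 := rfl
def n98746 : Q := act 1 n46181
theorem D98746 : act 1 n46181 = n98746 := rfl
def n98747 : Q := act 2 n46181
theorem D98747 : act 2 n46181 = n98747 := rfl
theorem F152229 : act 3 n98747 = n86438 := d0_2 D46181 D98747 (iv2 D86438) (iv3 D40030) (iv2 F34576)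
theorem F152232 : act 1 n98747 = n98745 := d15_0 (iv0 D98745) F72848 D98747
def n98750 : Q := act 4 n46183
theorem D98750 : act 4 n46183 = n98750 := rfl
theorem F152238 : act 2 n98750 = n80626 := d1_1 D98750 F123981 (iv2 F113435)
theorem F152239 : act 3 n98750 = n87316 := d5_1 D98750 (iv4 D87316) F61695 F56848 D46183
theorem F152240 : act 5 n98750 = n81517 := d17_5 (iv1 D54949) D54952 (iv1 F86941) (iv5 F72852) D98750 F132638 F132635 (iv0 F128181) F120495
def n98751 : Q := act 6 n46183
theorem D98751 : act 6 n46183 = n98751 := rfl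
def n98756 : Q := act 0 n46185
theorem D98756 : act 0 n46185 = n98756 := rfl
def n98757 : Q := act 1 n46185
theorem D98757 : act 1 n46185 = n98757 := rfl
theorem F152245 : act 1 n98757 = n46189 := d15_1 D98757 (iv7 D46189) (iv2 F72853)
def n98758 : Q := act 5 n46185
theorem D98758 : act 5 n46185 = n98758 := rfl
theorem F152246 : act 2 n98758 = n46188 := d2_1 D98758 (iv5 D46188) (iv2 F72853)
theorem F152247 : act 6 n98758 = n56051 := d12_2 D46185 D98758 (iv5 D56051) (iv6 D27037) (iv5 F34581)
def n98759 : Q := act 7 n46185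
theorem D98759 : act 7 n46185 = n98759 := rfl
theorem F152248 : act 2 n98759 = n46189 := d4_1 D98759 (iv7 D46189) (iv2 F72853)
theorem F152249 : act 4 n98759 = n79381 := d11_1 D98759 (iv7 D79381) (iv4 F72854)
theorem F152250 : act 6 n98759 = n77617 := d14_1 D98759 (iv7 D77617) (iv6 D35431) (iv7 F34582) D46185
theorem F152252 : act 1 n46187 = n98759 := d15_1 D46187 (iv7 D98759) F72853
theorem F152253 : act 1 n98759 = n46186 := d15_0 (iv0 D46186) D46189 (iv2 F152248)
def n98760 : Q := act 2 n46186
theorem D98760 : act 2 n46186 = n98760 := rfl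
theorem F152254 : act 7 n46187 = n98760 := d15_2 (iv0 D46186) D46187 (iv2 D98760)
def n98761 : Q := act 3 n46186
theorem D98761 : act 3 n46186 = n98761 := rfl
def n98762 : Q := act 4 n46186
theorem D98762 : act 4 n46186 = n98762 := rfl
def n98763 : Q := act 5 n46186
theorem D98763 : act 5 n46186 = n98763 := rfl
def n98764 : Q := act 6 n46186
theorem D98764 : act 6 n46186 = n98764 := rfl
def n98765 : Q := act 7 n46186
theorem D98765 : act 7 n46186 = n98765 := rfl
theorem F152255 : act 2 n98765 = n46187 := d4_1 D98765 F152254 (iv2 D98760)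
def n98766 : Q := act 3 n46187
theorem D98766 : act 3 n46187 = n98766 := rfl
def n98767 : Q := act 4 n46187
theorem D98767 : act 4 n46187 = n98767 := rfl
def n98768 : Q := act 5 n46187
theorem D98768 : act 5 n46187 = n98768 := rfl
def n98769 : Q := act 6 n46187
theorem D98769 : act 6 n46187 = n98769 := rfl
def n98770 : Q := act 0 n46188
theorem D98770 : act 0 n46188 = n98770 := rfl
def n98771 : Q := act 1 n46188
theorem D98771 : act 1 n46188 = n98771 := rfl
def n98772 : Q := act 4 n46188
theorem D98772 : act 4 n46188 = n98772 := rfl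
theorem F152256 : act 6 n98772 = n77559 := d10_2 (iv6 F72856) D98772 (iv4 D77559)
def n98773 : Q := act 7 n46188
theorem D98773 : act 7 n46188 = n98773 := rfl
theorem F152258 : act 5 n98773 = n46189 := d13_1 D98773 (iv7 D46189) D46188
def n98774 : Q := act 3 n46190
theorem D98774 : act 3 n46190 = n98774 := rfl
def n98775 : Q := act 6 n46190
theorem D98775 : act 6 n46190 = n98775 := rfl
def n98777 : Q := act 6 n46191
theorem D98777 : act 6 n46191 = n98777 := rfl
def n98779 : Q := act 1 n46192
theorem D98779 : act 1 n46192 = n98779 := rfl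
theorem F152263 : act 4 n98779 = n75418 := d18_7 (iv1 F118286) (iv4 D22114) (iv1 D10537) (iv4 F16733) D22105 D46192 D98779 F113164 F58870
def n98780 : Q := act 3 n46192
theorem D98780 : act 3 n46192 = n98780 := rfl
def n98783 : Q := act 6 n46193
theorem D98783 : act 6 n46193 = n98783 := rfl
def n98785 : Q := act 1 n46209
theorem D98785 : act 1 n46209 = n98785 := rfl
def n98786 : Q := act 2 n46209
theorem D98786 : act 2 n46209 = n98786 := rfl
theorem F152270 : act 7 n98786 = n82775 := d4_2 (iv7 F118298) D98786 (iv2 D82775)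
theorem F152273 : act 1 n82774 = n98786 := d15_1 D82774 F152270 (iv2 D82775)
def n98788 : Q := act 6 n46209
theorem D98788 : act 6 n46209 = n98788 := rfl
theorem F152276 : act 3 n98788 = n46211 := d7_1 D98788 (iv6 D46211) D46209
def n98791 : Q := act 6 n46210
theorem D98791 : act 6 n46210 = n98791 := rfl
def n98792 : Q := act 1 n46211
theorem D98792 : act 1 n46211 = n98792 := rfl
theorem F152285 : act 4 n98792 = n75372 := d17_9 (iv1 F113117) F58991 (iv1 D38148) (iv5 D18237) (iv4 F29407) D38136 D82902 (iv5 F127703) D98792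
theorem F152286 : act 6 n75727 = n98792 := d21_3 D45824 D98118 F151284 (iv1 D98792) (iv6 D46211) D46210 (iv1 F129284) (iv5 D84216) (iv6 D38836) F121803
theorem F152288 : act 5 n98792 = n83224 := d21_6 D38795 (iv1 F118632) (iv5 D37911) D37912 F126964 F152286 (iv1 D83224) (iv5 D38306) D38307 F113308
def n98793 : Q := act 3 n46213
theorem D98793 : act 3 n46213 = n98793 := rfl
theorem F152289 : act 5 n98793 = n77537 := d6_2 (iv5 F72875) D98793 F126222
theorem F152290 : act 0 n82050 = n98793 := d21_1 D82050 F152289 (iv6 D77537) (iv1 D35399) (iv6 D17174) F13442 (iv1 F6872) D8868 D18915 (iv1 F118213)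
theorem F152291 : act 1 n82066 = n98793 := d15_0 (iv0 F152290) (iv7 F151449) F151447
theorem F152292 : act 1 n77537 = n84699 := d17_8 (iv1 F129938) (iv5 F126467) (iv1 F126468) (iv5 D37605) D37604 D82066 F152291 F152289 F129932
theorem F152293 : act 0 n82067 = n80161 := d21_10 (iv5 D80161) (iv1 F112746) F112743 (iv6 F89548) (iv1 F89550) D77537 (iv5 F152289) (iv1 F152291) (iv5 D82066) D82067
theorem E14827 : n98172 = n80162 := ((c21_4 F131788 F152293 (iv5 D80161) D80162 (iv1 D98172) (iv6 D45869) D45868 (iv1 F123448) (iv5 F123452) (iv6 F125778) (iv1 F131789))).symm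
theorem F152294 : act 0 n80162 = n45869 := (sb E14827 (iv1 D98172))
theorem F152295 : act 1 n84699 = n79748 := d15_1 F152292 F132985 F132981
def n98795 : Q := act 1 n46215
theorem D98795 : act 1 n46215 = n98795 := rfl
theorem F152301 : act 4 n98795 = n56854 := d18_7 (iv1 F117917) (iv4 F27484) F118288 (iv4 D22109) D22110 D46215 D98795 (iv0 D56854) (iv5 D27296)
def n98797 : Q := act 5 n46215
theorem D98797 : act 5 n46215 = n98797 := rfl
theorem F152306 : act 0 n98797 = n82824 := d17_2 (iv1 D98795) D98797 F127559 F58903 F29380 F27490 D34519 (iv0 F117959) (iv4 F152301)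
def n98798 : Q := act 6 n46215
theorem D98798 : act 6 n46215 = n98798 := rfl
theorem F152308 : act 4 n98798 = n46216 := d10_1 D98798 (iv6 D46216) D46215
def n98799 : Q := act 0 n46216
theorem D98799 : act 0 n46216 = n98799 := rfl
theorem F152310 : act 5 n98799 = n88660 := d21_0 (iv1 D88660) F63834 (iv6 D22122) F17026 (iv6 F16734) (iv5 D10538) D10536 D22110 D46216 D98799
theorem F152311 : act 1 n46243 = n98799 := d15_0 (iv0 D98799) (iv7 F124608) F124606
def n98800 : Q := act 1 n46216
theorem D98800 : act 1 n46216 = n98800 := rfl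
theorem F152314 : act 1 n98800 = n46243 := d15_1 D98800 (iv7 F151686) F151685
theorem F152316 : act 6 n80858 = n98800 := d21_3 D46242 F126793 F124575 (iv1 D98800) (iv6 D46216) (iv5 D22110) (iv1 F34467) D45973 F72547 (iv1 F72549)
theorem F152318 : act 3 n98800 = n80995 := d7_1 F152316 (iv6 D80995) (iv3 F124577)
def n98801 : Q := act 7 n46227
theorem D98801 : act 7 n46227 = n98801 := rfl
theorem F152321 : act 5 n98801 = n85619 := d13_1 D98801 (iv7 F131321) F131323
theorem F152322 : act 1 n79107 = n98801 := d15_1 F124049 (iv7 D98801) (iv2 F124044)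
theorem F152324 : act 0 n79108 = n80832 := d21_10 F124547 F146804 F146803 (iv6 F120803) (iv1 F118451) F131259 (iv5 F152321) (iv1 F152322) (iv5 D79107) D79108
def n98802 : Q := act 1 n46228
theorem D98802 : act 1 n46228 = n98802 := rfl
theorem F152325 : act 7 n98802 = n77639 := d15_2 (iv0 F151465) D98802 (iv2 F151463)
theorem F152326 : act 3 n77647 = n98802 := d8_3 F152325 F116547 D77647
theorem F152327 : act 6 n82583 = n98802 := d14_5 F152325 (iv6 D77639) (iv7 F72442) D98180 (iv7 F151469)
def n98803 : Q := act 2 n46228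
theorem D98803 : act 2 n46228 = n98803 := rfl
theorem F152329 : act 7 n98803 = n82765 := d4_2 (iv7 F118292) D98803 (iv2 D82765)
theorem F152330 : act 1 n98803 = n82763 := d15_0 (iv0 D82763) (iv7 F118292) D98803
theorem F152332 : act 1 n82764 = n98803 := d15_1 D82764 F152329 (iv2 D82765)
def n98805 : Q := act 6 n46228
theorem D98805 : act 6 n46228 = n98805 := rfl
theorem F152335 : act 3 n98805 = n46230 := d7_1 D98805 (iv6 D46230) D46228
def n98807 : Q := act 6 n46229
theorem D98807 : act 6 n46229 = n98807 := rfl
def n98812 : Q := act 6 n46240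
theorem D98812 : act 6 n46240 = n98812 := rfl
def n98814 : Q := act 5 n46241
theorem D98814 : act 5 n46241 = n98814 := rfl
def n98816 : Q := act 5 n46243
theorem D98816 : act 5 n46243 = n98816 := rfl
theorem F152354 : act 6 n98816 = n83406 := d12_2 D46243 D98816 (iv5 D83406) F118366 (iv5 D46242)
def n98819 : Q := act 2 n46245
theorem D98819 : act 2 n46245 = n98819 := rfl
theorem F152355 : act 6 n98819 = n46256 := d3_2 (iv6 F72893) D98819 (iv2 D46256)
def n98825 : Q := act 5 n46248
theorem D98825 : act 5 n46248 = n98825 := rfl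
theorem F152363 : act 0 n88657 = n98825 := d21_10 (iv5 D98825) (iv1 F72904) (iv5 F135984) (iv6 F140017) (iv1 F140018) (iv6 F135990) F123907 (iv1 D46219) F63823 D88657
def n98826 : Q := act 5 n46249
theorem D98826 : act 5 n46249 = n98826 := rfl
theorem F152366 : act 6 n98826 = n79968 := d12_2 (iv6 F141779) D98826 F122754 F136104 F136103
theorem F152368 : act 0 n98816 = n98826 := d21_10 (iv5 D98826) (iv1 D46249) (iv5 F57016) (iv6 D36270) (iv1 F28517) D22948 F36005 (iv1 F118363) D83406 (iv6 F152354)
def n98827 : Q := act 5 n46251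
theorem D98827 : act 5 n46251 = n98827 := rfl
theorem F152372 : act 0 n98827 = n88743 := d21_1 D98827 F136099 (iv6 D80877) F118462 F34471 (iv5 D10481) (iv1 F7166) D10547 D22122 D46251
def n98828 : Q := act 6 n46251
theorem D98828 : act 6 n46251 = n98828 := rfl
theorem F152376 : act 5 n98828 = n79643 := d21_6 (iv5 D10481) (iv1 F7166) D10547 D22122 D46251 D98828 (iv1 D79643) F57016 (iv6 D22121) F16736
theorem F152377 : act 0 n98277 = n98828 := d21_4 (iv5 D21972) D21970 D45977 D98277 (iv6 D98828) D98827 F152372 F136099 (iv6 D80877) F118462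
theorem F152378 : act 1 n80877 = n98828 := d15_0 (iv0 F152377) F151686 (iv2 F124606)
def n98835 : Q := act 3 n46255
theorem D98835 : act 3 n46255 = n98835 := rfl
def n98836 : Q := act 4 n46255
theorem D98836 : act 4 n46255 = n98836 := rfl
def n98839 : Q := act 5 n46256
theorem D98839 : act 5 n46256 = n98839 := rfl
theorem F152382 : act 2 n98839 = n46257 := d2_1 D98839 (iv5 D46257) D46256
def n98842 : Q := act 4 n46257
theorem D98842 : act 4 n46257 = n98842 := rfl
theorem F152388 : act 5 n87440 = n98842 := d19_1 D87440 (iv4 D98842) F72908 (iv1 F58106) (iv5 D37161) (iv4 D17872) F13232 F5774 (iv5 D2614) F2292 F1705 D927 F1745 (iv4 F3088) D1903 F17464 D9019 D19197 D40672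
def n98847 : Q := act 4 n46259
theorem D98847 : act 4 n46259 = n98847 := rfl
theorem F152392 : act 2 n98847 = n47003 := d1_1 D98847 F74247 (iv2 F72911)
theorem F152393 : act 3 n98847 = n77460 := d5_1 D98847 F116281 F115307 (iv4 D46261) (iv3 F72912)
theorem F152394 : act 7 n98847 = n47004 := d11_2 F74065 D98847 (iv4 F74248)
theorem F152395 : act 5 n98847 = n77459 := d16_1 D98847 F116269 F90810 (iv4 D44677) (iv5 D21276) (iv4 F33492) (iv5 F62001) F62002 (iv2 F72911)
theorem F152396 : act 0 n98847 = n46506 := d18_2 (iv1 F72913) D98847 (iv4 D46506) (iv5 D22292) (iv4 F33676) F33776 (iv4 F70099) F70101 F72915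
theorem F152397 : act 1 n98847 = n46989 := d18_6 (iv1 F58705) (iv4 F33500) (iv1 F34059) (iv4 F34597) D46259 D98847 (iv4 D46989) (iv0 F54816) (iv5 F58703)
def n98848 : Q := act 6 n46259
theorem D98848 : act 6 n46259 = n98848 := rfl
theorem F152398 : act 2 n98848 = n87336 := d3_1 D98848 (iv6 D87336) (iv2 F72911)
theorem F152399 : act 3 n98848 = n46262 := d7_1 D98848 (iv6 D46262) (iv3 F72912)
def n98849 : Q := act 0 n46260
theorem D98849 : act 0 n46260 = n98849 := rfl
theorem F152400 : act 4 n98849 = n97159 := d20_2 (iv4 F72925) D98849 (iv3 D97159) (iv1 F138032) F138030 F137894 (iv1 F136478) (iv4 F147372) F147371 (iv1 F137976)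
theorem F152401 : act 0 n98849 = n87005 := d20_7 F63438 (iv1 D20383) (iv4 F16464) (iv3 F34118) D45409 D97159 (iv4 F152400) F133538 (iv3 D41998) F63200
def n98850 : Q := act 1 n46260
theorem D98850 : act 1 n46260 = n98850 := rfl
theorem F152402 : act 1 n98850 = n87005 := d15_1 D98850 F133539 (iv2 F72923)
theorem F152403 : act 4 n97119 = n98850 := d20_6 (iv4 F114625) (iv1 F83217) (iv4 F147479) (iv3 F149818) (iv1 F149821) D97119 (iv1 D98850) F72925 F71519 D76479
def n98851 : Q := act 5 n46260
theorem D98851 : act 5 n46260 = n98851 := rfl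
theorem F152404 : act 2 n98851 = n87339 := d2_1 D98851 (iv5 D87339) (iv2 F72923)
theorem F152405 : act 3 n98851 = n46265 := d6_1 D98851 (iv5 D46265) (iv3 F72924)
def n98852 : Q := act 7 n46260
theorem D98852 : act 7 n46260 = n98852 := rfl
theorem F152406 : act 2 n98852 = n87005 := d4_1 D98852 F133539 (iv2 F72923)
theorem F152407 : act 3 n98852 = n46266 := d8_1 D98852 (iv7 D46266) (iv3 F72924)
theorem F152408 : act 4 n98852 = n89883 := d11_1 D98852 F137979 (iv4 F72925)
theorem F152409 : act 1 n87338 = n98852 := d15_1 D87338 (iv7 D98852) F72923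
theorem F152410 : act 1 n98852 = n87337 := d15_0 (iv0 D87337) (iv7 F133539) (iv2 F152406)
def n98853 : Q := act 6 n46261
theorem D98853 : act 6 n46261 = n98853 := rfl
theorem F152411 : act 4 n98853 = n46262 := d10_1 D98853 (iv6 D46262) D46261
def n98854 : Q := act 0 n46262
theorem D98854 : act 0 n46262 = n98854 := rfl
def n98855 : Q := act 1 n46262
theorem D98855 : act 1 n46262 = n98855 := rfl
def n98856 : Q := act 5 n46262
theorem D98856 : act 5 n46262 = n98856 := rfl
theorem F152412 : act 6 n98856 = n46265 := d12_2 D46262 D98856 (iv5 D46265) (iv6 D22127) D22126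
def n98857 : Q := act 7 n46262
theorem D98857 : act 7 n46262 = n98857 := rfl
def n98858 : Q := act 5 n46263
theorem D98858 : act 5 n46263 = n98858 := rfl
def n98859 : Q := act 0 n46265
theorem D98859 : act 0 n46265 = n98859 := rfl
def n98860 : Q := act 4 n46265
theorem D98860 : act 4 n46265 = n98860 := rfl
def n98861 : Q := act 7 n46265
theorem D98861 : act 7 n46265 = n98861 := rfl
theorem F152413 : act 5 n98861 = n46266 := d13_1 D98861 (iv7 D46266) D46265
def n98862 : Q := act 0 n46267
theorem D98862 : act 0 n46267 = n98862 := rfl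
def n98863 : Q := act 1 n46267
theorem D98863 : act 1 n46267 = n98863 := rfl
def n98864 : Q := act 5 n46267
theorem D98864 : act 5 n46267 = n98864 := rfl
theorem F152415 : act 6 n98864 = n46269 := d12_2 D46267 D98864 (iv5 D46269) (iv6 D22129) D22128
def n98865 : Q := act 7 n46267
theorem D98865 : act 7 n46267 = n98865 := rfl
theorem F152416 : act 3 n98865 = n87349 := d8_1 D98865 (iv7 D87349) (iv3 F72926)
def n98866 : Q := act 0 n46269
theorem D98866 : act 0 n46269 = n98866 := rfl
def n98867 : Q := act 1 n46269
theorem D98867 : act 1 n46269 = n98867 := rfl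
theorem F152417 : act 5 n47604 = n98867 := d21_6 D10552 D22131 F34602 D22505 (iv1 F73645) (iv6 F74858) (iv1 D98867) (iv5 D46269) (iv6 D22129) (iv1 D10550)
def n98868 : Q := act 4 n46269
theorem D98868 : act 4 n46269 = n98868 := rfl
def n98869 : Q := act 5 n46270
theorem D98869 : act 5 n46270 = n98869 := rfl
theorem F152419 : act 2 n98869 = n46286 := d2_1 D98869 (iv5 D46286) F72930
theorem F152420 : act 7 n98869 = n46284 := d13_2 (iv7 F72929) D98869 (iv5 D46284)
def n98870 : Q := act 0 n46271
theorem D98870 : act 0 n46271 = n98870 := rfl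
theorem F152421 : act 5 n98870 = n88370 := d21_8 D47605 F136668 (iv5 D89023) (iv6 D41580) (iv1 F31346) D22130 D46271 D98870 F135329 (iv1 D47603)
theorem E14828 : n93951 = n93898 := ((c17_2 (iv1 F144603) D93898 (iv1 D93951) (iv5 F135603) F135602 (iv5 F152421) (iv0 D98870) (iv5 D46271) D46270 (iv4 F144599))).symm
theorem F152422 : act 0 n93898 = n43915 := (sb E14828 (iv1 D93951))
theorem F152423 : act 3 n86944 = n98870 := d6_3 F152421 (iv3 D88370) (iv5 F133447)
theorem F152424 : act 7 n46289 = n98870 := d13_0 F152421 (iv7 F139512) F139513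
theorem F152425 : act 2 n98870 = n46288 := d15_3 (iv0 D46288) D46289 F152424
def n98871 : Q := act 1 n46271
theorem D98871 : act 1 n46271 = n98871 := rfl
theorem F152426 : act 1 n98871 = n46291 := d15_1 D98871 (iv7 D46291) (iv2 F72931)
theorem F152427 : act 7 n98871 = n46288 := d15_2 (iv0 D98870) D98871 (iv2 F152425)
theorem F152428 : act 5 n46873 = n98871 := d21_6 F35076 (iv1 D22511) (iv5 D10689) D10690 D22514 D46873 (iv1 D98871) (iv5 D46271) (iv6 D22130) (iv1 F31354)
theorem F152429 : act 2 n98871 = n46289 := d2_1 F152428 (iv5 F139513) F139509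
theorem F152430 : act 1 n46291 = n98870 := d15_1 F152426 (iv7 F152424) (iv2 F152429)
def n98872 : Q := act 4 n46271
theorem D98872 : act 4 n46271 = n98872 := rfl
theorem F152431 : act 2 n98872 = n46290 := d1_1 D98872 (iv4 D46290) (iv2 F72931)
def n98873 : Q := act 7 n46271
theorem D98873 : act 7 n46271 = n98873 := rfl
theorem F152433 : act 5 n98873 = n46272 := d13_1 D98873 (iv7 D46272) D46271
theorem F152434 : act 1 n46289 = n98873 := d15_1 D46289 (iv7 D98873) F72931
theorem F152435 : act 1 n98873 = n46288 := d15_1 F152434 (iv7 F152427) F152429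
def n98874 : Q := act 6 n46273
theorem D98874 : act 6 n46273 = n98874 := rfl
theorem F152436 : act 2 n98874 = n87384 := d3_1 D98874 (iv6 D87384) (iv2 F72935)
theorem F152437 : act 3 n98874 = n46275 := d7_1 D98874 (iv6 D46275) D46273
def n98875 : Q := act 6 n46274
theorem D98875 : act 6 n46274 = n98875 := rfl
theorem F152438 : act 3 n98875 = n57278 := d7_1 D98875 (iv6 D57278) (iv3 F72938)
theorem F152439 : act 4 n98875 = n46275 := d10_1 D98875 (iv6 D46275) D46274
def n98876 : Q := act 0 n46275
theorem D98876 : act 0 n46275 = n98876 := rfl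
def n98877 : Q := act 1 n46275
theorem D98877 : act 1 n46275 = n98877 := rfl
def n98878 : Q := act 5 n46275
theorem D98878 : act 5 n46275 = n98878 := rfl
theorem F152440 : act 6 n98878 = n46850 := d12_2 D46275 D98878 (iv5 D46850) (iv6 D22505) (iv5 F34602)
def n98879 : Q := act 7 n46275
theorem D98879 : act 7 n46275 = n98879 := rfl
def n98880 : Q := act 3 n46276
theorem D98880 : act 3 n46276 = n98880 := rfl
theorem F152441 : act 2 n98880 = n57280 := d0_1 D98880 (iv3 D57280) (iv2 F125382) (iv3 F129894) F129893
theorem F152442 : act 4 n98880 = n77636 := d5_2 D46276 D98880 F116537 F61679 (iv3 F44594)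
theorem F152444 : act 0 n73042 = n98880 := d20_4 (iv4 F116557) F116556 (iv4 D73043) D73042 (iv3 D98880) (iv4 D46276) (iv1 D22132) D22133 (iv3 F59412) (iv1 F90531)
def n98881 : Q := act 6 n46276
theorem D98881 : act 6 n46276 = n98881 := rfl
def n98884 : Q := act 5 n46277
theorem D98884 : act 5 n46277 = n98884 := rfl
theorem F152447 : act 6 n98884 = n46852 := d12_2 D46277 D98884 (iv5 D46852) (iv6 D22507) (iv5 F44595)
def n98885 : Q := act 7 n46277
theorem D98885 : act 7 n46277 = n98885 := rfl
theorem F152448 : act 3 n98885 = n87392 := d8_1 D98885 (iv7 D87392) (iv3 F72939)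
def n98886 : Q := act 0 n46278
theorem D98886 : act 0 n46278 = n98886 := rfl
def n98887 : Q := act 5 n46278
theorem D98887 : act 5 n46278 = n98887 := rfl
def n98888 : Q := act 7 n46278
theorem D98888 : act 7 n46278 = n98888 := rfl
theorem F152449 : act 4 n98888 = n46282 := d11_1 D98888 (iv7 D46282) (iv4 F72940)
def n98889 : Q := act 2 n46279
theorem D98889 : act 2 n46279 = n98889 := rfl
theorem F152450 : act 7 n46280 = n98889 := d15_2 (iv0 D46279) D46280 (iv2 D98889)
def n98890 : Q := act 3 n46279
theorem D98890 : act 3 n46279 = n98890 := rfl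
def n98891 : Q := act 4 n46279
theorem D98891 : act 4 n46279 = n98891 := rfl
def n98892 : Q := act 5 n46279
theorem D98892 : act 5 n46279 = n98892 := rfl
def n98893 : Q := act 6 n46279
theorem D98893 : act 6 n46279 = n98893 := rfl
def n98894 : Q := act 7 n46279
theorem D98894 : act 7 n46279 = n98894 := rfl
theorem F152451 : act 2 n98894 = n46280 := d4_1 D98894 F152450 (iv2 D98889)
def n98895 : Q := act 3 n46280
theorem D98895 : act 3 n46280 = n98895 := rfl
theorem F152452 : act 4 n98895 = n98087 := d20_6 F117236 F91424 (iv4 F91427) D58501 (iv1 F92427) D98895 (iv1 D98087) F72308 F34398 D37458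
def n98896 : Q := act 4 n46280
theorem D98896 : act 4 n46280 = n98896 := rfl
def n98897 : Q := act 5 n46280
theorem D98897 : act 5 n46280 = n98897 := rfl
def n98898 : Q := act 6 n46280
theorem D98898 : act 6 n46280 = n98898 := rfl
def n98899 : Q := act 0 n46281
theorem D98899 : act 0 n46281 = n98899 := rfl
def n98900 : Q := act 1 n46281
theorem D98900 : act 1 n46281 = n98900 := rfl
def n98901 : Q := act 4 n46281
theorem D98901 : act 4 n46281 = n98901 := rfl
theorem F152453 : act 6 n98901 = n46290 := d10_2 (iv6 F72942) D98901 (iv4 D46290)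
def n98902 : Q := act 7 n46281
theorem D98902 : act 7 n46281 = n98902 := rfl
theorem F152454 : act 3 n98902 = n46305 := d8_1 D98902 (iv7 D46305) (iv3 F72941)
theorem F152455 : act 5 n98902 = n46282 := d13_1 D98902 (iv7 D46282) D46281
def n98903 : Q := act 5 n46283
theorem D98903 : act 5 n46283 = n98903 := rfl
theorem F152456 : act 2 n98903 = n87409 := d2_1 D98903 (iv5 D87409) (iv2 F72944)
theorem F152457 : act 3 n98903 = n46284 := d6_1 D98903 (iv5 D46284) D46283
def n98904 : Q := act 6 n46283
theorem D98904 : act 6 n46283 = n98904 := rfl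
theorem F152458 : act 2 n98904 = n87410 := d3_1 D98904 (iv6 D87410) (iv2 F72944)
theorem F152459 : act 3 n98904 = n46285 := d7_1 D98904 (iv6 D46285) D46283
def n98905 : Q := act 0 n46284
theorem D98905 : act 0 n46284 = n98905 := rfl
theorem F152460 : act 1 n46286 = n98905 := d15_0 (iv0 D98905) (iv7 F152420) F152419
def n98906 : Q := act 1 n46284
theorem D98906 : act 1 n46284 = n98906 := rfl
theorem F152461 : act 1 n98906 = n46286 := d15_1 D98906 (iv7 F144731) F144729
theorem F152462 : act 3 n98906 = n46313 := d20_5 D94072 F144940 (iv4 D87415) (iv3 F72945) (iv1 F152461) (iv4 F150647) (iv1 D97740) (iv4 D45631) F34249 D43974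
def n98907 : Q := act 4 n46284
theorem D98907 : act 4 n46284 = n98907 := rfl
def n98908 : Q := act 6 n46284
theorem D98908 : act 6 n46284 = n98908 := rfl
def n98909 : Q := act 0 n46285
theorem D98909 : act 0 n46285 = n98909 := rfl
def n98910 : Q := act 1 n46285
theorem D98910 : act 1 n46285 = n98910 := rfl
def n98911 : Q := act 5 n46285
theorem D98911 : act 5 n46285 = n98911 := rfl
def n98912 : Q := act 7 n46285
theorem D98912 : act 7 n46285 = n98912 := rfl
def n98913 : Q := act 4 n46286
theorem D98913 : act 4 n46286 = n98913 := rfl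
def n98914 : Q := act 6 n46286
theorem D98914 : act 6 n46286 = n98914 := rfl
theorem F152463 : act 3 n98914 = n87416 := d7_1 D98914 (iv6 D87416) (iv3 F72945)
def n98915 : Q := act 1 n46287
theorem D98915 : act 1 n46287 = n98915 := rfl
def n98916 : Q := act 5 n46287
theorem D98916 : act 5 n46287 = n98916 := rfl
theorem F152464 : act 3 n98916 = n87418 := d6_1 D98916 (iv5 D87418) (iv3 F72946)
def n98917 : Q := act 3 n46288
theorem D98917 : act 3 n46288 = n98917 := rfl
theorem F152465 : act 2 n98917 = n87419 := d0_1 D98917 (iv3 D87419) F133449 F152423 F152425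
def n98918 : Q := act 4 n46288
theorem D98918 : act 4 n46288 = n98918 := rfl
def n98919 : Q := act 5 n46288
theorem D98919 : act 5 n46288 = n98919 := rfl
theorem F152466 : act 2 n98919 = n88370 := d2_1 D98919 (iv5 F152421) F152425
theorem F152467 : act 7 n98919 = n46873 := d13_2 F152427 D98919 F152428
theorem F152468 : act 1 n98919 = n47636 := d15_0 (iv0 F139515) F139512 (iv2 F152466)
def n98920 : Q := act 6 n46288
theorem D98920 : act 6 n46288 = n98920 := rfl
def n98921 : Q := act 4 n46289
theorem D98921 : act 4 n46289 = n98921 := rfl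
def n98922 : Q := act 6 n46289
theorem D98922 : act 6 n46289 = n98922 := rfl
theorem F152469 : act 3 n98922 = n87424 := d7_1 D98922 (iv6 D87424) (iv3 F139514)
def n98923 : Q := act 0 n46290
theorem D98923 : act 0 n46290 = n98923 := rfl
def n98924 : Q := act 1 n46290
theorem D98924 : act 1 n46290 = n98924 := rfl
def n98925 : Q := act 3 n46290
theorem D98925 : act 3 n46290 = n98925 := rfl
def n98926 : Q := act 5 n46290
theorem D98926 : act 5 n46290 = n98926 := rfl
def n98931 : Q := act 3 n46292
theorem D98931 : act 3 n46292 = n98931 := rfl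
theorem F152475 : act 7 n98931 = n46298 := d8_2 F72949 D98931 (iv3 D46298)
def n98932 : Q := act 4 n46292
theorem D98932 : act 4 n46292 = n98932 := rfl
theorem F152476 : act 2 n98932 = n46294 := d1_1 D98932 (iv4 D46294) D46292
theorem F152477 : act 7 n98932 = n46299 := d11_2 F72949 D98932 (iv4 D46299)
def n98933 : Q := act 5 n46292
theorem D98933 : act 5 n46292 = n98933 := rfl
theorem F152478 : act 2 n98933 = n46295 := d2_1 D98933 (iv5 D46295) D46292
theorem F152479 : act 7 n98933 = n46300 := d13_2 F72949 D98933 (iv5 D46300)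
def n98934 : Q := act 6 n46292
theorem D98934 : act 6 n46292 = n98934 := rfl
theorem F152480 : act 2 n98934 = n46296 := d3_1 D98934 (iv6 D46296) D46292
def n98935 : Q := act 0 n46293
theorem D98935 : act 0 n46293 = n98935 := rfl
def n98936 : Q := act 1 n46293
theorem D98936 : act 1 n46293 = n98936 := rfl
def n98937 : Q := act 2 n46293
theorem D98937 : act 2 n46293 = n98937 := rfl
def n98938 : Q := act 4 n46293
theorem D98938 : act 4 n46293 = n98938 := rfl
def n98939 : Q := act 5 n46293
theorem D98939 : act 5 n46293 = n98939 := rfl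
theorem F152481 : act 3 n98939 = n46295 := d6_1 D98939 (iv5 D46295) D46293
def n98940 : Q := act 6 n46293
theorem D98940 : act 6 n46293 = n98940 := rfl
theorem F152482 : act 3 n98940 = n46296 := d7_1 D98940 (iv6 D46296) D46293
def n98941 : Q := act 7 n46293
theorem D98941 : act 7 n46293 = n98941 := rfl
theorem F152483 : act 3 n98941 = n46297 := d8_1 D98941 (iv7 D46297) D46293
def n98942 : Q := act 0 n46294
theorem D98942 : act 0 n46294 = n98942 := rfl
def n98943 : Q := act 1 n46294
theorem D98943 : act 1 n46294 = n98943 := rfl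
theorem F152484 : act 1 n98943 = n46299 := d15_1 D98943 (iv7 F152477) F152476
theorem F152485 : act 3 n84142 = n98943 := d20_9 (iv4 D46294) (iv1 F91585) (iv4 F113413) F113412 (iv1 D38776) D38777 F59676 D38786 D84142 (iv1 D98943)
def n98944 : Q := act 3 n46294
theorem D98944 : act 3 n46294 = n98944 := rfl
theorem F152486 : act 0 n56064 = n98944 := d20_4 (iv4 D18438) F116651 (iv4 F43707) (iv3 F88733) (iv3 D98944) (iv4 D46294) (iv1 F91585) (iv4 F113413) F113412 (iv1 D38776)
def n98945 : Q := act 5 n46294
theorem D98945 : act 5 n46294 = n98945 := rfl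
def n98946 : Q := act 6 n46294
theorem D98946 : act 6 n46294 = n98946 := rfl
theorem F152487 : act 4 n98946 = n46296 := d10_1 D98946 (iv6 D46296) D46294
def n98947 : Q := act 7 n46294
theorem D98947 : act 7 n46294 = n98947 := rfl
theorem F152488 : act 2 n98947 = n46299 := d4_1 D98947 (iv7 F152477) F152476
theorem F152490 : act 1 n46299 = n98942 := d15_0 (iv0 D98942) D98947 F152488
def n98948 : Q := act 0 n46295
theorem D98948 : act 0 n46295 = n98948 := rfl
theorem F152491 : act 5 n98948 = n98326 := d21_2 D46295 D98948 (iv6 D98326) (iv1 D46003) (iv6 D21979) (iv5 D10483) (iv1 F6887) D4830 D10554 D22139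
def n98949 : Q := act 1 n46295
theorem D98949 : act 1 n46295 = n98949 := rfl
theorem F152492 : act 1 n98949 = n46300 := d15_1 D98949 (iv7 F152479) F152478
def n98950 : Q := act 4 n46295
theorem D98950 : act 4 n46295 = n98950 := rfl
def n98951 : Q := act 6 n46295
theorem D98951 : act 6 n46295 = n98951 := rfl
def n98952 : Q := act 7 n46295
theorem D98952 : act 7 n46295 = n98952 := rfl
theorem F152493 : act 2 n98952 = n46300 := d4_1 D98952 (iv7 F152479) F152478
theorem F152494 : act 5 n98952 = n46297 := d13_1 D98952 (iv7 D46297) D46295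
theorem F152495 : act 1 n46300 = n98948 := d15_0 (iv0 D98948) D98952 F152493
def n98953 : Q := act 0 n46296
theorem D98953 : act 0 n46296 = n98953 := rfl
def n98954 : Q := act 1 n46296
theorem D98954 : act 1 n46296 = n98954 := rfl
def n98955 : Q := act 5 n46296
theorem D98955 : act 5 n46296 = n98955 := rfl
theorem F152496 : act 0 n98955 = n46464 := d21_7 (iv5 D10483) (iv1 F6887) D4830 D10554 D22139 D46296 D98955 (iv5 D46464) (iv6 D22262) F17136
theorem F152497 : act 0 n46893 = n98955 := d21_7 D85842 (iv1 F131707) (iv5 F73853) (iv6 D46731) (iv1 F73295) F73292 (iv5 F74096) (iv5 D98955) (iv6 D46296) (iv1 F91585)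
def n98956 : Q := act 7 n46296
theorem D98956 : act 7 n46296 = n98956 := rfl
def n98957 : Q := act 6 n46297
theorem D98957 : act 6 n46297 = n98957 := rfl
theorem F152498 : act 2 n98957 = n46301 := d3_1 D98957 (iv6 D46301) (iv2 F72950)
def n98958 : Q := act 0 n46298
theorem D98958 : act 0 n46298 = n98958 := rfl
def n98959 : Q := act 1 n46298
theorem D98959 : act 1 n46298 = n98959 := rfl
def n98960 : Q := act 2 n46298
theorem D98960 : act 2 n46298 = n98960 := rfl
def n98961 : Q := act 4 n46298
theorem D98961 : act 4 n46298 = n98961 := rfl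
def n98962 : Q := act 5 n46298
theorem D98962 : act 5 n46298 = n98962 := rfl
theorem F152499 : act 3 n98962 = n46300 := d6_1 D98962 (iv5 D46300) D46298
def n98963 : Q := act 6 n46298
theorem D98963 : act 6 n46298 = n98963 := rfl
theorem F152500 : act 3 n98963 = n46301 := d7_1 D98963 (iv6 D46301) D46298
def n98964 : Q := act 3 n46299
theorem D98964 : act 3 n46299 = n98964 := rfl
def n98965 : Q := act 5 n46299
theorem D98965 : act 5 n46299 = n98965 := rfl
def n98966 : Q := act 6 n46299
theorem D98966 : act 6 n46299 = n98966 := rfl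
theorem F152501 : act 4 n98966 = n46301 := d10_1 D98966 (iv6 D46301) D46299
def n98967 : Q := act 4 n46300
theorem D98967 : act 4 n46300 = n98967 := rfl
def n98968 : Q := act 6 n46300
theorem D98968 : act 6 n46300 = n98968 := rfl
def n98969 : Q := act 0 n46301
theorem D98969 : act 0 n46301 = n98969 := rfl
def n98970 : Q := act 1 n46301
theorem D98970 : act 1 n46301 = n98970 := rfl
def n98971 : Q := act 5 n46301
theorem D98971 : act 5 n46301 = n98971 := rfl
theorem F152502 : act 0 n98356 = n98971 := d21_1 D98356 (iv5 D98971) (iv6 D46301) (iv1 D22140) (iv6 D10554) (iv5 D4830) (iv1 F6883) D10486 D21988 D46016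
def n98972 : Q := act 7 n46301
theorem D98972 : act 7 n46301 = n98972 := rfl
def n98973 : Q := act 2 n46302
theorem D98973 : act 2 n46302 = n98973 := rfl
theorem F152503 : act 7 n46303 = n98973 := d15_2 (iv0 D46302) D46303 (iv2 D98973)
def n98974 : Q := act 3 n46302
theorem D98974 : act 3 n46302 = n98974 := rfl
def n98975 : Q := act 4 n46302
theorem D98975 : act 4 n46302 = n98975 := rfl
def n98976 : Q := act 5 n46302
theorem D98976 : act 5 n46302 = n98976 := rfl
def n98977 : Q := act 6 n46302
theorem D98977 : act 6 n46302 = n98977 := rfl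
def n98978 : Q := act 7 n46302
theorem D98978 : act 7 n46302 = n98978 := rfl
theorem F152504 : act 2 n98978 = n46303 := d4_1 D98978 F152503 (iv2 D98973)
def n98979 : Q := act 3 n46303
theorem D98979 : act 3 n46303 = n98979 := rfl
def n98980 : Q := act 4 n46303
theorem D98980 : act 4 n46303 = n98980 := rfl
def n98981 : Q := act 6 n46303
theorem D98981 : act 6 n46303 = n98981 := rfl
def n98982 : Q := act 0 n46304
theorem D98982 : act 0 n46304 = n98982 := rfl
def n98983 : Q := act 1 n46304
theorem D98983 : act 1 n46304 = n98983 := rfl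
def n98986 : Q := act 7 n46304
theorem D98986 : act 7 n46304 = n98986 := rfl
theorem F152506 : act 4 n98986 = n46305 := d11_1 D98986 (iv7 D46305) D46304
def n98988 : Q := act 5 n46307
theorem D98988 : act 5 n46307 = n98988 := rfl
theorem F152508 : act 2 n98988 = n46308 := d2_1 D98988 (iv5 D46308) D46307
def n98989 : Q := act 6 n46307
theorem D98989 : act 6 n46307 = n98989 := rfl
theorem F152509 : act 2 n98989 = n46309 := d3_1 D98989 (iv6 D46309) D46307
theorem F152510 : act 4 n98989 = n97321 := d10_1 D98989 (iv6 D97321) (iv4 F72953)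
theorem F152511 : act 1 n98989 = n94095 := d15_0 (iv0 F144995) F137325 (iv2 F152509)
def n98990 : Q := act 1 n46308
theorem D98990 : act 1 n46308 = n98990 := rfl
def n98991 : Q := act 4 n46308
theorem D98991 : act 4 n46308 = n98991 := rfl
def n98992 : Q := act 6 n46308
theorem D98992 : act 6 n46308 = n98992 := rfl
theorem F152512 : act 3 n98992 = n46315 := d7_1 D98992 (iv6 D46315) (iv3 F72955)
def n98993 : Q := act 1 n46309
theorem D98993 : act 1 n46309 = n98993 := rfl
def n98995 : Q := act 3 n46312
theorem D98995 : act 3 n46312 = n98995 := rfl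
theorem F152519 : act 5 n98995 = n98006 := d6_2 (iv5 F72970) D98995 F151108
def n99000 : Q := act 6 n46314
theorem D99000 : act 6 n46314 = n99000 := rfl
theorem F152523 : act 4 n99000 = n46315 := d10_1 D99000 (iv6 D46315) D46314
def n99001 : Q := act 0 n46315
theorem D99001 : act 0 n46315 = n99001 := rfl
def n99002 : Q := act 1 n46315
theorem D99002 : act 1 n46315 = n99002 := rfl
def n99003 : Q := act 7 n46315
theorem D99003 : act 7 n46315 = n99003 := rfl
def n99004 : Q := act 3 n46317
theorem D99004 : act 3 n46317 = n99004 := rfl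
theorem F152524 : act 4 n99004 = n88988 := d5_2 (iv4 F144724) D99004 (iv3 F144725) (iv4 D93897) D93896
theorem F152525 : act 0 n87376 = n99004 := d20_10 F152524 (iv1 D88988) F64106 (iv3 D41546) F62619 D45650 F71979 F134150 (iv4 D87377) D87376
theorem F152526 : act 0 n93897 = n98692 := d20_10 (iv4 D98692) (iv1 F145541) F145538 (iv3 F126452) (iv1 F126456) D88929 F136493 F152525 F152524 (iv3 F144725)
def n99006 : Q := act 6 n46317
theorem D99006 : act 6 n46317 = n99006 := rfl
def n99007 : Q := act 4 n46318
theorem D99007 : act 4 n46318 = n99007 := rfl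
theorem F152527 : act 7 n99007 = n94310 := d11_2 (iv7 F145450) D99007 F145446
theorem F152528 : act 3 n99007 = n94144 := d20_3 F138802 (iv1 F136538) D99007 (iv1 F145103) (iv3 F145119) F145120 (iv1 D89027) (iv4 F136654) F136653 D90240
theorem E14829 : n94313 = n94144 := ((c8_2 (iv7 F152527) F152528 (iv7 D94313) D94310)).symm
theorem F152529 : act 2 n94144 = n44087 := (sb E14829 F145453)
theorem E14830 : n95995 = n93985 := (((F145102).symm.trans (sb E14829 (iv4 F147631)))).symm
theorem F152530 : act 7 n94144 = n44086 := (sb E14829 (iv7 D94313))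
theorem F152531 : act 2 n93985 = n44797 := (sb E14830 F147630)
theorem F152532 : act 7 n93985 = n44796 := (sb E14830 (iv7 D95995))
theorem F152533 : act 0 n99007 = n94136 := d20_4 (iv4 F69053) D93985 (iv4 F145102) (iv3 F152528) (iv3 D94136) D94137 F145560 F145557 (iv3 D94005) (iv1 D43938)
theorem F152534 : act 1 n93896 = n94136 := d15_0 (iv0 F152533) F152527 F145445
theorem F152535 : act 0 n99004 = n98418 := d20_4 (iv4 F145092) (iv1 F152534) (iv4 F144724) D99004 (iv3 D98418) (iv4 D46037) (iv1 F72622) (iv4 F145028) F145027 (iv1 F144930)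
theorem E14831 : n95991 = n93986 := (c15_4 F144796 F144791 F152532 D95991)
theorem F152536 : act 2 n93986 = n44796 := (sb E14831 (iv2 D95991))
theorem E14832 : n97315 = n96563 := ((((iv3 F148728)).symm.trans (sb E14831 (iv3 F150055)))).symm
theorem E14833 : n94309 = n94145 := ((((iv4 F145125)).symm.trans (sb E14831 F147625))).symm
theorem F152538 : act 2 n96563 = n45453 := (sb E14832 F150054)
theorem F152539 : act 7 n96563 = n45452 := (sb E14832 (iv7 D97315))
theorem F152540 : act 2 n94145 = n44086 := (sb E14833 (iv2 D94309))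
theorem E14834 : n93895 = n93804 := ((((iv3 F145126)).symm.trans (sb E14833 F145444))).symm
theorem F152542 : act 2 n93804 = n43893 := (sb E14834 F144723)
theorem F152543 : act 7 n93804 = n43892 := (sb E14834 (iv7 D93895))
theorem E14835 : n93890 = n93805 := (c15_4 F144602 F144597 F152543 D93890)
theorem F152544 : act 2 n93805 = n43892 := (sb E14835 (iv2 D93890))
theorem F152545 : act 7 n93805 = n43893 := (sb E14835 (iv7 F144721))
theorem E14836 : n97311 = n96564 := (c15_4 F148734 F148729 F152539 D97311)
theorem F152546 : act 2 n96564 = n45452 := (sb E14836 (iv2 D97311))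
theorem F152547 : act 7 n96564 = n45453 := (sb E14836 (iv7 F150050))
def n99008 : Q := act 5 n46318
theorem D99008 : act 5 n46318 = n99008 := rfl
def n99009 : Q := act 6 n46318
theorem D99009 : act 6 n46318 = n99009 := rfl
def n99010 : Q := act 5 n46319
theorem D99010 : act 5 n46319 = n99010 := rfl
theorem F152548 : act 2 n99010 = n46320 := d2_1 D99010 (iv5 D46320) D46319
def n99011 : Q := act 6 n46319
theorem D99011 : act 6 n46319 = n99011 := rfl
theorem F152549 : act 2 n99011 = n46321 := d3_1 D99011 (iv6 D46321) D46319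
theorem F152550 : act 4 n99011 = n94444 := d10_1 D99011 (iv6 D94444) (iv4 F72973)
def n99012 : Q := act 0 n46320
theorem D99012 : act 0 n46320 = n99012 := rfl
def n99013 : Q := act 1 n46320
theorem D99013 : act 1 n46320 = n99013 := rfl
def n99014 : Q := act 4 n46320
theorem D99014 : act 4 n46320 = n99014 := rfl
def n99015 : Q := act 6 n46320
theorem D99015 : act 6 n46320 = n99015 := rfl
theorem F152551 : act 3 n99015 = n46323 := d7_1 D99015 (iv6 D46323) (iv3 F72974)
def n99016 : Q := act 0 n46321
theorem D99016 : act 0 n46321 = n99016 := rfl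
def n99017 : Q := act 1 n46321
theorem D99017 : act 1 n46321 = n99017 := rfl
def n99020 : Q := act 6 n46322
theorem D99020 : act 6 n46322 = n99020 := rfl
theorem F152554 : act 4 n99020 = n46323 := d10_1 D99020 (iv6 D46323) D46322
def n99021 : Q := act 0 n46323
theorem D99021 : act 0 n46323 = n99021 := rfl
def n99022 : Q := act 1 n46323
theorem D99022 : act 1 n46323 = n99022 := rfl
def n99023 : Q := act 7 n46323
theorem D99023 : act 7 n46323 = n99023 := rfl
def n99024 : Q := act 1 n46325
theorem D99024 : act 1 n46325 = n99024 := rfl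
def n99025 : Q := act 2 n46325
theorem D99025 : act 2 n46325 = n99025 := rfl
theorem F152555 : act 1 n99025 = n86937 := d15_0 (iv0 F140420) F136570 D99025
def n99026 : Q := act 4 n46325
theorem D99026 : act 4 n46325 = n99026 := rfl
def n99027 : Q := act 5 n46325
theorem D99027 : act 5 n46325 = n99027 := rfl
theorem F152556 : act 3 n99027 = n46327 := d6_1 D99027 (iv5 D46327) D46325
theorem F152557 : act 7 n99027 = n46897 := d13_2 F136570 D99027 (iv5 F136569)
theorem F152558 : act 4 n97369 = n99027 := d11_3 F152557 (iv4 F75506) (iv7 F150109)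
theorem F152559 : act 6 n47550 = n99027 := d14_5 F152557 (iv6 D46897) (iv7 F73376) (iv6 F74788) F74789
theorem F152560 : act 2 n99027 = n88361 := d15_3 (iv0 D88361) (iv0 F135291) (iv7 F152557)
theorem F152561 : act 5 n88361 = n99025 := d2_2 D99027 F152560 (iv2 D99025)
theorem F152562 : act 0 n99027 = n88363 := d20_7 (iv4 D21376) (iv1 F63251) (iv4 F17936) (iv3 F36751) (iv1 F71722) (iv3 F150108) F152558 (iv4 F147713) (iv3 D96091) (iv1 F70422)
def n99028 : Q := act 6 n46325
theorem D99028 : act 6 n46325 = n99028 := rfl
theorem F152563 : act 3 n99028 = n46328 := d7_1 D99028 (iv6 D46328) D46325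
def n99031 : Q := act 6 n46326
theorem D99031 : act 6 n46326 = n99031 := rfl
theorem F152565 : act 4 n99031 = n46328 := d10_1 D99031 (iv6 D46328) D46326
def n99032 : Q := act 0 n46328
theorem D99032 : act 0 n46328 = n99032 := rfl
def n99033 : Q := act 1 n46328
theorem D99033 : act 1 n46328 = n99033 := rfl
def n99034 : Q := act 7 n46328
theorem D99034 : act 7 n46328 = n99034 := rfl
def n99035 : Q := act 0 n46329
theorem D99035 : act 0 n46329 = n99035 := rfl
def n99036 : Q := act 1 n46329
theorem D99036 : act 1 n46329 = n99036 := rfl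
def n99037 : Q := act 2 n46329
theorem D99037 : act 2 n46329 = n99037 := rfl
def n99038 : Q := act 4 n46329
theorem D99038 : act 4 n46329 = n99038 := rfl
def n99039 : Q := act 5 n46329
theorem D99039 : act 5 n46329 = n99039 := rfl
theorem F152566 : act 3 n99039 = n46331 := d6_1 D99039 (iv5 D46331) D46329
theorem F152567 : act 4 n92623 = n99039 := d5_0 F152566 F72987 F68007 (iv4 F68020) (iv3 F142712)
theorem F152568 : act 6 n46466 = n99039 := d7_0 F152566 (iv6 F72988) D46466
def n99040 : Q := act 6 n46329
theorem D99040 : act 6 n46329 = n99040 := rfl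
theorem F152569 : act 3 n99040 = n46332 := d7_1 D99040 (iv6 D46332) D46329
def n99043 : Q := act 6 n46330
theorem D99043 : act 6 n46330 = n99043 := rfl
theorem F152571 : act 4 n99043 = n46332 := d10_1 D99043 (iv6 D46332) D46330
def n99044 : Q := act 0 n46332
theorem D99044 : act 0 n46332 = n99044 := rfl
def n99045 : Q := act 1 n46332
theorem D99045 : act 1 n46332 = n99045 := rfl
def n99046 : Q := act 5 n46332
theorem D99046 : act 5 n46332 = n99046 := rfl
theorem F152572 : act 2 n99046 = n46903 := d2_1 D99046 (iv5 F136575) F136574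
theorem F152573 : act 6 n99046 = n46467 := d12_2 D46332 D99046 (iv5 D46467) F72988 (iv5 D46331)
def n99047 : Q := act 7 n46332
theorem D99047 : act 7 n46332 = n99047 := rfl
def n99062 : Q := act 2 n46339
theorem D99062 : act 2 n46339 = n99062 := rfl
theorem F152579 : act 7 n46340 = n99062 := d15_2 (iv0 D46339) D46340 (iv2 D99062)
def n99063 : Q := act 4 n46339
theorem D99063 : act 4 n46339 = n99063 := rfl
theorem F152580 : act 3 n99063 = n96102 := d5_1 D99063 (iv4 F150057) (iv3 D97316) D97317 F150064
theorem F152581 : act 0 n88929 = n99063 := d20_10 (iv4 D99063) (iv1 F72990) F66326 (iv3 D40649) (iv1 F66209) D43995 F69204 (iv1 F72614) F72615 D88929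
theorem F152582 : act 2 n99004 = n99063 := d0_5 F152580 F150058 (iv3 F147628) F145449 D99004
theorem E14837 : n99062 = n88988 := (c1_4 (iv4 F152524) F152582 (iv4 D99063) D99062)
theorem F152583 : act 2 n88988 = n46339 := (sb E14837 (iv2 D99062))
theorem F152584 : act 7 n88988 = n46340 := (sb E14837 (iv7 F152579))
theorem F152585 : act 2 n46340 = n88987 := d15_3 (iv0 D88987) D88988 F152584
theorem F152586 : act 7 n46339 = n88987 := d4_2 (iv7 F152584) F152583 (iv2 F152585)
def n99066 : Q := act 3 n46340
theorem D99066 : act 3 n46340 = n99066 := rfl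
theorem F152587 : act 7 n99066 = n93897 := d8_2 F152584 D99066 F144725
theorem F152588 : act 4 n99066 = n93805 := d20_6 F14074 D9016 D19189 D40649 (iv1 F72991) D99066 (iv1 D93805) F68923 F66229 (iv1 D19184)
theorem F152589 : act 2 n93892 = n99066 := d1_3 F152588 F152544 D93892
def n99067 : Q := act 4 n46340
theorem D99067 : act 4 n46340 = n99067 := rfl
theorem F152590 : act 7 n99067 = n99004 := d11_2 F152584 D99067 F152524
theorem F152591 : act 0 n99067 = n88929 := d20_1 D99067 F136493 (iv3 D87376) (iv1 D40610) F30821 F14074 D9016 D19189 D40649 (iv1 F72991)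
theorem F152592 : act 3 n99067 = n88961 := d20_3 F66326 (iv1 F72991) D99067 (iv1 F136533) (iv3 F136553) (iv4 F148731) (iv1 F148735) D97317 F150064 (iv1 F72990)
def n99068 : Q := act 5 n46340
theorem D99068 : act 5 n46340 = n99068 := rfl
def n99069 : Q := act 6 n46340
theorem D99069 : act 6 n46340 = n99069 := rfl
def n99070 : Q := act 0 n46341
theorem D99070 : act 0 n46341 = n99070 := rfl
theorem F152593 : act 1 n87431 = n99070 := d15_0 (iv0 D99070) (iv7 F136598) F136596
def n99071 : Q := act 1 n46341
theorem D99071 : act 1 n46341 = n99071 := rfl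
theorem F152594 : act 1 n99071 = n87431 := d15_1 D99071 (iv7 F145009) F145007
def n99073 : Q := act 6 n46341
theorem D99073 : act 6 n46341 = n99073 := rfl
def n99074 : Q := act 0 n46342
theorem D99074 : act 0 n46342 = n99074 := rfl
def n99075 : Q := act 1 n46342
theorem D99075 : act 1 n46342 = n99075 := rfl
def n99078 : Q := act 0 n46344
theorem D99078 : act 0 n46344 = n99078 := rfl
def n99079 : Q := act 1 n46344
theorem D99079 : act 1 n46344 = n99079 := rfl
theorem F152598 : act 1 n99079 = n97803 := d15_1 D99079 (iv7 D97803) (iv2 F72996)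
theorem F152599 : act 5 n47332 = n99079 := d21_6 (iv5 D10766) (iv1 D4919) D4920 (iv6 F17286) D22744 D47332 (iv1 D99079) (iv5 F74594) (iv6 D47384) (iv1 F35328)
def n99080 : Q := act 7 n46344
theorem D99080 : act 7 n46344 = n99080 := rfl
theorem F152600 : act 2 n99080 = n97803 := d4_1 D99080 (iv7 D97803) (iv2 F72996)
theorem F152601 : act 1 n97803 = n99078 := d15_0 (iv0 D99078) D99080 F152600
theorem F152602 : act 1 n97801 = n99080 := d15_1 D97801 (iv7 D99080) F72996
theorem F152603 : act 1 n99080 = n97800 := d15_0 (iv0 D97800) D97803 (iv2 F152600)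
def n99081 : Q := act 3 n46345
theorem D99081 : act 3 n46345 = n99081 := rfl
theorem F152604 : act 4 n99081 = n87020 := d5_2 (iv4 F72998) D99081 (iv3 D87020) (iv4 D40412) (iv3 F61474)
theorem F152605 : act 5 n99081 = n46607 := d6_2 (iv5 F72997) D99081 (iv3 D46607)
theorem F152606 : act 6 n99081 = n96154 := d7_2 (iv6 F73002) D99081 (iv3 D96154)
theorem F152607 : act 7 n99081 = n47446 := d8_2 (iv7 F73001) D99081 F74638
def n99094 : Q := act 3 n46351
theorem D99094 : act 3 n46351 = n99094 := rfl
theorem F152621 : act 2 n99094 = n87823 := d0_1 D99094 F134790 (iv2 F66133) (iv3 F62704) (iv2 F73014)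
theorem F152623 : act 6 n99094 = n46474 := d7_2 (iv6 F73015) D99094 (iv3 D46474)
def n99268 : Q := act 2 n46417
theorem D99268 : act 2 n46417 = n99268 := rfl
theorem F152834 : act 3 n99268 = n98839 := d0_2 D46417 D99268 F152382 F72908 (iv2 F34675)
def n99284 : Q := act 5 n46423
theorem D99284 : act 5 n46423 = n99284 := rfl
theorem F152851 : act 2 n99284 = n87876 := d2_1 D99284 (iv5 D87876) (iv2 F73260)
theorem F152852 : act 3 n99284 = n46424 := d6_1 D99284 (iv5 D46424) (iv3 F73261)
theorem F152853 : act 7 n99284 = n88354 := d13_2 F73264 D99284 (iv5 D88354)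
def n99285 : Q := act 4 n46424
theorem D99285 : act 4 n46424 = n99285 := rfl
theorem F152854 : act 2 n99285 = n46677 := d1_1 D99285 (iv4 D46677) (iv2 F73266)
theorem F152855 : act 0 n99285 = n97984 := d18_2 F136329 D99285 (iv4 D97984) (iv5 F136244) F136243 F74588 F66279 (iv0 F72662) D88881
theorem F152856 : act 1 n99285 = n89388 := d18_6 (iv1 F34315) F66611 (iv1 D37842) (iv4 F34687) D46424 D99285 (iv4 D89388) (iv0 F64383) (iv5 D22800)
def n99286 : Q := act 5 n46425
theorem D99286 : act 5 n46425 = n99286 := rfl
theorem F152857 : act 2 n99286 = n46852 := d2_1 D99286 (iv5 D46852) (iv2 F73267)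
def n99287 : Q := act 1 n46426
theorem D99287 : act 1 n46426 = n99287 := rfl
theorem F152858 : act 1 n99287 = n46432 := d15_1 D99287 (iv7 D46432) (iv2 F73269)
theorem F152859 : act 7 n99287 = n46429 := d15_2 (iv0 F135038) D99287 (iv2 F73281)
theorem F152860 : act 4 n92601 = n99287 := d20_0 (iv1 D99287) (iv4 F142816) F142815 (iv1 F142708) F142706 (iv4 F143306) (iv1 F143310) (iv4 F138902) (iv3 F138903) (iv1 F142651)
theorem F152861 : act 3 n87912 = n99287 := d20_3 (iv4 F148296) (iv1 F148298) F143251 (iv1 D99287) F73270 (iv4 F58455) D82006 (iv4 F126433) (iv3 D47012) (iv1 F74212)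
theorem F152862 : act 2 n99287 = n46430 := d0_1 F152861 (iv3 F73278) F62746 D41017 D87912
theorem F152863 : act 4 n92591 = n90723 := d20_0 (iv1 D90723) F65623 (iv3 D20058) D20056 D42485 (iv4 F73285) (iv1 F152858) (iv4 F152860) F142649 (iv1 F142628)
theorem F152864 : act 3 n90306 = n92591 := d20_5 (iv4 F65695) (iv1 F65771) F65773 D42212 D90306 F152863 (iv1 D90723) F65623 (iv3 D20058) D20056
def n99288 : Q := act 5 n46426
theorem D99288 : act 5 n46426 = n99288 := rfl
theorem F152865 : act 2 n99288 = n46431 := d2_1 D99288 (iv5 D46431) (iv2 F73269)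
theorem F152867 : act 6 n99288 = n82020 := d12_2 D46426 D99288 (iv5 D82020) (iv6 D37583) F34697
theorem F152868 : act 0 n98911 = n99288 := d21_7 (iv5 F44595) (iv1 D22132) (iv5 D10552) D10553 D22135 D46285 D98911 (iv5 D99288) (iv6 D46426) (iv1 F34696)
def n99289 : Q := act 7 n46426
theorem D99289 : act 7 n46426 = n99289 := rfl
theorem F152869 : act 2 n99289 = n46432 := d4_1 D99289 (iv7 D46432) (iv2 F73269)
theorem F152871 : act 4 n99289 = n90734 := d11_1 D99289 F142818 F142816
theorem F152872 : act 6 n99289 = n46858 := d14_1 D99289 (iv7 D46858) (iv6 D22509) (iv7 F34694) D46426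
theorem F152873 : act 1 n46430 = n99289 := d15_1 D46430 (iv7 D99289) F73269
theorem F152874 : act 1 n99289 = n46429 := d15_1 F152873 (iv7 F152859) F152862
def n99290 : Q := act 6 n46427
theorem D99290 : act 6 n46427 = n99290 := rfl
theorem F152875 : act 2 n99290 = n56973 := d3_1 D99290 (iv6 D56973) (iv2 F73271)
theorem F152876 : act 4 n99290 = n46428 := d10_1 D99290 (iv6 D46428) D46427
def n99291 : Q := act 0 n46428
theorem D99291 : act 0 n46428 = n99291 := rfl
def n99292 : Q := act 1 n46428
theorem D99292 : act 1 n46428 = n99292 := rfl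
theorem F152877 : act 1 n99292 = n82021 := d15_1 D99292 (iv7 D82021) (iv2 F73276)
def n99293 : Q := act 5 n46428
theorem D99293 : act 5 n46428 = n99293 := rfl
theorem F152878 : act 2 n99293 = n82020 := d2_1 D99293 (iv5 D82020) (iv2 F73276)
theorem F152879 : act 3 n99293 = n46435 := d6_1 D99293 (iv5 D46435) (iv3 F73277)
theorem F152880 : act 6 n99293 = n46431 := d12_2 D46428 D99293 (iv5 D46431) (iv6 D22238) D22237
def n99294 : Q := act 7 n46428
theorem D99294 : act 7 n46428 = n99294 := rfl
theorem F152881 : act 2 n99294 = n82021 := d4_1 D99294 (iv7 D82021) (iv2 F73276)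
theorem F152882 : act 3 n99294 = n46436 := d8_1 D99294 (iv7 D46436) (iv3 F73277)
theorem F152883 : act 6 n99294 = n46870 := d14_1 D99294 (iv7 D46870) (iv6 D22513) (iv7 F34700) D46428
theorem F152884 : act 1 n82021 = n99291 := d15_0 (iv0 D99291) D99294 F152881
theorem F152885 : act 1 n82019 = n99294 := d15_1 D82019 (iv7 D99294) F73276
theorem F152886 : act 1 n99294 = n82018 := d15_0 (iv0 D82018) D82021 (iv2 F152881)
def n99295 : Q := act 3 n46429
theorem D99295 : act 3 n46429 = n99295 := rfl
theorem F152887 : act 2 n99295 = n48191 := d0_1 D99295 (iv3 D48191) F62944 D41012 F73281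
theorem F152888 : act 4 n99295 = n96349 := d5_2 (iv4 F73282) D99295 F148291 (iv4 F142625) F142624
theorem F152889 : act 7 n99295 = n87912 := d8_2 F152859 D99295 F152861
theorem F152890 : act 1 n87911 = n99295 := d15_1 D87911 F152889 (iv2 D87912)
theorem F152891 : act 1 n99295 = n87910 := d15_0 (iv0 D87910) (iv7 F75736) (iv2 F152887)
def n99296 : Q := act 5 n46429
theorem D99296 : act 5 n46429 = n99296 := rfl
def n99297 : Q := act 6 n46429
theorem D99297 : act 6 n46429 = n99297 := rfl
theorem F152893 : act 2 n99297 = n47590 := d3_1 D99297 F74845 F73281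
theorem F152894 : act 4 n99297 = n92839 := d10_1 D99297 (iv6 D92839) (iv4 F73282)
def n99298 : Q := act 5 n46430
theorem D99298 : act 5 n46430 = n99298 := rfl
def n99299 : Q := act 0 n46431
theorem D99299 : act 0 n46431 = n99299 := rfl
def n99300 : Q := act 1 n46431
theorem D99300 : act 1 n46431 = n99300 := rfl
theorem F152897 : act 5 n89571 = n99300 := d21_6 F60120 (iv1 D39104) F29810 D22130 F72749 (iv6 F137317) (iv1 D99300) (iv5 D46431) (iv6 D22238) D22235
theorem F152898 : act 2 n99300 = n98911 := d2_1 F152897 (iv5 D98911) F137318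
theorem F152899 : act 3 n99300 = n48196 := d6_1 F152897 (iv5 F133440) F137315
theorem F152900 : act 7 n87917 = n99300 := d8_0 F152899 (iv7 F133444) D87917
theorem F152901 : act 2 n87917 = n99299 := d15_3 (iv0 D99299) D99300 (iv7 F152900)
theorem F152902 : act 7 n99299 = n98911 := d4_2 (iv7 F152900) F152901 (iv2 F152898)
theorem F152903 : act 1 n87917 = n99288 := d15_0 (iv0 F152868) (iv7 F152902) (iv2 F152901)
theorem F152904 : act 5 n98912 = n99299 := d13_3 F152902 (iv5 D98911) D98912
def n99301 : Q := act 4 n46431
theorem D99301 : act 4 n46431 = n99301 := rfl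
def n99302 : Q := act 7 n46431
theorem D99302 : act 7 n46431 = n99302 := rfl
theorem F152905 : act 3 n99302 = n46442 := d8_1 D99302 (iv7 D46442) (iv3 F73283)
theorem F152906 : act 5 n99302 = n46432 := d13_1 D99302 (iv7 D46432) D46431
theorem F152907 : act 1 n98911 = n99302 := d15_1 (iv0 F152868) (iv7 D99302) (iv2 F152865)
theorem F152908 : act 1 n99302 = n87917 := d15_1 F152907 F152900 F152898
def n99303 : Q := act 2 n46433
theorem D99303 : act 2 n46433 = n99303 := rfl
theorem F152909 : act 7 n46434 = n99303 := d15_2 (iv0 D46433) D46434 (iv2 D99303)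
def n99304 : Q := act 3 n46433
theorem D99304 : act 3 n46433 = n99304 := rfl
def n99305 : Q := act 4 n46433
theorem D99305 : act 4 n46433 = n99305 := rfl
def n99306 : Q := act 5 n46433
theorem D99306 : act 5 n46433 = n99306 := rfl
def n99307 : Q := act 6 n46433
theorem D99307 : act 6 n46433 = n99307 := rfl
theorem F152910 : act 5 n99307 = n88959 := d21_6 F31299 F14654 D10603 D22239 D46433 D99307 (iv1 D88959) (iv5 D41534) (iv6 D19555) D19553
def n99308 : Q := act 7 n46433
theorem D99308 : act 7 n46433 = n99308 := rfl
theorem F152911 : act 2 n99308 = n46434 := d4_1 D99308 F152909 (iv2 D99303)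
def n99309 : Q := act 3 n46434
theorem D99309 : act 3 n46434 = n99309 := rfl
def n99310 : Q := act 4 n46434
theorem D99310 : act 4 n46434 = n99310 := rfl
def n99311 : Q := act 5 n46434
theorem D99311 : act 5 n46434 = n99311 := rfl
def n99312 : Q := act 6 n46434
theorem D99312 : act 6 n46434 = n99312 := rfl
def n99313 : Q := act 0 n46435
theorem D99313 : act 0 n46435 = n99313 := rfl
def n99314 : Q := act 4 n46435
theorem D99314 : act 4 n46435 = n99314 := rfl
theorem F152912 : act 2 n99314 = n46739 := d1_1 D99314 (iv4 D46739) (iv2 F73289)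
theorem F152913 : act 6 n99314 = n46441 := d10_2 (iv6 F73290) D99314 (iv4 D46441)
def n99315 : Q := act 7 n46435
theorem D99315 : act 7 n46435 = n99315 := rfl
theorem F152914 : act 2 n99315 = n46740 := d4_1 D99315 (iv7 D46740) (iv2 F73289)
theorem F152915 : act 5 n99315 = n46436 := d13_1 D99315 (iv7 D46436) D46435
theorem F152916 : act 1 n46740 = n99313 := d15_0 (iv0 D99313) D99315 F152914
theorem F152917 : act 1 n46738 = n99315 := d15_1 D46738 (iv7 D99315) F73289
theorem F152918 : act 1 n99315 = n46737 := d15_0 (iv0 D46737) D46740 (iv2 F152914)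
def n99316 : Q := act 5 n46437
theorem D99316 : act 5 n46437 = n99316 := rfl
theorem F152919 : act 2 n99316 = n87884 := d2_1 D99316 (iv5 D87884) (iv2 F73299)
theorem F152920 : act 3 n99316 = n46438 := d6_1 D99316 (iv5 D46438) D46437
theorem F152921 : act 7 n99316 = n46752 := d13_2 (iv7 F73297) D99316 (iv5 D46752)
def n99317 : Q := act 4 n46438
theorem D99317 : act 4 n46438 = n99317 := rfl
theorem F152922 : act 2 n99317 = n46747 := d1_1 D99317 (iv4 D46747) (iv2 F73300)
theorem F152923 : act 7 n99317 = n46754 := d11_2 (iv7 F73301) D99317 (iv4 D46754)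
theorem F152924 : act 0 n99317 = n89420 := d18_2 (iv1 F137338) D99317 (iv4 D89420) (iv5 D41757) (iv4 F64397) F72969 F72966 F64499 (iv5 F137337)
def n99318 : Q := act 3 n46439
theorem D99318 : act 3 n46439 = n99318 := rfl
theorem F152925 : act 5 n99318 = n89580 := d6_2 (iv5 F73311) D99318 (iv3 D89580)
theorem F152926 : act 7 n99318 = n46764 := d8_2 (iv7 F73310) D99318 (iv3 D46764)
theorem F152927 : act 0 n99318 = n87889 := d20_4 D22630 D47053 F74299 D99318 F134896 (iv4 F134924) (iv1 F144973) (iv4 D94088) F69149 (iv1 D22629)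
theorem F152928 : act 2 n99318 = n87886 := d15_3 (iv0 D87886) (iv0 F134921) (iv7 F152926)
def n99319 : Q := act 6 n46439
theorem D99319 : act 6 n46439 = n99319 := rfl
theorem F152929 : act 2 n99319 = n46763 := d3_1 D99319 (iv6 D46763) (iv2 F73313)
theorem F152930 : act 5 n99319 = n47543 := d12_1 D99319 (iv6 D47543) D47542 (iv6 F74744) (iv5 F73311)
def n99320 : Q := act 3 n46440
theorem D99320 : act 3 n46440 = n99320 := rfl
theorem F152931 : act 5 n99320 = n88965 := d6_2 F73303 D99320 F136541
theorem F152932 : act 7 n99320 = n46760 := d8_2 F73314 D99320 (iv3 D46760)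
def n99321 : Q := act 6 n46440
theorem D99321 : act 6 n46440 = n99321 := rfl
theorem F152933 : act 2 n99321 = n46766 := d3_1 D99321 (iv6 D46766) (iv2 F73304)
theorem F152934 : act 5 n99321 = n88968 := d12_1 D99321 (iv6 D88968) (iv5 D41537) D41538 F73303
def n99322 : Q := act 0 n46441
theorem D99322 : act 0 n46441 = n99322 := rfl
theorem F152935 : act 4 n99322 = n46496 := d18_3 (iv1 D46440) D46441 D99322 F73452 F64399 (iv0 D19693) (iv4 F31444) (iv0 F73880) F73303
theorem F152936 : act 2 n46767 = n99322 := d1_3 F152935 F73456 F73929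
theorem F152938 : act 1 n46771 = n99322 := d18_6 (iv1 F66083) (iv4 D10881) F65657 (iv4 F17214) (iv5 F34965) (iv4 F73885) F152935 (iv0 D46496) (iv5 D22287)
def n99323 : Q := act 1 n46441
theorem D99323 : act 1 n46441 = n99323 := rfl
theorem F152939 : act 1 n99323 = n46771 := d15_1 D99323 (iv7 D46771) (iv2 F73305)
theorem F152940 : act 7 n99323 = n46767 := d15_2 (iv0 D99322) D99323 F152936
theorem F152941 : act 4 n99323 = n46497 := d18_7 (iv1 F66081) (iv4 D22250) (iv1 D10606) (iv4 F17118) D22242 D46441 D99323 F73457 F35160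
theorem F152942 : act 2 n46768 = n99323 := d1_3 F152941 F73460 (iv4 F73884)
def n99324 : Q := act 3 n46441
theorem D99324 : act 3 n46441 = n99324 := rfl
def n99325 : Q := act 5 n46441
theorem D99325 : act 5 n46441 = n99325 := rfl
theorem F152943 : act 2 n99325 = n46770 := d2_1 D99325 (iv5 D46770) (iv2 F73305)
theorem F152944 : act 4 n99325 = n46816 := d16_2 D46441 D99325 F73937 F35021 F17220 (iv4 F17214) (iv5 F34965) (iv7 D22421) (iv2 F34705)
theorem F152945 : act 7 n46814 = n99325 := d11_0 F152944 (iv7 D46816) D46814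
def n99326 : Q := act 7 n46441
theorem D99326 : act 7 n46441 = n99326 := rfl
theorem F152946 : act 2 n99326 = n46771 := d4_1 D99326 (iv7 D46771) (iv2 F73305)
theorem F152947 : act 4 n99326 = n46442 := d11_1 D99326 (iv7 D46442) D46441
theorem F152948 : act 5 n99326 = n46814 := d13_1 D99326 F152945 (iv5 D99325)
theorem F152949 : act 1 n46768 = n99326 := d15_1 D46768 (iv7 D99326) F73305
theorem F152950 : act 1 n99326 = n46767 := d15_1 F152949 (iv7 F152940) (iv2 F152942)
def n99327 : Q := act 6 n46442
theorem D99327 : act 6 n46442 = n99327 := rfl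
theorem F152952 : act 5 n99327 = n46924 := d12_1 D99327 (iv6 D46924) F35084 (iv6 F34708) (iv5 F73307)
def n99328 : Q := act 5 n46443
theorem D99328 : act 5 n46443 = n99328 := rfl
theorem F152953 : act 2 n99328 = n87930 := d2_1 D99328 (iv5 D87930) (iv2 F73316)
theorem F152954 : act 3 n99328 = n46444 := d6_1 D99328 (iv5 D46444) D46443
theorem F152955 : act 7 n99328 = n46775 := d13_2 (iv7 F73318) D99328 (iv5 D46775)
def n99329 : Q := act 6 n46443
theorem D99329 : act 6 n46443 = n99329 := rfl
theorem F152956 : act 2 n99329 = n87931 := d3_1 D99329 (iv6 D87931) (iv2 F73316)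
theorem F152957 : act 3 n99329 = n46445 := d7_1 D99329 (iv6 D46445) D46443
theorem F152959 : act 7 n99329 = n98663 := d14_2 (iv7 F73318) D99329 (iv6 D98663) F73891 (iv6 D46776)
def n99330 : Q := act 4 n46444
theorem D99330 : act 4 n46444 = n99330 := rfl
theorem F152960 : act 2 n99330 = n46786 := d1_1 D99330 (iv4 D46786) (iv2 F73319)
theorem F152961 : act 7 n99330 = n46778 := d11_2 (iv7 F73320) D99330 (iv4 D46778)
def n99331 : Q := act 6 n46444
theorem D99331 : act 6 n46444 = n99331 := rfl
theorem F152962 : act 2 n99331 = n46787 := d3_1 D99331 (iv6 D46787) (iv2 F73319)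
def n99332 : Q := act 3 n46446
theorem D99332 : act 3 n46446 = n99332 := rfl
theorem F152963 : act 4 n99332 = n99332 := d5_2 D46446 D99332 (iv3 D99332) (iv4 D46446) F65663
theorem F152964 : act 7 n99332 = n46783 := d8_2 (iv7 F73327) D99332 (iv3 D46783)
def n99333 : Q := act 5 n46446
theorem D99333 : act 5 n46446 = n99333 := rfl
theorem F152966 : act 7 n99333 = n46784 := d13_2 (iv7 F73327) D99333 (iv5 D46784)
def n99341 : Q := act 2 n46450
theorem D99341 : act 2 n46450 = n99341 := rfl
theorem F152982 : act 6 n99341 = n88619 := d3_2 (iv6 F73342) D99341 (iv2 D88619)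
def n99344 : Q := act 0 n46451
theorem D99344 : act 0 n46451 = n99344 := rfl
theorem F152986 : act 2 n46812 = n99344 := d15_3 (iv0 D99344) (iv0 F139770) F139769
theorem F152987 : act 7 n99344 = n46813 := d4_2 F139769 F152986 (iv2 F139768)
theorem F152988 : act 1 n46816 = n99344 := d15_1 F139771 F152987 (iv2 F139768)
def n99345 : Q := act 4 n46451
theorem D99345 : act 4 n46451 = n99345 := rfl
theorem F152990 : act 5 n99345 = n46771 := d9_2 D46451 D99345 F73885 F34965 F17214 (iv5 F17220) (iv4 F35021) (iv5 F73937) (iv4 F152944) (iv5 D99325) (iv4 D46441) (iv5 D22242) F17118 D10607 D22255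
theorem F152991 : act 7 n46770 = n99345 := d13_0 F152990 (iv7 D46771) D46770
def n99346 : Q := act 6 n46451
theorem D99346 : act 6 n46451 = n99346 := rfl
theorem F152993 : act 5 n99346 = n88621 := d12_1 D99346 (iv6 D88621) (iv5 D41362) (iv6 F34723) D46451
def n99347 : Q := act 7 n46451
theorem D99347 : act 7 n46451 = n99347 := rfl
theorem F152995 : act 4 n99347 = n46770 := d11_1 D99347 F152991 (iv4 D99345)
theorem F152996 : act 5 n99347 = n46452 := d13_1 D99347 (iv7 D46452) D46451
theorem F152997 : act 1 n46813 = n99347 := d15_1 D46813 (iv7 D99347) F73343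
theorem F152998 : act 1 n99347 = n46812 := d15_1 F152997 (iv7 F139769) F139768
def n99348 : Q := act 6 n46455
theorem D99348 : act 6 n46455 = n99348 := rfl
theorem F152999 : act 3 n99348 = n47998 := d7_1 D99348 (iv6 D47998) (iv3 F74017)
theorem F153000 : act 5 n99348 = n48532 := d12_1 D99348 F76385 F76150 (iv6 F72350) F74019
theorem F153001 : act 0 n47611 = n99348 := d21_4 F63785 F66797 D22905 D47611 (iv6 D99348) (iv5 F74019) F137153 F137150 (iv6 F135848) (iv1 D88625)
def n99349 : Q := act 2 n46458
theorem D99349 : act 2 n46458 = n99349 := rfl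
theorem F153002 : act 7 n46459 = n99349 := d15_2 (iv0 D46458) D46459 (iv2 D99349)
def n99350 : Q := act 5 n46458
theorem D99350 : act 5 n46458 = n99350 := rfl
theorem F153003 : act 3 n99350 = n87763 := d6_1 D99350 (iv5 D87763) F73805
def n99351 : Q := act 6 n46458
theorem D99351 : act 6 n46458 = n99351 := rfl
theorem F153004 : act 3 n99351 = n87764 := d7_1 D99351 (iv6 D87764) F73805
theorem F153005 : act 4 n99351 = n98453 := d10_1 D99351 (iv6 F151865) (iv4 F73804)
def n99352 : Q := act 7 n46458
theorem D99352 : act 7 n46458 = n99352 := rfl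
theorem F153006 : act 2 n99352 = n46459 := d4_1 D99352 F153002 (iv2 D99349)
theorem F153007 : act 3 n99352 = n87765 := d8_1 D99352 (iv7 D87765) F73805
def n99353 : Q := act 3 n46459
theorem D99353 : act 3 n46459 = n99353 := rfl
theorem F153008 : act 2 n99353 = n87766 := d0_1 D99353 (iv3 D87766) (iv2 F134739) (iv3 F153007) F153006
theorem F153009 : act 4 n99353 = n87766 := d5_2 F73798 D99353 (iv3 D87766) D87767 (iv3 F134741)
def n99354 : Q := act 5 n46459
theorem D99354 : act 5 n46459 = n99354 := rfl
def n99355 : Q := act 6 n46459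
theorem D99355 : act 6 n46459 = n99355 := rfl
def n99356 : Q := act 0 n46460
theorem D99356 : act 0 n46460 = n99356 := rfl
def n99357 : Q := act 1 n46460
theorem D99357 : act 1 n46460 = n99357 := rfl
theorem F153010 : act 5 n98400 = n99357 := d21_6 (iv5 D13207) D13205 (iv5 F21997) D21995 D46031 D98400 (iv1 D99357) (iv5 D46460) (iv6 D22261) (iv1 F22006)
theorem F153011 : act 2 n99357 = n98429 := d2_1 F153010 (iv5 D98429) (iv2 F152046)
def n99358 : Q := act 4 n46460
theorem D99358 : act 4 n46460 = n99358 := rfl
theorem F153012 : act 6 n99358 = n82027 := d10_2 (iv6 F73358) D99358 (iv4 D82027)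
def n99359 : Q := act 7 n46460
theorem D99359 : act 7 n46460 = n99359 := rfl
theorem F153013 : act 3 n99359 = n46473 := d8_1 D99359 (iv7 D46473) (iv3 F73357)
theorem F153015 : act 1 n98429 = n99359 := d15_1 (iv0 F151851) (iv7 D99359) (iv2 F129909)
def n99360 : Q := act 2 n46462
theorem D99360 : act 2 n46462 = n99360 := rfl
theorem F153016 : act 7 n46463 = n99360 := d15_2 (iv0 D46462) D46463 (iv2 D99360)
def n99361 : Q := act 3 n46462
theorem D99361 : act 3 n46462 = n99361 := rfl
def n99362 : Q := act 4 n46462
theorem D99362 : act 4 n46462 = n99362 := rfl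
def n99363 : Q := act 5 n46462
theorem D99363 : act 5 n46462 = n99363 := rfl
def n99364 : Q := act 6 n46462
theorem D99364 : act 6 n46462 = n99364 := rfl
theorem F153017 : act 5 n99364 = n89054 := d21_6 F31306 (iv1 F17110) D10611 D22262 D46462 D99364 (iv1 D89054) (iv5 D41590) (iv6 D19586) (iv1 F31304)
def n99365 : Q := act 7 n46462
theorem D99365 : act 7 n46462 = n99365 := rfl
theorem F153018 : act 2 n99365 = n46463 := d4_1 D99365 F153016 (iv2 D99360)
def n99366 : Q := act 3 n46463
theorem D99366 : act 3 n46463 = n99366 := rfl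
def n99367 : Q := act 4 n46463
theorem D99367 : act 4 n46463 = n99367 := rfl
def n99368 : Q := act 5 n46463
theorem D99368 : act 5 n46463 = n99368 := rfl
def n99369 : Q := act 6 n46463
theorem D99369 : act 6 n46463 = n99369 := rfl
def n99370 : Q := act 0 n46464
theorem D99370 : act 0 n46464 = n99370 := rfl
def n99371 : Q := act 4 n46464
theorem D99371 : act 4 n46464 = n99371 := rfl
theorem F153019 : act 2 n99371 = n46892 := d1_1 D99371 (iv4 D46892) (iv2 F73363)
theorem F153020 : act 6 n99371 = n46472 := d10_2 (iv6 F73365) D99371 (iv4 D46472)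
def n99372 : Q := act 7 n46464
theorem D99372 : act 7 n46464 = n99372 := rfl
theorem F153021 : act 2 n99372 = n46893 := d4_1 D99372 (iv7 D46893) (iv2 F73363)
theorem F153022 : act 3 n99372 = n76081 := d8_1 D99372 F114071 (iv3 F73364)
theorem F153023 : act 5 n99372 = n46465 := d13_1 D99372 (iv7 D46465) D46464
theorem F153024 : act 1 n46893 = n99370 := d15_0 (iv0 D99370) D99372 F153021
theorem F153025 : act 1 n46891 = n99372 := d15_1 D46891 (iv7 D99372) F73363
theorem F153026 : act 1 n99372 = n46890 := d15_0 (iv0 D46890) D46893 (iv2 F153021)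
def n99373 : Q := act 0 n46466
theorem D99373 : act 0 n46466 = n99373 := rfl
theorem F153027 : act 1 n46907 = n99373 := d15_0 (iv0 D99373) F73373 D46907
def n99374 : Q := act 1 n46466
theorem D99374 : act 1 n46466 = n99374 := rfl
theorem F153028 : act 4 n92864 = n99374 := d20_6 (iv4 F68012) (iv1 F35028) F62793 D20543 D43452 D92864 (iv1 D99374) F73372 (iv3 D43329) D43328
theorem F153029 : act 2 n99374 = n46905 := d1_1 F153028 F139502 (iv2 F143241)
theorem F153030 : act 0 n46907 = n99374 := d20_1 (iv4 F74118) (iv4 F153028) (iv3 D92864) (iv1 F142627) F142624 (iv4 F73282) (iv1 F152874) F152871 (iv3 F142703) (iv1 F142700)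
theorem F153031 : act 7 n99373 = n46905 := d15_2 (iv0 F153030) F153027 (iv2 F153029)
theorem F153032 : act 7 n46906 = n99374 := d15_2 (iv0 D46905) D46906 F153029
theorem F153033 : act 2 n46906 = n99373 := d4_3 F153031 (iv2 F153029) (iv7 F153032)
def n99375 : Q := act 2 n46466
theorem D99375 : act 2 n46466 = n99375 := rfl
theorem F153034 : act 3 n99375 = n46895 := d0_2 D46466 D99375 (iv2 D46895) (iv3 D22523) (iv2 F62752)
theorem F153035 : act 4 n99375 = n92621 := d1_2 (iv4 F73372) D99375 (iv2 D92621)
theorem F153036 : act 7 n99375 = n46907 := d4_2 (iv7 F73373) D99375 (iv2 D46907)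
theorem F153037 : act 1 n99375 = n46905 := d15_0 (iv0 D46905) (iv7 F73373) D99375
theorem F153038 : act 1 n46906 = n99375 := d15_0 F153037 (iv7 F153031) (iv2 F153033)
def n99376 : Q := act 5 n46466
theorem D99376 : act 5 n46466 = n99376 := rfl
theorem F153039 : act 3 n99376 = n46467 := d6_1 D99376 (iv5 D46467) D46466
theorem F153040 : act 7 n99376 = n46908 := d13_2 (iv7 F73373) D99376 (iv5 D46908)
def n99377 : Q := act 4 n46467
theorem D99377 : act 4 n46467 = n99377 := rfl
theorem F153041 : act 2 n99377 = n46902 := d1_1 D99377 (iv4 D46902) (iv2 F73374)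
theorem F153042 : act 7 n99377 = n46910 := d11_2 (iv7 F73375) D99377 (iv4 D46910)
def n99378 : Q := act 5 n46468
theorem D99378 : act 5 n46468 = n99378 := rfl
theorem F153043 : act 3 n99378 = n46469 := d6_1 D99378 (iv5 D46469) D46468
theorem F153044 : act 7 n99378 = n46896 := d13_2 (iv7 F73376) D99378 (iv5 D46896)
def n99379 : Q := act 4 n46469
theorem D99379 : act 4 n46469 = n99379 := rfl
theorem F153045 : act 2 n99379 = n46910 := d1_1 D99379 (iv4 D46910) (iv2 F73378)
theorem F153046 : act 7 n99379 = n46902 := d11_2 (iv7 F73379) D99379 (iv4 D46902)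
def n99380 : Q := act 6 n46469
theorem D99380 : act 6 n46469 = n99380 := rfl
theorem F153047 : act 2 n99380 = n46911 := d3_1 D99380 (iv6 D46911) (iv2 F73378)
def n99381 : Q := act 3 n46470
theorem D99381 : act 3 n46470 = n99381 := rfl
theorem F153048 : act 5 n99381 = n98578 := d6_2 (iv5 F73393) D99381 F151971
theorem F153049 : act 7 n99381 = n46916 := d8_2 (iv7 F73392) D99381 (iv3 D46916)
def n99382 : Q := act 6 n46470
theorem D99382 : act 6 n46470 = n99382 := rfl
theorem F153050 : act 2 n99382 = n46915 := d3_1 D99382 (iv6 D46915) (iv2 F73394)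
def n99383 : Q := act 3 n46471
theorem D99383 : act 3 n46471 = n99383 := rfl
theorem F153051 : act 5 n99383 = n89058 := d6_2 F73381 D99383 F136736
theorem F153052 : act 7 n99383 = n46912 := d8_2 F73395 D99383 (iv3 D46912)
theorem F153053 : act 0 n99383 = n48203 := d21_7 (iv5 F72636) (iv1 F72639) (iv5 D40746) D40747 (iv1 F72653) D89058 (iv5 F153051) (iv5 D48203) (iv6 D23343) (iv1 F34943)
def n99384 : Q := act 6 n46471
theorem D99384 : act 6 n46471 = n99384 := rfl
theorem F153054 : act 2 n99384 = n46918 := d3_1 D99384 (iv6 D46918) (iv2 F73382)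
theorem F153055 : act 5 n99384 = n89060 := d12_1 D99384 (iv6 D89060) (iv5 D41595) D41596 F73381
def n99385 : Q := act 0 n46472
theorem D99385 : act 0 n46472 = n99385 := rfl
theorem F153056 : act 4 n99385 = n46516 := d18_3 (iv1 D46471) D46472 D99385 F73499 F72702 (iv0 F65795) D44876 F73385 F73381
theorem F153057 : act 2 n46919 = n99385 := d15_3 (iv0 D99385) (iv0 F147827) F147826
theorem F153058 : act 7 n99385 = n46920 := d4_2 F147826 F153057 (iv2 F147825)
theorem F153059 : act 1 n46923 = n99385 := d15_1 F147828 F153058 (iv2 F147825)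
def n99386 : Q := act 3 n46472
theorem D99386 : act 3 n46472 = n99386 := rfl
def n99387 : Q := act 5 n46472
theorem D99387 : act 5 n46472 = n99387 := rfl
theorem F153061 : act 4 n99387 = n46969 := d16_2 D46472 D99387 F74183 F35127 F17239 (iv4 F17233) (iv5 F35084) (iv7 D22535) (iv2 F34740)
theorem F153062 : act 7 n46967 = n99387 := d11_0 F153061 (iv7 D46969) D46967
def n99388 : Q := act 7 n46472
theorem D99388 : act 7 n46472 = n99388 := rfl
theorem F153063 : act 2 n99388 = n46923 := d4_1 D99388 (iv7 D46923) (iv2 F73387)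
theorem F153064 : act 4 n99388 = n46473 := d11_1 D99388 (iv7 D46473) D46472
theorem F153065 : act 5 n99388 = n46967 := d13_1 D99388 F153062 (iv5 D99387)
theorem F153066 : act 1 n46920 = n99388 := d15_1 D46920 (iv7 D99388) F73387
theorem F153067 : act 1 n99388 = n46919 := d15_1 F153066 (iv7 F147826) F147825
def n99389 : Q := act 6 n46473
theorem D99389 : act 6 n46473 = n99389 := rfl
theorem F153068 : act 2 n99389 = n46924 := d3_1 D99389 (iv6 D46924) (iv2 F73388)
theorem F153069 : act 5 n99389 = n46772 := d12_1 D99389 (iv6 D46772) F34965 (iv6 F34743) (iv5 F73389)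
def n99390 : Q := act 5 n46474
theorem D99390 : act 5 n46474 = n99390 := rfl
theorem F153070 : act 2 n99390 = n87822 := d2_1 D99390 (iv5 D87822) (iv2 F73397)
theorem F153072 : act 7 n99390 = n46940 := d13_2 (iv7 F73399) D99390 (iv5 D46940)
def n99391 : Q := act 4 n46475
theorem D99391 : act 4 n46475 = n99391 := rfl
theorem F153073 : act 2 n99391 = n46927 := d1_1 D99391 (iv4 D46927) (iv2 F73400)
theorem F153074 : act 7 n99391 = n46942 := d11_2 (iv7 F73401) D99391 (iv4 D46942)
def n99394 : Q := act 5 n46476
theorem D99394 : act 5 n46476 = n99394 := rfl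
theorem F153079 : act 7 n99394 = n46945 := d13_2 (iv7 F73403) D99394 (iv5 D46945)
def n99395 : Q := act 3 n46477
theorem D99395 : act 3 n46477 = n99395 := rfl
theorem F153082 : act 7 n99395 = n46950 := d8_2 (iv7 F73405) D99395 (iv3 D46950)
def n99396 : Q := act 5 n46477
theorem D99396 : act 5 n46477 = n99396 := rfl
theorem F153083 : act 2 n99396 = n46947 := d2_1 D99396 (iv5 D46947) (iv2 F73404)
theorem F153084 : act 7 n99396 = n46951 := d13_2 (iv7 F73405) D99396 (iv5 D46951)
def n99397 : Q := act 6 n46477
theorem D99397 : act 6 n46477 = n99397 := rfl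
theorem F153086 : act 4 n99397 = n46478 := d10_1 D99397 (iv6 D46478) D46477
def n99398 : Q := act 3 n46479
theorem D99398 : act 3 n46479 = n99398 := rfl
theorem F153088 : act 7 n99398 = n46957 := d8_2 F73413 D99398 (iv3 D46957)
def n99399 : Q := act 5 n46479
theorem D99399 : act 5 n46479 = n99399 := rfl
theorem F153089 : act 2 n99399 = n46955 := d2_1 D99399 (iv5 D46955) (iv2 F73414)
theorem F153090 : act 7 n99399 = n46958 := d13_2 F73413 D99399 (iv5 D46958)
def n99400 : Q := act 6 n46479
theorem D99400 : act 6 n46479 = n99400 := rfl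
theorem F153091 : act 2 n99400 = n46956 := d3_1 D99400 (iv6 D46956) (iv2 F73414)
theorem F153092 : act 4 n99400 = n92636 := d10_1 D99400 (iv6 D92636) (iv4 F73412)
theorem F153093 : act 0 n47627 = n99400 := d18_2 (iv1 F73918) (iv4 F74889) F153092 F142746 F137454 F137465 F137463 F64560 D46793
def n99401 : Q := act 3 n46480
theorem D99401 : act 3 n46480 = n99401 := rfl
theorem F153094 : act 7 n99401 = n46953 := d8_2 (iv7 F73416) D99401 (iv3 D46953)
def n99402 : Q := act 5 n46480
theorem D99402 : act 5 n46480 = n99402 := rfl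
theorem F153095 : act 2 n99402 = n46958 := d2_1 D99402 (iv5 D46958) F73417
theorem F153096 : act 7 n99402 = n46955 := d13_2 (iv7 F73416) D99402 (iv5 D46955)
def n99405 : Q := act 2 n46481
theorem D99405 : act 2 n46481 = n99405 := rfl
theorem F153097 : act 3 n99405 = n46962 := d0_2 D46481 D99405 (iv2 D46962) (iv3 D22586) (iv2 F34752)
def n99407 : Q := act 7 n46481
theorem D99407 : act 7 n46481 = n99407 := rfl
theorem F153100 : act 3 n99407 = n46483 := d8_1 D99407 (iv7 D46483) D46481
theorem F153101 : act 4 n99407 = n93521 := d11_1 D99407 F144264 F141213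
def n99408 : Q := act 0 n46482
theorem D99408 : act 0 n46482 = n99408 := rfl
theorem F153102 : act 5 n99408 = n92618 := d17_3 (iv1 D46480) D46482 D99408 (iv4 D92618) (iv5 D43326) F62750 D22653 (iv0 F68435) (iv4 F73418)
theorem F153103 : act 7 n46966 = n99408 := d13_0 F153102 F142690 (iv5 F74181)
theorem F153104 : act 1 n46969 = n99408 := d17_6 (iv1 F62702) (iv5 D22270) (iv1 F17145) (iv5 F17239) (iv4 F35127) (iv5 F74183) F153102 F142692 (iv4 D48152)
theorem F153105 : act 2 n99408 = n46965 := d15_3 (iv0 D46965) D46966 F153103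
def n99409 : Q := act 1 n46482
theorem D99409 : act 1 n46482 = n99409 := rfl
theorem F153107 : act 7 n99409 = n46965 := d15_2 (iv0 D99408) D99409 (iv2 F153105)
theorem F153108 : act 5 n99409 = n93008 := d17_7 (iv1 D23294) (iv5 D10947) (iv1 F62708) D10615 D22278 D46482 D99409 F143445 (iv4 D48153)
theorem F153109 : act 2 n46966 = n99409 := d2_3 F153108 F143442 (iv5 F74181)
def n99410 : Q := act 4 n46482
theorem D99410 : act 4 n46482 = n99410 := rfl
theorem F153111 : act 5 n99410 = n46923 := d9_2 D46482 D99410 F74132 F35084 F17233 (iv5 F17239) (iv4 F35127) (iv5 F74183) (iv4 F153061) (iv5 D99387) (iv4 D46472) (iv5 D22265) F17139 D10615 D22278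
theorem F153112 : act 7 n46922 = n99410 := d13_0 F153111 (iv7 D46923) D46922
def n99411 : Q := act 6 n46482
theorem D99411 : act 6 n46482 = n99411 := rfl
theorem F153113 : act 2 n99411 = n46968 := d3_1 D99411 (iv6 D46968) (iv2 F73422)
theorem F153114 : act 5 n99411 = n47681 := d12_1 D99411 (iv6 D47681) (iv5 D22951) (iv6 F34753) D46482
def n99412 : Q := act 7 n46482
theorem D99412 : act 7 n46482 = n99412 := rfl
theorem F153115 : act 2 n99412 = n46969 := d4_1 D99412 (iv7 D46969) (iv2 F73422)
theorem F153116 : act 4 n99412 = n46922 := d11_1 D99412 F153112 (iv4 D99410)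
theorem F153117 : act 5 n99412 = n46483 := d13_1 D99412 (iv7 D46483) D46482
theorem F153118 : act 1 n46966 = n99412 := d15_1 D46966 (iv7 D99412) F73422
theorem F153119 : act 1 n99412 = n46965 := d15_1 F153118 (iv7 F153107) (iv2 F153109)
def n99413 : Q := act 6 n46484
theorem D99413 : act 6 n46484 = n99413 := rfl
theorem F153120 : act 2 n99413 = n87961 := d3_1 D99413 (iv6 D87961) (iv2 F73427)
theorem F153121 : act 3 n99413 = n46485 := d7_1 D99413 (iv6 D46485) D46484
theorem F153122 : act 4 n99413 = n46822 := d10_1 D99413 (iv6 D46822) (iv4 F73428)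
def n99414 : Q := act 0 n46485
theorem D99414 : act 0 n46485 = n99414 := rfl
def n99415 : Q := act 1 n46485
theorem D99415 : act 1 n46485 = n99415 := rfl
theorem F153123 : act 1 n99415 = n47071 := d15_1 D99415 (iv7 D47071) (iv2 F73432)
def n99416 : Q := act 5 n46485
theorem D99416 : act 5 n46485 = n99416 := rfl
theorem F153124 : act 2 n99416 = n47070 := d2_1 D99416 (iv5 D47070) (iv2 F73432)
def n99417 : Q := act 7 n46485
theorem D99417 : act 7 n46485 = n99417 := rfl
theorem F153125 : act 2 n99417 = n47071 := d4_1 D99417 (iv7 D47071) (iv2 F73432)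
theorem F153127 : act 6 n99417 = n47063 := d14_1 D99417 (iv7 D47063) (iv6 D22634) (iv7 F44839) D46485
theorem F153128 : act 1 n47071 = n99414 := d15_0 (iv0 D99414) D99417 F153125
theorem F153129 : act 1 n47069 = n99417 := d15_1 D47069 (iv7 D99417) F73432
def n99418 : Q := act 0 n46486
theorem D99418 : act 0 n46486 = n99418 := rfl
def n99419 : Q := act 1 n46486
theorem D99419 : act 1 n46486 = n99419 := rfl
def n99420 : Q := act 5 n46486
theorem D99420 : act 5 n46486 = n99420 := rfl
theorem F153132 : act 2 n99420 = n47062 := d2_1 D99420 (iv5 D47062) (iv2 F73434)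
theorem F153133 : act 3 n99420 = n87959 := d6_1 D99420 (iv5 D87959) (iv3 F73435)
def n99421 : Q := act 7 n46486
theorem D99421 : act 7 n46486 = n99421 := rfl
theorem F153137 : act 6 n99421 = n47071 := d14_1 D99421 (iv7 D47071) (iv6 D22638) (iv7 F44841) D46486
def n99422 : Q := act 0 n46487
theorem D99422 : act 0 n46487 = n99422 := rfl
theorem F153141 : act 4 n99422 = n87984 := d20_2 (iv4 F73439) D99422 (iv3 D87984) (iv1 F134960) F134957 F126430 (iv1 F73803) D46707 (iv3 F134729) (iv1 D87758)
theorem E14838 : n87984 = n47073 := (c20_1 F153141 (iv1 F74326) (iv4 F68581) (iv3 D43651) (iv1 F62547) D41017 F63055 (iv1 F74220) F70743 (iv3 F73438) D99422)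
theorem F153142 : act 3 n47073 = n41077 := (sb E14838 (iv3 D87984))
theorem F153143 : act 4 n47073 = n99422 := (sb E14838 (iv4 F153141))
theorem F153144 : act 0 n99422 = n46491 := d20_1 F153143 F73442 F62000 (iv1 F66120) D47882 F75165 (iv1 F75213) (iv4 F73484) F73483 D47073
theorem F153145 : act 3 n99422 = n47130 := d20_3 F74322 D47073 F153143 (iv1 F143950) F143946 F135042 (iv1 F129916) (iv4 F73798) F134741 (iv1 F134742)
theorem F153146 : act 0 n90612 = n87985 := d20_1 F139502 (iv4 D87985) (iv3 F153142) (iv1 F74326) F35219 (iv4 F62772) (iv1 D20581) F62727 D22528 D46905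
def n99423 : Q := act 1 n46487
theorem D99423 : act 1 n46487 = n99423 := rfl
theorem F153147 : act 1 n99423 = n46491 := d15_1 D99423 (iv7 D46491) (iv2 F73437)
theorem F153148 : act 4 n47074 = n99423 := d20_0 (iv1 D99423) F73439 (iv3 F73781) F140419 (iv3 D22523) D22524 (iv1 F62958) F62772 (iv3 F35219) (iv1 F74323)
def n99424 : Q := act 5 n46487
theorem D99424 : act 5 n46487 = n99424 := rfl
theorem F153149 : act 2 n99424 = n46490 := d2_1 D99424 (iv5 D46490) (iv2 F73437)
theorem F153150 : act 3 n99424 = n46993 := d6_1 D99424 (iv5 D46993) (iv3 F73438)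
theorem F153151 : act 6 n99424 = n69886 := d12_2 D46487 D99424 (iv5 D69886) (iv6 D32457) (iv5 F34763)
def n99425 : Q := act 7 n46487
theorem D99425 : act 7 n46487 = n99425 := rfl
theorem F153152 : act 2 n99425 = n46491 := d4_1 D99425 (iv7 D46491) (iv2 F73437)
theorem F153153 : act 3 n99425 = n46994 := d8_1 D99425 (iv7 D46994) (iv3 F73438)
theorem F153154 : act 4 n99425 = n87760 := d11_1 D99425 (iv7 D87760) (iv4 F73439)
theorem F153155 : act 6 n99425 = n47076 := d14_1 D99425 (iv7 D47076) (iv6 D22640) (iv7 F34764) D46487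
theorem F153156 : act 1 n46489 = n99425 := d15_1 D46489 (iv7 D99425) F73437
theorem E14839 : n47095 = n46489 := ((c20_11 (iv4 D47095) (iv1 D22648) (iv4 F35207) F35206 D23320 D48191 F75735 (iv1 F148299) F148296 (iv3 F153153) (iv1 F153156))).symm
theorem F153157 : act 3 n46489 = n93335 := (sb E14839 (iv3 F143941))
theorem F153158 : act 4 n46489 = n22648 := (sb E14839 (iv4 D47095))
theorem E14840 : n87968 = n47094 := ((c20_4 (iv4 F153154) (iv1 F153156) F153158 D47094 (iv1 D87968) F62307 F58455 D46692 (iv4 F73804) (iv3 F73805) (iv1 F134736))).symm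
theorem F153159 : act 0 n47094 = n41071 := (sb E14840 (iv1 D87968))
theorem F153160 : act 1 n47094 = n41080 := (sb E14840 F134952)
theorem F153161 : act 0 n46488 = n99425 := d20_1 (iv4 F143903) F153154 (iv3 F140422) (iv1 F140426) (iv3 D46468) (iv4 F62953) F62951 F17257 (iv3 F17255) D22647
def n99426 : Q := act 2 n46488
theorem D99426 : act 2 n46488 = n99426 := rfl
theorem F153162 : act 4 n99426 = n47088 := d1_2 (iv4 F143903) D99426 (iv2 D47088)
theorem F153163 : act 7 n46489 = n99426 := d15_2 (iv0 D46488) D46489 (iv2 D99426)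
def n99427 : Q := act 3 n46488
theorem D99427 : act 3 n46488 = n99427 := rfl
theorem F153164 : act 4 n99427 = n90733 := d20_6 F66068 (iv1 D19267) (iv4 F17155) (iv3 F34770) D46488 D99427 (iv1 D90733) (iv4 F73285) F73284 (iv1 F34710)
theorem F153165 : act 3 n92949 = n90733 := d5_5 (iv4 F153164) (iv3 D99427) F143903 D47089 F143350
def n99428 : Q := act 5 n46488
theorem D99428 : act 5 n46488 = n99428 := rfl
def n99429 : Q := act 6 n46488
theorem D99429 : act 6 n46488 = n99429 := rfl
theorem F153166 : act 4 n99429 = n47092 := d10_1 D99429 (iv6 D47092) (iv4 F143903)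
def n99430 : Q := act 7 n46488
theorem D99430 : act 7 n46488 = n99430 := rfl
theorem F153167 : act 2 n99430 = n46489 := d4_1 D99430 F153163 (iv2 D99426)
theorem F153168 : act 4 n99430 = n47093 := d11_1 D99430 (iv7 D47093) (iv4 F143903)
def n99431 : Q := act 5 n46489
theorem D99431 : act 5 n46489 = n99431 := rfl
def n99432 : Q := act 6 n46489
theorem D99432 : act 6 n46489 = n99432 := rfl
theorem F153169 : act 4 n99432 = n47097 := d10_1 D99432 (iv6 D47097) (iv4 F153158)
def n99433 : Q := act 0 n46490
theorem D99433 : act 0 n46490 = n99433 := rfl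
def n99434 : Q := act 1 n46490
theorem D99434 : act 1 n46490 = n99434 := rfl
def n99435 : Q := act 4 n46490
theorem D99435 : act 4 n46490 = n99435 := rfl
def n99436 : Q := act 7 n46490
theorem D99436 : act 7 n46490 = n99436 := rfl
theorem F153171 : act 5 n99436 = n46491 := d13_1 D99436 (iv7 D46491) D46490
def n99437 : Q := act 2 n46492
theorem D99437 : act 2 n46492 = n99437 := rfl
theorem F153172 : act 7 n46493 = n99437 := d15_2 (iv0 D46492) D46493 (iv2 D99437)
def n99438 : Q := act 3 n46492
theorem D99438 : act 3 n46492 = n99438 := rfl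
def n99439 : Q := act 4 n46492
theorem D99439 : act 4 n46492 = n99439 := rfl
def n99440 : Q := act 5 n46492
theorem D99440 : act 5 n46492 = n99440 := rfl
def n99441 : Q := act 6 n46492
theorem D99441 : act 6 n46492 = n99441 := rfl
theorem F153173 : act 5 n99441 = n89136 := d21_6 (iv5 D4862) D4859 D10618 D22284 D46492 D99441 (iv1 D89136) (iv5 D41641) (iv6 D19605) F14405
def n99442 : Q := act 7 n46492
theorem D99442 : act 7 n46492 = n99442 := rfl
theorem F153174 : act 2 n99442 = n46493 := d4_1 D99442 F153172 (iv2 D99437)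
def n99443 : Q := act 3 n46493
theorem D99443 : act 3 n46493 = n99443 := rfl
def n99444 : Q := act 4 n46493
theorem D99444 : act 4 n46493 = n99444 := rfl
def n99445 : Q := act 5 n46493
theorem D99445 : act 5 n46493 = n99445 := rfl
def n99446 : Q := act 6 n46493
theorem D99446 : act 6 n46493 = n99446 := rfl
def n99447 : Q := act 0 n46494
theorem D99447 : act 0 n46494 = n99447 := rfl
def n99448 : Q := act 1 n46494
theorem D99448 : act 1 n46494 = n99448 := rfl
theorem F153175 : act 1 n99448 = n47049 := d15_1 D99448 (iv7 D47049) (iv2 F73445)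
theorem F153176 : act 5 n47226 = n99448 := d21_6 F14429 (iv1 F13394) F13392 D10748 D22715 D47226 (iv1 D99448) (iv5 D46494) (iv6 D22284) F17152
def n99449 : Q := act 4 n46494
theorem D99449 : act 4 n46494 = n99449 := rfl
theorem F153177 : act 2 n99449 = n47048 := d1_1 D99449 (iv4 D47048) (iv2 F73445)
theorem F153178 : act 6 n99449 = n46498 := d10_2 (iv6 F73446) D99449 (iv4 D46498)
def n99450 : Q := act 7 n46494
theorem D99450 : act 7 n46494 = n99450 := rfl
theorem F153179 : act 2 n99450 = n47049 := d4_1 D99450 (iv7 D47049) (iv2 F73445)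
theorem F153180 : act 5 n99450 = n46495 := d13_1 D99450 (iv7 D46495) D46494
theorem F153181 : act 1 n47049 = n99447 := d15_0 (iv0 D99447) D99450 F153179
theorem F153182 : act 1 n47047 = n99450 := d15_1 D47047 (iv7 D99450) F73445
theorem F153183 : act 5 n47324 = n99447 := d21_0 (iv1 F153181) F74293 (iv6 F73495) (iv1 F73497) D47111 (iv5 F74536) (iv1 F74540) (iv5 D22742) D22743 D47324
theorem F153184 : act 1 n99450 = n47046 := d15_0 (iv0 D47046) D47049 (iv2 F153179)
def n99451 : Q := act 6 n46496
theorem D99451 : act 6 n46496 = n99451 := rfl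
theorem F153185 : act 2 n99451 = n47051 := d3_1 D99451 (iv6 D47051) (iv2 F73456)
theorem F153186 : act 3 n99451 = n88065 := d7_1 D99451 (iv6 D88065) F73453
theorem F153187 : act 5 n99451 = n47386 := d12_1 D99451 (iv6 D47386) (iv5 F64793) F64791 (iv5 F73452)
def n99452 : Q := act 3 n46497
theorem D99452 : act 3 n46497 = n99452 := rfl
theorem F153188 : act 2 n99452 = n88066 := d0_1 D99452 (iv3 D88066) (iv2 F69148) F69149 (iv2 F73460)
theorem F153189 : act 5 n99452 = n88990 := d6_2 F73459 D99452 F136600
theorem F153190 : act 7 n99452 = n47050 := d8_2 (iv7 F73458) D99452 (iv3 D47050)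
def n99454 : Q := act 3 n46498
theorem D99454 : act 3 n46498 = n99454 := rfl
def n99455 : Q := act 5 n46498
theorem D99455 : act 5 n46498 = n99455 := rfl
theorem F153193 : act 2 n99455 = n47056 := d2_1 D99455 (iv5 D47056) (iv2 F73461)
def n99456 : Q := act 7 n46498
theorem D99456 : act 7 n46498 = n99456 := rfl
theorem F153194 : act 2 n99456 = n47057 := d4_1 D99456 (iv7 D47057) (iv2 F73461)
theorem F153195 : act 4 n99456 = n46499 := d11_1 D99456 (iv7 D46499) D46498
theorem F153196 : act 1 n47054 = n99456 := d15_1 D47054 (iv7 D99456) F73461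
def n99457 : Q := act 6 n46499
theorem D99457 : act 6 n46499 = n99457 := rfl
theorem F153198 : act 2 n99457 = n47058 := d3_1 D99457 (iv6 D47058) (iv2 F73462)
theorem F153199 : act 5 n99457 = n47124 := d12_1 D99457 (iv6 D47124) F35228 (iv6 F34777) (iv5 F73463)
def n99458 : Q := act 5 n46500
theorem D99458 : act 5 n46500 = n99458 := rfl
theorem F153200 : act 2 n99458 = n46982 := d2_1 D99458 (iv5 D46982) (iv2 F73466)
theorem F153201 : act 3 n99458 = n46973 := d6_1 D99458 (iv5 D46973) (iv3 F73467)
theorem F153202 : act 4 n99458 = n57367 := d9_1 D99458 F90556 F57379 D36542 (iv4 F64248) (iv5 F64250) D46503 (iv5 F147126) F147125 (iv5 D83504) (iv4 D38497) (iv5 D18346) D18345 (iv5 F34781) D46500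
theorem F153203 : act 7 n99458 = n46973 := d13_2 (iv7 F73468) D99458 (iv5 D46973)
theorem F153204 : act 0 n99458 = n78996 := d17_2 F75416 D99458 F120176 F71629 (iv5 F71633) F75433 F72936 F70095 (iv4 F75414)
theorem F153205 : act 1 n99458 = n97089 := d17_6 (iv1 D19600) D19603 F34423 (iv5 F34781) D46500 D99458 (iv5 D97089) (iv0 F71576) (iv4 D41627)
def n99459 : Q := act 6 n46500
theorem D99459 : act 6 n46500 = n99459 := rfl
theorem F153206 : act 2 n99459 = n46983 := d3_1 D99459 (iv6 D46983) (iv2 F73466)
theorem F153207 : act 3 n99459 = n46974 := d7_1 D99459 (iv6 D46974) (iv3 F73467)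
theorem F153208 : act 4 n99459 = n46501 := d10_1 D99459 (iv6 D46501) D46500
def n99460 : Q := act 0 n46501
theorem D99460 : act 0 n46501 = n99460 := rfl
def n99461 : Q := act 1 n46501
theorem D99461 : act 1 n46501 = n99461 := rfl
def n99462 : Q := act 5 n46501
theorem D99462 : act 5 n46501 = n99462 := rfl
theorem F153210 : act 2 n99462 = n46987 := d2_1 D99462 (iv5 D46987) (iv2 F73469)
theorem F153211 : act 3 n99462 = n88033 := d6_1 D99462 (iv5 D88033) (iv3 F73470)
theorem F153212 : act 6 n99462 = n83502 := d12_2 D46501 D99462 (iv5 D83502) (iv6 D38496) (iv5 F34781)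
def n99463 : Q := act 7 n46501
theorem D99463 : act 7 n46501 = n99463 := rfl
theorem F153215 : act 6 n99463 = n46979 := d14_1 D99463 (iv7 D46979) (iv6 D22592) (iv7 F34910) D46501
def n99464 : Q := act 6 n46502
theorem D99464 : act 6 n46502 = n99464 := rfl
theorem F153219 : act 2 n99464 = n88026 := d3_1 D99464 (iv6 D88026) (iv2 F73471)
theorem F153220 : act 3 n99464 = n46504 := d7_1 D99464 (iv6 D46504) D46502
theorem F153221 : act 4 n99464 = n87850 := d10_1 D99464 (iv6 D87850) (iv4 F73473)
def n99465 : Q := act 6 n46503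
theorem D99465 : act 6 n46503 = n99465 := rfl
theorem F153222 : act 2 n99465 = n46974 := d3_1 D99465 (iv6 D46974) (iv2 F73478)
theorem F153223 : act 3 n99465 = n47763 := d7_1 D99465 (iv6 D47763) (iv3 F73480)
theorem F153224 : act 4 n99465 = n46504 := d10_1 D99465 (iv6 D46504) D46503
def n99466 : Q := act 0 n46504
theorem D99466 : act 0 n46504 = n99466 := rfl
def n99467 : Q := act 1 n46504
theorem D99467 : act 1 n46504 = n99467 := rfl
theorem F153225 : act 1 n99467 = n46979 := d15_1 D99467 (iv7 D46979) (iv2 F73481)
def n99468 : Q := act 5 n46504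
theorem D99468 : act 5 n46504 = n99468 := rfl
theorem F153226 : act 2 n99468 = n46978 := d2_1 D99468 (iv5 D46978) (iv2 F73481)
def n99469 : Q := act 7 n46504
theorem D99469 : act 7 n46504 = n99469 := rfl
theorem F153227 : act 2 n99469 = n46979 := d4_1 D99469 (iv7 D46979) (iv2 F73481)
theorem F153228 : act 6 n99469 = n46988 := d14_1 D99469 (iv7 D46988) (iv6 D22596) F34913 D46504
theorem F153229 : act 1 n46979 = n99466 := d15_0 (iv0 D99466) D99469 F153227
theorem F153231 : act 1 n99469 = n46976 := d15_0 (iv0 D46976) D46979 (iv2 F153227)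
def n99470 : Q := act 0 n46505
theorem D99470 : act 0 n46505 = n99470 := rfl
def n99471 : Q := act 1 n46505
theorem D99471 : act 1 n46505 = n99471 := rfl
theorem F153232 : act 1 n99471 = n46511 := d15_1 D99471 (iv7 D46511) (iv2 F73482)
theorem F153233 : act 3 n46643 = n99471 := d20_3 (iv4 F135042) (iv1 F135044) (iv4 F142704) (iv1 D99471) F73483 (iv4 F74322) (iv1 F143901) (iv4 D87762) F73805 (iv1 F129917)
def n99472 : Q := act 5 n46505
theorem D99472 : act 5 n46505 = n99472 := rfl
theorem F153234 : act 2 n99472 = n46510 := d2_1 D99472 (iv5 D46510) (iv2 F73482)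
theorem F153235 : act 3 n99472 = n47075 := d6_1 D99472 (iv5 D47075) (iv3 F73483)
def n99473 : Q := act 7 n46505
theorem D99473 : act 7 n46505 = n99473 := rfl
theorem F153236 : act 2 n99473 = n46511 := d4_1 D99473 (iv7 D46511) (iv2 F73482)
theorem F153237 : act 3 n99473 = n47076 := d8_1 D99473 (iv7 D47076) (iv3 F73483)
theorem F153238 : act 4 n99473 = n95452 := d11_1 D99473 (iv7 D95452) (iv4 F73484)
theorem F153239 : act 6 n99473 = n46994 := d14_1 D99473 (iv7 D46994) (iv6 D22598) (iv7 F34786) D46505
theorem F153240 : act 1 n46511 = n99470 := d15_0 (iv0 D99470) D99473 F153236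
theorem F153241 : act 1 n46509 = n99473 := d15_1 D46509 (iv7 D99473) F73482
theorem F153242 : act 0 n46508 = n99473 := d20_4 (iv4 F62335) F126434 F126433 (iv3 F126436) F153237 (iv4 F143897) (iv1 F143902) (iv4 F134730) F134729 (iv1 F73823)
def n99474 : Q := act 6 n46506
theorem D99474 : act 6 n46506 = n99474 := rfl
theorem F153243 : act 3 n99474 = n75478 := d7_1 D99474 (iv6 D75478) (iv3 F73485)
theorem F153244 : act 4 n99474 = n46507 := d10_1 D99474 (iv6 D46507) D46506
def n99475 : Q := act 0 n46507
theorem D99475 : act 0 n46507 = n99475 := rfl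
def n99476 : Q := act 1 n46507
theorem D99476 : act 1 n46507 = n99476 := rfl
def n99477 : Q := act 5 n46507
theorem D99477 : act 5 n46507 = n99477 := rfl
theorem F153245 : act 3 n99477 = n46514 := d6_1 D99477 (iv5 D46514) (iv3 F73487)
theorem F153246 : act 6 n99477 = n46510 := d12_2 D46507 D99477 (iv5 D46510) (iv6 D22293) D22292
def n99478 : Q := act 7 n46507
theorem D99478 : act 7 n46507 = n99478 := rfl
theorem F153247 : act 3 n99478 = n46515 := d8_1 D99478 (iv7 D46515) (iv3 F73487)
theorem F153248 : act 6 n99478 = n47010 := d14_1 D99478 (iv7 D47010) (iv6 D22603) (iv7 F34791) D46507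
def n99479 : Q := act 2 n46508
theorem D99479 : act 2 n46508 = n99479 := rfl
theorem F153249 : act 7 n46509 = n99479 := d15_2 (iv0 D46508) D46509 (iv2 D99479)
def n99480 : Q := act 4 n46508
theorem D99480 : act 4 n46508 = n99480 := rfl
theorem F153250 : act 3 n99480 = n47013 := d5_1 D99480 (iv4 D47013) D47012 F126433 (iv3 F126436)
def n99481 : Q := act 5 n46508
theorem D99481 : act 5 n46508 = n99481 := rfl
def n99482 : Q := act 6 n46508
theorem D99482 : act 6 n46508 = n99482 := rfl
def n99483 : Q := act 7 n46508
theorem D99483 : act 7 n46508 = n99483 := rfl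
theorem F153251 : act 2 n99483 = n46509 := d4_1 D99483 F153249 (iv2 D99479)
def n99484 : Q := act 3 n46509
theorem D99484 : act 3 n46509 = n99484 := rfl
def n99485 : Q := act 4 n46509
theorem D99485 : act 4 n46509 = n99485 := rfl
theorem F153252 : act 3 n99485 = n47765 := d20_3 (iv4 F153238) (iv1 F153241) D99485 (iv1 D47765) F36033 F17642 D10850 D22988 D47777 (iv1 F147095)
def n99486 : Q := act 5 n46509
theorem D99486 : act 5 n46509 = n99486 := rfl
def n99487 : Q := act 6 n46509
theorem D99487 : act 6 n46509 = n99487 := rfl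
def n99488 : Q := act 0 n46510
theorem D99488 : act 0 n46510 = n99488 := rfl
def n99489 : Q := act 1 n46510
theorem D99489 : act 1 n46510 = n99489 := rfl
def n99490 : Q := act 4 n46510
theorem D99490 : act 4 n46510 = n99490 := rfl
def n99491 : Q := act 7 n46510
theorem D99491 : act 7 n46510 = n99491 := rfl
theorem F153253 : act 3 n99491 = n46518 := d8_1 D99491 (iv7 D46518) (iv3 F73488)
def n99492 : Q := act 2 n46512
theorem D99492 : act 2 n46512 = n99492 := rfl
theorem F153255 : act 7 n46513 = n99492 := d15_2 (iv0 D46512) D46513 (iv2 D99492)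
def n99493 : Q := act 3 n46512
theorem D99493 : act 3 n46512 = n99493 := rfl
def n99494 : Q := act 4 n46512
theorem D99494 : act 4 n46512 = n99494 := rfl
def n99495 : Q := act 5 n46512
theorem D99495 : act 5 n46512 = n99495 := rfl
def n99496 : Q := act 6 n46512
theorem D99496 : act 6 n46512 = n99496 := rfl
theorem F153256 : act 5 n99496 = n89188 := d21_6 F7343 (iv1 F7028) D10621 D22294 D46512 D99496 (iv1 D89188) (iv5 D41659) (iv6 D19615) F14410
def n99497 : Q := act 7 n46512
theorem D99497 : act 7 n46512 = n99497 := rfl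
def n99498 : Q := act 3 n46513
theorem D99498 : act 3 n46513 = n99498 := rfl
def n99499 : Q := act 4 n46513
theorem D99499 : act 4 n46513 = n99499 := rfl
def n99500 : Q := act 5 n46513
theorem D99500 : act 5 n46513 = n99500 := rfl
def n99501 : Q := act 6 n46513
theorem D99501 : act 6 n46513 = n99501 := rfl
def n99502 : Q := act 0 n46514
theorem D99502 : act 0 n46514 = n99502 := rfl
def n99503 : Q := act 1 n46514
theorem D99503 : act 1 n46514 = n99503 := rfl
theorem F153258 : act 1 n99503 = n47115 := d15_1 D99503 (iv7 D47115) (iv2 F73492)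
theorem F153259 : act 5 n47245 = n99503 := d21_6 (iv5 D9192) (iv1 F13492) (iv5 F13493) D10750 D22722 D47245 (iv1 D99503) (iv5 D46514) (iv6 D22294) F17159
def n99504 : Q := act 4 n46514
theorem D99504 : act 4 n46514 = n99504 := rfl
theorem F153260 : act 2 n99504 = n47114 := d1_1 D99504 (iv4 D47114) (iv2 F73492)
theorem F153261 : act 6 n99504 = n46517 := d10_2 (iv6 F73493) D99504 (iv4 D46517)
def n99505 : Q := act 7 n46514
theorem D99505 : act 7 n46514 = n99505 := rfl
theorem F153262 : act 2 n99505 = n47115 := d4_1 D99505 (iv7 D47115) (iv2 F73492)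
theorem F153263 : act 5 n99505 = n46515 := d13_1 D99505 (iv7 D46515) D46514
theorem F153264 : act 1 n47115 = n99502 := d15_0 (iv0 D99502) D99505 F153262
theorem F153265 : act 1 n47113 = n99505 := d15_1 D47113 (iv7 D99505) F73492
theorem F153266 : act 1 n99505 = n47112 := d15_0 (iv0 D47112) D47115 (iv2 F153262)
def n99506 : Q := act 3 n46516
theorem D99506 : act 3 n46516 = n99506 := rfl
theorem F153267 : act 2 n99506 = n88017 := d0_1 D99506 (iv3 D88017) (iv2 F73712) (iv3 F73710) F73500
theorem F153268 : act 5 n99506 = n98652 := d6_2 (iv5 F73499) D99506 F152081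
theorem F153269 : act 7 n99506 = n47117 := d8_2 (iv7 F73501) D99506 (iv3 D47117)
def n99507 : Q := act 6 n46516
theorem D99507 : act 6 n46516 = n99507 := rfl
theorem F153270 : act 2 n99507 = n47116 := d3_1 D99507 (iv6 D47116) F73500
def n99508 : Q := act 3 n46517
theorem D99508 : act 3 n46517 = n99508 := rfl
def n99509 : Q := act 5 n46517
theorem D99509 : act 5 n46517 = n99509 := rfl
theorem F153271 : act 2 n99509 = n47122 := d2_1 D99509 (iv5 D47122) (iv2 F73503)
def n99510 : Q := act 7 n46517
theorem D99510 : act 7 n46517 = n99510 := rfl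
theorem F153272 : act 2 n99510 = n47123 := d4_1 D99510 (iv7 D47123) (iv2 F73503)
theorem F153273 : act 4 n99510 = n46518 := d11_1 D99510 (iv7 D46518) D46517
theorem F153274 : act 1 n47120 = n99510 := d15_1 D47120 (iv7 D99510) F73503
theorem F153275 : act 1 n99510 = n47119 := d15_1 F153274 F74360 F74356
def n99511 : Q := act 6 n46518
theorem D99511 : act 6 n46518 = n99511 := rfl
theorem F153276 : act 2 n99511 = n47124 := d3_1 D99511 (iv6 D47124) (iv2 F73504)
theorem F153277 : act 5 n99511 = n47058 := d12_1 D99511 (iv6 D47058) F35160 (iv6 F34797) (iv5 F73505)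
def n99512 : Q := act 6 n46520
theorem D99512 : act 6 n46520 = n99512 := rfl
theorem F153278 : act 2 n99512 = n46981 := d3_1 D99512 (iv6 D46981) (iv2 F73509)
theorem F153279 : act 3 n99512 = n46640 := d7_1 D99512 (iv6 D46640) F73508
theorem F153280 : act 4 n99512 = n87851 := d10_1 D99512 (iv6 D87851) (iv4 F73512)
def n99513 : Q := act 6 n46521
theorem D99513 : act 6 n46521 = n99513 := rfl
theorem F153281 : act 2 n99513 = n46523 := d3_1 D99513 (iv6 D46523) D46521
theorem F153282 : act 3 n99513 = n90510 := d7_1 D99513 (iv6 D90510) (iv3 F73515)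
theorem F153283 : act 4 n99513 = n48003 := d10_1 D99513 (iv6 D48003) (iv4 F73516)
def n99514 : Q := act 6 n46522
theorem D99514 : act 6 n46522 = n99514 := rfl
theorem F153284 : act 3 n99514 = n46525 := d7_1 D99514 (iv6 D46525) (iv3 F73519)
def n99515 : Q := act 0 n46523
theorem D99515 : act 0 n46523 = n99515 := rfl
def n99516 : Q := act 1 n46523
theorem D99516 : act 1 n46523 = n99516 := rfl
def n99517 : Q := act 5 n46523
theorem D99517 : act 5 n46523 = n99517 := rfl
theorem F153285 : act 3 n99517 = n46528 := d6_1 D99517 (iv5 D46528) (iv3 F73521)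
def n99518 : Q := act 7 n46523
theorem D99518 : act 7 n46523 = n99518 := rfl
theorem F153286 : act 3 n99518 = n46529 := d8_1 D99518 (iv7 D46529) (iv3 F73521)
def n99519 : Q := act 0 n46524
theorem D99519 : act 0 n46524 = n99519 := rfl
def n99520 : Q := act 1 n46524
theorem D99520 : act 1 n46524 = n99520 := rfl
def n99521 : Q := act 5 n46524
theorem D99521 : act 5 n46524 = n99521 := rfl
def n99522 : Q := act 7 n46524
theorem D99522 : act 7 n46524 = n99522 := rfl
theorem F153287 : act 4 n99522 = n46529 := d11_1 D99522 (iv7 D46529) (iv4 F73522)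
def n99523 : Q := act 0 n46525
theorem D99523 : act 0 n46525 = n99523 := rfl
def n99524 : Q := act 1 n46525
theorem D99524 : act 1 n46525 = n99524 := rfl
def n99525 : Q := act 5 n46525
theorem D99525 : act 5 n46525 = n99525 := rfl
theorem F153288 : act 6 n99525 = n46528 := d12_2 D46525 D99525 (iv5 D46528) (iv6 D22303) D22302
def n99526 : Q := act 7 n46525
theorem D99526 : act 7 n46525 = n99526 := rfl
def n99537 : Q := act 0 n46528
theorem D99537 : act 0 n46528 = n99537 := rfl
def n99538 : Q := act 1 n46528
theorem D99538 : act 1 n46528 = n99538 := rfl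
def n99539 : Q := act 4 n46528
theorem D99539 : act 4 n46528 = n99539 := rfl
def n99540 : Q := act 7 n46528
theorem D99540 : act 7 n46528 = n99540 := rfl
theorem F153291 : act 5 n99540 = n46529 := d13_1 D99540 (iv7 D46529) D46528
def n99541 : Q := act 6 n46530
theorem D99541 : act 6 n46530 = n99541 := rfl
theorem F153292 : act 2 n99541 = n47059 := d3_1 D99541 (iv6 D47059) F73525
theorem F153293 : act 3 n99541 = n47126 := d7_1 D99541 (iv6 D47126) (iv3 F73524)
theorem F153294 : act 4 n99541 = n46821 := d10_1 D99541 (iv6 D46821) (iv4 F73523)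
def n99542 : Q := act 6 n46531
theorem D99542 : act 6 n46531 = n99542 := rfl
theorem F153295 : act 3 n99542 = n46535 := d7_1 D99542 (iv6 D46535) (iv3 F73528)
def n99543 : Q := act 0 n46532
theorem D99543 : act 0 n46532 = n99543 := rfl
def n99544 : Q := act 1 n46532
theorem D99544 : act 1 n46532 = n99544 := rfl
def n99545 : Q := act 5 n46532
theorem D99545 : act 5 n46532 = n99545 := rfl
theorem F153296 : act 3 n99545 = n46538 := d6_1 D99545 (iv5 D46538) (iv3 F73530)
def n99546 : Q := act 7 n46532
theorem D99546 : act 7 n46532 = n99546 := rfl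
theorem F153297 : act 3 n99546 = n46539 := d8_1 D99546 (iv7 D46539) (iv3 F73530)
theorem F153298 : act 4 n99546 = n90519 := d11_1 D99546 (iv7 D90519) (iv4 F73531)
def n99547 : Q := act 0 n46534
theorem D99547 : act 0 n46534 = n99547 := rfl
def n99548 : Q := act 1 n46534
theorem D99548 : act 1 n46534 = n99548 := rfl
def n99549 : Q := act 5 n46534
theorem D99549 : act 5 n46534 = n99549 := rfl
def n99550 : Q := act 7 n46534
theorem D99550 : act 7 n46534 = n99550 := rfl
theorem F153299 : act 4 n99550 = n46539 := d11_1 D99550 (iv7 D46539) (iv4 F73532)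
def n99551 : Q := act 0 n46535
theorem D99551 : act 0 n46535 = n99551 := rfl
def n99552 : Q := act 1 n46535
theorem D99552 : act 1 n46535 = n99552 := rfl
def n99553 : Q := act 5 n46535
theorem D99553 : act 5 n46535 = n99553 := rfl
theorem F153300 : act 6 n99553 = n46538 := d12_2 D46535 D99553 (iv5 D46538) (iv6 D22308) D22307
def n99554 : Q := act 7 n46535
theorem D99554 : act 7 n46535 = n99554 := rfl
def n99565 : Q := act 0 n46538
theorem D99565 : act 0 n46538 = n99565 := rfl
def n99566 : Q := act 1 n46538
theorem D99566 : act 1 n46538 = n99566 := rfl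
def n99567 : Q := act 4 n46538
theorem D99567 : act 4 n46538 = n99567 := rfl
def n99568 : Q := act 7 n46538
theorem D99568 : act 7 n46538 = n99568 := rfl
theorem F153303 : act 5 n99568 = n46539 := d13_1 D99568 (iv7 D46539) D46538
def n99569 : Q := act 5 n46540
theorem D99569 : act 5 n46540 = n99569 := rfl
theorem F153304 : act 2 n99569 = n46558 := d2_1 D99569 (iv5 D46558) (iv2 F73533)
theorem F153305 : act 3 n99569 = n48747 := d6_1 D99569 F76766 (iv3 F73534)
theorem F153306 : act 7 n99569 = n87666 := d13_2 (iv7 F73535) D99569 (iv5 D87666)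
theorem F153307 : act 4 n99569 = n52923 := d16_2 D46540 D99569 F83632 F59401 F29558 F16597 (iv5 F29558) F29559 (iv2 F34804)
theorem F153308 : act 1 n99569 = n76722 := d17_8 (iv1 F75464) (iv5 F85706) F85708 (iv5 F72119) D97231 F149989 F128751 D99569 F115099
def n99570 : Q := act 6 n46540
theorem D99570 : act 6 n46540 = n99570 := rfl
theorem F153309 : act 2 n99570 = n46559 := d3_1 D99570 (iv6 D46559) (iv2 F73533)
theorem F153310 : act 3 n99570 = n86586 := d7_1 D99570 (iv6 D86586) (iv3 F73534)
theorem F153311 : act 4 n99570 = n46541 := d10_1 D99570 (iv6 D46541) D46540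
def n99571 : Q := act 0 n46541
theorem D99571 : act 0 n46541 = n99571 := rfl
def n99572 : Q := act 1 n46541
theorem D99572 : act 1 n46541 = n99572 := rfl
theorem F153312 : act 1 n99572 = n46563 := d15_1 D99572 (iv7 D46563) (iv2 F73536)
def n99573 : Q := act 5 n46541
theorem D99573 : act 5 n46541 = n99573 := rfl
theorem F153313 : act 2 n99573 = n46562 := d2_1 D99573 (iv5 D46562) (iv2 F73536)
theorem F153314 : act 3 n99573 = n47142 := d6_1 D99573 (iv5 D47142) (iv3 F73537)
theorem F153315 : act 6 n99573 = n46544 := d12_2 D46541 D99573 (iv5 D46544) (iv6 D22310) D22309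
def n99574 : Q := act 7 n46541
theorem D99574 : act 7 n46541 = n99574 := rfl
theorem F153316 : act 2 n99574 = n46563 := d4_1 D99574 (iv7 D46563) (iv2 F73536)
theorem F153317 : act 3 n99574 = n47143 := d8_1 D99574 (iv7 D47143) (iv3 F73537)
theorem F153318 : act 6 n99574 = n87671 := d14_1 D99574 (iv7 D87671) (iv6 D40844) (iv7 F34806) D46541
theorem F153319 : act 1 n46563 = n99571 := d15_0 (iv0 D99571) D99574 F153316
theorem F153320 : act 1 n46561 = n99574 := d15_1 D46561 (iv7 D99574) F73536
theorem F153321 : act 1 n99574 = n46560 := d15_0 (iv0 D46560) D46563 (iv2 F153316)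
def n99575 : Q := act 2 n46542
theorem D99575 : act 2 n46542 = n99575 := rfl
theorem F153322 : act 7 n46543 = n99575 := d15_2 (iv0 D46542) D46543 (iv2 D99575)
def n99576 : Q := act 3 n46542
theorem D99576 : act 3 n46542 = n99576 := rfl
theorem F153323 : act 4 n99576 = n90520 := d20_6 (iv4 D23369) (iv1 D10974) (iv4 F17269) (iv3 F34808) D46542 D99576 (iv1 F139323) F66883 D47581 (iv1 F74838)
theorem F153324 : act 0 n47397 = n99576 := d20_10 F153323 (iv1 F139323) F66883 D47581 (iv1 F74838) (iv3 F74665) (iv4 D47484) (iv1 F134640) (iv4 D47398) D47397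
def n99577 : Q := act 4 n46542
theorem D99577 : act 4 n46542 = n99577 := rfl
theorem F153325 : act 3 n99577 = n90486 := d20_9 (iv4 F135530) (iv1 F135533) (iv4 F74405) (iv3 D47146) (iv1 D22685) (iv3 F34808) F34809 D46542 D99577 (iv1 F139257)
def n99578 : Q := act 5 n46542
theorem D99578 : act 5 n46542 = n99578 := rfl
def n99579 : Q := act 6 n46542
theorem D99579 : act 6 n46542 = n99579 := rfl
theorem F153326 : act 5 n99579 = n88831 := d21_6 (iv5 F72118) (iv1 F59423) (iv5 D22309) D22310 D46542 D99579 (iv1 D88831) (iv5 D41471) (iv6 D19525) D19521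
def n99580 : Q := act 7 n46542
theorem D99580 : act 7 n46542 = n99580 := rfl
theorem F153327 : act 2 n99580 = n46543 := d4_1 D99580 F153322 (iv2 D99575)
def n99581 : Q := act 3 n46543
theorem D99581 : act 3 n46543 = n99581 := rfl
theorem F153328 : act 4 n99581 = n48008 := d20_6 (iv4 D4925) (iv1 F7038) (iv4 F17174) (iv3 F34814) (iv1 F73538) D99581 (iv1 D48008) F36255 F34945 (iv1 F35583)
def n99582 : Q := act 4 n46543
theorem D99582 : act 4 n46543 = n99582 := rfl
def n99583 : Q := act 5 n46543
theorem D99583 : act 5 n46543 = n99583 := rfl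
def n99584 : Q := act 6 n46543
theorem D99584 : act 6 n46543 = n99584 := rfl
def n99585 : Q := act 0 n46544
theorem D99585 : act 0 n46544 = n99585 := rfl
def n99586 : Q := act 1 n46544
theorem D99586 : act 1 n46544 = n99586 := rfl
theorem F153329 : act 1 n99586 = n46577 := d15_1 D99586 (iv7 D46577) (iv2 F73539)
def n99587 : Q := act 4 n46544
theorem D99587 : act 4 n46544 = n99587 := rfl
theorem F153330 : act 2 n99587 = n46576 := d1_1 D99587 (iv4 D46576) (iv2 F73539)
def n99588 : Q := act 7 n46544
theorem D99588 : act 7 n46544 = n99588 := rfl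
theorem F153331 : act 2 n99588 = n46577 := d4_1 D99588 (iv7 D46577) (iv2 F73539)
theorem F153332 : act 3 n99588 = n47151 := d8_1 D99588 (iv7 D47151) (iv3 F73540)
theorem F153333 : act 5 n99588 = n46545 := d13_1 D99588 (iv7 D46545) D46544
theorem F153334 : act 1 n46577 = n99585 := d15_0 (iv0 D99585) D99588 F153331
theorem F153335 : act 1 n46575 = n99588 := d15_1 D46575 (iv7 D99588) F73539
theorem F153336 : act 1 n99588 = n46574 := d15_0 (iv0 D46574) D46577 (iv2 F153331)
def n99589 : Q := act 4 n46547
theorem D99589 : act 4 n46547 = n99589 := rfl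
theorem F153337 : act 2 n99589 = n98483 := d1_1 D99589 F151885 (iv2 F132704)
theorem F153338 : act 5 n99589 = n79325 := d9_2 F74224 D99589 F121963 F121965 F108420 (iv5 D44708) D44707 (iv5 F125784) (iv4 F132807) F132808 F94783 D60230 (iv4 F94791) (iv5 D44712) D44711
theorem F153339 : act 7 n99589 = n98484 := d11_2 F128825 D99589 F151890
theorem F153340 : act 0 n99589 = n88942 := d18_2 F73550 D99589 (iv4 D88942) F64070 F34682 D22998 (iv4 F36062) D46520 F73510
theorem F153341 : act 1 n99589 = n98481 := d18_6 (iv1 F34489) F34487 (iv1 F34083) D44711 F74224 D99589 (iv4 D98481) F72638 (iv5 D40353)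
theorem F153342 : act 3 n99589 = n79161 := d19_3 F72300 F74224 D99589 (iv1 F120451) F77347 (iv4 F58740) (iv3 F72447) (iv1 F72452) (iv5 D35450) D35449 F56156 F30784 F30219 F28900 (iv3 F21766) (iv1 F30196) D40000 F60867 D45797
def n99590 : Q := act 6 n46547
theorem D99590 : act 6 n46547 = n99590 := rfl
theorem F153343 : act 3 n99590 = n46550 := d7_1 D99590 (iv6 D46550) D46547
def n99591 : Q := act 3 n46548
theorem D99591 : act 3 n46548 = n99591 := rfl
theorem F153344 : act 4 n99591 = n79161 := d5_2 D46548 D99591 (iv3 F153342) (iv4 D99589) (iv3 D46547)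
theorem F153345 : act 5 n99591 = n95876 := d6_2 F73551 D99591 (iv3 D95876)
theorem F153347 : act 0 n84388 = n99591 := d20_4 (iv4 F77220) (iv1 F129511) (iv4 D84389) D84388 (iv3 D99591) (iv4 D46548) (iv1 F34810) D40843 (iv3 F77350) F77352
def n99592 : Q := act 6 n46548
theorem D99592 : act 6 n46548 = n99592 := rfl
theorem F153348 : act 2 n99592 = n84341 := d3_1 D99592 (iv6 D84341) (iv2 F74239)
theorem F153349 : act 4 n99592 = n46550 := d10_1 D99592 (iv6 D46550) D46548
def n99593 : Q := act 0 n46550
theorem D99593 : act 0 n46550 = n99593 := rfl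
def n99594 : Q := act 1 n46550
theorem D99594 : act 1 n46550 = n99594 := rfl
def n99595 : Q := act 5 n46550
theorem D99595 : act 5 n46550 = n99595 := rfl
def n99596 : Q := act 7 n46550
theorem D99596 : act 7 n46550 = n99596 := rfl
def n99597 : Q := act 6 n46552
theorem D99597 : act 6 n46552 = n99597 := rfl
theorem F153350 : act 3 n99597 = n46555 := d7_1 D99597 (iv6 D46555) D46552
def n99598 : Q := act 6 n46553
theorem D99598 : act 6 n46553 = n99598 := rfl
theorem F153352 : act 4 n99598 = n46555 := d10_1 D99598 (iv6 D46555) D46553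
def n99599 : Q := act 0 n46555
theorem D99599 : act 0 n46555 = n99599 := rfl
def n99600 : Q := act 1 n46555
theorem D99600 : act 1 n46555 = n99600 := rfl
def n99601 : Q := act 5 n46555
theorem D99601 : act 5 n46555 = n99601 := rfl
def n99602 : Q := act 7 n46555
theorem D99602 : act 7 n46555 = n99602 := rfl
def n99603 : Q := act 6 n46556
theorem D99603 : act 6 n46556 = n99603 := rfl
theorem F153353 : act 3 n99603 = n79081 := d7_1 D99603 (iv6 D79081) F91678
def n99604 : Q := act 6 n46557
theorem D99604 : act 6 n46557 = n99604 := rfl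
def n99605 : Q := act 0 n46558
theorem D99605 : act 0 n46558 = n99605 := rfl
theorem F153354 : act 5 n99605 = n81920 := d17_3 (iv1 D46557) D46558 D99605 (iv4 D81920) F72916 (iv0 F34946) (iv5 F44574) D57952 (iv4 F91684)
theorem F153355 : act 4 n99605 = n47808 := d18_1 D99605 (iv1 F75479) F75476 (iv5 F85706) F85705 F91677 F91676 (iv0 D46556) D46558
theorem F153356 : act 0 n99605 = n87666 := d18_0 F134578 D99605 F153355 F75106 (iv4 F72922) F72921 D86898 F133327 (iv5 F153354)
theorem F153357 : act 7 n76722 = n99605 := d11_0 F153355 F75469 (iv4 F115099)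
theorem F153358 : act 3 n76726 = n99605 := d20_5 F41821 (iv1 F21307) (iv4 F27890) (iv3 F55691) (iv1 F151574) F153355 (iv1 F75479) F75476 (iv3 D26280) D26278
def n99606 : Q := act 1 n46558
theorem D99606 : act 1 n46558 = n99606 := rfl
theorem F153359 : act 1 n99606 = n87666 := d15_1 D99606 (iv7 F153306) F153304
theorem F153360 : act 5 n99606 = n81922 := d17_7 (iv1 F72921) (iv5 D22307) (iv1 D10624) D10626 D22313 D46558 D99606 (iv0 F133326) (iv4 D86898)
theorem F153361 : act 4 n99606 = n47809 := d17_9 (iv1 D47809) (iv5 F44708) F73553 F74246 D95874 F147546 (iv0 D46556) D46558 D99606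
theorem F153362 : act 2 n76722 = n99606 := d1_3 F153361 (iv2 F75484) (iv4 F115099)
def n99607 : Q := act 6 n46558
theorem D99607 : act 6 n46558 = n99607 := rfl
def n99608 : Q := act 0 n46559
theorem D99608 : act 0 n46559 = n99608 := rfl
def n99609 : Q := act 1 n46559
theorem D99609 : act 1 n46559 = n99609 := rfl
def n99610 : Q := act 5 n46559
theorem D99610 : act 5 n46559 = n99610 := rfl
def n99611 : Q := act 7 n46559
theorem D99611 : act 7 n46559 = n99611 := rfl
theorem F153363 : act 4 n99611 = n46563 := d11_1 D99611 (iv7 D46563) (iv4 F73557)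
def n99612 : Q := act 2 n46560
theorem D99612 : act 2 n46560 = n99612 := rfl
theorem F153364 : act 7 n46561 = n99612 := d15_2 (iv0 D46560) D46561 (iv2 D99612)
def n99613 : Q := act 3 n46560
theorem D99613 : act 3 n46560 = n99613 := rfl
def n99614 : Q := act 4 n46560
theorem D99614 : act 4 n46560 = n99614 := rfl
def n99615 : Q := act 5 n46560
theorem D99615 : act 5 n46560 = n99615 := rfl
def n99616 : Q := act 6 n46560
theorem D99616 : act 6 n46560 = n99616 := rfl
def n99617 : Q := act 7 n46560
theorem D99617 : act 7 n46560 = n99617 := rfl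
theorem F153365 : act 2 n99617 = n46561 := d4_1 D99617 F153364 (iv2 D99612)
def n99618 : Q := act 3 n46561
theorem D99618 : act 3 n46561 = n99618 := rfl
def n99619 : Q := act 4 n46561
theorem D99619 : act 4 n46561 = n99619 := rfl
def n99620 : Q := act 5 n46561
theorem D99620 : act 5 n46561 = n99620 := rfl
def n99621 : Q := act 6 n46561
theorem D99621 : act 6 n46561 = n99621 := rfl
def n99622 : Q := act 0 n46562
theorem D99622 : act 0 n46562 = n99622 := rfl
def n99623 : Q := act 1 n46562
theorem D99623 : act 1 n46562 = n99623 := rfl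
def n99624 : Q := act 4 n46562
theorem D99624 : act 4 n46562 = n99624 := rfl
theorem F153366 : act 6 n99624 = n46576 := d10_2 (iv6 F73559) D99624 (iv4 D46576)
def n99625 : Q := act 7 n46562
theorem D99625 : act 7 n46562 = n99625 := rfl
theorem F153367 : act 3 n99625 = n46591 := d8_1 D99625 (iv7 D46591) (iv3 F73558)
theorem F153368 : act 5 n99625 = n46563 := d13_1 D99625 (iv7 D46563) D46562
def n99627 : Q := act 1 n46564
theorem D99627 : act 1 n46564 = n99627 := rfl
theorem F153370 : act 1 n99627 = n46569 := d15_1 D99627 (iv7 D46569) D46564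
def n99628 : Q := act 3 n46564
theorem D99628 : act 3 n46564 = n99628 := rfl
theorem F153371 : act 7 n99628 = n46570 := d8_2 F73561 D99628 (iv3 D46570)
theorem F153372 : act 4 n90524 = n99628 := d11_3 F153371 F73563 F139330
theorem F153373 : act 2 n99628 = n90526 := d1_1 F153372 (iv4 D90526) D90524
def n99629 : Q := act 4 n46564
theorem D99629 : act 4 n46564 = n99629 := rfl
theorem F153374 : act 2 n99629 = n46566 := d1_1 D99629 (iv4 D46566) D46564
theorem F153375 : act 7 n99629 = n46571 := d11_2 F73561 D99629 (iv4 D46571)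
theorem F153376 : act 1 n47524 = n46571 := d15_1 (iv0 F74725) (iv7 F153375) F153374
def n99630 : Q := act 5 n46564
theorem D99630 : act 5 n46564 = n99630 := rfl
theorem F153377 : act 2 n99630 = n46567 := d2_1 D99630 (iv5 D46567) D46564
theorem F153378 : act 7 n99630 = n46572 := d13_2 F73561 D99630 (iv5 D46572)
def n99631 : Q := act 6 n46564
theorem D99631 : act 6 n46564 = n99631 := rfl
theorem F153379 : act 2 n99631 = n46568 := d3_1 D99631 (iv6 D46568) D46564
def n99632 : Q := act 0 n46565
theorem D99632 : act 0 n46565 = n99632 := rfl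
def n99633 : Q := act 1 n46565
theorem D99633 : act 1 n46565 = n99633 := rfl
theorem F153380 : act 3 n47194 = n99633 := d20_9 F76048 (iv1 D48382) (iv4 F73633) (iv3 D46619) (iv1 F34863) D22348 F34884 D41173 (iv4 F74836) (iv1 D99633)
theorem F153381 : act 4 n99633 = n95347 := d20_6 F74833 (iv1 F68878) F66813 D22704 D47194 F153380 (iv1 D95347) (iv4 F73785) F73784 (iv1 F74839)
theorem F153382 : act 3 n96271 = n95347 := d5_5 (iv4 F153381) (iv3 F153380) F74836 D88222 F148068
def n99634 : Q := act 2 n46565
theorem D99634 : act 2 n46565 = n99634 := rfl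
theorem F153383 : act 3 n99634 = n90526 := d0_2 D46565 D99634 (iv2 F153373) (iv3 D99628) (iv2 D46564)
def n99635 : Q := act 5 n46565
theorem D99635 : act 5 n46565 = n99635 := rfl
theorem F153384 : act 3 n99635 = n46567 := d6_1 D99635 (iv5 D46567) D46565
def n99636 : Q := act 6 n46565
theorem D99636 : act 6 n46565 = n99636 := rfl
theorem F153385 : act 3 n99636 = n46568 := d7_1 D99636 (iv6 D46568) D46565
def n99637 : Q := act 7 n46565
theorem D99637 : act 7 n46565 = n99637 := rfl
theorem F153386 : act 3 n99637 = n46569 := d8_1 D99637 (iv7 D46569) D46565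
def n99638 : Q := act 0 n46566
theorem D99638 : act 0 n46566 = n99638 := rfl
def n99639 : Q := act 5 n46566
theorem D99639 : act 5 n46566 = n99639 := rfl
def n99640 : Q := act 6 n46566
theorem D99640 : act 6 n46566 = n99640 := rfl
theorem F153387 : act 4 n99640 = n46568 := d10_1 D99640 (iv6 D46568) D46566
def n99641 : Q := act 7 n46566
theorem D99641 : act 7 n46566 = n99641 := rfl
theorem F153388 : act 2 n99641 = n46571 := d4_1 D99641 (iv7 F153375) F153374
theorem F153389 : act 4 n99641 = n46569 := d11_1 D99641 (iv7 D46569) D46566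
theorem F153390 : act 1 n46571 = n99638 := d15_0 (iv0 D99638) D99641 F153388
theorem F153391 : act 3 n88295 = n99638 := d20_9 (iv4 D46571) (iv1 D22316) F17169 F17168 D10629 D22323 F34823 D41212 D88295 (iv1 F153390)
def n99642 : Q := act 0 n46567
theorem D99642 : act 0 n46567 = n99642 := rfl
def n99643 : Q := act 1 n46567
theorem D99643 : act 1 n46567 = n99643 := rfl
def n99644 : Q := act 4 n46567
theorem D99644 : act 4 n46567 = n99644 := rfl
def n99645 : Q := act 6 n46567
theorem D99645 : act 6 n46567 = n99645 := rfl
def n99646 : Q := act 7 n46567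
theorem D99646 : act 7 n46567 = n99646 := rfl
theorem F153393 : act 2 n99646 = n46572 := d4_1 D99646 (iv7 F153378) F153377
theorem F153394 : act 5 n99646 = n46569 := d13_1 D99646 (iv7 D46569) D46567
theorem F153395 : act 1 n46572 = n99642 := d15_0 (iv0 D99642) D99646 F153393
def n99647 : Q := act 0 n46568
theorem D99647 : act 0 n46568 = n99647 := rfl
def n99648 : Q := act 1 n46568
theorem D99648 : act 1 n46568 = n99648 := rfl
def n99649 : Q := act 5 n46568
theorem D99649 : act 5 n46568 = n99649 := rfl
theorem F153396 : act 0 n99649 = n88812 := d21_7 F74235 (iv1 D22312) (iv5 D10626) D10627 D22315 D46568 D99649 (iv5 D88812) (iv6 D41464) (iv1 F63688)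
theorem F153398 : act 1 n99649 = n88833 := d15_1 (iv0 F153396) (iv7 D88833) (iv2 F136189)
def n99650 : Q := act 7 n46568
theorem D99650 : act 7 n46568 = n99650 := rfl
def n99651 : Q := act 6 n46569
theorem D99651 : act 6 n46569 = n99651 := rfl
theorem F153399 : act 2 n99651 = n46573 := d3_1 D99651 (iv6 D46573) (iv2 F73562)
def n99652 : Q := act 0 n46570
theorem D99652 : act 0 n46570 = n99652 := rfl
theorem F153400 : act 1 n90526 = n99652 := d15_0 (iv0 D99652) (iv7 F153371) F153373
theorem F153401 : act 4 n47569 = n99652 := d20_0 (iv1 F153400) (iv4 D90526) (iv3 F145329) (iv1 D88525) (iv3 D41325) (iv4 F34857) (iv1 D10805) D10807 D22871 D47569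
theorem F153402 : act 3 n99652 = n47184 := d20_3 (iv4 F35573) D47569 F153401 (iv1 D47184) (iv3 D22699) (iv4 F66804) (iv1 F68879) (iv4 F74833) (iv3 D47581) (iv1 D22881)
def n99653 : Q := act 1 n46570
theorem D99653 : act 1 n46570 = n99653 := rfl
theorem F153403 : act 3 n46592 = n99653 := d20_9 F73563 (iv1 D42368) (iv4 F65447) F65446 F66799 D23390 (iv4 F72133) D97968 F150994 (iv1 D99653)
theorem F153404 : act 4 n99653 = n47570 := d20_6 (iv4 F30770) F35586 F17177 D22323 D46592 F153403 (iv1 D47570) F35573 (iv3 D10810) F35584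
def n99654 : Q := act 2 n46570
theorem D99654 : act 2 n46570 = n99654 := rfl
theorem F153405 : act 4 n99654 = n90529 := d1_2 (iv4 F73563) D99654 F139331
theorem F153406 : act 7 n99654 = n90526 := d4_2 F153371 D99654 (iv2 F153373)
theorem F153407 : act 1 n99653 = n90526 := d15_1 D99653 (iv7 F153406) (iv2 D99654)
theorem F153408 : act 3 n47570 = n92741 := d20_3 D90526 (iv1 F153407) F153404 (iv1 D92741) (iv3 D43385) F66505 F66796 F15469 (iv3 F31833) D42367
theorem F153409 : act 4 n48007 = n99634 := d20_8 F153404 (iv1 D47570) F35573 (iv3 D10810) F35584 (iv3 F34945) (iv4 F36255) D48007 F153383 (iv1 F153407)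
theorem F153410 : act 2 n48382 = n48007 := d1_3 F153409 (iv2 D99634) F76048
theorem F153411 : act 7 n48008 = n48382 := d15_2 (iv0 D48007) D48008 F153410
theorem F153412 : act 7 n48381 = n48007 := d15_2 (iv0 F76049) F76047 (iv2 F153410)
theorem F153413 : act 2 n48008 = n48381 := d4_3 F153412 (iv2 F153410) (iv7 F153411)
theorem E14841 : n99637 = n99581 := (c11_3 F153411 (iv4 F76048) D99637 F153328)
theorem E14842 : n46569 = n46543 := ((((iv3 D99581)).symm.trans (sb E14841 F153386))).symm
theorem F153414 : act 7 n99581 = n46565 := (sb E14841 (iv7 D99637))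
theorem E14843 : n99627 = n22310 := ((((iv1 D46543)).symm.trans (sb E14842 (iv1 F153370)))).symm
theorem E14845 : n99580 = n22316 := (((iv2 F153327)).symm.trans (sb E14842 F73562))
theorem E14846 : n99641 = n99582 := (((D99582).symm.trans (sb E14842 (iv4 F153389)))).symm
theorem E14847 : n99646 = n99583 := (((D99583).symm.trans (sb E14842 (iv5 F153394)))).symm
theorem E14848 : n99651 = n99584 := (((D99584).symm.trans (sb E14842 D99651))).symm
theorem E14849 : n99575 = n22315 := ((F153322).symm.trans (sb E14842 (iv7 D46569)))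
theorem E14850 : n46564 = n46542 := (((D46542).symm.trans (sb E14843 (iv1 D99627)))).symm
theorem F153415 : act 2 n22316 = n46543 := (sb E14845 F153327)
theorem F153416 : act 2 n99582 = n46571 := (sb E14846 F153388)
theorem F153417 : act 7 n99582 = n46566 := (sb E14846 (iv7 D99641))
theorem F153418 : act 2 n99583 = n46572 := (sb E14847 F153393)
theorem F153419 : act 7 n99583 = n46567 := (sb E14847 (iv7 D99646))
theorem F153420 : act 2 n99584 = n46573 := (sb E14848 F153399)
theorem F153421 : act 7 n22315 = n46543 := (sb E14849 (iv7 F153322))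
theorem F153422 : act 2 n46542 = n22315 := (sb E14850 (iv2 D46564))
theorem E14851 : n99628 = n99576 := (((D99576).symm.trans (sb E14850 D99628))).symm
theorem E14852 : n99629 = n99577 := (((D99577).symm.trans (sb E14850 D99629))).symm
theorem E14853 : n99630 = n99578 := (((D99578).symm.trans (sb E14850 D99630))).symm
theorem E14854 : n99631 = n99579 := (((D99579).symm.trans (sb E14850 D99631))).symm
theorem F153423 : act 7 n46542 = n22316 := (sb E14850 (iv7 F73561))
theorem F153424 : act 2 n99576 = n90526 := (sb E14851 F153373)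
theorem E14855 : n90524 = n90520 := (((F153323).symm.trans (sb E14851 (iv4 F153372)))).symm
theorem F153425 : act 7 n99576 = n46570 := (sb E14851 F153371)
theorem F153426 : act 2 n99577 = n46566 := (sb E14852 F153374)
theorem F153427 : act 7 n99577 = n46571 := (sb E14852 F153375)
theorem F153428 : act 2 n99578 = n46567 := (sb E14853 F153377)
theorem F153429 : act 7 n99578 = n46572 := (sb E14853 F153378)
theorem F153430 : act 2 n99579 = n46568 := (sb E14854 F153379)
theorem F153431 : act 2 n90520 = n42367 := (sb E14855 (iv2 D90524))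
theorem F153432 : act 7 n90520 = n42368 := (sb E14855 (iv7 F139330))
theorem E14856 : n90529 = n90521 := (c15_4 F139319 F139323 F153432 (iv2 F139331))
theorem F153433 : act 2 n90521 = n42368 := (sb E14856 F139331)
theorem F153434 : act 4 n90521 = n99654 := (sb E14856 (iv4 F153405))
theorem F153435 : act 7 n90521 = n42367 := (sb E14856 (iv7 D90529))
theorem E14857 : n90555 = n88525 := ((c8_2 F153435 (iv3 F145329) (iv7 F139378) (iv3 F151059))).symm
theorem F153436 : act 2 n88525 = n42390 := (sb E14857 (iv2 D90555))
theorem E14858 : n76450 = n76316 := (((F135564).symm.trans (sb E14857 F139377))).symm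
theorem F153437 : act 7 n88525 = n42391 := (sb E14857 (iv7 F139378))
theorem F153438 : act 2 n76316 = n34930 := (sb E14858 F114600)
theorem E14859 : n34927 = n34864 := ((((iv5 D76316)).symm.trans (sb E14858 F114601))).symm
theorem F153439 : act 7 n76316 = n34925 := (sb E14858 (iv7 D76450))
theorem E14860 : n76428 = n16901 := ((((iv1 D34864)).symm.trans (sb E14859 (iv1 F114583)))).symm
theorem E14862 : n76313 = n16940 := (((iv2 F114418)).symm.trans (sb E14859 F55290))
theorem E14863 : n76439 = n76314 := (((D76314).symm.trans (sb E14859 (iv3 F114592)))).symm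
theorem E14864 : n52994 = n26991 := ((((iv4 F136674)).symm.trans (sb E14859 (iv4 F136442)))).symm
theorem E14865 : n76455 = n76317 := (((D76317).symm.trans (sb E14859 D76455))).symm
theorem E14866 : n76308 = n16939 := ((F114416).symm.trans (sb E14859 (iv7 D34927)))
theorem E14867 : n34922 = n34863 := (((D34863).symm.trans (sb E14860 (iv1 D76428)))).symm
theorem F153440 : act 2 n16940 = n34864 := (sb E14862 F114418)
theorem E14868 : n55976 = n25722 := ((((iv4 F136441)).symm.trans (sb E14862 F136675))).symm
theorem F153441 : act 2 n76314 = n94239 := (sb E14863 F145304)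
theorem F153442 : act 7 n76314 = n34923 := (sb E14863 (iv7 D76439))
theorem E14869 : n55971 = n25721 := ((F88587).symm.trans (sb E14864 (iv7 D52994)))
theorem F153443 : act 2 n76317 = n34931 := (sb E14865 F114605)
theorem F153444 : act 7 n16939 = n34864 := (sb E14866 (iv7 F114416))
theorem F153445 : act 2 n34863 = n16939 := (sb E14867 (iv2 D34922))
theorem E14870 : n76429 = n76309 := (((D76309).symm.trans (sb E14867 D76429))).symm
theorem E14871 : n52989 = n26990 := ((((iv4 F136679)).symm.trans (sb E14867 (iv4 F136444)))).symm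
theorem E14872 : n76431 = n76311 := (((D76311).symm.trans (sb E14867 D76431))).symm
theorem E14873 : n76432 = n76312 := (((D76312).symm.trans (sb E14867 D76432))).symm
theorem F153446 : act 7 n34863 = n16940 := (sb E14867 (iv7 F55289))
theorem F153447 : act 2 n25722 = n26991 := (sb E14868 F88589)
theorem F153448 : act 7 n25721 = n26991 := (sb E14869 (iv7 F88587))
theorem F153449 : act 7 n76309 = n34928 := (sb E14870 F114584)
theorem F153450 : act 2 n26990 = n25721 := (sb E14871 (iv2 D52989))
theorem F153451 : act 7 n26990 = n25722 := (sb E14871 (iv7 F83718))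
theorem F153452 : act 2 n76311 = n34925 := (sb E14872 F114587)
theorem F153453 : act 7 n76311 = n34930 := (sb E14872 F114588)
theorem F153454 : act 2 n76312 = n34926 := (sb E14873 F114589)
theorem F153455 : act 2 n52993 = n55975 := d1_3 (iv4 F136680) F153454 (iv4 F136446)
theorem F153456 : act 2 n76453 = n52800 := d2_3 (iv5 F114417) F153454 D76453
theorem F153457 : act 2 n52855 = n75155 := d2_3 (iv5 F112694) F153455 F88588
theorem F153458 : act 7 n75154 = n52855 := d15_2 F112693 F112699 F153457
theorem F153459 : act 7 n52854 = n75155 := d15_2 F112700 F112701 (iv2 F153457)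
theorem F153460 : act 2 n75154 = n52854 := d4_3 F153459 (iv2 F153457) (iv7 F153458)
theorem F153461 : act 7 n52995 = n55972 := d8_2 F153451 D52995 (iv3 D55972)
theorem F153462 : act 7 n52997 = n55974 := d13_2 F153451 D52997 (iv5 D55974)
theorem F153463 : act 2 n52992 = n55974 := d2_3 (iv5 D55974) F153450 D52992
theorem F153464 : act 7 n55977 = n52990 := d8_2 F153448 D55977 (iv3 D52990)
theorem F153465 : act 7 n55979 = n52992 := d13_2 F153448 D55979 (iv5 D52992)
theorem F153466 : act 2 n52997 = n55979 := d4_3 F153465 F153463 (iv7 F153462)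
theorem F153467 : act 2 n55980 = n52998 := d3_3 (iv6 D52998) F153447 D55980
theorem F153468 : act 7 n76437 = n90528 := d13_2 F153442 D76437 F145327
theorem F153469 : act 1 n76435 = n48749 := d15_0 F145326 F153442 D76435
theorem F153470 : act 1 n94241 = n76435 := d15_0 F153469 (iv7 F145307) (iv2 F145311)
theorem E14874 : n90558 = n88524 := (c15_4 (iv0 D88524) D88525 F153437 (iv2 F139383))
theorem F153471 : act 2 n88524 = n42391 := (sb E14874 F139383)
theorem F153472 : act 7 n88524 = n42390 := (sb E14874 (iv7 D90558))
theorem F153473 : act 2 n99649 = n88831 := d2_3 (iv5 F153326) F153430 D99649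
theorem F153474 : act 7 n47512 = n90486 := d8_2 F153427 (iv3 F74712) (iv3 F153325)
theorem F153475 : act 2 n90486 = n47513 := d15_3 F139256 (iv0 F139255) F153474
theorem F153476 : act 2 n47512 = n90487 := d15_3 F139258 F139257 (iv7 F153474)
theorem F153477 : act 7 n90487 = n47513 := d4_2 (iv7 F153474) F153476 (iv2 F153475)
theorem F153478 : act 1 n47397 = n99654 := d15_1 (iv0 F153324) F153406 (iv2 F153424)
theorem F153479 : act 3 n92704 = n90431 := d20_3 F153434 (iv1 F153478) F142884 (iv1 D90431) (iv3 D42289) (iv4 F66839) (iv1 F33051) F32903 (iv3 F65449) (iv1 F139319)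
def n99655 : Q := act 5 n46570
theorem D99655 : act 5 n46570 = n99655 := rfl
theorem F153480 : act 3 n99655 = n46572 := d6_1 D99655 (iv5 D46572) D46570
def n99656 : Q := act 6 n46570
theorem D99656 : act 6 n46570 = n99656 := rfl
theorem F153481 : act 3 n99656 = n46573 := d7_1 D99656 (iv6 D46573) D46570
theorem F153482 : act 4 n99656 = n90532 := d10_1 D99656 (iv6 D90532) (iv4 F73563)
def n99657 : Q := act 5 n46571
theorem D99657 : act 5 n46571 = n99657 := rfl
def n99658 : Q := act 6 n46571
theorem D99658 : act 6 n46571 = n99658 := rfl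
theorem F153483 : act 4 n99658 = n46573 := d10_1 D99658 (iv6 D46573) D46571
def n99661 : Q := act 0 n46573
theorem D99661 : act 0 n46573 = n99661 := rfl
def n99662 : Q := act 1 n46573
theorem D99662 : act 1 n46573 = n99662 := rfl
def n99663 : Q := act 5 n46573
theorem D99663 : act 5 n46573 = n99663 := rfl
def n99664 : Q := act 7 n46573
theorem D99664 : act 7 n46573 = n99664 := rfl
def n99665 : Q := act 2 n46574
theorem D99665 : act 2 n46574 = n99665 := rfl
theorem F153484 : act 7 n46575 = n99665 := d15_2 (iv0 D46574) D46575 (iv2 D99665)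
def n99666 : Q := act 3 n46574
theorem D99666 : act 3 n46574 = n99666 := rfl
def n99667 : Q := act 4 n46574
theorem D99667 : act 4 n46574 = n99667 := rfl
def n99668 : Q := act 5 n46574
theorem D99668 : act 5 n46574 = n99668 := rfl
def n99669 : Q := act 6 n46574
theorem D99669 : act 6 n46574 = n99669 := rfl
def n99670 : Q := act 7 n46574
theorem D99670 : act 7 n46574 = n99670 := rfl
theorem F153485 : act 2 n99670 = n46575 := d4_1 D99670 F153484 (iv2 D99665)
def n99671 : Q := act 3 n46575
theorem D99671 : act 3 n46575 = n99671 := rfl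
def n99672 : Q := act 4 n46575
theorem D99672 : act 4 n46575 = n99672 := rfl
def n99673 : Q := act 5 n46575
theorem D99673 : act 5 n46575 = n99673 := rfl
theorem F153486 : act 6 n99673 = n86900 := d21_3 (iv5 F153333) (iv1 F153335) D99673 (iv1 F135749) F135746 (iv5 F136208) (iv1 F153398) (iv5 D99649) (iv6 D46568) (iv1 F73547)
def n99674 : Q := act 6 n46575
theorem D99674 : act 6 n46575 = n99674 := rfl
def n99675 : Q := act 0 n46576
theorem D99675 : act 0 n46576 = n99675 := rfl
def n99676 : Q := act 1 n46576
theorem D99676 : act 1 n46576 = n99676 := rfl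
def n99677 : Q := act 3 n46576
theorem D99677 : act 3 n46576 = n99677 := rfl
theorem F153487 : act 4 n99677 = n46615 := d5_2 D46576 D99677 (iv3 D46615) (iv4 D22332) (iv3 F34813)
def n99678 : Q := act 5 n46576
theorem D99678 : act 5 n46576 = n99678 := rfl
def n99679 : Q := act 7 n46576
theorem D99679 : act 7 n46576 = n99679 := rfl
theorem F153488 : act 4 n99679 = n46577 := d11_1 D99679 (iv7 D46577) D46576
def n99680 : Q := act 6 n46577
theorem D99680 : act 6 n46577 = n99680 := rfl
theorem F153489 : act 3 n99680 = n46616 := d7_1 D99680 (iv6 D46616) (iv3 F73564)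
def n99683 : Q := act 3 n46578
theorem D99683 : act 3 n46578 = n99683 := rfl
theorem F153492 : act 7 n99683 = n46584 := d8_2 F73566 D99683 (iv3 D46584)
def n99684 : Q := act 4 n46578
theorem D99684 : act 4 n46578 = n99684 := rfl
theorem F153493 : act 2 n99684 = n46580 := d1_1 D99684 (iv4 D46580) D46578
theorem F153494 : act 7 n99684 = n46585 := d11_2 F73566 D99684 (iv4 D46585)
def n99685 : Q := act 5 n46578
theorem D99685 : act 5 n46578 = n99685 := rfl
theorem F153495 : act 2 n99685 = n46581 := d2_1 D99685 (iv5 D46581) D46578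
theorem F153496 : act 7 n99685 = n46586 := d13_2 F73566 D99685 (iv5 D46586)
def n99686 : Q := act 6 n46578
theorem D99686 : act 6 n46578 = n99686 := rfl
theorem F153497 : act 2 n99686 = n46582 := d3_1 D99686 (iv6 D46582) D46578
def n99687 : Q := act 0 n46579
theorem D99687 : act 0 n46579 = n99687 := rfl
def n99688 : Q := act 1 n46579
theorem D99688 : act 1 n46579 = n99688 := rfl
def n99689 : Q := act 2 n46579
theorem D99689 : act 2 n46579 = n99689 := rfl
def n99690 : Q := act 4 n46579
theorem D99690 : act 4 n46579 = n99690 := rfl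
def n99691 : Q := act 5 n46579
theorem D99691 : act 5 n46579 = n99691 := rfl
theorem F153498 : act 3 n99691 = n46581 := d6_1 D99691 (iv5 D46581) D46579
def n99692 : Q := act 6 n46579
theorem D99692 : act 6 n46579 = n99692 := rfl
theorem F153499 : act 3 n99692 = n46582 := d7_1 D99692 (iv6 D46582) D46579
def n99693 : Q := act 7 n46579
theorem D99693 : act 7 n46579 = n99693 := rfl
def n99694 : Q := act 0 n46580
theorem D99694 : act 0 n46580 = n99694 := rfl
def n99695 : Q := act 1 n46580
theorem D99695 : act 1 n46580 = n99695 := rfl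
def n99697 : Q := act 5 n46580
theorem D99697 : act 5 n46580 = n99697 := rfl
def n99698 : Q := act 6 n46580
theorem D99698 : act 6 n46580 = n99698 := rfl
theorem F153502 : act 4 n99698 = n46582 := d10_1 D99698 (iv6 D46582) D46580
def n99699 : Q := act 7 n46580
theorem D99699 : act 7 n46580 = n99699 := rfl
theorem F153503 : act 2 n99699 = n46585 := d4_1 D99699 (iv7 F153494) F153493
theorem F153505 : act 1 n46585 = n99694 := d15_0 (iv0 D99694) D99699 F153503
def n99700 : Q := act 0 n46581
theorem D99700 : act 0 n46581 = n99700 := rfl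
theorem F153506 : act 5 n99700 = n99501 := d21_2 D46581 D99700 (iv6 D99501) (iv1 D46513) (iv6 D22294) (iv5 D10621) (iv1 D4860) D4862 D10628 D22319
def n99701 : Q := act 1 n46581
theorem D99701 : act 1 n46581 = n99701 := rfl
theorem F153507 : act 1 n99701 = n46586 := d15_1 D99701 (iv7 F153496) F153495
def n99702 : Q := act 4 n46581
theorem D99702 : act 4 n46581 = n99702 := rfl
def n99703 : Q := act 6 n46581
theorem D99703 : act 6 n46581 = n99703 := rfl
def n99704 : Q := act 7 n46581
theorem D99704 : act 7 n46581 = n99704 := rfl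
theorem F153508 : act 2 n99704 = n46586 := d4_1 D99704 (iv7 F153496) F153495
theorem F153510 : act 1 n46586 = n99700 := d15_0 (iv0 D99700) D99704 F153508
def n99705 : Q := act 0 n46582
theorem D99705 : act 0 n46582 = n99705 := rfl
def n99706 : Q := act 1 n46582
theorem D99706 : act 1 n46582 = n99706 := rfl
def n99707 : Q := act 7 n46582
theorem D99707 : act 7 n46582 = n99707 := rfl
def n99709 : Q := act 0 n46584
theorem D99709 : act 0 n46584 = n99709 := rfl
def n99710 : Q := act 1 n46584
theorem D99710 : act 1 n46584 = n99710 := rfl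
def n99711 : Q := act 2 n46584
theorem D99711 : act 2 n46584 = n99711 := rfl
def n99712 : Q := act 4 n46584
theorem D99712 : act 4 n46584 = n99712 := rfl
def n99713 : Q := act 5 n46584
theorem D99713 : act 5 n46584 = n99713 := rfl
theorem F153512 : act 3 n99713 = n46586 := d6_1 D99713 (iv5 D46586) D46584
def n99714 : Q := act 6 n46584
theorem D99714 : act 6 n46584 = n99714 := rfl
theorem F153513 : act 3 n99714 = n46587 := d7_1 D99714 (iv6 D46587) D46584
def n99715 : Q := act 3 n46585
theorem D99715 : act 3 n46585 = n99715 := rfl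
def n99716 : Q := act 5 n46585
theorem D99716 : act 5 n46585 = n99716 := rfl
def n99717 : Q := act 6 n46585
theorem D99717 : act 6 n46585 = n99717 := rfl
theorem F153514 : act 4 n99717 = n46587 := d10_1 D99717 (iv6 D46587) D46585
def n99718 : Q := act 4 n46586
theorem D99718 : act 4 n46586 = n99718 := rfl
def n99719 : Q := act 6 n46586
theorem D99719 : act 6 n46586 = n99719 := rfl
theorem F153515 : act 0 n47386 = n99719 := d21_4 (iv5 F72997) (iv1 F73000) F64793 D47386 (iv6 D99719) (iv5 D46586) (iv1 D22320) D22321 F34818 D22330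
def n99720 : Q := act 0 n46587
theorem D99720 : act 0 n46587 = n99720 := rfl
theorem F153516 : act 5 n99720 = n47046 := d21_0 (iv1 F153184) F153180 F73448 (iv1 F73491) D99501 (iv5 F153506) (iv1 F153510) (iv5 D46586) D46587 D99720
def n99721 : Q := act 1 n46587
theorem D99721 : act 1 n46587 = n99721 := rfl
def n99722 : Q := act 5 n46587
theorem D99722 : act 5 n46587 = n99722 := rfl
theorem F153517 : act 0 n99440 = n99722 := d21_1 D99440 (iv5 D99722) (iv6 D46587) (iv1 D22320) (iv6 D10628) (iv5 D4862) D4859 D10618 D22284 D46492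
def n99723 : Q := act 7 n46587
theorem D99723 : act 7 n46587 = n99723 := rfl
def n99724 : Q := act 2 n46588
theorem D99724 : act 2 n46588 = n99724 := rfl
theorem F153518 : act 7 n46589 = n99724 := d15_2 (iv0 D46588) D46589 (iv2 D99724)
theorem F153519 : act 5 n99724 = n89305 := d13_1 F153518 (iv7 D89305) F73569
def n99725 : Q := act 3 n46588
theorem D99725 : act 3 n46588 = n99725 := rfl
def n99726 : Q := act 4 n46588
theorem D99726 : act 4 n46588 = n99726 := rfl
def n99727 : Q := act 5 n46588
theorem D99727 : act 5 n46588 = n99727 := rfl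
theorem F153520 : act 2 n99727 = n89305 := d2_1 D99727 (iv5 F153519) (iv2 D99724)
theorem F153521 : act 7 n89284 = n99727 := d4_0 F153520 (iv7 D89305) (iv2 F136997)
theorem F153522 : act 1 n99727 = n89303 := d15_0 (iv0 D89303) D89305 (iv2 F153520)
theorem F153523 : act 6 n99727 = n89321 := d14_1 F153521 (iv7 D89321) (iv6 D41719) F64354 D89284
theorem F153524 : act 1 n89304 = n99727 := d15_1 D89304 (iv7 F153521) F136997
theorem F153525 : act 0 n89321 = n99441 := d21_4 D22321 D46588 D99727 F153523 (iv6 D99441) D99440 F153517 (iv5 D99722) (iv6 D46587) (iv1 D22320)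
theorem F153526 : act 1 n89306 = n99441 := d15_0 (iv0 F153525) (iv7 D89321) (iv2 F137011)
def n99728 : Q := act 6 n46588
theorem D99728 : act 6 n46588 = n99728 := rfl
theorem F153527 : act 5 n99728 = n97801 := d21_6 (iv5 D22328) (iv1 D10630) D10631 (iv6 F34818) D46588 D99728 (iv1 D97801) D97802 F150770 F71994
def n99729 : Q := act 7 n46588
theorem D99729 : act 7 n46588 = n99729 := rfl
theorem F153528 : act 2 n99729 = n46589 := d4_1 D99729 F153518 (iv2 D99724)
theorem F153529 : act 5 n99729 = n89284 := d13_1 D99729 F153521 (iv5 D99727)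
def n99730 : Q := act 3 n46589
theorem D99730 : act 3 n46589 = n99730 := rfl
theorem F153530 : act 5 n99730 = n89290 := d6_2 F73569 D99730 F136999
def n99731 : Q := act 4 n46589
theorem D99731 : act 4 n46589 = n99731 := rfl
def n99732 : Q := act 6 n46589
theorem D99732 : act 6 n46589 = n99732 := rfl
theorem F153531 : act 5 n99732 = n89301 := d12_1 D99732 (iv6 D89301) (iv5 D41713) D41714 F73569
def n99733 : Q := act 0 n46590
theorem D99733 : act 0 n46590 = n99733 := rfl
def n99734 : Q := act 1 n46590
theorem D99734 : act 1 n46590 = n99734 := rfl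
theorem F153532 : act 1 n99734 = n47342 := d15_1 D99734 (iv7 D47342) (iv2 F73570)
def n99735 : Q := act 3 n46590
theorem D99735 : act 3 n46590 = n99735 := rfl
theorem F153533 : act 6 n99735 = n46615 := d7_2 (iv6 F73571) D99735 (iv3 D46615)
def n99736 : Q := act 5 n46590
theorem D99736 : act 5 n46590 = n99736 := rfl
theorem F153534 : act 2 n99736 = n47341 := d2_1 D99736 (iv5 D47341) (iv2 F73570)
def n99737 : Q := act 7 n46590
theorem D99737 : act 7 n46590 = n99737 := rfl
theorem F153535 : act 2 n99737 = n47342 := d4_1 D99737 (iv7 D47342) (iv2 F73570)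
theorem F153536 : act 4 n99737 = n46591 := d11_1 D99737 (iv7 D46591) D46590
theorem F153537 : act 1 n47342 = n99733 := d15_0 (iv0 D99733) D99737 F153535
theorem F153538 : act 1 n47339 = n99737 := d15_1 D47339 (iv7 D99737) F73570
theorem F153539 : act 1 n99737 = n47338 := d15_0 (iv0 D47338) D47342 (iv2 F153535)
def n99738 : Q := act 6 n46591
theorem D99738 : act 6 n46591 = n99738 := rfl
theorem F153540 : act 2 n99738 = n47343 := d3_1 D99738 (iv6 D47343) (iv2 F73572)
theorem F153541 : act 7 n99738 = n46616 := d14_2 D46591 D99738 (iv6 D46616) (iv7 D22333) (iv6 F34818)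
theorem F153542 : act 1 n47468 = n99738 := d15_1 D47468 F153541 F73619
theorem F153543 : act 1 n99738 = n47467 := d15_0 (iv0 D47467) (iv7 F74552) (iv2 F153540)
def n99739 : Q := act 2 n46592
theorem D99739 : act 2 n46592 = n99739 := rfl
theorem F153544 : act 7 n46593 = n99739 := d15_2 (iv0 D46592) D46593 (iv2 D99739)
def n99740 : Q := act 5 n46592
theorem D99740 : act 5 n46592 = n99740 := rfl
def n99741 : Q := act 6 n46592
theorem D99741 : act 6 n46592 = n99741 := rfl
def n99742 : Q := act 7 n46592
theorem D99742 : act 7 n46592 = n99742 := rfl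
def n99743 : Q := act 3 n46593
theorem D99743 : act 3 n46593 = n99743 := rfl
theorem F153546 : act 0 n47146 = n99743 := d20_4 F66739 (iv1 F68870) (iv4 F68872) D47146 (iv3 D99743) F150996 (iv1 D97969) F72133 (iv3 D23390) D23388
theorem F153547 : act 1 n47185 = n99743 := d15_0 (iv0 F153546) F74406 D47185
def n99744 : Q := act 5 n46593
theorem D99744 : act 5 n46593 = n99744 := rfl
def n99745 : Q := act 6 n46593
theorem D99745 : act 6 n46593 = n99745 := rfl
def n99746 : Q := act 5 n46594
theorem D99746 : act 5 n46594 = n99746 := rfl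
theorem F153549 : act 3 n99746 = n47368 := d6_1 D99746 (iv5 D47368) (iv3 F73578)
theorem F153550 : act 7 n99746 = n47407 := d13_2 (iv7 F73580) D99746 (iv5 D47407)
def n99747 : Q := act 6 n46594
theorem D99747 : act 6 n46594 = n99747 := rfl
theorem F153553 : act 2 n99747 = n46596 := d3_1 D99747 (iv6 D46596) D46594
theorem F153554 : act 3 n99747 = n47369 := d7_1 D99747 (iv6 D47369) (iv3 F73578)
theorem F153555 : act 4 n99747 = n88304 := d10_1 D99747 (iv6 D88304) (iv4 F73579)
theorem F153556 : act 5 n89435 = n99747 := d2_0 F153553 (iv5 F73588) D89435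
def n99751 : Q := act 6 n46595
theorem D99751 : act 6 n46595 = n99751 := rfl
theorem F153561 : act 5 n99751 = n89437 := d12_1 D99751 (iv6 D89437) F73588 (iv6 D46596) D46595
def n99752 : Q := act 0 n46596
theorem D99752 : act 0 n46596 = n99752 := rfl
def n99753 : Q := act 1 n46596
theorem D99753 : act 1 n46596 = n99753 := rfl
def n99754 : Q := act 3 n46597
theorem D99754 : act 3 n46597 = n99754 := rfl
theorem F153562 : act 5 n99754 = n89540 := d6_2 F73592 D99754 (iv3 D89540)
theorem F153563 : act 7 n99754 = n47382 := d8_2 (iv7 F73590) D99754 (iv3 D47382)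
def n99755 : Q := act 4 n46597
theorem D99755 : act 4 n46597 = n99755 := rfl
theorem F153564 : act 2 n99755 = n47385 := d1_1 D99755 (iv4 D47385) F73591
theorem F153565 : act 5 n99755 = n89378 := d9_2 F73592 D99755 (iv4 D89378) (iv5 F64377) F35333 F62656 (iv4 F34283) D45656 D97804 F150775 (iv4 D89376) F64374 F35110 (iv5 F31433) D41809
theorem F153566 : act 7 n99755 = n47383 := d11_2 (iv7 F73590) D99755 (iv4 D47383)
theorem F153567 : act 0 n99755 = n46626 := d17_0 (iv5 F74753) F74754 F63942 F35346 F17291 F17175 D22324 D46597 D99755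
theorem F153568 : act 1 n99755 = n46634 := d18_6 (iv1 F64097) (iv4 D19675) D19673 D41809 F73592 D99755 (iv4 D46634) F73650 F73649
def n99756 : Q := act 6 n46597
theorem D99756 : act 6 n46597 = n99756 := rfl
theorem F153569 : act 2 n99756 = n47386 := d3_1 D99756 (iv6 D47386) F73591
theorem F153570 : act 5 n99756 = n47051 := d12_1 D99756 (iv6 D47051) (iv5 F73928) F73926 F73592
theorem F153571 : act 0 n99756 = n47323 := d21_4 D22787 (iv1 F64468) F73592 D99756 (iv6 D47323) (iv5 D22742) (iv1 D10754) D10755 F17286 D10768
def n99757 : Q := act 3 n46598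
theorem D99757 : act 3 n46598 = n99757 := rfl
def n99758 : Q := act 6 n46598
theorem D99758 : act 6 n46598 = n99758 := rfl
theorem F153573 : act 2 n99758 = n47390 := d3_1 D99758 (iv6 D47390) (iv2 F73593)
theorem F153574 : act 4 n99758 = n46599 := d10_1 D99758 (iv6 D46599) D46598
def n99759 : Q := act 0 n46599
theorem D99759 : act 0 n46599 = n99759 := rfl
def n99760 : Q := act 1 n46599
theorem D99760 : act 1 n46599 = n99760 := rfl
theorem F153575 : act 1 n99760 = n47394 := d15_1 D99760 (iv7 D47394) (iv2 F73595)
def n99761 : Q := act 7 n46599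
theorem D99761 : act 7 n46599 = n99761 := rfl
theorem F153576 : act 2 n99761 = n47394 := d4_1 D99761 (iv7 D47394) (iv2 F73595)
theorem F153577 : act 5 n99761 = n89442 := d13_1 D99761 (iv7 D89442) (iv5 F73596)
theorem F153579 : act 1 n47394 = n99759 := d15_0 (iv0 D99759) D99761 F153576
theorem F153580 : act 1 n47392 = n99761 := d15_1 D47392 (iv7 D99761) F73595
theorem F153581 : act 1 n99761 = n47391 := d15_0 (iv0 D47391) D47394 (iv2 F153576)
def n99762 : Q := act 2 n46600
theorem D99762 : act 2 n46600 = n99762 := rfl
theorem F153582 : act 7 n46601 = n99762 := d15_2 (iv0 D46600) D46601 (iv2 D99762)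
def n99763 : Q := act 3 n46600
theorem D99763 : act 3 n46600 = n99763 := rfl
theorem F153583 : act 4 n99763 = n47500 := d20_6 (iv4 F34854) (iv1 F34835) (iv4 D22327) D22326 D46600 D99763 (iv1 D47500) F35394 (iv3 D10791) D10789
theorem F153584 : act 0 n99763 = n47144 := d20_1 (iv4 F153583) F74400 (iv3 D22910) (iv1 F66540) (iv3 F73770) F73771 (iv1 F142913) F142911 F134608 (iv1 F74679)
theorem F153585 : act 3 n97976 = n47500 := d20_5 F34936 (iv1 F58680) (iv4 F66611) D45731 D97976 (iv4 F153583) F153584 F74400 (iv3 D22910) (iv1 F66540)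
theorem F153586 : act 0 n47196 = n99763 := d20_7 F74649 (iv1 F76174) (iv4 F135202) (iv3 F151051) (iv1 F151054) (iv3 F151101) F151102 F153583 (iv3 F153585) (iv1 F151017)
theorem F153587 : act 0 n48235 = n88295 := d20_7 F151102 F153586 F153583 (iv3 F153585) (iv1 F151017) (iv3 F150998) F150999 (iv4 D88295) F74870 (iv1 F151104)
def n99764 : Q := act 4 n46600
theorem D99764 : act 4 n46600 = n99764 := rfl
def n99765 : Q := act 5 n46600
theorem D99765 : act 5 n46600 = n99765 := rfl
def n99766 : Q := act 6 n46600
theorem D99766 : act 6 n46600 = n99766 := rfl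
def n99767 : Q := act 7 n46600
theorem D99767 : act 7 n46600 = n99767 := rfl
theorem F153588 : act 2 n99767 = n46601 := d4_1 D99767 F153582 (iv2 D99762)
def n99768 : Q := act 3 n46601
theorem D99768 : act 3 n46601 = n99768 := rfl
theorem F153589 : act 4 n95346 = n99768 := d20_2 F73785 D95346 (iv3 D99768) (iv1 D46601) (iv3 D22326) D22327 (iv1 F35587) F30770 (iv3 F34945) D46682
def n99769 : Q := act 4 n46601
theorem D99769 : act 4 n46601 = n99769 := rfl
theorem F153590 : act 3 n99769 = n48374 := d20_3 F70758 (iv1 F73601) D99769 (iv1 F76038) (iv3 D45012) (iv4 D21497) (iv1 D10258) (iv4 F16223) (iv3 F33783) D44995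
def n99770 : Q := act 5 n46601
theorem D99770 : act 5 n46601 = n99770 := rfl
def n99771 : Q := act 6 n46601
theorem D99771 : act 6 n46601 = n99771 := rfl
def n99772 : Q := act 5 n46602
theorem D99772 : act 5 n46602 = n99772 := rfl
theorem F153591 : act 2 n99772 = n46603 := d2_1 D99772 (iv5 D46603) D46602
theorem F153592 : act 3 n99772 = n47407 := d6_1 D99772 (iv5 D47407) (iv3 F73598)
theorem F153593 : act 7 n99772 = n47368 := d13_2 (iv7 F73599) D99772 (iv5 D47368)
def n99773 : Q := act 6 n46602
theorem D99773 : act 6 n46602 = n99773 := rfl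
theorem F153596 : act 2 n99773 = n46604 := d3_1 D99773 (iv6 D46604) D46602
theorem F153597 : act 3 n99773 = n47408 := d7_1 D99773 (iv6 D47408) (iv3 F73598)
def n99774 : Q := act 0 n46603
theorem D99774 : act 0 n46603 = n99774 := rfl
theorem F153598 : act 1 n47368 = n99774 := d15_0 (iv0 D99774) F73604 (iv2 F74561)
def n99775 : Q := act 1 n46603
theorem D99775 : act 1 n46603 = n99775 := rfl
theorem F153599 : act 1 n99775 = n47368 := d15_1 D99775 (iv7 F153593) F153591
def n99776 : Q := act 4 n46603
theorem D99776 : act 4 n46603 = n99776 := rfl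
def n99777 : Q := act 6 n46603
theorem D99777 : act 6 n46603 = n99777 := rfl
def n99778 : Q := act 0 n46604
theorem D99778 : act 0 n46604 = n99778 := rfl
def n99779 : Q := act 1 n46604
theorem D99779 : act 1 n46604 = n99779 := rfl
def n99780 : Q := act 3 n46605
theorem D99780 : act 3 n46605 = n99780 := rfl
theorem F153602 : act 7 n99780 = n47389 := d8_2 (iv7 F73607) D99780 (iv3 D47389)
def n99781 : Q := act 6 n46605
theorem D99781 : act 6 n46605 = n99781 := rfl
def n99783 : Q := act 1 n46606
theorem D99783 : act 1 n46606 = n99783 := rfl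
def n99784 : Q := act 7 n46606
theorem D99784 : act 7 n46606 = n99784 := rfl
theorem F153607 : act 6 n99784 = n47394 := d14_1 D99784 (iv7 D47394) (iv6 D22766) (iv7 F34838) D46606
theorem F153609 : act 1 n47424 = n99784 := d15_1 D47424 (iv7 D99784) F73608
def n99785 : Q := act 0 n46607
theorem D99785 : act 0 n46607 = n99785 := rfl
theorem F153611 : act 1 n47444 = n99785 := d15_0 (iv0 D99785) F73609 D47444
def n99786 : Q := act 1 n46607
theorem D99786 : act 1 n46607 = n99786 := rfl
def n99787 : Q := act 2 n46607
theorem D99787 : act 2 n46607 = n99787 := rfl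
theorem F153612 : act 3 n99787 = n47430 := d0_2 D46607 D99787 (iv2 D47430) (iv3 D22785) (iv2 F64425)
theorem F153613 : act 7 n99787 = n47444 := d4_2 (iv7 F73609) D99787 (iv2 D47444)
theorem F153614 : act 1 n99787 = n47442 := d15_0 (iv0 D47442) (iv7 F73609) D99787
theorem F153615 : act 1 n99786 = n47444 := d15_1 D99786 (iv7 F153613) (iv2 D99787)
theorem F153616 : act 1 n47443 = n99787 := d15_1 D47443 F153613 (iv2 D47444)
def n99788 : Q := act 4 n46607
theorem D99788 : act 4 n46607 = n99788 := rfl
theorem F153617 : act 7 n99788 = n47445 := d11_2 (iv7 F73609) D99788 (iv4 D47445)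
def n99789 : Q := act 6 n46607
theorem D99789 : act 6 n46607 = n99789 := rfl
theorem F153618 : act 3 n99789 = n46609 := d7_1 D99789 (iv6 D46609) D46607
def n99790 : Q := act 3 n46608
theorem D99790 : act 3 n46608 = n99790 := rfl
theorem F153619 : act 7 n99790 = n47448 := d8_2 (iv7 F73611) D99790 (iv3 D47448)
def n99791 : Q := act 6 n46608
theorem D99791 : act 6 n46608 = n99791 := rfl
theorem F153620 : act 2 n99791 = n47437 := d3_1 D99791 (iv6 D47437) (iv2 F73610)
theorem F153621 : act 4 n99791 = n46609 := d10_1 D99791 (iv6 D46609) D46608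
def n99792 : Q := act 0 n46609
theorem D99792 : act 0 n46609 = n99792 := rfl
def n99793 : Q := act 1 n46609
theorem D99793 : act 1 n46609 = n99793 := rfl
theorem F153622 : act 1 n99793 = n47441 := d15_1 D99793 (iv7 D47441) (iv2 F73612)
def n99794 : Q := act 5 n46609
theorem D99794 : act 5 n46609 = n99794 := rfl
theorem F153623 : act 2 n99794 = n47440 := d2_1 D99794 (iv5 D47440) (iv2 F73612)
theorem F153624 : act 6 n99794 = n46926 := d12_2 D46609 D99794 F74136 (iv6 F73002) F72997
def n99795 : Q := act 7 n46609
theorem D99795 : act 7 n46609 = n99795 := rfl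
theorem F153625 : act 2 n99795 = n47441 := d4_1 D99795 (iv7 D47441) (iv2 F73612)
theorem F153627 : act 1 n47441 = n99792 := d15_0 (iv0 D99792) D99795 F153625
theorem F153628 : act 1 n47439 = n99795 := d15_1 D47439 (iv7 D99795) F73612
theorem F153629 : act 1 n99795 = n47438 := d15_0 (iv0 D47438) D47441 (iv2 F153625)
def n99796 : Q := act 0 n46610
theorem D99796 : act 0 n46610 = n99796 := rfl
theorem F153630 : act 1 n47430 = n99796 := d15_0 (iv0 D99796) F73613 D47430
def n99797 : Q := act 1 n46610
theorem D99797 : act 1 n46610 = n99797 := rfl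
def n99798 : Q := act 2 n46610
theorem D99798 : act 2 n46610 = n99798 := rfl
theorem F153631 : act 3 n99798 = n47444 := d0_2 D46610 D99798 (iv2 D47444) (iv3 D22790) (iv2 F64422)
theorem F153632 : act 7 n99798 = n47430 := d4_2 (iv7 F73613) D99798 (iv2 D47430)
theorem F153633 : act 1 n99798 = n47428 := d15_0 (iv0 D47428) (iv7 F73613) D99798
theorem F153634 : act 1 n99797 = n47430 := d15_1 D99797 (iv7 F153632) (iv2 D99798)
def n99799 : Q := act 4 n46610
theorem D99799 : act 4 n46610 = n99799 := rfl
theorem F153636 : act 7 n99799 = n47431 := d11_2 (iv7 F73613) D99799 (iv4 D47431)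
def n99800 : Q := act 6 n46610
theorem D99800 : act 6 n46610 = n99800 := rfl
theorem F153637 : act 3 n99800 = n46612 := d7_1 D99800 (iv6 D46612) D46610
def n99801 : Q := act 3 n46611
theorem D99801 : act 3 n46611 = n99801 := rfl
theorem F153638 : act 7 n99801 = n47436 := d8_2 (iv7 F73615) D99801 (iv3 D47436)
def n99802 : Q := act 6 n46611
theorem D99802 : act 6 n46611 = n99802 := rfl
theorem F153639 : act 2 n99802 = n47449 := d3_1 D99802 (iv6 D47449) (iv2 F73614)
theorem F153640 : act 4 n99802 = n46612 := d10_1 D99802 (iv6 D46612) D46611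
def n99803 : Q := act 0 n46612
theorem D99803 : act 0 n46612 = n99803 := rfl
def n99804 : Q := act 1 n46612
theorem D99804 : act 1 n46612 = n99804 := rfl
theorem F153641 : act 1 n99804 = n47453 := d15_1 D99804 (iv7 D47453) (iv2 F73616)
def n99805 : Q := act 7 n46612
theorem D99805 : act 7 n46612 = n99805 := rfl
theorem F153642 : act 2 n99805 = n47453 := d4_1 D99805 (iv7 D47453) (iv2 F73616)
theorem F153643 : act 6 n99805 = n47441 := d14_1 D99805 (iv7 D47441) (iv6 D22788) (iv7 F64423) D46612
theorem F153644 : act 1 n47453 = n99803 := d15_0 (iv0 D99803) D99805 F153642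
theorem F153645 : act 1 n47451 = n99805 := d15_1 D47451 (iv7 D99805) F73616
theorem F153646 : act 1 n99805 = n47450 := d15_0 (iv0 D47450) D47453 (iv2 F153642)
def n99806 : Q := act 3 n46613
theorem D99806 : act 3 n46613 = n99806 := rfl
theorem F153647 : act 7 n99806 = n47458 := d8_2 (iv7 F136321) D99806 (iv3 D47458)
def n99807 : Q := act 6 n46613
theorem D99807 : act 6 n46613 = n99807 := rfl
theorem F153648 : act 2 n99807 = n47456 := d3_1 D99807 (iv6 D47456) (iv2 F136320)
def n99808 : Q := act 3 n46614
theorem D99808 : act 3 n46614 = n99808 := rfl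
theorem F153649 : act 7 n99808 = n47455 := d8_2 (iv7 F136319) D99808 (iv3 D47455)
def n99809 : Q := act 6 n46614
theorem D99809 : act 6 n46614 = n99809 := rfl
theorem F153650 : act 2 n99809 = n47459 := d3_1 D99809 (iv6 D47459) (iv2 F136318)
def n99810 : Q := act 0 n46615
theorem D99810 : act 0 n46615 = n99810 := rfl
def n99811 : Q := act 1 n46615
theorem D99811 : act 1 n46615 = n99811 := rfl
def n99812 : Q := act 2 n46615
theorem D99812 : act 2 n46615 = n99812 := rfl
theorem F153651 : act 3 n99812 = n47462 := d0_2 D46615 D99812 (iv2 D47462) (iv3 D22796) (iv2 F34841)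
def n99813 : Q := act 0 n46616
theorem D99813 : act 0 n46616 = n99813 := rfl
theorem F153652 : act 1 n47343 = n99813 := d15_0 (iv0 D99813) (iv7 F153541) F153540
def n99814 : Q := act 1 n46616
theorem D99814 : act 1 n46616 = n99814 := rfl
theorem F153653 : act 1 n99814 = n47343 := d15_1 D99814 F74552 (iv2 F73619)
def n99815 : Q := act 3 n46618
theorem D99815 : act 3 n46618 = n99815 := rfl
theorem F153654 : act 4 n99815 = n46628 := d5_2 D46618 D99815 (iv3 D46628) (iv4 D22343) (iv3 F34861)
theorem F153655 : act 5 n99815 = n92460 := d6_2 (iv5 F73630) D99815 (iv3 D92460)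
theorem F153656 : act 6 n99815 = n94032 := d7_2 (iv6 F73628) D99815 (iv3 D94032)
theorem F153657 : act 7 n99815 = n47579 := d8_2 (iv7 F73629) D99815 (iv3 D47579)
def n99816 : Q := act 1 n46619
theorem D99816 : act 1 n46619 = n99816 := rfl
theorem F153658 : act 7 n99816 = n46683 := d15_2 (iv0 F73636) D99816 F148357
theorem F153659 : act 3 n48235 = n99816 := d20_3 D47398 (iv1 F151001) F150999 (iv1 D99816) (iv3 D46619) F35952 (iv1 F35307) (iv4 D10765) D10764 D22771
theorem F153660 : act 4 n95348 = n99816 := d20_6 (iv4 D11063) F63123 (iv4 F15976) (iv3 F33450) D44597 (iv3 F146974) (iv1 D99816) F73633 (iv3 D23522) (iv1 F17928)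
theorem F153661 : act 2 n99816 = n46682 := d1_1 F153660 F73785 D95348
theorem F153662 : act 0 n46681 = n99816 := d20_1 F75421 (iv4 F153660) F146974 (iv1 F76174) F76172 (iv4 F135560) (iv1 F135567) (iv4 F151058) F151057 (iv1 F76047)
def n99817 : Q := act 2 n46619
theorem D99817 : act 2 n46619 = n99817 := rfl
theorem F153663 : act 3 n99817 = n47514 := d0_2 D46619 D99817 (iv2 D47514) (iv3 D22831) (iv2 F35951)
theorem F153664 : act 4 n99817 = n48383 := d1_2 (iv4 F73633) D99817 (iv2 D48383)
theorem F153665 : act 6 n99817 = n87718 := d3_2 (iv6 F73634) D99817 (iv2 F134632)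
theorem F153666 : act 7 n99817 = n46681 := d4_2 (iv7 F73635) D99817 F73782
theorem F153667 : act 1 n99817 = n46682 := d15_0 (iv0 D46682) (iv7 F73635) D99817
theorem F153668 : act 1 n46683 = n99817 := d15_0 F153667 (iv7 F73786) (iv2 F148357)
def n99818 : Q := act 5 n46619
theorem D99818 : act 5 n46619 = n99818 := rfl
theorem F153669 : act 3 n99818 = n46620 := d6_1 D99818 (iv5 D46620) D46619
theorem F153670 : act 7 n99818 = n46684 := d13_2 (iv7 F73635) D99818 (iv5 D46684)
def n99819 : Q := act 6 n46620
theorem D99819 : act 6 n46620 = n99819 := rfl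
theorem F153671 : act 2 n99819 = n47517 := d3_1 D99819 (iv6 D47517) (iv2 F73637)
def n99820 : Q := act 3 n46621
theorem D99820 : act 3 n46621 = n99820 := rfl
theorem F153672 : act 2 n99820 = n48232 := d0_1 D99820 (iv3 D48232) F74837 (iv3 D47581) F73639
theorem F153673 : act 4 n99820 = n96276 := d5_2 F139321 D99820 (iv3 F148084) F146952 F143145
theorem F153674 : act 6 n99820 = n88290 := d7_2 (iv6 F151056) D99820 (iv3 F151051)
theorem F153675 : act 7 n99820 = n46849 := d8_2 (iv7 F73641) D99820 F74039
theorem F153676 : act 0 n87742 = n99820 := d20_4 F17169 D22315 D46566 (iv3 F134707) (iv3 D99820) (iv4 F139321) (iv1 F139324) (iv4 F73563) (iv3 D46570) (iv1 D22316)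
theorem F153677 : act 1 n87743 = n99820 := d15_1 D87743 F153675 F74038
def n99821 : Q := act 5 n46621
theorem D99821 : act 5 n46621 = n99821 := rfl
theorem F153678 : act 2 n99821 = n47582 := d2_1 D99821 (iv5 D47582) F73639
theorem F153679 : act 7 n99821 = n46850 := d13_2 (iv7 F73641) D99821 (iv5 D46850)
def n99822 : Q := act 5 n46622
theorem D99822 : act 5 n46622 = n99822 := rfl
theorem F153680 : act 2 n99822 = n46623 := d2_1 D99822 (iv5 D46623) D46622
theorem F153681 : act 3 n99822 = n47528 := d6_1 D99822 (iv5 D47528) (iv3 F73643)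
theorem F153682 : act 7 n99822 = n47583 := d13_2 (iv7 F73644) D99822 (iv5 D47583)
theorem F153683 : act 0 n99822 = n98916 := d21_1 D99822 (iv5 D98916) (iv6 D46287) (iv1 D22136) (iv6 D10553) D10552 D22131 F34602 D22505 (iv1 F73645)
theorem E14875 : n98916 = n47586 := ((c15_1 D47586 (iv0 F153683) F153682 F74840)).symm
theorem F153684 : act 1 n47586 = n99822 := (sb E14875 (iv0 F153683))
theorem F153685 : act 3 n47586 = n87418 := (sb E14875 F152464)
theorem F153686 : act 5 n47586 = n46287 := (sb E14875 (iv5 D98916))
theorem F153687 : act 1 n99822 = n47585 := d15_0 (iv0 D47585) (iv7 F73648) (iv2 F153680)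
def n99823 : Q := act 0 n46623
theorem D99823 : act 0 n46623 = n99823 := rfl
theorem F153688 : act 5 n99823 = n89584 := d21_2 D46623 D99823 F137343 (iv1 D46270) (iv6 D22130) (iv5 F29810) D39103 F60112 D42366 F68110
theorem F153689 : act 1 n47583 = n99823 := d15_0 (iv0 D99823) F73648 (iv2 F74840)
theorem F153690 : act 2 n47586 = n99823 := d2_3 F153688 (iv2 F137342) (iv5 F153686)
theorem F153691 : act 7 n47585 = n99823 := d15_2 F153684 F153687 (iv2 F153690)
def n99824 : Q := act 1 n46623
theorem D99824 : act 1 n46623 = n99824 := rfl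
theorem F153692 : act 1 n99824 = n47583 := d15_1 D99824 (iv7 F153682) F153680
theorem F153693 : act 7 n99824 = n47586 := d15_2 (iv0 D99823) D99824 F153690
theorem F153694 : act 2 n47585 = n99824 := d4_3 F153693 F153690 (iv7 F153691)
theorem F153695 : act 3 n48239 = n99824 := d8_3 F153693 F153685 (iv7 F134174)
theorem F153696 : act 5 n89585 = n99824 := d13_3 F153693 F153686 (iv7 F137341)
def n99825 : Q := act 4 n46623
theorem D99825 : act 4 n46623 = n99825 := rfl
theorem F153697 : act 7 n99825 = n47587 := d11_2 (iv7 F73648) D99825 (iv4 D47587)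
def n99826 : Q := act 6 n46623
theorem D99826 : act 6 n46623 = n99826 := rfl
theorem F153698 : act 3 n99826 = n46627 := d7_1 D99826 (iv6 D46627) (iv3 F73647)
def n99827 : Q := act 3 n46624
theorem D99827 : act 3 n46624 = n99827 := rfl
theorem F153699 : act 5 n99827 = n88972 := d6_2 (iv5 F73649) D99827 F136560
theorem F153700 : act 7 n99827 = n47540 := d8_2 F73652 D99827 (iv3 D47540)
def n99828 : Q := act 6 n46624
theorem D99828 : act 6 n46624 = n99828 := rfl
theorem F153701 : act 2 n99828 = n47539 := d3_1 D99828 (iv6 D47539) F73651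
theorem F153702 : act 5 n99828 = n88974 := d12_1 D99828 (iv6 D88974) (iv5 D41540) D41541 (iv5 F73649)
def n99829 : Q := act 3 n46625
theorem D99829 : act 3 n46625 = n99829 := rfl
theorem F153703 : act 5 n99829 = n89541 := d6_2 (iv5 F73655) D99829 (iv3 D89541)
theorem F153704 : act 7 n99829 = n47537 := d8_2 (iv7 F73654) D99829 (iv3 D47537)
def n99830 : Q := act 6 n46625
theorem D99830 : act 6 n46625 = n99830 := rfl
theorem F153705 : act 2 n99830 = n47543 := d3_1 D99830 (iv6 D47543) F73656
theorem F153706 : act 5 n99830 = n46763 := d12_1 D99830 (iv6 D46763) D46762 F73878 (iv5 F73655)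
def n99831 : Q := act 3 n46626
theorem D99831 : act 3 n46626 = n99831 := rfl
theorem F153707 : act 7 n99831 = n47593 := d8_2 (iv7 F73658) D99831 (iv3 D47593)
def n99832 : Q := act 6 n46626
theorem D99832 : act 6 n46626 = n99832 := rfl
theorem F153708 : act 2 n99832 = n47545 := d3_1 D99832 (iv6 D47545) (iv2 F73657)
theorem F153709 : act 4 n99832 = n46627 := d10_1 D99832 (iv6 D46627) D46626
def n99833 : Q := act 0 n46627
theorem D99833 : act 0 n46627 = n99833 := rfl
def n99834 : Q := act 1 n46627
theorem D99834 : act 1 n46627 = n99834 := rfl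
theorem F153710 : act 1 n99834 = n47549 := d15_1 D99834 (iv7 D47549) (iv2 F73659)
def n99835 : Q := act 7 n46627
theorem D99835 : act 7 n46627 = n99835 := rfl
theorem F153711 : act 2 n99835 = n47549 := d4_1 D99835 (iv7 D47549) (iv2 F73659)
theorem F153712 : act 6 n99835 = n47598 := d14_1 D99835 (iv7 D47598) (iv6 D22886) (iv7 F34869) D46627
theorem F153713 : act 1 n47549 = n99833 := d15_0 (iv0 D99833) D99835 F153711
theorem F153714 : act 1 n47547 = n99835 := d15_1 D47547 (iv7 D99835) F73659
theorem F153715 : act 1 n99835 = n47546 := d15_0 (iv0 D47546) D47549 (iv2 F153711)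
def n99836 : Q := act 0 n46628
theorem D99836 : act 0 n46628 = n99836 := rfl
theorem F153716 : act 2 n47603 = n99836 := d15_3 (iv0 D99836) (iv0 F74089) (iv7 F75838)
theorem F153717 : act 1 n47604 = n99836 := d15_0 (iv0 D99836) F73660 D47604
theorem F153718 : act 6 n98919 = n99836 := d21_3 D22137 D46288 D98919 (iv1 F153717) F74858 D99822 (iv1 F153684) F153686 (iv6 D46287) (iv1 D22136)
theorem F153719 : act 7 n99836 = n47602 := d14_2 (iv7 F152467) F153718 F75840 F74057 D46873
theorem F153720 : act 1 n46875 = n47604 := d15_0 F153717 F153719 (iv2 F75839)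
def n99837 : Q := act 2 n46628
theorem D99837 : act 2 n46628 = n99837 := rfl
theorem F153721 : act 3 n99837 = n47564 := d0_2 D46628 D99837 (iv2 D47564) (iv3 D22859) (iv2 F34870)
theorem F153722 : act 7 n99837 = n47604 := d4_2 (iv7 F73660) D99837 (iv2 D47604)
theorem F153723 : act 1 n99837 = n47602 := d15_0 (iv0 D47602) (iv7 F73660) D99837
theorem F153724 : act 1 n47603 = n99837 := d15_0 F153723 (iv7 F153719) (iv2 F153716)
def n99838 : Q := act 2 n46629
theorem D99838 : act 2 n46629 = n99838 := rfl
def n99839 : Q := act 5 n46629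
theorem D99839 : act 5 n46629 = n99839 := rfl
def n99840 : Q := act 6 n46629
theorem D99840 : act 6 n46629 = n99840 := rfl
def n99841 : Q := act 7 n46629
theorem D99841 : act 7 n46629 = n99841 := rfl
def n99842 : Q := act 3 n46630
theorem D99842 : act 3 n46630 = n99842 := rfl
theorem F153727 : act 4 n99842 = n99638 := d5_2 F74869 D99842 (iv3 F153391) (iv4 D88295) F74870
theorem F153728 : act 0 n99842 = n99582 := d20_10 (iv4 D99582) (iv1 D46543) F34809 F34808 D22684 D47144 F74400 D47612 F74869 D99842
theorem F153729 : act 0 n99581 = n47364 := d20_10 (iv4 F148349) (iv1 F148350) F153660 (iv3 F153659) F153587 F153391 (iv4 F153727) F153728 (iv4 D99582) D99581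
theorem F153730 : act 1 n99842 = n99577 := d15_1 (iv0 F153728) F153427 (iv2 F153416)
theorem F153731 : act 1 n99634 = n47364 := d15_0 (iv0 F153729) F153414 D99634
def n99843 : Q := act 5 n46630
theorem D99843 : act 5 n46630 = n99843 := rfl
def n99845 : Q := act 5 n46631
theorem D99845 : act 5 n46631 = n99845 := rfl
theorem F153732 : act 2 n99845 = n46632 := d2_1 D99845 (iv5 D46632) D46631
theorem F153733 : act 3 n99845 = n47583 := d6_1 D99845 (iv5 D47583) (iv3 F73662)
theorem F153734 : act 7 n99845 = n47528 := d13_2 (iv7 F73664) D99845 (iv5 D47528)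
theorem F153735 : act 1 n47531 = n99845 := d15_1 D47531 F153734 F74726
theorem F153736 : act 1 n99845 = n47530 := d15_0 (iv0 D47530) (iv7 F73669) (iv2 F153732)
def n99846 : Q := act 6 n46631
theorem D99846 : act 6 n46631 = n99846 := rfl
theorem F153737 : act 2 n99846 = n46633 := d3_1 D99846 (iv6 D46633) D46631
theorem F153738 : act 3 n99846 = n47584 := d7_1 D99846 (iv6 D47584) (iv3 F73662)
theorem F153739 : act 4 n99846 = n88229 := d10_1 D99846 (iv6 D88229) (iv4 F73663)
def n99847 : Q := act 0 n46632
theorem D99847 : act 0 n46632 = n99847 := rfl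
theorem F153740 : act 1 n47528 = n99847 := d15_0 (iv0 D99847) F73669 (iv2 F74726)
def n99848 : Q := act 1 n46632
theorem D99848 : act 1 n46632 = n99848 := rfl
theorem F153741 : act 1 n99848 = n47528 := d15_1 D99848 (iv7 F153734) F153732
def n99849 : Q := act 4 n46632
theorem D99849 : act 4 n46632 = n99849 := rfl
theorem F153742 : act 7 n99849 = n47532 := d11_2 (iv7 F73669) D99849 (iv4 D47532)
def n99850 : Q := act 6 n46632
theorem D99850 : act 6 n46632 = n99850 := rfl
theorem F153743 : act 3 n99850 = n46635 := d7_1 D99850 (iv6 D46635) (iv3 F73668)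
def n99851 : Q := act 0 n46633
theorem D99851 : act 0 n46633 = n99851 := rfl
def n99852 : Q := act 1 n46633
theorem D99852 : act 1 n46633 = n99852 := rfl
def n99853 : Q := act 5 n46633
theorem D99853 : act 5 n46633 = n99853 := rfl
theorem F153744 : act 3 n99853 = n46636 := d6_1 D99853 (iv5 D46636) (iv3 F73670)
theorem F153745 : act 7 n99853 = n98579 := d13_2 F74802 D99853 F151972
def n99854 : Q := act 3 n46634
theorem D99854 : act 3 n46634 = n99854 := rfl
theorem F153746 : act 7 n99854 = n47544 := d8_2 (iv7 F73673) D99854 (iv3 D47544)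
def n99855 : Q := act 6 n46634
theorem D99855 : act 6 n46634 = n99855 := rfl
theorem F153747 : act 2 n99855 = n47594 := d3_1 D99855 (iv6 D47594) (iv2 F73672)
theorem F153748 : act 4 n99855 = n46635 := d10_1 D99855 (iv6 D46635) D46634
def n99856 : Q := act 0 n46635
theorem D99856 : act 0 n46635 = n99856 := rfl
def n99857 : Q := act 1 n46635
theorem D99857 : act 1 n46635 = n99857 := rfl
theorem F153749 : act 1 n99857 = n47598 := d15_1 D99857 (iv7 D47598) (iv2 F73674)
def n99858 : Q := act 5 n46635
theorem D99858 : act 5 n46635 = n99858 := rfl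
theorem F153750 : act 2 n99858 = n47597 := d2_1 D99858 (iv5 D47597) (iv2 F73674)
theorem F153751 : act 6 n99858 = n46636 := d12_2 D46635 D99858 (iv5 D46636) (iv6 D22350) D22349
def n99859 : Q := act 7 n46635
theorem D99859 : act 7 n46635 = n99859 := rfl
theorem F153752 : act 2 n99859 = n47598 := d4_1 D99859 (iv7 D47598) (iv2 F73674)
theorem F153753 : act 6 n99859 = n47549 := d14_1 D99859 (iv7 D47549) (iv6 D22846) (iv7 F34887) D46635
theorem F153754 : act 1 n47598 = n99856 := d15_0 (iv0 D99856) D99859 F153752
theorem F153755 : act 1 n47596 = n99859 := d15_1 D47596 (iv7 D99859) F73674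
theorem F153756 : act 1 n99859 = n47595 := d15_0 (iv0 D47595) D47598 (iv2 F153752)
def n99861 : Q := act 0 n46640
theorem D99861 : act 0 n46640 = n99861 := rfl
def n99862 : Q := act 1 n46640
theorem D99862 : act 1 n46640 = n99862 := rfl
def n99863 : Q := act 5 n46640
theorem D99863 : act 5 n46640 = n99863 := rfl
theorem F153764 : act 2 n99863 = n88033 := d2_1 D99863 (iv5 D88033) (iv2 F73694)
def n99864 : Q := act 7 n46640
theorem D99864 : act 7 n46640 = n99864 := rfl
theorem F153766 : act 2 n99864 = n88034 := d4_1 D99864 (iv7 D88034) (iv2 F73694)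
theorem F153767 : act 4 n99864 = n88030 := d11_1 D99864 (iv7 D88030) (iv4 F73695)
theorem F153768 : act 6 n99864 = n88030 := d14_1 D99864 (iv7 D88030) (iv6 D41102) F34903 D46640
theorem F153771 : act 1 n99864 = n88031 := d15_0 (iv0 D88031) D88034 (iv2 F153766)
def n99865 : Q := act 0 n46641
theorem D99865 : act 0 n46641 = n99865 := rfl
def n99866 : Q := act 1 n46641
theorem D99866 : act 1 n46641 = n99866 := rfl
def n99867 : Q := act 5 n46641
theorem D99867 : act 5 n46641 = n99867 := rfl
theorem F153773 : act 2 n99867 = n88029 := d2_1 D99867 (iv5 D88029) (iv2 F73696)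
theorem F153774 : act 3 n99867 = n46978 := d6_1 D99867 (iv5 D46978) (iv3 F73697)
def n99868 : Q := act 7 n46641
theorem D99868 : act 7 n46641 = n99868 := rfl
theorem F153779 : act 6 n99868 = n88034 := d14_1 D99868 (iv7 D88034) (iv6 D41103) (iv7 F34905) D46641
def n99869 : Q := act 2 n46642
theorem D99869 : act 2 n46642 = n99869 := rfl
theorem F153783 : act 4 n99869 = n88038 := d1_2 (iv4 F135046) D99869 (iv2 D88038)
theorem F153784 : act 7 n46643 = n99869 := d15_2 (iv0 D46642) D46643 (iv2 D99869)
def n99870 : Q := act 3 n46642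
theorem D99870 : act 3 n46642 = n99870 := rfl
def n99871 : Q := act 5 n46642
theorem D99871 : act 5 n46642 = n99871 := rfl
def n99872 : Q := act 6 n46642
theorem D99872 : act 6 n46642 = n99872 := rfl
theorem F153785 : act 4 n99872 = n88041 := d10_1 D99872 (iv6 D88041) (iv4 F135046)
def n99873 : Q := act 7 n46642
theorem D99873 : act 7 n46642 = n99873 := rfl
theorem F153786 : act 2 n99873 = n46643 := d4_1 D99873 F153784 (iv2 D99869)
theorem F153787 : act 4 n99873 = n88042 := d11_1 D99873 (iv7 D88042) (iv4 F135046)
def n99874 : Q := act 5 n46643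
theorem D99874 : act 5 n46643 = n99874 := rfl
def n99875 : Q := act 6 n46643
theorem D99875 : act 6 n46643 = n99875 := rfl
theorem F153788 : act 4 n99875 = n88046 := d10_1 D99875 (iv6 D88046) (iv4 F142704)
def n99876 : Q := act 0 n46644
theorem D99876 : act 0 n46644 = n99876 := rfl
def n99877 : Q := act 1 n46644
theorem D99877 : act 1 n46644 = n99877 := rfl
def n99878 : Q := act 4 n46644
theorem D99878 : act 4 n46644 = n99878 := rfl
def n99879 : Q := act 2 n46645
theorem D99879 : act 2 n46645 = n99879 := rfl
theorem F153789 : act 7 n46646 = n99879 := d15_2 (iv0 D46645) D46646 (iv2 D99879)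
def n99880 : Q := act 4 n46645
theorem D99880 : act 4 n46645 = n99880 := rfl
def n99881 : Q := act 5 n46645
theorem D99881 : act 5 n46645 = n99881 := rfl
def n99882 : Q := act 6 n46645
theorem D99882 : act 6 n46645 = n99882 := rfl
def n99883 : Q := act 7 n46645
theorem D99883 : act 7 n46645 = n99883 := rfl
theorem F153790 : act 2 n99883 = n46646 := d4_1 D99883 F153789 (iv2 D99879)
def n99884 : Q := act 3 n46646
theorem D99884 : act 3 n46646 = n99884 := rfl
def n99885 : Q := act 4 n46646
theorem D99885 : act 4 n46646 = n99885 := rfl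
def n99886 : Q := act 5 n46646
theorem D99886 : act 5 n46646 = n99886 := rfl
def n99887 : Q := act 6 n46646
theorem D99887 : act 6 n46646 = n99887 := rfl
def n99888 : Q := act 0 n46647
theorem D99888 : act 0 n46647 = n99888 := rfl
def n99889 : Q := act 1 n46647
theorem D99889 : act 1 n46647 = n99889 := rfl
theorem F153791 : act 1 n99889 = n88016 := d15_1 D99889 (iv7 D88016) (iv2 F73701)
theorem F153792 : act 5 n88080 = n99889 := d21_6 (iv5 D9226) D9224 (iv5 F14417) D19351 D41129 D88080 (iv1 D99889) (iv5 D46647) (iv6 D22358) F17188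
def n99890 : Q := act 4 n46647
theorem D99890 : act 4 n46647 = n99890 := rfl
theorem F153793 : act 2 n99890 = n88015 := d1_1 D99890 (iv4 D88015) (iv2 F73701)
theorem F153794 : act 6 n99890 = n46651 := d10_2 (iv6 F73702) D99890 (iv4 D46651)
def n99891 : Q := act 7 n46647
theorem D99891 : act 7 n46647 = n99891 := rfl
theorem F153795 : act 2 n99891 = n88016 := d4_1 D99891 (iv7 D88016) (iv2 F73701)
theorem F153796 : act 5 n99891 = n46648 := d13_1 D99891 (iv7 D46648) D46647
theorem F153797 : act 1 n88016 = n99888 := d15_0 (iv0 D99888) D99891 F153795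
theorem F153798 : act 1 n88014 = n99891 := d15_1 D88014 (iv7 D99891) F73701
theorem F153799 : act 5 n88166 = n99888 := d21_0 (iv1 F153797) F135019 (iv6 F74383) (iv1 F74385) D88060 (iv5 F135115) (iv1 F135119) (iv5 D41153) D41154 D88166
theorem F153800 : act 1 n99891 = n88013 := d15_0 (iv0 D88013) D88016 (iv2 F153795)
def n99892 : Q := act 4 n46649
theorem D99892 : act 4 n46649 = n99892 := rfl
theorem F153803 : act 0 n99892 = n87820 := d18_2 D46649 D99892 F134788 F62009 F30945 (iv0 F66047) D9517 F65775 D22361
theorem F153804 : act 1 n99892 = n48213 := d18_6 F134783 F61505 (iv1 F62482) D42793 (iv5 F73708) D99892 (iv4 D48213) D48212 (iv5 F133392)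
def n99893 : Q := act 6 n46649
theorem D99893 : act 6 n46649 = n99893 := rfl
theorem F153805 : act 2 n99893 = n88018 := d3_1 D99893 (iv6 D88018) (iv2 F73712)
theorem F153806 : act 3 n99893 = n47116 := d7_1 D99893 (iv6 D47116) F73710
theorem F153807 : act 5 n99893 = n88211 := d12_1 D99893 (iv6 D88211) (iv5 F68707) F68705 (iv5 F73708)
def n99894 : Q := act 3 n46650
theorem D99894 : act 3 n46650 = n99894 := rfl
theorem F153808 : act 2 n99894 = n47117 := d0_1 D99894 (iv3 D47117) (iv2 F70475) F70476 (iv2 F73716)
theorem F153809 : act 5 n99894 = n94713 := d6_2 F73715 D99894 F146002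
theorem F153810 : act 7 n99894 = n88017 := d8_2 (iv7 F73714) D99894 (iv3 D88017)
def n99895 : Q := act 4 n46650
theorem D99895 : act 4 n46650 = n99895 := rfl
theorem F153814 : act 0 n99895 = n48213 := d18_2 (iv1 F73713) D99895 (iv4 D48213) (iv5 D23348) F17822 (iv0 F66044) D20196 (iv0 F65805) (iv5 F62332)
theorem F153815 : act 1 n99895 = n87820 := d18_6 (iv1 F140538) (iv4 D91384) F67017 (iv4 F69638) F73715 D99895 F134788 F75775 (iv5 F133586)
def n99896 : Q := act 6 n46650
theorem D99896 : act 6 n46650 = n99896 := rfl
theorem F153817 : act 5 n99896 = n94715 := d12_1 D99896 (iv6 D94715) (iv5 D44255) D44256 F73715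
def n99897 : Q := act 3 n46651
theorem D99897 : act 3 n46651 = n99897 := rfl
def n99898 : Q := act 5 n46651
theorem D99898 : act 5 n46651 = n99898 := rfl
theorem F153818 : act 2 n99898 = n88023 := d2_1 D99898 (iv5 D88023) (iv2 F73717)
theorem F153819 : act 4 n99898 = n91301 := d16_2 D46651 D99898 F140372 (iv4 F73690) F73691 F34895 (iv5 F62332) (iv7 D41100) (iv2 F34918)
def n99899 : Q := act 3 n46654
theorem D99899 : act 3 n46654 = n99899 := rfl
def n99902 : Q := act 4 n46660
theorem D99902 : act 4 n46660 = n99902 := rfl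
theorem F153824 : act 0 n99902 = n89695 := d18_2 F73736 D99902 (iv4 D89695) (iv5 D41892) D41891 (iv0 F64602) F61717 F34383 D44665
def n99906 : Q := act 2 n46664
theorem D99906 : act 2 n46664 = n99906 := rfl
theorem F153832 : act 4 n99906 = n46809 := d1_2 (iv4 F73750) D99906 (iv2 D46809)
theorem F153833 : act 6 n99906 = n88629 := d3_2 (iv6 F73751) D99906 (iv2 D88629)
def n99908 : Q := act 4 n46665
theorem D99908 : act 4 n46665 = n99908 := rfl
theorem F153835 : act 5 n99908 = n88024 := d9_2 D46665 D99908 F135027 F62332 (iv4 F34895) (iv5 F73691) F73690 (iv5 F140372) (iv4 F153819) (iv5 D99898) (iv4 D46651) (iv5 D22361) F17190 D10647 D22375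
def n99910 : Q := act 1 n46666
theorem D99910 : act 1 n46666 = n99910 := rfl
theorem F153839 : act 3 n47699 = n99910 := d20_3 (iv4 F31990) D42708 F138758 (iv1 D99910) F73753 (iv4 F73938) (iv1 F74987) F138744 (iv3 D42717) (iv1 D20154)
def n99911 : Q := act 6 n46667
theorem D99911 : act 6 n46667 = n99911 := rfl
theorem F153841 : act 2 n99911 = n98301 := d3_1 D99911 (iv6 D98301) (iv2 F73755)
theorem F153842 : act 3 n99911 = n81923 := d7_1 D99911 (iv6 D81923) F75467
def n99912 : Q := act 0 n46668
theorem D99912 : act 0 n46668 = n99912 := rfl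
def n99913 : Q := act 1 n46668
theorem D99913 : act 1 n46668 = n99913 := rfl
def n99914 : Q := act 5 n46668
theorem D99914 : act 5 n46668 = n99914 := rfl
theorem F153843 : act 3 n99914 = n99549 := d6_1 D99914 (iv5 D99549) (iv3 F73760)
def n99915 : Q := act 7 n46668
theorem D99915 : act 7 n46668 = n99915 := rfl
theorem F153844 : act 3 n99915 = n99550 := d8_1 D99915 (iv7 D99550) (iv3 F73760)
def n99916 : Q := act 6 n46669
theorem D99916 : act 6 n46669 = n99916 := rfl
theorem F153845 : act 2 n99916 = n98299 := d3_1 D99916 (iv6 D98299) (iv2 F73761)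
def n99917 : Q := act 0 n46670
theorem D99917 : act 0 n46670 = n99917 := rfl
def n99918 : Q := act 1 n46670
theorem D99918 : act 1 n46670 = n99918 := rfl
def n99919 : Q := act 5 n46670
theorem D99919 : act 5 n46670 = n99919 := rfl
def n99920 : Q := act 7 n46670
theorem D99920 : act 7 n46670 = n99920 := rfl
def n99921 : Q := act 0 n46671
theorem D99921 : act 0 n46671 = n99921 := rfl
theorem F153846 : act 4 n99921 = n92800 := d20_2 (iv4 F73767) D99921 (iv3 D92800) (iv1 F143150) F143145 F139321 (iv1 F73640) (iv4 F74811) (iv3 F142910) (iv1 F142914)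
theorem F153847 : act 0 n99921 = n46675 := d20_7 (iv4 F66845) (iv1 D20896) F15636 (iv3 F32626) D43416 D92800 (iv4 F153846) F73771 F68145 (iv1 F32591)
def n99922 : Q := act 1 n46671
theorem D99922 : act 1 n46671 = n99922 := rfl
theorem F153848 : act 1 n99922 = n46675 := d15_1 D99922 (iv7 D46675) (iv2 F73765)
theorem F153849 : act 4 n92780 = n99922 := d20_6 (iv4 F139166) (iv1 F76031) (iv4 F135560) F135559 (iv1 F135462) D92780 (iv1 D99922) F73767 F68141 D90413
theorem F153850 : act 3 n97961 = n99922 := d20_9 F73767 F73768 (iv4 D41162) (iv3 D19359) (iv1 F30920) (iv3 F61944) F61945 (iv1 F72123) D97961 (iv1 D99922)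
def n99923 : Q := act 5 n46671
theorem D99923 : act 5 n46671 = n99923 := rfl
theorem F153851 : act 2 n99923 = n46674 := d2_1 D99923 (iv5 D46674) (iv2 F73765)
theorem F153852 : act 3 n99923 = n87876 := d6_1 D99923 (iv5 D87876) (iv3 F73766)
def n99924 : Q := act 7 n46671
theorem D99924 : act 7 n46671 = n99924 := rfl
theorem F153853 : act 2 n99924 = n46675 := d4_1 D99924 (iv7 D46675) (iv2 F73765)
theorem F153854 : act 3 n99924 = n87718 := d8_1 D99924 F134634 (iv3 F73766)
theorem F153855 : act 4 n99924 = n92710 := d11_1 D99924 F142905 (iv4 F73767)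
theorem F153856 : act 6 n99924 = n47514 := d14_1 D99924 F139254 (iv6 D90485) F65389 D46671
theorem F153857 : act 1 n46673 = n99924 := d15_1 D46673 (iv7 D99924) F73765
theorem F153858 : act 0 n46672 = n99924 := d20_10 F153855 (iv1 D92710) F68113 (iv3 D40853) (iv1 D19256) (iv3 F30910) F30911 D40845 D87674 (iv3 F134591)
def n99925 : Q := act 2 n46672
theorem D99925 : act 2 n46672 = n99925 := rfl
theorem F153859 : act 7 n46673 = n99925 := d15_2 (iv0 D46672) D46673 (iv2 D99925)
def n99926 : Q := act 4 n46672
theorem D99926 : act 4 n46672 = n99926 := rfl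
theorem F153860 : act 3 n99926 = n88477 := d5_1 D99926 (iv4 F135458) (iv3 D87673) D87674 (iv3 F134591)
theorem F153861 : act 0 n99926 = n88187 := d20_1 D99926 (iv4 D88187) F74609 F74667 (iv3 D22807) (iv4 F66643) (iv1 D20495) (iv4 F17195) (iv3 F34934) D46672
def n99927 : Q := act 5 n46672
theorem D99927 : act 5 n46672 = n99927 := rfl
def n99928 : Q := act 6 n46672
theorem D99928 : act 6 n46672 = n99928 := rfl
def n99929 : Q := act 7 n46672
theorem D99929 : act 7 n46672 = n99929 := rfl
theorem F153862 : act 2 n99929 = n46673 := d4_1 D99929 F153859 (iv2 D99925)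
def n99930 : Q := act 3 n46673
theorem D99930 : act 3 n46673 = n99930 := rfl
def n99931 : Q := act 4 n46673
theorem D99931 : act 4 n46673 = n99931 := rfl
theorem F153863 : act 3 n99931 = n92797 := d20_3 (iv4 F153855) (iv1 F153857) D99931 (iv1 D92797) F68267 F65444 (iv1 F73645) (iv4 F142887) F142886 (iv1 F142909)
theorem F153864 : act 0 n99931 = n88192 := d20_10 (iv4 D88192) (iv1 D41160) D41162 F62357 (iv1 F35598) D41294 F63613 D48447 F143143 (iv3 F153863)
theorem E14876 : n99930 = n95436 := ((c20_5 (iv4 D92777) (iv1 F135461) (iv4 F151052) F151051 (iv1 F147054) (iv3 D99930) D99931 F153864 (iv4 D88192) D88191 F143100)).symm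
theorem F153865 : act 3 n95436 = n46673 := (sb E14876 (iv3 D99930))
theorem F153866 : act 0 n88187 = n99931 := d20_1 D88187 (iv4 D99931) (iv3 F153865) (iv1 D95436) F70106 F33446 (iv1 F63108) (iv4 F17365) D19359 D41159
def n99932 : Q := act 5 n46673
theorem D99932 : act 5 n46673 = n99932 := rfl
def n99933 : Q := act 6 n46673
theorem D99933 : act 6 n46673 = n99933 := rfl
def n99934 : Q := act 0 n46674
theorem D99934 : act 0 n46674 = n99934 := rfl
def n99935 : Q := act 1 n46674
theorem D99935 : act 1 n46674 = n99935 := rfl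
def n99936 : Q := act 4 n46674
theorem D99936 : act 4 n46674 = n99936 := rfl
def n99937 : Q := act 7 n46674
theorem D99937 : act 7 n46674 = n99937 := rfl
theorem F153867 : act 3 n99937 = n46678 := d8_1 D99937 (iv7 D46678) (iv3 F73769)
theorem F153868 : act 5 n99937 = n46675 := d13_1 D99937 (iv7 D46675) D46674
def n99938 : Q := act 3 n46676
theorem D99938 : act 3 n46676 = n99938 := rfl
theorem F153869 : act 0 n46852 = n99938 := d20_4 D87711 (iv1 F134712) (iv4 D87747) (iv3 F74042) (iv3 D99938) (iv4 F151037) (iv1 F151040) (iv4 D47470) F35347 (iv1 F61957)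
def n99939 : Q := act 6 n46676
theorem D99939 : act 6 n46676 = n99939 := rfl
def n99940 : Q := act 3 n46677
theorem D99940 : act 3 n46677 = n99940 := rfl
def n99941 : Q := act 5 n46677
theorem D99941 : act 5 n46677 = n99941 := rfl
def n99942 : Q := act 7 n46677
theorem D99942 : act 7 n46677 = n99942 := rfl
theorem F153870 : act 4 n99942 = n46678 := d11_1 D99942 (iv7 D46678) D46677
theorem F153871 : act 1 n89388 = n99942 := d15_1 F152856 (iv7 D99942) (iv2 F152854)
theorem F153872 : act 1 n99942 = n97984 := d15_1 F153871 F151035 (iv2 F137072)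
def n99943 : Q := act 6 n46678
theorem D99943 : act 6 n46678 = n99943 := rfl
theorem F153873 : act 5 n99943 = n47517 := d12_1 D99943 (iv6 D47517) (iv5 D22832) (iv6 F35655) (iv5 F73773)
def n99944 : Q := act 6 n46679
theorem D99944 : act 6 n46679 = n99944 := rfl
theorem F153874 : act 2 n99944 = n48202 := d3_1 D99944 (iv6 D48202) (iv2 F73774)
theorem F153875 : act 3 n99944 = n54445 := d7_1 D99944 (iv6 D54445) (iv3 F73775)
theorem F153876 : act 4 n99944 = n86400 := d10_1 D99944 (iv6 D86400) F73779
def n99945 : Q := act 5 n46680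
theorem D99945 : act 5 n46680 = n99945 := rfl
theorem F153877 : act 2 n99945 = n48203 := d2_1 D99945 (iv5 D48203) (iv2 F73780)
theorem F153878 : act 3 n99945 = n87759 := d6_1 D99945 (iv5 D87759) (iv3 F73781)
def n99946 : Q := act 5 n46681
theorem D99946 : act 5 n46681 = n99946 := rfl
theorem F153879 : act 2 n99946 = n46684 := d2_1 D99946 (iv5 D46684) (iv2 F73782)
def n99947 : Q := act 5 n46682
theorem D99947 : act 5 n46682 = n99947 := rfl
theorem F153880 : act 3 n99947 = n48217 := d6_1 D99947 (iv5 D48217) (iv3 F73784)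
theorem F153881 : act 7 n99947 = n48257 := d13_2 F73786 D99947 (iv5 D48257)
def n99948 : Q := act 3 n46683
theorem D99948 : act 3 n46683 = n99948 := rfl
theorem F153882 : act 2 n99948 = n47484 := d0_1 D99948 F74665 F66577 D23410 (iv2 F148357)
theorem F153883 : act 4 n99948 = n47483 := d5_2 (iv4 F148358) D99948 (iv3 F151018) F151019 (iv3 F148351)
theorem F153884 : act 7 n99948 = n48235 := d8_2 F153658 D99948 F153659
theorem F153885 : act 0 n99948 = n48234 := d20_10 (iv4 F75828) (iv1 F74617) (iv4 F73579) F73578 (iv1 F73601) D99768 (iv4 F153589) (iv1 F148354) (iv4 F148358) D99948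
theorem F153886 : act 1 n99948 = n47519 := d15_0 (iv0 F74720) (iv7 F74666) (iv2 F153882)
def n99949 : Q := act 5 n46683
theorem D99949 : act 5 n46683 = n99949 := rfl
def n99950 : Q := act 6 n46683
theorem D99950 : act 6 n46683 = n99950 := rfl
theorem F153888 : act 2 n99950 = n48258 := d3_1 D99950 (iv6 D48258) (iv2 F148357)
theorem F153889 : act 5 n98590 = n99950 := d21_2 D87550 (iv1 F151986) (iv6 D99950) (iv1 D46683) (iv6 D22387) (iv5 F34499) F34500 (iv5 D19226) D19227 D40751
theorem F153890 : act 1 n99950 = n87885 := d15_0 F152015 F144049 (iv2 F153888)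
def n99951 : Q := act 0 n46684
theorem D99951 : act 0 n46684 = n99951 := rfl
def n99952 : Q := act 1 n46684
theorem D99952 : act 1 n46684 = n99952 := rfl
def n99953 : Q := act 4 n46684
theorem D99953 : act 4 n46684 = n99953 := rfl
def n99954 : Q := act 3 n46685
theorem D99954 : act 3 n46685 = n99954 := rfl
def n99955 : Q := act 6 n46686
theorem D99955 : act 6 n46686 = n99955 := rfl
theorem F153891 : act 2 n99955 = n46687 := d3_1 D99955 (iv6 D46687) D46686
theorem F153892 : act 3 n99955 = n47077 := d7_1 D99955 (iv6 D47077) (iv3 F73790)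
theorem F153893 : act 4 n99955 = n46687 := d10_1 D99955 (iv6 D46687) (iv4 F73793)
def n99956 : Q := act 0 n46687
theorem D99956 : act 0 n46687 = n99956 := rfl
def n99957 : Q := act 1 n46687
theorem D99957 : act 1 n46687 = n99957 := rfl
def n99958 : Q := act 5 n46687
theorem D99958 : act 5 n46687 = n99958 := rfl
theorem F153894 : act 3 n99958 = n46690 := d6_1 D99958 (iv5 D46690) (iv3 F73795)
def n99959 : Q := act 7 n46687
theorem D99959 : act 7 n46687 = n99959 := rfl
def n99964 : Q := act 6 n46688
theorem D99964 : act 6 n46688 = n99964 := rfl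
theorem F153897 : act 5 n99964 = n82042 := d21_6 F29199 (iv1 F21990) F21988 D22393 D46688 D99964 (iv1 D82042) (iv5 D37595) (iv6 D18033) D18032
def n99969 : Q := act 6 n46689
theorem D99969 : act 6 n46689 = n99969 := rfl
theorem F153899 : act 5 n98422 = n99969 := d21_2 D46038 D98422 (iv6 D99969) (iv1 D46689) (iv6 D22393) (iv5 F21988) F21989 (iv5 F13630) D10490 D21996
def n99970 : Q := act 0 n46690
theorem D99970 : act 0 n46690 = n99970 := rfl
def n99971 : Q := act 1 n46690
theorem D99971 : act 1 n46690 = n99971 := rfl
def n99972 : Q := act 4 n46690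
theorem D99972 : act 4 n46690 = n99972 := rfl
def n99973 : Q := act 7 n46690
theorem D99973 : act 7 n46690 = n99973 := rfl
def n99974 : Q := act 2 n46692
theorem D99974 : act 2 n46692 = n99974 := rfl
theorem F153901 : act 4 n99974 = n99349 := d1_2 F73804 D99974 (iv2 D99349)
def n99975 : Q := act 3 n46692
theorem D99975 : act 3 n46692 = n99975 := rfl
def n99976 : Q := act 5 n46692
theorem D99976 : act 5 n46692 = n99976 := rfl
def n99977 : Q := act 7 n46692
theorem D99977 : act 7 n46692 = n99977 := rfl
def n99978 : Q := act 5 n46693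
theorem D99978 : act 5 n46693 = n99978 := rfl
def n99979 : Q := act 6 n46693
theorem D99979 : act 6 n46693 = n99979 := rfl
theorem F153905 : act 4 n99979 = n99355 := d10_1 D99979 (iv6 D99355) (iv4 F73798)
def n99980 : Q := act 0 n46694
theorem D99980 : act 0 n46694 = n99980 := rfl
def n99981 : Q := act 1 n46694
theorem D99981 : act 1 n46694 = n99981 := rfl
theorem F153906 : act 1 n99981 = n46713 := d15_1 D99981 (iv7 D46713) (iv2 F73799)
theorem F153907 : act 5 n88927 = n99981 := d21_6 (iv5 D18561) (iv1 F21998) (iv5 F22003) D19552 D41524 D88927 (iv1 D99981) (iv5 D46694) (iv6 D22394) (iv1 F29798)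
theorem F153908 : act 2 n99981 = n46711 := d2_1 F153907 (iv5 F151844) (iv2 F152071)
def n99983 : Q := act 7 n46694
theorem D99983 : act 7 n46694 = n99983 := rfl
theorem F153911 : act 2 n99983 = n46713 := d4_1 D99983 (iv7 D46713) (iv2 F73799)
theorem F153912 : act 5 n99983 = n46695 := d13_1 D99983 (iv7 D46695) D46694
theorem F153913 : act 1 n46713 = n99980 := d15_0 (iv0 D99980) D99983 F153911
theorem F153914 : act 1 n46711 = n99983 := d15_1 D46711 (iv7 D99983) F73799
theorem F153915 : act 7 n99980 = n46711 := d15_2 F153906 F153913 (iv2 F153908)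
theorem F153916 : act 2 n99980 = n46710 := d15_3 (iv0 D46710) D46711 (iv7 F153915)
theorem F153917 : act 7 n46710 = n99981 := d4_2 (iv7 F153915) F153916 F153908
theorem F153918 : act 1 n99983 = n46710 := d15_1 F153914 F153917 F153908
def n99984 : Q := act 3 n46697
theorem D99984 : act 3 n46697 = n99984 := rfl
theorem F153919 : act 4 n99984 = n81636 := d5_2 (iv4 F117313) D99984 (iv3 D81636) (iv4 D37312) F117312
theorem F153920 : act 7 n99984 = n81985 := d8_2 F117330 D99984 (iv3 D81985)
def n99985 : Q := act 5 n46697
theorem D99985 : act 5 n46697 = n99985 := rfl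
theorem F153921 : act 2 n99985 = n76169 := d2_1 D99985 (iv5 D76169) F91298
theorem F153922 : act 7 n99985 = n81986 := d13_2 F117330 D99985 (iv5 D81986)
def n99986 : Q := act 6 n46697
theorem D99986 : act 6 n46697 = n99986 := rfl
theorem F153923 : act 2 n99986 = n76170 := d3_1 D99986 (iv6 D76170) F91298
theorem F153924 : act 4 n99986 = n56712 := d10_1 D99986 (iv6 D56712) (iv4 F117313)
theorem F153925 : act 5 n84700 = n99986 := d21_2 D39122 D84700 (iv6 D99986) (iv1 D46697) (iv6 D22395) (iv5 D10655) F13631 (iv5 D8726) D8727 D18572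
theorem F153926 : act 0 n56729 = n99986 := d21_10 (iv5 F153925) (iv1 F129933) (iv5 D39127) D39128 F129828 (iv6 F60588) (iv5 F131735) (iv1 F131736) (iv5 D56728) D56729
def n99987 : Q := act 0 n46698
theorem D99987 : act 0 n46698 = n99987 := rfl
def n99988 : Q := act 1 n46698
theorem D99988 : act 1 n46698 = n99988 := rfl
def n99989 : Q := act 4 n46698
theorem D99989 : act 4 n46698 = n99989 := rfl
theorem F153929 : act 6 n99989 = n46712 := d10_2 (iv6 F73810) D99989 (iv4 D46712)
def n99990 : Q := act 7 n46698
theorem D99990 : act 7 n46698 = n99990 := rfl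
theorem F153931 : act 3 n99990 = n46740 := d8_1 D99990 (iv7 D46740) (iv3 F73809)
theorem F153932 : act 5 n99990 = n46699 := d13_1 D99990 (iv7 D46699) D46698
def n99991 : Q := act 0 n46700
theorem D99991 : act 0 n46700 = n99991 := rfl
theorem F153936 : act 1 n46705 = n99991 := d15_0 (iv0 D99991) (iv7 F73818) (iv2 F73821)
def n99993 : Q := act 3 n46700
theorem D99993 : act 3 n46700 = n99993 := rfl
theorem F153938 : act 7 n99993 = n46706 := d8_2 F73818 D99993 (iv3 D46706)
def n99994 : Q := act 4 n46700
theorem D99994 : act 4 n46700 = n99994 := rfl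
theorem F153939 : act 2 n99994 = n46702 := d1_1 D99994 (iv4 D46702) D46700
theorem F153940 : act 7 n99994 = n46707 := d11_2 F73818 D99994 (iv4 D46707)
def n99995 : Q := act 5 n46700
theorem D99995 : act 5 n46700 = n99995 := rfl
theorem F153941 : act 2 n99995 = n46703 := d2_1 D99995 (iv5 D46703) D46700
theorem F153942 : act 7 n99995 = n46708 := d13_2 F73818 D99995 (iv5 D46708)
def n99996 : Q := act 6 n46700
theorem D99996 : act 6 n46700 = n99996 := rfl
theorem F153943 : act 2 n99996 = n46704 := d3_1 D99996 (iv6 D46704) D46700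
def n99997 : Q := act 2 n46701
theorem D99997 : act 2 n46701 = n99997 := rfl
theorem F153944 : act 7 n47079 = n99997 := d15_2 (iv0 F73820) D47079 (iv2 D99997)
def n99998 : Q := act 5 n46701
theorem D99998 : act 5 n46701 = n99998 := rfl
theorem F153945 : act 3 n99998 = n46703 := d6_1 D99998 (iv5 D46703) D46701
def n99999 : Q := act 6 n46701
theorem D99999 : act 6 n46701 = n99999 := rfl
theorem F153946 : act 3 n99999 = n46704 := d7_1 D99999 (iv6 D46704) D46701
def n100000 : Q := act 7 n46701
theorem D100000 : act 7 n46701 = n100000 := rfl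
theorem F153947 : act 2 n100000 = n47079 := d4_1 D100000 F153944 (iv2 D99997)
theorem F153948 : act 3 n100000 = n46705 := d8_1 D100000 (iv7 D46705) D46701
def n100001 : Q := act 3 n46702
theorem D100001 : act 3 n46702 = n100001 := rfl
def n100002 : Q := act 5 n46702
theorem D100002 : act 5 n46702 = n100002 := rfl
def n100003 : Q := act 6 n46702
theorem D100003 : act 6 n46702 = n100003 := rfl
theorem F153949 : act 4 n100003 = n46704 := d10_1 D100003 (iv6 D46704) D46702
theorem F153950 : act 5 n100003 = n88933 := d21_6 (iv5 D13058) D13057 (iv5 F29814) D39114 (iv1 F129915) D100003 (iv1 D88933) (iv5 D41526) (iv6 D19552) F21783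
def n100004 : Q := act 7 n46702
theorem D100004 : act 7 n46702 = n100004 := rfl
theorem F153951 : act 2 n100004 = n46707 := d4_1 D100004 (iv7 F153940) F153939
theorem F153952 : act 4 n100004 = n46705 := d11_1 D100004 (iv7 D46705) D46702
def n100005 : Q := act 0 n46703
theorem D100005 : act 0 n46703 = n100005 := rfl
def n100006 : Q := act 1 n46703
theorem D100006 : act 1 n46703 = n100006 := rfl
theorem F153953 : act 1 n100006 = n46708 := d15_1 D100006 (iv7 F153942) F153941
def n100007 : Q := act 4 n46703
theorem D100007 : act 4 n46703 = n100007 := rfl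
def n100008 : Q := act 6 n46703
theorem D100008 : act 6 n46703 = n100008 := rfl
def n100009 : Q := act 7 n46703
theorem D100009 : act 7 n46703 = n100009 := rfl
theorem F153954 : act 2 n100009 = n46708 := d4_1 D100009 (iv7 F153942) F153941
theorem F153955 : act 5 n100009 = n46705 := d13_1 D100009 (iv7 D46705) D46703
theorem F153956 : act 1 n46708 = n100005 := d15_0 (iv0 D100005) D100009 F153954
def n100010 : Q := act 0 n46704
theorem D100010 : act 0 n46704 = n100010 := rfl
def n100011 : Q := act 1 n46704
theorem D100011 : act 1 n46704 = n100011 := rfl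
def n100012 : Q := act 7 n46704
theorem D100012 : act 7 n46704 = n100012 := rfl
def n100013 : Q := act 6 n46705
theorem D100013 : act 6 n46705 = n100013 := rfl
theorem F153957 : act 2 n100013 = n46709 := d3_1 D100013 (iv6 D46709) (iv2 F73821)
def n100014 : Q := act 0 n46706
theorem D100014 : act 0 n46706 = n100014 := rfl
theorem F153958 : act 4 n100014 = n93327 := d20_0 (iv1 D93327) F68594 (iv3 D43654) F62726 (iv3 F62338) (iv4 F73360) F73822 (iv4 D46707) D46706 D100014
theorem F153959 : act 3 n87910 = n100014 := d20_5 (iv4 F34733) F62961 F62578 D41017 D87910 F153958 (iv1 D93327) F68594 (iv3 D43654) F62726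
def n100015 : Q := act 1 n46706
theorem D100015 : act 1 n46706 = n100015 := rfl
def n100016 : Q := act 2 n46706
theorem D100016 : act 2 n46706 = n100016 := rfl
theorem F153960 : act 3 n100016 = n47079 := d0_2 D46706 D100016 (iv2 F153947) F153948 F73821
theorem F153961 : act 4 n46706 = n100016 := d5_0 F153960 (iv4 F134730) F134729 (iv4 D46707) D46706
theorem F153962 : act 4 n93326 = n100015 := d20_0 (iv1 D100015) F153961 F153960 (iv1 D47079) F35206 F17808 (iv1 F62495) D20655 D43654 D93326
theorem F153963 : act 3 n100015 = n46741 := d20_9 F139728 (iv1 F138958) F68091 F35237 F62730 D43654 F68594 D93326 F153962 (iv1 F139730)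
def n100017 : Q := act 5 n46706
theorem D100017 : act 5 n46706 = n100017 := rfl
theorem F153964 : act 3 n100017 = n46708 := d6_1 D100017 (iv5 D46708) D46706
def n100018 : Q := act 6 n46706
theorem D100018 : act 6 n46706 = n100018 := rfl
theorem F153965 : act 3 n100018 = n46709 := d7_1 D100018 (iv6 D46709) D46706
def n100019 : Q := act 5 n46707
theorem D100019 : act 5 n46707 = n100019 := rfl
def n100020 : Q := act 6 n46707
theorem D100020 : act 6 n46707 = n100020 := rfl
theorem F153966 : act 4 n100020 = n46709 := d10_1 D100020 (iv6 D46709) D46707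
def n100021 : Q := act 4 n46708
theorem D100021 : act 4 n46708 = n100021 := rfl
def n100022 : Q := act 6 n46708
theorem D100022 : act 6 n46708 = n100022 := rfl
def n100023 : Q := act 0 n46709
theorem D100023 : act 0 n46709 = n100023 := rfl
def n100024 : Q := act 1 n46709
theorem D100024 : act 1 n46709 = n100024 := rfl
def n100025 : Q := act 5 n46709
theorem D100025 : act 5 n46709 = n100025 := rfl
def n100026 : Q := act 7 n46709
theorem D100026 : act 7 n46709 = n100026 := rfl
def n100027 : Q := act 3 n46710
theorem D100027 : act 3 n46710 = n100027 := rfl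
def n100028 : Q := act 4 n46710
theorem D100028 : act 4 n46710 = n100028 := rfl
def n100029 : Q := act 5 n46710
theorem D100029 : act 5 n46710 = n100029 := rfl
theorem F153967 : act 7 n100029 = n88927 := d13_2 (iv7 F153917) D100029 F153907
def n100032 : Q := act 4 n46711
theorem D100032 : act 4 n46711 = n100032 := rfl
def n100035 : Q := act 1 n46712
theorem D100035 : act 1 n46712 = n100035 := rfl
def n100036 : Q := act 3 n46712
theorem D100036 : act 3 n46712 = n100036 := rfl
theorem F153968 : act 4 n100036 = n46769 := d5_2 D46712 D100036 (iv3 D46769) (iv4 D22420) (iv3 F34952)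
def n100040 : Q := act 6 n46714
theorem D100040 : act 6 n46714 = n100040 := rfl
theorem F153971 : act 2 n100040 = n46716 := d3_1 D100040 (iv6 D46716) D46714
theorem F153972 : act 3 n100040 = n87879 := d7_1 D100040 (iv6 D87879) (iv3 F73826)
def n100041 : Q := act 6 n46715
theorem D100041 : act 6 n46715 = n100041 := rfl
theorem F153973 : act 4 n100041 = n46716 := d10_1 D100041 (iv6 D46716) D46715
def n100042 : Q := act 0 n46716
theorem D100042 : act 0 n46716 = n100042 := rfl
def n100043 : Q := act 1 n46716
theorem D100043 : act 1 n46716 = n100043 := rfl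
def n100044 : Q := act 5 n46716
theorem D100044 : act 5 n46716 = n100044 := rfl
theorem F153974 : act 3 n100044 = n46719 := d6_1 D100044 (iv5 D46719) (iv3 F73833)
theorem F153975 : act 6 n100044 = n88916 := d12_2 D46716 D100044 (iv5 D88916) (iv6 D41519) (iv5 F34954)
def n100045 : Q := act 7 n46716
theorem D100045 : act 7 n46716 = n100045 := rfl
theorem F153976 : act 3 n100045 = n46720 := d8_1 D100045 (iv7 D46720) (iv3 F73833)
theorem F153977 : act 6 n100045 = n98306 := d14_1 D100045 (iv7 D98306) (iv6 D45998) (iv7 F34955) D46716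
def n100046 : Q := act 2 n46717
theorem D100046 : act 2 n46717 = n100046 := rfl
theorem F153978 : act 7 n46718 = n100046 := d15_2 (iv0 D46717) D46718 (iv2 D100046)
def n100047 : Q := act 3 n46717
theorem D100047 : act 3 n46717 = n100047 := rfl
def n100048 : Q := act 4 n46717
theorem D100048 : act 4 n46717 = n100048 := rfl
def n100049 : Q := act 5 n46717
theorem D100049 : act 5 n46717 = n100049 := rfl
def n100050 : Q := act 6 n46717
theorem D100050 : act 6 n46717 = n100050 := rfl
def n100051 : Q := act 7 n46717
theorem D100051 : act 7 n46717 = n100051 := rfl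
theorem F153979 : act 2 n100051 = n46718 := d4_1 D100051 F153978 (iv2 D100046)
def n100052 : Q := act 3 n46718
theorem D100052 : act 3 n46718 = n100052 := rfl
def n100053 : Q := act 4 n46718
theorem D100053 : act 4 n46718 = n100053 := rfl
def n100054 : Q := act 5 n46718
theorem D100054 : act 5 n46718 = n100054 := rfl
def n100055 : Q := act 6 n46718
theorem D100055 : act 6 n46718 = n100055 := rfl
def n100056 : Q := act 0 n46719
theorem D100056 : act 0 n46719 = n100056 := rfl
def n100057 : Q := act 1 n46719
theorem D100057 : act 1 n46719 = n100057 := rfl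
theorem F153980 : act 1 n100057 = n98366 := d15_1 D100057 (iv7 D98366) (iv2 F73835)
theorem F153981 : act 5 n98495 = n100057 := d21_6 (iv5 D4893) (iv1 F7238) (iv5 F16701) D22003 D46060 D98495 (iv1 D100057) (iv5 D46719) (iv6 D22401) (iv1 F17207)
def n100058 : Q := act 4 n46719
theorem D100058 : act 4 n46719 = n100058 := rfl
theorem F153982 : act 2 n100058 = n98365 := d1_1 D100058 (iv4 D98365) (iv2 F73835)
theorem F153983 : act 6 n100058 = n88919 := d10_2 (iv6 F73836) D100058 (iv4 D88919)
def n100059 : Q := act 7 n46719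
theorem D100059 : act 7 n46719 = n100059 := rfl
theorem F153984 : act 2 n100059 = n98366 := d4_1 D100059 (iv7 D98366) (iv2 F73835)
theorem F153985 : act 5 n100059 = n46720 := d13_1 D100059 (iv7 D46720) D46719
theorem F153986 : act 1 n98366 = n100056 := d15_0 (iv0 D100056) D100059 F153984
theorem F153987 : act 1 n98364 = n100059 := d15_1 D98364 (iv7 D100059) F73835
theorem F153988 : act 5 n98969 = n100056 := d21_0 (iv1 F153986) F151787 (iv6 F73848) (iv1 F73850) D98326 (iv5 F152491) (iv1 F152495) (iv5 D46300) D46301 D98969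
theorem F153989 : act 1 n100059 = n98363 := d15_0 (iv0 D98363) D98366 (iv2 F153984)
def n100060 : Q := act 1 n46721
theorem D100060 : act 1 n46721 = n100060 := rfl
theorem F153990 : act 1 n100060 = n87878 := d15_1 D100060 F134889 F134435
theorem F153992 : act 4 n100060 = n81969 := d18_7 F72300 (iv4 D44711) (iv1 D21297) (iv4 F31292) (iv5 F34957) D46721 D100060 (iv0 D81969) (iv5 F72298)
theorem F153993 : act 3 n79329 = n100060 := d20_3 (iv4 F132386) F148603 F148602 (iv1 D100060) (iv3 F123317) (iv4 D80251) (iv1 F60275) D84932 F130181 F132387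
theorem F153995 : act 5 n100060 = n80704 := d6_2 (iv5 F121919) F153993 (iv3 D80704)
def n100061 : Q := act 5 n46721
theorem D100061 : act 5 n46721 = n100061 := rfl
theorem F153996 : act 3 n100061 = n79279 := d6_1 D100061 (iv5 F123318) F123317
theorem F153997 : act 7 n100061 = n98340 := d13_2 (iv7 F73842) D100061 (iv5 D98340)
theorem F153998 : act 0 n100061 = n60223 := d17_2 (iv1 D100060) D100061 (iv5 F132808) F132807 F125784 (iv0 F70285) (iv5 F74223) F126380 (iv4 F153992)
theorem F153999 : act 1 n100061 = n79325 := d17_6 (iv1 F72639) (iv5 D40746) (iv1 F34484) (iv5 F34957) D46721 D100061 (iv5 F153338) F153341 (iv4 D98481)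
def n100062 : Q := act 6 n46721
theorem D100062 : act 6 n46721 = n100062 := rfl
theorem F154000 : act 4 n100062 = n46722 := d10_1 D100062 (iv6 D46722) D46721
def n100063 : Q := act 0 n46722
theorem D100063 : act 0 n46722 = n100063 := rfl
def n100064 : Q := act 1 n46722
theorem D100064 : act 1 n46722 = n100064 := rfl
def n100065 : Q := act 5 n46722
theorem D100065 : act 5 n46722 = n100065 := rfl
theorem F154001 : act 3 n100065 = n46725 := d6_1 D100065 (iv5 D46725) (iv3 F73843)
theorem F154002 : act 6 n100065 = n88923 := d12_2 D46722 D100065 (iv5 D88923) (iv6 D41522) (iv5 F34957)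
def n100066 : Q := act 7 n46722
theorem D100066 : act 7 n46722 = n100066 := rfl
theorem F154003 : act 3 n100066 = n46726 := d8_1 D100066 (iv7 D46726) (iv3 F73843)
theorem F154004 : act 6 n100066 = n98345 := d14_1 D100066 (iv7 D98345) (iv6 D46011) (iv7 F34958) D46722
def n100067 : Q := act 2 n46723
theorem D100067 : act 2 n46723 = n100067 := rfl
theorem F154005 : act 7 n46724 = n100067 := d15_2 (iv0 D46723) D46724 (iv2 D100067)
def n100068 : Q := act 3 n46723
theorem D100068 : act 3 n46723 = n100068 := rfl
def n100069 : Q := act 4 n46723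
theorem D100069 : act 4 n46723 = n100069 := rfl
def n100070 : Q := act 5 n46723
theorem D100070 : act 5 n46723 = n100070 := rfl
def n100071 : Q := act 6 n46723
theorem D100071 : act 6 n46723 = n100071 := rfl
def n100072 : Q := act 7 n46723
theorem D100072 : act 7 n46723 = n100072 := rfl
theorem F154006 : act 2 n100072 = n46724 := d4_1 D100072 F154005 (iv2 D100067)
def n100073 : Q := act 3 n46724
theorem D100073 : act 3 n46724 = n100073 := rfl
def n100074 : Q := act 4 n46724
theorem D100074 : act 4 n46724 = n100074 := rfl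
def n100075 : Q := act 5 n46724
theorem D100075 : act 5 n46724 = n100075 := rfl
def n100076 : Q := act 6 n46724
theorem D100076 : act 6 n46724 = n100076 := rfl
def n100077 : Q := act 0 n46725
theorem D100077 : act 0 n46725 = n100077 := rfl
def n100078 : Q := act 1 n46725
theorem D100078 : act 1 n46725 = n100078 := rfl
theorem F154007 : act 1 n100078 = n98330 := d15_1 D100078 (iv7 D98330) (iv2 F73845)
theorem F154008 : act 5 n98471 = n100078 := d21_6 (iv5 D4883) D4880 (iv5 F16698) D22001 D46053 D98471 (iv1 D100078) (iv5 D46725) (iv6 D22403) (iv1 D10658)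
def n100079 : Q := act 4 n46725
theorem D100079 : act 4 n46725 = n100079 := rfl
theorem F154010 : act 6 n100079 = n88924 := d10_2 (iv6 F73846) D100079 (iv4 D88924)
def n100080 : Q := act 7 n46725
theorem D100080 : act 7 n46725 = n100080 := rfl
theorem F154011 : act 2 n100080 = n98330 := d4_1 D100080 (iv7 D98330) (iv2 F73845)
theorem F154012 : act 5 n100080 = n46726 := d13_1 D100080 (iv7 D46726) D46725
theorem F154013 : act 1 n98330 = n100077 := d15_0 (iv0 D100077) D100080 F154011
theorem F154014 : act 1 n98328 = n100080 := d15_1 D98328 (iv7 D100080) F73845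
theorem F154015 : act 5 n98545 = n100077 := d21_0 (iv1 F154013) F151738 (iv6 F73838) (iv1 F73840) D98362 (iv5 F151921) (iv1 F151925) (iv5 D46072) D46073 D98545
def n100083 : Q := act 3 n46727
theorem D100083 : act 3 n46727 = n100083 := rfl
theorem F154019 : act 7 n100083 = n46733 := d8_2 F73852 D100083 (iv3 D46733)
def n100084 : Q := act 4 n46727
theorem D100084 : act 4 n46727 = n100084 := rfl
theorem F154020 : act 2 n100084 = n46729 := d1_1 D100084 (iv4 D46729) D46727
theorem F154021 : act 7 n100084 = n46734 := d11_2 F73852 D100084 (iv4 D46734)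
def n100085 : Q := act 5 n46727
theorem D100085 : act 5 n46727 = n100085 := rfl
theorem F154022 : act 2 n100085 = n46730 := d2_1 D100085 (iv5 D46730) D46727
theorem F154023 : act 7 n100085 = n46735 := d13_2 F73852 D100085 (iv5 D46735)
def n100086 : Q := act 6 n46727
theorem D100086 : act 6 n46727 = n100086 := rfl
theorem F154024 : act 2 n100086 = n46731 := d3_1 D100086 (iv6 D46731) D46727
theorem F154025 : act 5 n98978 = n100086 := d2_0 F154024 F73853 (iv2 F152504)
theorem F154026 : act 7 n100086 = n98976 := d13_2 D98978 F154025 (iv5 D98976)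
def n100087 : Q := act 0 n46728
theorem D100087 : act 0 n46728 = n100087 := rfl
def n100088 : Q := act 1 n46728
theorem D100088 : act 1 n46728 = n100088 := rfl
def n100089 : Q := act 2 n46728
theorem D100089 : act 2 n46728 = n100089 := rfl
def n100090 : Q := act 4 n46728
theorem D100090 : act 4 n46728 = n100090 := rfl
def n100091 : Q := act 5 n46728
theorem D100091 : act 5 n46728 = n100091 := rfl
theorem F154027 : act 3 n100091 = n46730 := d6_1 D100091 (iv5 D46730) D46728
def n100092 : Q := act 6 n46728
theorem D100092 : act 6 n46728 = n100092 := rfl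
theorem F154028 : act 3 n100092 = n46731 := d7_1 D100092 (iv6 D46731) D46728
theorem F154029 : act 5 n98979 = n100092 := d6_0 F154028 F73853 D98979
def n100093 : Q := act 7 n46728
theorem D100093 : act 7 n46728 = n100093 := rfl
theorem F154030 : act 3 n100093 = n46732 := d8_1 D100093 (iv7 D46732) D46728
def n100094 : Q := act 0 n46729
theorem D100094 : act 0 n46729 = n100094 := rfl
def n100095 : Q := act 1 n46729
theorem D100095 : act 1 n46729 = n100095 := rfl
theorem F154031 : act 1 n100095 = n46734 := d15_1 D100095 (iv7 F154021) F154020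
def n100096 : Q := act 3 n46729
theorem D100096 : act 3 n46729 = n100096 := rfl
def n100097 : Q := act 5 n46729
theorem D100097 : act 5 n46729 = n100097 := rfl
def n100098 : Q := act 6 n46729
theorem D100098 : act 6 n46729 = n100098 := rfl
theorem F154032 : act 4 n100098 = n46731 := d10_1 D100098 (iv6 D46731) D46729
def n100099 : Q := act 7 n46729
theorem D100099 : act 7 n46729 = n100099 := rfl
theorem F154033 : act 2 n100099 = n46734 := d4_1 D100099 (iv7 F154021) F154020
theorem F154034 : act 4 n100099 = n46732 := d11_1 D100099 (iv7 D46732) D46729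
theorem F154035 : act 1 n46734 = n100094 := d15_0 (iv0 D100094) D100099 F154033
def n100100 : Q := act 0 n46730
theorem D100100 : act 0 n46730 = n100100 := rfl
theorem F154036 : act 5 n100100 = n98500 := d21_2 D46730 D100100 (iv6 D98500) (iv1 D46061) (iv6 D22003) F16701 (iv1 D4881) D4883 D10659 D22404
def n100101 : Q := act 1 n46730
theorem D100101 : act 1 n46730 = n100101 := rfl
theorem F154037 : act 1 n100101 = n46735 := d15_1 D100101 (iv7 F154023) F154022
def n100102 : Q := act 4 n46730
theorem D100102 : act 4 n46730 = n100102 := rfl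
def n100103 : Q := act 6 n46730
theorem D100103 : act 6 n46730 = n100103 := rfl
theorem F154038 : act 5 n100103 = n98981 := d12_1 D100103 (iv6 D98981) (iv5 F73853) (iv6 D46731) D46730
def n100104 : Q := act 7 n46730
theorem D100104 : act 7 n46730 = n100104 := rfl
theorem F154039 : act 2 n100104 = n46735 := d4_1 D100104 (iv7 F154023) F154022
theorem F154040 : act 5 n100104 = n46732 := d13_1 D100104 (iv7 D46732) D46730
theorem F154041 : act 1 n46735 = n100100 := d15_0 (iv0 D100100) D100104 F154039
def n100105 : Q := act 0 n46731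
theorem D100105 : act 0 n46731 = n100105 := rfl
def n100106 : Q := act 1 n46731
theorem D100106 : act 1 n46731 = n100106 := rfl
theorem F154042 : act 1 n100106 = n98976 := d15_1 D100106 (iv7 F154026) F154024
def n100107 : Q := act 7 n46731
theorem D100107 : act 7 n46731 = n100107 := rfl
theorem F154043 : act 2 n100107 = n98976 := d4_1 D100107 (iv7 F154026) F154024
theorem F154044 : act 5 n100107 = n98973 := d13_1 D100107 (iv7 F152503) (iv5 F73853)
theorem F154045 : act 1 n98976 = n100105 := d15_0 (iv0 D100105) D100107 F154043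
def n100108 : Q := act 6 n46732
theorem D100108 : act 6 n46732 = n100108 := rfl
theorem F154046 : act 2 n100108 = n46736 := d3_1 D100108 (iv6 D46736) (iv2 F73854)
def n100109 : Q := act 0 n46733
theorem D100109 : act 0 n46733 = n100109 := rfl
def n100110 : Q := act 1 n46733
theorem D100110 : act 1 n46733 = n100110 := rfl
def n100111 : Q := act 2 n46733
theorem D100111 : act 2 n46733 = n100111 := rfl
def n100112 : Q := act 4 n46733
theorem D100112 : act 4 n46733 = n100112 := rfl
def n100113 : Q := act 5 n46733
theorem D100113 : act 5 n46733 = n100113 := rfl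
theorem F154047 : act 3 n100113 = n46735 := d6_1 D100113 (iv5 D46735) D46733
def n100114 : Q := act 6 n46733
theorem D100114 : act 6 n46733 = n100114 := rfl
theorem F154048 : act 3 n100114 = n46736 := d7_1 D100114 (iv6 D46736) D46733
def n100115 : Q := act 3 n46734
theorem D100115 : act 3 n46734 = n100115 := rfl
def n100116 : Q := act 5 n46734
theorem D100116 : act 5 n46734 = n100116 := rfl
def n100117 : Q := act 6 n46734
theorem D100117 : act 6 n46734 = n100117 := rfl
theorem F154049 : act 4 n100117 = n46736 := d10_1 D100117 (iv6 D46736) D46734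
def n100118 : Q := act 4 n46735
theorem D100118 : act 4 n46735 = n100118 := rfl
def n100119 : Q := act 6 n46735
theorem D100119 : act 6 n46735 = n100119 := rfl
def n100120 : Q := act 0 n46736
theorem D100120 : act 0 n46736 = n100120 := rfl
def n100121 : Q := act 1 n46736
theorem D100121 : act 1 n46736 = n100121 := rfl
def n100122 : Q := act 5 n46736
theorem D100122 : act 5 n46736 = n100122 := rfl
theorem F154050 : act 0 n98470 = n100122 := d21_1 D98470 (iv5 D100122) (iv6 D46736) (iv1 D22405) (iv6 D10659) (iv5 D4883) D4880 (iv5 F16698) D22001 D46053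
def n100123 : Q := act 7 n46736
theorem D100123 : act 7 n46736 = n100123 := rfl
theorem F154051 : act 6 n100123 = n98976 := d14_1 D100123 (iv7 F154026) (iv6 D100086) (iv7 F73852) D46736
theorem F154052 : act 0 n100123 = n98357 := d21_4 D22141 D46302 D98976 (iv6 F154051) (iv6 D98357) D98356 F152502 (iv5 D98971) (iv6 D46301) (iv1 D22140)
theorem F154053 : act 1 n100108 = n98357 := d15_0 (iv0 F154052) (iv7 D100123) (iv2 F154046)
def n100124 : Q := act 2 n46737
theorem D100124 : act 2 n46737 = n100124 := rfl
theorem F154054 : act 7 n46738 = n100124 := d15_2 (iv0 D46737) D46738 (iv2 D100124)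
def n100125 : Q := act 3 n46737
theorem D100125 : act 3 n46737 = n100125 := rfl
def n100126 : Q := act 4 n46737
theorem D100126 : act 4 n46737 = n100126 := rfl
def n100127 : Q := act 5 n46737
theorem D100127 : act 5 n46737 = n100127 := rfl
def n100128 : Q := act 6 n46737
theorem D100128 : act 6 n46737 = n100128 := rfl
theorem F154055 : act 5 n100128 = n89577 := d21_6 (iv5 D22416) (iv1 D10661) D10662 (iv6 F34961) D46737 D100128 (iv1 D89577) D89578 F137324 (iv1 F66001)
def n100129 : Q := act 7 n46737
theorem D100129 : act 7 n46737 = n100129 := rfl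
theorem F154056 : act 2 n100129 = n46738 := d4_1 D100129 F154054 (iv2 D100124)
def n100130 : Q := act 3 n46738
theorem D100130 : act 3 n46738 = n100130 := rfl
def n100131 : Q := act 4 n46738
theorem D100131 : act 4 n46738 = n100131 := rfl
def n100132 : Q := act 6 n46738
theorem D100132 : act 6 n46738 = n100132 := rfl
def n100133 : Q := act 0 n46739
theorem D100133 : act 0 n46739 = n100133 := rfl
def n100134 : Q := act 1 n46739
theorem D100134 : act 1 n46739 = n100134 := rfl
def n100135 : Q := act 3 n46739
theorem D100135 : act 3 n46739 = n100135 := rfl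
theorem F154057 : act 6 n100135 = n46769 := d7_2 (iv6 F73855) D100135 (iv3 D46769)
def n100136 : Q := act 5 n46739
theorem D100136 : act 5 n46739 = n100136 := rfl
def n100137 : Q := act 7 n46739
theorem D100137 : act 7 n46739 = n100137 := rfl
theorem F154058 : act 4 n100137 = n46740 := d11_1 D100137 (iv7 D46740) D46739
def n100138 : Q := act 6 n46740
theorem D100138 : act 6 n46740 = n100138 := rfl
def n100139 : Q := act 4 n46741
theorem D100139 : act 4 n46741 = n100139 := rfl
theorem F154060 : act 7 n100139 = n92834 := d11_2 (iv7 F143204) D100139 (iv4 F143201)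
theorem F154061 : act 3 n100139 = n92600 := d20_3 (iv4 F65950) D46741 D100139 (iv1 D92600) (iv3 D43320) (iv4 F62754) (iv1 D22477) (iv4 F32543) (iv3 F68090) F68092
theorem F154062 : act 0 n92578 = n100139 := d20_10 (iv4 D100139) (iv1 F139730) F139728 (iv3 F139009) (iv1 F139014) D90743 (iv4 F143371) F143372 (iv4 D92579) D92578
theorem E14877 : n92829 = n92600 := ((c8_2 (iv7 F154060) F154061 (iv7 F143195) D92834)).symm
theorem F154063 : act 2 n92600 = n43439 := (sb E14877 (iv2 D92829))
theorem F154064 : act 7 n92600 = n43440 := (sb E14877 (iv7 F143195))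
theorem E14878 : n92833 = n92599 := (c15_4 (iv0 D92599) D92600 F154064 (iv2 F143198))
theorem E14879 : n90645 = n90300 := (((F143303).symm.trans (sb E14878 F143199))).symm
theorem F154066 : act 7 n92599 = n43439 := (sb E14878 (iv7 D92833))
theorem F154068 : act 7 n90300 = n42439 := (sb E14879 (iv7 F139558))
theorem F154069 : act 7 n48057 = n92934 := d11_2 F154068 F138902 (iv4 F143302)
theorem E14880 : n90650 = n90299 := (c15_4 (iv0 D90299) D90300 F154068 (iv2 F139560))
theorem F154070 : act 2 n90299 = n42439 := (sb E14880 F139560)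
theorem F154071 : act 7 n90299 = n42438 := (sb E14880 (iv7 D90650))
theorem F154072 : act 7 n48056 = n92933 := d11_2 F154071 (iv4 F143309) (iv4 F143300)
theorem F154073 : act 2 n92933 = n48057 := d15_3 F143310 F143308 F154072
def n100140 : Q := act 5 n46741
theorem D100140 : act 5 n46741 = n100140 := rfl
def n100141 : Q := act 6 n46741
theorem D100141 : act 6 n46741 = n100141 := rfl
def n100142 : Q := act 3 n46742
theorem D100142 : act 3 n46742 = n100142 := rfl
def n100145 : Q := act 5 n46743
theorem D100145 : act 5 n46743 = n100145 := rfl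
theorem F154075 : act 2 n100145 = n46744 := d2_1 D100145 (iv5 D46744) D46743
theorem F154076 : act 3 n100145 = n87884 := d6_1 D100145 (iv5 D87884) (iv3 F73857)
def n100146 : Q := act 6 n46743
theorem D100146 : act 6 n46743 = n100146 := rfl
theorem F154077 : act 2 n100146 = n46745 := d3_1 D100146 (iv6 D46745) D46743
theorem F154078 : act 3 n100146 = n87885 := d7_1 D100146 (iv6 D87885) (iv3 F73857)
theorem F154079 : act 4 n100146 = n94059 := d10_1 D100146 F144906 F138960
def n100147 : Q := act 0 n46744
theorem D100147 : act 0 n46744 = n100147 := rfl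
def n100148 : Q := act 1 n46744
theorem D100148 : act 1 n46744 = n100148 := rfl
def n100149 : Q := act 4 n46744
theorem D100149 : act 4 n46744 = n100149 := rfl
def n100150 : Q := act 6 n46744
theorem D100150 : act 6 n46744 = n100150 := rfl
theorem F154081 : act 3 n100150 = n46748 := d7_1 D100150 (iv6 D46748) (iv3 F73858)
def n100151 : Q := act 0 n46745
theorem D100151 : act 0 n46745 = n100151 := rfl
def n100152 : Q := act 1 n46745
theorem D100152 : act 1 n46745 = n100152 := rfl
def n100153 : Q := act 3 n46746
theorem D100153 : act 3 n46746 = n100153 := rfl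
def n100154 : Q := act 4 n46746
theorem D100154 : act 4 n46746 = n100154 := rfl
theorem F154082 : act 0 n100154 = n46778 := d18_2 (iv1 F73861) D100154 (iv4 D46778) (iv5 D22438) (iv4 D10666) (iv0 D4885) (iv4 F7239) D10661 D22416
theorem F154083 : act 1 n100154 = n46786 := d18_6 D41755 F64399 (iv1 F64007) (iv4 F136371) F136372 D100154 (iv4 D46786) F73321 (iv5 D41757)
def n100155 : Q := act 6 n46746
theorem D100155 : act 6 n46746 = n100155 := rfl
def n100156 : Q := act 0 n46747
theorem D100156 : act 0 n46747 = n100156 := rfl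
theorem F154084 : act 4 n100156 = n47932 := d18_3 (iv1 D46746) D46747 D100156 F75251 (iv4 F127104) (iv0 F127105) (iv4 F64090) F136374 F136372
theorem F154085 : act 1 n46754 = n100156 := d15_0 (iv0 D100156) (iv7 F139738) F139737
theorem F154086 : act 2 n89420 = n100156 := d1_3 F154084 (iv2 F75253) D89420
def n100157 : Q := act 1 n46747
theorem D100157 : act 1 n46747 = n100157 := rfl
theorem F154087 : act 1 n100157 = n46754 := d15_1 D100157 (iv7 F152923) F152922
theorem F154088 : act 7 n100157 = n89420 := d15_2 (iv0 D100156) D100157 F154086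
theorem F154089 : act 4 n100157 = n47933 := d18_7 F66080 F17155 D19266 (iv4 F66073) D22411 D46747 D100157 F75255 (iv5 D46444)
def n100158 : Q := act 3 n46747
theorem D100158 : act 3 n46747 = n100158 := rfl
def n100159 : Q := act 5 n46747
theorem D100159 : act 5 n46747 = n100159 := rfl
theorem F154090 : act 4 n100159 = n46813 := d16_2 D46747 D100159 F134686 (iv4 D87733) (iv5 D40874) (iv4 F66068) D22416 (iv7 F73301) F73300
def n100160 : Q := act 6 n46747
theorem D100160 : act 6 n46747 = n100160 := rfl
theorem F154092 : act 4 n100160 = n46748 := d10_1 D100160 (iv6 D46748) D46747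
def n100161 : Q := act 0 n46748
theorem D100161 : act 0 n46748 = n100161 := rfl
def n100162 : Q := act 1 n46748
theorem D100162 : act 1 n46748 = n100162 := rfl
def n100163 : Q := act 7 n46748
theorem D100163 : act 7 n46748 = n100163 := rfl
def n100164 : Q := act 4 n46749
theorem D100164 : act 4 n46749 = n100164 := rfl
theorem F154093 : act 2 n100164 = n48080 := d1_1 D100164 F75549 F73863
theorem F154094 : act 3 n100164 = n95452 := d5_1 D100164 (iv4 F153238) F153237 (iv4 F143897) F143896
theorem F154095 : act 7 n100164 = n87853 := d11_2 (iv7 F73862) D100164 F134841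
theorem F154096 : act 1 n87858 = n100164 := d15_1 D87858 F154095 F134839
theorem F154097 : act 1 n100164 = n87857 := d15_0 (iv0 D87857) (iv7 F75551) (iv2 F154093)
def n100165 : Q := act 5 n46749
theorem D100165 : act 5 n46749 = n100165 := rfl
theorem F154098 : act 2 n100165 = n87889 := d2_1 D100165 F134897 F73863
theorem F154099 : act 7 n100165 = n87877 := d13_2 (iv7 F73862) D100165 (iv5 D87877)
theorem F154100 : act 0 n100165 = n46764 := d21_1 D100165 F73881 (iv6 D46309) F69180 F69178 (iv5 F134448) (iv1 F152006) (iv5 F152008) (iv6 D87885) (iv1 F73865)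
theorem F154101 : act 1 n99318 = n87877 := d15_1 (iv0 F152927) (iv7 F154099) F154098
theorem F154102 : act 1 n100165 = n87886 := d15_0 (iv0 D87886) D87889 (iv2 F154098)
def n100166 : Q := act 4 n46750
theorem D100166 : act 4 n46750 = n100166 := rfl
theorem F154103 : act 2 n100166 = n46751 := d1_1 D100166 (iv4 D46751) D46750
theorem F154104 : act 3 n100166 = n47840 := d5_1 D100166 (iv4 F139010) F139009 (iv4 F139728) F139727
theorem F154105 : act 7 n100166 = n47831 := d11_2 (iv7 F73866) D100166 F75113
theorem F154106 : act 0 n47829 = n100166 := d20_10 (iv4 D100166) (iv1 F73868) (iv4 F134841) F134840 D95450 F147089 (iv4 F138897) (iv1 F138901) F138902 (iv3 F138904)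
theorem F154107 : act 1 n47830 = n100166 := d15_1 D47830 F154105 (iv2 D47831)
def n100167 : Q := act 5 n46750
theorem D100167 : act 5 n46750 = n100167 := rfl
theorem F154108 : act 2 n100167 = n46752 := d2_1 D100167 (iv5 D46752) D46750
theorem F154109 : act 7 n100167 = n87884 := d13_2 (iv7 F73866) D100167 (iv5 D87884)
def n100168 : Q := act 0 n46751
theorem D100168 : act 0 n46751 = n100168 := rfl
theorem F154110 : act 3 n100168 = n92934 := d20_5 (iv4 F65545) (iv1 F66064) F66066 (iv3 F73869) D100168 (iv4 F143302) (iv1 D90300) F65159 (iv3 D23040) D23038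
theorem F154111 : act 1 n47831 = n100168 := d15_0 (iv0 D100168) F73870 D47831
theorem F154112 : act 7 n47829 = n100168 := d8_0 F154110 (iv7 F154069) (iv3 F138904)
theorem F154113 : act 2 n100168 = n47830 := d15_3 F154107 (iv0 F154106) F154112
def n100169 : Q := act 1 n46751
theorem D100169 : act 1 n46751 = n100169 := rfl
theorem F154114 : act 1 n100169 = n47831 := d15_1 D100169 (iv7 F154105) F154103
theorem F154115 : act 7 n100169 = n47830 := d15_2 (iv0 D100168) D100169 (iv2 F154113)
theorem F154116 : act 2 n47829 = n100169 := d4_3 F154115 (iv2 F154113) (iv7 F154112)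
def n100170 : Q := act 5 n46751
theorem D100170 : act 5 n46751 = n100170 := rfl
theorem F154117 : act 3 n100170 = n47772 := d6_1 D100170 (iv5 D47772) (iv3 F73869)
theorem F154118 : act 7 n100170 = n47832 := d13_2 (iv7 F73870) D100170 (iv5 D47832)
def n100171 : Q := act 6 n46751
theorem D100171 : act 6 n46751 = n100171 := rfl
theorem F154119 : act 3 n100171 = n47773 := d7_1 D100171 (iv6 D47773) (iv3 F73869)
theorem F154120 : act 4 n100171 = n46753 := d10_1 D100171 (iv6 D46753) D46751
def n100172 : Q := act 0 n46752
theorem D100172 : act 0 n46752 = n100172 := rfl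
theorem F154122 : act 1 n87884 = n100172 := d15_0 (iv0 D100172) (iv7 F152921) F152919
theorem F154123 : act 5 n94095 = n100172 := d21_6 (iv5 F153889) (iv1 D98590) (iv5 D46089) D46090 D98593 (iv6 F151989) (iv1 F154122) (iv5 D87884) D87885 (iv1 F153890)
def n100173 : Q := act 1 n46752
theorem D100173 : act 1 n46752 = n100173 := rfl
theorem F154124 : act 1 n100173 = n87884 := d15_1 D100173 (iv7 F154109) F154108
def n100174 : Q := act 4 n46752
theorem D100174 : act 4 n46752 = n100174 := rfl
def n100175 : Q := act 6 n46752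
theorem D100175 : act 6 n46752 = n100175 := rfl
theorem F154125 : act 3 n100175 = n46755 := d7_1 D100175 (iv6 D46755) (iv3 F73871)
def n100176 : Q := act 1 n46753
theorem D100176 : act 1 n46753 = n100176 := rfl
def n100177 : Q := act 5 n46753
theorem D100177 : act 5 n46753 = n100177 := rfl
theorem F154126 : act 3 n100177 = n46758 := d6_1 D100177 (iv5 D46758) (iv3 F73872)
def n100178 : Q := act 3 n46754
theorem D100178 : act 3 n46754 = n100178 := rfl
def n100179 : Q := act 5 n46754
theorem D100179 : act 5 n46754 = n100179 := rfl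
theorem F154127 : act 4 n100179 = n46812 := d9_1 D100179 (iv5 F134671) (iv4 D87730) (iv5 D40870) (iv4 F66073) D22411 D46747 D100159 F154090 F134686 (iv4 D87733) (iv5 D40874) (iv4 F66068) D22416 D46754
theorem F154128 : act 0 n100179 = n99455 := d17_2 (iv1 F154085) D100179 (iv5 D99455) (iv4 D46498) (iv5 D22287) (iv0 F66080) D46444 F75252 (iv4 F154084)
def n100180 : Q := act 6 n46754
theorem D100180 : act 6 n46754 = n100180 := rfl
theorem F154129 : act 4 n100180 = n46755 := d10_1 D100180 (iv6 D46755) D46754
def n100181 : Q := act 0 n46755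
theorem D100181 : act 0 n46755 = n100181 := rfl
def n100182 : Q := act 1 n46755
theorem D100182 : act 1 n46755 = n100182 := rfl
def n100183 : Q := act 5 n46755
theorem D100183 : act 5 n46755 = n100183 := rfl
theorem F154130 : act 6 n100183 = n46758 := d12_2 D46755 D100183 (iv5 D46758) (iv6 D22417) D22416
def n100184 : Q := act 7 n46755
theorem D100184 : act 7 n46755 = n100184 := rfl
def n100185 : Q := act 3 n46756
theorem D100185 : act 3 n46756 = n100185 := rfl
theorem F154131 : act 5 n100185 = n98367 := d6_2 (iv5 F134008) D100185 (iv3 D98367)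
theorem F154132 : act 7 n100185 = n47616 := d8_2 (iv7 F134009) D100185 F74874
def n100186 : Q := act 4 n46758
theorem D100186 : act 4 n46758 = n100186 := rfl
theorem F154133 : act 0 n100186 = n89473 := d18_2 F135776 D100186 (iv4 D89473) (iv5 D41776) (iv4 F61803) F61673 F61670 (iv0 F63726) D88603
theorem F154134 : act 1 n100186 = n89465 := d18_6 F74653 (iv4 F68132) (iv1 F134005) F66071 D46758 D100186 (iv4 D89465) D89464 (iv5 F137132)
def n100187 : Q := act 0 n46760
theorem D100187 : act 0 n46760 = n100187 := rfl
def n100188 : Q := act 1 n46760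
theorem D100188 : act 1 n46760 = n100188 := rfl
def n100189 : Q := act 2 n46760
theorem D100189 : act 2 n46760 = n100189 := rfl
theorem F154135 : act 3 n100189 = n87886 := d0_2 D46760 D100189 (iv2 F152928) (iv3 D99318) F73313
def n100190 : Q := act 4 n46760
theorem D100190 : act 4 n46760 = n100190 := rfl
def n100191 : Q := act 5 n46760
theorem D100191 : act 5 n46760 = n100191 := rfl
theorem F154136 : act 3 n100191 = n46762 := d6_1 D100191 (iv5 D46762) D46760
theorem F154137 : act 7 n100191 = n88965 := d13_2 F152932 D100191 (iv5 F152931)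
theorem F154138 : act 6 n89541 = n100191 := d14_5 F154137 (iv6 D88965) F64086 D46321 (iv7 F137265)
def n100192 : Q := act 6 n46760
theorem D100192 : act 6 n46760 = n100192 := rfl
theorem F154139 : act 3 n100192 = n46763 := d7_1 D100192 (iv6 D46763) D46760
def n100193 : Q := act 3 n46761
theorem D100193 : act 3 n46761 = n100193 := rfl
def n100194 : Q := act 5 n46761
theorem D100194 : act 5 n46761 = n100194 := rfl
theorem F154140 : act 4 n100194 = n46805 := d16_2 D46761 D100194 (iv5 D46805) F73341 (iv5 F72967) F72966 F34964 (iv7 F73310) F73313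
def n100195 : Q := act 6 n46761
theorem D100195 : act 6 n46761 = n100195 := rfl
theorem F154141 : act 4 n100195 = n46763 := d10_1 D100195 (iv6 D46763) D46761
def n100196 : Q := act 0 n46763
theorem D100196 : act 0 n46763 = n100196 := rfl
def n100197 : Q := act 1 n46763
theorem D100197 : act 1 n46763 = n100197 := rfl
def n100198 : Q := act 7 n46763
theorem D100198 : act 7 n46763 = n100198 := rfl
def n100199 : Q := act 2 n46764
theorem D100199 : act 2 n46764 = n100199 := rfl
theorem F154142 : act 5 n100199 = n98989 := d2_2 (iv5 F73881) D100199 F152509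
theorem F154143 : act 7 n100199 = n87886 := d4_2 F152926 D100199 (iv2 F152928)
theorem F154144 : act 1 n100199 = n87889 := d15_0 (iv0 F152927) F152926 D100199
theorem F154145 : act 1 n87877 = n100199 := d15_0 F154144 (iv7 D87889) (iv2 F134887)
def n100200 : Q := act 4 n46764
theorem D100200 : act 4 n46764 = n100200 := rfl
def n100201 : Q := act 6 n46764
theorem D100201 : act 6 n46764 = n100201 := rfl
theorem F154146 : act 3 n100201 = n46766 := d7_1 D100201 (iv6 D46766) D46764
theorem F154147 : act 5 n100201 = n98992 := d12_1 D100201 (iv6 D98992) (iv5 D46308) D46309 (iv5 F73881)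
def n100202 : Q := act 3 n46765
theorem D100202 : act 3 n46765 = n100202 := rfl
def n100203 : Q := act 5 n46765
theorem D100203 : act 5 n46765 = n100203 := rfl
theorem F154148 : act 4 n100203 = n46803 := d9_1 D100203 (iv5 D46803) F63054 (iv5 F127417) F127416 (iv5 D46762) D46761 D100194 F154140 (iv5 D46805) F73341 (iv5 F72967) F72966 F34964 D46765
def n100204 : Q := act 6 n46765
theorem D100204 : act 6 n46765 = n100204 := rfl
theorem F154149 : act 4 n100204 = n46766 := d10_1 D100204 (iv6 D46766) D46765
def n100205 : Q := act 0 n46766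
theorem D100205 : act 0 n46766 = n100205 := rfl
def n100206 : Q := act 1 n46766
theorem D100206 : act 1 n46766 = n100206 := rfl
def n100207 : Q := act 7 n46766
theorem D100207 : act 7 n46766 = n100207 := rfl
theorem F154150 : act 5 n100207 = n99003 := d13_1 D100207 (iv7 D99003) (iv5 F73883)
def n100209 : Q := act 5 n46767
theorem D100209 : act 5 n46767 = n100209 := rfl
theorem F154151 : act 4 n100209 = n46800 := d16_2 F73929 D100209 (iv5 D46800) (iv4 D22468) F62647 (iv4 F34251) F62623 F73454 F73456
def n100210 : Q := act 6 n46767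
theorem D100210 : act 6 n46767 = n100210 := rfl
theorem F154152 : act 4 n100210 = n47051 := d10_1 D100210 (iv6 D47051) F73929
def n100214 : Q := act 0 n46769
theorem D100214 : act 0 n46769 = n100214 := rfl
def n100215 : Q := act 1 n46769
theorem D100215 : act 1 n46769 = n100215 := rfl
def n100216 : Q := act 2 n46769
theorem D100216 : act 2 n46769 = n100216 := rfl
def n100217 : Q := act 5 n46769
theorem D100217 : act 5 n46769 = n100217 := rfl
theorem F154155 : act 3 n100217 = n46770 := d6_1 D100217 (iv5 D46770) D46769
def n100218 : Q := act 7 n46769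
theorem D100218 : act 7 n46769 = n100218 := rfl
theorem F154156 : act 3 n100218 = n46771 := d8_1 D100218 (iv7 D46771) D46769
def n100219 : Q := act 0 n46770
theorem D100219 : act 0 n46770 = n100219 := rfl
theorem F154157 : act 5 n100219 = n46778 := d17_3 (iv1 D46768) D46770 D100219 (iv4 D46778) (iv5 D22438) F66059 D10721 D22629 (iv4 F73884)
theorem F154158 : act 4 n100219 = n46791 := d18_3 (iv1 F152998) F152995 D100219 (iv5 D46791) (iv4 D22456) F34992 D41841 (iv0 F134672) F134671
def n100220 : Q := act 1 n46770
theorem D100220 : act 1 n46770 = n100220 := rfl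
theorem F154160 : act 1 n100220 = n46814 := d15_1 D100220 F152945 F152943
theorem F154161 : act 5 n100220 = n46786 := d17_7 (iv1 F66001) (iv5 D22416) (iv1 D10661) D10662 D22420 D46770 D100220 (iv0 F137334) (iv4 D89582)
theorem F154162 : act 4 n100220 = n46784 := d18_7 (iv1 F66354) (iv4 D22464) (iv1 F34729) (iv4 F73345) (iv5 F152996) F152995 D100220 (iv0 F75003) (iv5 D47727)
def n100222 : Q := act 6 n46771
theorem D100222 : act 6 n46771 = n100222 := rfl
def n100225 : Q := act 2 n46773
theorem D100225 : act 2 n46773 = n100225 := rfl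
theorem F154164 : act 7 n46774 = n100225 := d15_2 (iv0 D46773) D46774 (iv2 D100225)
def n100226 : Q := act 3 n46773
theorem D100226 : act 3 n46773 = n100226 := rfl
theorem F154165 : act 4 n100226 = n100169 := d20_6 F7239 D4885 D10666 D22437 D46773 D100226 (iv1 D100169) (iv4 D46751) (iv3 D22414) (iv1 D10661)
theorem F154166 : act 0 n88039 = n100226 := d20_10 F154165 (iv1 D100169) (iv4 D46751) (iv3 D22414) (iv1 D10661) (iv3 F17205) (iv4 F34915) D46642 F135046 D88039
def n100227 : Q := act 4 n46773
theorem D100227 : act 4 n46773 = n100227 := rfl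
theorem F154167 : act 0 n100227 = n100016 := d20_1 D100227 (iv4 F153961) (iv3 D46706) (iv1 D22397) F17205 F7239 D4885 D10666 D22437 D46773
theorem F154168 : act 0 n99975 = n100227 := d20_10 (iv4 D100227) (iv1 F73886) F62205 (iv3 D41048) F62729 (iv3 F30987) (iv4 F34736) D46458 F73804 D99975
theorem E14881 : n99993 = n99975 := ((c15_2 (iv0 F154167) (iv0 F154168) F153938 D100016)).symm
theorem E14882 : n46700 = n46692 := ((((iv3 D99975)).symm.trans (sb E14881 (iv3 D99993)))).symm
theorem F154169 : act 7 n99975 = n46706 := (sb E14881 F153938)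
theorem E14883 : n99991 = n22399 := ((((iv1 F73802)).symm.trans (sb E14882 D99991))).symm
theorem E14885 : n99974 = n22396 := ((D99974).symm.trans (sb E14882 (iv2 D46700)))
theorem E14886 : n99994 = n46458 := ((((iv4 F73804)).symm.trans (sb E14882 D99994))).symm
theorem E14887 : n99995 = n99976 := (((D99976).symm.trans (sb E14882 D99995))).symm
theorem E14888 : n99996 = n98453 := (((F151865).symm.trans (sb E14882 D99996))).symm
theorem E14889 : n99977 = n22397 := ((D99977).symm.trans (sb E14882 (iv7 F73818)))
theorem E14890 : n46705 = n46693 := ((((iv1 F73797)).symm.trans (sb E14883 (iv1 F153936)))).symm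
theorem F154170 : act 2 n22396 = n46692 := (sb E14885 (iv2 D99974))
theorem E14891 : n99349 = n46702 := (((D46702).symm.trans (sb E14885 F153901))).symm
theorem E14892 : n99352 = n46707 := ((D99352).symm.trans (sb E14886 F153940))
theorem F154172 : act 7 n99976 = n46708 := (sb E14887 F153942)
theorem F154173 : act 2 n98453 = n46704 := (sb E14888 F153943)
theorem F154174 : act 7 n22397 = n46692 := (sb E14889 (iv7 D99977))
theorem F154175 : act 2 n46693 = n22397 := (sb E14890 F73821)
theorem E14893 : n100000 = n87767 := (((F134741).symm.trans (sb E14890 (iv3 F153948)))).symm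
theorem E14894 : n100004 = n46459 := (((F73798).symm.trans (sb E14890 (iv4 F153952)))).symm
theorem E14895 : n100009 = n99978 := (((D99978).symm.trans (sb E14890 (iv5 F153955)))).symm
theorem E14896 : n100013 = n99979 := (((D99979).symm.trans (sb E14890 D100013))).symm
theorem F154176 : act 7 n46693 = n22396 := (sb E14890 (iv7 D46705))
theorem F154177 : act 2 n46702 = n46458 := (sb E14891 (iv2 D99349))
theorem E14897 : n87765 = n87758 := ((((iv3 F134729)).symm.trans (sb E14892 F153007))).symm
theorem F154178 : act 7 n46707 = n46458 := (sb E14892 (iv7 D99352))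
theorem F154179 : act 2 n87767 = n47079 := (sb E14893 F153947)
theorem F154180 : act 7 n87767 = n46701 := (sb E14893 (iv7 D100000))
theorem F154181 : act 2 n46459 = n46707 := (sb E14894 F153951)
theorem F154182 : act 7 n46459 = n46702 := (sb E14894 (iv7 D100004))
theorem F154183 : act 2 n99978 = n46708 := (sb E14895 F153954)
theorem F154184 : act 7 n99978 = n46703 := (sb E14895 (iv7 D100009))
theorem F154185 : act 2 n99979 = n46709 := (sb E14896 F153957)
theorem F154186 : act 2 n87758 = n40896 := (sb E14897 F134739)
theorem F154187 : act 7 n87758 = n40895 := (sb E14897 (iv7 D87765))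
theorem E14898 : n99997 = n87762 := ((c11_2 F154187 D87762 (iv7 F153944) (iv4 F134730))).symm
theorem F154188 : act 2 n87762 = n46701 := (sb E14898 (iv2 D99997))
theorem F154189 : act 7 n87762 = n47079 := (sb E14898 (iv7 F153944))
theorem E14899 : n87761 = n87757 := (c15_4 (iv0 D87757) D87758 F154187 D87761)
theorem F154190 : act 2 n87757 = n40895 := (sb E14899 (iv2 D87761))
theorem F154191 : act 7 n87757 = n40896 := (sb E14899 (iv7 F134737))
theorem F154192 : act 2 n100020 = n99355 := d1_3 (iv4 F153905) F154185 (iv4 F153966)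
theorem F154193 : act 7 n100001 = n99353 := d8_2 F154182 D100001 (iv3 D99353)
theorem F154194 : act 7 n100002 = n99354 := d13_2 F154182 D100002 (iv5 D99354)
theorem F154195 : act 2 n100019 = n99354 := d2_3 (iv5 D99354) F154181 D100019
theorem F154196 : act 7 n99350 = n100019 := d13_2 F154178 D99350 (iv5 D100019)
theorem F154197 : act 2 n100002 = n99350 := d4_3 F154196 F154195 (iv7 F154194)
theorem F154198 : act 2 n99351 = n100003 := d3_3 (iv6 D100003) F154177 D99351
theorem E14900 : n98450 = n98405 := ((c2_3 D98453 F154173 F151823 F151864)).symm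
theorem F154199 : act 2 n98405 = n46046 := (sb E14900 F151864)
theorem F154200 : act 7 n98405 = n46045 := (sb E14900 (iv7 D98450))
theorem E14901 : n100012 = n98448 := ((c13_2 F154200 D98448 (iv7 D100012) F151823)).symm
theorem F154201 : act 7 n98448 = n46704 := (sb E14901 (iv7 D100012))
theorem E14902 : n98445 = n98404 := (c15_4 (iv0 D98404) D98405 F154200 D98445)
theorem F154202 : act 2 n98404 = n46045 := (sb E14902 (iv2 D98445))
theorem F154203 : act 7 n98404 = n46046 := (sb E14902 (iv7 F151863))
def n100230 : Q := act 7 n46773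
theorem D100230 : act 7 n46773 = n100230 := rfl
theorem F154204 : act 2 n100230 = n46774 := d4_1 D100230 F154164 (iv2 D100225)
def n100231 : Q := act 4 n46774
theorem D100231 : act 4 n46774 = n100231 := rfl
theorem F154205 : act 3 n100231 = n90789 := d5_1 D100231 F143201 (iv3 D92834) D92835 (iv3 F143206)
theorem F154206 : act 0 n100016 = n100231 := d20_10 (iv4 D100231) (iv1 D46774) F65978 (iv3 D22437) (iv1 F66079) (iv3 F73441) F73442 (iv1 F134728) F134730 (iv3 F153960)
theorem F154207 : act 7 n100015 = n100231 := d8_0 F154205 (iv7 F143204) (iv3 F153963)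
theorem E14903 : n100225 = n93326 := (c11_3 F154207 (iv4 D100231) F154164 F153962)
theorem F154208 : act 2 n93326 = n46773 := (sb E14903 (iv2 D100225))
theorem F154209 : act 7 n93326 = n46774 := (sb E14903 (iv7 F154164))
theorem F154210 : act 2 n100231 = n100014 := d15_3 (iv0 D100014) D100015 F154207
theorem F154211 : act 2 n87910 = n100142 := d0_3 (iv3 F154205) F154210 (iv3 F153959) (iv3 D100142) F143202
theorem E14904 : n100230 = n93327 := ((c1_3 D100231 F154210 F153958 F154204)).symm
theorem F154212 : act 2 n93327 = n46774 := (sb E14904 F154204)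
theorem F154214 : act 7 n100227 = n100014 := d15_2 (iv0 F154206) (iv0 F154167) (iv2 F154210)
theorem F154215 : act 2 n100015 = n100227 := d4_3 F154214 (iv2 F154210) (iv7 F154207)
theorem F154216 : act 1 n99975 = n100231 := d15_1 (iv0 F154168) (iv7 F154207) F154215
theorem F154217 : act 0 n90286 = n92834 := d20_1 (iv4 F138871) (iv4 F143201) (iv3 F154205) (iv1 F154216) (iv3 D99975) (iv4 F73804) (iv1 F129917) (iv4 F135042) (iv3 F143946) (iv1 F143951)
theorem F154218 : act 7 n87911 = n100142 := d15_2 (iv0 D87910) D87911 (iv2 F154211)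
theorem F154219 : act 3 n90790 = n87911 := d8_3 F154218 (iv3 D100142) (iv7 F143203)
def n100234 : Q := act 0 n46775
theorem D100234 : act 0 n46775 = n100234 := rfl
theorem F154220 : act 1 n87930 = n100234 := d15_0 (iv0 D100234) (iv7 F152955) F152953
def n100235 : Q := act 1 n46775
theorem D100235 : act 1 n46775 = n100235 := rfl
theorem F154221 : act 1 n100235 = n87930 := d15_1 D100235 (iv7 F143923) F143921
def n100236 : Q := act 4 n46775
theorem D100236 : act 4 n46775 = n100236 := rfl
def n100237 : Q := act 6 n46775
theorem D100237 : act 6 n46775 = n100237 := rfl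
theorem F154222 : act 3 n100237 = n46779 := d7_1 D100237 (iv6 D46779) (iv3 F73888)
def n100238 : Q := act 0 n46776
theorem D100238 : act 0 n46776 = n100238 := rfl
theorem F154223 : act 1 n98661 = n100238 := d15_0 (iv0 D100238) (iv7 F73891) D98661
def n100239 : Q := act 1 n46776
theorem D100239 : act 1 n46776 = n100239 := rfl
theorem F154224 : act 1 n100239 = n98661 := d15_1 D100239 F152097 F143924
def n100240 : Q := act 3 n46777
theorem D100240 : act 3 n46777 = n100240 := rfl
def n100241 : Q := act 4 n46777
theorem D100241 : act 4 n46777 = n100241 := rfl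
theorem F154225 : act 2 n100241 = n100157 := d1_1 D100241 F154089 (iv2 F75258)
theorem F154226 : act 7 n100241 = n100156 := d11_2 (iv7 F75254) D100241 F154084
theorem F154227 : act 0 n100241 = n99317 := d18_2 (iv1 F73892) D100241 (iv4 D99317) (iv5 D46438) (iv4 F66040) (iv0 D22608) F17245 (iv0 F66060) D22454
theorem F154228 : act 1 n100241 = n90794 := d18_6 (iv1 F73877) (iv4 F127416) (iv1 F139756) F139755 F136262 D100241 (iv4 D90794) (iv0 F136367) (iv5 D88893)
def n100242 : Q := act 6 n46777
theorem D100242 : act 6 n46777 = n100242 := rfl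
theorem F154229 : act 5 n100242 = n47491 := d12_1 D100242 (iv6 D47491) (iv5 F72162) (iv6 F136263) F136262
def n100243 : Q := act 3 n46778
theorem D100243 : act 3 n46778 = n100243 := rfl
def n100244 : Q := act 6 n46778
theorem D100244 : act 6 n46778 = n100244 := rfl
theorem F154230 : act 4 n100244 = n46779 := d10_1 D100244 (iv6 D46779) D46778
def n100245 : Q := act 0 n46779
theorem D100245 : act 0 n46779 = n100245 := rfl
def n100246 : Q := act 1 n46779
theorem D100246 : act 1 n46779 = n100246 := rfl
def n100247 : Q := act 7 n46779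
theorem D100247 : act 7 n46779 = n100247 := rfl
def n100248 : Q := act 3 n46780
theorem D100248 : act 3 n46780 = n100248 := rfl
theorem F154231 : act 4 n100248 = n91294 := d5_2 D46780 D100248 (iv3 D91294) F73722 (iv3 F73723)
def n100249 : Q := act 5 n46780
theorem D100249 : act 5 n46780 = n100249 := rfl
def n100250 : Q := act 3 n46781
theorem D100250 : act 3 n46781 = n100250 := rfl
theorem F154234 : act 4 n100250 = n91286 := d5_2 (iv4 F73893) D100250 (iv3 D91286) (iv4 D42726) (iv3 F66361)
def n100251 : Q := act 5 n46781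
theorem D100251 : act 5 n46781 = n100251 := rfl
def n100252 : Q := act 3 n46782
theorem D100252 : act 3 n46782 = n100252 := rfl
def n100254 : Q := act 0 n46783
theorem D100254 : act 0 n46783 = n100254 := rfl
def n100255 : Q := act 1 n46783
theorem D100255 : act 1 n46783 = n100255 := rfl
def n100256 : Q := act 2 n46783
theorem D100256 : act 2 n46783 = n100256 := rfl
def n100257 : Q := act 5 n46783
theorem D100257 : act 5 n46783 = n100257 := rfl
def n100258 : Q := act 6 n46783
theorem D100258 : act 6 n46783 = n100258 := rfl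
theorem F154241 : act 3 n100258 = n46785 := d7_1 D100258 (iv6 D46785) D46783
def n100259 : Q := act 0 n46784
theorem D100259 : act 0 n46784 = n100259 := rfl
theorem F154243 : act 5 n100259 = n46796 := d17_1 D100259 (iv1 F73922) D46800 (iv4 F154151) (iv5 D100209) (iv0 D46767) D46770 D100220 F154162
theorem F154244 : act 4 n100259 = n47056 := d18_3 (iv1 F154160) F154162 D100259 (iv5 D47056) (iv4 D22630) D22629 (iv4 F73884) F152949 F152948
def n100260 : Q := act 6 n46784
theorem D100260 : act 6 n46784 = n100260 := rfl
def n100262 : Q := act 3 n46786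
theorem D100262 : act 3 n46786 = n100262 := rfl
theorem F154250 : act 4 n100262 = n93441 := d5_2 D46786 D100262 (iv3 D93441) (iv4 D43700) (iv3 F65705)
def n100263 : Q := act 6 n46786
theorem D100263 : act 6 n46786 = n100263 := rfl
theorem F154251 : act 4 n100263 = n46787 := d10_1 D100263 (iv6 D46787) D46786
def n100264 : Q := act 0 n46787
theorem D100264 : act 0 n46787 = n100264 := rfl
def n100265 : Q := act 1 n46787
theorem D100265 : act 1 n46787 = n100265 := rfl
def n100266 : Q := act 5 n46787
theorem D100266 : act 5 n46787 = n100266 := rfl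
theorem F154252 : act 3 n100266 = n93446 := d6_1 D100266 (iv5 D93446) (iv3 F73900)
theorem F154253 : act 6 n100266 = n46789 := d12_2 D46787 D100266 (iv5 D46789) (iv6 D22455) D22454
def n100267 : Q := act 7 n46787
theorem D100267 : act 7 n46787 = n100267 := rfl
theorem F154254 : act 3 n100267 = n93447 := d8_1 D100267 (iv7 D93447) (iv3 F73900)
def n100268 : Q := act 3 n46788
theorem D100268 : act 3 n46788 = n100268 := rfl
theorem F154255 : act 5 n100268 = n89475 := d6_2 (iv5 F73908) D100268 (iv3 D89475)
theorem F154256 : act 7 n100268 = n47475 := d8_2 (iv7 F73902) D100268 F74651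
def n100269 : Q := act 4 n46789
theorem D100269 : act 4 n46789 = n100269 := rfl
def n100270 : Q := act 0 n46790
theorem D100270 : act 0 n46790 = n100270 := rfl
def n100273 : Q := act 5 n46790
theorem D100273 : act 5 n46790 = n100273 := rfl
theorem F154259 : act 3 n100273 = n46791 := d6_1 D100273 (iv5 D46791) D46790
def n100287 : Q := act 3 n46799
theorem D100287 : act 3 n46799 = n100287 := rfl
theorem F154281 : act 5 n100287 = n47050 := d6_2 (iv5 F73928) D100287 (iv3 D47050)
theorem F154282 : act 6 n100287 = n89540 := d7_2 (iv6 F73926) D100287 (iv3 D89540)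
theorem F154283 : act 7 n100287 = n88990 := d8_2 (iv7 F73927) D100287 F136600
def n100296 : Q := act 0 n46803
theorem D100296 : act 0 n46803 = n100296 := rfl
theorem F154294 : act 5 n100296 = n47938 := d17_3 D22470 D46803 D100296 (iv4 D47938) F65675 F63537 (iv5 D22465) (iv0 D10674) D10676
theorem F154296 : act 2 n100249 = n100296 := d2_3 F154294 F75278 D100249
def n100297 : Q := act 1 n46803
theorem D100297 : act 1 n46803 = n100297 := rfl
theorem F154299 : act 7 n100297 = n100249 := d15_2 (iv0 D100296) D100297 F154296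
theorem F154301 : act 5 n47936 = n100297 := d13_3 F154299 (iv5 D100249) (iv7 F75265)
def n100325 : Q := act 6 n46810
theorem D100325 : act 6 n46810 = n100325 := rfl
theorem F154318 : act 5 n100325 = n88711 := d12_1 D100325 (iv6 D88711) (iv5 D41414) (iv6 F35020) D46810
def n100335 : Q := act 1 n46815
theorem D100335 : act 1 n46815 = n100335 := rfl
def n100336 : Q := act 7 n46815
theorem D100336 : act 7 n46815 = n100336 := rfl
theorem F154324 : act 5 n100336 = n88720 := d13_1 D100336 (iv7 D88720) (iv5 F73936)
def n100338 : Q := act 5 n46817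
theorem D100338 : act 5 n46817 = n100338 := rfl
theorem F154325 : act 7 n100338 = n88724 := d13_2 (iv7 F73939) D100338 (iv5 D88724)
def n100339 : Q := act 0 n46821
theorem D100339 : act 0 n46821 = n100339 := rfl
def n100340 : Q := act 1 n46821
theorem D100340 : act 1 n46821 = n100340 := rfl
def n100341 : Q := act 5 n46821
theorem D100341 : act 5 n46821 = n100341 := rfl
def n100342 : Q := act 7 n46821
theorem D100342 : act 7 n46821 = n100342 := rfl
def n100343 : Q := act 0 n46822
theorem D100343 : act 0 n46822 = n100343 := rfl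
def n100344 : Q := act 1 n46822
theorem D100344 : act 1 n46822 = n100344 := rfl
def n100345 : Q := act 5 n46822
theorem D100345 : act 5 n46822 = n100345 := rfl
theorem F154326 : act 6 n100345 = n76557 := d12_2 D46822 D100345 F114797 (iv6 F77067) F72752
def n100346 : Q := act 7 n46822
theorem D100346 : act 7 n46822 = n100346 := rfl
def n100347 : Q := act 5 n46823
theorem D100347 : act 5 n46823 = n100347 := rfl
theorem F154327 : act 2 n100347 = n46827 := d2_1 D100347 (iv5 D46827) (iv2 F73963)
theorem F154328 : act 3 n100347 = n90489 := d6_1 D100347 (iv5 D90489) (iv3 F73964)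
theorem F154329 : act 6 n100347 = n76639 := d12_2 D46823 D100347 (iv5 D76639) (iv6 D35030) F35032
def n100348 : Q := act 0 n46824
theorem D100348 : act 0 n46824 = n100348 := rfl
theorem F154330 : act 3 n100348 = n49317 := d20_5 D43432 F94178 F67740 (iv3 F73968) D100348 F139433 (iv1 F139445) (iv4 F139443) F139442 (iv1 F65498)
theorem F154331 : act 4 n100348 = n59324 := d20_0 F93551 F94176 (iv3 F94175) F83806 F82974 D43432 F94178 F67740 (iv3 F73968) D100348
theorem F154332 : act 2 n70200 = n100348 := d15_3 (iv0 D100348) (iv0 F114742) F114741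
theorem F154333 : act 1 n76640 = n100348 := d15_0 (iv0 D100348) (iv7 F94209) (iv2 F114954)
theorem F154334 : act 7 n100348 = n70201 := d15_2 F114957 F154333 (iv2 F114738)
theorem F154335 : act 6 n49314 = n100348 := d14_5 F154334 F106660 F94193 (iv6 F55549) (iv7 F77969)
def n100349 : Q := act 5 n46824
theorem D100349 : act 5 n46824 = n100349 := rfl
theorem F154336 : act 2 n100349 = n76639 := d2_1 D100349 (iv5 D76639) (iv2 F73967)
theorem F154337 : act 3 n100349 = n46830 := d6_1 D100349 (iv5 D46830) (iv3 F73968)
theorem F154338 : act 6 n100349 = n46827 := d12_2 D46824 D100349 (iv5 D46827) (iv6 D22484) D22483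
theorem F154339 : act 0 n100349 = n76252 := d17_2 F114742 D100349 (iv5 D76252) (iv4 D34831) D34832 (iv0 F106637) (iv5 D70188) F79157 (iv4 F114740)
theorem F154340 : act 1 n100349 = n76248 := d17_6 (iv1 F42269) (iv5 F86472) (iv1 F86473) (iv5 F55595) (iv4 F73969) D100349 (iv5 D76248) (iv0 F55078) (iv4 D26457)
def n100350 : Q := act 2 n46825
theorem D100350 : act 2 n46825 = n100350 := rfl
theorem F154341 : act 7 n46826 = n100350 := d15_2 (iv0 D46825) D46826 (iv2 D100350)
def n100351 : Q := act 4 n46825
theorem D100351 : act 4 n46825 = n100351 := rfl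
theorem F154342 : act 3 n100351 = n87967 := d5_1 D100351 (iv4 F138868) (iv3 D90281) D90282 (iv3 F138869)
theorem F154343 : act 0 n100351 = n90608 := d20_1 D100351 (iv4 D90608) (iv3 F139640) (iv1 D43453) (iv3 D20543) (iv4 F62793) (iv1 D10683) (iv4 F17225) (iv3 F35048) D46825
def n100352 : Q := act 5 n46825
theorem D100352 : act 5 n46825 = n100352 := rfl
def n100353 : Q := act 6 n46825
theorem D100353 : act 6 n46825 = n100353 := rfl
def n100354 : Q := act 7 n46825
theorem D100354 : act 7 n46825 = n100354 := rfl
theorem F154344 : act 2 n100354 = n46826 := d4_1 D100354 F154341 (iv2 D100350)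
def n100355 : Q := act 3 n46826
theorem D100355 : act 3 n46826 = n100355 := rfl
def n100356 : Q := act 4 n46826
theorem D100356 : act 4 n46826 = n100356 := rfl
theorem F154345 : act 3 n100356 = n47074 := d20_3 (iv4 F143352) (iv1 F143357) D100356 (iv1 D47074) (iv3 F73483) F73484 D95450 F147090 (iv3 D46871) (iv1 F74062)
theorem F154346 : act 0 n100356 = n90613 := d20_10 (iv4 D90613) (iv1 D42422) D42424 (iv3 F66347) (iv1 F36477) (iv3 F62000) (iv4 F73442) (iv1 F153147) (iv4 F153148) (iv3 F154345)
theorem E14905 : n100355 = n92679 := ((c20_5 (iv4 D87985) (iv1 F134960) (iv4 F142698) F142703 (iv1 F142822) (iv3 D100355) D100356 F154346 (iv4 D90613) D90612 F153146)).symm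
theorem F154347 : act 3 n92679 = n46826 := (sb E14905 (iv3 D100355))
theorem F154348 : act 0 n90608 = n100356 := d20_1 D90608 (iv4 D100356) (iv3 F154347) (iv1 D92679) F68084 F32537 F65861 (iv4 D20031) D20030 D42421
def n100357 : Q := act 5 n46826
theorem D100357 : act 5 n46826 = n100357 := rfl
def n100358 : Q := act 6 n46826
theorem D100358 : act 6 n46826 = n100358 := rfl
def n100359 : Q := act 0 n46827
theorem D100359 : act 0 n46827 = n100359 := rfl
def n100360 : Q := act 1 n46827
theorem D100360 : act 1 n46827 = n100360 := rfl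
def n100361 : Q := act 4 n46827
theorem D100361 : act 4 n46827 = n100361 := rfl
def n100362 : Q := act 4 n46830
theorem D100362 : act 4 n46830 = n100362 := rfl
theorem F154349 : act 6 n100362 = n46833 := d10_2 (iv6 F73971) D100362 (iv4 D46833)
theorem F154350 : act 0 n100362 = n92822 := d18_2 (iv1 F83349) D100362 (iv4 D92822) F83441 F83312 F114224 F114222 F83320 (iv5 F83348)
theorem F154351 : act 1 n100362 = n92824 := d18_6 (iv1 F65498) D43432 F94178 F67740 D46830 D100362 (iv4 D92824) F139467 F139466
def n100363 : Q := act 7 n46830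
theorem D100363 : act 7 n46830 = n100363 := rfl
theorem F154352 : act 5 n100363 = n46831 := d13_1 D100363 (iv7 D46831) D46830
def n100364 : Q := act 3 n46832
theorem D100364 : act 3 n46832 = n100364 := rfl
theorem F154353 : act 0 n87972 = n100364 := d20_4 D90317 (iv1 F139158) (iv4 D90412) (iv3 F134962) (iv3 D100364) (iv4 F142669) (iv1 F142670) F68330 F32644 (iv1 F65174)
def n100365 : Q := act 6 n46832
theorem D100365 : act 6 n46832 = n100365 := rfl
def n100366 : Q := act 3 n46833
theorem D100366 : act 3 n46833 = n100366 := rfl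
def n100367 : Q := act 5 n46833
theorem D100367 : act 5 n46833 = n100367 := rfl
theorem F154354 : act 0 n100367 = n92856 := d17_2 (iv1 F73972) D100367 (iv5 D92856) (iv4 D43446) (iv5 D20540) (iv0 D9746) D9748 D20548 D43468
def n100371 : Q := act 3 n46841
theorem D100371 : act 3 n46841 = n100371 := rfl
theorem F154366 : act 5 n100371 = n93103 := d6_2 F74011 D100371 (iv3 D93103)
def n100374 : Q := act 7 n46844
theorem D100374 : act 7 n46844 = n100374 := rfl
theorem F154382 : act 5 n100374 = n47682 := d13_1 D100374 (iv7 F138508) (iv5 F138511)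
theorem F154383 : act 6 n100374 = n92483 := d14_1 D100374 F142345 (iv6 F137385) F73947 D46844
def n100375 : Q := act 0 n46846
theorem D100375 : act 0 n46846 = n100375 := rfl
def n100376 : Q := act 1 n46846
theorem D100376 : act 1 n46846 = n100376 := rfl
def n100377 : Q := act 2 n46846
theorem D100377 : act 2 n46846 = n100377 := rfl
theorem F154387 : act 4 n100377 = n46962 := d1_2 (iv4 F74034) D100377 (iv2 D46962)
theorem F154388 : act 6 n100377 = n88737 := d3_2 (iv6 F74035) D100377 (iv2 D88737)
def n100378 : Q := act 5 n46846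
theorem D100378 : act 5 n46846 = n100378 := rfl
def n100379 : Q := act 4 n46847
theorem D100379 : act 4 n46847 = n100379 := rfl
theorem F154390 : act 5 n100379 = n92895 := d16_3 D22502 D46847 D100379 F143271 (iv5 D92619) (iv4 F68012) (iv5 F73960) (iv7 D46820) F35024
def n100380 : Q := act 6 n46847
theorem D100380 : act 6 n46847 = n100380 := rfl
theorem F154393 : act 5 n100380 = n88739 := d12_1 D100380 (iv6 D88739) (iv5 D41425) (iv6 F35053) D46847
def n100381 : Q := act 0 n46849
theorem D100381 : act 0 n46849 = n100381 := rfl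
theorem F154394 : act 1 n48232 = n100381 := d15_0 (iv0 D100381) (iv7 F153675) F153672
def n100382 : Q := act 1 n46849
theorem D100382 : act 1 n46849 = n100382 := rfl
theorem F154395 : act 1 n100382 = n48232 := d15_1 D100382 F75826 (iv2 F74038)
theorem F154396 : act 3 n99582 = n100382 := d20_3 F34815 (iv1 F73538) D99582 (iv1 D100382) F74039 (iv4 F65444) D90520 (iv4 F153323) (iv3 D99576) (iv1 F73545)
theorem F154397 : act 7 n100382 = n87742 := d8_2 (iv7 F153417) F154396 F134707
theorem F154398 : act 2 n87742 = n100381 := d15_3 (iv0 D100381) D100382 F154397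
theorem F154399 : act 2 n100382 = n87743 := d15_3 F153677 (iv0 F153676) (iv7 F154397)
theorem F154400 : act 3 n87743 = n90487 := d0_2 F154396 F154399 (iv2 F153476) F74712 (iv2 F153416)
theorem F154401 : act 7 n87743 = n100381 := d4_2 (iv7 F154397) F154399 (iv2 F154398)
theorem F154402 : act 3 n100381 = n47513 := d8_1 F154401 (iv7 F153477) (iv3 F154400)
def n100383 : Q := act 5 n46849
theorem D100383 : act 5 n46849 = n100383 := rfl
theorem F154403 : act 2 n100383 = n87744 := d2_1 D100383 (iv5 D87744) (iv2 F74038)
theorem F154404 : act 3 n100383 = n46850 := d6_1 D100383 (iv5 D46850) (iv3 F74039)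
def n100384 : Q := act 0 n46850
theorem D100384 : act 0 n46850 = n100384 := rfl
theorem F154405 : act 1 n47582 = n100384 := d15_0 (iv0 D100384) (iv7 F153679) F153678
def n100385 : Q := act 4 n46850
theorem D100385 : act 4 n46850 = n100385 := rfl
def n100386 : Q := act 5 n46851
theorem D100386 : act 5 n46851 = n100386 := rfl
theorem F154406 : act 2 n100386 = n47635 := d2_1 D100386 (iv5 D47635) (iv2 F143009)
def n100387 : Q := act 6 n46851
theorem D100387 : act 6 n46851 = n100387 := rfl
theorem F154407 : act 2 n100387 = n47636 := d3_1 D100387 (iv6 D47636) (iv2 F143009)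
theorem F154408 : act 5 n98905 = n100387 := d21_2 D46284 D98905 (iv6 D100387) (iv1 D46851) (iv6 D22507) (iv5 F44595) (iv1 D22132) (iv5 D10552) D10553 D22135
def n100388 : Q := act 1 n46852
theorem D100388 : act 1 n46852 = n100388 := rfl
def n100389 : Q := act 4 n46852
theorem D100389 : act 4 n46852 = n100389 := rfl
def n100390 : Q := act 7 n46852
theorem D100390 : act 7 n46852 = n100390 := rfl
theorem F154409 : act 3 n100390 = n87717 := d8_1 D100390 F134631 (iv3 F74042)
theorem F154410 : act 5 n100390 = n46853 := d13_1 D100390 (iv7 D46853) D46852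
def n100391 : Q := act 6 n46854
theorem D100391 : act 6 n46854 = n100391 := rfl
theorem F154411 : act 2 n100391 = n46866 := d3_1 D100391 (iv6 D46866) (iv2 F74048)
theorem F154412 : act 3 n100391 = n55379 := d7_1 D100391 (iv6 D55379) (iv3 F74049)
theorem F154413 : act 4 n100391 = n46855 := d10_1 D100391 (iv6 D46855) D46854
def n100392 : Q := act 0 n46855
theorem D100392 : act 0 n46855 = n100392 := rfl
def n100393 : Q := act 1 n46855
theorem D100393 : act 1 n46855 = n100393 := rfl
theorem F154414 : act 1 n100393 = n46870 := d15_1 D100393 (iv7 D46870) (iv2 F74054)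
def n100394 : Q := act 5 n46855
theorem D100394 : act 5 n46855 = n100394 := rfl
theorem F154415 : act 2 n100394 = n46869 := d2_1 D100394 (iv5 D46869) (iv2 F74054)
theorem F154416 : act 3 n100394 = n56719 := d6_1 D100394 (iv5 D56719) (iv3 F74055)
theorem F154417 : act 6 n100394 = n46857 := d12_2 D46855 D100394 (iv5 D46857) (iv6 D22509) D22508
def n100395 : Q := act 7 n46855
theorem D100395 : act 7 n46855 = n100395 := rfl
theorem F154418 : act 2 n100395 = n46870 := d4_1 D100395 (iv7 D46870) (iv2 F74054)
theorem F154419 : act 3 n100395 = n55566 := d8_1 D100395 F91442 (iv3 F74055)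
theorem F154420 : act 6 n100395 = n82021 := d14_1 D100395 (iv7 D82021) (iv6 D37583) (iv7 F35063) D46855
theorem F154421 : act 1 n46870 = n100392 := d15_0 (iv0 D100392) D100395 F154418
theorem F154422 : act 1 n46868 = n100395 := d15_1 D46868 (iv7 D100395) F74054
theorem F154423 : act 1 n100395 = n46867 := d15_0 (iv0 D46867) D46870 (iv2 F154418)
def n100396 : Q := act 3 n46856
theorem D100396 : act 3 n46856 = n100396 := rfl
theorem F154424 : act 2 n100396 = n47882 := d0_1 D100396 (iv3 D47882) F66121 (iv3 F66123) F74058
theorem F154425 : act 4 n100396 = n47893 := d5_2 F138917 D100396 F139564 (iv4 D90653) (iv3 F138916)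
theorem F154426 : act 7 n100396 = n46871 := d8_2 (iv7 F74057) D100396 (iv3 D46871)
theorem F154427 : act 1 n87799 = n100396 := d15_1 D87799 F154426 F74086
theorem F154428 : act 3 n87799 = n99374 := d20_5 (iv4 D90608) (iv1 F138919) F138917 D100396 (iv1 F154427) (iv4 F153028) F143242 F138868 (iv3 F154342) F154343
theorem F154429 : act 1 n100396 = n87798 := d15_0 (iv0 D87798) (iv7 F75166) (iv2 F154424)
def n100397 : Q := act 5 n46856
theorem D100397 : act 5 n46856 = n100397 := rfl
theorem F154430 : act 2 n100397 = n46874 := d2_1 D100397 (iv5 D46874) F74058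
theorem F154431 : act 7 n100397 = n46872 := d13_2 (iv7 F74057) D100397 (iv5 D46872)
def n100398 : Q := act 0 n46857
theorem D100398 : act 0 n46857 = n100398 := rfl
def n100399 : Q := act 1 n46857
theorem D100399 : act 1 n46857 = n100399 := rfl
theorem F154432 : act 1 n100399 = n46879 := d15_1 D100399 (iv7 D46879) (iv2 F74059)
theorem F154433 : act 5 n89036 = n100399 := d21_6 (iv5 F60112) (iv1 F60114) (iv5 D19584) D19585 D41584 D89036 (iv1 D100399) (iv5 D46857) (iv6 D22509) (iv1 F34692)
theorem F154434 : act 2 n100399 = n46877 := d2_1 F154433 F135031 (iv2 F136710)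
def n100400 : Q := act 4 n46857
theorem D100400 : act 4 n46857 = n100400 := rfl
theorem F154435 : act 2 n100400 = n46878 := d1_1 D100400 (iv4 D46878) (iv2 F74059)
def n100401 : Q := act 7 n46857
theorem D100401 : act 7 n46857 = n100401 := rfl
theorem F154436 : act 2 n100401 = n46879 := d4_1 D100401 (iv7 D46879) (iv2 F74059)
theorem F154437 : act 5 n100401 = n46858 := d13_1 D100401 (iv7 D46858) D46857
theorem F154438 : act 1 n46879 = n100398 := d15_0 (iv0 D100398) D100401 F154436
theorem F154439 : act 1 n46877 = n100401 := d15_1 D46877 (iv7 D100401) F74059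
theorem F154440 : act 7 n100398 = n46877 := d15_2 F154432 F154438 (iv2 F154434)
theorem F154441 : act 3 n48211 = n100398 := d20_3 D41099 D88020 F135025 (iv1 F154438) F74090 (iv4 F74132) (iv1 F147828) (iv4 D96155) F70476 (iv1 D41098)
theorem F154442 : act 2 n100398 = n46876 := d15_3 (iv0 D46876) D46877 (iv7 F154440)
theorem F154443 : act 7 n46876 = n100399 := d4_2 (iv7 F154440) F154442 F154434
theorem F154444 : act 1 n100401 = n46876 := d15_1 F154439 F154443 F154434
def n100402 : Q := act 6 n46859
theorem D100402 : act 6 n46859 = n100402 := rfl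
theorem F154446 : act 3 n100402 = n46861 := d7_1 D100402 (iv6 D46861) D46859
def n100403 : Q := act 1 n46860
theorem D100403 : act 1 n46860 = n100403 := rfl
theorem F154447 : act 1 n100403 = n46862 := d15_1 D100403 F74072 (iv2 F74066)
theorem F154448 : act 7 n100403 = n76679 := d15_2 F106651 D100403 (iv2 F115032)
theorem F154449 : act 5 n100403 = n76753 := d17_7 (iv1 F55605) (iv5 D35023) (iv1 D17000) D17001 D35026 (iv5 F74068) D100403 F115136 (iv4 D54092)
theorem F154450 : act 4 n100403 = n92761 := d17_9 F143058 F74336 F68964 (iv5 F74236) (iv4 F90717) (iv5 F90718) (iv0 F55614) (iv5 F74068) D100403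
theorem F154451 : act 2 n76680 = n100403 := d1_3 F154450 F143055 (iv4 F115036)
def n100404 : Q := act 6 n46860
theorem D100404 : act 6 n46860 = n100404 := rfl
theorem F154453 : act 4 n100404 = n46861 := d10_1 D100404 (iv6 D46861) D46860
def n100405 : Q := act 0 n46861
theorem D100405 : act 0 n46861 = n100405 := rfl
def n100406 : Q := act 1 n46861
theorem D100406 : act 1 n46861 = n100406 := rfl
def n100407 : Q := act 5 n46861
theorem D100407 : act 5 n46861 = n100407 := rfl
theorem F154456 : act 6 n100407 = n89023 := d12_2 D46861 D100407 (iv5 D89023) (iv6 D41580) (iv5 F35068)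
def n100408 : Q := act 7 n46861
theorem D100408 : act 7 n46861 = n100408 := rfl
theorem F154457 : act 2 n100408 = n98865 := d4_1 D100408 (iv7 D98865) (iv2 F74069)
theorem F154458 : act 6 n100408 = n98857 := d14_1 D100408 (iv7 D98857) (iv6 D46262) F35071 D46861
theorem F154459 : act 1 n98865 = n100405 := d15_0 (iv0 D100405) D100408 F154457
theorem F154460 : act 1 n98863 = n100408 := d15_1 D98863 (iv7 D100408) F74069
theorem F154461 : act 1 n100408 = n98862 := d15_0 (iv0 D98862) D98865 (iv2 F154457)
def n100409 : Q := act 3 n46862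
theorem D100409 : act 3 n46862 = n100409 := rfl
theorem F154462 : act 4 n100409 = n71539 := d5_2 D46862 D100409 F108055 F57821 F35075
theorem F154463 : act 5 n100409 = n76678 := d6_2 (iv5 F74071) D100409 F115026
def n100410 : Q := act 6 n46862
theorem D100410 : act 6 n46862 = n100410 := rfl
theorem F154465 : act 2 n100410 = n98853 := d3_1 D100410 (iv6 D98853) (iv2 F74070)
theorem F154466 : act 4 n100410 = n46863 := d10_1 D100410 (iv6 D46863) D46862
def n100411 : Q := act 0 n46863
theorem D100411 : act 0 n46863 = n100411 := rfl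
def n100412 : Q := act 1 n46863
theorem D100412 : act 1 n46863 = n100412 := rfl
def n100413 : Q := act 5 n46863
theorem D100413 : act 5 n46863 = n100413 := rfl
theorem F154468 : act 2 n100413 = n98856 := d2_1 D100413 (iv5 D98856) (iv2 F74073)
theorem F154469 : act 3 n100413 = n87782 := d6_1 D100413 (iv5 D87782) (iv3 F74074)
theorem F154470 : act 6 n100413 = n89025 := d12_2 D46863 D100413 (iv5 D89025) (iv6 D41581) F35076
def n100414 : Q := act 7 n46863
theorem D100414 : act 7 n46863 = n100414 := rfl
theorem F154471 : act 2 n100414 = n98857 := d4_1 D100414 (iv7 D98857) (iv2 F74073)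
theorem F154473 : act 6 n100414 = n98865 := d14_1 D100414 (iv7 D98865) (iv6 D46267) (iv7 F35073) D46863
theorem F154474 : act 1 n98857 = n100411 := d15_0 (iv0 D100411) D100414 F154471
theorem F154475 : act 1 n98855 = n100414 := d15_1 D98855 (iv7 D100414) F74073
theorem F154476 : act 1 n100414 = n98854 := d15_0 (iv0 D98854) D98857 (iv2 F154471)
def n100415 : Q := act 6 n46864
theorem D100415 : act 6 n46864 = n100415 := rfl
theorem F154478 : act 3 n100415 = n72448 := d7_1 D100415 (iv6 D72448) (iv3 F74078)
def n100416 : Q := act 6 n46865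
theorem D100416 : act 6 n46865 = n100416 := rfl
theorem F154479 : act 2 n100416 = n76652 := d3_1 D100416 (iv6 D76652) (iv2 F74079)
theorem F154480 : act 4 n100416 = n76634 := d10_1 D100416 (iv6 D76634) (iv4 F74081)
def n100417 : Q := act 0 n46866
theorem D100417 : act 0 n46866 = n100417 := rfl
def n100418 : Q := act 1 n46866
theorem D100418 : act 1 n46866 = n100418 := rfl
def n100419 : Q := act 5 n46866
theorem D100419 : act 5 n46866 = n100419 := rfl
def n100420 : Q := act 7 n46866
theorem D100420 : act 7 n46866 = n100420 := rfl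
theorem F154481 : act 4 n100420 = n46870 := d11_1 D100420 (iv7 D46870) (iv4 F74082)
def n100421 : Q := act 2 n46867
theorem D100421 : act 2 n46867 = n100421 := rfl
theorem F154482 : act 7 n46868 = n100421 := d15_2 (iv0 D46867) D46868 (iv2 D100421)
def n100422 : Q := act 3 n46867
theorem D100422 : act 3 n46867 = n100422 := rfl
def n100423 : Q := act 4 n46867
theorem D100423 : act 4 n46867 = n100423 := rfl
def n100424 : Q := act 5 n46867
theorem D100424 : act 5 n46867 = n100424 := rfl
def n100425 : Q := act 6 n46867
theorem D100425 : act 6 n46867 = n100425 := rfl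
def n100426 : Q := act 7 n46867
theorem D100426 : act 7 n46867 = n100426 := rfl
theorem F154483 : act 2 n100426 = n46868 := d4_1 D100426 F154482 (iv2 D100421)
def n100427 : Q := act 3 n46868
theorem D100427 : act 3 n46868 = n100427 := rfl
theorem F154484 : act 4 n100427 = n80759 := d20_6 F117284 (iv1 F112746) F112742 (iv3 F154419) (iv1 F154422) D100427 (iv1 D80759) F57823 (iv3 F44080) D56678
def n100428 : Q := act 4 n46868
theorem D100428 : act 4 n46868 = n100428 := rfl
def n100429 : Q := act 5 n46868
theorem D100429 : act 5 n46868 = n100429 := rfl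
def n100430 : Q := act 6 n46868
theorem D100430 : act 6 n46868 = n100430 := rfl
def n100431 : Q := act 0 n46869
theorem D100431 : act 0 n46869 = n100431 := rfl
def n100432 : Q := act 1 n46869
theorem D100432 : act 1 n46869 = n100432 := rfl
def n100433 : Q := act 4 n46869
theorem D100433 : act 4 n46869 = n100433 := rfl
theorem F154485 : act 6 n100433 = n46878 := d10_2 (iv6 F74084) D100433 (iv4 D46878)
def n100434 : Q := act 7 n46869
theorem D100434 : act 7 n46869 = n100434 := rfl
theorem F154486 : act 3 n100434 = n46893 := d8_1 D100434 (iv7 D46893) (iv3 F74083)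
theorem F154487 : act 5 n100434 = n46870 := d13_1 D100434 (iv7 D46870) D46869
def n100435 : Q := act 0 n46871
theorem D100435 : act 0 n46871 = n100435 := rfl
theorem F154488 : act 1 n47882 = n100435 := d15_0 (iv0 D100435) (iv7 F154426) F154424
def n100436 : Q := act 1 n46871
theorem D100436 : act 1 n46871 = n100436 := rfl
theorem F154489 : act 1 n100436 = n47882 := d15_1 D100436 F75166 (iv2 F74086)
def n100437 : Q := act 5 n46871
theorem D100437 : act 5 n46871 = n100437 := rfl
theorem F154490 : act 2 n100437 = n87800 := d2_1 D100437 (iv5 D87800) (iv2 F74086)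
theorem F154491 : act 3 n100437 = n46872 := d6_1 D100437 (iv5 D46872) D46871
def n100438 : Q := act 6 n46871
theorem D100438 : act 6 n46871 = n100438 := rfl
theorem F154492 : act 2 n100438 = n87801 := d3_1 D100438 (iv6 D87801) (iv2 F74086)
theorem F154493 : act 3 n100438 = n46873 := d7_1 D100438 (iv6 D46873) D46871
theorem F154494 : act 4 n100438 = n96129 := d10_1 D100438 F147778 F147090
def n100439 : Q := act 0 n46872
theorem D100439 : act 0 n46872 = n100439 := rfl
theorem F154495 : act 1 n46874 = n100439 := d15_0 (iv0 D100439) (iv7 F154431) F154430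
def n100440 : Q := act 1 n46872
theorem D100440 : act 1 n46872 = n100440 := rfl
theorem F154496 : act 1 n100440 = n46874 := d15_1 D100440 (iv7 F139508) F139506
def n100441 : Q := act 4 n46872
theorem D100441 : act 4 n46872 = n100441 := rfl
def n100442 : Q := act 6 n46872
theorem D100442 : act 6 n46872 = n100442 := rfl
def n100443 : Q := act 0 n46873
theorem D100443 : act 0 n46873 = n100443 := rfl
def n100444 : Q := act 1 n46873
theorem D100444 : act 1 n46873 = n100444 := rfl
theorem F154498 : act 1 n100444 = n88370 := d15_1 D100444 (iv7 F139512) F139509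
theorem F154499 : act 3 n100444 = n46904 := d20_5 (iv4 F70444) F72230 F72229 D88370 (iv1 F154498) F74116 (iv1 D22561) (iv4 F35097) F62704 (iv1 F65971)
theorem F154500 : act 5 n98906 = n100444 := d6_0 F154499 (iv5 F74117) (iv3 F152462)
theorem F154501 : act 7 n47636 = n100444 := d8_0 F154499 F74115 (iv3 F74918)
theorem E14906 : n100443 = n100387 := ((c15_4 (iv0 D100443) D100444 (iv7 F154501) (iv2 F154407))).symm
theorem F154504 : act 1 n100387 = n46873 := (sb E14906 (iv0 D100443))
theorem F154505 : act 5 n96158 = n100440 := d21_6 (iv5 F154408) (iv1 F152460) (iv5 D46286) D46287 F136340 (iv6 F147834) (iv1 D100440) (iv5 D46872) D46873 (iv1 F154504)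
def n100445 : Q := act 4 n46874
theorem D100445 : act 4 n46874 = n100445 := rfl
def n100446 : Q := act 6 n46874
theorem D100446 : act 6 n46874 = n100446 := rfl
theorem F154507 : act 3 n100446 = n87806 := d7_1 D100446 (iv6 D87806) (iv3 F74087)
def n100447 : Q := act 5 n46875
theorem D100447 : act 5 n46875 = n100447 := rfl
theorem F154508 : act 3 n100447 = n87808 := d6_1 D100447 (iv5 D87808) (iv3 F74088)
def n100448 : Q := act 3 n46876
theorem D100448 : act 3 n46876 = n100448 := rfl
theorem F154509 : act 2 n100448 = n87809 := d0_1 D100448 (iv3 D87809) F133396 F154441 F154442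
def n100449 : Q := act 4 n46876
theorem D100449 : act 4 n46876 = n100449 := rfl
def n100450 : Q := act 5 n46876
theorem D100450 : act 5 n46876 = n100450 := rfl
theorem F154510 : act 7 n100450 = n89036 := d13_2 (iv7 F154443) D100450 F154433
def n100451 : Q := act 6 n46876
theorem D100451 : act 6 n46876 = n100451 := rfl
def n100452 : Q := act 4 n46877
theorem D100452 : act 4 n46877 = n100452 := rfl
def n100453 : Q := act 6 n46877
theorem D100453 : act 6 n46877 = n100453 := rfl
theorem F154511 : act 3 n100453 = n87815 := d7_1 D100453 (iv6 D87815) (iv3 F135030)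
def n100454 : Q := act 0 n46878
theorem D100454 : act 0 n46878 = n100454 := rfl
def n100455 : Q := act 1 n46878
theorem D100455 : act 1 n46878 = n100455 := rfl
def n100456 : Q := act 3 n46878
theorem D100456 : act 3 n46878 = n100456 := rfl
theorem F154512 : act 4 n100456 = n46921 := d5_2 D46878 D100456 (iv3 D46921) (iv4 D22534) (iv3 F35078)
def n100457 : Q := act 5 n46878
theorem D100457 : act 5 n46878 = n100457 := rfl
def n100458 : Q := act 7 n46878
theorem D100458 : act 7 n46878 = n100458 := rfl
theorem F154513 : act 4 n100458 = n46879 := d11_1 D100458 (iv7 D46879) D46878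
def n100459 : Q := act 6 n46879
theorem D100459 : act 6 n46879 = n100459 := rfl
theorem F154514 : act 3 n100459 = n46924 := d7_1 D100459 (iv6 D46924) (iv3 F74090)
def n100461 : Q := act 1 n46880
theorem D100461 : act 1 n46880 = n100461 := rfl
theorem F154516 : act 1 n100461 = n46885 := d15_1 D100461 (iv7 D46885) D46880
def n100462 : Q := act 3 n46880
theorem D100462 : act 3 n46880 = n100462 := rfl
theorem F154517 : act 7 n100462 = n46886 := d8_2 F74092 D100462 (iv3 D46886)
def n100463 : Q := act 4 n46880
theorem D100463 : act 4 n46880 = n100463 := rfl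
theorem F154518 : act 2 n100463 = n46882 := d1_1 D100463 (iv4 D46882) D46880
theorem F154519 : act 7 n100463 = n46887 := d11_2 F74092 D100463 (iv4 D46887)
def n100464 : Q := act 5 n46880
theorem D100464 : act 5 n46880 = n100464 := rfl
theorem F154520 : act 2 n100464 = n46883 := d2_1 D100464 (iv5 D46883) D46880
theorem F154521 : act 7 n100464 = n46888 := d13_2 F74092 D100464 (iv5 D46888)
def n100465 : Q := act 6 n46880
theorem D100465 : act 6 n46880 = n100465 := rfl
theorem F154522 : act 2 n100465 = n46884 := d3_1 D100465 (iv6 D46884) D46880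
theorem F154523 : act 5 n98554 = n100465 := d2_0 F154522 F74093 (iv2 F151937)
theorem F154524 : act 7 n100465 = n98552 := d13_2 D98554 F154523 (iv5 D98552)
def n100466 : Q := act 0 n46881
theorem D100466 : act 0 n46881 = n100466 := rfl
def n100467 : Q := act 1 n46881
theorem D100467 : act 1 n46881 = n100467 := rfl
def n100468 : Q := act 2 n46881
theorem D100468 : act 2 n46881 = n100468 := rfl
def n100469 : Q := act 4 n46881
theorem D100469 : act 4 n46881 = n100469 := rfl
def n100470 : Q := act 5 n46881
theorem D100470 : act 5 n46881 = n100470 := rfl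
theorem F154525 : act 3 n100470 = n46883 := d6_1 D100470 (iv5 D46883) D46881
def n100471 : Q := act 6 n46881
theorem D100471 : act 6 n46881 = n100471 := rfl
theorem F154526 : act 3 n100471 = n46884 := d7_1 D100471 (iv6 D46884) D46881
theorem F154527 : act 5 n98555 = n100471 := d6_0 F154526 F74093 D98555
def n100472 : Q := act 7 n46881
theorem D100472 : act 7 n46881 = n100472 := rfl
theorem F154528 : act 3 n100472 = n46885 := d8_1 D100472 (iv7 D46885) D46881
def n100473 : Q := act 0 n46882
theorem D100473 : act 0 n46882 = n100473 := rfl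
def n100474 : Q := act 1 n46882
theorem D100474 : act 1 n46882 = n100474 := rfl
def n100475 : Q := act 5 n46882
theorem D100475 : act 5 n46882 = n100475 := rfl
def n100476 : Q := act 6 n46882
theorem D100476 : act 6 n46882 = n100476 := rfl
theorem F154530 : act 4 n100476 = n46884 := d10_1 D100476 (iv6 D46884) D46882
def n100477 : Q := act 7 n46882
theorem D100477 : act 7 n46882 = n100477 := rfl
theorem F154531 : act 2 n100477 = n46887 := d4_1 D100477 (iv7 F154519) F154518
theorem F154532 : act 4 n100477 = n46885 := d11_1 D100477 (iv7 D46885) D46882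
theorem F154533 : act 1 n46887 = n100473 := d15_0 (iv0 D100473) D100477 F154531
def n100478 : Q := act 0 n46883
theorem D100478 : act 0 n46883 = n100478 := rfl
theorem F154534 : act 5 n100478 = n83850 := d17_3 D22518 D46883 D100478 F128870 D83855 (iv0 F128871) (iv5 D83527) (iv0 D38503) F29534
theorem E14907 : n83827 = n22001 := (c21_5 D46883 D100478 F154534 (iv6 D83850) (iv1 F128856) (iv6 D22001) F16698 (iv1 F7094) D4893 D10691 D22518)
theorem E14908 : n46053 = n38615 := ((D46053).symm.trans (sb E14907 (iv1 D83827)))
theorem E14909 : n46054 = n38620 := ((D46054).symm.trans (sb E14907 F128856))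
theorem E14910 : n88947 = n83826 := (((D83826).symm.trans (sb E14908 (iv1 F136525)))).symm
theorem F154535 : act 1 n38615 = n22001 := (sb E14908 (iv0 D46053))
theorem E14914 : n98470 = n83829 := (((D83829).symm.trans (sb E14908 D98470))).symm
theorem E14915 : n98471 = n83830 := (((D83830).symm.trans (sb E14908 D98471))).symm
theorem F154536 : act 0 n38620 = n22001 := (sb E14909 (iv1 D46054))
theorem F154537 : act 2 n83826 = n46056 := (sb E14910 F136520)
theorem F154538 : act 4 n83826 = n82557 := (sb E14910 F136521)
theorem F154539 : act 6 n83826 = n46063 := (sb E14910 F136522)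
theorem F154540 : act 7 n83826 = n41531 := (sb E14910 (iv7 D88947))
theorem F154541 : act 0 n83829 = n100122 := (sb E14914 F154050)
theorem F154542 : act 5 n83830 = n100078 := (sb E14915 F154008)
def n100479 : Q := act 1 n46883
theorem D100479 : act 1 n46883 = n100479 := rfl
theorem F154543 : act 1 n100479 = n46888 := d15_1 D100479 (iv7 F154521) F154520
def n100480 : Q := act 4 n46883
theorem D100480 : act 4 n46883 = n100480 := rfl
def n100481 : Q := act 6 n46883
theorem D100481 : act 6 n46883 = n100481 := rfl
theorem F154544 : act 5 n100481 = n98557 := d12_1 D100481 (iv6 D98557) (iv5 F74093) (iv6 D46884) D46883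
def n100482 : Q := act 7 n46883
theorem D100482 : act 7 n46883 = n100482 := rfl
theorem F154545 : act 2 n100482 = n46888 := d4_1 D100482 (iv7 F154521) F154520
theorem F154546 : act 5 n100482 = n46885 := d13_1 D100482 (iv7 D46885) D46883
theorem F154547 : act 1 n46888 = n100478 := d15_0 (iv0 D100478) D100482 F154545
def n100483 : Q := act 0 n46884
theorem D100483 : act 0 n46884 = n100483 := rfl
def n100484 : Q := act 1 n46884
theorem D100484 : act 1 n46884 = n100484 := rfl
theorem F154548 : act 1 n100484 = n98552 := d15_1 D100484 (iv7 F154524) F154522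
def n100485 : Q := act 7 n46884
theorem D100485 : act 7 n46884 = n100485 := rfl
theorem F154549 : act 2 n100485 = n98552 := d4_1 D100485 (iv7 F154524) F154522
theorem F154550 : act 5 n100485 = n98549 := d13_1 D100485 (iv7 F151935) (iv5 F74093)
theorem F154551 : act 1 n98552 = n100483 := d15_0 (iv0 D100483) D100485 F154549
def n100486 : Q := act 6 n46885
theorem D100486 : act 6 n46885 = n100486 := rfl
theorem F154552 : act 2 n100486 = n46889 := d3_1 D100486 (iv6 D46889) (iv2 F74094)
def n100487 : Q := act 0 n46886
theorem D100487 : act 0 n46886 = n100487 := rfl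
def n100488 : Q := act 1 n46886
theorem D100488 : act 1 n46886 = n100488 := rfl
def n100489 : Q := act 2 n46886
theorem D100489 : act 2 n46886 = n100489 := rfl
def n100490 : Q := act 4 n46886
theorem D100490 : act 4 n46886 = n100490 := rfl
theorem F154553 : act 0 n100490 = n81997 := d20_7 (iv4 F117617) F112738 (iv4 F91395) F91394 (iv1 F73370) D46886 D100490 F126418 F58453 D37570
def n100491 : Q := act 5 n46886
theorem D100491 : act 5 n46886 = n100491 := rfl
theorem F154554 : act 3 n100491 = n46888 := d6_1 D100491 (iv5 D46888) D46886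
def n100492 : Q := act 6 n46886
theorem D100492 : act 6 n46886 = n100492 := rfl
theorem F154555 : act 3 n100492 = n46889 := d7_1 D100492 (iv6 D46889) D46886
def n100493 : Q := act 3 n46887
theorem D100493 : act 3 n46887 = n100493 := rfl
def n100494 : Q := act 5 n46887
theorem D100494 : act 5 n46887 = n100494 := rfl
def n100495 : Q := act 6 n46887
theorem D100495 : act 6 n46887 = n100495 := rfl
theorem F154556 : act 4 n100495 = n46889 := d10_1 D100495 (iv6 D46889) D46887
def n100496 : Q := act 4 n46888
theorem D100496 : act 4 n46888 = n100496 := rfl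
def n100497 : Q := act 6 n46888
theorem D100497 : act 6 n46888 = n100497 := rfl
def n100498 : Q := act 0 n46889
theorem D100498 : act 0 n46889 = n100498 := rfl
def n100499 : Q := act 1 n46889
theorem D100499 : act 1 n46889 = n100499 := rfl
def n100500 : Q := act 5 n46889
theorem D100500 : act 5 n46889 = n100500 := rfl
theorem F154557 : act 0 n98494 = n100500 := d21_1 D98494 (iv5 D100500) (iv6 D46889) (iv1 D22519) (iv6 D10691) (iv5 D4893) (iv1 F7238) (iv5 F16701) D22003 D46060
def n100501 : Q := act 7 n46889
theorem D100501 : act 7 n46889 = n100501 := rfl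
theorem F154558 : act 6 n100501 = n98552 := d14_1 D100501 (iv7 F154524) (iv6 D100465) (iv7 F74092) D46889
theorem F154559 : act 0 n100501 = n98321 := d21_4 D22006 D46074 D98552 (iv6 F154558) (iv6 D98321) D98320 F151934 (iv5 D98547) (iv6 D46073) (iv1 D22005)
theorem F154560 : act 1 n100486 = n98321 := d15_0 (iv0 F154559) (iv7 D100501) (iv2 F154552)
def n100502 : Q := act 2 n46890
theorem D100502 : act 2 n46890 = n100502 := rfl
theorem F154561 : act 7 n46891 = n100502 := d15_2 (iv0 D46890) D46891 (iv2 D100502)
def n100503 : Q := act 3 n46890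
theorem D100503 : act 3 n46890 = n100503 := rfl
def n100504 : Q := act 4 n46890
theorem D100504 : act 4 n46890 = n100504 := rfl
def n100505 : Q := act 5 n46890
theorem D100505 : act 5 n46890 = n100505 := rfl
def n100506 : Q := act 6 n46890
theorem D100506 : act 6 n46890 = n100506 := rfl
def n100507 : Q := act 7 n46890
theorem D100507 : act 7 n46890 = n100507 := rfl
theorem F154562 : act 2 n100507 = n46891 := d4_1 D100507 F154561 (iv2 D100502)
def n100508 : Q := act 3 n46891
theorem D100508 : act 3 n46891 = n100508 := rfl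
def n100509 : Q := act 4 n46891
theorem D100509 : act 4 n46891 = n100509 := rfl
def n100510 : Q := act 6 n46891
theorem D100510 : act 6 n46891 = n100510 := rfl
def n100511 : Q := act 0 n46892
theorem D100511 : act 0 n46892 = n100511 := rfl
def n100512 : Q := act 1 n46892
theorem D100512 : act 1 n46892 = n100512 := rfl
def n100513 : Q := act 3 n46892
theorem D100513 : act 3 n46892 = n100513 := rfl
theorem F154563 : act 6 n100513 = n46921 := d7_2 (iv6 F74095) D100513 (iv3 D46921)
def n100514 : Q := act 5 n46892
theorem D100514 : act 5 n46892 = n100514 := rfl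
def n100515 : Q := act 7 n46892
theorem D100515 : act 7 n46892 = n100515 := rfl
theorem F154564 : act 4 n100515 = n46893 := d11_1 D100515 (iv7 D46893) D46892
def n100516 : Q := act 6 n46893
theorem D100516 : act 6 n46893 = n100516 := rfl
theorem F154565 : act 7 n100516 = n46924 := d14_2 D46893 D100516 (iv6 D46924) (iv7 D22535) (iv6 F35080)
def n100517 : Q := act 5 n46895
theorem D100517 : act 5 n46895 = n100517 := rfl
theorem F154566 : act 2 n100517 = n46896 := d2_1 D100517 (iv5 D46896) D46895
def n100518 : Q := act 6 n46895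
theorem D100518 : act 6 n46895 = n100518 := rfl
theorem F154567 : act 2 n100518 = n46897 := d3_1 D100518 (iv6 D46897) D46895
theorem F154568 : act 7 n88361 = n100518 := d4_0 F154567 (iv7 F152557) F152560
theorem F154569 : act 1 n100518 = n88363 := d15_0 (iv0 F152562) F152557 (iv2 F154567)
theorem F154570 : act 1 n88356 = n100518 := d15_0 F154569 (iv7 D88363) (iv2 F135321)
theorem F154571 : act 1 n99027 = n88356 := d15_0 F154570 (iv7 F154568) (iv2 F152560)
def n100519 : Q := act 0 n46896
theorem D100519 : act 0 n46896 = n100519 := rfl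
theorem F154572 : act 5 n100519 = n87027 := d21_2 D46896 D100519 (iv6 D87027) (iv1 F72598) (iv6 D46009) (iv5 F62134) (iv1 F73778) (iv5 D46679) D46680 F140419
theorem F154573 : act 3 n87032 = n100519 := d6_3 F154572 F133584 D87032
def n100520 : Q := act 1 n46896
theorem D100520 : act 1 n46896 = n100520 := rfl
def n100521 : Q := act 4 n46896
theorem D100521 : act 4 n46896 = n100521 := rfl
def n100522 : Q := act 6 n46896
theorem D100522 : act 6 n46896 = n100522 := rfl
theorem F154574 : act 3 n100522 = n46903 := d7_1 D100522 (iv6 D46903) (iv3 F74098)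
def n100523 : Q := act 1 n46897
theorem D100523 : act 1 n46897 = n100523 := rfl
theorem F154575 : act 1 n100523 = n88361 := d15_1 D100523 F154568 F154567
theorem F154576 : act 7 n100523 = n88356 := d15_2 (iv0 F135291) D100523 F135321
theorem F154577 : act 2 n88363 = n100523 := d4_3 F154576 F135321 D88363
def n100524 : Q := act 4 n46898
theorem D100524 : act 4 n46898 = n100524 := rfl
theorem F154580 : act 5 n100524 = n46965 := d17_5 F66302 F59873 F62960 D46898 D100524 (iv0 D46965) (iv5 D22587) D22585 (iv4 F68059)
theorem F154582 : act 1 n100524 = n46932 := d18_6 (iv1 D4896) (iv4 F7314) D10692 D22524 D46898 D100524 (iv4 D46932) F35101 (iv5 D10704)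
def n100527 : Q := act 4 n46900
theorem D100527 : act 4 n46900 = n100527 := rfl
theorem F154592 : act 0 n100527 = n46942 := d18_2 D46900 D100527 (iv4 D46942) (iv5 D22570) (iv4 D10703) F17146 (iv4 F34742) F34746 D22525
def n100528 : Q := act 6 n46900
theorem D100528 : act 6 n46900 = n100528 := rfl
def n100529 : Q := act 4 n46901
theorem D100529 : act 4 n46901 = n100529 := rfl
def n100531 : Q := act 0 n46902
theorem D100531 : act 0 n46902 = n100531 := rfl
theorem F154596 : act 4 n100531 = n48148 := d18_3 (iv1 D46901) D46902 D100531 F75650 (iv4 F67821) F70485 F66304 (iv0 F73383) F74114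
theorem F154597 : act 1 n46910 = n100531 := d15_0 (iv0 D100531) (iv7 F153046) F153045
def n100532 : Q := act 1 n46902
theorem D100532 : act 1 n46902 = n100532 := rfl
theorem F154598 : act 1 n100532 = n46910 := d15_1 D100532 (iv7 F153042) F153041
theorem F154599 : act 4 n100532 = n48147 := d18_7 (iv1 F62610) (iv4 F32422) F62960 (iv4 D22524) D22525 D46902 D100532 (iv0 D48147) (iv5 D23291)
def n100533 : Q := act 3 n46902
theorem D100533 : act 3 n46902 = n100533 := rfl
def n100534 : Q := act 5 n46902
theorem D100534 : act 5 n46902 = n100534 := rfl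
theorem F154600 : act 4 n100534 = n46966 := d16_2 D46902 D100534 F74181 (iv4 D43515) (iv5 D20584) F62727 D22530 (iv7 F73375) F73374
def n100535 : Q := act 6 n46902
theorem D100535 : act 6 n46902 = n100535 := rfl
theorem F154602 : act 4 n100535 = n46903 := d10_1 D100535 (iv6 D46903) D46902
def n100536 : Q := act 0 n46903
theorem D100536 : act 0 n46903 = n100536 := rfl
def n100537 : Q := act 1 n46903
theorem D100537 : act 1 n46903 = n100537 := rfl
def n100538 : Q := act 7 n46903
theorem D100538 : act 7 n46903 = n100538 := rfl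
def n100539 : Q := act 3 n46905
theorem D100539 : act 3 n46905 = n100539 := rfl
theorem F154603 : act 4 n100539 = n91348 := d5_2 (iv4 F139502) D100539 F140443 (iv4 D90613) D90612
theorem F154604 : act 0 n87766 = n100539 := d20_4 (iv4 F68581) F134740 (iv4 D87767) D87766 (iv3 D100539) F139502 F153146 (iv4 D87985) (iv3 F153142) (iv1 F74326)
theorem F154605 : act 0 n90613 = n100351 := d20_10 (iv4 D100351) (iv1 F143355) F143352 (iv3 F129913) (iv1 F129916) D99353 F153009 F154604 F154603 F140443
def n100542 : Q := act 3 n46906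
theorem D100542 : act 3 n46906 = n100542 := rfl
theorem F154606 : act 7 n100542 = n87799 := d8_2 (iv7 F153032) D100542 F154428
theorem F154607 : act 2 n100542 = n87798 := d15_3 (iv0 D87798) D87799 (iv7 F154606)
def n100543 : Q := act 4 n46906
theorem D100543 : act 4 n46906 = n100543 := rfl
theorem F154608 : act 7 n100543 = n92864 := d11_2 (iv7 F153032) D100543 F153028
theorem F154609 : act 3 n100543 = n92590 := d20_3 (iv4 F153035) (iv1 F153038) D100543 (iv1 F142623) (iv3 F142649) F152860 (iv1 D99287) (iv4 F142816) F142815 (iv1 F142708)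
theorem E14921 : n92867 = n92590 := ((c8_2 (iv7 F154608) F154609 (iv7 D92867) D92864)).symm
theorem F154611 : act 7 n92590 = n43452 := (sb E14921 (iv7 D92867))
theorem F154612 : act 0 n100543 = n87990 := d20_4 (iv4 F65623) D90722 (iv4 F142622) (iv3 F154609) (iv3 F134997) D92583 F143374 F143371 (iv3 D90743) (iv1 D42493)
theorem F154613 : act 1 n90612 = n87990 := d15_0 (iv0 F154612) F154608 F143241
theorem F154614 : act 0 n100539 = n100001 := d20_4 D87990 (iv1 F154613) (iv4 F139502) D100539 (iv3 D100001) (iv4 D46702) (iv1 F73806) (iv4 F126430) (iv3 F134957) (iv1 F134959)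
theorem F154615 : act 7 n47838 = n90722 := d11_2 F154611 F139638 (iv4 F142622)
theorem E14922 : n92863 = n92591 := (c15_4 F142628 F142623 F154611 D92863)
theorem F154616 : act 2 n92591 = n43452 := (sb E14922 (iv2 D92863))
theorem E14923 : n90611 = n90306 := ((((iv3 F152864)).symm.trans (sb E14922 F143240))).symm
theorem F154617 : act 7 n92591 = n43453 := (sb E14922 (iv7 F143239))
theorem F154618 : act 2 n90306 = n42422 := (sb E14923 F139501)
theorem F154619 : act 7 n90306 = n42421 := (sb E14923 (iv7 D90611))
theorem E14924 : n90606 = n90307 := (c15_4 F138920 F138915 F154619 D90606)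
theorem F154620 : act 2 n90307 = n42421 := (sb E14924 (iv2 D90606))
theorem F154621 : act 7 n90307 = n42422 := (sb E14924 (iv7 F139499))
theorem F154622 : act 7 n47839 = n90723 := d11_2 F154617 F139641 (iv4 F152863)
theorem F154623 : act 2 n90723 = n47838 := d15_3 (iv0 D47838) D47839 F154622
theorem F154624 : act 2 n47839 = n90722 := d4_1 (iv7 F154622) (iv7 F154615) (iv2 F154623)
def n100544 : Q := act 5 n46906
theorem D100544 : act 5 n46906 = n100544 := rfl
def n100545 : Q := act 6 n46906
theorem D100545 : act 6 n46906 = n100545 := rfl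
def n100546 : Q := act 5 n46907
theorem D100546 : act 5 n46907 = n100546 := rfl
theorem F154625 : act 2 n100546 = n46908 := d2_1 D100546 (iv5 D46908) D46907
def n100547 : Q := act 6 n46907
theorem D100547 : act 6 n46907 = n100547 := rfl
theorem F154626 : act 2 n100547 = n46909 := d3_1 D100547 (iv6 D46909) D46907
theorem F154627 : act 4 n100547 = n93012 := d10_1 D100547 (iv6 D93012) (iv4 F74118)
def n100548 : Q := act 0 n46908
theorem D100548 : act 0 n46908 = n100548 := rfl
def n100549 : Q := act 1 n46908
theorem D100549 : act 1 n46908 = n100549 := rfl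
def n100550 : Q := act 4 n46908
theorem D100550 : act 4 n46908 = n100550 := rfl
def n100551 : Q := act 6 n46908
theorem D100551 : act 6 n46908 = n100551 := rfl
theorem F154628 : act 3 n100551 = n46911 := d7_1 D100551 (iv6 D46911) (iv3 F74119)
def n100552 : Q := act 0 n46909
theorem D100552 : act 0 n46909 = n100552 := rfl
def n100553 : Q := act 1 n46909
theorem D100553 : act 1 n46909 = n100553 := rfl
def n100554 : Q := act 3 n46910
theorem D100554 : act 3 n46910 = n100554 := rfl
def n100555 : Q := act 5 n46910
theorem D100555 : act 5 n46910 = n100555 := rfl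
theorem F154629 : act 4 n100555 = n46965 := d9_1 D100555 (iv5 F154580) (iv4 D100524) (iv5 D46898) (iv4 D22524) D22525 D46902 D100534 F154600 F74181 (iv4 D43515) (iv5 D20584) F62727 D22530 D46910
theorem F154630 : act 0 n100555 = n99509 := d17_2 (iv1 F154597) D100555 (iv5 D99509) (iv4 D46517) (iv5 D22297) F62610 D23291 D48148 (iv4 F154596)
def n100556 : Q := act 6 n46910
theorem D100556 : act 6 n46910 = n100556 := rfl
theorem F154631 : act 4 n100556 = n46911 := d10_1 D100556 (iv6 D46911) D46910
def n100557 : Q := act 0 n46911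
theorem D100557 : act 0 n46911 = n100557 := rfl
def n100558 : Q := act 1 n46911
theorem D100558 : act 1 n46911 = n100558 := rfl
def n100559 : Q := act 7 n46911
theorem D100559 : act 7 n46911 = n100559 := rfl
def n100560 : Q := act 1 n46912
theorem D100560 : act 1 n46912 = n100560 := rfl
def n100561 : Q := act 2 n46912
theorem D100561 : act 2 n46912 = n100561 := rfl
theorem F154632 : act 1 n100561 = n48203 := d15_0 (iv0 F153053) F153052 D100561
def n100562 : Q := act 4 n46912
theorem D100562 : act 4 n46912 = n100562 := rfl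
def n100563 : Q := act 5 n46912
theorem D100563 : act 5 n46912 = n100563 := rfl
theorem F154633 : act 3 n100563 = n46914 := d6_1 D100563 (iv5 D46914) D46912
theorem F154634 : act 7 n100563 = n89058 := d13_2 F153052 D100563 (iv5 F153051)
theorem F154635 : act 4 n95976 = n100563 := d11_3 F154634 F136737 D95976
theorem F154636 : act 6 n89536 = n100563 := d14_5 F154634 (iv6 D89058) F65845 D46090 (iv7 F137247)
theorem F154637 : act 0 n100563 = n94766 := d20_4 (iv4 F133993) F133995 F127131 (iv3 F154633) (iv3 D94766) (iv4 D44279) (iv1 D21056) (iv4 F33233) (iv3 F33587) D44869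
theorem F154638 : act 1 n87551 = n94766 := d15_0 (iv0 F154637) F154634 F136735
theorem F154639 : act 1 n98348 = n87551 := d15_0 F154638 F146088 (iv2 F151778)
def n100564 : Q := act 6 n46912
theorem D100564 : act 6 n46912 = n100564 := rfl
theorem F154640 : act 3 n100564 = n46915 := d7_1 D100564 (iv6 D46915) D46912
def n100565 : Q := act 3 n46913
theorem D100565 : act 3 n46913 = n100565 := rfl
def n100566 : Q := act 5 n46913
theorem D100566 : act 5 n46913 = n100566 := rfl
theorem F154641 : act 4 n100566 = n46958 := d16_2 D46913 D100566 (iv5 D46958) (iv4 F68059) F66301 F66299 F35083 (iv7 F73392) F73394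
def n100567 : Q := act 6 n46913
theorem D100567 : act 6 n46913 = n100567 := rfl
theorem F154642 : act 4 n100567 = n46915 := d10_1 D100567 (iv6 D46915) D46913
def n100568 : Q := act 0 n46915
theorem D100568 : act 0 n46915 = n100568 := rfl
def n100569 : Q := act 1 n46915
theorem D100569 : act 1 n46915 = n100569 := rfl
def n100570 : Q := act 5 n46915
theorem D100570 : act 5 n46915 = n100570 := rfl
theorem F154643 : act 6 n100570 = n47618 := d12_2 D46915 D100570 (iv5 F74880) (iv6 F74125) (iv5 D46914)
def n100571 : Q := act 7 n46915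
theorem D100571 : act 7 n46915 = n100571 := rfl
def n100572 : Q := act 0 n46916
theorem D100572 : act 0 n46916 = n100572 := rfl
def n100573 : Q := act 1 n46916
theorem D100573 : act 1 n46916 = n100573 := rfl
def n100574 : Q := act 2 n46916
theorem D100574 : act 2 n46916 = n100574 := rfl
theorem F154644 : act 5 n100574 = n98571 := d2_2 (iv5 F74127) D100574 F151968
def n100575 : Q := act 4 n46916
theorem D100575 : act 4 n46916 = n100575 := rfl
def n100576 : Q := act 6 n46916
theorem D100576 : act 6 n46916 = n100576 := rfl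
theorem F154645 : act 3 n100576 = n46918 := d7_1 D100576 (iv6 D46918) D46916
theorem F154646 : act 5 n100576 = n98575 := d12_1 D100576 (iv6 D98575) (iv5 D46081) D46082 (iv5 F74127)
def n100577 : Q := act 3 n46917
theorem D100577 : act 3 n46917 = n100577 := rfl
def n100578 : Q := act 5 n46917
theorem D100578 : act 5 n46917 = n100578 := rfl
theorem F154647 : act 4 n100578 = n46955 := d9_1 D100578 (iv5 D46955) D46954 (iv5 F127132) F127131 (iv5 D46914) D46913 D100566 F154641 (iv5 D46958) (iv4 F68059) F66301 F66299 F35083 D46917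
def n100579 : Q := act 6 n46917
theorem D100579 : act 6 n46917 = n100579 := rfl
theorem F154648 : act 4 n100579 = n46918 := d10_1 D100579 (iv6 D46918) D46917
def n100580 : Q := act 0 n46918
theorem D100580 : act 0 n46918 = n100580 := rfl
def n100581 : Q := act 1 n46918
theorem D100581 : act 1 n46918 = n100581 := rfl
def n100582 : Q := act 7 n46918
theorem D100582 : act 7 n46918 = n100582 := rfl
theorem F154649 : act 5 n100582 = n98585 := d13_1 D100582 (iv7 D98585) (iv5 F74129)
def n100583 : Q := act 3 n46919
theorem D100583 : act 3 n46919 = n100583 := rfl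
def n100584 : Q := act 5 n46919
theorem D100584 : act 5 n46919 = n100584 := rfl
theorem F154650 : act 4 n100584 = n46951 := d16_2 (iv4 F74130) D100584 (iv5 D46951) (iv4 D22582) (iv5 F17237) (iv4 F34517) F66312 (iv7 F73501) (iv2 F73500)
def n100585 : Q := act 6 n46919
theorem D100585 : act 6 n46919 = n100585 := rfl
theorem F154651 : act 4 n100585 = n47116 := d10_1 D100585 (iv6 D47116) (iv4 F74130)
def n100586 : Q := act 3 n46920
theorem D100586 : act 3 n46920 = n100586 := rfl
def n100587 : Q := act 5 n46920
theorem D100587 : act 5 n46920 = n100587 := rfl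
theorem F154652 : act 4 n100587 = n46947 := d9_1 D100587 (iv5 D46947) (iv4 D22577) (iv5 F65734) (iv4 F70480) (iv5 F70482) (iv4 F74130) D100584 F154650 (iv5 D46951) (iv4 D22582) (iv5 F17237) (iv4 F34517) F66312 (iv4 F74131)
def n100588 : Q := act 6 n46920
theorem D100588 : act 6 n46920 = n100588 := rfl
theorem F154653 : act 4 n100588 = n47118 := d10_1 D100588 (iv6 D47118) (iv4 F74131)
def n100589 : Q := act 0 n46921
theorem D100589 : act 0 n46921 = n100589 := rfl
def n100590 : Q := act 1 n46921
theorem D100590 : act 1 n46921 = n100590 := rfl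
def n100591 : Q := act 2 n46921
theorem D100591 : act 2 n46921 = n100591 := rfl
def n100592 : Q := act 5 n46921
theorem D100592 : act 5 n46921 = n100592 := rfl
theorem F154654 : act 3 n100592 = n46922 := d6_1 D100592 (iv5 D46922) D46921
def n100593 : Q := act 7 n46921
theorem D100593 : act 7 n46921 = n100593 := rfl
theorem F154655 : act 3 n100593 = n46923 := d8_1 D100593 (iv7 D46923) D46921
def n100595 : Q := act 1 n46922
theorem D100595 : act 1 n46922 = n100595 := rfl
theorem F154660 : act 5 n100595 = n46942 := d17_7 (iv1 F74112) (iv5 D22530) (iv1 D10693) D10694 D22534 D46922 D100595 (iv0 F154592) (iv4 D100527)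
theorem F154661 : act 4 n100595 = n46936 := d18_7 F67624 (iv4 D22577) (iv1 F34758) (iv4 F73424) (iv5 F153117) F153116 D100595 (iv0 F141996) (iv5 D92332)
def n100597 : Q := act 6 n46923
theorem D100597 : act 6 n46923 = n100597 := rfl
theorem F154662 : act 4 n100597 = n46924 := d10_1 D100597 (iv6 D46924) (iv4 F74132)
def n100598 : Q := act 0 n46924
theorem D100598 : act 0 n46924 = n100598 := rfl
def n100599 : Q := act 1 n46924
theorem D100599 : act 1 n46924 = n100599 := rfl
def n100600 : Q := act 3 n46925
theorem D100600 : act 3 n46925 = n100600 := rfl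
theorem F154663 : act 5 n100600 = n96153 := d6_2 (iv5 F74133) D100600 (iv3 D96153)
def n100601 : Q := act 4 n46925
theorem D100601 : act 4 n46925 = n100601 := rfl
theorem F154664 : act 2 n100601 = n100531 := d1_1 D100601 F154596 (iv2 F75651)
theorem F154665 : act 7 n100601 = n100532 := d11_2 (iv7 F75647) D100601 F154599
theorem F154666 : act 0 n100601 = n99379 := d18_2 D46925 D100601 (iv4 D99379) (iv5 D46469) (iv4 F62953) F67807 F67805 (iv0 F62717) D22552
theorem F154667 : act 1 n100601 = n99377 := d18_6 F64476 (iv4 F66299) F133997 F133993 (iv5 F74133) D100601 (iv4 D99377) (iv0 F137273) (iv5 D89548)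
def n100602 : Q := act 6 n46925
theorem D100602 : act 6 n46925 = n100602 := rfl
def n100603 : Q := act 3 n46926
theorem D100603 : act 3 n46926 = n100603 := rfl
theorem F154668 : act 5 n100603 = n96154 := d6_2 (iv5 F74136) D100603 (iv3 D96154)
def n100604 : Q := act 4 n46926
theorem D100604 : act 4 n46926 = n100604 := rfl
theorem F154669 : act 2 n100604 = n100532 := d1_1 D100604 F154599 (iv2 F75645)
theorem F154670 : act 7 n100604 = n100531 := d11_2 F75649 D100604 F154596
theorem F154671 : act 0 n100604 = n99377 := d18_2 (iv1 F74135) D100604 (iv4 D99377) (iv5 D46467) (iv4 F62751) F62750 F17257 F62714 D22570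
theorem F154672 : act 1 n100604 = n99379 := d18_6 (iv1 F74124) (iv4 F127131) (iv1 F133529) F133525 (iv5 F74136) D100604 (iv4 D99379) (iv0 F137398) (iv5 D89615)
def n100605 : Q := act 3 n46927
theorem D100605 : act 3 n46927 = n100605 := rfl
theorem F154673 : act 4 n100605 = n91278 := d5_2 D46927 D100605 (iv3 D91278) (iv4 D42723) (iv3 F62721)
def n100609 : Q := act 7 n46928
theorem D100609 : act 7 n46928 = n100609 := rfl
theorem F154675 : act 3 n100609 = n91284 := d8_1 D100609 (iv7 D91284) (iv3 F74137)
def n100614 : Q := act 5 n46932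
theorem D100614 : act 5 n46932 = n100614 := rfl
theorem F154682 : act 0 n100614 = n99402 := d17_2 F74146 D100614 (iv5 D99402) F73418 F68434 D82491 F127129 (iv0 D43513) D43515
def n100617 : Q := act 6 n46933
theorem D100617 : act 6 n46933 = n100617 := rfl
theorem F154686 : act 4 n100617 = n90999 := d10_1 D100617 F142688 F142684
def n100619 : Q := act 5 n46934
theorem D100619 : act 5 n46934 = n100619 := rfl
theorem F154691 : act 0 n100619 = n48163 := d17_2 (iv1 F74148) D100619 (iv5 D48163) (iv4 D23307) F17784 D21401 F65802 F35101 D22572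
def n100629 : Q := act 2 n46938
theorem D100629 : act 2 n46938 = n100629 := rfl
theorem F154711 : act 7 n46939 = n100629 := d15_2 (iv0 D46938) D46939 (iv2 D100629)
def n100630 : Q := act 3 n46938
theorem D100630 : act 3 n46938 = n100630 := rfl
theorem F154712 : act 4 n100630 = n48047 := d20_6 F34742 (iv1 F17146) D10703 D22569 D46938 D100630 (iv1 D48047) (iv4 F62959) (iv3 D22523) (iv1 F34746)
def n100631 : Q := act 4 n46938
theorem D100631 : act 4 n46938 = n100631 := rfl
theorem F154713 : act 3 n100631 = n100436 := d20_9 (iv4 F147090) (iv1 F147092) (iv4 F75210) F73489 F62715 D22569 F62235 D46938 D100631 (iv1 D100436)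
theorem F154714 : act 0 n99353 = n100631 := d20_10 (iv4 D100631) (iv1 F74156) F66116 (iv3 D40935) (iv1 F66091) D42755 F66991 (iv1 F73797) F73798 D99353
def n100634 : Q := act 7 n46938
theorem D100634 : act 7 n46938 = n100634 := rfl
theorem F154715 : act 2 n100634 = n46939 := d4_1 D100634 F154711 (iv2 D100629)
def n100635 : Q := act 3 n46939
theorem D100635 : act 3 n46939 = n100635 := rfl
theorem F154716 : act 4 n100635 = n90307 := d20_6 F14146 D9066 D19286 D40935 (iv1 F74157) D100635 (iv1 D90307) F65164 F66123 (iv1 D19281)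
theorem F154717 : act 2 n90608 = n100635 := d1_3 F154716 F154620 D90608
theorem F154718 : act 7 n90613 = n100635 := d11_0 F154716 F154621 D90613
theorem F154719 : act 0 n47089 = n100635 := d20_10 F154716 (iv1 D90307) F65164 F66123 (iv1 D19281) (iv3 F30936) (iv4 F34771) D46488 F143903 D47089
theorem F154720 : act 0 n100635 = n87989 := d20_1 (iv4 F154716) (iv4 F143347) F143348 F143374 (iv3 D92958) (iv4 F139568) (iv1 F139569) (iv4 F138897) F138896 (iv1 F138920)
theorem E14925 : n100629 = n91348 := (c8_3 F154718 (iv3 D100635) F154711 F140443)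
theorem F154721 : act 2 n91348 = n46938 := (sb E14925 (iv2 D100629))
theorem F154722 : act 7 n91348 = n46939 := (sb E14925 (iv7 F154711))
theorem E14926 : n100634 = n91349 := (c15_4 F140445 F140444 F154722 (iv2 F154715))
theorem F154724 : act 7 n91349 = n46938 := (sb E14926 (iv7 D100634))
theorem F154725 : act 2 n100631 = n100539 := d1_3 F154603 F154721 D100631
theorem F154726 : act 2 n87799 = n100436 := d0_5 (iv3 F154713) F154725 (iv3 D100539) (iv2 F153029) (iv3 F154428)
theorem F154727 : act 7 n100436 = n87798 := d4_2 F154606 F154726 (iv2 F154607)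
theorem E14927 : n100542 = n100435 := ((c15_2 F154489 F154488 F154606 F154726)).symm
theorem F154728 : act 2 n100435 = n87798 := (sb E14927 F154607)
theorem F154729 : act 3 n100435 = n46906 := (sb E14927 (iv3 D100542))
theorem F154730 : act 7 n100435 = n87799 := (sb E14927 F154606)
theorem F154731 : act 0 n87985 = n100543 := d20_1 D87985 (iv4 D100543) (iv3 F154729) (iv1 F154488) (iv3 D47882) (iv4 D23055) F65646 F17183 (iv3 F30975) D41077
def n100636 : Q := act 4 n46939
theorem D100636 : act 4 n46939 = n100636 := rfl
theorem F154732 : act 7 n100636 = n100539 := d11_2 F154722 D100636 F154603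
theorem F154733 : act 0 n100636 = n99353 := d20_1 D100636 F153009 (iv3 D87766) (iv1 D40896) F30936 F14146 D9066 D19286 D40935 (iv1 F74157)
theorem F154734 : act 3 n100636 = n99373 := d20_9 F74118 F140421 F62309 F30975 F66090 D40935 F66116 (iv1 F74157) D100636 (iv1 F153027)
def n100639 : Q := act 0 n46940
theorem D100639 : act 0 n46940 = n100639 := rfl
theorem F154735 : act 1 n87822 = n100639 := d15_0 (iv0 D100639) (iv7 F153072) F153070
def n100640 : Q := act 1 n46940
theorem D100640 : act 1 n46940 = n100640 := rfl
theorem F154736 : act 1 n100640 = n87822 := d15_1 D100640 (iv7 F140448) F140446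
def n100641 : Q := act 4 n46940
theorem D100641 : act 4 n46940 = n100641 := rfl
def n100642 : Q := act 6 n46940
theorem D100642 : act 6 n46940 = n100642 := rfl
theorem F154737 : act 3 n100642 = n46943 := d7_1 D100642 (iv6 D46943) (iv3 F74158)
def n100643 : Q := act 0 n46941
theorem D100643 : act 0 n46941 = n100643 := rfl
def n100644 : Q := act 1 n46941
theorem D100644 : act 1 n46941 = n100644 := rfl
def n100646 : Q := act 6 n46942
theorem D100646 : act 6 n46942 = n100646 := rfl
theorem F154738 : act 4 n100646 = n46943 := d10_1 D100646 (iv6 D46943) D46942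
def n100647 : Q := act 0 n46943
theorem D100647 : act 0 n46943 = n100647 := rfl
def n100648 : Q := act 1 n46943
theorem D100648 : act 1 n46943 = n100648 := rfl
theorem F154739 : act 5 n89326 = n100648 := d21_6 (iv5 D19644) (iv1 D9232) D9233 (iv6 F31404) D41720 D89326 (iv1 D100648) (iv5 F137059) (iv6 D89377) (iv1 F64375)
def n100649 : Q := act 7 n46943
theorem D100649 : act 7 n46943 = n100649 := rfl
def n100656 : Q := act 0 n46947
theorem D100656 : act 0 n46947 = n100656 := rfl
theorem F154745 : act 5 n100656 = n48155 := d17_3 F67624 D46947 D100656 F75678 (iv5 F127129) F134030 F134028 F73420 (iv4 F67622)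
theorem F154746 : act 1 n46951 = n100656 := d15_0 (iv0 D100656) (iv7 F75704) F75703
theorem F154747 : act 2 n100619 = n100656 := d2_3 F154745 (iv2 F75680) D100619
def n100657 : Q := act 1 n46947
theorem D100657 : act 1 n46947 = n100657 := rfl
theorem F154749 : act 1 n100657 = n46951 := d15_1 D100657 (iv7 F153084) F153083
theorem F154750 : act 7 n100657 = n100619 := d15_2 (iv0 D100656) D100657 F154747
def n100658 : Q := act 6 n46947
theorem D100658 : act 6 n46947 = n100658 := rfl
def n100660 : Q := act 1 n46948
theorem D100660 : act 1 n46948 = n100660 := rfl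
theorem F154753 : act 4 n48230 = n100660 := d20_6 (iv4 F67216) F67218 (iv4 D42788) (iv3 F67031) F67034 (iv3 F75818) (iv1 D100660) F74165 F65735 F32310
def n100664 : Q := act 0 n46950
theorem D100664 : act 0 n46950 = n100664 := rfl
def n100665 : Q := act 1 n46950
theorem D100665 : act 1 n46950 = n100665 := rfl
def n100666 : Q := act 2 n46950
theorem D100666 : act 2 n46950 = n100666 := rfl
theorem F154767 : act 3 n100666 = n93585 := d0_2 D46950 D100666 F144334 F68793 (iv2 F65968)
def n100667 : Q := act 5 n46950
theorem D100667 : act 5 n46950 = n100667 := rfl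
theorem F154769 : act 3 n100667 = n46951 := d6_1 D100667 (iv5 D46951) D46950
def n100668 : Q := act 6 n46950
theorem D100668 : act 6 n46950 = n100668 := rfl
theorem F154770 : act 3 n100668 = n46952 := d7_1 D100668 (iv6 D46952) D46950
theorem F154771 : act 4 n100668 = n100668 := d10_1 D100668 (iv6 D100668) F74169
def n100669 : Q := act 6 n46951
theorem D100669 : act 6 n46951 = n100669 := rfl
def n100670 : Q := act 5 n46952
theorem D100670 : act 5 n46952 = n100670 := rfl
def n100671 : Q := act 0 n46953
theorem D100671 : act 0 n46953 = n100671 := rfl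
theorem F154774 : act 3 n100671 = n93582 := d20_5 F67528 (iv1 F74173) (iv4 D46954) D46953 D100671 (iv4 D93582) (iv1 D43753) D43755 F68793 F67529
def n100672 : Q := act 1 n46953
theorem D100672 : act 1 n46953 = n100672 := rfl
def n100673 : Q := act 2 n46953
theorem D100673 : act 2 n46953 = n100673 := rfl
def n100674 : Q := act 5 n46953
theorem D100674 : act 5 n46953 = n100674 := rfl
theorem F154775 : act 3 n100674 = n46955 := d6_1 D100674 (iv5 D46955) D46953
def n100675 : Q := act 6 n46953
theorem D100675 : act 6 n46953 = n100675 := rfl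
theorem F154776 : act 3 n100675 = n46956 := d7_1 D100675 (iv6 D46956) D46953
def n100676 : Q := act 6 n46954
theorem D100676 : act 6 n46954 = n100676 := rfl
theorem F154779 : act 4 n100676 = n46956 := d10_1 D100676 (iv6 D46956) D46954
theorem F154780 : act 5 n100676 = n84265 := d12_1 D100676 (iv6 F133536) (iv5 F133533) (iv6 F133534) F127132
theorem F154783 : act 0 n98003 = n46956 := d18_2 F137375 (iv4 F151099) (iv4 F154779) F154780 F137458 F137455 F74184 (iv0 F64549) (iv5 F137373)
def n100677 : Q := act 0 n46955
theorem D100677 : act 0 n46955 = n100677 := rfl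
theorem F154785 : act 5 n100677 = n48152 := d17_3 D22584 D46955 D100677 (iv4 D48152) F63002 (iv0 F65731) F65734 (iv0 D10706) D10708
theorem F154786 : act 1 n46958 = n100677 := d15_0 (iv0 D100677) (iv7 F153096) F153095
theorem F154787 : act 2 n100614 = n100677 := d2_3 F154785 F75668 D100614
def n100678 : Q := act 1 n46955
theorem D100678 : act 1 n46955 = n100678 := rfl
theorem F154789 : act 1 n100678 = n46958 := d15_1 D100678 (iv7 F153090) F153089
theorem F154790 : act 7 n100678 = n100614 := d15_2 (iv0 D100677) D100678 F154787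
def n100679 : Q := act 6 n46955
theorem D100679 : act 6 n46955 = n100679 := rfl
def n100680 : Q := act 5 n46956
theorem D100680 : act 5 n46956 = n100680 := rfl
theorem F154793 : act 0 n100680 = n88724 := d17_2 F154783 D100680 (iv5 D88724) F63868 (iv5 F31465) (iv0 F65737) F65740 (iv0 F72189) (iv4 F151099)
def n100681 : Q := act 7 n46956
theorem D100681 : act 7 n46956 = n100681 := rfl
theorem F154794 : act 1 n47627 = n100681 := d15_1 (iv0 F153093) (iv7 D100681) (iv2 F153091)
theorem F154795 : act 1 n100681 = n92260 := d15_1 F154794 (iv7 F151100) F151098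
def n100682 : Q := act 0 n46957
theorem D100682 : act 0 n46957 = n100682 := rfl
def n100683 : Q := act 1 n46957
theorem D100683 : act 1 n46957 = n100683 := rfl
def n100684 : Q := act 2 n46957
theorem D100684 : act 2 n46957 = n100684 := rfl
theorem F154796 : act 4 n100684 = n93058 := d1_2 (iv4 F74176) D100684 (iv2 D93058)
def n100685 : Q := act 5 n46957
theorem D100685 : act 5 n46957 = n100685 := rfl
theorem F154797 : act 3 n100685 = n46958 := d6_1 D100685 (iv5 D46958) D46957
def n100686 : Q := act 6 n46957
theorem D100686 : act 6 n46957 = n100686 := rfl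
theorem F154798 : act 3 n100686 = n46959 := d7_1 D100686 (iv6 D46959) D46957
theorem F154799 : act 4 n100686 = n93060 := d10_1 D100686 (iv6 D93060) (iv4 F74176)
def n100687 : Q := act 6 n46958
theorem D100687 : act 6 n46958 = n100687 := rfl
def n100689 : Q := act 0 n46960
theorem D100689 : act 0 n46960 = n100689 := rfl
theorem F154802 : act 2 n46964 = n100689 := d15_3 (iv0 D100689) (iv0 D46960) D46964
theorem F154803 : act 7 n100689 = n46962 := d4_2 D46964 F154802 (iv2 D46962)
theorem F154804 : act 1 n46961 = n100689 := d15_1 D46961 F154803 (iv2 D46962)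
def n100690 : Q := act 2 n46960
theorem D100690 : act 2 n46960 = n100690 := rfl
theorem F154805 : act 7 n46961 = n100690 := d15_2 (iv0 D46960) D46961 (iv2 D100690)
def n100691 : Q := act 3 n46960
theorem D100691 : act 3 n46960 = n100691 := rfl
def n100692 : Q := act 4 n46960
theorem D100692 : act 4 n46960 = n100692 := rfl
def n100693 : Q := act 5 n46960
theorem D100693 : act 5 n46960 = n100693 := rfl
def n100694 : Q := act 6 n46960
theorem D100694 : act 6 n46960 = n100694 := rfl
def n100695 : Q := act 7 n46960
theorem D100695 : act 7 n46960 = n100695 := rfl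
theorem F154806 : act 2 n100695 = n46961 := d4_1 D100695 F154805 (iv2 D100690)
def n100696 : Q := act 3 n46961
theorem D100696 : act 3 n46961 = n100696 := rfl
def n100697 : Q := act 4 n46961
theorem D100697 : act 4 n46961 = n100697 := rfl
theorem F154807 : act 3 n93094 = n100697 := d20_5 (iv4 D43337) (iv1 F32524) (iv4 F32683) (iv3 F68448) (iv1 F143581) (iv4 D100697) (iv1 D46961) (iv4 F74034) (iv3 D46846) (iv1 F68042)
def n100698 : Q := act 5 n46961
theorem D100698 : act 5 n46961 = n100698 := rfl
def n100699 : Q := act 6 n46961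
theorem D100699 : act 6 n46961 = n100699 := rfl
def n100700 : Q := act 0 n46962
theorem D100700 : act 0 n46962 = n100700 := rfl
theorem F154808 : act 1 n46964 = n100700 := d15_0 (iv0 D100700) (iv7 F154803) (iv2 F154802)
theorem F154809 : act 4 n93084 = n100700 := d20_6 (iv4 D20600) (iv1 D9761) D9762 D20605 D43554 D93084 (iv1 F154808) (iv4 F143503) (iv3 D93039) (iv1 F68416)
def n100701 : Q := act 1 n46962
theorem D100701 : act 1 n46962 = n100701 := rfl
theorem F154810 : act 1 n100701 = n46964 := d15_1 D100701 (iv7 D46964) D46962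
def n100702 : Q := act 5 n46962
theorem D100702 : act 5 n46962 = n100702 := rfl
theorem F154811 : act 2 n100702 = n46963 := d2_1 D100702 (iv5 D46963) D46962
def n100703 : Q := act 0 n46963
theorem D100703 : act 0 n46963 = n100703 := rfl
def n100704 : Q := act 1 n46963
theorem D100704 : act 1 n46963 = n100704 := rfl
def n100705 : Q := act 4 n46963
theorem D100705 : act 4 n46963 = n100705 := rfl
def n100706 : Q := act 6 n46963
theorem D100706 : act 6 n46963 = n100706 := rfl
theorem F154812 : act 3 n100706 = n46968 := d7_1 D100706 (iv6 D46968) (iv3 F74179)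
theorem F154813 : act 5 n100706 = n88787 := d12_1 D100706 (iv6 D88787) (iv5 D41449) (iv6 F35126) D46963
def n100707 : Q := act 7 n46963
theorem D100707 : act 7 n46963 = n100707 := rfl
theorem F154814 : act 3 n100707 = n46969 := d8_1 D100707 (iv7 D46969) (iv3 F74179)
theorem F154815 : act 5 n100707 = n46964 := d13_1 D100707 (iv7 D46964) D46963
def n100708 : Q := act 6 n46964
theorem D100708 : act 6 n46964 = n100708 := rfl
theorem F154816 : act 3 n100708 = n46970 := d7_1 D100708 (iv6 D46970) (iv3 F74180)
def n100714 : Q := act 6 n46967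
theorem D100714 : act 6 n46967 = n100714 := rfl
theorem F154820 : act 4 n100714 = n46968 := d10_1 D100714 (iv6 D46968) D46967
def n100715 : Q := act 0 n46968
theorem D100715 : act 0 n46968 = n100715 := rfl
def n100716 : Q := act 1 n46968
theorem D100716 : act 1 n46968 = n100716 := rfl
def n100717 : Q := act 7 n46968
theorem D100717 : act 7 n46968 = n100717 := rfl
theorem F154821 : act 5 n100717 = n88796 := d13_1 D100717 (iv7 D88796) (iv5 F74182)
def n100718 : Q := act 6 n46969
theorem D100718 : act 6 n46969 = n100718 := rfl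
def n100720 : Q := act 6 n46971
theorem D100720 : act 6 n46971 = n100720 := rfl
theorem F154823 : act 3 n100720 = n47800 := d7_1 D100720 (iv6 D47800) (iv3 F74187)
theorem F154824 : act 4 n100720 = n87741 := d10_1 D100720 (iv6 D87741) (iv4 F74186)
def n100721 : Q := act 6 n46972
theorem D100721 : act 6 n46972 = n100721 := rfl
theorem F154825 : act 3 n100721 = n47791 := d7_1 D100721 (iv6 D47791) F74191
theorem F154826 : act 4 n100721 = n87740 := d10_1 D100721 (iv6 D87740) F74190
def n100722 : Q := act 6 n46973
theorem D100722 : act 6 n46973 = n100722 := rfl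
def n100723 : Q := act 0 n46974
theorem D100723 : act 0 n46974 = n100723 := rfl
def n100724 : Q := act 1 n46974
theorem D100724 : act 1 n46974 = n100724 := rfl
def n100725 : Q := act 5 n46974
theorem D100725 : act 5 n46974 = n100725 := rfl
def n100726 : Q := act 7 n46974
theorem D100726 : act 7 n46974 = n100726 := rfl
theorem F154827 : act 4 n100726 = n46979 := d11_1 D100726 (iv7 D46979) (iv4 F74192)
def n100727 : Q := act 0 n46975
theorem D100727 : act 0 n46975 = n100727 := rfl
theorem F154828 : act 3 n100727 = n69913 := d20_5 D84639 F129822 F60982 (iv3 F74193) D100727 (iv4 D69913) (iv1 F51550) (iv4 F51571) F51570 (iv1 F60094)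
def n100728 : Q := act 1 n46975
theorem D100728 : act 1 n46975 = n100728 := rfl
def n100729 : Q := act 5 n46975
theorem D100729 : act 5 n46975 = n100729 := rfl
theorem F154830 : act 6 n100729 = n46978 := d12_2 D46975 D100729 (iv5 D46978) (iv6 D22592) D22591
def n100730 : Q := act 7 n46975
theorem D100730 : act 7 n46975 = n100730 := rfl
theorem F154831 : act 3 n100730 = n81836 := d8_1 D100730 (iv7 D81836) (iv3 F74193)
theorem F154832 : act 4 n100730 = n82963 := d11_1 D100730 (iv7 D82963) (iv4 F74194)
theorem F154833 : act 6 n100730 = n83503 := d14_1 D100730 (iv7 D83503) (iv6 D38496) (iv7 F35130) D46975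
theorem F154834 : act 0 n100730 = n70024 := d20_7 F29917 F130258 D33795 F118003 (iv1 F113498) (iv3 F127865) (iv4 F154832) (iv4 F130286) (iv3 D84949) (iv1 D39297)
theorem F154835 : act 1 n89106 = n70024 := d15_0 (iv0 F154834) (iv7 D100730) (iv2 F136822)
theorem F154836 : act 4 n80220 = n80715 := d20_0 (iv1 F124191) (iv4 F123372) F123371 (iv1 F86875) D84949 F130286 (iv1 F154835) F136823 F123229 D80220
theorem F154837 : act 0 n58170 = n96654 := d20_7 (iv4 F154836) (iv1 F123239) (iv4 F122378) (iv3 D79711) (iv1 F118416) D86528 F132737 F148947 F124180 D80715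
def n100731 : Q := act 2 n46976
theorem D100731 : act 2 n46976 = n100731 := rfl
def n100732 : Q := act 3 n46976
theorem D100732 : act 3 n46976 = n100732 := rfl
def n100733 : Q := act 4 n46976
theorem D100733 : act 4 n46976 = n100733 := rfl
def n100734 : Q := act 5 n46976
theorem D100734 : act 5 n46976 = n100734 := rfl
def n100735 : Q := act 6 n46976
theorem D100735 : act 6 n46976 = n100735 := rfl
def n100736 : Q := act 7 n46976
theorem D100736 : act 7 n46976 = n100736 := rfl
def n100741 : Q := act 0 n46978
theorem D100741 : act 0 n46978 = n100741 := rfl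
def n100742 : Q := act 1 n46978
theorem D100742 : act 1 n46978 = n100742 := rfl
def n100743 : Q := act 4 n46978
theorem D100743 : act 4 n46978 = n100743 := rfl
def n100744 : Q := act 7 n46978
theorem D100744 : act 7 n46978 = n100744 := rfl
theorem F154840 : act 5 n100744 = n46979 := d13_1 D100744 (iv7 D46979) D46978
def n100745 : Q := act 6 n46980
theorem D100745 : act 6 n46980 = n100745 := rfl
theorem F154841 : act 2 n100745 = n81833 := d3_1 D100745 (iv6 D81833) (iv2 F74195)
theorem F154842 : act 3 n100745 = n46984 := d7_1 D100745 (iv6 D46984) (iv3 F74196)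
theorem F154843 : act 4 n100745 = n80742 := d10_1 D100745 (iv6 D80742) (iv4 F74197)
def n100746 : Q := act 0 n46981
theorem D100746 : act 0 n46981 = n100746 := rfl
def n100747 : Q := act 1 n46981
theorem D100747 : act 1 n46981 = n100747 := rfl
def n100748 : Q := act 5 n46981
theorem D100748 : act 5 n46981 = n100748 := rfl
theorem F154844 : act 3 n100748 = n46987 := d6_1 D100748 (iv5 D46987) (iv3 F74198)
def n100749 : Q := act 7 n46981
theorem D100749 : act 7 n46981 = n100749 := rfl
def n100750 : Q := act 6 n46982
theorem D100750 : act 6 n46982 = n100750 := rfl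
theorem F154846 : act 3 n100750 = n96530 := d7_1 D100750 (iv6 D96530) (iv3 F74199)
def n100751 : Q := act 0 n46983
theorem D100751 : act 0 n46983 = n100751 := rfl
def n100752 : Q := act 1 n46983
theorem D100752 : act 1 n46983 = n100752 := rfl
def n100753 : Q := act 5 n46983
theorem D100753 : act 5 n46983 = n100753 := rfl
def n100754 : Q := act 7 n46983
theorem D100754 : act 7 n46983 = n100754 := rfl
def n100755 : Q := act 0 n46984
theorem D100755 : act 0 n46984 = n100755 := rfl
def n100756 : Q := act 1 n46984
theorem D100756 : act 1 n46984 = n100756 := rfl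
theorem F154848 : act 1 n100756 = n83503 := d15_1 D100756 (iv7 D83503) (iv2 F74201)
theorem F154849 : act 3 n100756 = n54411 := d20_5 F91361 (iv1 F118772) (iv4 F135899) F135898 (iv1 F154848) (iv4 D54411) (iv1 D26314) (iv4 F41929) F41928 D27661
def n100757 : Q := act 5 n46984
theorem D100757 : act 5 n46984 = n100757 := rfl
theorem F154850 : act 2 n100757 = n83502 := d2_1 D100757 (iv5 D83502) (iv2 F74201)
theorem F154851 : act 6 n100757 = n46987 := d12_2 D46984 D100757 (iv5 D46987) (iv6 D22596) D22595
def n100758 : Q := act 7 n46984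
theorem D100758 : act 7 n46984 = n100758 := rfl
theorem F154852 : act 2 n100758 = n83503 := d4_1 D100758 (iv7 D83503) (iv2 F74201)
theorem F154853 : act 4 n100758 = n83499 := d11_1 D100758 (iv7 D83499) (iv4 F74202)
theorem F154854 : act 1 n83503 = n100755 := d15_0 (iv0 D100755) D100758 F154852
theorem F154855 : act 1 n83501 = n100758 := d15_1 D83501 (iv7 D100758) F74201
theorem F154856 : act 1 n100758 = n83500 := d15_0 (iv0 D83500) D83503 (iv2 F154852)
theorem F154857 : act 4 n80175 = n80687 := d20_0 (iv1 D80687) F57761 F56165 D39285 D84913 (iv4 F130127) (iv1 F154856) F154853 F128602 (iv1 F123122)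
def n100769 : Q := act 0 n46987
theorem D100769 : act 0 n46987 = n100769 := rfl
def n100770 : Q := act 1 n46987
theorem D100770 : act 1 n46987 = n100770 := rfl
def n100771 : Q := act 4 n46987
theorem D100771 : act 4 n46987 = n100771 := rfl
def n100772 : Q := act 7 n46987
theorem D100772 : act 7 n46987 = n100772 := rfl
def n100773 : Q := act 6 n46989
theorem D100773 : act 6 n46989 = n100773 := rfl
theorem F154862 : act 3 n100773 = n54816 := d7_1 D100773 (iv6 D54816) (iv3 F74204)
theorem F154863 : act 4 n100773 = n46990 := d10_1 D100773 (iv6 D46990) D46989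
def n100774 : Q := act 0 n46990
theorem D100774 : act 0 n46990 = n100774 := rfl
def n100775 : Q := act 1 n46990
theorem D100775 : act 1 n46990 = n100775 := rfl
theorem F154864 : act 1 n100775 = n47010 := d15_1 D100775 (iv7 D47010) (iv2 F74205)
def n100776 : Q := act 5 n46990
theorem D100776 : act 5 n46990 = n100776 := rfl
theorem F154865 : act 2 n100776 = n47009 := d2_1 D100776 (iv5 D47009) (iv2 F74205)
theorem F154866 : act 3 n100776 = n69886 := d6_1 D100776 (iv5 D69886) (iv3 F74206)
theorem F154867 : act 6 n100776 = n46993 := d12_2 D46990 D100776 (iv5 D46993) (iv6 D22598) D22597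
def n100777 : Q := act 7 n46990
theorem D100777 : act 7 n46990 = n100777 := rfl
theorem F154868 : act 2 n100777 = n47010 := d4_1 D100777 (iv7 D47010) (iv2 F74205)
theorem F154869 : act 3 n100777 = n69887 := d8_1 D100777 (iv7 D69887) (iv3 F74206)
theorem F154870 : act 1 n47010 = n100774 := d15_0 (iv0 D100774) D100777 F154868
theorem F154871 : act 1 n47008 = n100777 := d15_1 D47008 (iv7 D100777) F74205
theorem F154872 : act 1 n100777 = n47007 := d15_0 (iv0 D47007) D47010 (iv2 F154868)
def n100778 : Q := act 2 n46991
theorem D100778 : act 2 n46991 = n100778 := rfl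
theorem F154873 : act 7 n46992 = n100778 := d15_2 (iv0 D46991) D46992 (iv2 D100778)
theorem F154874 : act 3 n100778 = n88038 := d8_1 F154873 (iv7 F135047) (iv3 F142705)
def n100779 : Q := act 3 n46991
theorem D100779 : act 3 n46991 = n100779 := rfl
theorem F154875 : act 2 n100779 = n88039 := d0_1 D100779 (iv3 D88039) D88038 (iv3 F154874) (iv2 D100778)
theorem F154876 : act 4 n100779 = n87857 := d20_6 (iv4 F134730) (iv1 D87758) (iv4 F73439) F73438 D46991 D100779 (iv1 F154097) (iv4 D100164) (iv3 F143896) (iv1 F143902)
def n100780 : Q := act 4 n46991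
theorem D100780 : act 4 n46991 = n100780 := rfl
theorem F154877 : act 3 n100780 = n47764 := d20_3 F70743 D46991 D100780 (iv1 F75362) F75357 F36232 (iv1 F17719) D10925 D23226 (iv1 F74220)
def n100781 : Q := act 5 n46991
theorem D100781 : act 5 n46991 = n100781 := rfl
def n100782 : Q := act 6 n46991
theorem D100782 : act 6 n46991 = n100782 := rfl
def n100783 : Q := act 7 n46991
theorem D100783 : act 7 n46991 = n100783 := rfl
def n100784 : Q := act 4 n46992
theorem D100784 : act 4 n46992 = n100784 := rfl
def n100785 : Q := act 5 n46992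
theorem D100785 : act 5 n46992 = n100785 := rfl
theorem F154879 : act 3 n100785 = n88045 := d6_1 D100785 (iv5 D88045) (iv3 F142705)
def n100786 : Q := act 6 n46992
theorem D100786 : act 6 n46992 = n100786 := rfl
theorem F154880 : act 3 n100786 = n88046 := d7_1 D100786 (iv6 D88046) (iv3 F142705)
def n100787 : Q := act 0 n46993
theorem D100787 : act 0 n46993 = n100787 := rfl
def n100788 : Q := act 1 n46993
theorem D100788 : act 1 n46993 = n100788 := rfl
theorem F154881 : act 1 n100788 = n47024 := d15_1 D100788 (iv7 D47024) (iv2 F74208)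
theorem F154882 : act 5 n89115 = n100788 := d21_6 F64250 (iv1 D41633) (iv5 D19603) D19604 D41635 D89115 (iv1 D100788) (iv5 D46993) (iv6 D22598) (iv1 F34788)
def n100789 : Q := act 4 n46993
theorem D100789 : act 4 n46993 = n100789 := rfl
theorem F154883 : act 2 n100789 = n47023 := d1_1 D100789 (iv4 D47023) (iv2 F74208)
def n100790 : Q := act 7 n46993
theorem D100790 : act 7 n46993 = n100790 := rfl
theorem F154884 : act 2 n100790 = n47024 := d4_1 D100790 (iv7 D47024) (iv2 F74208)
theorem F154885 : act 5 n100790 = n46994 := d13_1 D100790 (iv7 D46994) D46993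
theorem F154886 : act 1 n47024 = n100787 := d15_0 (iv0 D100787) D100790 F154884
theorem F154887 : act 1 n47022 = n100790 := d15_1 D47022 (iv7 D100790) F74208
theorem F154888 : act 1 n100790 = n47021 := d15_0 (iv0 D47021) D47024 (iv2 F154884)
def n100791 : Q := act 3 n46995
theorem D100791 : act 3 n46995 = n100791 := rfl
theorem F154889 : act 4 n100791 = n76708 := d5_2 D46995 D100791 (iv3 F115056) F58237 (iv3 F35138)
def n100792 : Q := act 6 n46995
theorem D100792 : act 6 n46995 = n100792 := rfl
theorem F154890 : act 4 n100792 = n46996 := d10_1 D100792 (iv6 D46996) D46995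
def n100793 : Q := act 0 n46996
theorem D100793 : act 0 n46996 = n100793 := rfl
def n100794 : Q := act 1 n46996
theorem D100794 : act 1 n46996 = n100794 := rfl
def n100795 : Q := act 5 n46996
theorem D100795 : act 5 n46996 = n100795 := rfl
theorem F154891 : act 3 n100795 = n95293 := d6_1 D100795 (iv5 D95293) (iv3 F74213)
theorem F154892 : act 6 n100795 = n46999 := d12_2 D46996 D100795 (iv5 D46999) (iv6 D22600) D22599
def n100796 : Q := act 7 n46996
theorem D100796 : act 7 n46996 = n100796 := rfl
theorem F154893 : act 3 n100796 = n95294 := d8_1 D100796 (iv7 D95294) (iv3 F74213)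
def n100797 : Q := act 5 n46997
theorem D100797 : act 5 n46997 = n100797 := rfl
theorem F154894 : act 3 n100797 = n47994 := d6_1 D100797 (iv5 D47994) (iv3 F74214)
theorem F154895 : act 7 n100797 = n48104 := d13_2 F74215 D100797 (iv5 D48104)
def n100798 : Q := act 5 n46998
theorem D100798 : act 5 n46998 = n100798 := rfl
theorem F154896 : act 2 n100798 = n48104 := d2_1 D100798 (iv5 D48104) (iv2 F143250)
def n100799 : Q := act 6 n46998
theorem D100799 : act 6 n46998 = n100799 := rfl
theorem F154897 : act 2 n100799 = n48105 := d3_1 D100799 (iv6 D48105) (iv2 F143250)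
def n100800 : Q := act 0 n46999
theorem D100800 : act 0 n46999 = n100800 := rfl
def n100801 : Q := act 1 n46999
theorem D100801 : act 1 n46999 = n100801 := rfl
def n100802 : Q := act 4 n46999
theorem D100802 : act 4 n46999 = n100802 := rfl
def n100803 : Q := act 7 n46999
theorem D100803 : act 7 n46999 = n100803 := rfl
theorem F154898 : act 3 n100803 = n95296 := d8_1 D100803 (iv7 D95296) (iv3 F74216)
theorem F154899 : act 5 n100803 = n47000 := d13_1 D100803 (iv7 D47000) D46999
def n100804 : Q := act 6 n47001
theorem D100804 : act 6 n47001 = n100804 := rfl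
theorem F154900 : act 2 n100804 = n86394 := d3_1 D100804 (iv6 D86394) (iv2 F74221)
theorem F154901 : act 3 n100804 = n47002 := d7_1 D100804 (iv6 D47002) D47001
theorem F154902 : act 4 n100804 = n79373 := d10_1 D100804 (iv6 D79373) (iv4 F74222)
def n100805 : Q := act 0 n47002
theorem D100805 : act 0 n47002 = n100805 := rfl
def n100806 : Q := act 1 n47002
theorem D100806 : act 1 n47002 = n100806 := rfl
def n100807 : Q := act 5 n47002
theorem D100807 : act 5 n47002 = n100807 := rfl
theorem F154903 : act 6 n100807 = n89095 := d12_2 D47002 D100807 (iv5 D89095) (iv6 D41628) F58716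
def n100808 : Q := act 7 n47002
theorem D100808 : act 7 n47002 = n100808 := rfl
def n100809 : Q := act 6 n47003
theorem D100809 : act 6 n47003 = n100809 := rfl
theorem F154905 : act 4 n100809 = n87336 := d10_1 D100809 (iv6 D87336) (iv4 F74247)
def n100810 : Q := act 3 n47004
theorem D100810 : act 3 n47004 = n100810 := rfl
theorem F154907 : act 4 n100810 = n55360 := d5_2 F74248 D100810 F87618 (iv4 D46860) D46859
theorem F154908 : act 5 n100810 = n56011 := d6_2 F109565 D100810 (iv3 F109566)
theorem F154909 : act 7 n100810 = n77460 := d8_2 F152394 D100810 (iv3 F152393)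
theorem F154910 : act 0 n100810 = n56305 := d19_4 (iv1 F64173) (iv5 F74064) F74248 D100810 F89078 F43911 (iv3 D17738) (iv1 F21615) (iv5 F28476) (iv4 F28675) F28673 (iv1 F13520) (iv5 F13575) F13574 (iv3 F17167) D22311 (iv5 F74225) (iv4 F72602) (iv3 F72606)
def n100811 : Q := act 6 n47004
theorem D100811 : act 6 n47004 = n100811 := rfl
theorem F154912 : act 4 n100811 = n100402 := d10_1 D100811 (iv6 D100402) F74248
def n100812 : Q := act 0 n47005
theorem D100812 : act 0 n47005 = n100812 := rfl
theorem F154913 : act 5 n100812 = n47214 := d17_3 (iv1 D47004) D47005 D100812 F74488 (iv5 D44576) D44574 (iv5 F113355) F113357 F74248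
theorem F154914 : act 3 n100812 = n82499 := d20_5 (iv4 F113256) F127482 (iv4 D82711) (iv3 F74249) D100812 (iv4 F127152) (iv1 F123601) F115823 (iv3 F113249) (iv1 F113253)
theorem F154915 : act 1 n80274 = n100812 := d15_0 (iv0 D100812) (iv7 F128489) F128486
theorem F154916 : act 2 n80125 = n100812 := d0_5 F154914 (iv2 F128182) F128183 F125378 D80125
def n100813 : Q := act 1 n47005
theorem D100813 : act 1 n47005 = n100813 := rfl
theorem F154917 : act 1 n100813 = n80274 := d15_1 D100813 (iv7 F130115) F130113
theorem F154918 : act 7 n100813 = n80125 := d15_2 (iv0 D100812) D100813 F154916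
theorem F154920 : act 4 n100813 = n95457 := d17_9 (iv1 F147106) F87727 (iv1 F109564) (iv5 D73040) D73039 F109560 (iv0 D47003) D47005 D100813
theorem F154921 : act 3 n56412 = n100813 := d19_19 (iv1 D100813) (iv5 D47005) (iv4 D22602) F17242 D10717 F17246 (iv4 D9144) F6015 (iv1 F6017) F7124 D1958 F6547 D3952 D8864 D18906 D39976 D86362 (iv5 F133459) F133460
def n100815 : Q := act 0 n47006
theorem D100815 : act 0 n47006 = n100815 := rfl
def n100816 : Q := act 1 n47006
theorem D100816 : act 1 n47006 = n100816 := rfl
def n100818 : Q := act 7 n47006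
theorem D100818 : act 7 n47006 = n100818 := rfl
theorem F154925 : act 4 n100818 = n47010 := d11_1 D100818 (iv7 D47010) (iv4 F74251)
def n100819 : Q := act 2 n47007
theorem D100819 : act 2 n47007 = n100819 := rfl
theorem F154926 : act 7 n47008 = n100819 := d15_2 (iv0 D47007) D47008 (iv2 D100819)
def n100820 : Q := act 3 n47007
theorem D100820 : act 3 n47007 = n100820 := rfl
def n100821 : Q := act 4 n47007
theorem D100821 : act 4 n47007 = n100821 := rfl
def n100822 : Q := act 5 n47007
theorem D100822 : act 5 n47007 = n100822 := rfl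
def n100823 : Q := act 6 n47007
theorem D100823 : act 6 n47007 = n100823 := rfl
def n100824 : Q := act 7 n47007
theorem D100824 : act 7 n47007 = n100824 := rfl
theorem F154927 : act 2 n100824 = n47008 := d4_1 D100824 F154926 (iv2 D100819)
def n100825 : Q := act 3 n47008
theorem D100825 : act 3 n47008 = n100825 := rfl
def n100826 : Q := act 4 n47008
theorem D100826 : act 4 n47008 = n100826 := rfl
def n100827 : Q := act 5 n47008
theorem D100827 : act 5 n47008 = n100827 := rfl
def n100828 : Q := act 6 n47008
theorem D100828 : act 6 n47008 = n100828 := rfl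
def n100829 : Q := act 0 n47009
theorem D100829 : act 0 n47009 = n100829 := rfl
def n100830 : Q := act 1 n47009
theorem D100830 : act 1 n47009 = n100830 := rfl
def n100831 : Q := act 4 n47009
theorem D100831 : act 4 n47009 = n100831 := rfl
theorem F154928 : act 6 n100831 = n47023 := d10_2 (iv6 F74253) D100831 (iv4 D47023)
def n100832 : Q := act 7 n47009
theorem D100832 : act 7 n47009 = n100832 := rfl
theorem F154929 : act 3 n100832 = n47049 := d8_1 D100832 (iv7 D47049) (iv3 F74252)
theorem F154930 : act 5 n100832 = n47010 := d13_1 D100832 (iv7 D47010) D47009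
def n100833 : Q := act 0 n47011
theorem D100833 : act 0 n47011 = n100833 := rfl
theorem F154931 : act 1 n47016 = n100833 := d15_0 (iv0 D100833) (iv7 F74255) (iv2 F74256)
def n100835 : Q := act 3 n47011
theorem D100835 : act 3 n47011 = n100835 := rfl
theorem F154933 : act 7 n100835 = n47017 := d8_2 F74255 D100835 (iv3 D47017)
def n100836 : Q := act 4 n47011
theorem D100836 : act 4 n47011 = n100836 := rfl
theorem F154934 : act 2 n100836 = n47013 := d1_1 D100836 (iv4 D47013) D47011
theorem F154935 : act 7 n100836 = n47018 := d11_2 F74255 D100836 (iv4 D47018)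
def n100837 : Q := act 5 n47011
theorem D100837 : act 5 n47011 = n100837 := rfl
theorem F154936 : act 2 n100837 = n47014 := d2_1 D100837 (iv5 D47014) D47011
theorem F154937 : act 7 n100837 = n47019 := d13_2 F74255 D100837 (iv5 D47019)
def n100838 : Q := act 6 n47011
theorem D100838 : act 6 n47011 = n100838 := rfl
theorem F154938 : act 2 n100838 = n47015 := d3_1 D100838 (iv6 D47015) D47011
def n100839 : Q := act 2 n47012
theorem D100839 : act 2 n47012 = n100839 := rfl
theorem F154939 : act 7 n88035 = n100839 := d15_2 (iv0 F126434) D88035 (iv2 D100839)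
def n100840 : Q := act 5 n47012
theorem D100840 : act 5 n47012 = n100840 := rfl
theorem F154940 : act 3 n100840 = n47014 := d6_1 D100840 (iv5 D47014) D47012
def n100841 : Q := act 6 n47012
theorem D100841 : act 6 n47012 = n100841 := rfl
theorem F154941 : act 3 n100841 = n47015 := d7_1 D100841 (iv6 D47015) D47012
def n100842 : Q := act 7 n47012
theorem D100842 : act 7 n47012 = n100842 := rfl
theorem F154942 : act 2 n100842 = n88035 := d4_1 D100842 F154939 (iv2 D100839)
theorem F154943 : act 3 n100842 = n47016 := d8_1 D100842 (iv7 D47016) D47012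
def n100843 : Q := act 0 n47013
theorem D100843 : act 0 n47013 = n100843 := rfl
theorem F154944 : act 4 n100843 = n87911 := d20_2 D47013 D100843 (iv3 F154219) (iv1 D90790) (iv3 D42516) (iv4 D20074) F66041 F17245 (iv3 F17243) D22604
theorem F154945 : act 3 n100843 = n92933 := d20_5 F70592 D46508 D99480 F153250 D100843 (iv4 F143300) (iv1 F138895) D90653 (iv3 F139564) F143301
theorem F154946 : act 0 n100843 = n47018 := d20_10 (iv4 D47018) (iv1 D22605) (iv4 F35140) F35139 F66025 D23040 (iv4 F65159) D90299 F143300 (iv3 F154945)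
def n100844 : Q := act 1 n47013
theorem D100844 : act 1 n47013 = n100844 := rfl
theorem F154947 : act 1 n100844 = n47018 := d15_1 D100844 (iv7 F154935) F154934
theorem F154948 : act 4 n87910 = n100844 := d20_0 (iv1 D100844) (iv4 D47013) D47012 F126435 F62338 (iv4 F34733) F62961 F62578 D41017 D87910
theorem F154949 : act 3 n100844 = n47830 := d20_3 (iv4 F63055) D87910 F154948 (iv1 D47830) (iv3 D23016) F35765 F66029 (iv4 F70030) (iv3 F74217) F74219
def n100845 : Q := act 5 n47013
theorem D100845 : act 5 n47013 = n100845 := rfl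
def n100846 : Q := act 6 n47013
theorem D100846 : act 6 n47013 = n100846 := rfl
theorem F154950 : act 4 n100846 = n47015 := d10_1 D100846 (iv6 D47015) D47013
def n100847 : Q := act 7 n47013
theorem D100847 : act 7 n47013 = n100847 := rfl
theorem F154951 : act 2 n100847 = n47018 := d4_1 D100847 (iv7 F154935) F154934
theorem F154952 : act 4 n100847 = n47016 := d11_1 D100847 (iv7 D47016) D47013
def n100848 : Q := act 0 n47014
theorem D100848 : act 0 n47014 = n100848 := rfl
def n100849 : Q := act 1 n47014
theorem D100849 : act 1 n47014 = n100849 := rfl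
theorem F154953 : act 1 n100849 = n47019 := d15_1 D100849 (iv7 F154937) F154936
def n100850 : Q := act 4 n47014
theorem D100850 : act 4 n47014 = n100850 := rfl
def n100851 : Q := act 6 n47014
theorem D100851 : act 6 n47014 = n100851 := rfl
def n100852 : Q := act 7 n47014
theorem D100852 : act 7 n47014 = n100852 := rfl
theorem F154954 : act 2 n100852 = n47019 := d4_1 D100852 (iv7 F154937) F154936
theorem F154955 : act 5 n100852 = n47016 := d13_1 D100852 (iv7 D47016) D47014
theorem F154956 : act 1 n47019 = n100848 := d15_0 (iv0 D100848) D100852 F154954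
def n100853 : Q := act 0 n47015
theorem D100853 : act 0 n47015 = n100853 := rfl
def n100854 : Q := act 1 n47015
theorem D100854 : act 1 n47015 = n100854 := rfl
def n100855 : Q := act 5 n47015
theorem D100855 : act 5 n47015 = n100855 := rfl
def n100856 : Q := act 7 n47015
theorem D100856 : act 7 n47015 = n100856 := rfl
def n100857 : Q := act 6 n47016
theorem D100857 : act 6 n47016 = n100857 := rfl
theorem F154957 : act 2 n100857 = n47020 := d3_1 D100857 (iv6 D47020) (iv2 F74256)
def n100858 : Q := act 0 n47017
theorem D100858 : act 0 n47017 = n100858 := rfl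
theorem F154958 : act 4 n100858 = n100168 := d20_0 (iv1 F154111) F75113 (iv3 F73857) (iv1 F139731) F154219 (iv4 F154944) F154946 (iv4 D47018) D47017 D100858
def n100859 : Q := act 1 n47017
theorem D100859 : act 1 n47017 = n100859 := rfl
def n100860 : Q := act 2 n47017
theorem D100860 : act 2 n47017 = n100860 := rfl
theorem F154959 : act 3 n100860 = n88035 := d0_2 D47017 D100860 (iv2 F154942) F154943 F74256
theorem F154960 : act 4 n87858 = n100860 := d20_2 D100164 (iv1 F154096) F154959 (iv1 D88035) (iv3 F74371) F74372 (iv1 F138962) F138960 F73857 (iv1 F73865)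
def n100861 : Q := act 4 n47017
theorem D100861 : act 4 n47017 = n100861 := rfl
theorem F154961 : act 2 n100861 = n87858 := d1_1 D100861 F154960 (iv2 D100860)
theorem F154962 : act 0 n100861 = n87853 := d20_7 (iv4 D87762) (iv1 F134736) (iv4 F153154) F153153 (iv1 F74211) D47017 D100861 F134841 (iv3 F74321) (iv1 F143901)
theorem F154963 : act 0 n48080 = n100861 := d20_10 (iv4 D100861) D100858 F154958 F154110 (iv1 D92934) (iv3 D43477) (iv4 D20560) (iv1 F62650) (iv4 F62533) D48080
theorem F154964 : act 7 n87857 = n100861 := d15_2 F154096 F154097 F154961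
theorem E14928 : n100835 = n100779 := (c11_3 F154964 (iv4 D100861) (iv7 F154933) F154876)
theorem E14929 : n47011 = n46991 := ((((iv3 D100779)).symm.trans (sb E14928 (iv3 D100835)))).symm
theorem F154965 : act 7 n100779 = n47017 := (sb E14928 F154933)
theorem E14930 : n100833 = n22607 := ((((iv1 F74210)).symm.trans (sb E14929 D100833))).symm
theorem E14932 : n100778 = n22604 := ((D100778).symm.trans (sb E14929 (iv2 D47011)))
theorem E14933 : n100836 = n100780 := (((D100780).symm.trans (sb E14929 D100836))).symm
theorem E14934 : n100837 = n100781 := (((D100781).symm.trans (sb E14929 D100837))).symm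
theorem E14935 : n100838 = n100782 := (((D100782).symm.trans (sb E14929 D100838))).symm
theorem E14936 : n100783 = n22605 := ((D100783).symm.trans (sb E14929 (iv7 F74255)))
theorem E14937 : n47016 = n46992 := ((((iv1 F74207)).symm.trans (sb E14930 (iv1 F154931)))).symm
theorem F154966 : act 2 n22604 = n46991 := (sb E14932 (iv2 D100778))
theorem E14938 : n88038 = n47012 := (((D47012).symm.trans (sb E14932 F154874))).symm
theorem F154967 : act 2 n100780 = n47013 := (sb E14933 F154934)
theorem F154968 : act 7 n100780 = n47018 := (sb E14933 F154935)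
theorem F154969 : act 2 n100781 = n47014 := (sb E14934 F154936)
theorem F154970 : act 7 n100781 = n47019 := (sb E14934 F154937)
theorem F154971 : act 2 n100782 = n47015 := (sb E14935 F154938)
theorem F154972 : act 7 n22605 = n46991 := (sb E14936 (iv7 D100783))
theorem F154973 : act 2 n46992 = n22605 := (sb E14937 F74256)
theorem E14939 : n100842 = n41106 := (((F142705).symm.trans (sb E14937 (iv3 F154943)))).symm
theorem E14940 : n100847 = n100784 := (((D100784).symm.trans (sb E14937 (iv4 F154952)))).symm
theorem E14941 : n100852 = n100785 := (((D100785).symm.trans (sb E14937 (iv5 F154955)))).symm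
theorem E14942 : n100857 = n100786 := (((D100786).symm.trans (sb E14937 D100857))).symm
theorem F154974 : act 7 n46992 = n22604 := (sb E14937 (iv7 D47016))
theorem E14943 : n100839 = n41105 := ((D100839).symm.trans (sb E14938 (iv2 D88038)))
theorem E14944 : n99869 = n82006 := (((F126433).symm.trans (sb E14938 (iv4 F153783)))).symm
theorem E14945 : n88042 = n88035 := (((iv2 F135048)).symm.trans (sb E14939 F154942))
theorem F154975 : act 7 n41106 = n47012 := (sb E14939 (iv7 D100842))
theorem F154976 : act 2 n100784 = n47018 := (sb E14940 F154951)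
theorem F154977 : act 7 n100784 = n47013 := (sb E14940 (iv7 D100847))
theorem F154978 : act 2 n100785 = n47019 := (sb E14941 F154954)
theorem F154979 : act 7 n100785 = n47014 := (sb E14941 (iv7 D100852))
theorem F154980 : act 2 n100786 = n47020 := (sb E14942 F154957)
theorem F154981 : act 2 n41105 = n47012 := (sb E14943 (iv2 D100839))
theorem F154982 : act 2 n82006 = n46642 := (sb E14944 (iv2 D99869))
theorem F154983 : act 7 n82006 = n46643 := (sb E14944 (iv7 F153784))
theorem F154984 : act 2 n88035 = n41106 := (sb E14945 F135048)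
theorem E14946 : n99873 = n82007 := ((((iv4 F135037)).symm.trans (sb E14945 (iv4 F153787)))).symm
theorem F154985 : act 7 n88035 = n41105 := (sb E14945 (iv7 D88042))
theorem F154986 : act 2 n82007 = n46643 := (sb E14946 F153786)
theorem F154987 : act 7 n82007 = n46642 := (sb E14946 (iv7 D99873))
theorem F154988 : act 7 n88039 = n100860 := d8_2 F154985 D88039 F154959
theorem E14947 : n100859 = n100226 := (c15_1 D100859 (iv0 F154166) F154988 (iv2 D100860))
theorem F154989 : act 0 n100226 = n47017 := (sb E14947 (iv1 D100859))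
theorem E14948 : n99483 = n99471 := ((c8_2 F154983 F153233 (iv7 D99483) F126436)).symm
theorem F154990 : act 2 n99471 = n46509 := (sb E14948 F153251)
theorem F154991 : act 7 n99471 = n46508 := (sb E14948 (iv7 D99483))
theorem E14949 : n99479 = n99470 := (c15_4 (iv0 D99470) D99471 F154991 D99479)
theorem F154992 : act 2 n99470 = n46508 := (sb E14949 (iv2 D99479))
theorem F154993 : act 7 n99470 = n46509 := (sb E14949 (iv7 F153249))
theorem F154995 : act 2 n100841 = n88041 := d3_3 (iv6 D88041) F154981 D100841
theorem F154997 : act 7 n47982 = n47764 := d8_2 F154968 (iv3 F75353) (iv3 F154877)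
theorem F154998 : act 2 n47764 = n47981 := d15_3 (iv0 D47981) D47982 F154997
theorem F154999 : act 2 n47982 = n47765 := d15_3 F75361 F75362 (iv7 F154997)
theorem F155000 : act 7 n47765 = n47981 := d4_2 (iv7 F154997) F154999 (iv2 F154998)
theorem F155001 : act 1 n88039 = n100858 := d15_0 (iv0 D100858) (iv7 F154965) F154875
def n100862 : Q := act 5 n47017
theorem D100862 : act 5 n47017 = n100862 := rfl
theorem F155002 : act 3 n100862 = n47019 := d6_1 D100862 (iv5 D47019) D47017
def n100863 : Q := act 6 n47017
theorem D100863 : act 6 n47017 = n100863 := rfl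
theorem F155003 : act 3 n100863 = n47020 := d7_1 D100863 (iv6 D47020) D47017
def n100864 : Q := act 5 n47018
theorem D100864 : act 5 n47018 = n100864 := rfl
def n100865 : Q := act 6 n47018
theorem D100865 : act 6 n47018 = n100865 := rfl
theorem F155004 : act 4 n100865 = n47020 := d10_1 D100865 (iv6 D47020) D47018
def n100866 : Q := act 4 n47019
theorem D100866 : act 4 n47019 = n100866 := rfl
def n100867 : Q := act 6 n47019
theorem D100867 : act 6 n47019 = n100867 := rfl
def n100868 : Q := act 0 n47020
theorem D100868 : act 0 n47020 = n100868 := rfl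
def n100869 : Q := act 1 n47020
theorem D100869 : act 1 n47020 = n100869 := rfl
def n100870 : Q := act 5 n47020
theorem D100870 : act 5 n47020 = n100870 := rfl
def n100871 : Q := act 7 n47020
theorem D100871 : act 7 n47020 = n100871 := rfl
def n100872 : Q := act 2 n47021
theorem D100872 : act 2 n47021 = n100872 := rfl
theorem F155005 : act 7 n47022 = n100872 := d15_2 (iv0 D47021) D47022 (iv2 D100872)
def n100873 : Q := act 3 n47021
theorem D100873 : act 3 n47021 = n100873 := rfl
def n100874 : Q := act 4 n47021
theorem D100874 : act 4 n47021 = n100874 := rfl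
def n100875 : Q := act 5 n47021
theorem D100875 : act 5 n47021 = n100875 := rfl
def n100876 : Q := act 6 n47021
theorem D100876 : act 6 n47021 = n100876 := rfl
def n100877 : Q := act 7 n47021
theorem D100877 : act 7 n47021 = n100877 := rfl
theorem F155006 : act 2 n100877 = n47022 := d4_1 D100877 F155005 (iv2 D100872)
def n100878 : Q := act 3 n47022
theorem D100878 : act 3 n47022 = n100878 := rfl
def n100879 : Q := act 4 n47022
theorem D100879 : act 4 n47022 = n100879 := rfl
def n100880 : Q := act 5 n47022
theorem D100880 : act 5 n47022 = n100880 := rfl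
theorem F155007 : act 6 n89098 = n100880 := d21_5 D22591 (iv1 F64240) (iv5 D41629) D41630 D89098 (iv5 D100880) (iv1 D47022) (iv5 D22606) (iv6 D10715) D10710
theorem F155008 : act 0 n96137 = n100855 := d21_7 (iv5 F154885) (iv1 F154887) D100880 (iv6 F155007) (iv1 F136814) (iv6 F70462) D96137 (iv5 D100855) (iv6 D47015) (iv1 F74212)
def n100881 : Q := act 6 n47022
theorem D100881 : act 6 n47022 = n100881 := rfl
def n100882 : Q := act 0 n47023
theorem D100882 : act 0 n47023 = n100882 := rfl
def n100883 : Q := act 1 n47023
theorem D100883 : act 1 n47023 = n100883 := rfl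
def n100884 : Q := act 3 n47023
theorem D100884 : act 3 n47023 = n100884 := rfl
theorem F155009 : act 4 n100884 = n47055 := d5_2 D47023 D100884 (iv3 D47055) (iv4 D22630) (iv3 F35143)
def n100885 : Q := act 5 n47023
theorem D100885 : act 5 n47023 = n100885 := rfl
def n100886 : Q := act 7 n47023
theorem D100886 : act 7 n47023 = n100886 := rfl
theorem F155010 : act 4 n100886 = n47024 := d11_1 D100886 (iv7 D47024) D47023
def n100887 : Q := act 6 n47024
theorem D100887 : act 6 n47024 = n100887 := rfl
theorem F155011 : act 3 n100887 = n47058 := d7_1 D100887 (iv6 D47058) (iv3 F74257)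
def n100888 : Q := act 4 n47025
theorem D100888 : act 4 n47025 = n100888 := rfl
theorem F155013 : act 6 n100888 = n97999 := d10_2 F134033 D100888 F151085
theorem F155014 : act 7 n100888 = n87733 := d11_2 (iv7 F74261) D100888 (iv4 D87733)
theorem F155015 : act 5 n100888 = n99344 := d17_5 F62935 (iv5 D22610) D22608 D47025 D100888 (iv0 D99344) (iv5 D46451) (iv0 F66386) (iv4 D42557)
theorem F155016 : act 0 n100888 = n47936 := d17_0 F154301 (iv1 D100297) (iv5 D46803) F63054 (iv5 F127417) (iv0 F127419) (iv5 F66362) (iv0 F74262) D100888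
theorem F155017 : act 1 n100888 = n47938 := d18_6 (iv1 D10606) (iv4 F17118) D22240 (iv4 F66040) D47025 D100888 (iv4 D47938) F65673 (iv5 D22251)
def n100889 : Q := act 0 n47030
theorem D100889 : act 0 n47030 = n100889 := rfl
theorem F155018 : act 5 n100889 = n76722 := d17_1 D100889 (iv1 F153308) (iv5 D99569) (iv4 D46540) (iv5 D22309) F34310 D45719 F75473 D47030
theorem F155019 : act 4 n100889 = n56665 := d18_3 F75461 D47030 D100889 F89617 (iv4 D45718) (iv0 D21855) F16597 D21856 D45722
theorem F155020 : act 3 n100889 = n76724 := d20_5 F52023 F29542 D34579 (iv3 F74278) D100889 F115102 F125556 (iv4 D81651) F107437 (iv1 D70900)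
theorem F155021 : act 1 n87997 = n100889 := d15_0 (iv0 D100889) F74279 (iv2 F135000)
theorem F155022 : act 7 n81920 = n100889 := d8_0 F155020 (iv7 F151568) F151567
theorem F155023 : act 2 n100889 = n81922 := d15_3 (iv0 F133326) F133327 F155022
def n100890 : Q := act 1 n47030
theorem D100890 : act 1 n47030 = n100890 := rfl
theorem F155024 : act 1 n100890 = n87997 := d15_1 D100890 F135002 F133324
theorem F155025 : act 7 n100890 = n81922 := d15_2 (iv0 D100889) D100890 (iv2 F155023)
theorem F155026 : act 4 n100890 = n56666 := d18_7 F72565 F72562 (iv1 D41345) F31124 (iv5 F35153) D47030 D100890 F89621 (iv5 F61721)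
theorem F155027 : act 2 n81920 = n100890 := d1_3 F155026 (iv2 F89624) D81920
theorem F155028 : act 3 n81568 = n100890 := d20_5 F16394 (iv1 F16132) (iv4 F29083) D37264 D81568 F155026 (iv1 D56666) F44066 (iv3 D17903) (iv1 F16392)
theorem F155029 : act 2 n95229 = n81568 := d0_5 F155028 (iv2 F155027) (iv3 F151567) F151566 F151564
theorem F155030 : act 7 n95228 = n81568 := d8_0 F155028 F155025 (iv3 F146758)
theorem F155031 : act 2 n95228 = n81569 := d15_3 F146765 F146763 (iv7 F155030)
theorem F155032 : act 7 n81569 = n95229 := d4_2 (iv7 F155030) F155031 F155029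
def n100891 : Q := act 5 n47030
theorem D100891 : act 5 n47030 = n100891 := rfl
theorem F155033 : act 3 n100891 = n52885 := d6_1 D100891 F83574 (iv3 F74278)
theorem F155034 : act 7 n100891 = n88814 := d13_2 (iv7 F74279) D100891 (iv5 D88814)
theorem F155035 : act 0 n100891 = n95874 := d17_2 (iv1 D100890) D100891 F147546 (iv4 F91676) F91675 (iv0 D46024) (iv5 F44067) D56666 (iv4 F155026)
theorem F155036 : act 1 n100891 = n95877 := d17_6 (iv1 F34811) (iv5 F74235) (iv1 D41345) (iv5 F35153) D47030 D100891 F147548 F73556 (iv4 D40843)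
def n100892 : Q := act 6 n47030
theorem D100892 : act 6 n47030 = n100892 := rfl
theorem F155037 : act 3 n100892 = n75595 := d7_1 D100892 (iv6 D75595) (iv3 F74278)
theorem F155038 : act 4 n100892 = n47031 := d10_1 D100892 (iv6 D47031) D47030
def n100893 : Q := act 0 n47031
theorem D100893 : act 0 n47031 = n100893 := rfl
def n100894 : Q := act 1 n47031
theorem D100894 : act 1 n47031 = n100894 := rfl
def n100895 : Q := act 5 n47031
theorem D100895 : act 5 n47031 = n100895 := rfl
theorem F155039 : act 3 n100895 = n47034 := d6_1 D100895 (iv5 D47034) (iv3 F74280)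
theorem F155040 : act 6 n100895 = n88593 := d12_2 D47031 D100895 (iv5 D88593) (iv6 D41346) (iv5 F35153)
def n100896 : Q := act 7 n47031
theorem D100896 : act 7 n47031 = n100896 := rfl
theorem F155041 : act 3 n100896 = n47035 := d8_1 D100896 (iv7 D47035) (iv3 F74280)
theorem F155042 : act 6 n100896 = n88819 := d14_1 D100896 (iv7 D88819) (iv6 D41468) (iv7 F35154) D47031
def n100897 : Q := act 2 n47032
theorem D100897 : act 2 n47032 = n100897 := rfl
theorem F155043 : act 7 n47033 = n100897 := d15_2 (iv0 D47032) D47033 (iv2 D100897)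
def n100898 : Q := act 3 n47032
theorem D100898 : act 3 n47032 = n100898 := rfl
def n100899 : Q := act 4 n47032
theorem D100899 : act 4 n47032 = n100899 := rfl
def n100900 : Q := act 5 n47032
theorem D100900 : act 5 n47032 = n100900 := rfl
def n100901 : Q := act 6 n47032
theorem D100901 : act 6 n47032 = n100901 := rfl
theorem F155044 : act 5 n100901 = n47356 := d21_6 (iv5 D9219) (iv1 F14240) (iv5 F17246) D22613 D47032 D100901 (iv1 D47356) (iv5 D22751) (iv6 D10757) (iv1 F14406)
def n100902 : Q := act 7 n47032
theorem D100902 : act 7 n47032 = n100902 := rfl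
def n100903 : Q := act 3 n47033
theorem D100903 : act 3 n47033 = n100903 := rfl
def n100904 : Q := act 4 n47033
theorem D100904 : act 4 n47033 = n100904 := rfl
def n100905 : Q := act 5 n47033
theorem D100905 : act 5 n47033 = n100905 := rfl
def n100906 : Q := act 6 n47033
theorem D100906 : act 6 n47033 = n100906 := rfl
def n100907 : Q := act 0 n47034
theorem D100907 : act 0 n47034 = n100907 := rfl
def n100908 : Q := act 4 n47034
theorem D100908 : act 4 n47034 = n100908 := rfl
theorem F155046 : act 2 n100908 = n89350 := d1_1 D100908 (iv4 D89350) (iv2 F74282)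
theorem F155047 : act 6 n100908 = n88600 := d10_2 (iv6 F74283) D100908 (iv4 D88600)
def n100909 : Q := act 7 n47034
theorem D100909 : act 7 n47034 = n100909 := rfl
theorem F155048 : act 2 n100909 = n89337 := d4_1 D100909 F137023 (iv2 F74282)
theorem F155049 : act 5 n100909 = n47035 := d13_1 D100909 (iv7 D47035) D47034
theorem F155050 : act 1 n89337 = n100907 := d15_0 (iv0 D100907) D100909 F155048
theorem F155051 : act 1 n89349 = n100909 := d15_1 D89349 (iv7 D100909) F74282
theorem F155052 : act 1 n100909 = n89348 := d15_0 (iv0 D89348) (iv7 F137023) (iv2 F155048)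
def n100911 : Q := act 1 n47036
theorem D100911 : act 1 n47036 = n100911 := rfl
theorem F155054 : act 1 n100911 = n47041 := d15_1 D100911 (iv7 D47041) D47036
def n100912 : Q := act 3 n47036
theorem D100912 : act 3 n47036 = n100912 := rfl
theorem F155055 : act 7 n100912 = n47042 := d8_2 F74290 D100912 (iv3 D47042)
def n100913 : Q := act 4 n47036
theorem D100913 : act 4 n47036 = n100913 := rfl
theorem F155056 : act 2 n100913 = n47038 := d1_1 D100913 (iv4 D47038) D47036
theorem F155057 : act 7 n100913 = n47043 := d11_2 F74290 D100913 (iv4 D47043)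
def n100914 : Q := act 5 n47036
theorem D100914 : act 5 n47036 = n100914 := rfl
theorem F155058 : act 2 n100914 = n47039 := d2_1 D100914 (iv5 D47039) D47036
theorem F155059 : act 7 n100914 = n47044 := d13_2 F74290 D100914 (iv5 D47044)
def n100915 : Q := act 6 n47036
theorem D100915 : act 6 n47036 = n100915 := rfl
theorem F155060 : act 2 n100915 = n47040 := d3_1 D100915 (iv6 D47040) D47036
def n100916 : Q := act 0 n47037
theorem D100916 : act 0 n47037 = n100916 := rfl
def n100917 : Q := act 1 n47037
theorem D100917 : act 1 n47037 = n100917 := rfl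
def n100918 : Q := act 2 n47037
theorem D100918 : act 2 n47037 = n100918 := rfl
def n100920 : Q := act 5 n47037
theorem D100920 : act 5 n47037 = n100920 := rfl
theorem F155061 : act 3 n100920 = n47039 := d6_1 D100920 (iv5 D47039) D47037
def n100921 : Q := act 6 n47037
theorem D100921 : act 6 n47037 = n100921 := rfl
theorem F155062 : act 3 n100921 = n47040 := d7_1 D100921 (iv6 D47040) D47037
def n100922 : Q := act 7 n47037
theorem D100922 : act 7 n47037 = n100922 := rfl
theorem F155063 : act 3 n100922 = n47041 := d8_1 D100922 (iv7 D47041) D47037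
def n100924 : Q := act 1 n47038
theorem D100924 : act 1 n47038 = n100924 := rfl
theorem F155064 : act 1 n100924 = n47043 := d15_1 D100924 (iv7 F155057) F155056
def n100927 : Q := act 6 n47038
theorem D100927 : act 6 n47038 = n100927 := rfl
theorem F155065 : act 4 n100927 = n47040 := d10_1 D100927 (iv6 D47040) D47038
def n100928 : Q := act 7 n47038
theorem D100928 : act 7 n47038 = n100928 := rfl
theorem F155066 : act 2 n100928 = n47043 := d4_1 D100928 (iv7 F155057) F155056
theorem F155067 : act 4 n100928 = n47041 := d11_1 D100928 (iv7 D47041) D47038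
def n100929 : Q := act 1 n47039
theorem D100929 : act 1 n47039 = n100929 := rfl
theorem F155069 : act 1 n100929 = n47044 := d15_1 D100929 (iv7 F155059) F155058
def n100930 : Q := act 4 n47039
theorem D100930 : act 4 n47039 = n100930 := rfl
def n100931 : Q := act 6 n47039
theorem D100931 : act 6 n47039 = n100931 := rfl
def n100932 : Q := act 7 n47039
theorem D100932 : act 7 n47039 = n100932 := rfl
theorem F155070 : act 2 n100932 = n47044 := d4_1 D100932 (iv7 F155059) F155058
theorem F155071 : act 5 n100932 = n47041 := d13_1 D100932 (iv7 D47041) D47039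
theorem F155072 : act 1 n47044 = n47326 := d15_0 (iv0 F74546) D100932 F155070
def n100933 : Q := act 0 n47040
theorem D100933 : act 0 n47040 = n100933 := rfl
def n100934 : Q := act 1 n47040
theorem D100934 : act 1 n47040 = n100934 := rfl
theorem F155073 : act 6 n47331 = n100934 := d21_3 D10755 D22744 D47331 (iv1 D100934) (iv6 D47040) D47039 F74546 (iv5 D47326) (iv6 D22743) (iv1 D10754)
def n100935 : Q := act 7 n47040
theorem D100935 : act 7 n47040 = n100935 := rfl
def n100936 : Q := act 6 n47041
theorem D100936 : act 6 n47041 = n100936 := rfl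
theorem F155074 : act 2 n100936 = n47045 := d3_1 D100936 (iv6 D47045) (iv2 F74291)
def n100937 : Q := act 0 n47042
theorem D100937 : act 0 n47042 = n100937 := rfl
def n100938 : Q := act 1 n47042
theorem D100938 : act 1 n47042 = n100938 := rfl
def n100939 : Q := act 2 n47042
theorem D100939 : act 2 n47042 = n100939 := rfl
def n100940 : Q := act 4 n47042
theorem D100940 : act 4 n47042 = n100940 := rfl
def n100941 : Q := act 5 n47042
theorem D100941 : act 5 n47042 = n100941 := rfl
theorem F155075 : act 3 n100941 = n47044 := d6_1 D100941 (iv5 D47044) D47042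
def n100942 : Q := act 6 n47042
theorem D100942 : act 6 n47042 = n100942 := rfl
theorem F155076 : act 3 n100942 = n47045 := d7_1 D100942 (iv6 D47045) D47042
def n100945 : Q := act 6 n47043
theorem D100945 : act 6 n47043 = n100945 := rfl
theorem F155077 : act 4 n100945 = n47045 := d10_1 D100945 (iv6 D47045) D47043
def n100946 : Q := act 4 n47044
theorem D100946 : act 4 n47044 = n100946 := rfl
def n100947 : Q := act 6 n47044
theorem D100947 : act 6 n47044 = n100947 := rfl
def n100948 : Q := act 0 n47045
theorem D100948 : act 0 n47045 = n100948 := rfl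
theorem F155078 : act 5 n100948 = n47355 := d21_0 (iv1 F128844) F128841 F59431 (iv1 F34821) D22743 D47326 (iv1 F155072) (iv5 D47044) D47045 D100948
def n100949 : Q := act 1 n47045
theorem D100949 : act 1 n47045 = n100949 := rfl
def n100950 : Q := act 5 n47045
theorem D100950 : act 5 n47045 = n100950 := rfl
theorem F155079 : act 0 n83802 = n100950 := d21_1 D83802 (iv5 D100950) (iv6 D47045) (iv1 D22615) (iv6 D10718) (iv5 D4902) (iv1 F6816) (iv5 F13565) D18383 D38609
theorem E14950 : n100945 = n83577 := (c17_5 D38609 D83802 F155079 (iv5 D100950) (iv4 F155077) (iv5 F128861) (iv0 D83832) (iv5 D38616) (iv0 D18384) (iv4 F29561))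
theorem F155080 : act 4 n83577 = n47045 := (sb E14950 F155077)
theorem E14951 : n47043 = n38528 := ((((iv6 D83577)).symm.trans (sb E14950 (iv6 D100945)))).symm
theorem E14952 : n100924 = n18355 := ((((iv1 D38528)).symm.trans (sb E14951 (iv1 F155064)))).symm
theorem E14954 : n100928 = n83573 := ((((iv2 F128653)).symm.trans (sb E14951 (iv2 F155066)))).symm
theorem E14956 : n83575 = n22615 := ((D83575).symm.trans (sb E14951 (iv4 D47043)))
theorem E14958 : n100913 = n83568 := (((F128652).symm.trans (sb E14951 (iv7 F155057)))).symm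
theorem E14959 : n47038 = n38527 := (((D38527).symm.trans (sb E14952 (iv1 D100924)))).symm
theorem F155081 : act 4 n83573 = n47041 := (sb E14954 F155067)
theorem E14960 : n47135 = n47042 := (((D47042).symm.trans (sb E14956 (iv3 F128654)))).symm
theorem F155082 : act 4 n22615 = n38528 := (sb E14956 (iv4 D83575))
theorem F155083 : act 4 n83568 = n47036 := (sb E14958 (iv4 D100913))
theorem E14962 : n83570 = n22614 := ((D83570).symm.trans (sb E14959 (iv4 D47038)))
theorem E14964 : n100927 = n83572 := (((D83572).symm.trans (sb E14959 D100927))).symm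
theorem E14965 : n100937 = n22678 := ((D100937).symm.trans (sb E14960 (iv1 D47135)))
theorem E14966 : n100938 = n41112 := ((D100938).symm.trans (sb E14960 F74379))
theorem F155084 : act 4 n22614 = n38527 := (sb E14962 (iv4 D83570))
theorem F155085 : act 4 n83572 = n47040 := (sb E14964 F155065)
theorem F155086 : act 1 n22678 = n47042 := (sb E14965 (iv0 D100937))
theorem F155087 : act 0 n41112 = n47042 := (sb E14966 (iv1 D100938))
theorem F155088 : act 7 n47134 = n100939 := d15_2 (iv0 F155087) F74384 (iv2 D100939)
theorem F155089 : act 2 n100912 = n47134 := d4_3 F155088 (iv2 D100939) (iv7 F155055)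
theorem F155090 : act 3 n47134 = n100918 := d0_2 D100912 F155089 (iv2 D100918) (iv3 D47037) D47036
theorem E14967 : n75113 = n72008 := ((c20_4 (iv4 F155084) (iv1 F73451) (iv4 F127789) F127788 (iv1 D75113) (iv3 F55984) (iv4 D35255) F91277 (iv4 F28095) (iv3 F29538) D38527)).symm
theorem F155091 : act 0 n72008 = n34397 := (sb E14967 (iv1 D75113))
theorem F155092 : act 1 n72008 = n79017 := (sb E14967 F131001)
theorem E14968 : n83629 = n83569 := (c20_5 (iv4 D34397) F130987 (iv4 F56663) (iv3 F59386) D83629 (iv3 D83569) (iv4 F155084) (iv1 F73451) (iv4 F127789) F127788 F155091)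
theorem F155093 : act 1 n83569 = n38560 := (sb E14968 (iv0 D83629))
theorem E14969 : n69894 = n32847 := (c20_6 D79017 (iv1 F155092) F108490 F107083 (iv1 F51864) D69894 D70891 F130983 F52027 F41972 D35963)
theorem E14970 : n70749 = n32459 := (((iv3 F109856)).symm.trans (sb E14969 (iv3 D69894)))
theorem E14971 : n69836 = n15359 := ((((iv1 D32459)).symm.trans (sb E14970 (iv1 F107215)))).symm
theorem E14973 : n69893 = n32795 := (((iv2 F106314)).symm.trans (sb E14970 (iv2 D70749)))
theorem F155094 : act 3 n32459 = n32847 := (sb E14970 F109856)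
theorem E14974 : n69888 = n69837 := ((F106313).symm.trans (sb E14970 F107212))
theorem E14975 : n32458 = n32429 := ((D32458).symm.trans (sb E14971 (iv1 D69836)))
theorem F155095 : act 2 n32795 = n32459 := (sb E14973 F106314)
theorem F155096 : act 7 n69837 = n32459 := (sb E14974 (iv7 F106313))
theorem F155097 : act 0 n32429 = n32760 := (sb E14975 (iv1 F51865))
theorem F155098 : act 1 n32429 = n15359 := (sb E14975 (iv0 D32458))
theorem E14979 : n69892 = n34781 := ((((iv6 F54991)).symm.trans (sb E14975 D69892))).symm
theorem E14980 : n76144 = n70708 := ((D76144).symm.trans (sb E14979 (iv1 F107183)))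
theorem E14981 : n76145 = n70722 := ((D76145).symm.trans (sb E14979 (iv0 F107182)))
theorem E14982 : n69942 = n60427 := ((((iv5 F94941)).symm.trans (sb E14979 F106372))).symm
theorem F155099 : act 1 n70708 = n34781 := (sb E14980 (iv0 D76144))
theorem F155100 : act 0 n70722 = n34781 := (sb E14981 (iv1 D76145))
theorem E14983 : n39750 = n32475 := ((F131892).symm.trans (sb E14982 (iv1 D69942)))
theorem E14984 : n71109 = n69941 := (((D69941).symm.trans (sb E14983 (iv1 F131896)))).symm
theorem F155101 : act 1 n32475 = n60427 := (sb E14983 (iv0 F131892))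
theorem E14985 : n58539 = n54397 := ((((iv2 F85884)).symm.trans (sb E14983 (iv2 F131849)))).symm
theorem E14986 : n85925 = n69929 := ((((iv3 F106366)).symm.trans (sb E14983 (iv3 F131870)))).symm
theorem E14988 : n18798 = n15372 := ((((iv5 D32475)).symm.trans (sb E14983 (iv5 D39750)))).symm
theorem E14990 : n69944 = n58534 := ((D69944).symm.trans (sb E14983 (iv7 F131857)))
theorem F155102 : act 0 n69941 = n39755 := (sb E14984 F131895)
theorem F155103 : act 2 n69941 = n40244 := (sb E14984 F109860)
theorem F155104 : act 3 n69941 = n32925 := (sb E14984 (iv3 D71109))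
theorem E14991 : n27849 = n26310 := ((((iv5 D54397)).symm.trans (sb E14985 (iv5 D58539)))).symm
theorem F155105 : act 7 n54397 = n39755 := (sb E14985 F131850)
theorem F155106 : act 4 n69929 = n85458 := (sb E14986 F131894)
theorem E14992 : n39748 = n32472 := ((((iv5 D69929)).symm.trans (sb E14986 (iv5 D85925)))).symm
theorem E14993 : n32473 = n27850 := ((D32473).symm.trans (sb E14988 (iv1 F44970)))
theorem E14994 : n32474 = n8809 := ((D32474).symm.trans (sb E14988 (iv0 D18798)))
theorem E14995 : n39749 = n22721 := ((((iv4 F35294)).symm.trans (sb E14988 D39749))).symm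
theorem E14997 : n32476 = n27848 := ((D32476).symm.trans (sb E14988 F131839))
theorem F155107 : act 7 n58534 = n32475 := (sb E14990 (iv7 D69944))
theorem E14998 : n54395 = n13284 := ((D54395).symm.trans (sb E14991 (iv1 D27849)))
theorem E14999 : n54396 = n18800 := ((D54396).symm.trans (sb E14991 F44971))
theorem E15000 : n58537 = n54394 := ((((iv3 F85882)).symm.trans (sb E14991 D58537))).symm
theorem E15001 : n58538 = n47236 := ((((iv4 F74499)).symm.trans (sb E14991 D58538))).symm
theorem E15003 : n54398 = n18799 := ((D54398).symm.trans (sb E14991 F131841))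
theorem E15004 : n85922 = n69927 := (((D69927).symm.trans (sb E14992 D85922))).symm
theorem E15005 : n85923 = n69928 := (((D69928).symm.trans (sb E14992 D85923))).symm
theorem E15006 : n85924 = n69926 := ((((iv2 F106364)).symm.trans (sb E14992 D85924))).symm
theorem E15007 : n39402 = n33831 := ((((iv4 F53184)).symm.trans (sb E14992 F60596))).symm
theorem E15009 : n69930 = n58532 := ((D69930).symm.trans (sb E14992 (iv7 F131856)))
theorem F155108 : act 1 n27850 = n15372 := (sb E14993 (iv0 D32473))
theorem E15013 : n69934 = n58541 := (((D58541).symm.trans (sb E14993 D69934))).symm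
theorem E15014 : n69935 = n39775 := ((((iv6 F60610)).symm.trans (sb E14993 D69935))).symm
theorem F155109 : act 0 n8809 = n15372 := (sb E14994 (iv1 D32474))
theorem E15020 : n85927 = n47237 := (((D47237).symm.trans (sb E14995 D85927))).symm
theorem E15021 : n85928 = n47238 := (((D47238).symm.trans (sb E14995 D85928))).symm
theorem E15022 : n85929 = n10750 := (((F35293).symm.trans (sb E14995 D85929))).symm
theorem E15025 : n58533 = n47240 := (((D47240).symm.trans (sb E14995 (iv7 F131836)))).symm
theorem E15030 : n58535 = n54393 := ((D58535).symm.trans (sb E14997 (iv6 F85878)))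
theorem F155110 : act 7 n27848 = n15372 := (sb E14997 (iv7 D32476))
theorem F155111 : act 1 n13284 = n26310 := (sb E14998 (iv0 D54395))
theorem F155112 : act 0 n18800 = n26310 := (sb E14999 (iv1 D54396))
theorem F155113 : act 0 n54394 = n38584 := (sb E15000 F131842)
theorem F155114 : act 1 n54394 = n38589 := (sb E15000 F131843)
theorem E15031 : n85077 = n84900 := ((((iv2 F130110)).symm.trans (sb E15000 F131844))).symm
theorem E15032 : n85020 = n54916 := ((((iv4 F86866)).symm.trans (sb E15000 (iv4 F130370)))).symm
theorem F155115 : act 7 n54394 = n39753 := (sb E15000 F131845)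
theorem F155116 : act 1 n47236 = n58356 := (sb E15001 F131846)
theorem F155117 : act 7 n47236 = n39754 := (sb E15001 F131848)
theorem E15033 : n39756 = n32481 := ((D39756).symm.trans (sb E15003 F85887))
theorem F155118 : act 7 n18799 = n26310 := (sb E15003 (iv7 D54398))
theorem F155119 : act 0 n69927 = n85254 := (sb E15004 (iv1 F131862))
theorem F155120 : act 1 n69928 = n85254 := (sb E15005 F131827)
theorem F155121 : act 1 n69926 = n40237 := (sb E15006 (iv0 F133055))
theorem E15034 : n58431 = n55053 := (((F106365).symm.trans (sb E15006 (iv4 F131864)))).symm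
theorem F155122 : act 7 n69926 = n85254 := (sb E15006 (iv7 F131825))
theorem E15035 : n73612 = n18675 := ((D73612).symm.trans (sb E15007 (iv1 D39402)))
theorem E15036 : n73613 = n58428 := ((D73613).symm.trans (sb E15007 F92280))
theorem E15040 : n73615 = n58432 := ((D73615).symm.trans (sb E15007 (iv7 F131861)))
theorem F155123 : act 7 n58532 = n32472 := (sb E15009 (iv7 D69930))
theorem E15041 : n70721 = n39760 := ((((iv1 F92475)).symm.trans (sb E15013 F107180))).symm
theorem E15042 : n86012 = n68425 := ((D86012).symm.trans (sb E15014 F106370))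
theorem F155124 : act 0 n47237 = n39754 := (sb E15020 (iv1 F131874))
theorem F155125 : act 4 n47237 = n58311 := (sb E15020 F131873)
theorem F155126 : act 1 n47238 = n39754 := (sb E15021 F131882)
theorem E15043 : n83766 = n22722 := (((D22722).symm.trans (sb E15022 F131884))).symm
theorem E15044 : n83771 = n22723 := (((D22723).symm.trans (sb E15022 (iv0 F131885)))).symm
theorem F155127 : act 0 n47240 = n58356 := (sb E15025 F92470)
theorem F155128 : act 2 n47240 = n39754 := (sb E15025 (iv2 F131837))
theorem F155129 : act 4 n47240 = n27848 := (sb E15025 (iv4 D58533))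
theorem F155130 : act 6 n54393 = n27848 := (sb E15030 (iv6 D58535))
theorem F155131 : act 0 n84900 = n60338 := (sb E15031 F131866)
theorem F155132 : act 1 n84900 = n83657 := (sb E15031 F131876)
theorem E15045 : n39342 = n39281 := (((F130112).symm.trans (sb E15031 (iv4 D85077)))).symm
theorem F155133 : act 7 n84900 = n83713 := (sb E15031 F131826)
theorem F155134 : act 0 n54916 = n39316 := (sb E15032 (iv1 D85020))
theorem F155135 : act 1 n54916 = n39321 := (sb E15032 F130369)
theorem F155136 : act 7 n54916 = n39341 := (sb E15032 F131853)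
theorem E15048 : n85941 = n69947 := ((((iv3 F106375)).symm.trans (sb E15033 (iv3 F131897)))).symm
theorem E15049 : n85943 = n69951 := ((((iv4 F106376)).symm.trans (sb E15033 (iv4 F131899)))).symm
theorem F155137 : act 6 n32481 = n18799 := (sb E15033 (iv6 D39756))
theorem F155138 : act 0 n55053 = n39398 := (sb E15034 (iv1 F92289))
theorem F155139 : act 1 n55053 = n27805 := (sb E15034 (iv0 D58431))
theorem F155140 : act 7 n55053 = n39401 := (sb E15034 F131865)
theorem F155141 : act 1 n18675 = n33831 := (sb E15035 (iv0 D73612))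
theorem F155142 : act 0 n58428 = n33831 := (sb E15036 (iv1 D73613))
theorem F155143 : act 3 n58432 = n37902 := (sb E15040 F110307)
theorem F155144 : act 7 n58432 = n33831 := (sb E15040 (iv7 D73615))
theorem E15052 : n85964 = n32786 := ((D85964).symm.trans (sb E15041 (iv5 D70721)))
theorem F155145 : act 2 n68425 = n39776 := (sb E15042 F131941)
theorem F155146 : act 3 n68425 = n85720 := (sb E15042 F131942)
theorem F155147 : act 5 n68425 = n39775 := (sb E15042 (iv5 D86012))
theorem E15053 : n47242 = n45805 := ((D47242).symm.trans (sb E15043 (iv3 F128811)))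
theorem E15054 : n47243 = n38598 := ((D47243).symm.trans (sb E15043 (iv4 D83766)))
theorem E15055 : n47248 = n38599 := ((D47248).symm.trans (sb E15044 (iv4 D83771)))
theorem E15056 : n84901 = n18655 := ((D84901).symm.trans (sb E15045 (iv1 D39342)))
theorem E15057 : n84902 = n18660 := ((D84902).symm.trans (sb E15045 F60309))
theorem E15058 : n83068 = n82885 := ((((iv3 F127671)).symm.trans (sb E15045 (iv3 F131878)))).symm
theorem E15061 : n84904 = n84146 := ((D84904).symm.trans (sb E15045 (iv7 F131830)))
theorem E15062 : n85074 = n84899 := ((((iv4 F130109)).symm.trans (sb E15048 F131898))).symm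
theorem F155148 : act 6 n69947 = n39753 := (sb E15048 (iv6 D85941))
theorem F155149 : act 6 n69951 = n39754 := (sb E15049 (iv6 D85943))
theorem F155150 : act 5 n32786 = n39760 := (sb E15052 (iv5 D85964))
theorem F155151 : act 3 n45805 = n22722 := (sb E15053 (iv3 D47242))
theorem F155152 : act 4 n38598 = n22722 := (sb E15054 (iv4 D47243))
theorem F155153 : act 4 n38599 = n22723 := (sb E15055 (iv4 D47248))
theorem F155154 : act 1 n18655 = n39281 := (sb E15056 (iv0 D84901))
theorem F155155 : act 0 n18660 = n39281 := (sb E15057 (iv1 D84902))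
theorem F155156 : act 0 n82885 = n38231 := (sb E15058 (iv1 D83068))
theorem F155157 : act 1 n82885 = n38788 := (sb E15058 F128031)
theorem E15063 : n38786 = n38402 := (((F127670).symm.trans (sb E15058 F131877))).symm
theorem F155158 : act 7 n82885 = n38787 := (sb E15058 F131879)
theorem F155159 : act 7 n84146 = n39281 := (sb E15061 (iv7 D84904))
theorem F155160 : act 6 n84899 = n39341 := (sb E15062 (iv6 D85074))
theorem E15064 : n83353 = n83069 := ((D83353).symm.trans (sb E15063 (iv1 F128030)))
theorem E15065 : n83354 = n18441 := ((D83354).symm.trans (sb E15063 (iv0 D38786)))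
theorem E15066 : n84141 = n83352 := ((((iv3 F128475)).symm.trans (sb E15063 D84141))).symm
theorem E15067 : n84142 = n75481 := ((((iv4 F113291)).symm.trans (sb E15063 D84142))).symm
theorem E15070 : n83356 = n83067 := ((D83356).symm.trans (sb E15063 (iv7 F131881)))
theorem F155161 : act 1 n83069 = n38402 := (sb E15064 (iv0 D83353))
theorem F155162 : act 0 n18441 = n38402 := (sb E15065 (iv1 D83354))
theorem E15071 : n83901 = n41634 := (((F128476).symm.trans (sb E15066 F129188))).symm
theorem E15072 : n98943 = n34542 := (((F113290).symm.trans (sb E15067 F152485))).symm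
theorem F155163 : act 7 n83067 = n38402 := (sb E15070 (iv7 D83356))
theorem E15073 : n89107 = n38640 := ((D89107).symm.trans (sb E15071 (iv1 D83901)))
theorem E15074 : n75486 = n46294 := ((D75486).symm.trans (sb E15072 (iv1 D98943)))
theorem E15075 : n75487 = n46299 := ((D75487).symm.trans (sb E15072 F152484))
theorem F155164 : act 1 n38640 = n41634 := (sb E15073 (iv0 D89107))
theorem E15076 : n98942 = n37902 := ((D98942).symm.trans (sb E15074 (iv1 F113301)))
theorem F155165 : act 1 n46294 = n34542 := (sb E15074 (iv0 D75486))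
theorem F155166 : act 0 n46299 = n34542 := (sb E15075 (iv1 D75487))
theorem F155167 : act 0 n37902 = n46299 := (sb E15076 (iv1 F152490))
theorem F155168 : act 1 n37902 = n46294 := (sb E15076 (iv0 D98942))
theorem E15077 : n98936 = n85846 := ((c20_4 (iv4 D58356) D58353 F92573 D85846 (iv1 D98936) (iv3 D46293) D46294 (iv1 F155168) F58753 (iv3 F74501) F155127)).symm
theorem F155169 : act 0 n85846 = n46293 := (sb E15077 (iv1 D98936))
theorem F155170 : act 1 n89137 = n98980 := d18_6 F91584 D46299 F155166 F54793 D41641 D89137 (iv4 D98980) F131707 (iv5 D85842)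
theorem F155171 : act 3 n83889 = n98959 := d20_3 (iv4 D38640) D38637 D83889 (iv1 D98959) (iv3 D46298) D46299 F155166 F54793 (iv3 F64257) (iv1 F155164)
theorem F155172 : act 5 n98946 = n83214 := d21_6 F29488 F16684 D16751 D34542 (iv1 F155165) D98946 (iv1 D83214) (iv5 D38301) (iv6 D18290) D18288
theorem F155173 : act 7 n89108 = n83897 := d15_2 F155164 D89108 F128890
theorem F155174 : act 2 n89110 = n83900 := d15_3 (iv0 D83900) F155164 D89110
theorem F155175 : act 7 n83900 = n89097 := d4_2 D89110 F155174 F136809
theorem F155176 : act 1 n89108 = n83900 := d15_1 D89108 F155175 F136809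
theorem F155177 : act 2 n81840 = n89108 := d15_3 F155176 (iv0 D83900) (iv7 F125794)
theorem F155178 : act 4 n89108 = n83044 := d1_2 (iv4 F125793) F155177 (iv2 D83044)
theorem E15078 : n84149 = n83360 := (c14_2 F155158 D84149 (iv7 D83360) (iv6 D38404) (iv7 F58952) D82885)
theorem F155179 : act 6 n83360 = n38787 := (sb E15078 (iv6 D84149))
theorem F155180 : act 4 n47246 = n83769 := d1_2 F155153 (iv2 F74504) F128812
theorem F155181 : act 4 n47250 = n83773 := d10_3 (iv6 D83773) F155153 D47250
theorem F155182 : act 4 n47241 = n83764 := d11_3 (iv7 F128810) F155153 F74503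
theorem F155183 : act 4 n47252 = n98983 := d18_1 (iv1 F136845) (iv1 D98983) (iv4 D46304) (iv5 D22141) (iv4 F29555) D38599 F155153 F64266 (iv5 F136843)
theorem F155184 : act 4 n47245 = n83768 := d10_3 (iv6 D83768) F155152 D47245
theorem F155185 : act 3 n47244 = n98091 := d6_3 (iv5 D98091) F155151 D47244
theorem F155186 : act 3 n47245 = n98092 := d7_3 (iv6 D98092) F155151 D47245
theorem F155187 : act 3 n47246 = n98093 := d8_3 (iv7 D98093) F155151 D47246
theorem F155189 : act 3 n88014 = n99503 := d6_3 (iv5 F153259) F155186 F151235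
theorem F155190 : act 5 n85961 = n70708 := d2_2 F155150 (iv2 F131912) F107174
theorem F155191 : act 5 n85962 = n70714 := d6_2 F155150 D85962 F107178
theorem F155192 : act 5 n85965 = n68100 := d12_3 D32786 F155150 D85965 F104239 (iv5 D32785)
theorem F155193 : act 5 n85956 = n70722 := d13_3 (iv7 D70722) F155150 F131910
theorem F155194 : act 6 n61740 = n58554 := d21_3 (iv5 F23172) D29265 D61740 (iv1 F92498) F60610 D58541 (iv1 F92475) (iv5 F155150) (iv6 D32786) (iv1 D15691)
theorem F155195 : act 0 n54458 = n80544 := d21_1 D54458 F123814 F60604 D58554 (iv6 F155194) (iv5 D61740) (iv1 F96289) F96286 (iv6 F85988) (iv1 F85990)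
theorem F155196 : act 2 n70722 = n85959 := d2_1 F155193 (iv5 D85959) D85956
theorem F155197 : act 6 n85959 = n70707 := d3_2 (iv6 F107181) F155196 F107171
theorem F155198 : act 7 n85959 = n70708 := d4_2 D70722 F155196 F107174
theorem F155199 : act 1 n85959 = n70719 := d15_0 (iv0 D70719) D70722 F155196
theorem F155200 : act 1 n70720 = n85959 := d15_1 D70720 F155198 F107174
theorem E15079 : n68424 = n58557 := (c15_2 F104611 F104615 F92505 (iv2 F155145))
theorem F155201 : act 0 n58557 = n67953 := (sb E15079 (iv1 F104615))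
theorem F155202 : act 1 n58557 = n31842 := (sb E15079 (iv0 D68424))
theorem E15080 : n70029 = n27856 := ((((iv5 D58557)).symm.trans (sb E15079 (iv5 F106424)))).symm
theorem E15081 : n58555 = n32499 := ((D58555).symm.trans (sb E15080 (iv0 D70029)))
theorem F155203 : act 0 n32499 = n27856 := (sb E15081 (iv1 D58555))
theorem E15082 : n70030 = n39775 := ((D70030).symm.trans (sb E15081 F92502))
theorem F155204 : act 0 n39775 = n32499 := (sb E15082 (iv1 D70030))
theorem F155205 : act 7 n58554 = n70017 := d15_2 (iv0 F155204) F92498 F106419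
theorem F155206 : act 2 n70032 = n58554 := d4_3 F155205 F106419 D70032
theorem E15083 : n70016 = n61740 := (c14_5 F155205 (iv6 D70017) (iv7 D32495) D32494 D70016 F155194)
theorem F155207 : act 7 n61740 = n32494 := (sb E15083 (iv7 D70016))
theorem E15084 : n61742 = n61692 := ((c13_2 F155207 F96283 (iv7 D61742) D61740)).symm
theorem F155208 : act 2 n61692 = n29266 := (sb E15084 F96338)
theorem F155209 : act 7 n61692 = n29265 := (sb E15084 (iv7 D61742))
theorem E15085 : n61737 = n61691 := (c15_4 (iv0 D61691) D61692 F155209 D61737)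
theorem F155210 : act 2 n61691 = n29265 := (sb E15085 (iv2 D61737))
theorem F155211 : act 7 n61691 = n29266 := (sb E15085 (iv7 F96336))
theorem E15086 : n69995 = n61745 := ((c2_3 F96283 F155208 D61745 F106403)).symm
theorem F155212 : act 2 n61745 = n32494 := (sb E15086 F106403)
theorem E15087 : n32490 = n32465 := (((F96339).symm.trans (sb E15086 (iv6 D69995)))).symm
theorem E15088 : n69990 = n15384 := ((((iv1 F51550)).symm.trans (sb E15087 D69990))).symm
theorem E15090 : n69911 = n15381 := ((D69911).symm.trans (sb E15087 (iv2 D32490)))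
theorem E15091 : n69992 = n69912 := (((D69912).symm.trans (sb E15087 D69992))).symm
theorem E15092 : n69993 = n69913 := (((D69913).symm.trans (sb E15087 D69993))).symm
theorem E15093 : n69994 = n69914 := (((D69914).symm.trans (sb E15087 D69994))).symm
theorem E15094 : n69915 = n15382 := ((D69915).symm.trans (sb E15087 (iv7 F51572)))
theorem E15095 : n32495 = n32466 := ((((iv1 F51545)).symm.trans (sb E15088 (iv1 F106396)))).symm
theorem F155213 : act 2 n15381 = n32465 := (sb E15090 (iv2 D69911))
theorem F155214 : act 2 n69912 = n84945 := (sb E15091 F130289)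
theorem E15096 : n84943 = n54918 := ((((iv4 F131635)).symm.trans (sb E15091 (iv4 F130288)))).symm
theorem F155215 : act 7 n69912 = n32496 := (sb E15091 F106398)
theorem F155216 : act 2 n69913 = n32492 := (sb E15092 F106399)
theorem F155217 : act 7 n69913 = n32497 := (sb E15092 F106400)
theorem F155218 : act 2 n69914 = n32493 := (sb E15093 F106401)
theorem F155219 : act 7 n69914 = n32498 := (sb E15093 F106402)
theorem F155220 : act 7 n15382 = n32465 := (sb E15094 (iv7 D69915))
theorem F155221 : act 2 n32466 = n15382 := (sb E15095 F51573)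
theorem E15097 : n70002 = n69916 := (((D69916).symm.trans (sb E15095 (iv3 F106408)))).symm
theorem E15098 : n70008 = n69917 := (((D69917).symm.trans (sb E15095 (iv4 F106412)))).symm
theorem E15099 : n70013 = n69918 := (((D69918).symm.trans (sb E15095 (iv5 F106417)))).symm
theorem E15100 : n70017 = n69919 := (((D69919).symm.trans (sb E15095 D70017))).symm
theorem F155222 : act 7 n32466 = n15381 := (sb E15095 (iv7 D32495))
theorem F155223 : act 2 n54918 = n39296 := (sb E15096 (iv2 D84943))
theorem F155224 : act 7 n54918 = n39297 := (sb E15096 (iv7 F130199))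
theorem F155225 : act 7 n69916 = n32491 := (sb E15097 (iv7 D70002))
theorem F155226 : act 2 n69917 = n32497 := (sb E15098 F106411)
theorem F155227 : act 7 n69917 = n32492 := (sb E15098 (iv7 D70008))
theorem F155228 : act 2 n69918 = n32498 := (sb E15099 F106416)
theorem F155229 : act 7 n69918 = n32493 := (sb E15099 (iv7 D70013))
theorem F155230 : act 2 n69919 = n32499 := (sb E15100 F106419)
theorem F155231 : act 7 n69919 = n58554 := (sb E15100 (iv7 F155205))
theorem F155232 : act 7 n69999 = n55058 := d11_2 F155225 D69999 (iv4 F106347)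
theorem F155233 : act 2 n69999 = n55057 := d15_3 (iv0 D55057) D55058 (iv7 F155232)
theorem F155234 : act 4 n55057 = n69998 := d1_2 D69999 F155233 (iv2 D69998)
theorem E15101 : n84948 = n54919 := (c15_4 F86869 F86874 F155224 (iv2 F130200))
theorem F155235 : act 2 n54919 = n39297 := (sb E15101 F130200)
theorem F155236 : act 4 n54919 = n70020 := (sb E15101 F130285)
theorem F155237 : act 7 n54919 = n39296 := (sb E15101 (iv7 D84948))
theorem F155238 : act 7 n70024 = n100727 := d8_2 F155217 D70024 F154828
theorem E15102 : n85088 = n84952 := (c20_2 (iv4 F60310) D85088 F130287 F106421 F155203 (iv3 D27856) (iv4 D13286) (iv1 F13678) (iv4 F29953) (iv3 F130273) (iv1 D39353))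
theorem F155239 : act 1 n84952 = n39345 := (sb E15102 (iv0 D85088))
theorem F155240 : act 0 n85106 = n68879 := d20_1 D85106 F105067 F104600 (iv1 F155202) F92504 (iv4 F87851) (iv1 F87853) F44931 (iv3 F54934) (iv1 F60319)
theorem E15103 : n85953 = n54408 := (c21_5 (iv5 F50140) (iv1 F155202) (iv5 D58557) (iv6 F60604) (iv1 F131902) (iv6 D54408) D54407 (iv1 F107169) F107170 (iv6 D70652) (iv1 D32766))
theorem F155241 : act 0 n54408 = n39758 := (sb E15103 (iv1 D85953))
theorem F155242 : act 1 n54408 = n39766 := (sb E15103 F131902)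
theorem F155243 : act 1 n70634 = n75827 := d18_6 (iv1 F60319) D85106 F155240 F105067 F104601 (iv4 F107107) (iv4 D75827) F54926 (iv5 F54935)
theorem F155244 : act 1 n75823 = n70634 := d15_0 F155243 F113774 (iv2 F113765)
theorem E15104 : n70644 = n12828 := (c20_6 D75827 (iv1 F155243) F107107 F51870 D32765 D70644 (iv4 D12828) (iv1 F9427) (iv4 F12398) (iv3 F27560) (iv1 F54926))
theorem E15105 : n32765 = n26828 := (((D26828).symm.trans (sb E15104 (iv3 D70644)))).symm
theorem E15106 : n55578 = n32444 := ((D55578).symm.trans (sb E15105 (iv1 F51881)))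
theorem E15107 : n55579 = n15685 := ((D55579).symm.trans (sb E15105 (iv0 D32765)))
theorem E15113 : n34776 = n32766 := ((((iv1 F51878)).symm.trans (sb E15106 (iv1 F87891)))).symm
theorem F155245 : act 1 n32444 = n26828 := (sb E15106 (iv0 D55578))
theorem F155246 : act 0 n15685 = n26828 := (sb E15107 (iv1 D55579))
theorem F155247 : act 2 n32766 = n16843 := (sb E15113 (iv2 D34776))
theorem E15114 : n70649 = n32671 := ((D70649).symm.trans (sb E15113 F130820))
theorem E15115 : n76084 = n70650 := (((D70650).symm.trans (sb E15113 (iv4 F114073)))).symm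
theorem E15116 : n76132 = n70651 := (((D70651).symm.trans (sb E15113 D76132))).symm
theorem E15117 : n76133 = n70652 := (((D70652).symm.trans (sb E15113 D76133))).symm
theorem F155248 : act 7 n32766 = n55580 := (sb E15113 (iv7 F87893))
theorem F155249 : act 3 n32671 = n32766 := (sb E15114 (iv3 D70649))
theorem F155250 : act 2 n70650 = n34764 := (sb E15115 (iv2 D76084))
theorem F155251 : act 2 n70651 = n34777 := (sb E15116 F114095)
theorem F155252 : act 3 n70651 = n48932 := (sb E15116 (iv3 F130845))
theorem E15118 : n67978 = n48931 := (((iv6 F107123)).symm.trans (sb E15116 F130840))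
theorem F155253 : act 2 n70652 = n34778 := (sb E15117 F114096)
theorem F155254 : act 3 n70652 = n35664 := (sb E15117 F130828)
theorem E15119 : n70816 = n70706 := ((((iv5 F107170)).symm.trans (sb E15117 F130829))).symm
theorem F155255 : act 7 n70652 = n70492 := (sb E15117 F130830)
theorem F155256 : act 1 n48931 = n31638 := (sb E15118 (iv0 D67978))
theorem F155257 : act 6 n48931 = n70651 := (sb E15118 F107123)
theorem F155258 : act 2 n70706 = n70492 := (sb E15119 (iv2 F130846))
theorem F155259 : act 3 n70706 = n32821 := (sb E15119 (iv3 D70816))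
theorem F155260 : act 6 n70706 = n80610 := (sb E15119 (iv6 F123945))
theorem F155261 : act 7 n70706 = n34778 := (sb E15119 F107295)
theorem E15120 : n70705 = n70652 := ((c15_4 (iv0 D70705) D70706 F155261 (iv2 F155253))).symm
theorem F155262 : act 0 n70652 = n54407 := (sb E15120 (iv1 F107173))
theorem F155263 : act 1 n70652 = n32781 := (sb E15120 (iv0 D70705))
theorem E15121 : n85956 = n58543 := ((c21_8 F107170 F155262 (iv5 D54407) D54408 F155241 (iv6 D39758) D39757 (iv1 F92478) F155193 F107181 (iv1 F107169))).symm
theorem F155264 : act 2 n58543 = n39759 := (sb E15121 (iv2 D85956))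
theorem F155265 : act 5 n58543 = n70722 := (sb E15121 F155193)
theorem F155266 : act 7 n58543 = n39760 := (sb E15121 (iv7 F131910))
theorem F155267 : act 0 n86005 = n70651 := d21_1 D86005 (iv5 D70651) D70652 F155262 (iv6 F107181) (iv5 F155265) (iv1 D58543) (iv5 D27851) (iv6 F30065) D39773
theorem E15122 : n69919 = n39773 := (c21_6 (iv5 D54407) (iv1 F85874) F85870 F41931 (iv1 F51545) D69919 D86005 F155267 (iv5 D70651) D70652 F155262)
theorem E15123 : n86002 = n32499 := ((D86002).symm.trans (sb E15122 F155230))
theorem E15124 : n86006 = n32466 := ((D86006).symm.trans (sb E15122 (iv6 D69919)))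
theorem E15125 : n86007 = n58554 := ((D86007).symm.trans (sb E15122 F155231))
theorem F155268 : act 2 n32499 = n39773 := (sb E15123 (iv2 D86002))
theorem E15126 : n70032 = n39774 := ((D70032).symm.trans (sb E15123 (iv7 F131939)))
theorem F155269 : act 6 n32466 = n39773 := (sb E15124 (iv6 D86006))
theorem F155270 : act 7 n58554 = n39773 := (sb E15125 (iv7 D86007))
theorem F155271 : act 2 n39774 = n58554 := (sb E15126 F155206)
theorem F155272 : act 7 n39774 = n32499 := (sb E15126 (iv7 D70032))
theorem F155273 : act 7 n70023 = n86008 := d8_2 F155272 (iv3 F106421) (iv3 D86008)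
theorem F155274 : act 7 n70026 = n86009 := d11_2 F155272 (iv4 F106422) (iv4 D86009)
theorem F155275 : act 7 n70031 = n86010 := d13_2 F155272 D70031 (iv5 D86010)
theorem F155276 : act 7 n61745 = n86011 := d14_4 F155272 (iv6 D32499) F155220 (iv6 F96339) (iv6 D86011)
theorem F155277 : act 2 n86011 = n61740 := d4_1 F155276 F155207 (iv2 F155212)
theorem F155278 : act 5 n86011 = n61691 := d13_1 F155276 F155211 D61745
theorem F155279 : act 1 n70015 = n86011 := d15_1 D70015 (iv7 F155276) F155212
theorem F155280 : act 5 n58542 = n70613 := d21_8 (iv5 F46917) D61691 (iv5 F155278) (iv6 D86011) (iv1 D39774) F30065 D27851 D58542 (iv6 D70613) (iv1 D32752)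
theorem E15127 : n86013 = n31620 := (c21_2 D39776 D86013 (iv5 F50623) (iv6 D15343) F20918 D15675 (iv5 F46917) D61691 (iv5 F155278) (iv6 D86011) (iv1 D39774))
theorem E15128 : n67952 = n39776 := ((D67952).symm.trans (sb E15127 (iv0 D86013)))
theorem F155281 : act 0 n39776 = n31620 := (sb E15128 (iv1 D67952))
theorem E15129 : n86014 = n68426 := ((D86014).symm.trans (sb E15128 F104616))
theorem F155282 : act 0 n68426 = n39776 := (sb E15129 (iv1 D86014))
theorem F155283 : act 7 n67951 = n68425 := d15_2 (iv0 F155282) F104617 F155145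
theorem F155284 : act 2 n58557 = n67951 := d4_3 F155283 F155145 (iv7 F92505)
theorem F155285 : act 3 n85816 = n67951 := d8_3 F155283 F155146 (iv7 F131667)
theorem F155286 : act 5 n58556 = n67951 := d13_3 F155283 F155147 (iv7 F92500)
theorem E15130 : n85983 = n54461 := (c21_1 D85983 (iv1 D54461) (iv5 D26336) (iv6 D12560) (iv1 F20919) D15343 F50623 D67951 (iv5 F155286) (iv6 F131906) (iv1 F131908))
theorem F155287 : act 5 n54461 = n39764 := (sb E15130 (iv5 D85983))
theorem E15131 : n85984 = n54387 := ((c21_5 (iv5 D7255) (iv1 F9225) D12503 D26306 D54387 (iv6 D85984) (iv5 F155287) (iv1 D54461) (iv5 D26336) (iv6 D12560) (iv1 F20919))).symm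
theorem F155288 : act 6 n54387 = n39764 := (sb E15131 (iv6 D85984))
theorem F155289 : act 6 n85981 = n84914 := d7_2 F155288 D85981 F130128
theorem F155290 : act 4 n84916 = n85981 := d10_3 F155289 (iv4 D84914) D84916
theorem F155291 : act 0 n67998 = n58545 := d21_1 D67998 (iv5 F131944) (iv6 D86016) F155281 (iv6 D31620) (iv5 D14877) (iv1 D7081) D7083 D14884 D31643
theorem F155292 : act 1 n86011 = n70014 := d15_0 (iv0 D70014) (iv7 F155207) (iv2 F155277)
theorem F155293 : act 6 n86003 = n69916 := d7_2 F155269 D86003 (iv3 D69916)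
theorem F155294 : act 6 n86004 = n69917 := d10_2 F155269 D86004 (iv4 D69917)
theorem F155295 : act 0 n55581 = n86005 := d21_1 D55581 (iv5 D86005) (iv6 F155269) (iv1 D32466) (iv6 D15365) (iv5 D7262) (iv1 F9226) (iv5 F27225) D15685 F155246
theorem F155296 : act 2 n70026 = n86004 := d3_3 F155294 F155226 D70026
theorem F155297 : act 2 n86005 = n70031 := d2_3 (iv5 D70031) F155268 D86005
theorem F155298 : act 1 n55581 = n86010 := d15_1 (iv0 F155295) (iv7 F155275) (iv2 F155297)
theorem E15132 : n85961 = n58542 := (c15_4 (iv0 D58542) D58543 F155266 (iv2 F131912))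
theorem F155299 : act 2 n58542 = n39760 := (sb E15132 F131912)
theorem E15133 : n70708 = n70613 := (((F155280).symm.trans (sb E15132 F155190))).symm
theorem F155300 : act 7 n58542 = n39759 := (sb E15132 (iv7 D85961))
theorem F155301 : act 1 n70613 = n34781 := (sb E15133 F155099)
theorem E15134 : n32782 = n32752 := ((((iv6 D70613)).symm.trans (sb E15133 (iv6 D70708)))).symm
theorem F155303 : act 7 n70613 = n85959 := (sb E15133 (iv7 F155198))
theorem E15135 : n70682 = n15675 := ((((iv1 D32752)).symm.trans (sb E15134 (iv1 F107140)))).symm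
theorem E15137 : n70609 = n15691 := (((iv2 F107078)).symm.trans (sb E15134 F51899))
theorem E15138 : n70693 = n70610 := (((D70610).symm.trans (sb E15134 (iv3 F107154)))).symm
theorem E15139 : n70699 = n70611 := (((D70611).symm.trans (sb E15134 (iv4 F107158)))).symm
theorem E15140 : n70704 = n70612 := (((D70612).symm.trans (sb E15134 (iv5 F107167)))).symm
theorem E15141 : n70604 = n15690 := ((F107075).symm.trans (sb E15134 (iv7 D32782)))
theorem E15142 : n32777 = n32751 := (((D32751).symm.trans (sb E15135 (iv1 D70682)))).symm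
theorem F155304 : act 2 n15691 = n32752 := (sb E15137 F107078)
theorem F155305 : act 7 n70610 = n32778 := (sb E15138 (iv7 D70693))
theorem F155306 : act 2 n70611 = n32784 := (sb E15139 F107157)
theorem F155307 : act 7 n70611 = n32779 := (sb E15139 (iv7 D70699))
theorem F155308 : act 2 n70612 = n32785 := (sb E15140 F107166)
theorem F155309 : act 7 n70612 = n32780 := (sb E15140 (iv7 D70704))
theorem F155310 : act 7 n15690 = n32752 := (sb E15141 (iv7 F107075))
theorem F155311 : act 2 n32751 = n15690 := (sb E15142 (iv2 D32777))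
theorem E15143 : n70683 = n70605 := (((D70605).symm.trans (sb E15142 D70683))).symm
theorem E15144 : n70684 = n70606 := (((D70606).symm.trans (sb E15142 D70684))).symm
theorem E15145 : n70685 = n70607 := (((D70607).symm.trans (sb E15142 D70685))).symm
theorem E15146 : n70686 = n70608 := (((D70608).symm.trans (sb E15142 D70686))).symm
theorem F155312 : act 7 n32751 = n15691 := (sb E15142 (iv7 F51897))
theorem F155313 : act 7 n70605 = n32783 := (sb E15143 F107141)
theorem F155314 : act 2 n70606 = n32779 := (sb E15144 F107142)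
theorem F155315 : act 7 n70606 = n32784 := (sb E15144 F107143)
theorem F155316 : act 2 n70607 = n32780 := (sb E15145 F107144)
theorem F155317 : act 7 n70607 = n32785 := (sb E15145 F107145)
theorem F155318 : act 2 n70608 = n32781 := (sb E15146 F107146)
theorem E15147 : n54409 = n54388 := (((F107077).symm.trans (sb E15146 (iv5 F107147)))).symm
theorem F155319 : act 7 n70608 = n54407 := (sb E15146 F107148)
theorem F155320 : act 2 n54388 = n26314 := (sb E15147 F85898)
theorem F155321 : act 7 n54388 = n26313 := (sb E15147 (iv7 D54409))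
theorem F155322 : act 7 n54405 = n73632 := d8_2 F155321 D54405 F110329
theorem E15148 : n54404 = n54387 := (c15_4 (iv0 D54387) D54388 F155321 D54404)
theorem F155323 : act 2 n54387 = n26313 := (sb E15148 (iv2 D54404))
theorem F155324 : act 5 n54387 = n70707 := (sb E15148 (iv5 F107172))
theorem F155325 : act 7 n54387 = n26314 := (sb E15148 (iv7 F85897))
theorem F155326 : act 7 n54410 = n84914 := d8_2 F155325 D54410 F130128
theorem E15149 : n84917 = n54939 := (c11_3 F155326 (iv4 D84914) D84917 (iv4 F86891))
theorem F155327 : act 2 n54939 = n39286 := (sb E15149 F130129)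
theorem F155328 : act 7 n54939 = n39285 := (sb E15149 (iv7 D84917))
theorem E15150 : n84912 = n54938 := (c15_4 (iv0 D54938) D54939 F155328 D84912)
theorem F155329 : act 2 n54938 = n39285 := (sb E15150 (iv2 D84912))
theorem F155330 : act 7 n54938 = n39286 := (sb E15150 (iv7 F130126))
theorem F155331 : act 2 n84919 = n54410 := d1_3 F86891 F155327 D84919
theorem E15151 : n85960 = n54461 := (c12_5 (iv6 F155288) F155324 (iv6 F155197) (iv5 D85959) D85960 F155287)
theorem F155332 : act 6 n54461 = n39759 := (sb E15151 (iv6 D85960))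
theorem E15152 : n70720 = n70627 := (c21_5 (iv5 F41916) D54387 F155324 (iv6 F155197) (iv1 F155200) (iv6 D70627) D70626 F107165 F107162 (iv6 D54412) (iv1 D26314))
theorem F155333 : act 0 n70627 = n32786 := (sb E15152 (iv1 D70720))
theorem F155334 : act 1 n70627 = n85959 := (sb E15152 F155200)
theorem E15153 : n85980 = n54408 := ((c3_3 (iv6 F155288) F155323 D54408 F131920)).symm
theorem F155335 : act 2 n54408 = n39764 := (sb E15153 F131920)
theorem F155336 : act 7 n54408 = n39763 := (sb E15153 (iv7 D85980))
theorem E15154 : n85975 = n85952 := (c15_4 (iv0 D85952) (iv0 F155241) F155336 D85975)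
theorem F155337 : act 2 n85952 = n39763 := (sb E15154 (iv2 D85975))
theorem F155338 : act 7 n85952 = n39764 := (sb E15154 (iv7 F131919))
theorem E15155 : n73625 = n73596 := (c11_3 F155322 (iv4 D73632) F110327 F110269)
theorem F155339 : act 2 n73596 = n33835 := (sb E15155 (iv2 D73625))
theorem F155340 : act 7 n73596 = n33836 := (sb E15155 (iv7 F110327))
theorem E15156 : n73630 = n73597 := (c15_4 F110271 (iv0 F110270) F155340 (iv2 F110328))
theorem F155341 : act 2 n73597 = n33836 := (sb E15156 F110328)
theorem F155342 : act 7 n73597 = n33835 := (sb E15156 (iv7 D73630))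
theorem F155343 : act 2 n73627 = n54405 := d1_3 (iv4 F110269) F155339 D73627
theorem F155344 : act 7 n70712 = n54822 := d11_2 F155313 D70712 F107076
theorem F155345 : act 7 n70690 = n54571 := d11_2 F155305 D70690 (iv4 F107079)
theorem F155346 : act 2 n70690 = n54570 := d15_3 (iv0 D54570) D54571 (iv7 F155345)
theorem F155347 : act 4 n54570 = n70689 := d1_2 D70690 F155346 (iv2 D70689)
theorem E15157 : n67979 = n59979 := (c15_2 F155256 D67979 (iv7 F130841) (iv2 F130837))
theorem F155348 : act 0 n59979 = n31638 := (sb E15157 (iv1 D67979))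
theorem F155349 : act 5 n59979 = n69865 := (sb E15157 (iv5 F106287))
theorem F155350 : act 2 n69865 = n55582 := d2_1 F155349 (iv5 F87900) D59979
theorem F155351 : act 3 n69865 = n70871 := d6_1 F155349 (iv5 F114115) (iv3 F130843)
theorem E15158 : n55580 = n32442 := (c7_4 D69865 F155351 (iv6 D70871) (iv3 F130804))
theorem E15159 : n34775 = n32767 := ((((iv1 F51883)).symm.trans (sb E15158 (iv1 F87896)))).symm
theorem E15160 : n34774 = n15343 := ((((iv0 D32442)).symm.trans (sb E15158 F87894))).symm
theorem E15161 : n69861 = n26828 := ((D69861).symm.trans (sb E15158 (iv2 D55580)))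
theorem E15162 : n69862 = n32840 := ((D69862).symm.trans (sb E15158 F130804))
theorem E15163 : n69866 = n32766 := ((D69866).symm.trans (sb E15158 (iv7 F155248)))
theorem E15164 : n32443 = n16843 := (((iv1 F51882)).symm.trans (sb E15159 (iv1 D34775)))
theorem E15166 : n76128 = n70637 := ((((iv3 F107108)).symm.trans (sb E15159 D76128))).symm
theorem E15171 : n76123 = n32439 := ((((iv3 F51506)).symm.trans (sb E15160 D76123))).symm
theorem F155352 : act 2 n26828 = n32442 := (sb E15161 (iv2 D69861))
theorem F155353 : act 3 n32840 = n32442 := (sb E15162 (iv3 D69862))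
theorem F155354 : act 7 n32766 = n32442 := (sb E15163 (iv7 D69866))
theorem F155355 : act 0 n16843 = n15343 := (sb E15164 (iv1 D32443))
theorem F155356 : act 1 n16843 = n32767 := (sb E15164 F51882)
theorem F155357 : act 4 n70637 = n75843 := (sb E15166 (iv4 F114094))
theorem E15179 : n75897 = n38290 := ((((iv4 F59155)).symm.trans (sb E15171 F114092))).symm
theorem E15180 : n83173 = n34691 := ((D83173).symm.trans (sb E15179 (iv1 D75897)))
theorem E15181 : n83174 = n79042 := ((D83174).symm.trans (sb E15179 F130930))
theorem E15182 : n75896 = n72004 := ((D75896).symm.trans (sb E15180 (iv1 F128245)))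
theorem F155358 : act 1 n34691 = n38290 := (sb E15180 (iv0 D83173))
theorem F155359 : act 0 n79042 = n38290 := (sb E15181 (iv1 D83174))
theorem F155360 : act 0 n72004 = n79042 := (sb E15182 (iv1 F130928))
theorem F155361 : act 1 n72004 = n34691 := (sb E15182 (iv0 D75896))
theorem E15183 : n83531 = n22656 := (c20_1 D83531 (iv1 D22656) (iv4 F29498) (iv3 F59154) (iv1 F155358) (iv3 F56013) (iv4 D35297) (iv1 F91257) (iv4 F57367) (iv3 F123109) (iv1 F123113))
theorem E15184 : n47109 = n38504 := ((D47109).symm.trans (sb E15183 (iv4 D83531)))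
theorem F155362 : act 4 n38504 = n22656 := (sb E15184 (iv4 D47109))
theorem F155363 : act 4 n47107 = n83529 := d1_2 F155362 (iv2 F74350) F128628
theorem F155364 : act 4 n47111 = n83533 := d10_3 (iv6 D83533) F155362 D47111
theorem F155365 : act 4 n47102 = n83524 := d11_3 (iv7 F128626) F155362 F74349
theorem F155366 : act 4 n47113 = n100512 := d18_1 (iv1 F153265) (iv1 D100512) (iv4 D46892) (iv5 D22520) (iv4 F29534) D38504 F155362 F73497 (iv5 F153263)
theorem E15185 : n83526 = n22655 := (c1_3 F155365 (iv2 D83524) D83526 D47102)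
theorem E15186 : n47103 = n46645 := ((D47103).symm.trans (sb E15185 (iv3 F128627)))
theorem E15187 : n47104 = n38503 := ((D47104).symm.trans (sb E15185 (iv4 D83526)))
theorem F155367 : act 3 n46645 = n22655 := (sb E15186 (iv3 D47103))
theorem F155368 : act 4 n38503 = n22655 := (sb E15187 (iv4 D47104))
theorem F155369 : act 4 n47106 = n83528 := d10_3 (iv6 D83528) F155368 D47106
theorem F155370 : act 3 n47105 = n99881 := d6_3 (iv5 D99881) F155367 D47105
theorem F155371 : act 3 n47106 = n99882 := d7_3 (iv6 D99882) F155367 D47106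
theorem F155372 : act 3 n47107 = n99883 := d8_3 (iv7 D99883) F155367 D47107
theorem F155373 : act 2 n99884 = n47108 := d0_3 F155372 F153790 D99884 (iv3 D47108) (iv2 F74350)
theorem F155374 : act 7 n75843 = n70634 := d11_2 D70637 F155357 F107107
theorem E15188 : n75844 = n54817 := ((c15_4 F113736 F113740 F155374 F107106)).symm
theorem F155375 : act 0 n54817 = n34676 := (sb E15188 (iv1 D75844))
theorem F155376 : act 1 n54817 = n34681 := (sb E15188 F113736)
theorem E15189 : n76138 = n70707 := ((c21_1 F155324 (iv1 F130848) F106943 (iv6 D34778) F155355 (iv6 D15343) (iv5 D7255) (iv1 F9225) D12503 D26306 D54387)).symm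
theorem F155378 : act 1 n70707 = n34778 := (sb E15189 (iv0 D76138))
theorem E15190 : n59977 = n53971 := ((c21_4 (iv5 D12393) D12390 (iv5 F50426) D53971 (iv1 F130842) (iv6 D76137) (iv5 D34777) F155355 F50623 (iv6 D31620) (iv1 F50472))).symm
theorem F155379 : act 0 n53971 = n76137 := (sb E15190 (iv1 F130842))
theorem F155380 : act 1 n53971 = n28482 := (sb E15190 (iv0 D59977))
theorem E15191 : n67980 = n59978 := ((c15_2 F155380 D59978 (iv7 D67980) (iv2 F85147))).symm
theorem F155381 : act 5 n59978 = n32481 := (sb E15191 F104089)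
theorem F155382 : act 7 n59978 = n31638 := (sb E15191 (iv7 D67980))
theorem E15192 : n76139 = n70608 := (c15_2 F155378 D76139 F155319 (iv2 F107171))
theorem F155383 : act 0 n70608 = n34778 := (sb E15192 (iv1 D76139))
theorem F155384 : act 1 n70608 = n70492 := (sb E15192 F130847)
theorem E15193 : n76135 = n70031 := ((c21_1 D70031 (iv1 D76135) (iv5 D34777) D34778 (iv1 F155378) (iv6 F155197) (iv5 D85959) (iv1 F92476) (iv5 D58541) (iv6 F60610) F155204)).symm
theorem F155385 : act 0 n70031 = n34777 := (sb E15193 (iv1 D76135))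
theorem F155386 : act 7 n69864 = n70651 := d15_2 (iv0 F155385) (iv0 F106425) F155251
theorem F155387 : act 2 n86010 = n76134 := d15_3 (iv0 D76134) (iv0 F155385) F155275
theorem F155388 : act 5 n76134 = n58554 := d2_2 D86010 F155387 (iv2 F155271)
theorem F155389 : act 7 n76134 = n86005 := d4_2 F155275 F155387 F155297
theorem F155390 : act 1 n86010 = n70651 := d15_0 (iv0 F155267) (iv7 F155389) (iv2 F155387)
theorem F155391 : act 2 n69864 = n55581 := d15_3 F155298 F155390 (iv7 F155386)
theorem F155392 : act 5 n70015 = n70701 := d21_0 (iv1 D70701) (iv5 D32780) D32781 (iv1 F155263) (iv6 D70652) D70651 (iv1 F155390) (iv5 D86010) D86011 (iv1 F155279)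
theorem F155393 : act 3 n70870 = n69864 := d0_0 F155391 F87897 (iv2 F43205) (iv3 F54968) (iv2 F130805)
theorem F155394 : act 1 n69864 = n76134 := d15_0 (iv0 D76134) (iv7 F87898) (iv2 F155391)
theorem F155395 : act 0 n69865 = n54459 := d21_4 (iv5 F155388) (iv1 F155394) (iv5 D69864) D69865 (iv6 D54459) D54458 F155195 F123814 F60604 D58554
theorem F155396 : act 6 n53980 = n76134 := d12_0 F155388 (iv6 F155194) (iv5 D61740) D61741 F96337
theorem F155397 : act 7 n69863 = n70650 := d11_2 F155354 D69863 (iv4 D70650)
theorem F155398 : act 2 n55568 = n69863 := d4_3 F155397 F155250 (iv7 F87879)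
theorem F155399 : act 1 n76083 = n69863 := d15_1 D76083 F155397 F155250
theorem F155400 : act 1 n69863 = n76082 := d15_0 (iv0 D76082) (iv7 F87879) F155398
theorem E15194 : n72001 = n71968 := ((c20_1 D71968 (iv1 F128247) F128243 F106281 (iv1 F51878) (iv3 F155249) D70390 F107421 F51824 F26874 D33249)).symm
theorem F155401 : act 0 n71968 = n83176 := (sb E15194 (iv1 F128247))
theorem F155402 : act 1 n71968 = n33261 := (sb E15194 (iv0 D72001))
theorem E15195 : n72002 = n55542 := (c15_2 F155402 D72002 F87834 (iv2 F130876))
theorem F155403 : act 0 n55542 = n33261 := (sb E15195 (iv1 D72002))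
theorem F155404 : act 1 n55542 = n83176 := (sb E15195 F128246)
theorem E15196 : n99494 = n80167 := ((c20_11 (iv4 D99494) (iv1 F73496) (iv4 F59169) (iv3 F128242) (iv1 F155404) (iv3 F91221) (iv4 D36529) (iv1 D17628) (iv4 F28677) (iv3 F57349) D80167)).symm
theorem F155405 : act 4 n80167 = n46512 := (sb E15196 (iv4 D99494))
theorem E15197 : n82719 = n75354 := (c20_8 F56070 (iv1 F28678) D36529 F91221 F155403 (iv3 F108488) F108489 D82719 (iv4 F123133) (iv3 D80178) (iv1 F57369))
theorem F155406 : act 1 n75354 = n38023 := (sb E15197 (iv0 D82719))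
theorem F155407 : act 0 n60041 = n69770 := d20_10 F113452 (iv1 F113450) F54859 F27560 (iv1 F21280) D26809 D55542 F155403 (iv4 F106278) F106277
theorem E15198 : n99499 = n80168 := (c20_1 D99499 (iv1 D80168) F57350 F34738 F91443 D55568 F87878 (iv1 F155245) (iv4 F74344) F74343 (iv1 F73491))
theorem E15199 : n88009 = n46513 := (((iv4 F135017)).symm.trans (sb E15198 (iv4 D99499)))
theorem E15200 : n99498 = n41084 := ((D99498).symm.trans (sb E15199 (iv3 D88009)))
theorem F155408 : act 4 n46513 = n80168 := (sb E15199 F135017)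
theorem F155409 : act 3 n41084 = n46513 := (sb E15200 (iv3 D99498))
theorem F155410 : act 4 n70640 = n55525 := d20_2 (iv4 F74344) (iv1 F107112) (iv3 D55525) (iv1 D26802) F21279 F9423 D6065 D12828 D26828 (iv1 F155245)
theorem E15201 : n75602 = n70635 := ((c20_11 (iv4 D75602) (iv1 F113453) F113449 (iv3 F87804) (iv1 F87806) D55525 (iv4 F155410) (iv1 D70640) F51877 (iv3 F51870) D70635)).symm
theorem F155411 : act 4 n70635 = n34581 := (sb E15201 (iv4 D75602))
theorem F155412 : act 3 n99500 = n88011 := d6_3 (iv5 D88011) F155409 D99500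
theorem F155413 : act 3 n99501 = n88012 := d7_3 (iv6 D88012) F155409 D99501
theorem F155414 : act 3 n99492 = n88003 := d8_3 (iv7 F135014) F155409 F153255
theorem F155415 : act 2 n88004 = n99493 := d0_3 F155414 (iv2 D88003) D88004 (iv3 D99493) D99492
theorem E15202 : n89127 = n75559 := ((c20_11 (iv4 D89127) (iv1 F64265) (iv4 F58753) (iv3 F155143) (iv1 D58432) (iv3 F60809) (iv4 D39966) (iv1 F91194) (iv4 F43682) (iv3 F54837) D75559)).symm
theorem F155416 : act 4 n75559 = n41639 := (sb E15202 (iv4 D89127))
theorem F155417 : act 0 n85267 = n72003 := d21_7 F51499 (iv1 D18158) (iv5 F25861) D33831 (iv1 F155141) D39404 D85267 (iv5 D72003) (iv6 D33261) (iv1 F42116)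
theorem E15203 : n85256 = n73611 := (c14_2 F155140 D85256 (iv7 D73611) (iv6 D33830) F42621 D55053)
theorem F155418 : act 6 n73611 = n39401 := (sb E15203 (iv6 D85256))
theorem E15204 : n89132 = n75560 := (c20_1 D89132 (iv1 D75560) F54838 (iv3 F44600) F91429 D27841 F44954 D27848 (iv4 F155129) F74501 (iv1 F64260))
theorem E15205 : n88082 = n41640 := (((iv4 F135076)).symm.trans (sb E15204 (iv4 D89132)))
theorem E15206 : n89131 = n41130 := ((D89131).symm.trans (sb E15205 (iv3 D88082)))
theorem F155419 : act 4 n41640 = n75560 := (sb E15205 F135076)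
theorem F155420 : act 3 n41130 = n41640 := (sb E15206 (iv3 D89131))
theorem F155421 : act 3 n89133 = n88084 := d6_3 (iv5 D88084) F155420 D89133
theorem F155422 : act 3 n89134 = n88085 := d7_3 (iv6 D88085) F155420 D89134
theorem F155423 : act 3 n89125 = n88076 := d8_3 (iv7 F135072) F155420 F136836
theorem F155424 : act 2 n88077 = n89126 := d0_3 F155423 (iv2 D88076) D88077 (iv3 D89126) D89125
theorem F155425 : act 0 n54453 = n85954 := d21_1 D54453 (iv5 D85954) (iv6 D39758) F155112 (iv6 D26310) F27197 (iv1 D5966) D5968 D12560 D26334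
theorem F155426 : act 0 n68022 = n85951 := d21_4 (iv5 D34020) (iv1 F26690) D31655 D68022 (iv6 D85951) (iv5 D39757) F155112 D54397 F85885 F53350
theorem F155427 : act 1 n68022 = n85974 := d15_1 (iv0 F155426) (iv7 D85974) (iv2 F131901)
theorem F155428 : act 1 n54453 = n80544 := d15_1 (iv0 F155425) F123816 (iv2 F131903)
theorem F155429 : act 0 n54454 = n69897 := d21_10 (iv5 F106414) (iv1 F106418) (iv5 D32498) D32499 F155203 (iv6 F60604) (iv5 F123814) (iv1 F155428) (iv5 D54453) D54454
theorem F155430 : act 0 n81840 = n89097 := d20_4 F91427 (iv1 F91423) (iv4 F117234) D81840 F136810 F74499 (iv1 F155111) (iv4 F44954) (iv3 D27841) D27839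
theorem F155431 : act 0 n58545 = n68003 := d21_10 (iv5 D68003) (iv1 D31644) D31645 F49946 (iv1 F50493) (iv6 F85885) (iv5 D54397) (iv1 F155111) D27851 D58545
theorem F155432 : act 1 n81840 = n89110 := d15_1 (iv0 F155430) (iv7 D89110) (iv2 F136809)
theorem F155433 : act 1 n83897 = n89097 := d15_0 (iv0 F155430) F125794 (iv2 F128890)
theorem F155434 : act 1 n89110 = n83897 := d15_0 F155433 (iv7 F155175) (iv2 F155174)
theorem E15207 : n88950 = n37899 := (c20_1 D88950 (iv1 F113303) F113299 (iv3 F136826) (iv1 F155432) (iv3 D81840) F117234 F91422 (iv4 F44601) F44600 D41532)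
theorem E15208 : n82560 = n41532 := ((D82560).symm.trans (sb E15207 (iv4 D88950)))
theorem F155435 : act 4 n41532 = n37899 := (sb E15208 (iv4 D82560))
theorem F155436 : act 4 n82558 = n88948 := d1_2 F155435 D82558 (iv2 D88948)
theorem F155437 : act 4 n82562 = n88952 := d10_3 (iv6 D88952) F155435 D82562
theorem F155438 : act 4 n82563 = n88953 := d11_3 (iv7 D88953) F155435 D82563
theorem E15209 : n88955 = n37900 := (c1_3 F155438 F136528 D88955 (iv2 F127191))
theorem E15210 : n82565 = n41533 := ((D82565).symm.trans (sb E15209 (iv4 D88955)))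
theorem F155439 : act 4 n41533 = n37900 := (sb E15210 (iv4 D82565))
theorem F155440 : act 4 n82567 = n88957 := d10_3 (iv6 D88957) F155439 D82567
theorem F155441 : act 0 n86831 = n82564 := d20_4 (iv4 D38227) (iv1 F116640) (iv4 F116669) D86831 (iv3 D82564) (iv4 F155439) (iv1 D41533) (iv4 F54838) F54837 (iv1 F91421)
theorem F155442 : act 5 n54440 = n85986 := d21_0 (iv1 D85986) (iv5 D39765) (iv6 D18802) F155109 (iv6 D15372) F17284 (iv1 F9271) D12555 D26330 D54440
theorem E15211 : n85972 = n54469 := ((c21_4 F49951 (iv1 F49941) F50602 D54469 (iv1 D85972) (iv6 D39762) (iv5 D18801) F155109 D32475 F51563 F50557)).symm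
theorem F155443 : act 0 n54469 = n39762 := (sb E15211 (iv1 D85972))
theorem F155444 : act 5 n85985 = n54441 := d21_0 (iv1 D54441) D54442 F85985 F50604 D68022 F104147 F155443 D85973 F131917 D85985
theorem F155445 : act 6 n68005 = n85985 := d21_5 (iv5 D31655) (iv1 D14886) D14887 (iv6 F49946) D68005 F155444 (iv1 D54441) D54442 F85985 F50604
theorem F155446 : act 6 n85458 = n70584 := d10_2 (iv6 F106367) F155106 (iv4 D70584)
theorem E15212 : n100775 = n81978 := ((c20_4 (iv4 F72410) (iv1 F72412) (iv4 F117322) D81978 (iv1 D100775) F74206 F51537 (iv1 F155098) D69838 F106261 F91295)).symm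
theorem F155447 : act 0 n81978 = n46990 := (sb E15212 (iv1 D100775))
theorem F155448 : act 1 n81978 = n47010 := (sb E15212 F154864)
theorem E15213 : n100094 = n38417 := (c20_2 D46729 D100094 F59276 (iv3 F74254) (iv1 F155448) (iv3 D81978) F117322 (iv1 D35306) (iv4 F34951) F34950 D22404)
theorem E15214 : n82931 = n46734 := (((iv1 F127783)).symm.trans (sb E15213 (iv1 F154035)))
theorem E15215 : n82930 = n46729 := ((F127791).symm.trans (sb E15213 (iv0 D100094)))
theorem E15216 : n100095 = n38158 := (((iv1 F154031)).symm.trans (sb E15214 (iv1 D82931)))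
theorem F155449 : act 1 n46734 = n38417 := (sb E15214 F127783)
theorem F155450 : act 0 n46729 = n38417 := (sb E15215 (iv1 F127791))
theorem F155451 : act 0 n38158 = n46729 := (sb E15216 (iv1 D100095))
theorem F155452 : act 1 n38158 = n46734 := (sb E15216 F154031)
theorem F155453 : act 0 n100131 = n99449 := d18_2 (iv1 F152917) D100131 (iv4 D99449) (iv5 D46494) (iv4 F59012) F155452 (iv4 D46734) F73294 (iv5 F152915)
theorem F155454 : act 0 n98198 = n82716 := d20_7 (iv4 D46734) (iv1 D22405) (iv4 F29539) F29538 D35321 D77369 (iv4 F151512) (iv4 F128501) F128500 (iv1 F155449)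
theorem E15217 : n75058 = n69885 := ((c20_2 (iv4 F107093) (iv1 F107096) (iv4 D75058) (iv3 D34379) (iv1 D16662) F12054 (iv4 F5649) D7983 (iv4 F43128) D32429 F155097)).symm
theorem F155455 : act 4 n69885 = n34379 := (sb E15217 (iv4 D75058))
theorem F155456 : act 2 n69895 = n70750 := d1_3 (iv4 D70750) F155095 D69895
theorem F155457 : act 2 n69896 = n70751 := d2_3 (iv5 D70751) F155095 D69896
theorem F155458 : act 2 n69897 = n70752 := d3_3 (iv6 D70752) F155095 D69897
theorem F155459 : act 3 n70892 = n69897 := d0_0 F155458 F107220 F51920 (iv3 F106266) F109866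
theorem F155460 : act 2 n79768 = n70009 := d2_3 F106414 F155458 (iv5 F122452)
theorem F155461 : act 1 n54454 = n80549 := d15_1 (iv0 F155429) F123834 (iv2 F155458)
theorem E15218 : n86818 = n54397 := ((c21_1 D54397 (iv1 D86818) (iv5 F87908) (iv6 F123833) (iv1 F155461) (iv6 D54454) D54453 F155425 (iv5 D85954) (iv6 D39758) F155112)).symm
theorem F155462 : act 0 n54397 = n40244 := (sb E15218 (iv1 D86818))
theorem F155463 : act 0 n76796 = n69925 := d21_7 (iv5 D12563) (iv1 F27201) D26328 (iv6 F85885) F155462 D86820 F133105 F106363 (iv6 D54472) (iv1 D26342)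
theorem E15219 : n70719 = n55585 := ((c21_1 (iv5 F87908) (iv1 F155199) (iv5 D85959) (iv6 F155332) (iv1 D54461) F42001 (iv5 D12563) (iv1 F27201) D26328 (iv6 F85885) F155462)).symm
theorem F155464 : act 0 n55585 = n85959 := (sb E15219 (iv1 F155199))
theorem F155465 : act 1 n55585 = n32786 := (sb E15219 (iv0 D70719))
theorem E15220 : n86817 = n58534 := ((c15_4 (iv0 D86817) (iv0 F155462) F155105 F131858)).symm
theorem F155466 : act 1 n58534 = n40244 := (sb E15220 (iv0 D86817))
theorem E15221 : n70095 = n70010 := ((c21_2 D32498 (iv1 F106415) (iv5 F123832) F123833 F155464 F155197 (iv5 F155324) (iv1 F85872) (iv5 F85870) F85871 (iv1 F51551))).symm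
theorem F155467 : act 3 n70010 = n32525 := (sb E15221 (iv3 D70095))
theorem F155468 : act 5 n70010 = n80549 := (sb E15221 (iv5 F123832))
theorem F155469 : act 6 n70010 = n76796 := (sb E15221 (iv6 F115275))
theorem F155470 : act 7 n70010 = n79768 := (sb E15221 (iv7 F122453))
theorem E15222 : n76146 = n70627 := (c15_4 F155334 (iv0 F155464) F87909 D76146)
theorem F155471 : act 2 n70627 = n34781 := (sb E15222 (iv2 D76146))
theorem F155472 : act 3 n70627 = n70368 := (sb E15222 F114119)
theorem E15223 : n69837 = n32758 := ((((iv6 D70627)).symm.trans (sb E15222 F114120))).symm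
theorem E15224 : n70748 = n32461 := ((((iv1 F51863)).symm.trans (sb E15223 (iv1 F107214)))).symm
theorem E15226 : n70623 = n32429 := ((D70623).symm.trans (sb E15223 (iv2 D69837)))
theorem E15227 : n70624 = n32662 := ((D70624).symm.trans (sb E15223 F109881))
theorem E15228 : n70628 = n32459 := ((D70628).symm.trans (sb E15223 F155096))
theorem E15229 : n32795 = n32759 := ((((iv1 F51860)).symm.trans (sb E15224 (iv1 D70748)))).symm
theorem F155473 : act 2 n32429 = n32758 := (sb E15226 (iv2 D70623))
theorem F155474 : act 3 n32662 = n32758 := (sb E15227 (iv3 D70624))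
theorem F155475 : act 7 n32459 = n32758 := (sb E15228 (iv7 D70628))
theorem F155476 : act 2 n32759 = n32459 := (sb E15229 F155095)
theorem E15230 : n70629 = n15699 := ((D70629).symm.trans (sb E15229 (iv3 D32795)))
theorem E15231 : n70750 = n70630 := (((D70630).symm.trans (sb E15229 D70750))).symm
theorem E15232 : n70751 = n70631 := (((D70631).symm.trans (sb E15229 D70751))).symm
theorem E15233 : n70752 = n70632 := (((D70632).symm.trans (sb E15229 D70752))).symm
theorem F155477 : act 7 n32759 = n32429 := (sb E15229 F51915)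
theorem F155478 : act 3 n15699 = n32759 := (sb E15230 (iv3 D70629))
theorem F155479 : act 2 n70630 = n69895 := (sb E15231 (iv2 F155456))
theorem F155480 : act 3 n70630 = n34794 := (sb E15231 F107216)
theorem F155481 : act 7 n70630 = n69838 := (sb E15231 F107217)
theorem F155482 : act 2 n70631 = n69896 := (sb E15232 (iv2 F155457))
theorem F155483 : act 3 n70631 = n32796 := (sb E15232 F107218)
theorem F155484 : act 7 n70631 = n69839 := (sb E15232 F107219)
theorem F155485 : act 2 n70632 = n69897 := (sb E15233 (iv2 F155458))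
theorem F155486 : act 3 n70632 = n32797 := (sb E15233 F107220)
theorem F155487 : act 5 n70632 = n79768 := (sb E15233 (iv5 F122452))
theorem F155488 : act 7 n70632 = n80549 := (sb E15233 (iv7 F123834))
theorem F155489 : act 0 n79768 = n69918 := d21_7 F155286 (iv1 F104617) F104613 F51880 (iv1 F51860) D70632 F155487 (iv5 D69918) F155269 (iv1 F92501)
theorem F155490 : act 0 n69914 = n79768 := d21_1 D69914 (iv5 F155487) (iv6 D70632) (iv1 D32759) (iv6 D15680) (iv5 F27212) (iv1 F9221) D7262 D15365 D32465
theorem F155491 : act 3 n62787 = n69896 := d0_4 F155483 F51916 (iv3 F109886) F109885 (iv2 F155482)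
theorem F155492 : act 3 n62823 = n61667 := d7_3 F107100 F155483 (iv6 F98048)
theorem F155493 : act 2 n61667 = n62784 := d0_1 F155492 (iv3 D62784) F109900 D61602 F109895
theorem F155494 : act 6 n62784 = n69896 := d3_2 (iv6 F107100) F155493 (iv2 F155482)
theorem E15234 : n61668 = n61607 := (c15_2 (iv0 D61667) D61668 (iv7 F109911) (iv2 F155493))
theorem F155495 : act 0 n61607 = n29229 := (sb E15234 (iv1 D61668))
theorem F155496 : act 0 n61648 = n62784 := d21_4 (iv5 D13907) F50569 D29212 D61648 F155494 (iv5 D69896) (iv1 D32459) D32460 F51539 F27199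
theorem F155497 : act 7 n70626 = n69896 := d15_2 (iv0 F107163) (iv0 F107165) (iv2 F155482)
theorem F155498 : act 2 n69839 = n70626 := d4_3 F155497 (iv2 F155482) F155484
theorem F155499 : act 3 n70367 = n70626 := d8_3 F155497 (iv3 F155491) (iv7 F109908)
theorem E15235 : n100820 = n56700 := ((c20_3 (iv4 F34427) D45849 (iv4 F117589) (iv3 D100820) (iv1 F154872) F154869 F106312 (iv1 F51860) D70630 F155480 F91497)).symm
theorem F155500 : act 3 n56700 = n47007 := (sb E15235 (iv3 D100820))
theorem E15236 : n99439 = n82964 := (c20_1 D99439 (iv1 F127873) F59365 (iv3 F73812) (iv1 F91498) (iv3 F155480) (iv4 D70630) (iv1 D32759) (iv4 F51859) F51858 D46492)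
theorem E15237 : n88052 = n46492 := (((iv4 F135053)).symm.trans (sb E15236 (iv4 D99439)))
theorem E15238 : n99438 = n41109 := ((D99438).symm.trans (sb E15237 (iv3 D88052)))
theorem F155501 : act 4 n46492 = n82964 := (sb E15237 F135053)
theorem F155502 : act 3 n41109 = n46492 := (sb E15238 (iv3 D99438))
theorem F155503 : act 3 n99440 = n88054 := d6_3 (iv5 D88054) F155502 D99440
theorem F155504 : act 3 n99441 = n88055 := d7_3 (iv6 D88055) F155502 D99441
theorem F155505 : act 3 n99442 = n88056 := d8_3 (iv7 D88056) F155502 D99442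
theorem F155506 : act 2 n88057 = n99443 := d0_3 F155505 F135054 D88057 (iv3 D99443) (iv2 F153174)
theorem F155507 : act 3 n88087 = n89136 := d6_3 (iv5 F153173) F155504 F135077
theorem E15239 : n100821 = n75686 := (c5_3 (iv4 F117589) F155500 D100821 (iv3 D75686) F112808 (iv3 F112809))
theorem F155508 : act 4 n75686 = n47007 := (sb E15239 (iv4 D100821))
theorem E15240 : n100824 = n81978 := (c8_3 (iv7 F117590) F155500 D100824 (iv3 D81978))
theorem F155509 : act 2 n81978 = n47008 := (sb E15240 F154927)
theorem F155510 : act 7 n81978 = n47007 := (sb E15240 (iv7 D100824))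
theorem E15241 : n99310 = n38415 := (c20_1 D99310 (iv1 D38415) F29521 (iv3 F35142) D47007 (iv3 F155500) F117589 (iv1 F72411) (iv4 F73813) F73812 (iv1 F73288))
theorem E15242 : n83394 = n46434 := ((D83394).symm.trans (sb E15241 (iv4 D99310)))
theorem F155511 : act 4 n46434 = n38415 := (sb E15242 (iv4 D83394))
theorem F155512 : act 4 n83392 = n99308 := d1_2 F155511 (iv2 F128508) F152911
theorem F155513 : act 4 n83396 = n99312 := d10_3 (iv6 D99312) F155511 D83396
theorem F155514 : act 4 n83387 = n99303 := d11_3 (iv7 F152909) F155511 F128506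
theorem E15243 : n99305 = n38414 := (c1_3 F155514 (iv2 D99303) D99305 D83387)
theorem E15244 : n83389 = n46433 := ((D83389).symm.trans (sb E15243 (iv4 D99305)))
theorem F155515 : act 4 n46433 = n38414 := (sb E15244 (iv4 D83389))
theorem F155516 : act 4 n83391 = n99307 := d10_3 (iv6 D99307) F155515 D83391
theorem E15245 : n82714 = n75785 := ((c20_7 (iv4 F155515) (iv1 F73293) (iv4 F59365) F59364 (iv1 F57408) D80227 F123248 (iv1 D82714) (iv4 F59272) F59271 D38414)).symm
theorem F155517 : act 0 n75785 = n38020 := (sb E15245 (iv1 D82714))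
theorem F155518 : act 0 n56430 = n83388 := d20_4 F91499 F116781 (iv4 F43929) (iv3 F89302) (iv3 D83388) (iv4 F155515) (iv1 F73293) (iv4 F59365) F59364 (iv1 F57408)
theorem F155519 : act 2 n98198 = n82713 := d15_3 (iv0 D82713) (iv0 F155517) (iv7 F151514)
theorem E15246 : n100819 = n100774 := (c15_4 (iv0 D100774) (iv0 F155447) F155510 D100819)
theorem F155520 : act 2 n100774 = n47007 := (sb E15246 (iv2 D100819))
theorem F155521 : act 7 n100774 = n47008 := (sb E15246 (iv7 F154926))
theorem E15247 : n72005 = n55327 := (c20_8 (iv4 F12758) (iv1 F12760) (iv4 F43178) F155478 (iv1 D32759) (iv3 F51852) (iv4 F52495) D72005 (iv4 D55327) (iv3 D26736) (iv1 F21233))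
theorem F155522 : act 1 n55327 = n33262 := (sb E15247 (iv0 D72005))
theorem F155523 : act 4 n70619 = n72415 := d20_2 (iv4 F51859) D70619 (iv3 D72415) (iv1 F52721) F27293 (iv4 F12758) (iv1 F12760) (iv4 F43178) F155478 (iv1 D32759)
theorem E15248 : n72006 = n71993 := (c15_2 F155522 D72006 (iv7 F130999) (iv2 F131000))
theorem F155524 : act 0 n71993 = n33262 := (sb E15248 (iv1 D72006))
theorem E15249 : n99444 = n82965 := ((c20_11 (iv4 D99444) (iv1 D46493) (iv4 F59012) F59011 (iv1 F155522) (iv3 F91235) (iv4 D36551) (iv1 F28706) (iv4 F56044) (iv3 F59364) (iv1 F127867))).symm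
theorem F155525 : act 4 n82965 = n46493 := (sb E15249 (iv4 D99444))
theorem F155526 : act 7 n70625 = n69895 := d11_2 F155475 D70625 (iv4 D69895)
theorem F155527 : act 2 n69838 = n70625 := d4_3 F155526 (iv2 F155479) F155481
theorem F155528 : act 4 n70620 = n75057 := d20_2 (iv4 F106312) (iv1 F107087) (iv3 F130980) (iv1 D70536) F51791 (iv4 F51808) (iv1 F130952) (iv4 D70366) F155474 (iv1 F51863)
theorem F155529 : act 2 n69885 = n70620 := d1_3 F155528 (iv2 D75057) (iv4 F155455)
theorem F155530 : act 4 n70615 = n79011 := d20_0 (iv1 F120201) F108474 (iv3 F108466) (iv1 F108468) F130980 (iv4 F155528) (iv1 D70620) F51859 (iv3 F51852) D70615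
theorem F155531 : act 3 n70615 = n69795 := d20_3 (iv4 F56663) D79011 (iv4 F155530) (iv1 F106210) F51487 F24900 (iv1 F13150) (iv4 F28975) D16673 F130987
theorem F155532 : act 7 n70619 = n69885 := d15_2 F107087 F107095 F155529
theorem F155533 : act 7 n69884 = n70620 := d15_2 F107096 F107097 (iv2 F155529)
theorem F155534 : act 2 n70619 = n69884 := d4_3 F155533 (iv2 F155529) (iv7 F155532)
theorem E15250 : n75034 = n72415 := (c11_3 F155532 F155455 (iv7 F112559) (iv4 F155523))
theorem E15251 : n34373 = n33433 := ((((iv3 D72415)).symm.trans (sb E15250 (iv3 D75034)))).symm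
theorem F155535 : act 7 n72415 = n34379 := (sb E15250 F112559)
theorem E15252 : n75032 = n16663 := ((((iv1 F52721)).symm.trans (sb E15251 D75032))).symm
theorem E15254 : n72414 = n16661 := ((D72414).symm.trans (sb E15251 (iv2 D34373)))
theorem E15255 : n75035 = n72416 := (((D72416).symm.trans (sb E15251 D75035))).symm
theorem E15256 : n75036 = n72417 := (((D72417).symm.trans (sb E15251 D75036))).symm
theorem E15257 : n75037 = n58376 := ((((iv6 F92219)).symm.trans (sb E15251 D75037))).symm
theorem E15258 : n72418 = n16662 := ((D72418).symm.trans (sb E15251 (iv7 F54543)))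
theorem E15259 : n34378 = n33434 := ((((iv1 F52717)).symm.trans (sb E15252 (iv1 F112557)))).symm
theorem F155536 : act 2 n16661 = n33433 := (sb E15254 (iv2 D72414))
theorem F155537 : act 2 n72416 = n34375 := (sb E15255 F112560)
theorem F155538 : act 7 n72416 = n34380 := (sb E15255 F112561)
theorem F155539 : act 2 n72417 = n34376 := (sb E15256 F112562)
theorem F155540 : act 7 n72417 = n34381 := (sb E15256 F112563)
theorem F155541 : act 2 n58376 = n34377 := (sb E15257 F112565)
theorem F155542 : act 7 n16662 = n33433 := (sb E15258 (iv7 D72418))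
theorem F155543 : act 2 n33434 = n16662 := (sb E15259 F54544)
theorem E15260 : n75044 = n71977 := ((((iv3 F131032)).symm.trans (sb E15259 (iv3 F112570)))).symm
theorem E15261 : n75049 = n72420 := (((D72420).symm.trans (sb E15259 (iv4 F112574)))).symm
theorem E15262 : n75052 = n72421 := (((D72421).symm.trans (sb E15259 (iv5 F112579)))).symm
theorem E15263 : n75054 = n72422 := (((D72422).symm.trans (sb E15259 D75054))).symm
theorem F155544 : act 7 n33434 = n16661 := (sb E15259 (iv7 D34378))
theorem F155545 : act 2 n71977 = n70536 := (sb E15260 F130979)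
theorem F155546 : act 7 n71977 = n34374 := (sb E15260 (iv7 D75044))
theorem F155547 : act 2 n72420 = n34380 := (sb E15261 F112573)
theorem F155548 : act 7 n72420 = n34375 := (sb E15261 (iv7 D75049))
theorem F155549 : act 2 n72421 = n34381 := (sb E15262 F112578)
theorem F155550 : act 7 n72421 = n34376 := (sb E15262 (iv7 D75052))
theorem F155551 : act 2 n72422 = n34382 := (sb E15263 F112580)
theorem E15264 : n72431 = n72416 := ((c15_4 (iv0 D72431) (iv0 F109846) F155548 (iv2 F155537))).symm
theorem F155552 : act 1 n72416 = n33439 := (sb E15264 (iv0 D72431))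
theorem F155553 : act 7 n75041 = n70727 := d11_2 F155546 D75041 (iv4 F131033)
theorem E15265 : n75040 = n71976 := (c15_4 (iv0 D71976) D71977 F155546 D75040)
theorem F155554 : act 2 n71976 = n34374 := (sb E15265 (iv2 D75040))
theorem F155555 : act 7 n71976 = n70536 := (sb E15265 (iv7 F130978))
theorem F155556 : act 2 n75041 = n70726 := d15_3 (iv0 D70726) D70727 (iv7 F155553)
theorem F155557 : act 4 n70726 = n71976 := d1_2 D75041 F155556 F155554
theorem E15266 : n58373 = n58321 := ((c2_3 D58376 F155541 F92182 F92218)).symm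
theorem F155558 : act 2 n58321 = n27788 := (sb E15266 F92218)
theorem F155559 : act 7 n58321 = n27787 := (sb E15266 (iv7 D58373))
theorem E15267 : n75053 = n58371 := ((c13_2 F155559 D58371 (iv7 D75053) F92182)).symm
theorem F155560 : act 7 n58371 = n34377 := (sb E15267 (iv7 D75053))
theorem E15268 : n58368 = n58320 := (c15_4 (iv0 D58320) D58321 F155559 D58368)
theorem F155561 : act 2 n58320 = n27787 := (sb E15268 (iv2 D58368))
theorem F155562 : act 7 n58320 = n27788 := (sb E15268 (iv7 F92217))
theorem E15269 : n70014 = n69961 := (c21_11 (iv5 F107160) (iv1 F107168) (iv5 D32785) D32786 (iv1 F155465) (iv6 F123833) (iv5 F155468) (iv1 D70010) (iv5 D32493) D32494 D70014)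
theorem F155563 : act 0 n69961 = n86011 := (sb E15269 (iv1 F155292))
theorem F155564 : act 1 n69961 = n32494 := (sb E15269 (iv0 D70014))
theorem F155565 : act 1 n76796 = n70057 := d15_1 (iv0 F155463) (iv7 D70057) (iv2 F106362)
theorem E15270 : n75112 = n54567 := ((c15_4 (iv0 D75112) (iv0 F155091) (iv7 D72008) (iv2 F86253))).symm
theorem F155568 : act 0 n54567 = n79017 := (sb E15270 (iv1 F131002))
theorem F155569 : act 1 n54567 = n34397 := (sb E15270 (iv0 D75112))
theorem F155570 : act 0 n75479 = n98198 := d20_7 F57411 (iv1 F91278) D35255 F55984 (iv1 F155569) (iv3 F128478) F128479 F151512 (iv3 D77369) (iv1 F57415)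
theorem F155571 : act 4 n100134 = n47047 := d18_7 (iv1 F73450) F155082 (iv1 D38528) F29539 D22406 D46739 D100134 F153182 F153180
def n100951 : Q := act 7 n47045
theorem D100951 : act 7 n47045 = n100951 := rfl
def n100952 : Q := act 2 n47046
theorem D100952 : act 2 n47046 = n100952 := rfl
theorem F155572 : act 7 n47047 = n100952 := d15_2 (iv0 D47046) D47047 (iv2 D100952)
def n100953 : Q := act 3 n47046
theorem D100953 : act 3 n47046 = n100953 := rfl
def n100954 : Q := act 4 n47046
theorem D100954 : act 4 n47046 = n100954 := rfl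
def n100955 : Q := act 6 n47046
theorem D100955 : act 6 n47046 = n100955 := rfl
theorem F155573 : act 5 n100955 = n89417 := d21_6 (iv5 D22454) F66060 D10721 (iv6 F35157) D47046 D100955 (iv1 D89417) D89418 F137095 (iv1 F73321)
def n100956 : Q := act 7 n47046
theorem D100956 : act 7 n47046 = n100956 := rfl
theorem F155574 : act 2 n100956 = n47047 := d4_1 D100956 F155572 (iv2 D100952)
def n100957 : Q := act 3 n47047
theorem D100957 : act 3 n47047 = n100957 := rfl
def n100958 : Q := act 6 n47047
theorem D100958 : act 6 n47047 = n100958 := rfl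
def n100959 : Q := act 0 n47048
theorem D100959 : act 0 n47048 = n100959 := rfl
def n100960 : Q := act 1 n47048
theorem D100960 : act 1 n47048 = n100960 := rfl
theorem F155575 : act 4 n100960 = n98531 := d18_7 (iv1 F73288) F155511 (iv1 D38415) F29521 D22616 D47048 D100960 (iv0 F151927) F73856
def n100961 : Q := act 3 n47048
theorem D100961 : act 3 n47048 = n100961 := rfl
theorem F155576 : act 6 n100961 = n47055 := d7_2 (iv6 F74292) D100961 (iv3 D47055)
def n100962 : Q := act 5 n47048
theorem D100962 : act 5 n47048 = n100962 := rfl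
def n100963 : Q := act 7 n47048
theorem D100963 : act 7 n47048 = n100963 := rfl
theorem F155577 : act 4 n100963 = n47049 := d11_1 D100963 (iv7 D47049) D47048
theorem F155578 : act 1 n100131 = n100963 := d15_1 (iv0 F155453) (iv7 D100963) (iv2 F153177)
theorem F155579 : act 0 n100126 = n100963 := d18_2 D46737 D100126 F155577 F74293 (iv4 F59276) (iv0 F155450) (iv4 D46729) (iv0 D22404) D22406
def n100964 : Q := act 6 n47049
theorem D100964 : act 6 n47049 = n100964 := rfl
theorem F155580 : act 7 n100964 = n47058 := d14_2 D47049 D100964 (iv6 D47058) (iv7 D22631) (iv6 F35157)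
def n100965 : Q := act 0 n47050
theorem D100965 : act 0 n47050 = n100965 := rfl
theorem F155581 : act 1 n88066 = n100965 := d15_0 (iv0 D100965) (iv7 F153190) F153188
def n100966 : Q := act 1 n47050
theorem D100966 : act 1 n47050 = n100966 := rfl
def n100967 : Q := act 2 n47050
theorem D100967 : act 2 n47050 = n100967 := rfl
theorem F155582 : act 3 n100967 = n47138 := d0_2 D47050 D100967 (iv2 F74387) F73453 F73456
theorem F155583 : act 7 n100967 = n88066 := d4_2 F153190 D100967 (iv2 F153188)
theorem F155584 : act 1 n100966 = n88066 := d15_1 D100966 (iv7 F155583) (iv2 D100967)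
def n100968 : Q := act 4 n47050
theorem D100968 : act 4 n47050 = n100968 := rfl
def n100969 : Q := act 6 n47050
theorem D100969 : act 6 n47050 = n100969 := rfl
theorem F155585 : act 3 n100969 = n47051 := d7_1 D100969 (iv6 D47051) D47050
def n100970 : Q := act 0 n47051
theorem D100970 : act 0 n47051 = n100970 := rfl
def n100971 : Q := act 1 n47051
theorem D100971 : act 1 n47051 = n100971 := rfl
def n100972 : Q := act 7 n47051
theorem D100972 : act 7 n47051 = n100972 := rfl
def n100976 : Q := act 3 n47053
theorem D100976 : act 3 n47053 = n100976 := rfl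
theorem F155587 : act 7 n100976 = n100202 := d8_2 (iv7 F74300) D100976 (iv3 D100202)
def n100977 : Q := act 5 n47053
theorem D100977 : act 5 n47053 = n100977 := rfl
theorem F155590 : act 4 n100977 = n90854 := d16_2 (iv4 F74299) D100977 (iv5 D90854) (iv4 D42557) F62933 (iv4 F64090) F73303 (iv7 F73314) (iv2 F73313)
def n100978 : Q := act 6 n47053
theorem D100978 : act 6 n47053 = n100978 := rfl
theorem F155591 : act 2 n100978 = n100195 := d3_1 D100978 (iv6 D100195) F74298
theorem F155592 : act 4 n100978 = n99319 := d10_1 D100978 (iv6 D99319) (iv4 F74299)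
def n100979 : Q := act 3 n47054
theorem D100979 : act 3 n47054 = n100979 := rfl
theorem F155593 : act 7 n100979 = n100193 := d8_2 F74297 D100979 (iv3 D100193)
def n100981 : Q := act 6 n47054
theorem D100981 : act 6 n47054 = n100981 := rfl
theorem F155597 : act 2 n100981 = n100204 := d3_1 D100981 (iv6 D100204) F74296
theorem F155598 : act 4 n100981 = n99321 := d10_1 D100981 (iv6 D99321) (iv4 F74295)
def n100982 : Q := act 0 n47055
theorem D100982 : act 0 n47055 = n100982 := rfl
def n100983 : Q := act 1 n47055
theorem D100983 : act 1 n47055 = n100983 := rfl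
def n100984 : Q := act 2 n47055
theorem D100984 : act 2 n47055 = n100984 := rfl
def n100985 : Q := act 5 n47055
theorem D100985 : act 5 n47055 = n100985 := rfl
theorem F155599 : act 3 n100985 = n47056 := d6_1 D100985 (iv5 D47056) D47055
def n100986 : Q := act 7 n47055
theorem D100986 : act 7 n47055 = n100986 := rfl
theorem F155600 : act 3 n100986 = n47057 := d8_1 D100986 (iv7 D47057) D47055
def n100987 : Q := act 0 n47056
theorem D100987 : act 0 n47056 = n100987 := rfl
theorem F155601 : act 5 n100987 = n99317 := d17_3 (iv1 D47054) D47056 D100987 (iv4 D99317) (iv5 D46438) (iv0 D22240) D22242 D46440 (iv4 F74295)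
theorem F155602 : act 4 n100987 = n90801 := d18_1 D100987 F139770 D99345 F152990 F73885 F73308 (iv4 F74299) (iv0 D47053) D47056
theorem F155603 : act 2 n100159 = n100987 := d1_3 F155602 F139768 (iv4 F154090)
theorem F155604 : act 7 n100179 = n100987 := d11_0 F155602 F139769 (iv4 F154127)
def n100988 : Q := act 1 n47056
theorem D100988 : act 1 n47056 = n100988 := rfl
theorem F155605 : act 7 n100988 = n100159 := d15_2 (iv0 D100987) D100988 F155603
theorem F155606 : act 5 n100988 = n90794 := d17_7 (iv1 F73321) (iv5 D22454) F66060 D10721 D22630 D47056 D100988 F139739 (iv4 D89420)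
theorem F155607 : act 4 n100988 = n99344 := d17_9 (iv1 F152988) F73937 F66387 D90854 (iv4 F155590) (iv5 D100977) (iv0 D47053) D47056 D100988
def n100990 : Q := act 7 n47056
theorem D100990 : act 7 n47056 = n100990 := rfl
theorem F155610 : act 5 n100990 = n47057 := d13_1 D100990 (iv7 D47057) D47056
theorem F155611 : act 1 n100179 = n100990 := d15_1 (iv0 F154128) (iv7 D100990) (iv2 F153193)
def n100991 : Q := act 6 n47057
theorem D100991 : act 6 n47057 = n100991 := rfl
theorem F155613 : act 4 n100991 = n47058 := d10_1 D100991 (iv6 D47058) (iv4 F74302)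
def n100992 : Q := act 0 n47058
theorem D100992 : act 0 n47058 = n100992 := rfl
def n100993 : Q := act 1 n47058
theorem D100993 : act 1 n47058 = n100993 := rfl
def n100994 : Q := act 0 n47059
theorem D100994 : act 0 n47059 = n100994 := rfl
def n100995 : Q := act 1 n47059
theorem D100995 : act 1 n47059 = n100995 := rfl
def n100996 : Q := act 5 n47059
theorem D100996 : act 5 n47059 = n100996 := rfl
theorem F155614 : act 3 n100996 = n47062 := d6_1 D100996 (iv5 D47062) (iv3 F74305)
def n100997 : Q := act 7 n47059
theorem D100997 : act 7 n47059 = n100997 := rfl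
def n101008 : Q := act 0 n47062
theorem D101008 : act 0 n47062 = n101008 := rfl
def n101009 : Q := act 1 n47062
theorem D101009 : act 1 n47062 = n101009 := rfl
def n101010 : Q := act 4 n47062
theorem D101010 : act 4 n47062 = n101010 := rfl
def n101011 : Q := act 7 n47062
theorem D101011 : act 7 n47062 = n101011 := rfl
def n101012 : Q := act 6 n47064
theorem D101012 : act 6 n47064 = n101012 := rfl
theorem F155619 : act 2 n101012 = n87962 := d3_1 D101012 (iv6 D87962) (iv2 F74306)
theorem F155620 : act 3 n101012 = n87956 := d7_1 D101012 (iv6 D87956) (iv3 F74307)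
theorem F155621 : act 4 n101012 = n47066 := d10_1 D101012 (iv6 D47066) D47064
theorem F155622 : act 5 n101012 = n52559 := d12_1 D101012 (iv6 D52559) (iv5 D25513) D25514 (iv5 F74311)
def n101013 : Q := act 6 n47065
theorem D101013 : act 6 n47065 = n101013 := rfl
theorem F155623 : act 2 n101013 = n81864 := d3_1 D101013 (iv6 D81864) (iv2 F74312)
theorem F155624 : act 3 n101013 = n47067 := d7_1 D101013 (iv6 D47067) (iv3 F74313)
theorem F155625 : act 4 n101013 = n60254 := d10_1 D101013 (iv6 D60254) (iv4 F74316)
def n101014 : Q := act 0 n47066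
theorem D101014 : act 0 n47066 = n101014 := rfl
def n101015 : Q := act 1 n47066
theorem D101015 : act 1 n47066 = n101015 := rfl
def n101016 : Q := act 5 n47066
theorem D101016 : act 5 n47066 = n101016 := rfl
theorem F155627 : act 2 n101016 = n87965 := d2_1 D101016 (iv5 D87965) (iv2 F74318)
theorem F155628 : act 3 n101016 = n47070 := d6_1 D101016 (iv5 D47070) (iv3 F74319)
def n101017 : Q := act 7 n47066
theorem D101017 : act 7 n47066 = n101017 := rfl
theorem F155629 : act 2 n101017 = n87966 := d4_1 D101017 (iv7 D87966) (iv2 F74318)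
theorem F155630 : act 3 n101017 = n47071 := d8_1 D101017 (iv7 D47071) (iv3 F74319)
theorem F155631 : act 6 n101017 = n87960 := d14_1 D101017 (iv7 D87960) (iv6 D41067) (iv7 F44842) D47066
theorem F155632 : act 1 n87966 = n101014 := d15_0 (iv0 D101014) D101017 F155629
def n101018 : Q := act 0 n47067
theorem D101018 : act 0 n47067 = n101018 := rfl
def n101019 : Q := act 1 n47067
theorem D101019 : act 1 n47067 = n101019 := rfl
def n101020 : Q := act 5 n47067
theorem D101020 : act 5 n47067 = n101020 := rfl
theorem F155635 : act 6 n101020 = n47070 := d12_2 D47067 D101020 (iv5 D47070) (iv6 D22638) D22637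
def n101021 : Q := act 7 n47067
theorem D101021 : act 7 n47067 = n101021 := rfl
def n101022 : Q := act 2 n47068
theorem D101022 : act 2 n47068 = n101022 := rfl
theorem F155636 : act 7 n47069 = n101022 := d15_2 (iv0 D47068) D47069 (iv2 D101022)
def n101027 : Q := act 7 n47068
theorem D101027 : act 7 n47068 = n101027 := rfl
theorem F155637 : act 2 n101027 = n47069 := d4_1 D101027 F155636 (iv2 D101022)
def n101028 : Q := act 3 n47069
theorem D101028 : act 3 n47069 = n101028 := rfl
def n101029 : Q := act 4 n47069
theorem D101029 : act 4 n47069 = n101029 := rfl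
def n101030 : Q := act 5 n47069
theorem D101030 : act 5 n47069 = n101030 := rfl
def n101031 : Q := act 6 n47069
theorem D101031 : act 6 n47069 = n101031 := rfl
def n101032 : Q := act 0 n47070
theorem D101032 : act 0 n47070 = n101032 := rfl
def n101033 : Q := act 1 n47070
theorem D101033 : act 1 n47070 = n101033 := rfl
def n101034 : Q := act 4 n47070
theorem D101034 : act 4 n47070 = n101034 := rfl
def n101035 : Q := act 7 n47070
theorem D101035 : act 7 n47070 = n101035 := rfl
theorem F155638 : act 5 n101035 = n47071 := d13_1 D101035 (iv7 D47071) D47070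
def n101036 : Q := act 5 n47072
theorem D101036 : act 5 n47072 = n101036 := rfl
theorem F155639 : act 2 n101036 = n47080 := d2_1 D101036 (iv5 D47080) (iv2 F74320)
theorem F155640 : act 3 n101036 = n87877 := d6_1 D101036 (iv5 D87877) (iv3 F74321)
theorem F155641 : act 6 n101036 = n70656 := d12_2 D47072 D101036 (iv5 D70656) (iv6 D32769) F35170
def n101037 : Q := act 2 n47073
theorem D101037 : act 2 n47073 = n101037 := rfl
theorem F155642 : act 7 n47074 = n101037 := d15_2 (iv0 D47073) D47074 (iv2 D101037)
def n101038 : Q := act 5 n47073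
theorem D101038 : act 5 n47073 = n101038 := rfl
theorem F155643 : act 3 n101038 = n87986 := d6_1 D101038 (iv5 D87986) (iv3 F153142)
def n101039 : Q := act 6 n47073
theorem D101039 : act 6 n47073 = n101039 := rfl
theorem F155644 : act 3 n101039 = n87987 := d7_1 D101039 (iv6 D87987) (iv3 F153142)
def n101040 : Q := act 7 n47073
theorem D101040 : act 7 n47073 = n101040 := rfl
theorem F155645 : act 2 n101040 = n47074 := d4_1 D101040 F155642 (iv2 D101037)
theorem F155646 : act 3 n101040 = n87988 := d8_1 D101040 (iv7 D87988) (iv3 F153142)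
theorem F155647 : act 2 n87989 = n100356 := d0_3 F155646 F134996 D87989 F154345 (iv2 F155645)
theorem E15271 : n100354 = n92948 := (c1_4 F143347 F155647 (iv4 D100356) (iv2 F154344))
theorem F155648 : act 2 n92948 = n46826 := (sb E15271 F154344)
theorem F155649 : act 7 n92948 = n46825 := (sb E15271 (iv7 D100354))
theorem F155650 : act 7 n100351 = n87989 := d15_2 (iv0 F154348) (iv0 F154343) F155647
theorem F155651 : act 7 n47089 = n100356 := d15_2 (iv0 F154720) (iv0 F154719) (iv2 F155647)
theorem F155652 : act 2 n100351 = n47089 := d4_3 F155651 (iv2 F155647) (iv7 F155650)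
theorem E15272 : n101037 = n22647 := (c8_3 F155651 F154345 F155642 D47089)
theorem E15273 : n47088 = n47073 := ((D47088).symm.trans (sb E15272 (iv2 D101037)))
theorem E15274 : n47093 = n47074 := ((D47093).symm.trans (sb E15272 (iv7 F155642)))
theorem F155653 : act 2 n47073 = n22647 := (sb E15273 (iv2 D47088))
theorem E15275 : n99426 = n99422 := (((F153143).symm.trans (sb E15273 (iv4 F153162)))).symm
theorem E15276 : n101040 = n22648 := ((D101040).symm.trans (sb E15273 (iv7 F74345)))
theorem E15277 : n99430 = n99423 := (((F153148).symm.trans (sb E15274 (iv4 F153168)))).symm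
theorem F155654 : act 7 n47074 = n22647 := (sb E15274 (iv7 D47093))
theorem F155655 : act 2 n99422 = n46488 := (sb E15275 (iv2 D99426))
theorem F155656 : act 7 n99422 = n46489 := (sb E15275 (iv7 F153163))
theorem F155657 : act 2 n22648 = n47074 := (sb E15276 F155645)
theorem E15278 : n87988 = n47094 := (((D47094).symm.trans (sb E15276 F155646))).symm
theorem F155658 : act 7 n22648 = n47073 := (sb E15276 (iv7 D101040))
theorem F155659 : act 2 n99423 = n46489 := (sb E15277 F153167)
theorem F155660 : act 7 n99423 = n46488 := (sb E15277 (iv7 D99430))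
theorem F155661 : act 2 n47094 = n41078 := (sb E15278 F134996)
theorem F155662 : act 7 n47094 = n41077 := (sb E15278 (iv7 D87988))
theorem E15279 : n100350 = n92949 := (c11_3 F155651 (iv4 D100356) F154341 (iv4 F143350))
theorem F155663 : act 2 n92949 = n46825 := (sb E15279 (iv2 D100350))
theorem F155664 : act 7 n92949 = n46826 := (sb E15279 (iv7 F154341))
theorem F155665 : act 7 n92679 = n90733 := d8_2 F155664 (iv3 F154347) (iv3 F153165)
theorem F155666 : act 2 n90733 = n92678 := d15_3 (iv0 D92678) D92679 F155665
theorem F155667 : act 2 n92679 = n90732 := d15_3 (iv0 D90732) D90733 (iv7 F155665)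
theorem F155668 : act 2 n90287 = n92583 := d0_3 (iv3 F154347) F155667 F139663 (iv3 F143348) F155648
theorem F155669 : act 7 n90732 = n92678 := d4_2 (iv7 F155665) F155667 (iv2 F155666)
theorem F155670 : act 7 n92579 = n90287 := d8_2 F155669 F142820 (iv3 F139663)
theorem E15280 : n90280 = n43313 := (c11_3 F155670 (iv4 D90287) F138867 D92579)
theorem E15281 : n92577 = n42202 := ((D92577).symm.trans (sb E15280 (iv2 D90280)))
theorem E15282 : n92582 = n42203 := ((D92582).symm.trans (sb E15280 (iv7 F138867)))
theorem F155671 : act 2 n42202 = n43313 := (sb E15281 (iv2 D92577))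
theorem E15283 : n90285 = n43314 := ((D90285).symm.trans (sb E15281 (iv7 F142612)))
theorem F155672 : act 7 n42203 = n43313 := (sb E15282 (iv7 D92582))
theorem F155673 : act 2 n43314 = n42203 := (sb E15283 F138870)
theorem F155674 : act 7 n43314 = n42202 := (sb E15283 (iv7 D90285))
theorem F155675 : act 2 n92579 = n90282 := d15_3 (iv0 F139674) (iv0 F143373) (iv7 F155670)
theorem F155676 : act 7 n90282 = n92583 := d4_2 (iv7 F155670) F155675 (iv2 F155668)
theorem F155677 : act 7 n90281 = n87990 := d8_2 F155674 D90281 (iv3 F134997)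
theorem F155678 : act 7 n90283 = n92584 := d13_2 F155674 D90283 (iv5 D92584)
theorem E15284 : n87983 = n87967 := (c11_3 F155677 (iv4 D87990) F134995 (iv4 F138868))
theorem F155679 : act 2 n87967 = n41077 := (sb E15284 (iv2 D87983))
theorem F155680 : act 7 n87967 = n41078 := (sb E15284 (iv7 F134995))
theorem F155681 : act 2 n90281 = n87985 := d15_3 (iv0 F153146) F154613 (iv7 F155677)
theorem F155682 : act 2 n90288 = n92584 := d2_3 (iv5 D92584) F155673 D90288
theorem F155683 : act 2 n90289 = n92585 := d3_3 (iv6 D92585) F155673 D90289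
theorem F155684 : act 7 n92578 = n90286 := d8_2 F155672 D92578 (iv3 D90286)
theorem F155685 : act 7 n92580 = n90288 := d13_2 F155672 D92580 (iv5 D90288)
theorem F155686 : act 2 n90283 = n92580 := d4_3 F155685 F155682 (iv7 F155678)
theorem F155687 : act 7 n47131 = n93336 := d11_2 F155684 F138871 (iv4 F143943)
theorem F155688 : act 2 n93336 = n47130 := d15_3 (iv0 D47130) D47131 F155687
theorem F155689 : act 2 n47131 = n93335 := d15_3 (iv0 D93335) D93336 (iv7 F155687)
theorem F155690 : act 7 n93335 = n47130 := d4_2 (iv7 F155687) F155689 (iv2 F155688)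
theorem F155691 : act 2 n92581 = n90284 := d3_3 (iv6 D90284) F155671 D92581
theorem F155692 : act 2 n94141 = n93793 := d2_3 (iv5 F144569) F155691 F145094
theorem F155693 : act 7 n93792 = n94141 := d15_2 F145100 F145101 F155692
theorem F155694 : act 7 n94140 = n93793 := d15_2 F145093 F145099 (iv2 F155692)
theorem F155695 : act 2 n93792 = n94140 := d4_3 F155694 (iv2 F155692) (iv7 F155693)
theorem F155696 : act 7 n101038 = n47096 := d13_2 F155658 D101038 (iv5 D47096)
theorem F155697 : act 2 n47091 = n101038 := d2_3 (iv5 D101038) F155653 D47091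
theorem F155698 : act 2 n47092 = n101039 := d3_3 (iv6 D101039) F155653 D47092
def n101041 : Q := act 5 n47074
theorem D101041 : act 5 n47074 = n101041 := rfl
theorem F155699 : act 2 n101041 = n47096 := d2_1 D101041 (iv5 D47096) F155657
theorem F155700 : act 7 n101041 = n47091 := d13_2 (iv7 F155654) D101041 (iv5 D47091)
def n101042 : Q := act 6 n47074
theorem D101042 : act 6 n47074 = n101042 := rfl
theorem F155701 : act 2 n101042 = n47097 := d3_1 D101042 (iv6 D47097) F155657
def n101043 : Q := act 0 n47075
theorem D101043 : act 0 n47075 = n101043 := rfl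
def n101044 : Q := act 1 n47075
theorem D101044 : act 1 n47075 = n101044 := rfl
theorem F155702 : act 1 n101044 = n47101 := d15_1 D101044 (iv7 D47101) (iv2 F74324)
theorem F155703 : act 5 n89167 = n101044 := d21_6 (iv5 F52906) F52908 (iv5 D19613) D19614 D41653 D89167 (iv1 D101044) (iv5 D47075) (iv6 D22640) (iv1 F34766)
def n101045 : Q := act 4 n47075
theorem D101045 : act 4 n47075 = n101045 := rfl
theorem F155704 : act 2 n101045 = n47100 := d1_1 D101045 (iv4 D47100) (iv2 F74324)
def n101046 : Q := act 7 n47075
theorem D101046 : act 7 n47075 = n101046 := rfl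
theorem F155705 : act 2 n101046 = n47101 := d4_1 D101046 (iv7 D47101) (iv2 F74324)
theorem F155706 : act 5 n101046 = n47076 := d13_1 D101046 (iv7 D47076) D47075
theorem F155707 : act 1 n47101 = n101043 := d15_0 (iv0 D101043) D101046 F155705
theorem F155708 : act 1 n47099 = n101046 := d15_1 D47099 (iv7 D101046) F74324
theorem F155709 : act 1 n101046 = n47098 := d15_0 (iv0 D47098) D47101 (iv2 F155705)
def n101047 : Q := act 0 n47077
theorem D101047 : act 0 n47077 = n101047 := rfl
def n101048 : Q := act 1 n47077
theorem D101048 : act 1 n47077 = n101048 := rfl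
def n101049 : Q := act 5 n47077
theorem D101049 : act 5 n47077 = n101049 := rfl
theorem F155711 : act 2 n101049 = n87750 := d2_1 D101049 (iv5 D87750) (iv2 F74329)
def n101050 : Q := act 7 n47077
theorem D101050 : act 7 n47077 = n101050 := rfl
def n101051 : Q := act 0 n47078
theorem D101051 : act 0 n47078 = n101051 := rfl
def n101052 : Q := act 1 n47078
theorem D101052 : act 1 n47078 = n101052 := rfl
theorem F155718 : act 1 n101052 = n70657 := d15_1 D101052 (iv7 D70657) (iv2 F74331)
def n101053 : Q := act 5 n47078
theorem D101053 : act 5 n47078 = n101053 := rfl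
theorem F155719 : act 2 n101053 = n70656 := d2_1 D101053 (iv5 D70656) (iv2 F74331)
theorem F155720 : act 3 n101053 = n48189 := d6_1 D101053 (iv5 D48189) (iv3 F74332)
theorem F155721 : act 6 n101053 = n47080 := d12_2 D47078 D101053 (iv5 D47080) (iv6 D22643) D22642
def n101054 : Q := act 7 n47078
theorem D101054 : act 7 n47078 = n101054 := rfl
theorem F155722 : act 2 n101054 = n70657 := d4_1 D101054 (iv7 D70657) (iv2 F74331)
theorem F155723 : act 3 n101054 = n48190 := d8_1 D101054 (iv7 D48190) (iv3 F74332)
theorem F155724 : act 4 n101054 = n69883 := d11_1 D101054 (iv7 D69883) (iv4 F74333)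
theorem F155725 : act 6 n101054 = n70661 := d14_1 D101054 (iv7 D70661) (iv6 D32770) (iv7 F35179) D47078
theorem F155726 : act 1 n70657 = n101051 := d15_0 (iv0 D101051) D101054 F155722
theorem F155727 : act 1 n70655 = n101054 := d15_1 D70655 (iv7 D101054) F74331
theorem F155728 : act 1 n101054 = n70654 := d15_0 (iv0 D70654) D70657 (iv2 F155722)
def n101055 : Q := act 5 n47079
theorem D101055 : act 5 n47079 = n101055 := rfl
def n101056 : Q := act 6 n47079
theorem D101056 : act 6 n47079 = n101056 := rfl
def n101057 : Q := act 0 n47080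
theorem D101057 : act 0 n47080 = n101057 := rfl
def n101058 : Q := act 1 n47080
theorem D101058 : act 1 n47080 = n101058 := rfl
def n101059 : Q := act 4 n47080
theorem D101059 : act 4 n47080 = n101059 := rfl
def n101060 : Q := act 6 n47081
theorem D101060 : act 6 n47081 = n101060 := rfl
theorem F155729 : act 3 n101060 = n47082 := d7_1 D101060 (iv6 D47082) D47081
theorem F155730 : act 4 n101060 = n72302 := d10_1 D101060 (iv6 D72302) (iv4 F74335)
def n101061 : Q := act 0 n47082
theorem D101061 : act 0 n47082 = n101061 := rfl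
def n101062 : Q := act 1 n47082
theorem D101062 : act 1 n47082 = n101062 := rfl
def n101063 : Q := act 5 n47082
theorem D101063 : act 5 n47082 = n101063 := rfl
theorem F155731 : act 6 n101063 = n89149 := d12_2 D47082 D101063 (iv5 D89149) (iv6 D41648) F35211
def n101064 : Q := act 7 n47082
theorem D101064 : act 7 n47082 = n101064 := rfl
theorem F155732 : act 4 n101064 = n72300 := d11_1 D101064 (iv7 D72300) (iv4 F74338)
theorem F155733 : act 6 n101064 = n72599 := d14_1 D101064 (iv7 D72599) (iv6 D33509) F35210 D47082
def n101065 : Q := act 0 n47083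
theorem D101065 : act 0 n47083 = n101065 := rfl
def n101066 : Q := act 1 n47083
theorem D101066 : act 1 n47083 = n101066 := rfl
theorem F155734 : act 1 n101066 = n72599 := d15_1 D101066 (iv7 D72599) (iv2 F74339)
def n101067 : Q := act 5 n47083
theorem D101067 : act 5 n47083 = n101067 := rfl
theorem F155735 : act 2 n101067 = n72598 := d2_1 D101067 (iv5 D72598) (iv2 F74339)
theorem F155736 : act 6 n101067 = n89154 := d12_2 D47083 D101067 (iv5 D89154) (iv6 D41650) (iv5 F35214)
def n101068 : Q := act 7 n47083
theorem D101068 : act 7 n47083 = n101068 := rfl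
theorem F155737 : act 2 n101068 = n72599 := d4_1 D101068 (iv7 D72599) (iv2 F74339)
theorem F155738 : act 4 n101068 = n72589 := d11_1 D101068 (iv7 D72589) (iv4 F74340)
theorem F155739 : act 1 n72599 = n101065 := d15_0 (iv0 D101065) D101068 F155737
theorem F155740 : act 1 n72597 = n101068 := d15_1 D72597 (iv7 D101068) F74339
theorem F155741 : act 1 n101068 = n72596 := d15_0 (iv0 D72596) D72599 (iv2 F155737)
def n101069 : Q := act 2 n47084
theorem D101069 : act 2 n47084 = n101069 := rfl
theorem F155742 : act 7 n47085 = n101069 := d15_2 (iv0 D47084) D47085 (iv2 D101069)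
def n101070 : Q := act 3 n47084
theorem D101070 : act 3 n47084 = n101070 := rfl
def n101071 : Q := act 4 n47084
theorem D101071 : act 4 n47084 = n101071 := rfl
theorem F155743 : act 3 n101071 = n55515 := d20_3 (iv4 F35217) D47084 D101071 F87798 F43085 F21284 (iv1 F9428) D7853 D16843 F155355
theorem F155744 : act 6 n69273 = n101071 := d7_0 F155743 F87797 (iv3 F105537)
def n101072 : Q := act 5 n47084
theorem D101072 : act 5 n47084 = n101072 := rfl
def n101073 : Q := act 6 n47084
theorem D101073 : act 6 n47084 = n101073 := rfl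
theorem F155745 : act 4 n101073 = n69273 := d10_1 D101073 F155744 (iv4 D101071)
def n101074 : Q := act 7 n47084
theorem D101074 : act 7 n47084 = n101074 := rfl
theorem F155746 : act 2 n101074 = n47085 := d4_1 D101074 F155742 (iv2 D101069)
def n101075 : Q := act 3 n47085
theorem D101075 : act 3 n47085 = n101075 := rfl
def n101076 : Q := act 4 n47085
theorem D101076 : act 4 n47085 = n101076 := rfl
theorem F155747 : act 3 n101076 = n72329 := d20_3 (iv4 F107116) (iv1 F107119) D101076 (iv1 D72329) F52623 (iv4 F52022) (iv1 F107373) (iv4 D70869) F155353 (iv1 F51883)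
theorem F155748 : act 4 n69854 = n71962 := d20_0 (iv1 F120226) F120222 (iv3 F108868) (iv1 F108872) (iv3 F155747) (iv4 D101076) (iv1 D47085) F35217 (iv3 F51506) D69854
theorem F155749 : act 3 n69854 = n70756 := d20_3 (iv4 F52486) D71962 (iv4 F155748) (iv1 F107236) F51946 F25204 (iv1 F13133) (iv4 F29959) D26809 (iv1 F130874)
def n101077 : Q := act 5 n47085
theorem D101077 : act 5 n47085 = n101077 := rfl
def n101078 : Q := act 6 n47085
theorem D101078 : act 6 n47085 = n101078 := rfl
def n101079 : Q := act 0 n47086
theorem D101079 : act 0 n47086 = n101079 := rfl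
def n101080 : Q := act 1 n47086
theorem D101080 : act 1 n47086 = n101080 := rfl
def n101081 : Q := act 4 n47086
theorem D101081 : act 4 n47086 = n101081 := rfl
theorem F155750 : act 6 n101081 = n47100 := d10_2 (iv6 F74342) D101081 (iv4 D47100)
def n101082 : Q := act 7 n47086
theorem D101082 : act 7 n47086 = n101082 := rfl
theorem F155751 : act 3 n101082 = n47115 := d8_1 D101082 (iv7 D47115) (iv3 F74341)
theorem F155752 : act 5 n101082 = n47087 := d13_1 D101082 (iv7 D47087) D47086
def n101083 : Q := act 1 n47089
theorem D101083 : act 1 n47089 = n101083 := rfl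
theorem F155753 : act 1 n101083 = n87989 := d15_1 D101083 (iv7 F155650) F155652
theorem F155754 : act 7 n101083 = n90608 := d15_2 (iv0 F154719) D101083 F154717
theorem F155755 : act 4 n90306 = n101083 := d20_0 (iv1 D101083) F143350 F153165 (iv1 D90733) (iv3 D42485) (iv4 F65695) (iv1 F65771) F65773 D42212 D90306
def n101084 : Q := act 5 n47089
theorem D101084 : act 5 n47089 = n101084 := rfl
theorem F155757 : act 3 n101084 = n47091 := d6_1 D101084 (iv5 D47091) D47089
def n101085 : Q := act 6 n47089
theorem D101085 : act 6 n47089 = n101085 := rfl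
theorem F155758 : act 3 n101085 = n47092 := d7_1 D101085 (iv6 D47092) D47089
def n101086 : Q := act 0 n47091
theorem D101086 : act 0 n47091 = n101086 := rfl
theorem F155759 : act 1 n47096 = n101086 := d15_0 (iv0 D101086) (iv7 F155700) F155699
def n101087 : Q := act 1 n47091
theorem D101087 : act 1 n47091 = n101087 := rfl
theorem F155760 : act 1 n101087 = n47096 := d15_1 D101087 (iv7 F155696) (iv2 F155697)
def n101088 : Q := act 4 n47091
theorem D101088 : act 4 n47091 = n101088 := rfl
def n101089 : Q := act 6 n47091
theorem D101089 : act 6 n47091 = n101089 := rfl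
def n101091 : Q := act 1 n47092
theorem D101091 : act 1 n47092 = n101091 := rfl
def n101092 : Q := act 5 n47092
theorem D101092 : act 5 n47092 = n101092 := rfl
def n101093 : Q := act 7 n47092
theorem D101093 : act 7 n47092 = n101093 := rfl
def n101094 : Q := act 4 n47094
theorem D101094 : act 4 n47094 = n101094 := rfl
theorem F155761 : act 2 n101094 = n87990 := d1_1 D101094 (iv4 D87990) (iv2 F155661)
theorem F155762 : act 7 n101094 = n87985 := d11_2 (iv7 F155662) D101094 (iv4 D87985)
theorem F155763 : act 0 n101094 = n92864 := d20_1 D101094 F153028 (iv3 F154428) (iv1 D87799) (iv3 D40907) (iv4 F66125) (iv1 F34898) F34895 (iv3 F62323) (iv1 F153160)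
def n101095 : Q := act 5 n47094
theorem D101095 : act 5 n47094 = n101095 := rfl
theorem F155764 : act 2 n101095 = n87991 := d2_1 D101095 (iv5 D87991) (iv2 F155661)
theorem F155765 : act 3 n101095 = n47096 := d6_1 D101095 (iv5 D47096) D47094
theorem F155766 : act 7 n101095 = n87986 := d13_2 (iv7 F155662) D101095 (iv5 D87986)
def n101096 : Q := act 6 n47094
theorem D101096 : act 6 n47094 = n101096 := rfl
theorem F155767 : act 2 n101096 = n87992 := d3_1 D101096 (iv6 D87992) (iv2 F155661)
theorem F155768 : act 3 n101096 = n47097 := d7_1 D101096 (iv6 D47097) D47094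
def n101097 : Q := act 4 n47096
theorem D101097 : act 4 n47096 = n101097 := rfl
def n101098 : Q := act 6 n47096
theorem D101098 : act 6 n47096 = n101098 := rfl
def n101099 : Q := act 0 n47097
theorem D101099 : act 0 n47097 = n101099 := rfl
def n101100 : Q := act 1 n47097
theorem D101100 : act 1 n47097 = n101100 := rfl
def n101101 : Q := act 5 n47097
theorem D101101 : act 5 n47097 = n101101 := rfl
def n101102 : Q := act 7 n47097
theorem D101102 : act 7 n47097 = n101102 := rfl
def n101103 : Q := act 2 n47098
theorem D101103 : act 2 n47098 = n101103 := rfl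
theorem F155769 : act 7 n47099 = n101103 := d15_2 (iv0 D47098) D47099 (iv2 D101103)
def n101104 : Q := act 3 n47098
theorem D101104 : act 3 n47098 = n101104 := rfl
def n101105 : Q := act 4 n47098
theorem D101105 : act 4 n47098 = n101105 := rfl
def n101106 : Q := act 5 n47098
theorem D101106 : act 5 n47098 = n101106 := rfl
def n101107 : Q := act 6 n47098
theorem D101107 : act 6 n47098 = n101107 := rfl
def n101108 : Q := act 7 n47098
theorem D101108 : act 7 n47098 = n101108 := rfl
theorem F155770 : act 2 n101108 = n47099 := d4_1 D101108 F155769 (iv2 D101103)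
def n101109 : Q := act 3 n47099
theorem D101109 : act 3 n47099 = n101109 := rfl
def n101110 : Q := act 4 n47099
theorem D101110 : act 4 n47099 = n101110 := rfl
theorem F155771 : act 0 n101110 = n87772 := d18_2 (iv1 F155708) D101110 (iv4 D87772) (iv5 D40897) (iv4 F34771) D46489 F153158 F74327 (iv5 F155706)
theorem F155772 : act 0 n87996 = n101109 := d20_4 D87810 (iv1 F135029) F135027 (iv3 F134998) (iv3 D101109) D101110 F155771 (iv4 D87772) F61999 D40916
theorem F155773 : act 1 n87969 = n101109 := d15_0 (iv0 F155772) (iv7 D87996) (iv2 F134953)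
def n101111 : Q := act 5 n47099
theorem D101111 : act 5 n47099 = n101111 := rfl
theorem F155774 : act 6 n89156 = n101111 := d21_5 F25811 F27191 F31380 D41651 D89156 (iv5 D101111) (iv1 D47099) (iv5 D22649) (iv6 D10728) D10723
theorem F155775 : act 0 n97786 = n101092 := d21_7 (iv5 F155706) (iv1 F155708) D101111 (iv6 F155774) (iv1 F136860) (iv6 F71980) D97786 (iv5 D101092) (iv6 D47092) (iv1 F74328)
def n101112 : Q := act 6 n47099
theorem D101112 : act 6 n47099 = n101112 := rfl
def n101113 : Q := act 0 n47100
theorem D101113 : act 0 n47100 = n101113 := rfl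
def n101114 : Q := act 1 n47100
theorem D101114 : act 1 n47100 = n101114 := rfl
def n101115 : Q := act 3 n47100
theorem D101115 : act 3 n47100 = n101115 := rfl
theorem F155776 : act 4 n101115 = n47121 := d5_2 D47100 D101115 (iv3 D47121) (iv4 D22671) (iv3 F35218)
def n101116 : Q := act 5 n47100
theorem D101116 : act 5 n47100 = n101116 := rfl
def n101117 : Q := act 7 n47100
theorem D101117 : act 7 n47100 = n101117 := rfl
theorem F155777 : act 4 n101117 = n47101 := d11_1 D101117 (iv7 D47101) D47100
def n101118 : Q := act 6 n47101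
theorem D101118 : act 6 n47101 = n101118 := rfl
theorem F155778 : act 3 n101118 = n47124 := d7_1 D101118 (iv6 D47124) (iv3 F74347)
def n101119 : Q := act 0 n47102
theorem D101119 : act 0 n47102 = n101119 := rfl
theorem F155779 : act 1 n47107 = n101119 := d15_0 (iv0 D101119) (iv7 F74349) (iv2 F74350)
def n101121 : Q := act 3 n47102
theorem D101121 : act 3 n47102 = n101121 := rfl
theorem F155781 : act 7 n101121 = n47108 := d8_2 F74349 D101121 (iv3 D47108)
def n101122 : Q := act 5 n47102
theorem D101122 : act 5 n47102 = n101122 := rfl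
theorem F155782 : act 2 n101122 = n47105 := d2_1 D101122 (iv5 D47105) D47102
theorem F155783 : act 7 n101122 = n47110 := d13_2 F74349 D101122 (iv5 D47110)
def n101123 : Q := act 6 n47102
theorem D101123 : act 6 n47102 = n101123 := rfl
theorem F155784 : act 2 n101123 = n47106 := d3_1 D101123 (iv6 D47106) D47102
def n101124 : Q := act 0 n47105
theorem D101124 : act 0 n47105 = n101124 := rfl
theorem F155785 : act 5 n101124 = n83808 := d21_2 D47105 D101124 (iv6 D83808) (iv1 D38610) (iv6 D18383) F13565 (iv1 F6815) D4907 D10730 D22655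
def n101125 : Q := act 1 n47105
theorem D101125 : act 1 n47105 = n101125 := rfl
theorem F155786 : act 1 n101125 = n47110 := d15_1 D101125 (iv7 F155783) F155782
def n101126 : Q := act 4 n47105
theorem D101126 : act 4 n47105 = n101126 := rfl
def n101127 : Q := act 6 n47105
theorem D101127 : act 6 n47105 = n101127 := rfl
def n101128 : Q := act 7 n47105
theorem D101128 : act 7 n47105 = n101128 := rfl
theorem F155787 : act 2 n101128 = n47110 := d4_1 D101128 (iv7 F155783) F155782
theorem F155788 : act 5 n101128 = n47107 := d13_1 D101128 (iv7 D47107) D47105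
theorem F155789 : act 1 n47110 = n101124 := d15_0 (iv0 D101124) D101128 F155787
theorem E15285 : n89303 = n47111 := ((c21_10 (iv5 D99727) (iv1 F73574) F35300 D22748 (iv1 F59426) D83808 (iv5 F155785) (iv1 F155789) (iv5 D47110) D47111 (iv1 F153522))).symm
theorem F155790 : act 0 n47111 = n99727 := (sb E15285 (iv1 F153522))
theorem F155791 : act 1 n47111 = n41714 := (sb E15285 (iv0 D89303))
def n101129 : Q := act 0 n47106
theorem D101129 : act 0 n47106 = n101129 := rfl
def n101130 : Q := act 1 n47106
theorem D101130 : act 1 n47106 = n101130 := rfl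
def n101131 : Q := act 7 n47106
theorem D101131 : act 7 n47106 = n101131 := rfl
def n101132 : Q := act 6 n47107
theorem D101132 : act 6 n47107 = n101132 := rfl
theorem F155792 : act 2 n101132 = n47111 := d3_1 D101132 (iv6 D47111) (iv2 F74350)
theorem F155793 : act 7 n89304 = n101132 := d15_2 F155791 D89304 F155792
theorem F155794 : act 6 n101131 = n89304 := d14_5 F155793 (iv6 D101132) (iv7 D47107) D47106 D101131
theorem F155795 : act 5 n89187 = n101131 := d21_2 D41659 D89187 F155794 (iv1 D89304) (iv6 D41714) D41713 D89298 F137006 (iv6 D89186) (iv1 D41658)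
theorem F155796 : act 7 n47233 = n89187 := d13_0 F155795 (iv7 D101131) F74496
theorem F155797 : act 2 n89187 = n47232 := d15_3 (iv0 D47232) D47233 F155796
theorem F155798 : act 2 n47233 = n89188 := d15_3 F136882 F136887 (iv7 F155796)
theorem E15286 : n101123 = n99496 := ((c2_3 F74496 F155798 (iv5 F153256) F155784)).symm
theorem F155799 : act 2 n99496 = n47106 := (sb E15286 F155784)
theorem E15287 : n47102 = n46512 := ((((iv6 D99496)).symm.trans (sb E15286 (iv6 D101123)))).symm
theorem E15288 : n101119 = n22658 := ((((iv1 F73496)).symm.trans (sb E15287 D101119))).symm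
theorem E15290 : n99492 = n22655 := ((D99492).symm.trans (sb E15287 (iv2 D47102)))
theorem E15291 : n101121 = n99493 := (((D99493).symm.trans (sb E15287 D101121))).symm
theorem E15292 : n83524 = n80167 := ((((iv4 F155405)).symm.trans (sb E15287 F155365))).symm
theorem E15293 : n101122 = n99495 := (((D99495).symm.trans (sb E15287 D101122))).symm
theorem E15294 : n99497 = n22656 := ((D99497).symm.trans (sb E15287 (iv7 F74349)))
theorem E15295 : n47107 = n46513 := ((((iv1 F73491)).symm.trans (sb E15288 (iv1 F155779)))).symm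
theorem F155800 : act 2 n22655 = n46512 := (sb E15290 (iv2 D99492))
theorem E15296 : n88003 = n46645 := ((((iv3 F155367)).symm.trans (sb E15290 F155414))).symm
theorem F155801 : act 7 n99493 = n47108 := (sb E15291 F155781)
theorem F155802 : act 2 n80167 = n38503 := (sb E15292 (iv2 D83524))
theorem F155803 : act 7 n80167 = n38504 := (sb E15292 (iv7 F128626))
theorem F155804 : act 2 n99495 = n47105 := (sb E15293 F155782)
theorem F155805 : act 7 n99495 = n47110 := (sb E15293 F155783)
theorem F155806 : act 7 n22656 = n46512 := (sb E15294 (iv7 D99497))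
theorem F155807 : act 2 n46513 = n22656 := (sb E15295 F74350)
theorem E15297 : n99883 = n41084 := ((((iv3 F155409)).symm.trans (sb E15295 F155372))).symm
theorem E15298 : n83529 = n80168 := (((F155408).symm.trans (sb E15295 F155363))).symm
theorem E15299 : n101128 = n99500 := (((D99500).symm.trans (sb E15295 (iv5 F155788)))).symm
theorem E15300 : n101132 = n99501 := (((D99501).symm.trans (sb E15295 D101132))).symm
theorem F155808 : act 7 n46513 = n22655 := (sb E15295 (iv7 D47107))
theorem E15301 : n99879 = n41083 := ((D99879).symm.trans (sb E15296 (iv2 D88003)))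
theorem E15302 : n88008 = n46646 := (((iv2 F135016)).symm.trans (sb E15297 F153790))
theorem F155809 : act 7 n41084 = n46645 := (sb E15297 (iv7 D99883))
theorem F155810 : act 2 n80168 = n38504 := (sb E15298 F128628)
theorem F155811 : act 7 n80168 = n38503 := (sb E15298 (iv7 D83529))
theorem F155812 : act 2 n99500 = n47110 := (sb E15299 F155787)
theorem F155813 : act 7 n99500 = n47105 := (sb E15299 (iv7 D101128))
theorem F155814 : act 2 n99501 = n47111 := (sb E15300 F155792)
theorem F155815 : act 7 n99501 = n89304 := (sb E15300 (iv7 F155793))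
theorem F155816 : act 2 n41083 = n46645 := (sb E15301 (iv2 D99879))
theorem F155817 : act 2 n46646 = n41084 := (sb E15302 F135016)
theorem F155818 : act 7 n46646 = n41083 := (sb E15302 (iv7 D88008))
theorem F155819 : act 7 n89188 = n47232 := d4_2 (iv7 F155796) F155798 (iv2 F155797)
theorem F155820 : act 7 n88004 = n99884 := d8_2 F155818 D88004 (iv3 D99884)
theorem F155821 : act 7 n88005 = n99885 := d11_2 F155818 D88005 (iv4 D99885)
theorem F155822 : act 7 n88006 = n99886 := d13_2 F155818 D88006 (iv5 D99886)
theorem F155823 : act 2 n88010 = n99885 := d1_3 (iv4 D99885) F155817 D88010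
theorem F155824 : act 2 n88011 = n99886 := d2_3 (iv5 D99886) F155817 D88011
theorem F155825 : act 2 n88012 = n99887 := d3_3 (iv6 D99887) F155817 D88012
theorem F155826 : act 1 n88011 = n88168 := d15_0 (iv0 F135125) F155822 (iv2 F155824)
theorem F155827 : act 2 n99880 = n88005 := d1_3 (iv4 D88005) F155816 D99880
theorem F155828 : act 2 n99881 = n88006 := d2_3 (iv5 D88006) F155816 D99881
theorem F155829 : act 2 n99882 = n88007 := d3_3 (iv6 D88007) F155816 D99882
theorem F155830 : act 7 n88011 = n99881 := d4_0 F155828 F155822 (iv2 F155824)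
theorem F155831 : act 7 n88010 = n99880 := d4_0 F155827 F155821 (iv2 F155823)
theorem F155832 : act 2 n47303 = n99700 := d2_3 F153506 F155814 (iv5 F74536)
theorem F155833 : act 7 n99701 = n47303 := d15_2 (iv0 D99700) D99701 F155832
theorem F155834 : act 7 n47304 = n99700 := d15_2 (iv0 D47303) D47304 (iv2 F155832)
theorem F155835 : act 2 n99701 = n47304 := d4_3 F155834 (iv2 F155832) (iv7 F155833)
theorem F155836 : act 5 n89304 = n47304 := d13_3 F155834 F153506 F155815
theorem F155837 : act 6 n47304 = n99783 := d21_3 D99727 (iv1 F153524) F155836 (iv1 D99783) (iv6 D46606) (iv5 D22328) (iv1 D10630) D10631 (iv6 F34818) D46588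
def n101133 : Q := act 0 n47108
theorem D101133 : act 0 n47108 = n101133 := rfl
theorem F155838 : act 1 n88004 = n101133 := d15_0 (iv0 D101133) (iv7 F155801) (iv2 F155415)
def n101134 : Q := act 1 n47108
theorem D101134 : act 1 n47108 = n101134 := rfl
theorem F155839 : act 1 n101134 = n88004 := d15_1 D101134 F155820 F155373
def n101135 : Q := act 4 n47108
theorem D101135 : act 4 n47108 = n101135 := rfl
theorem F155840 : act 3 n101135 = n81579 := d5_1 D101135 (iv4 F128629) (iv3 D83530) F155362 D47108
def n101136 : Q := act 5 n47108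
theorem D101136 : act 5 n47108 = n101136 := rfl
theorem F155841 : act 3 n101136 = n47110 := d6_1 D101136 (iv5 D47110) D47108
def n101137 : Q := act 6 n47108
theorem D101137 : act 6 n47108 = n101137 := rfl
theorem F155842 : act 3 n101137 = n47111 := d7_1 D101137 (iv6 D47111) D47108
def n101138 : Q := act 4 n47110
theorem D101138 : act 4 n47110 = n101138 := rfl
def n101139 : Q := act 6 n47110
theorem D101139 : act 6 n47110 = n101139 := rfl
theorem F155843 : act 0 n47440 = n101139 := d21_4 F70482 (iv1 F72699) (iv5 F75643) (iv6 F75646) (iv6 D101139) (iv5 D47110) (iv1 D22656) D22657 F35225 D22669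
def n101140 : Q := act 7 n47111
theorem D101140 : act 7 n47111 = n101140 := rfl
theorem F155844 : act 2 n101140 = n89304 := d4_1 D101140 (iv7 F155815) F155814
theorem F155845 : act 5 n101140 = n99701 := d13_1 D101140 F155833 F74536
def n101141 : Q := act 2 n47112
theorem D101141 : act 2 n47112 = n101141 := rfl
theorem F155846 : act 7 n47113 = n101141 := d15_2 (iv0 D47112) D47113 (iv2 D101141)
def n101142 : Q := act 3 n47112
theorem D101142 : act 3 n47112 = n101142 := rfl
def n101143 : Q := act 4 n47112
theorem D101143 : act 4 n47112 = n101143 := rfl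
def n101144 : Q := act 5 n47112
theorem D101144 : act 5 n47112 = n101144 := rfl
theorem F155847 : act 6 n101144 = n47309 := d21_3 D22657 D47112 D101144 (iv1 D47309) (iv6 D22738) D22737 D47303 F74536 (iv6 D47111) (iv1 D22656)
def n101145 : Q := act 6 n47112
theorem D101145 : act 6 n47112 = n101145 := rfl
def n101146 : Q := act 7 n47112
theorem D101146 : act 7 n47112 = n101146 := rfl
theorem F155848 : act 2 n101146 = n47113 := d4_1 D101146 F155846 (iv2 D101141)
def n101147 : Q := act 3 n47113
theorem D101147 : act 3 n47113 = n101147 := rfl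
def n101148 : Q := act 6 n47113
theorem D101148 : act 6 n47113 = n101148 := rfl
def n101149 : Q := act 0 n47114
theorem D101149 : act 0 n47114 = n101149 := rfl
def n101150 : Q := act 1 n47114
theorem D101150 : act 1 n47114 = n101150 := rfl
def n101151 : Q := act 3 n47114
theorem D101151 : act 3 n47114 = n101151 := rfl
theorem F155849 : act 6 n101151 = n47121 := d7_2 (iv6 F74351) D101151 (iv3 D47121)
def n101152 : Q := act 5 n47114
theorem D101152 : act 5 n47114 = n101152 := rfl
def n101153 : Q := act 7 n47114
theorem D101153 : act 7 n47114 = n101153 := rfl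
theorem F155850 : act 4 n101153 = n47115 := d11_1 D101153 (iv7 D47115) D47114
def n101154 : Q := act 6 n47115
theorem D101154 : act 6 n47115 = n101154 := rfl
theorem F155851 : act 7 n101154 = n47124 := d14_2 D47115 D101154 (iv6 D47124) (iv7 D22672) (iv6 F35225)
def n101155 : Q := act 0 n47116
theorem D101155 : act 0 n47116 = n101155 := rfl
def n101156 : Q := act 1 n47116
theorem D101156 : act 1 n47116 = n101156 := rfl
def n101157 : Q := act 5 n47116
theorem D101157 : act 5 n47116 = n101157 := rfl
theorem F155852 : act 3 n101157 = n88211 := d6_1 D101157 (iv5 F153807) F153806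
theorem F155853 : act 6 n101157 = n47477 := d12_2 D47116 D101157 (iv5 F74660) (iv6 F70481) (iv5 F70482)
def n101158 : Q := act 7 n47116
theorem D101158 : act 7 n47116 = n101158 := rfl
def n101159 : Q := act 0 n47117
theorem D101159 : act 0 n47117 = n101159 := rfl
theorem F155854 : act 1 n88017 = n101159 := d15_0 (iv0 D101159) (iv7 F153269) F153267
def n101160 : Q := act 1 n47117
theorem D101160 : act 1 n47117 = n101160 := rfl
theorem F155855 : act 1 n101160 = n88017 := d15_1 D101160 (iv7 F153810) F153808
def n101161 : Q := act 4 n47117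
theorem D101161 : act 4 n47117 = n101161 := rfl
def n101162 : Q := act 6 n47117
theorem D101162 : act 6 n47117 = n101162 := rfl
theorem F155856 : act 3 n101162 = n47118 := d7_1 D101162 (iv6 D47118) D47117
theorem F155857 : act 5 n101162 = n98649 := d12_1 D101162 (iv6 D98649) (iv5 D46113) D46114 (iv5 F74353)
def n101163 : Q := act 0 n47118
theorem D101163 : act 0 n47118 = n101163 := rfl
def n101164 : Q := act 1 n47118
theorem D101164 : act 1 n47118 = n101164 := rfl
def n101165 : Q := act 7 n47118
theorem D101165 : act 7 n47118 = n101165 := rfl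
theorem F155858 : act 5 n101165 = n98657 := d13_1 D101165 (iv7 D98657) (iv5 F74354)
def n101166 : Q := act 3 n47119
theorem D101166 : act 3 n47119 = n101166 := rfl
theorem F155859 : act 7 n101166 = n100577 := d8_2 (iv7 F74360) D101166 (iv3 D100577)
def n101167 : Q := act 5 n47119
theorem D101167 : act 5 n47119 = n101167 := rfl
theorem F155862 : act 4 n101167 = n99402 := d16_2 (iv4 F74359) D101167 (iv5 D99402) F73418 F68434 F66304 F73381 (iv7 F73395) (iv2 F73394)
def n101168 : Q := act 6 n47119
theorem D101168 : act 6 n47119 = n101168 := rfl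
theorem F155863 : act 2 n101168 = n100567 := d3_1 D101168 (iv6 D100567) F74358
theorem F155864 : act 4 n101168 = n99382 := d10_1 D101168 (iv6 D99382) (iv4 F74359)
def n101169 : Q := act 3 n47120
theorem D101169 : act 3 n47120 = n101169 := rfl
theorem F155865 : act 7 n101169 = n100565 := d8_2 F74357 D101169 (iv3 D100565)
def n101170 : Q := act 5 n47120
theorem D101170 : act 5 n47120 = n101170 := rfl
theorem F155867 : act 4 n101170 = n99399 := d9_1 D101170 (iv5 D99399) F73412 (iv5 F134028) F134027 (iv5 F73393) (iv4 F74359) D101167 F155862 (iv5 D99402) F73418 F68434 F66304 F73381 (iv4 F74355)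
def n101171 : Q := act 6 n47120
theorem D101171 : act 6 n47120 = n101171 := rfl
theorem F155869 : act 2 n101171 = n100579 := d3_1 D101171 (iv6 D100579) F74356
theorem F155870 : act 4 n101171 = n99384 := d10_1 D101171 (iv6 D99384) (iv4 F74355)
def n101172 : Q := act 0 n47121
theorem D101172 : act 0 n47121 = n101172 := rfl
def n101173 : Q := act 1 n47121
theorem D101173 : act 1 n47121 = n101173 := rfl
def n101174 : Q := act 2 n47121
theorem D101174 : act 2 n47121 = n101174 := rfl
def n101175 : Q := act 5 n47121
theorem D101175 : act 5 n47121 = n101175 := rfl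
theorem F155871 : act 3 n101175 = n47122 := d6_1 D101175 (iv5 D47122) D47121
def n101176 : Q := act 7 n47121
theorem D101176 : act 7 n47121 = n101176 := rfl
theorem F155872 : act 3 n101176 = n47123 := d8_1 D101176 (iv7 D47123) D47121
def n101177 : Q := act 0 n47122
theorem D101177 : act 0 n47122 = n101177 := rfl
theorem F155873 : act 5 n101177 = n99377 := d17_3 (iv1 D47120) D47122 D101177 (iv4 D99377) (iv5 D46467) (iv0 D22263) D22265 D46471 (iv4 F74355)
theorem F155874 : act 4 n101177 = n99409 := d18_1 D101177 (iv1 D99409) D99410 F153111 F74132 F73390 (iv4 F74359) (iv0 D47119) D47122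
def n101178 : Q := act 1 n47122
theorem D101178 : act 1 n47122 = n101178 := rfl
theorem F155878 : act 5 n101178 = n99379 := d17_7 (iv1 F74134) (iv5 D22570) (iv1 F62714) D10733 D22671 D47122 D101178 (iv0 F154666) (iv4 D100601)
theorem F155879 : act 4 n101178 = n99408 := d17_9 (iv1 F153104) F74183 (iv1 F73415) D99402 (iv4 F155862) (iv5 D101167) (iv0 D47119) D47122 D101178
def n101180 : Q := act 7 n47122
theorem D101180 : act 7 n47122 = n101180 := rfl
theorem F155882 : act 5 n101180 = n47123 := d13_1 D101180 (iv7 D47123) D47122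
theorem F155883 : act 1 n100555 = n101180 := d15_1 (iv0 F154630) (iv7 D101180) (iv2 F153271)
def n101181 : Q := act 6 n47123
theorem D101181 : act 6 n47123 = n101181 := rfl
theorem F155885 : act 4 n101181 = n47124 := d10_1 D101181 (iv6 D47124) (iv4 F74362)
def n101182 : Q := act 0 n47124
theorem D101182 : act 0 n47124 = n101182 := rfl
def n101183 : Q := act 1 n47124
theorem D101183 : act 1 n47124 = n101183 := rfl
def n101184 : Q := act 4 n47125
theorem D101184 : act 4 n47125 = n101184 := rfl
theorem F155886 : act 2 n101184 = n60176 := d1_1 D101184 F94733 (iv2 F74365)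
theorem F155887 : act 3 n101184 = n60262 := d5_1 D101184 F94815 F92119 (iv4 F109453) F109452
theorem F155888 : act 7 n101184 = n60252 := d11_2 (iv7 F74366) D101184 F94803
theorem F155889 : act 0 n101184 = n60251 := d17_0 F114724 F108875 F94822 F62313 F62312 (iv0 D40368) (iv5 F35261) (iv0 F74367) D101184
theorem F155890 : act 1 n101184 = n60250 := d18_6 (iv1 F65383) (iv4 F65381) F65138 F65135 D47125 D101184 (iv4 F136433) F136432 F72632
def n101185 : Q := act 6 n47125
theorem D101185 : act 6 n47125 = n101185 := rfl
theorem F155891 : act 2 n101185 = n81865 := d3_1 D101185 (iv6 D81865) (iv2 F74365)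
def n101186 : Q := act 0 n47126
theorem D101186 : act 0 n47126 = n101186 := rfl
def n101187 : Q := act 1 n47126
theorem D101187 : act 1 n47126 = n101187 := rfl
def n101188 : Q := act 5 n47126
theorem D101188 : act 5 n47126 = n101188 := rfl
theorem F155893 : act 2 n101188 = n87959 := d2_1 D101188 (iv5 D87959) (iv2 F74369)
def n101189 : Q := act 7 n47126
theorem D101189 : act 7 n47126 = n101189 := rfl
theorem F155894 : act 2 n101189 = n87960 := d4_1 D101189 (iv7 D87960) (iv2 F74369)
theorem F155898 : act 1 n101189 = n87957 := d15_0 (iv0 D87957) D87960 (iv2 F155894)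
def n101190 : Q := act 5 n47127
theorem D101190 : act 5 n47127 = n101190 := rfl
theorem F155899 : act 2 n101190 = n47132 := d2_1 D101190 (iv5 D47132) (iv2 F74370)
theorem F155900 : act 3 n101190 = n88036 := d6_1 D101190 (iv5 D88036) (iv3 F74371)
def n101191 : Q := act 6 n47128
theorem D101191 : act 6 n47128 = n101191 := rfl
theorem F155901 : act 4 n101191 = n47129 := d10_1 D101191 (iv6 D47129) D47128
theorem F155902 : act 0 n101191 = n100090 := d20_7 (iv4 F127871) (iv1 F127874) (iv4 F155082) D47042 (iv1 F155086) (iv3 F74375) (iv4 F155901) (iv4 D100090) (iv3 D46728) (iv1 F73295)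
def n101192 : Q := act 0 n47129
theorem D101192 : act 0 n47129 = n101192 := rfl
def n101193 : Q := act 1 n47129
theorem D101193 : act 1 n47129 = n101193 := rfl
def n101194 : Q := act 5 n47129
theorem D101194 : act 5 n47129 = n101194 := rfl
theorem F155903 : act 3 n101194 = n47136 := d6_1 D101194 (iv5 D47136) (iv3 F74375)
theorem F155904 : act 6 n101194 = n47132 := d12_2 D47129 D101194 (iv5 D47132) (iv6 D22676) D22675
def n101195 : Q := act 7 n47129
theorem D101195 : act 7 n47129 = n101195 := rfl
theorem F155905 : act 3 n101195 = n47137 := d8_1 D101195 (iv7 D47137) (iv3 F74375)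
theorem F155906 : act 6 n101195 = n87982 := d14_1 D101195 (iv7 D87982) (iv6 D41076) (iv7 F35236) D47129
def n101196 : Q := act 4 n47130
theorem D101196 : act 4 n47130 = n101196 := rfl
theorem F155907 : act 2 n101196 = n92578 := d1_1 D101196 F143943 F155688
theorem F155908 : act 3 n101196 = n87985 := d5_1 D101196 (iv4 D87985) (iv3 F153142) F153143 F153145
theorem F155909 : act 0 n92834 = n101196 := d20_1 F143201 (iv4 D101196) (iv3 F153145) F153144 F73441 F34776 F66042 D20074 D42516 D90789
def n101197 : Q := act 5 n47130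
theorem D101197 : act 5 n47130 = n101197 := rfl
def n101198 : Q := act 6 n47130
theorem D101198 : act 6 n47130 = n101198 := rfl
def n101199 : Q := act 3 n47131
theorem D101199 : act 3 n47131 = n101199 := rfl
theorem F155910 : act 4 n101199 = n90732 := d5_2 F138871 D101199 F139663 (iv4 D90287) D90286
def n101200 : Q := act 5 n47131
theorem D101200 : act 5 n47131 = n101200 := rfl
def n101201 : Q := act 6 n47131
theorem D101201 : act 6 n47131 = n101201 := rfl
def n101202 : Q := act 0 n47132
theorem D101202 : act 0 n47132 = n101202 := rfl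
def n101203 : Q := act 1 n47132
theorem D101203 : act 1 n47132 = n101203 := rfl
def n101204 : Q := act 4 n47132
theorem D101204 : act 4 n47132 = n101204 := rfl
theorem F155911 : act 0 n101204 = n100190 := d20_7 (iv4 F152947) (iv1 F152949) F73884 (iv3 F69149) F69152 (iv3 F74376) D101204 (iv4 D100190) (iv3 D46760) (iv1 F73315)
def n101205 : Q := act 0 n47133
theorem D101205 : act 0 n47133 = n101205 := rfl
def n101206 : Q := act 1 n47133
theorem D101206 : act 1 n47133 = n101206 := rfl
theorem F155912 : act 1 n101206 = n86489 := d15_1 D101206 (iv7 D86489) (iv2 F74377)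
def n101208 : Q := act 7 n47133
theorem D101208 : act 7 n47133 = n101208 := rfl
theorem F155915 : act 2 n101208 = n86489 := d4_1 D101208 (iv7 D86489) (iv2 F74377)
theorem F155916 : act 4 n101208 = n47137 := d11_1 D101208 (iv7 D47137) (iv4 F74378)
theorem F155917 : act 6 n101208 = n86524 := d14_1 D101208 (iv7 D86524) (iv6 D40098) (iv7 F35240) D47133
theorem F155918 : act 1 n86489 = n101205 := d15_0 (iv0 D101205) D101208 F155915
theorem F155919 : act 1 n86487 = n101208 := d15_1 D86487 (iv7 D101208) F74377
theorem F155920 : act 1 n101208 = n86486 := d15_0 (iv0 D86486) D86489 (iv2 F155915)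
def n101209 : Q := act 4 n47134
theorem D101209 : act 4 n47134 = n101209 := rfl
theorem F155921 : act 3 n80680 = n101209 := d20_5 (iv4 D36709) (iv1 F59737) (iv4 F28872) (iv3 F57754) D80680 (iv4 D101209) (iv1 F74384) (iv4 F132658) F132657 (iv1 F117585)
def n101210 : Q := act 5 n47134
theorem D101210 : act 5 n47134 = n101210 := rfl
def n101211 : Q := act 6 n47134
theorem D101211 : act 6 n47134 = n101211 := rfl
theorem F155922 : act 5 n101211 = n98099 := d21_6 (iv5 D4911) D4909 D10736 D22678 D47134 D101211 (iv1 D98099) (iv5 D45807) (iv6 D21902) F16641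
def n101212 : Q := act 0 n47136
theorem D101212 : act 0 n47136 = n101212 := rfl
def n101213 : Q := act 1 n47136
theorem D101213 : act 1 n47136 = n101213 := rfl
theorem F155924 : act 5 n88094 = n101213 := d21_6 (iv5 D19058) (iv1 F14357) (iv5 F14358) D19352 D41133 D88094 (iv1 D101213) (iv5 D47136) (iv6 D22678) (iv1 F30587)
def n101214 : Q := act 4 n47136
theorem D101214 : act 4 n47136 = n101214 := rfl
theorem F155925 : act 2 n101214 = n88063 := d1_1 D101214 (iv4 D88063) (iv2 F74380)
theorem F155926 : act 6 n101214 = n47139 := d10_2 (iv6 F74381) D101214 (iv4 D47139)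
def n101215 : Q := act 7 n47136
theorem D101215 : act 7 n47136 = n101215 := rfl
theorem F155927 : act 2 n101215 = n88064 := d4_1 D101215 (iv7 D88064) (iv2 F74380)
theorem F155928 : act 5 n101215 = n47137 := d13_1 D101215 (iv7 D47137) D47136
theorem F155930 : act 1 n88062 = n101215 := d15_1 D88062 (iv7 D101215) F74380
theorem F155931 : act 1 n101215 = n88061 := d15_0 (iv0 D88061) D88064 (iv2 F155927)
def n101216 : Q := act 4 n47138
theorem D101216 : act 4 n47138 = n101216 := rfl
theorem F155932 : act 2 n101216 = n87924 := d1_1 D101216 F134920 F74387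
theorem F155933 : act 7 n101216 = n87925 := d11_2 (iv7 F74389) D101216 F134923
theorem F155934 : act 5 n101216 = n93527 := d16_1 D101216 (iv4 D93527) (iv5 D43736) (iv4 D20716) F15542 (iv4 F33012) D43980 F69150 F74387
theorem F155935 : act 0 n101216 = n87928 := d18_2 D47138 D101216 F134924 F62144 F30962 (iv0 F62494) D20655 (iv0 F62730) D22681
theorem F155936 : act 1 n101216 = n48197 := d18_6 (iv1 F133443) (iv4 D43984) F66178 (iv4 F134200) F134201 D101216 (iv4 D48197) D48196 (iv5 F133440)
def n101217 : Q := act 6 n47138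
theorem D101217 : act 6 n47138 = n101217 := rfl
theorem F155937 : act 2 n101217 = n88065 := d3_1 D101217 (iv6 D88065) F74387
def n101218 : Q := act 3 n47139
theorem D101218 : act 3 n47139 = n101218 := rfl
def n101219 : Q := act 5 n47139
theorem D101219 : act 5 n47139 = n101219 := rfl
theorem F155939 : act 4 n101219 = n93465 := d16_2 D47139 D101219 F144194 (iv4 F73354) F73355 F34733 (iv5 F62344) (iv7 D41126) (iv2 F35243)
def n101220 : Q := act 2 n47140
theorem D101220 : act 2 n47140 = n101220 := rfl
theorem F155940 : act 7 n47141 = n101220 := d15_2 (iv0 D47140) D47141 (iv2 D101220)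
def n101221 : Q := act 3 n47140
theorem D101221 : act 3 n47140 = n101221 := rfl
def n101222 : Q := act 4 n47140
theorem D101222 : act 4 n47140 = n101222 := rfl
def n101223 : Q := act 5 n47140
theorem D101223 : act 5 n47140 = n101223 := rfl
def n101224 : Q := act 6 n47140
theorem D101224 : act 6 n47140 = n101224 := rfl
theorem F155941 : act 5 n101224 = n86972 := d21_6 (iv5 D9081) (iv1 F7333) D10738 D22683 D47140 D101224 (iv1 D86972) (iv5 D40379) (iv6 D19081) (iv1 F14156)
def n101225 : Q := act 7 n47140
theorem D101225 : act 7 n47140 = n101225 := rfl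
theorem F155942 : act 2 n101225 = n47141 := d4_1 D101225 F155940 (iv2 D101220)
def n101226 : Q := act 3 n47141
theorem D101226 : act 3 n47141 = n101226 := rfl
def n101227 : Q := act 4 n47141
theorem D101227 : act 4 n47141 = n101227 := rfl
def n101228 : Q := act 5 n47141
theorem D101228 : act 5 n47141 = n101228 := rfl
def n101229 : Q := act 6 n47141
theorem D101229 : act 6 n47141 = n101229 := rfl
def n101230 : Q := act 0 n47142
theorem D101230 : act 0 n47142 = n101230 := rfl
def n101231 : Q := act 1 n47142
theorem D101231 : act 1 n47142 = n101231 := rfl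
theorem F155943 : act 1 n101231 = n47182 := d15_1 D101231 (iv7 D47182) (iv2 F74392)
theorem F155944 : act 5 n89220 = n101231 := d21_6 F14358 F14356 D9226 D19624 D41688 D89220 (iv1 D101231) (iv5 D47142) (iv6 D22683) F17266
def n101232 : Q := act 4 n47142
theorem D101232 : act 4 n47142 = n101232 := rfl
theorem F155945 : act 2 n101232 = n47181 := d1_1 D101232 (iv4 D47181) (iv2 F74392)
theorem F155946 : act 6 n101232 = n47150 := d10_2 (iv6 F74393) D101232 (iv4 D47150)
def n101233 : Q := act 7 n47142
theorem D101233 : act 7 n47142 = n101233 := rfl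
theorem F155947 : act 2 n101233 = n47182 := d4_1 D101233 (iv7 D47182) (iv2 F74392)
theorem F155948 : act 5 n101233 = n47143 := d13_1 D101233 (iv7 D47143) D47142
theorem F155949 : act 1 n47182 = n101230 := d15_0 (iv0 D101230) D101233 F155947
theorem F155950 : act 1 n47180 = n101233 := d15_1 D47180 (iv7 D101233) F74392
theorem F155951 : act 1 n101233 = n47179 := d15_0 (iv0 D47179) D47182 (iv2 F155947)
def n101234 : Q := act 0 n47144
theorem D101234 : act 0 n47144 = n101234 := rfl
theorem F155952 : act 4 n101234 = n47499 := d20_0 (iv1 F74674) (iv4 F73663) F73662 (iv1 F73642) F65446 F36431 F66797 F35258 D47144 D101234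
theorem F155953 : act 1 n47196 = n101234 := d15_0 (iv0 D101234) F74401 D47196
def n101235 : Q := act 2 n47144
theorem D101235 : act 2 n47144 = n101235 := rfl
theorem F155954 : act 3 n101235 = n47185 := d0_2 D47144 D101235 (iv2 D47185) (iv3 D22699) (iv2 F66809)
theorem F155955 : act 4 n101235 = n47614 := d1_2 (iv4 F74400) D101235 (iv2 D47614)
theorem F155956 : act 7 n101235 = n47196 := d4_2 (iv7 F74401) D101235 (iv2 D47196)
theorem F155957 : act 1 n101235 = n47194 := d15_0 (iv0 D47194) (iv7 F74401) D101235
theorem F155958 : act 1 n47195 = n101235 := d15_1 D47195 F155956 (iv2 D47196)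
def n101236 : Q := act 5 n47144
theorem D101236 : act 5 n47144 = n101236 := rfl
theorem F155959 : act 3 n101236 = n47145 := d6_1 D101236 (iv5 D47145) D47144
theorem F155960 : act 7 n101236 = n47197 := d13_2 (iv7 F74401) D101236 (iv5 D47197)
def n101237 : Q := act 1 n47145
theorem D101237 : act 1 n47145 = n101237 := rfl
theorem F155962 : act 7 n101237 = n47188 := d15_2 (iv0 F74404) D101237 (iv2 F74472)
theorem F155963 : act 5 n101237 = n89493 := d17_7 (iv1 F72336) F74866 (iv1 D47609) (iv5 D22905) F35258 D47145 D101237 F137175 F72337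
theorem F155964 : act 2 n47189 = n101237 := d2_3 F155963 F137179 F74476
def n101238 : Q := act 4 n47145
theorem D101238 : act 4 n47145 = n101238 := rfl
theorem F155965 : act 2 n101238 = n47190 := d1_1 D101238 (iv4 D47190) (iv2 F74402)
theorem F155966 : act 7 n101238 = n47199 := d11_2 (iv7 F74403) D101238 (iv4 D47199)
def n101239 : Q := act 6 n47145
theorem D101239 : act 6 n47145 = n101239 := rfl
theorem F155967 : act 2 n101239 = n47191 := d3_1 D101239 (iv6 D47191) (iv2 F74402)
theorem F155968 : act 5 n101239 = n89251 := d12_1 D101239 (iv6 D89251) (iv5 F67005) F67003 D47145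
def n101240 : Q := act 1 n47146
theorem D101240 : act 1 n47146 = n101240 := rfl
def n101241 : Q := act 2 n47146
theorem D101241 : act 2 n47146 = n101241 := rfl
theorem F155969 : act 3 n101241 = n47196 := d0_2 D47146 D101241 (iv2 D47196) (iv3 D22704) (iv2 F66862)
theorem F155970 : act 4 n101241 = n88513 := d1_2 (iv4 F74405) D101241 (iv2 F135525)
theorem F155971 : act 7 n101241 = n47185 := d4_2 (iv7 F74406) D101241 (iv2 D47185)
theorem F155972 : act 1 n101241 = n47183 := d15_0 (iv0 D47183) (iv7 F74406) D101241
theorem F155973 : act 1 n101240 = n47185 := d15_1 D101240 (iv7 F155971) (iv2 D101241)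
theorem F155974 : act 1 n47184 = n101241 := d15_1 D47184 F155971 (iv2 D47185)
def n101242 : Q := act 5 n47146
theorem D101242 : act 5 n47146 = n101242 := rfl
theorem F155975 : act 3 n101242 = n47147 := d6_1 D101242 (iv5 D47147) D47146
theorem F155976 : act 7 n101242 = n47186 := d13_2 (iv7 F74406) D101242 (iv5 D47186)
def n101243 : Q := act 4 n47147
theorem D101243 : act 4 n47147 = n101243 := rfl
theorem F155977 : act 2 n101243 = n47199 := d1_1 D101243 (iv4 D47199) (iv2 F74407)
theorem F155978 : act 7 n101243 = n47190 := d11_2 (iv7 F74408) D101243 (iv4 D47190)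
def n101244 : Q := act 6 n47147
theorem D101244 : act 6 n47147 = n101244 := rfl
theorem F155979 : act 2 n101244 = n47200 := d3_1 D101244 (iv6 D47200) (iv2 F74407)
def n101245 : Q := act 3 n47148
theorem D101245 : act 3 n47148 = n101245 := rfl
theorem F155981 : act 7 n101245 = n47204 := d8_2 (iv7 F74415) D101245 (iv3 D47204)
def n101246 : Q := act 4 n47148
theorem D101246 : act 4 n47148 = n101246 := rfl
theorem F155982 : act 2 n101246 = n47202 := d1_1 D101246 (iv4 D47202) F74414
theorem F155983 : act 7 n101246 = n47205 := d11_2 (iv7 F74415) D101246 (iv4 D47205)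
def n101247 : Q := act 6 n47148
theorem D101247 : act 6 n47148 = n101247 := rfl
theorem F155984 : act 2 n101247 = n47203 := d3_1 D101247 (iv6 D47203) F74414
theorem F155985 : act 5 n101247 = n91275 := d12_1 D101247 (iv6 D91275) F69666 (iv6 F137183) F137182
def n101248 : Q := act 3 n47149
theorem D101248 : act 3 n47149 = n101248 := rfl
theorem F155986 : act 5 n101248 = n86979 := d6_2 (iv5 F74411) D101248 F133494
theorem F155987 : act 7 n101248 = n47201 := d8_2 F74413 D101248 (iv3 D47201)
def n101249 : Q := act 4 n47149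
theorem D101249 : act 4 n47149 = n101249 := rfl
theorem F155988 : act 2 n101249 = n47205 := d1_1 D101249 (iv4 D47205) F74412
theorem F155989 : act 7 n101249 = n47202 := d11_2 F74413 D101249 (iv4 D47202)
def n101250 : Q := act 6 n47149
theorem D101250 : act 6 n47149 = n101250 := rfl
theorem F155990 : act 2 n101250 = n47206 := d3_1 D101250 (iv6 D47206) F74412
theorem F155991 : act 5 n101250 = n86983 := d12_1 D101250 (iv6 D86983) (iv5 D40384) D40385 (iv5 F74411)
def n101251 : Q := act 0 n47150
theorem D101251 : act 0 n47150 = n101251 := rfl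
theorem F155992 : act 4 n101251 = n87745 := d18_3 (iv1 D47149) D47150 D101251 (iv5 F145022) (iv4 D94103) (iv0 D43993) (iv4 F69193) F69218 (iv5 F74411)
theorem F155993 : act 2 n47207 = n101251 := d1_3 F155992 (iv2 F145062) F145066
theorem F155994 : act 7 n47208 = n101251 := d11_0 F155992 (iv7 F145069) (iv4 F145072)
theorem F155995 : act 1 n47211 = n101251 := d18_6 (iv1 F66875) (iv4 D23365) (iv1 F17838) (iv4 F17280) (iv5 F35286) (iv4 F74483) F155992 (iv0 D87745) (iv5 D40885)
theorem F155996 : act 3 n99951 = n87745 := d20_5 D46611 (iv1 F73789) (iv4 D46685) (iv3 F73787) D99951 (iv4 F155992) (iv1 F155995) F74483 F35285 (iv1 F34840)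
def n101252 : Q := act 1 n47150
theorem D101252 : act 1 n47150 = n101252 := rfl
theorem F155997 : act 1 n101252 = n47211 := d15_1 D101252 (iv7 D47211) (iv2 F74417)
theorem F155998 : act 7 n101252 = n47207 := d15_2 (iv0 D101251) D101252 F155993
theorem F155999 : act 2 n47208 = n101252 := d4_3 F155998 F155993 (iv7 F155994)
theorem F156000 : act 4 n87017 = n101252 := d11_3 F155998 (iv4 F145066) F145063
def n101253 : Q := act 3 n47150
theorem D101253 : act 3 n47150 = n101253 := rfl
def n101254 : Q := act 5 n47150
theorem D101254 : act 5 n47150 = n101254 := rfl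
theorem F156001 : act 2 n101254 = n47210 := d2_1 D101254 (iv5 D47210) (iv2 F74417)
theorem F156002 : act 4 n101254 = n48292 := d16_2 D47150 D101254 F75900 F36540 F17845 (iv4 F17280) (iv5 F35286) (iv7 D22710) (iv2 F35252)
theorem F156003 : act 7 n48290 = n101254 := d11_0 F156002 (iv7 D48292) D48290
def n101255 : Q := act 7 n47150
theorem D101255 : act 7 n47150 = n101255 := rfl
theorem F156004 : act 2 n101255 = n47211 := d4_1 D101255 (iv7 D47211) (iv2 F74417)
theorem F156005 : act 4 n101255 = n47151 := d11_1 D101255 (iv7 D47151) D47150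
theorem F156006 : act 5 n101255 = n48290 := d13_1 D101255 F156003 (iv5 D101254)
theorem F156007 : act 1 n47208 = n101255 := d15_1 D47208 (iv7 D101255) F74417
theorem F156008 : act 1 n101255 = n47207 := d15_1 F156007 (iv7 F155998) (iv2 F155999)
def n101256 : Q := act 6 n47151
theorem D101256 : act 6 n47151 = n101256 := rfl
theorem F156009 : act 2 n101256 = n47212 := d3_1 D101256 (iv6 D47212) (iv2 F74418)
theorem F156010 : act 5 n101256 = n87716 := d12_1 D101256 (iv6 D87716) F61960 (iv6 F35255) (iv5 F74419)
def n101257 : Q := act 1 n47152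
theorem D101257 : act 1 n47152 = n101257 := rfl
theorem F156011 : act 1 n101257 = n56646 := d15_1 D101257 F89585 (iv2 F74422)
theorem F156012 : act 7 n101257 = n81846 := d15_2 (iv0 F74424) D101257 (iv2 F125803)
theorem F156013 : act 4 n101257 = n88936 := d17_9 (iv1 F136500) (iv5 D45991) (iv1 D21975) D21977 D45997 F72576 D55626 (iv5 F87992) D101257
theorem F156014 : act 5 n101257 = n70291 := d18_9 F106735 (iv4 F105083) D70048 (iv4 F106436) (iv5 D60253) (iv4 F74316) F74317 D47152 D101257
theorem F156015 : act 2 n81847 = n101257 := d2_3 F156014 F106733 (iv5 F125807)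
def n101258 : Q := act 6 n47152
theorem D101258 : act 6 n47152 = n101258 := rfl
theorem F156016 : act 2 n101258 = n81849 := d3_1 D101258 (iv6 D81849) (iv2 F74422)
theorem F156017 : act 4 n101258 = n47153 := d10_1 D101258 (iv6 D47153) D47152
theorem F156018 : act 0 n101258 = n98514 := d20_7 (iv4 F113383) (iv1 F113386) D83785 (iv3 F128818) (iv1 D47155) (iv3 F74426) (iv4 F156017) (iv4 D98514) (iv3 D46065) (iv1 F64191)
def n101259 : Q := act 0 n47153
theorem D101259 : act 0 n47153 = n101259 := rfl
def n101260 : Q := act 1 n47153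
theorem D101260 : act 1 n47153 = n101260 := rfl
theorem F156019 : act 1 n101260 = n81870 := d15_1 D101260 (iv7 D81870) (iv2 F74425)
def n101261 : Q := act 5 n47153
theorem D101261 : act 5 n47153 = n101261 := rfl
theorem F156020 : act 2 n101261 = n81869 := d2_1 D101261 (iv5 D81869) (iv2 F74425)
theorem F156021 : act 3 n101261 = n47156 := d6_1 D101261 (iv5 D47156) (iv3 F74426)
theorem F156022 : act 6 n101261 = n86951 := d12_2 D47153 D101261 (iv5 D86951) (iv6 D40370) (iv5 F35261)
def n101262 : Q := act 7 n47153
theorem D101262 : act 7 n47153 = n101262 := rfl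
theorem F156023 : act 2 n101262 = n81870 := d4_1 D101262 (iv7 D81870) (iv2 F74425)
theorem F156024 : act 3 n101262 = n47157 := d8_1 D101262 (iv7 D47157) (iv3 F74426)
theorem F156025 : act 6 n101262 = n85827 := d14_1 D101262 F131683 (iv6 D41128) (iv7 F35262) D47153
theorem F156026 : act 1 n81870 = n101259 := d15_0 (iv0 D101259) D101262 F156023
theorem F156027 : act 1 n81868 = n101262 := d15_1 D81868 (iv7 D101262) F74425
theorem F156028 : act 1 n101262 = n81867 := d15_0 (iv0 D81867) D81870 (iv2 F156023)
def n101263 : Q := act 2 n47154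
theorem D101263 : act 2 n47154 = n101263 := rfl
theorem F156029 : act 7 n47155 = n101263 := d15_2 (iv0 D47154) D47155 (iv2 D101263)
def n101264 : Q := act 3 n47154
theorem D101264 : act 3 n47154 = n101264 := rfl
def n101265 : Q := act 4 n47154
theorem D101265 : act 4 n47154 = n101265 := rfl
def n101266 : Q := act 5 n47154
theorem D101266 : act 5 n47154 = n101266 := rfl
def n101267 : Q := act 6 n47154
theorem D101267 : act 6 n47154 = n101267 := rfl
theorem F156030 : act 5 n101267 = n88062 := d21_6 (iv5 D8939) D8938 (iv5 F17270) D22689 D47154 D101267 (iv1 D88062) (iv5 D41111) (iv6 D19345) F14157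
def n101268 : Q := act 7 n47154
theorem D101268 : act 7 n47154 = n101268 := rfl
theorem F156031 : act 2 n101268 = n47155 := d4_1 D101268 F156029 (iv2 D101263)
def n101269 : Q := act 4 n47155
theorem D101269 : act 4 n47155 = n101269 := rfl
def n101270 : Q := act 5 n47155
theorem D101270 : act 5 n47155 = n101270 := rfl
def n101271 : Q := act 6 n47155
theorem D101271 : act 6 n47155 = n101271 := rfl
def n101272 : Q := act 0 n47156
theorem D101272 : act 0 n47156 = n101272 := rfl
def n101273 : Q := act 1 n47156
theorem D101273 : act 1 n47156 = n101273 := rfl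
theorem F156032 : act 1 n101273 = n88103 := d15_1 D101273 (iv7 D88103) (iv2 F74428)
theorem F156033 : act 5 n99882 = n101273 := d21_6 (iv5 D9055) F7324 D10643 D22358 D46645 D99882 (iv1 D101273) (iv5 D47156) (iv6 D22689) (iv1 F17272)
theorem F156034 : act 2 n101273 = n88101 := d2_1 F156033 (iv5 F135083) (iv2 F155829)
theorem F156035 : act 3 n101273 = n47233 := d6_1 F156033 (iv5 F74496) F155371
def n101274 : Q := act 4 n47156
theorem D101274 : act 4 n47156 = n101274 := rfl
theorem F156036 : act 2 n101274 = n88102 := d1_1 D101274 (iv4 D88102) (iv2 F74428)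
theorem F156037 : act 6 n101274 = n86953 := d10_2 (iv6 F74429) D101274 (iv4 D86953)
def n101275 : Q := act 7 n47156
theorem D101275 : act 7 n47156 = n101275 := rfl
theorem F156038 : act 2 n101275 = n88103 := d4_1 D101275 (iv7 D88103) (iv2 F74428)
theorem F156039 : act 5 n101275 = n47157 := d13_1 D101275 (iv7 D47157) D47156
theorem F156040 : act 1 n88103 = n101272 := d15_0 (iv0 D101272) D101275 F156038
theorem F156041 : act 1 n88101 = n101275 := d15_1 D88101 (iv7 D101275) F74428
theorem F156042 : act 7 n101272 = n88101 := d15_2 F156032 F156040 (iv2 F156034)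
theorem F156043 : act 2 n101272 = n88100 := d15_3 (iv0 D88100) D88101 (iv7 F156042)
theorem F156044 : act 7 n88100 = n101273 := d4_2 (iv7 F156042) F156043 F156034
theorem F156045 : act 3 n89187 = n88100 := d8_3 F156044 F156035 F155796
theorem F156046 : act 1 n101275 = n88100 := d15_1 F156041 F156044 F156034
def n101277 : Q := act 1 n47158
theorem D101277 : act 1 n47158 = n101277 := rfl
def n101278 : Q := act 5 n47158
theorem D101278 : act 5 n47158 = n101278 := rfl
theorem F156048 : act 2 n101278 = n86604 := d2_1 D101278 (iv5 D86604) (iv2 F74435)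
theorem F156049 : act 6 n101278 = n56920 := d12_2 D47158 D101278 (iv5 D56920) (iv6 D27318) (iv5 F35264)
def n101279 : Q := act 7 n47158
theorem D101279 : act 7 n47158 = n101279 := rfl
theorem F156050 : act 2 n101279 = n86605 := d4_1 D101279 (iv7 D86605) (iv2 F74435)
theorem F156052 : act 6 n101279 = n86609 := d14_1 D101279 (iv7 D86609) (iv6 D40149) F35268 D47158
theorem F156054 : act 1 n86603 = n101279 := d15_1 D86603 (iv7 D101279) F74435
theorem F156055 : act 1 n101279 = n86602 := d15_0 (iv0 D86602) D86605 (iv2 F156050)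
def n101280 : Q := act 6 n47159
theorem D101280 : act 6 n47159 = n101280 := rfl
theorem F156056 : act 3 n101280 = n47160 := d7_1 D101280 (iv6 D47160) D47159
def n101281 : Q := act 0 n47160
theorem D101281 : act 0 n47160 = n101281 := rfl
def n101282 : Q := act 1 n47160
theorem D101282 : act 1 n47160 = n101282 := rfl
theorem F156057 : act 1 n101282 = n86609 := d15_1 D101282 (iv7 D86609) (iv2 F74440)
def n101284 : Q := act 7 n47160
theorem D101284 : act 7 n47160 = n101284 := rfl
theorem F156060 : act 2 n101284 = n86609 := d4_1 D101284 (iv7 D86609) (iv2 F74440)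
theorem F156061 : act 4 n101284 = n86941 := d11_1 D101284 (iv7 D86941) (iv4 F74441)
theorem F156062 : act 6 n101284 = n86605 := d14_1 D101284 (iv7 D86605) (iv6 D40148) (iv7 F35270) D47160
theorem F156063 : act 1 n86609 = n101281 := d15_0 (iv0 D101281) D101284 F156060
theorem F156064 : act 1 n86607 = n101284 := d15_1 D86607 (iv7 D101284) F74440
def n101285 : Q := act 6 n47161
theorem D101285 : act 6 n47161 = n101285 := rfl
def n101286 : Q := act 3 n47162
theorem D101286 : act 3 n47162 = n101286 := rfl
theorem F156067 : act 2 n101286 = n100061 := d0_1 D101286 F153996 (iv2 F121674) F90633 (iv2 F116279)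
theorem F156068 : act 4 n101286 = n97108 := d5_2 F88660 D101286 F149842 (iv4 F151355) F151356
theorem F156069 : act 5 n101286 = n87536 := d6_2 F123670 D101286 F134436
theorem F156070 : act 7 n101286 = n88105 := d8_2 F116278 D101286 (iv3 D88105)
def n101287 : Q := act 6 n47162
theorem D101287 : act 6 n47162 = n101287 := rfl
theorem F156071 : act 2 n101287 = n88104 := d3_1 D101287 (iv6 D88104) (iv2 F116279)
def n101288 : Q := act 6 n47163
theorem D101288 : act 6 n47163 = n101288 := rfl
theorem F156072 : act 2 n101288 = n47164 := d3_1 D101288 (iv6 D47164) D47163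
theorem F156073 : act 3 n101288 = n86583 := d7_1 D101288 (iv6 D86583) (iv3 F74443)
theorem F156074 : act 4 n101288 = n47265 := d10_1 D101288 (iv6 D47265) (iv4 F74444)
def n101289 : Q := act 0 n47164
theorem D101289 : act 0 n47164 = n101289 := rfl
def n101290 : Q := act 1 n47164
theorem D101290 : act 1 n47164 = n101290 := rfl
def n101291 : Q := act 5 n47164
theorem D101291 : act 5 n47164 = n101291 := rfl
theorem F156075 : act 3 n101291 = n47167 := d6_1 D101291 (iv5 D47167) (iv3 F74451)
theorem F156076 : act 6 n101291 = n86461 := d12_2 D47164 D101291 (iv5 D86461) (iv6 D40048) (iv5 F35275)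
def n101292 : Q := act 7 n47164
theorem D101292 : act 7 n47164 = n101292 := rfl
theorem F156077 : act 3 n101292 = n47168 := d8_1 D101292 (iv7 D47168) (iv3 F74451)
theorem F156078 : act 4 n101292 = n47269 := d11_1 D101292 (iv7 D47269) (iv4 F74452)
def n101293 : Q := act 2 n47165
theorem D101293 : act 2 n47165 = n101293 := rfl
theorem F156080 : act 7 n47166 = n101293 := d15_2 (iv0 D47165) D47166 (iv2 D101293)
def n101294 : Q := act 3 n47165
theorem D101294 : act 3 n47165 = n101294 := rfl
def n101295 : Q := act 4 n47165
theorem D101295 : act 4 n47165 = n101295 := rfl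
def n101296 : Q := act 5 n47165
theorem D101296 : act 5 n47165 = n101296 := rfl
def n101297 : Q := act 6 n47165
theorem D101297 : act 6 n47165 = n101297 := rfl
def n101298 : Q := act 7 n47165
theorem D101298 : act 7 n47165 = n101298 := rfl
theorem F156081 : act 2 n101298 = n47166 := d4_1 D101298 F156080 (iv2 D101293)
def n101299 : Q := act 3 n47166
theorem D101299 : act 3 n47166 = n101299 := rfl
def n101300 : Q := act 4 n47166
theorem D101300 : act 4 n47166 = n101300 := rfl
def n101301 : Q := act 5 n47166
theorem D101301 : act 5 n47166 = n101301 := rfl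
def n101302 : Q := act 6 n47166
theorem D101302 : act 6 n47166 = n101302 := rfl
def n101303 : Q := act 0 n47167
theorem D101303 : act 0 n47167 = n101303 := rfl
def n101304 : Q := act 1 n47167
theorem D101304 : act 1 n47167 = n101304 := rfl
def n101305 : Q := act 4 n47167
theorem D101305 : act 4 n47167 = n101305 := rfl
def n101306 : Q := act 7 n47167
theorem D101306 : act 7 n47167 = n101306 := rfl
theorem F156086 : act 5 n101306 = n47168 := d13_1 D101306 (iv7 D47168) D47167
theorem F156088 : act 1 n86621 = n101306 := d15_1 D86621 (iv7 D101306) F74454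
def n101309 : Q := act 3 n47169
theorem D101309 : act 3 n47169 = n101309 := rfl
theorem F156092 : act 7 n101309 = n47175 := d8_2 F74462 D101309 (iv3 D47175)
def n101310 : Q := act 4 n47169
theorem D101310 : act 4 n47169 = n101310 := rfl
theorem F156093 : act 2 n101310 = n47171 := d1_1 D101310 (iv4 D47171) D47169
theorem F156094 : act 7 n101310 = n47176 := d11_2 F74462 D101310 (iv4 D47176)
def n101311 : Q := act 5 n47169
theorem D101311 : act 5 n47169 = n101311 := rfl
theorem F156095 : act 2 n101311 = n47172 := d2_1 D101311 (iv5 D47172) D47169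
theorem F156096 : act 7 n101311 = n47177 := d13_2 F74462 D101311 (iv5 D47177)
def n101312 : Q := act 6 n47169
theorem D101312 : act 6 n47169 = n101312 := rfl
theorem F156097 : act 2 n101312 = n47173 := d3_1 D101312 (iv6 D47173) D47169
def n101313 : Q := act 0 n47170
theorem D101313 : act 0 n47170 = n101313 := rfl
def n101314 : Q := act 1 n47170
theorem D101314 : act 1 n47170 = n101314 := rfl
def n101315 : Q := act 2 n47170
theorem D101315 : act 2 n47170 = n101315 := rfl
def n101316 : Q := act 4 n47170
theorem D101316 : act 4 n47170 = n101316 := rfl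
def n101317 : Q := act 5 n47170
theorem D101317 : act 5 n47170 = n101317 := rfl
theorem F156098 : act 3 n101317 = n47172 := d6_1 D101317 (iv5 D47172) D47170
def n101318 : Q := act 6 n47170
theorem D101318 : act 6 n47170 = n101318 := rfl
theorem F156099 : act 3 n101318 = n47173 := d7_1 D101318 (iv6 D47173) D47170
def n101319 : Q := act 7 n47170
theorem D101319 : act 7 n47170 = n101319 := rfl
theorem F156100 : act 3 n101319 = n47174 := d8_1 D101319 (iv7 D47174) D47170
def n101320 : Q := act 0 n47171
theorem D101320 : act 0 n47171 = n101320 := rfl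
def n101321 : Q := act 1 n47171
theorem D101321 : act 1 n47171 = n101321 := rfl
theorem F156101 : act 1 n101321 = n47176 := d15_1 D101321 (iv7 F156094) F156093
def n101322 : Q := act 3 n47171
theorem D101322 : act 3 n47171 = n101322 := rfl
def n101323 : Q := act 5 n47171
theorem D101323 : act 5 n47171 = n101323 := rfl
def n101324 : Q := act 6 n47171
theorem D101324 : act 6 n47171 = n101324 := rfl
theorem F156102 : act 4 n101324 = n47173 := d10_1 D101324 (iv6 D47173) D47171
def n101325 : Q := act 7 n47171
theorem D101325 : act 7 n47171 = n101325 := rfl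
theorem F156103 : act 2 n101325 = n47176 := d4_1 D101325 (iv7 F156094) F156093
def n101326 : Q := act 0 n47172
theorem D101326 : act 0 n47172 = n101326 := rfl
theorem F156106 : act 5 n101326 = n99887 := d21_2 D47172 D101326 (iv6 D99887) (iv1 D46646) (iv6 D22358) (iv5 D10643) F7047 D4911 D10742 D22694
def n101327 : Q := act 1 n47172
theorem D101327 : act 1 n47172 = n101327 := rfl
theorem F156107 : act 1 n101327 = n47177 := d15_1 D101327 (iv7 F156096) F156095
def n101328 : Q := act 4 n47172
theorem D101328 : act 4 n47172 = n101328 := rfl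
def n101329 : Q := act 6 n47172
theorem D101329 : act 6 n47172 = n101329 := rfl
def n101330 : Q := act 7 n47172
theorem D101330 : act 7 n47172 = n101330 := rfl
theorem F156108 : act 2 n101330 = n47177 := d4_1 D101330 (iv7 F156096) F156095
theorem F156109 : act 5 n101330 = n47174 := d13_1 D101330 (iv7 D47174) D47172
theorem F156110 : act 1 n47177 = n101326 := d15_0 (iv0 D101326) D101330 F156108
def n101331 : Q := act 0 n47173
theorem D101331 : act 0 n47173 = n101331 := rfl
def n101332 : Q := act 1 n47173
theorem D101332 : act 1 n47173 = n101332 := rfl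
theorem F156111 : act 6 n88166 = n101332 := d21_3 D46647 D99888 (iv5 F153799) (iv1 D101332) (iv6 D47173) D47172 D101326 F156106 (iv6 D99887) (iv1 D46646)
def n101333 : Q := act 5 n47173
theorem D101333 : act 5 n47173 = n101333 := rfl
theorem F156112 : act 0 n101333 = n86906 := d21_1 D101333 (iv5 D86906) (iv6 D40317) F30586 D22358 D46647 D99888 (iv5 F153799) F156111 (iv1 D101332)
theorem F156113 : act 0 n86974 = n101333 := d21_1 (iv5 F133491) (iv5 D101333) (iv6 D47173) (iv1 F74399) F74396 (iv5 F134603) (iv1 F134605) D88178 (iv6 F135128) (iv1 F133338)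
def n101334 : Q := act 7 n47173
theorem D101334 : act 7 n47173 = n101334 := rfl
def n101335 : Q := act 6 n47174
theorem D101335 : act 6 n47174 = n101335 := rfl
theorem F156114 : act 2 n101335 = n47178 := d3_1 D101335 (iv6 D47178) (iv2 F74463)
def n101336 : Q := act 0 n47175
theorem D101336 : act 0 n47175 = n101336 := rfl
def n101337 : Q := act 1 n47175
theorem D101337 : act 1 n47175 = n101337 := rfl
def n101338 : Q := act 2 n47175
theorem D101338 : act 2 n47175 = n101338 := rfl
def n101339 : Q := act 4 n47175
theorem D101339 : act 4 n47175 = n101339 := rfl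
def n101340 : Q := act 5 n47175
theorem D101340 : act 5 n47175 = n101340 := rfl
theorem F156115 : act 3 n101340 = n47177 := d6_1 D101340 (iv5 D47177) D47175
def n101341 : Q := act 6 n47175
theorem D101341 : act 6 n47175 = n101341 := rfl
theorem F156116 : act 3 n101341 = n47178 := d7_1 D101341 (iv6 D47178) D47175
def n101342 : Q := act 3 n47176
theorem D101342 : act 3 n47176 = n101342 := rfl
def n101343 : Q := act 5 n47176
theorem D101343 : act 5 n47176 = n101343 := rfl
def n101344 : Q := act 6 n47176
theorem D101344 : act 6 n47176 = n101344 := rfl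
theorem F156117 : act 4 n101344 = n47178 := d10_1 D101344 (iv6 D47178) D47176
def n101345 : Q := act 4 n47177
theorem D101345 : act 4 n47177 = n101345 := rfl
def n101346 : Q := act 6 n47177
theorem D101346 : act 6 n47177 = n101346 := rfl
def n101347 : Q := act 0 n47178
theorem D101347 : act 0 n47178 = n101347 := rfl
theorem F156118 : act 5 n101347 = n88061 := d21_0 (iv1 F155931) F155928 F74383 (iv1 F73700) D99887 (iv5 F156106) (iv1 F156110) (iv5 D47177) D47178 D101347
theorem F156119 : act 6 n101347 = n88151 := d21_3 D41111 D88061 (iv5 F156118) (iv1 D88151) (iv6 D41149) D41148 D88145 F135115 (iv6 D88060) (iv1 D41110)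
def n101348 : Q := act 1 n47178
theorem D101348 : act 1 n47178 = n101348 := rfl
def n101349 : Q := act 5 n47178
theorem D101349 : act 5 n47178 = n101349 := rfl
theorem F156120 : act 0 n101210 = n101349 := d21_1 D101210 (iv5 D101349) (iv6 D47178) (iv1 D22695) (iv6 D10742) (iv5 D4911) D4909 D10736 D22678 D47134
def n101350 : Q := act 7 n47178
theorem D101350 : act 7 n47178 = n101350 := rfl
def n101351 : Q := act 2 n47179
theorem D101351 : act 2 n47179 = n101351 := rfl
theorem F156121 : act 7 n47180 = n101351 := d15_2 (iv0 D47179) D47180 (iv2 D101351)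
def n101352 : Q := act 3 n47179
theorem D101352 : act 3 n47179 = n101352 := rfl
def n101353 : Q := act 4 n47179
theorem D101353 : act 4 n47179 = n101353 := rfl
def n101354 : Q := act 5 n47179
theorem D101354 : act 5 n47179 = n101354 := rfl
theorem F156122 : act 0 n88012 = n101354 := d21_10 (iv5 D101354) (iv1 F155951) F155948 F74396 (iv1 F61951) D41154 D88168 (iv1 F155826) (iv5 D88011) D88012
def n101355 : Q := act 6 n47179
theorem D101355 : act 6 n47179 = n101355 := rfl
def n101356 : Q := act 7 n47179
theorem D101356 : act 7 n47179 = n101356 := rfl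
theorem F156123 : act 2 n101356 = n47180 := d4_1 D101356 F156121 (iv2 D101351)
def n101357 : Q := act 3 n47180
theorem D101357 : act 3 n47180 = n101357 := rfl
def n101359 : Q := act 5 n47180
theorem D101359 : act 5 n47180 = n101359 := rfl
theorem F156124 : act 6 n101359 = n87999 := d21_3 (iv5 F155948) (iv1 F155950) D101359 (iv1 F135011) F64341 (iv5 F133491) F156113 (iv5 D101333) (iv6 D47173) (iv1 F74399)
def n101361 : Q := act 0 n47181
theorem D101361 : act 0 n47181 = n101361 := rfl
def n101362 : Q := act 1 n47181
theorem D101362 : act 1 n47181 = n101362 := rfl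
def n101363 : Q := act 3 n47181
theorem D101363 : act 3 n47181 = n101363 := rfl
theorem F156125 : act 4 n101363 = n47340 := d5_2 D47181 D101363 (iv3 D47340) (iv4 D22746) (iv3 F35279)
theorem F156126 : act 6 n101363 = n47209 := d7_2 (iv6 F74464) D101363 (iv3 D47209)
def n101364 : Q := act 5 n47181
theorem D101364 : act 5 n47181 = n101364 := rfl
def n101365 : Q := act 7 n47181
theorem D101365 : act 7 n47181 = n101365 := rfl
theorem F156127 : act 4 n101365 = n47182 := d11_1 D101365 (iv7 D47182) D47181
def n101366 : Q := act 6 n47182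
theorem D101366 : act 6 n47182 = n101366 := rfl
theorem F156128 : act 3 n101366 = n47343 := d7_1 D101366 (iv6 D47343) (iv3 F74465)
theorem F156129 : act 5 n101366 = n88185 := d12_1 D101366 (iv6 D88185) F62356 (iv6 F35282) (iv5 F74466)
theorem F156130 : act 7 n101366 = n47212 := d14_2 D47182 D101366 (iv6 D47212) (iv7 D22710) (iv6 F35280)
def n101367 : Q := act 2 n47183
theorem D101367 : act 2 n47183 = n101367 := rfl
theorem F156131 : act 7 n47184 = n101367 := d15_2 (iv0 D47183) D47184 (iv2 D101367)
def n101368 : Q := act 4 n47183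
theorem D101368 : act 4 n47183 = n101368 := rfl
theorem F156132 : act 3 n101368 = n88187 := d5_1 D101368 (iv4 D88187) F74609 (iv4 D47403) (iv3 F74668)
def n101369 : Q := act 5 n47183
theorem D101369 : act 5 n47183 = n101369 := rfl
theorem F156133 : act 3 n101369 = n47404 := d6_1 D101369 (iv5 D47404) (iv3 F74668)
def n101370 : Q := act 6 n47183
theorem D101370 : act 6 n47183 = n101370 := rfl
def n101371 : Q := act 7 n47183
theorem D101371 : act 7 n47183 = n101371 := rfl
theorem F156135 : act 2 n101371 = n47184 := d4_1 D101371 F156131 (iv2 D101367)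
theorem F156136 : act 3 n101371 = n47396 := d8_1 D101371 (iv7 F74607) (iv3 F74668)
theorem F156137 : act 2 n47397 = n99652 := d0_3 F156136 (iv2 D47396) D47397 F153402 (iv2 F156135)
theorem F156138 : act 2 n47569 = n92704 := d1_3 (iv4 F142884) F156137 (iv4 F153401)
theorem F156139 : act 7 n99653 = n47397 := d15_2 (iv0 D99652) D99653 F156137
theorem E15303 : n47401 = n46592 := (c8_3 F156139 (iv3 D47397) D47401 F153403)
theorem E15304 : n99739 = n22772 := ((D99739).symm.trans (sb E15303 F74608))
theorem E15305 : n99742 = n22771 := ((D99742).symm.trans (sb E15303 (iv7 D47401)))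
theorem F156140 : act 2 n22772 = n46592 := (sb E15304 (iv2 D99739))
theorem E15306 : n47396 = n46593 := ((F74607).symm.trans (sb E15304 (iv7 F153544)))
theorem F156141 : act 7 n22771 = n46592 := (sb E15305 (iv7 D99742))
theorem F156142 : act 2 n46593 = n22771 := (sb E15306 (iv2 D47396))
theorem E15307 : n101371 = n99743 := (((D99743).symm.trans (sb E15306 (iv3 F156136)))).symm
theorem F156143 : act 7 n46593 = n22772 := (sb E15306 (iv7 F74607))
theorem F156144 : act 2 n99743 = n47184 := (sb E15307 F156135)
theorem F156145 : act 7 n99743 = n47183 := (sb E15307 (iv7 D101371))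
theorem F156146 : act 7 n92704 = n47570 := d11_2 F156139 F142884 (iv4 F153404)
theorem F156147 : act 7 n92741 = n90431 := d8_2 F156146 F153408 (iv3 F153479)
theorem F156148 : act 2 n47570 = n92703 := d15_3 (iv0 D92703) D92704 F156146
theorem F156149 : act 7 n47569 = n92703 := d4_2 (iv7 F156146) (iv2 F156138) (iv2 F156148)
theorem F156150 : act 2 n90431 = n92740 := d15_3 (iv0 D92740) D92741 F156147
theorem F156151 : act 2 n92741 = n90430 := d15_3 (iv0 D90430) D90431 (iv7 F156147)
theorem F156152 : act 7 n90430 = n92740 := d4_2 (iv7 F156147) F156151 (iv2 F156150)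
theorem E15308 : n101367 = n101240 := (c15_4 F155973 F153547 F156145 D101367)
theorem F156153 : act 2 n101240 = n47183 := (sb E15308 (iv2 D101367))
theorem F156155 : act 7 n47403 = n97969 := d11_2 F156143 D47403 (iv4 F150996)
theorem F156156 : act 7 n47404 = n99744 := d13_2 F156143 D47404 (iv5 D99744)
theorem E15309 : n88190 = n87700 := ((c8_2 F156155 F150997 (iv7 D88190) F74609)).symm
theorem F156157 : act 2 n87700 = n41160 := (sb E15309 F135133)
theorem F156158 : act 7 n87700 = n41159 := (sb E15309 (iv7 D88190))
theorem F156159 : act 2 n97969 = n47398 := d15_3 F134640 (iv0 F74667) F156155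
theorem F156160 : act 2 n47403 = n97968 := d15_3 (iv0 D97968) D97969 (iv7 F156155)
theorem F156161 : act 7 n97968 = n47398 := d4_2 (iv7 F156155) F156160 (iv2 F156159)
theorem E15310 : n88186 = n87701 := (c15_4 F134611 F134607 F156158 D88186)
theorem F156162 : act 2 n87701 = n41159 := (sb E15310 (iv2 D88186))
theorem F156163 : act 7 n87701 = n41160 := (sb E15310 (iv7 F135132))
theorem F156164 : act 2 n47399 = n99744 := d2_3 (iv5 D99744) F156142 D47399
theorem F156165 : act 2 n47400 = n99745 := d3_3 (iv6 D99745) F156142 D47400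
theorem F156166 : act 7 n99740 = n47399 := d13_2 F156141 D99740 (iv5 D47399)
theorem F156167 : act 2 n47404 = n99740 := d4_3 F156166 F156164 (iv7 F156156)
def n101372 : Q := act 4 n47184
theorem D101372 : act 4 n47184 = n101372 := rfl
theorem F156169 : act 3 n101372 = n88470 := d20_3 (iv4 F155970) (iv1 F155974) D101372 (iv1 D88470) (iv3 D41296) (iv4 D19432) (iv1 F14228) D19454 D41320 D88513
def n101373 : Q := act 5 n47184
theorem D101373 : act 5 n47184 = n101373 := rfl
theorem F156170 : act 0 n101373 = n47201 := d17_2 (iv1 F155974) D101373 (iv5 F145059) F145058 F144897 (iv0 D68857) (iv5 F65398) F135526 (iv4 F155970)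
def n101375 : Q := act 5 n47185
theorem D101375 : act 5 n47185 = n101375 := rfl
theorem F156171 : act 2 n101375 = n47186 := d2_1 D101375 (iv5 D47186) D47185
def n101376 : Q := act 6 n47185
theorem D101376 : act 6 n47185 = n101376 := rfl
theorem F156172 : act 2 n101376 = n47187 := d3_1 D101376 (iv6 D47187) D47185
theorem F156173 : act 4 n101376 = n90491 := d10_1 D101376 (iv6 D90491) (iv4 F74467)
def n101377 : Q := act 0 n47186
theorem D101377 : act 0 n47186 = n101377 := rfl
def n101378 : Q := act 1 n47186
theorem D101378 : act 1 n47186 = n101378 := rfl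
def n101379 : Q := act 4 n47186
theorem D101379 : act 4 n47186 = n101379 := rfl
def n101380 : Q := act 6 n47186
theorem D101380 : act 6 n47186 = n101380 := rfl
theorem F156174 : act 3 n101380 = n47191 := d7_1 D101380 (iv6 D47191) (iv3 F74468)
def n101381 : Q := act 0 n47187
theorem D101381 : act 0 n47187 = n101381 := rfl
def n101382 : Q := act 1 n47187
theorem D101382 : act 1 n47187 = n101382 := rfl
def n101383 : Q := act 5 n47187
theorem D101383 : act 5 n47187 = n101383 := rfl
theorem F156175 : act 3 n101383 = n47192 := d6_1 D101383 (iv5 D47192) (iv3 F74469)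
theorem F156176 : act 7 n101383 = n89246 := d13_2 F140516 D101383 (iv5 F140515)
def n101384 : Q := act 3 n47188
theorem D101384 : act 3 n47188 = n101384 := rfl
theorem F156177 : act 2 n101384 = n47382 := d0_1 D101384 (iv3 D47382) (iv2 F71991) F71992 F74472
theorem F156178 : act 5 n101384 = n94100 := d6_2 (iv5 F74470) D101384 F145011
def n101385 : Q := act 4 n47188
theorem D101385 : act 4 n47188 = n101385 := rfl
theorem F156179 : act 2 n101385 = n94120 := d1_1 D101385 (iv4 D94120) F74472
theorem F156180 : act 0 n101385 = n48259 := d18_2 D47188 D101385 (iv4 D48259) (iv5 D23411) (iv4 D10984) F17839 (iv4 F35254) F35259 D22701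
theorem F156181 : act 1 n101385 = n48240 := d18_6 (iv1 D87016) F61482 (iv1 F66151) (iv4 F69193) (iv5 F74470) D101385 (iv4 D48240) D48239 (iv5 F134175)
def n101386 : Q := act 6 n47188
theorem D101386 : act 6 n47188 = n101386 := rfl
theorem F156182 : act 2 n101386 = n94117 := d3_1 D101386 F145056 F74472
theorem F156183 : act 5 n101386 = n94102 := d12_1 D101386 (iv6 D94102) (iv5 D43991) D43992 (iv5 F74470)
def n101387 : Q := act 4 n47189
theorem D101387 : act 4 n47189 = n101387 := rfl
theorem F156184 : act 7 n101387 = n94120 := d11_2 (iv7 F74474) D101387 (iv4 D94120)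
theorem F156185 : act 0 n101387 = n48240 := d18_2 (iv1 F74473) D101387 (iv4 D48240) (iv5 D23391) (iv4 D10979) (iv0 D5001) (iv4 F7341) D10744 D22705
theorem F156186 : act 1 n101387 = n48259 := d18_6 (iv1 F145024) (iv4 D94103) (iv1 F69198) (iv4 F69215) F74476 D101387 (iv4 D48259) F75832 F75831
theorem F156187 : act 0 n99827 = n48257 := d20_4 D22765 D47387 F74597 D99827 F75864 D48259 (iv1 F156186) (iv4 D101387) (iv3 F74475) (iv1 D22764)
def n101388 : Q := act 6 n47189
theorem D101388 : act 6 n47189 = n101388 := rfl
theorem F156188 : act 3 n101388 = n47386 := d7_1 D101388 (iv6 D47386) F74475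
theorem F156189 : act 5 n101388 = n88065 := d12_1 D101388 (iv6 D88065) (iv5 F68736) (iv6 F69216) F74476
def n101389 : Q := act 0 n47190
theorem D101389 : act 0 n47190 = n101389 := rfl
theorem F156190 : act 4 n101389 = n87418 := d18_3 (iv1 D47189) D47190 D101389 (iv5 D87418) F66305 (iv0 F69723) F64430 (iv0 F69217) F74476
theorem F156191 : act 1 n47199 = n101389 := d15_0 (iv0 D101389) (iv7 F155978) F155977
def n101390 : Q := act 1 n47190
theorem D101390 : act 1 n47190 = n101390 := rfl
theorem F156192 : act 1 n101390 = n47199 := d15_1 D101390 (iv7 F155966) F155965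
def n101391 : Q := act 3 n47190
theorem D101391 : act 3 n47190 = n101391 := rfl
def n101392 : Q := act 5 n47190
theorem D101392 : act 5 n47190 = n101392 := rfl
theorem F156193 : act 4 n101392 = n48289 := d16_2 D47190 D101392 F148130 (iv4 D96290) (iv5 D44953) F66813 D22705 (iv7 F74403) F74402
def n101393 : Q := act 6 n47190
theorem D101393 : act 6 n47190 = n101393 := rfl
theorem F156194 : act 4 n101393 = n47191 := d10_1 D101393 (iv6 D47191) D47190
def n101394 : Q := act 0 n47191
theorem D101394 : act 0 n47191 = n101394 := rfl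
def n101395 : Q := act 1 n47191
theorem D101395 : act 1 n47191 = n101395 := rfl
def n101396 : Q := act 5 n47191
theorem D101396 : act 5 n47191 = n101396 := rfl
theorem F156195 : act 2 n101396 = n89251 := d2_1 D101396 (iv5 F155968) F155967
theorem F156196 : act 6 n101396 = n47192 := d12_2 D47191 D101396 (iv5 D47192) (iv6 D22702) D22701
def n101397 : Q := act 7 n47191
theorem D101397 : act 7 n47191 = n101397 := rfl
def n101398 : Q := act 4 n47192
theorem D101398 : act 4 n47192 = n101398 := rfl
theorem F156197 : act 2 n101398 = n89250 := d1_1 D101398 (iv4 D89250) (iv2 F74477)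
theorem F156198 : act 7 n101398 = n89247 := d11_2 (iv7 F75204) D101398 (iv4 D89247)
theorem F156199 : act 0 n101398 = n87352 := d18_2 (iv1 F74479) D101398 (iv4 D87352) (iv5 D40602) F30806 D21894 F64324 F64322 (iv5 F64350)
theorem E15311 : n98866 = n98331 := (c20_5 D101398 F156199 (iv4 D87352) (iv3 F72927) D98866 (iv3 D98331) (iv4 F136272) (iv1 F136274) F64416 (iv3 F64349) (iv1 F74479))
theorem F156200 : act 1 n98331 = n46269 := (sb E15311 (iv0 D98866))
def n101399 : Q := act 2 n47194
theorem D101399 : act 2 n47194 = n101399 := rfl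
theorem F156201 : act 4 n101399 = n88221 := d1_2 (iv4 F74836) D101399 (iv2 D88221)
theorem F156202 : act 7 n47195 = n101399 := d15_2 (iv0 D47194) D47195 (iv2 D101399)
theorem F156203 : act 3 n101399 = n47363 := d8_1 F156202 (iv7 D47363) (iv3 F74681)
theorem F156204 : act 2 n47364 = n99633 := d0_3 F156203 F74560 D47364 (iv3 F153380) D101399
theorem F156205 : act 2 n95347 = n96385 := d1_3 F148349 F156204 F153381
theorem F156206 : act 7 n96386 = n95347 := d15_2 (iv0 D96385) D96386 F156205
theorem F156207 : act 7 n95346 = n96385 := d15_2 F148356 F148354 (iv2 F156205)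
theorem F156208 : act 2 n96386 = n95346 := d4_3 F156207 (iv2 F156205) (iv7 F156206)
theorem F156209 : act 7 n47364 = n99768 := d11_2 F156207 F148349 (iv4 F153589)
theorem E15312 : n99762 = n22753 := (c8_3 F156209 (iv3 D99768) F153582 D47364)
theorem E15313 : n47363 = n46600 := (((iv2 F74560)).symm.trans (sb E15312 (iv2 D99762)))
theorem E15314 : n47358 = n46601 := ((F74558).symm.trans (sb E15312 (iv7 F153582)))
theorem F156210 : act 2 n46600 = n22753 := (sb E15313 F74560)
theorem E15315 : n101399 = n99763 := (((D99763).symm.trans (sb E15313 (iv3 F156203)))).symm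
theorem E15316 : n99767 = n22752 := ((D99767).symm.trans (sb E15313 (iv7 D47363)))
theorem F156211 : act 7 n46601 = n22753 := (sb E15314 (iv7 F74558))
theorem F156212 : act 2 n99763 = n47194 := (sb E15315 (iv2 D101399))
theorem E15317 : n88221 = n47500 := (((F153583).symm.trans (sb E15315 F156201))).symm
theorem F156213 : act 7 n99763 = n47195 := (sb E15315 (iv7 F156202))
theorem F156214 : act 2 n22752 = n46601 := (sb E15316 F153588)
theorem F156215 : act 7 n22752 = n46600 := (sb E15316 (iv7 D99767))
theorem F156216 : act 2 n47500 = n41173 := (sb E15317 (iv2 D88221))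
theorem F156217 : act 7 n47500 = n41174 := (sb E15317 (iv7 F135161))
theorem F156218 : act 7 n47471 = n97976 := d8_2 F156217 (iv3 F74683) F153585
theorem E15318 : n88225 = n47499 := (c15_4 (iv0 D47499) D47500 F156217 (iv2 F135162))
theorem F156219 : act 2 n47499 = n41174 := (sb E15318 F135162)
theorem F156220 : act 7 n47499 = n41173 := (sb E15318 (iv7 D88225))
theorem F156221 : act 7 n47194 = n101234 := d11_2 F156220 (iv4 F74836) F155952
theorem F156222 : act 2 n101234 = n47195 := d4_1 F156221 (iv7 F156213) F156212
theorem F156223 : act 2 n97976 = n47472 := d15_3 F151023 F151021 F156218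
theorem F156226 : act 7 n99764 = n47360 := d11_2 F156215 D99764 (iv4 D47360)
theorem F156227 : act 7 n99765 = n47361 := d13_2 F156215 D99765 (iv5 D47361)
theorem F156228 : act 2 n99769 = n47360 := d1_3 (iv4 D47360) F156214 D99769
theorem F156229 : act 2 n99770 = n47361 := d2_3 (iv5 D47361) F156214 D99770
theorem F156231 : act 7 n47365 = n99769 := d11_2 F156211 D47365 (iv4 D99769)
theorem F156232 : act 7 n47366 = n99770 := d13_2 F156211 D47366 (iv5 D99770)
theorem F156233 : act 2 n99765 = n47366 := d4_3 F156232 F156229 (iv7 F156227)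
theorem F156234 : act 2 n99764 = n47365 := d4_3 F156231 F156228 (iv7 F156226)
theorem F156235 : act 7 n48374 = n48441 := d8_2 F156231 F153590 F76182
theorem F156236 : act 2 n48441 = n48375 := d15_3 F76039 F76038 F156235
theorem F156237 : act 2 n48374 = n48442 := d15_3 F76184 F76183 (iv7 F156235)
theorem F156238 : act 7 n48442 = n48375 := d4_2 (iv7 F156235) F156237 (iv2 F156236)
theorem F156239 : act 2 n47367 = n99766 := d3_3 (iv6 D99766) F156210 D47367
def n101402 : Q := act 5 n47195
theorem D101402 : act 5 n47195 = n101402 := rfl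
theorem F156241 : act 3 n101402 = n47361 := d6_1 D101402 (iv5 D47361) (iv3 F74681)
def n101403 : Q := act 6 n47195
theorem D101403 : act 6 n47195 = n101403 := rfl
theorem F156243 : act 4 n101403 = n88227 := d10_1 D101403 (iv6 D88227) (iv4 F74682)
def n101404 : Q := act 5 n47196
theorem D101404 : act 5 n47196 = n101404 := rfl
theorem F156244 : act 2 n101404 = n47197 := d2_1 D101404 (iv5 D47197) D47196
def n101405 : Q := act 6 n47196
theorem D101405 : act 6 n47196 = n101405 := rfl
theorem F156245 : act 2 n101405 = n47198 := d3_1 D101405 (iv6 D47198) D47196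
def n101406 : Q := act 0 n47197
theorem D101406 : act 0 n47197 = n101406 := rfl
def n101407 : Q := act 1 n47197
theorem D101407 : act 1 n47197 = n101407 := rfl
def n101408 : Q := act 4 n47197
theorem D101408 : act 4 n47197 = n101408 := rfl
def n101409 : Q := act 6 n47197
theorem D101409 : act 6 n47197 = n101409 := rfl
theorem F156246 : act 3 n101409 = n47200 := d7_1 D101409 (iv6 D47200) (iv3 F74480)
def n101410 : Q := act 0 n47198
theorem D101410 : act 0 n47198 = n101410 := rfl
def n101412 : Q := act 3 n47199
theorem D101412 : act 3 n47199 = n101412 := rfl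
def n101413 : Q := act 5 n47199
theorem D101413 : act 5 n47199 = n101413 := rfl
theorem F156247 : act 4 n101413 = n48288 := d9_1 D101413 (iv5 F148120) (iv4 D96288) (iv5 D44951) F66804 D22701 D47190 D101392 F156193 F148130 (iv4 D96290) (iv5 D44953) F66813 D22705 D47199
def n101414 : Q := act 6 n47199
theorem D101414 : act 6 n47199 = n101414 := rfl
theorem F156248 : act 4 n101414 = n47200 := d10_1 D101414 (iv6 D47200) D47199
def n101415 : Q := act 0 n47200
theorem D101415 : act 0 n47200 = n101415 := rfl
def n101416 : Q := act 1 n47200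
theorem D101416 : act 1 n47200 = n101416 := rfl
def n101417 : Q := act 7 n47200
theorem D101417 : act 7 n47200 = n101417 := rfl
def n101418 : Q := act 0 n47201
theorem D101418 : act 0 n47201 = n101418 := rfl
def n101419 : Q := act 2 n47201
theorem D101419 : act 2 n47201 = n101419 := rfl
def n101420 : Q := act 4 n47201
theorem D101420 : act 4 n47201 = n101420 := rfl
def n101421 : Q := act 6 n47201
theorem D101421 : act 6 n47201 = n101421 := rfl
theorem F156249 : act 3 n101421 = n47203 := d7_1 D101421 (iv6 D47203) D47201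
def n101422 : Q := act 0 n47202
theorem D101422 : act 0 n47202 = n101422 := rfl
theorem F156250 : act 1 n47205 = n101422 := d15_0 (iv0 D101422) (iv7 F155989) F155988
def n101423 : Q := act 3 n47202
theorem D101423 : act 3 n47202 = n101423 := rfl
def n101424 : Q := act 5 n47202
theorem D101424 : act 5 n47202 = n101424 := rfl
theorem F156251 : act 4 n101424 = n48282 := d16_2 D47202 D101424 (iv5 D48282) (iv4 F64450) (iv5 D41792) (iv4 F64436) F64437 (iv7 F74415) (iv2 F74414)
def n101425 : Q := act 6 n47202
theorem D101425 : act 6 n47202 = n101425 := rfl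
theorem F156252 : act 4 n101425 = n47203 := d10_1 D101425 (iv6 D47203) D47202
def n101426 : Q := act 0 n47203
theorem D101426 : act 0 n47203 = n101426 := rfl
def n101427 : Q := act 1 n47203
theorem D101427 : act 1 n47203 = n101427 := rfl
def n101428 : Q := act 7 n47203
theorem D101428 : act 7 n47203 = n101428 := rfl
def n101429 : Q := act 0 n47204
theorem D101429 : act 0 n47204 = n101429 := rfl
def n101430 : Q := act 1 n47204
theorem D101430 : act 1 n47204 = n101430 := rfl
def n101431 : Q := act 2 n47204
theorem D101431 : act 2 n47204 = n101431 := rfl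
def n101432 : Q := act 4 n47204
theorem D101432 : act 4 n47204 = n101432 := rfl
def n101433 : Q := act 6 n47204
theorem D101433 : act 6 n47204 = n101433 := rfl
theorem F156253 : act 3 n101433 = n47206 := d7_1 D101433 (iv6 D47206) D47204
def n101434 : Q := act 3 n47205
theorem D101434 : act 3 n47205 = n101434 := rfl
def n101435 : Q := act 5 n47205
theorem D101435 : act 5 n47205 = n101435 := rfl
theorem F156254 : act 4 n101435 = n48279 := d9_1 D101435 (iv5 D48279) F70686 (iv5 F72331) (iv4 F72337) F72338 D47202 D101424 F156251 (iv5 D48282) (iv4 F64450) (iv5 D41792) (iv4 F64436) F64437 D47205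
def n101436 : Q := act 6 n47205
theorem D101436 : act 6 n47205 = n101436 := rfl
theorem F156255 : act 4 n101436 = n47206 := d10_1 D101436 (iv6 D47206) D47205
def n101437 : Q := act 0 n47206
theorem D101437 : act 0 n47206 = n101437 := rfl
def n101438 : Q := act 1 n47206
theorem D101438 : act 1 n47206 = n101438 := rfl
def n101439 : Q := act 7 n47206
theorem D101439 : act 7 n47206 = n101439 := rfl
def n101440 : Q := act 3 n47207
theorem D101440 : act 3 n47207 = n101440 := rfl
def n101441 : Q := act 5 n47207
theorem D101441 : act 5 n47207 = n101441 := rfl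
theorem F156256 : act 4 n101441 = n48277 := d16_2 F145066 D101441 (iv5 D48277) (iv4 D23426) (iv5 F66195) D44005 D94124 F145069 (iv2 F145062)
def n101442 : Q := act 6 n47207
theorem D101442 : act 6 n47207 = n101442 := rfl
def n101443 : Q := act 3 n47208
theorem D101443 : act 3 n47208 = n101443 := rfl
def n101444 : Q := act 5 n47208
theorem D101444 : act 5 n47208 = n101444 := rfl
theorem F156257 : act 4 n101444 = n48271 := d9_1 D101444 (iv5 D48271) (iv4 D23421) (iv5 F66192) D44004 D94122 F145066 D101441 F156256 (iv5 D48277) (iv4 D23426) (iv5 F66195) D44005 D94124 (iv4 F145072)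
def n101445 : Q := act 6 n47208
theorem D101445 : act 6 n47208 = n101445 := rfl
def n101446 : Q := act 0 n47209
theorem D101446 : act 0 n47209 = n101446 := rfl
def n101447 : Q := act 1 n47209
theorem D101447 : act 1 n47209 = n101447 := rfl
def n101448 : Q := act 2 n47209
theorem D101448 : act 2 n47209 = n101448 := rfl
theorem F156258 : act 4 n101448 = n47462 := d1_2 (iv4 F74482) D101448 (iv2 D47462)
def n101449 : Q := act 5 n47209
theorem D101449 : act 5 n47209 = n101449 := rfl
theorem F156259 : act 3 n101449 = n47210 := d6_1 D101449 (iv5 D47210) D47209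
def n101450 : Q := act 7 n47209
theorem D101450 : act 7 n47209 = n101450 := rfl
theorem F156260 : act 3 n101450 = n47211 := d8_1 D101450 (iv7 D47211) D47209
theorem F156261 : act 4 n101450 = n47464 := d11_1 D101450 (iv7 D47464) (iv4 F74482)
def n101451 : Q := act 0 n47210
theorem D101451 : act 0 n47210 = n101451 := rfl
theorem F156262 : act 5 n101451 = n48240 := d17_3 (iv1 D47208) D47210 D101451 (iv4 D48240) (iv5 D23391) (iv0 F66799) D48185 (iv0 F145070) (iv4 F145072)
theorem F156263 : act 4 n48265 = n101451 := d16_2 D23413 D48265 F156262 (iv4 D48240) (iv5 D23391) (iv4 D10979) D10980 (iv7 F66580) F66579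
theorem F156264 : act 1 n48290 = n101451 := d17_6 (iv1 D47189) (iv5 D22701) (iv1 F35259) (iv5 F74419) (iv4 F156005) F156006 F156262 (iv0 F156185) (iv4 D101387)
def n101452 : Q := act 1 n47210
theorem D101452 : act 1 n47210 = n101452 := rfl
theorem F156265 : act 1 n101452 = n48290 := d15_1 D101452 F156003 F156001
theorem F156266 : act 5 n101452 = n48259 := d17_7 (iv1 F74471) (iv5 D22705) (iv1 D10744) D10745 D22709 D47210 D101452 (iv0 F156180) (iv4 D101385)
theorem F156267 : act 4 n48249 = n101452 := d9_15 F156266 (iv4 D48259) (iv5 D23411) (iv4 D10984) D10985 D23413 D48265 F156263 F156262 (iv4 D48240) (iv5 D23391) (iv4 D10979) D10980 D23396 D48249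
def n101453 : Q := act 4 n47210
theorem D101453 : act 4 n47210 = n101453 := rfl
theorem F156269 : act 5 n101453 = n48227 := d9_2 D47210 D101453 F75814 F36501 (iv4 F35254) (iv5 F74419) (iv4 F156005) F156006 (iv4 D48290) (iv5 D23432) (iv4 D10989) (iv5 D5003) (iv4 F7341) D10745 D22709
theorem F156270 : act 0 n101453 = n48289 := d18_2 (iv1 D101452) D101453 (iv4 F156193) (iv5 D101392) (iv4 D47190) D47189 D101387 F156186 (iv5 F156266)
theorem F156272 : act 7 n101453 = n48226 := d15_2 D48289 (iv0 F156270) F75812
def n101454 : Q := act 6 n47210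
theorem D101454 : act 6 n47210 = n101454 := rfl
def n101455 : Q := act 7 n47210
theorem D101455 : act 7 n47210 = n101455 := rfl
theorem F156274 : act 4 n101455 = n48226 := d11_1 D101455 (iv7 F156272) (iv4 D101453)
theorem F156275 : act 5 n101455 = n47211 := d13_1 D101455 (iv7 D47211) D47210
def n101456 : Q := act 6 n47211
theorem D101456 : act 6 n47211 = n101456 := rfl
theorem F156276 : act 4 n101456 = n47212 := d10_1 D101456 (iv6 D47212) (iv4 F74483)
def n101457 : Q := act 0 n47212
theorem D101457 : act 0 n47212 = n101457 := rfl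
def n101458 : Q := act 1 n47212
theorem D101458 : act 1 n47212 = n101458 := rfl
def n101459 : Q := act 0 n47213
theorem D101459 : act 0 n47213 = n101459 := rfl
def n101460 : Q := act 1 n47213
theorem D101460 : act 1 n47213 = n101460 := rfl
theorem F156277 : act 1 n101460 = n47221 := d15_1 D101460 (iv7 D47221) (iv2 F74486)
def n101461 : Q := act 5 n47213
theorem D101461 : act 5 n47213 = n101461 := rfl
theorem F156278 : act 2 n101461 = n47220 := d2_1 D101461 (iv5 D47220) (iv2 F74486)
theorem F156279 : act 3 n101461 = n69950 := d6_1 D101461 (iv5 D69950) (iv3 F74487)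
def n101462 : Q := act 7 n47213
theorem D101462 : act 7 n47213 = n101462 := rfl
theorem F156280 : act 2 n101462 = n47221 := d4_1 D101462 (iv7 D47221) (iv2 F74486)
theorem F156281 : act 3 n101462 = n69951 := d8_1 D101462 (iv7 D69951) (iv3 F74487)
theorem F156282 : act 6 n101462 = n83900 := d14_1 D101462 F155175 (iv6 D89097) F64238 D47213
theorem F156283 : act 1 n47221 = n101459 := d15_0 (iv0 D101459) D101462 F156280
theorem F156284 : act 1 n47219 = n101462 := d15_1 D47219 (iv7 D101462) F74486
theorem F156285 : act 1 n101462 = n47218 := d15_0 (iv0 D47218) D47221 (iv2 F156280)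
def n101463 : Q := act 6 n47214
theorem D101463 : act 6 n47214 = n101463 := rfl
def n101464 : Q := act 6 n47215
theorem D101464 : act 6 n47215 = n101464 := rfl
theorem F156288 : act 4 n101464 = n98874 := d10_1 D101464 (iv6 D98874) (iv4 F74490)
def n101465 : Q := act 0 n47216
theorem D101465 : act 0 n47216 = n101465 := rfl
theorem F156290 : act 4 n101465 = n57605 := d18_1 D101465 (iv1 F90749) F59342 (iv5 D38493) D38492 (iv0 F70105) (iv4 F74488) (iv0 D47214) D47216
theorem F156291 : act 3 n101465 = n98143 := d20_5 F127651 F126895 F126894 F110301 D101465 F151364 (iv1 F128072) (iv4 F128377) F128376 F127654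
theorem F156292 : act 2 n73043 = n101465 := d15_3 (iv0 D101465) (iv0 F116496) (iv7 F116272)
theorem F156293 : act 7 n101465 = n73039 := d4_2 (iv7 F116272) F156292 F116271
def n101466 : Q := act 6 n47216
theorem D101466 : act 6 n47216 = n101466 := rfl
def n101467 : Q := act 0 n47217
theorem D101467 : act 0 n47217 = n101467 := rfl
def n101468 : Q := act 1 n47217
theorem D101468 : act 1 n47217 = n101468 := rfl
def n101469 : Q := act 5 n47217
theorem D101469 : act 5 n47217 = n101469 := rfl
def n101470 : Q := act 7 n47217
theorem D101470 : act 7 n47217 = n101470 := rfl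
theorem F156294 : act 4 n101470 = n47221 := d11_1 D101470 (iv7 D47221) (iv4 F74491)
def n101471 : Q := act 2 n47218
theorem D101471 : act 2 n47218 = n101471 := rfl
theorem F156295 : act 7 n47219 = n101471 := d15_2 (iv0 D47218) D47219 (iv2 D101471)
def n101472 : Q := act 3 n47218
theorem D101472 : act 3 n47218 = n101472 := rfl
def n101473 : Q := act 4 n47218
theorem D101473 : act 4 n47218 = n101473 := rfl
def n101474 : Q := act 5 n47218
theorem D101474 : act 5 n47218 = n101474 := rfl
def n101475 : Q := act 6 n47218
theorem D101475 : act 6 n47218 = n101475 := rfl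
def n101476 : Q := act 7 n47218
theorem D101476 : act 7 n47218 = n101476 := rfl
theorem F156296 : act 2 n101476 = n47219 := d4_1 D101476 F156295 (iv2 D101471)
def n101477 : Q := act 3 n47219
theorem D101477 : act 3 n47219 = n101477 := rfl
def n101478 : Q := act 4 n47219
theorem D101478 : act 4 n47219 = n101478 := rfl
def n101479 : Q := act 5 n47219
theorem D101479 : act 5 n47219 = n101479 := rfl
def n101480 : Q := act 6 n47219
theorem D101480 : act 6 n47219 = n101480 := rfl
def n101481 : Q := act 0 n47220
theorem D101481 : act 0 n47220 = n101481 := rfl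
def n101482 : Q := act 1 n47220
theorem D101482 : act 1 n47220 = n101482 := rfl
def n101483 : Q := act 4 n47220
theorem D101483 : act 4 n47220 = n101483 := rfl
def n101484 : Q := act 7 n47220
theorem D101484 : act 7 n47220 = n101484 := rfl
theorem F156297 : act 3 n101484 = n47235 := d8_1 D101484 (iv7 D47235) (iv3 F74492)
theorem F156298 : act 5 n101484 = n47221 := d13_1 D101484 (iv7 D47221) D47220
def n101486 : Q := act 1 n47222
theorem D101486 : act 1 n47222 = n101486 := rfl
theorem F156300 : act 1 n101486 = n47227 := d15_1 D101486 (iv7 D47227) D47222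
def n101487 : Q := act 3 n47222
theorem D101487 : act 3 n47222 = n101487 := rfl
theorem F156301 : act 7 n101487 = n47228 := d8_2 F74494 D101487 (iv3 D47228)
def n101488 : Q := act 4 n47222
theorem D101488 : act 4 n47222 = n101488 := rfl
theorem F156302 : act 2 n101488 = n47224 := d1_1 D101488 (iv4 D47224) D47222
theorem F156303 : act 7 n101488 = n47229 := d11_2 F74494 D101488 (iv4 D47229)
def n101489 : Q := act 5 n47222
theorem D101489 : act 5 n47222 = n101489 := rfl
theorem F156304 : act 2 n101489 = n47225 := d2_1 D101489 (iv5 D47225) D47222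
theorem F156305 : act 7 n101489 = n47230 := d13_2 F74494 D101489 (iv5 D47230)
def n101490 : Q := act 6 n47222
theorem D101490 : act 6 n47222 = n101490 := rfl
theorem F156306 : act 2 n101490 = n47226 := d3_1 D101490 (iv6 D47226) D47222
def n101491 : Q := act 0 n47223
theorem D101491 : act 0 n47223 = n101491 := rfl
def n101492 : Q := act 1 n47223
theorem D101492 : act 1 n47223 = n101492 := rfl
def n101493 : Q := act 2 n47223
theorem D101493 : act 2 n47223 = n101493 := rfl
def n101494 : Q := act 4 n47223
theorem D101494 : act 4 n47223 = n101494 := rfl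
def n101495 : Q := act 5 n47223
theorem D101495 : act 5 n47223 = n101495 := rfl
theorem F156307 : act 3 n101495 = n47225 := d6_1 D101495 (iv5 D47225) D47223
def n101496 : Q := act 6 n47223
theorem D101496 : act 6 n47223 = n101496 := rfl
theorem F156308 : act 3 n101496 = n47226 := d7_1 D101496 (iv6 D47226) D47223
def n101497 : Q := act 7 n47223
theorem D101497 : act 7 n47223 = n101497 := rfl
theorem F156309 : act 3 n101497 = n47227 := d8_1 D101497 (iv7 D47227) D47223
def n101499 : Q := act 1 n47224
theorem D101499 : act 1 n47224 = n101499 := rfl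
theorem F156310 : act 1 n101499 = n47229 := d15_1 D101499 (iv7 F156303) F156302
def n101502 : Q := act 6 n47224
theorem D101502 : act 6 n47224 = n101502 := rfl
theorem F156311 : act 4 n101502 = n47226 := d10_1 D101502 (iv6 D47226) D47224
def n101503 : Q := act 7 n47224
theorem D101503 : act 7 n47224 = n101503 := rfl
theorem F156313 : act 4 n101503 = n47227 := d11_1 D101503 (iv7 D47227) D47224
def n101504 : Q := act 0 n47225
theorem D101504 : act 0 n47225 = n101504 := rfl
theorem F156315 : act 5 n101504 = n89347 := d21_2 D47225 D101504 (iv6 D89347) (iv1 D41726) (iv6 D19635) F14429 (iv1 F13394) F13392 D10748 D22715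
def n101505 : Q := act 1 n47225
theorem D101505 : act 1 n47225 = n101505 := rfl
theorem F156316 : act 1 n101505 = n47230 := d15_1 D101505 (iv7 F156305) F156304
def n101506 : Q := act 4 n47225
theorem D101506 : act 4 n47225 = n101506 := rfl
def n101507 : Q := act 6 n47225
theorem D101507 : act 6 n47225 = n101507 := rfl
def n101508 : Q := act 7 n47225
theorem D101508 : act 7 n47225 = n101508 := rfl
theorem F156317 : act 2 n101508 = n47230 := d4_1 D101508 (iv7 F156305) F156304
theorem F156318 : act 5 n101508 = n47227 := d13_1 D101508 (iv7 D47227) D47225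
theorem F156319 : act 1 n47230 = n101504 := d15_0 (iv0 D101504) D101508 F156317
theorem F156320 : act 0 n47231 = n89325 := d21_10 (iv5 D89325) (iv1 F136219) F136216 (iv6 F74286) (iv1 F74288) D89347 (iv5 F156315) (iv1 F156319) (iv5 D47230) D47231
def n101509 : Q := act 0 n47226
theorem D101509 : act 0 n47226 = n101509 := rfl
def n101510 : Q := act 1 n47226
theorem D101510 : act 1 n47226 = n101510 := rfl
def n101511 : Q := act 7 n47226
theorem D101511 : act 7 n47226 = n101511 := rfl
def n101512 : Q := act 6 n47227
theorem D101512 : act 6 n47227 = n101512 := rfl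
theorem F156321 : act 2 n101512 = n47231 := d3_1 D101512 (iv6 D47231) (iv2 F74495)
def n101517 : Q := act 5 n47228
theorem D101517 : act 5 n47228 = n101517 := rfl
theorem F156322 : act 3 n101517 = n47230 := d6_1 D101517 (iv5 D47230) D47228
def n101518 : Q := act 6 n47228
theorem D101518 : act 6 n47228 = n101518 := rfl
theorem F156323 : act 3 n101518 = n47231 := d7_1 D101518 (iv6 D47231) D47228
def n101521 : Q := act 6 n47229
theorem D101521 : act 6 n47229 = n101521 := rfl
theorem F156324 : act 4 n101521 = n47231 := d10_1 D101521 (iv6 D47231) D47229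
def n101522 : Q := act 4 n47230
theorem D101522 : act 4 n47230 = n101522 := rfl
def n101523 : Q := act 6 n47230
theorem D101523 : act 6 n47230 = n101523 := rfl
theorem F156325 : act 0 n96144 = n101523 := d21_4 (iv5 D46121) (iv1 F66255) (iv5 F70473) D96144 (iv6 D101523) (iv5 D47230) (iv1 D22716) D22717 (iv6 F58721) (iv1 F72710)
def n101524 : Q := act 1 n47231
theorem D101524 : act 1 n47231 = n101524 := rfl
def n101525 : Q := act 5 n47231
theorem D101525 : act 5 n47231 = n101525 := rfl
theorem F156326 : act 0 n88837 = n101525 := d21_1 D88837 (iv5 D101525) (iv6 D47231) (iv1 D22716) (iv6 D10748) (iv5 F13392) F13393 D9192 D19526 D41473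
def n101526 : Q := act 7 n47231
theorem D101526 : act 7 n47231 = n101526 := rfl
def n101527 : Q := act 3 n47232
theorem D101527 : act 3 n47232 = n101527 := rfl
def n101528 : Q := act 4 n47232
theorem D101528 : act 4 n47232 = n101528 := rfl
def n101529 : Q := act 5 n47232
theorem D101529 : act 5 n47232 = n101529 := rfl
theorem F156327 : act 2 n101529 = n101131 := d2_1 D101529 (iv5 F155795) F155797
theorem F156328 : act 7 n101529 = n99496 := d13_2 F155819 D101529 F153256
theorem F156329 : act 6 n101140 = n101529 := d14_5 F156328 (iv6 D99496) (iv7 F155806) D47111 D101140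
theorem F156330 : act 1 n101130 = n101529 := d15_1 D101130 F156328 F155799
theorem F156331 : act 0 n101140 = n47336 := d21_4 D22717 D47232 D101529 (iv6 F156329) (iv6 F74549) D88837 F156326 (iv5 D101525) (iv6 D47231) (iv1 D22716)
theorem F156332 : act 1 n99501 = n47336 := d15_0 (iv0 F156331) (iv7 D101140) (iv2 F155814)
theorem F156333 : act 1 n101529 = n101129 := d15_0 (iv0 D101129) D101131 (iv2 F156327)
def n101530 : Q := act 6 n47232
theorem D101530 : act 6 n47232 = n101530 := rfl
theorem F156334 : act 5 n101530 = n47424 := d21_6 (iv5 D21417) F66220 D37856 F58721 D47232 D101530 (iv1 D47424) D47425 F74627 F66262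
theorem F156335 : act 6 n99701 = n47424 := d12_4 (iv6 D101530) D101529 (iv6 F156329) F155845 (iv5 F156334)
theorem F156337 : act 0 n47331 = n101140 := d21_1 D47331 F155845 F156335 (iv1 D47424) (iv6 D22779) (iv5 D10766) (iv1 D4919) D4920 (iv6 F17286) D22744
theorem F156338 : act 1 n47331 = n99501 := d15_1 (iv0 F156337) F155815 (iv2 F155844)
def n101531 : Q := act 4 n47233
theorem D101531 : act 4 n47233 = n101531 := rfl
def n101532 : Q := act 6 n47233
theorem D101532 : act 6 n47233 = n101532 := rfl
theorem F156342 : act 5 n101532 = n101127 := d12_1 D101532 (iv6 D101127) (iv5 D47105) D47106 F74496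
def n101533 : Q := act 0 n47234
theorem D101533 : act 0 n47234 = n101533 := rfl
def n101534 : Q := act 1 n47234
theorem D101534 : act 1 n47234 = n101534 := rfl
def n101535 : Q := act 3 n47234
theorem D101535 : act 3 n47234 = n101535 := rfl
def n101536 : Q := act 5 n47234
theorem D101536 : act 5 n47234 = n101536 := rfl
def n101537 : Q := act 7 n47234
theorem D101537 : act 7 n47234 = n101537 := rfl
theorem F156343 : act 4 n101537 = n47235 := d11_1 D101537 (iv7 D47235) D47234
def n101538 : Q := act 6 n47235
theorem D101538 : act 6 n47235 = n101538 := rfl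
theorem F156344 : act 7 n101538 = n96138 := d14_2 D47235 D101538 (iv6 D96138) F70465 F58721
def n101539 : Q := act 0 n47236
theorem D101539 : act 0 n47236 = n101539 := rfl
theorem F156345 : act 1 n47240 = n101539 := d15_0 (iv0 D101539) F155117 (iv2 F155128)
def n101540 : Q := act 5 n47236
theorem D101540 : act 5 n47236 = n101540 := rfl
theorem F156346 : act 2 n101540 = n47239 := d2_1 D101540 (iv5 D47239) (iv2 F74498)
theorem F156347 : act 7 n101540 = n85942 := d13_2 (iv7 F155117) D101540 (iv5 D85942)
def n101541 : Q := act 2 n47237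
theorem D101541 : act 2 n47237 = n101541 := rfl
theorem F156348 : act 7 n47238 = n101541 := d15_2 (iv0 D47237) D47238 (iv2 D101541)
def n101542 : Q := act 3 n47237
theorem D101542 : act 3 n47237 = n101542 := rfl
def n101543 : Q := act 5 n47237
theorem D101543 : act 5 n47237 = n101543 := rfl
def n101544 : Q := act 6 n47237
theorem D101544 : act 6 n47237 = n101544 := rfl
def n101545 : Q := act 7 n47237
theorem D101545 : act 7 n47237 = n101545 := rfl
theorem F156349 : act 2 n101545 = n47238 := d4_1 D101545 F156348 (iv2 D101541)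
def n101546 : Q := act 3 n47238
theorem D101546 : act 3 n47238 = n101546 := rfl
def n101547 : Q := act 4 n47238
theorem D101547 : act 4 n47238 = n101547 := rfl
def n101548 : Q := act 5 n47238
theorem D101548 : act 5 n47238 = n101548 := rfl
def n101549 : Q := act 6 n47238
theorem D101549 : act 6 n47238 = n101549 := rfl
def n101550 : Q := act 0 n47239
theorem D101550 : act 0 n47239 = n101550 := rfl
def n101551 : Q := act 1 n47239
theorem D101551 : act 1 n47239 = n101551 := rfl
theorem F156350 : act 1 n101551 = n85942 := d15_1 D101551 (iv7 F156347) F156346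
def n101552 : Q := act 4 n47239
theorem D101552 : act 4 n47239 = n101552 := rfl
def n101553 : Q := act 7 n47239
theorem D101553 : act 7 n47239 = n101553 := rfl
theorem F156351 : act 2 n101553 = n85942 := d4_1 D101553 (iv7 F156347) F156346
theorem F156352 : act 3 n101553 = n47254 := d8_1 D101553 (iv7 D47254) (iv3 F74500)
theorem F156353 : act 5 n101553 = n47240 := d13_1 D101553 (iv7 D47240) D47239
theorem F156354 : act 1 n85942 = n101550 := d15_0 (iv0 D101550) D101553 F156351
def n101554 : Q := act 0 n47241
theorem D101554 : act 0 n47241 = n101554 := rfl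
theorem F156355 : act 1 n47246 = n101554 := d15_0 (iv0 D101554) (iv7 F74503) (iv2 F74504)
def n101556 : Q := act 3 n47241
theorem D101556 : act 3 n47241 = n101556 := rfl
theorem F156357 : act 7 n101556 = n47247 := d8_2 F74503 D101556 (iv3 D47247)
def n101557 : Q := act 5 n47241
theorem D101557 : act 5 n47241 = n101557 := rfl
theorem F156358 : act 2 n101557 = n47244 := d2_1 D101557 (iv5 D47244) D47241
theorem F156359 : act 7 n101557 = n47249 := d13_2 F74503 D101557 (iv5 D47249)
def n101558 : Q := act 6 n47241
theorem D101558 : act 6 n47241 = n101558 := rfl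
theorem F156360 : act 2 n101558 = n47245 := d3_1 D101558 (iv6 D47245) D47241
def n101559 : Q := act 0 n47244
theorem D101559 : act 0 n47244 = n101559 := rfl
theorem F156361 : act 5 n101559 = n88842 := d21_2 D47244 D101559 (iv6 D88842) (iv1 D41474) (iv6 D19526) (iv5 D9192) (iv1 F13492) (iv5 F13493) D10750 D22722
def n101560 : Q := act 1 n47244
theorem D101560 : act 1 n47244 = n101560 := rfl
theorem F156362 : act 1 n101560 = n47249 := d15_1 D101560 (iv7 F156359) F156358
theorem F156363 : act 5 n101560 = n89321 := d21_2 D47249 (iv1 F156362) (iv6 F153523) (iv1 F153524) (iv6 F155794) (iv5 F155795) (iv1 F136887) F74497 (iv6 F64264) (iv1 F64266)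
theorem E15319 : n47308 = n47250 := (c21_5 F155836 (iv1 D47304) (iv5 D22737) D22738 D47308 (iv6 D47250) D47249 (iv1 F156362) F156363 (iv6 F153523) (iv1 F153524))
theorem F156364 : act 1 n47250 = n22738 := (sb E15319 (iv0 D47308))
theorem F156365 : act 6 n97801 = n101560 := d12_0 F156363 (iv6 F153523) (iv5 D99727) D99728 F153527
theorem F156366 : act 7 n89320 = n101560 := d13_0 F156363 (iv7 D89321) D89320
theorem F156367 : act 0 n47245 = n83808 := d21_10 (iv5 F155785) (iv1 F155789) (iv5 D47110) D47111 F155790 F153523 (iv5 F156363) (iv1 D101560) (iv5 D47244) D47245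
theorem F156368 : act 2 n89320 = n101559 := d15_3 (iv0 D101559) D101560 (iv7 F156366)
theorem E15320 : n89306 = n88842 := ((c2_3 D89320 F156368 F156361 F137011)).symm
theorem F156369 : act 1 n88842 = n99441 := (sb E15320 F153526)
theorem F156370 : act 2 n88842 = n41719 := (sb E15320 F137011)
theorem E15321 : n41715 = n41474 := ((((iv6 D88842)).symm.trans (sb E15320 (iv6 D89306)))).symm
theorem E15322 : n89280 = n19526 := ((((iv1 D41474)).symm.trans (sb E15321 (iv1 F136991)))).symm
theorem E15324 : n88838 = n19632 := (((iv2 F136210)).symm.trans (sb E15321 F64355))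
theorem E15325 : n89291 = n88839 := (((D88839).symm.trans (sb E15321 (iv3 F137000)))).symm
theorem E15326 : n89297 = n88840 := (((D88840).symm.trans (sb E15321 (iv4 F137004)))).symm
theorem E15327 : n89302 = n88841 := (((D88841).symm.trans (sb E15321 (iv5 F137009)))).symm
theorem E15328 : n88834 = n19631 := ((F136209).symm.trans (sb E15321 (iv7 D41715)))
theorem E15329 : n41710 = n41473 := (((D41473).symm.trans (sb E15322 (iv1 D89280)))).symm
theorem F156371 : act 2 n19632 = n41474 := (sb E15324 F136210)
theorem F156372 : act 7 n88839 = n41711 := (sb E15325 (iv7 D89291))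
theorem F156373 : act 2 n88840 = n41717 := (sb E15326 F137003)
theorem F156374 : act 7 n88840 = n41712 := (sb E15326 (iv7 D89297))
theorem F156375 : act 2 n88841 = n41718 := (sb E15327 F137008)
theorem F156376 : act 7 n88841 = n41713 := (sb E15327 (iv7 D89302))
theorem F156377 : act 7 n19631 = n41474 := (sb E15328 (iv7 F136209))
theorem F156378 : act 2 n41473 = n19631 := (sb E15329 (iv2 D41710))
theorem E15330 : n89281 = n88835 := (((D88835).symm.trans (sb E15329 D89281))).symm
theorem E15331 : n89282 = n88836 := (((D88836).symm.trans (sb E15329 D89282))).symm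
theorem E15332 : n89283 = n88837 := (((D88837).symm.trans (sb E15329 D89283))).symm
theorem E15333 : n89284 = n47336 := (((F74549).symm.trans (sb E15329 D89284))).symm
theorem F156379 : act 7 n41473 = n19632 := (sb E15329 (iv7 F64354))
theorem F156380 : act 7 n88835 = n41716 := (sb E15330 F136992)
theorem F156381 : act 2 n88836 = n41712 := (sb E15331 F136993)
theorem F156382 : act 7 n88836 = n41717 := (sb E15331 F136994)
theorem F156383 : act 2 n88837 = n41713 := (sb E15332 F136995)
theorem F156384 : act 7 n88837 = n41718 := (sb E15332 F136996)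
theorem F156385 : act 2 n47336 = n41714 := (sb E15333 F136997)
theorem E15334 : n99729 = n22745 := ((((iv5 D47336)).symm.trans (sb E15333 (iv5 F153529)))).symm
theorem F156386 : act 7 n47336 = n99727 := (sb E15333 F153521)
theorem E15335 : n47333 = n46589 := (((iv2 F74548)).symm.trans (sb E15334 F153528))
theorem E15336 : n47328 = n46588 := ((F74547).symm.trans (sb E15334 (iv7 D99729)))
theorem F156387 : act 2 n46589 = n22745 := (sb E15335 F74548)
theorem E15337 : n99724 = n22744 := ((F153518).symm.trans (sb E15335 (iv7 D47333)))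
theorem F156388 : act 7 n46588 = n22745 := (sb E15336 (iv7 F74547))
theorem F156389 : act 2 n22744 = n46588 := (sb E15337 (iv2 D99724))
theorem E15338 : n89305 = n47331 := (((D47331).symm.trans (sb E15337 F153519))).symm
theorem F156390 : act 7 n22744 = n46589 := (sb E15337 (iv7 F153518))
theorem F156391 : act 2 n47331 = n99727 := (sb E15338 (iv2 F153520))
theorem F156392 : act 7 n47331 = n41714 := (sb E15338 (iv7 D89305))
theorem F156393 : act 7 n88842 = n100934 := d14_4 F156392 (iv6 D41714) F156377 D88842 (iv6 F155073)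
theorem F156394 : act 2 n100934 = n89321 := d4_1 F156393 (iv7 D89321) (iv2 F156370)
theorem E15339 : n89319 = n47040 := (c15_1 D89319 D100934 (iv7 F156393) F156370)
theorem E15340 : n100933 = n41719 := ((D100933).symm.trans (sb E15339 (iv1 D89319)))
theorem F156395 : act 1 n41719 = n47040 := (sb E15340 (iv0 D100933))
theorem F156396 : act 2 n100935 = n89318 := d15_3 (iv0 D89318) F156395 D100935
theorem F156397 : act 7 n89318 = n100915 := d4_2 D100935 F156396 F155060
theorem F156398 : act 6 n100951 = n89318 := d14_5 F156397 (iv6 D100915) (iv7 F74290) D47045 D100951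
theorem F156399 : act 1 n100934 = n89318 := d15_1 D100934 F156397 F155060
theorem F156400 : act 0 n100951 = n89342 := d21_10 F137026 (iv1 D83810) (iv5 D38611) (iv6 D18383) F13566 D10750 D22724 D47251 (iv5 F137015) (iv6 F156398)
theorem F156401 : act 1 n100936 = n89342 := d15_0 (iv0 F156400) (iv7 D100951) (iv2 F155074)
theorem F156402 : act 7 n99730 = n47329 := d8_2 F156390 D99730 (iv3 D47329)
theorem F156403 : act 7 n99731 = n47330 := d11_2 F156390 D99731 (iv4 D47330)
theorem F156404 : act 2 n99726 = n47330 := d1_3 (iv4 D47330) F156389 D99726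
theorem F156405 : act 2 n99728 = n47332 := d3_3 (iv6 D47332) F156389 D99728
theorem F156406 : act 2 n99079 = n97801 := d2_3 (iv5 F153527) F156405 F152599
theorem F156407 : act 7 n97800 = n99079 := d15_2 F152602 F152603 F156406
theorem F156408 : act 7 n99078 = n97801 := d15_2 F152598 F152601 (iv2 F156406)
theorem F156409 : act 2 n97800 = n99078 := d4_3 F156408 (iv2 F156406) (iv7 F156407)
theorem F156410 : act 7 n47334 = n99725 := d8_2 F156388 D47334 (iv3 D99725)
theorem F156411 : act 7 n47335 = n99726 := d11_2 F156388 D47335 (iv4 D99726)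
theorem F156412 : act 2 n99731 = n47335 := d4_3 F156411 F156404 (iv7 F156403)
theorem F156413 : act 2 n47337 = n99732 := d3_3 (iv6 D99732) F156387 D47337
theorem F156414 : act 1 n88841 = n101525 := d15_0 (iv0 F156326) F156384 (iv2 F156375)
def n101561 : Q := act 4 n47244
theorem D101561 : act 4 n47244 = n101561 := rfl
def n101562 : Q := act 6 n47244
theorem D101562 : act 6 n47244 = n101562 := rfl
def n101563 : Q := act 7 n47244
theorem D101563 : act 7 n47244 = n101563 := rfl
theorem F156415 : act 2 n101563 = n47249 := d4_1 D101563 (iv7 F156359) F156358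
theorem F156416 : act 5 n101563 = n47246 := d13_1 D101563 (iv7 D47246) D47244
theorem F156417 : act 1 n47249 = n101559 := d15_0 (iv0 D101559) D101563 F156415
def n101564 : Q := act 1 n47245
theorem D101564 : act 1 n47245 = n101564 := rfl
def n101565 : Q := act 7 n47245
theorem D101565 : act 7 n47245 = n101565 := rfl
def n101566 : Q := act 6 n47246
theorem D101566 : act 6 n47246 = n101566 := rfl
theorem F156418 : act 2 n101566 = n47250 := d3_1 D101566 (iv6 D47250) (iv2 F74504)
theorem F156419 : act 7 n47309 = n101566 := d15_2 F156364 D47309 F156418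
theorem E15341 : n101565 = n101144 := (c14_5 F156419 (iv6 D101566) (iv7 D47246) D47245 D101565 F155847)
theorem F156420 : act 7 n101144 = n47245 := (sb E15341 (iv7 D101565))
theorem E15342 : n101146 = n99503 := ((c13_2 F156420 F153259 (iv7 D101146) D101144)).symm
theorem F156421 : act 2 n99503 = n47113 := (sb E15342 F155848)
theorem F156422 : act 7 n99503 = n47112 := (sb E15342 (iv7 D101146))
theorem F156423 : act 7 n101142 = n88014 := d8_2 F156422 D101142 F155189
theorem E15343 : n101141 = n99502 := (c15_4 (iv0 D99502) D99503 F156422 D101141)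
theorem F156424 : act 2 n99502 = n47112 := (sb E15343 (iv2 D101141))
theorem F156425 : act 7 n99502 = n47113 := (sb E15343 (iv7 F155846))
theorem F156426 : act 2 n101142 = n88013 := d15_3 (iv0 D88013) D88014 (iv7 F156423)
theorem E15344 : n101558 = n89129 := ((c2_3 F153259 F156421 (iv5 F136837) F156360)).symm
theorem F156427 : act 2 n89129 = n47245 := (sb E15344 F156360)
theorem E15345 : n47241 = n41639 := ((((iv6 D89129)).symm.trans (sb E15344 (iv6 D101558)))).symm
theorem E15346 : n101554 = n22725 := ((((iv1 F64265)).symm.trans (sb E15345 D101554))).symm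
theorem E15348 : n89125 = n22722 := ((D89125).symm.trans (sb E15345 (iv2 D47241)))
theorem E15349 : n101556 = n89126 := (((D89126).symm.trans (sb E15345 D101556))).symm
theorem E15350 : n83764 = n75559 := ((((iv4 F155416)).symm.trans (sb E15345 F155182))).symm
theorem E15351 : n101557 = n89128 := (((D89128).symm.trans (sb E15345 D101557))).symm
theorem E15352 : n89130 = n22723 := ((D89130).symm.trans (sb E15345 (iv7 F74503)))
theorem E15353 : n47246 = n41640 := ((((iv1 F64260)).symm.trans (sb E15346 (iv1 F156355)))).symm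
theorem F156428 : act 2 n22722 = n41639 := (sb E15348 (iv2 D89125))
theorem E15354 : n88076 = n45805 := ((((iv3 F155151)).symm.trans (sb E15348 F155423))).symm
theorem F156429 : act 7 n89126 = n47247 := (sb E15349 F156357)
theorem F156430 : act 2 n75559 = n38598 := (sb E15350 (iv2 D83764))
theorem F156431 : act 7 n75559 = n38599 := (sb E15350 (iv7 F128810))
theorem F156432 : act 2 n89128 = n47244 := (sb E15351 F156358)
theorem F156433 : act 7 n89128 = n47249 := (sb E15351 F156359)
theorem F156434 : act 7 n22723 = n41639 := (sb E15352 (iv7 D89130))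
theorem F156435 : act 2 n41640 = n22723 := (sb E15353 F74504)
theorem E15355 : n98093 = n41130 := ((((iv3 F155420)).symm.trans (sb E15353 F155187))).symm
theorem E15356 : n83769 = n75560 := (((F155419).symm.trans (sb E15353 F155180))).symm
theorem E15357 : n101563 = n89133 := (((D89133).symm.trans (sb E15353 (iv5 F156416)))).symm
theorem E15358 : n101566 = n89134 := (((D89134).symm.trans (sb E15353 D101566))).symm
theorem F156436 : act 7 n41640 = n22722 := (sb E15353 (iv7 D47246))
theorem E15359 : n98089 = n41129 := ((D98089).symm.trans (sb E15354 (iv2 D88076)))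
theorem E15360 : n88081 = n45806 := (((iv2 F135075)).symm.trans (sb E15355 F151236))
theorem F156437 : act 7 n41130 = n45805 := (sb E15355 (iv7 D98093))
theorem F156438 : act 2 n75560 = n38599 := (sb E15356 F128812)
theorem F156439 : act 7 n75560 = n38598 := (sb E15356 (iv7 D83769))
theorem F156440 : act 2 n89133 = n47249 := (sb E15357 F156415)
theorem F156441 : act 7 n89133 = n47244 := (sb E15357 (iv7 D101563))
theorem F156442 : act 2 n89134 = n47250 := (sb E15358 F156418)
theorem F156443 : act 7 n89134 = n47309 := (sb E15358 (iv7 F156419))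
theorem F156444 : act 2 n41129 = n45805 := (sb E15359 (iv2 D98089))
theorem F156445 : act 2 n45806 = n41130 := (sb E15360 F135075)
theorem F156446 : act 7 n45806 = n41129 := (sb E15360 (iv7 D88081))
theorem F156447 : act 7 n88077 = n98094 := d8_2 F156446 D88077 (iv3 D98094)
theorem F156448 : act 7 n88078 = n98095 := d11_2 F156446 D88078 (iv4 D98095)
theorem F156449 : act 7 n88079 = n98096 := d13_2 F156446 D88079 (iv5 D98096)
theorem F156450 : act 2 n88083 = n98095 := d1_3 (iv4 D98095) F156445 D88083
theorem F156451 : act 2 n88084 = n98096 := d2_3 (iv5 D98096) F156445 D88084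
theorem F156452 : act 2 n88085 = n98097 := d3_3 (iv6 D98097) F156445 D88085
theorem F156453 : act 2 n98090 = n88078 := d1_3 (iv4 D88078) F156444 D98090
theorem F156454 : act 2 n98091 = n88079 := d2_3 (iv5 D88079) F156444 D98091
theorem F156455 : act 2 n98092 = n88080 := d3_3 (iv6 D88080) F156444 D98092
theorem F156456 : act 2 n99889 = n88014 := d2_3 (iv5 F151235) F156455 F153792
theorem F156457 : act 7 n88013 = n99889 := d4_0 F156456 (iv7 F156423) F156426
theorem E15361 : n101142 = n99888 := ((c15_2 F153791 F153797 F156423 (iv2 F156456))).symm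
theorem F156458 : act 2 n99888 = n88013 := (sb E15361 F156426)
theorem F156459 : act 3 n99888 = n47112 := (sb E15361 (iv3 D101142))
theorem F156460 : act 7 n99888 = n88014 := (sb E15361 F156423)
theorem F156461 : act 7 n98092 = n88166 := d13_2 F156460 (iv5 F151235) F153799
theorem F156462 : act 3 n88166 = n101144 := d8_1 F156461 F156420 F155186
theorem F156463 : act 7 n101332 = n88085 := d14_2 F156461 F156111 (iv6 D88085) F156437 D98092
theorem F156464 : act 3 n47309 = n101332 := d8_3 F156463 (iv3 F155422) F156443
theorem E15362 : n101331 = n98097 := ((c15_4 (iv0 D101331) D101332 F156463 F156452)).symm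
theorem F156465 : act 1 n98097 = n47173 := (sb E15362 (iv0 D101331))
theorem F156466 : act 7 n88084 = n98091 := d4_0 F156454 F156449 (iv2 F156451)
theorem F156467 : act 7 n88083 = n98090 := d4_0 F156453 F156448 (iv2 F156450)
theorem F156468 : act 1 n85343 = n88083 := d15_1 (iv0 F135073) F156467 F156453
theorem F156469 : act 1 n89133 = n89320 := d15_0 (iv0 F137016) F156433 (iv2 F156440)
def n101567 : Q := act 0 n47247
theorem D101567 : act 0 n47247 = n101567 := rfl
theorem F156470 : act 4 n101567 = n85568 := d20_0 (iv1 D85568) (iv4 F92414) (iv3 D58498) (iv1 F44945) D39706 (iv4 F113413) (iv1 F113416) F155153 D47247 D101567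
theorem F156471 : act 1 n88077 = n101567 := d15_0 (iv0 D101567) (iv7 F156429) (iv2 F155424)
def n101569 : Q := act 4 n47247
theorem D101569 : act 4 n47247 = n101569 := rfl
def n101572 : Q := act 4 n47249
theorem D101572 : act 4 n47249 = n101572 := rfl
def n101573 : Q := act 6 n47249
theorem D101573 : act 6 n47249 = n101573 := rfl
theorem F156477 : act 0 n97791 = n101573 := d21_4 F127386 D94090 F144977 D97791 (iv6 D101573) (iv5 D47249) (iv1 D22723) D22724 (iv6 F58835) D82688
def n101574 : Q := act 0 n47250
theorem D101574 : act 0 n47250 = n101574 := rfl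
theorem F156478 : act 5 n101574 = n100907 := d21_0 (iv1 F155050) (iv5 D89337) (iv6 D41724) (iv1 F63919) D88842 (iv5 F156361) (iv1 F156417) (iv5 D47249) D47250 D101574
theorem F156479 : act 2 n47311 = n101574 := d15_3 (iv0 D101574) F156364 D47311
theorem F156480 : act 7 n101574 = n47289 := d4_2 D47311 F156479 F74527
theorem F156481 : act 6 n47327 = n101574 := d14_5 F156480 (iv6 D47289) (iv7 F35297) D22743 D47327
theorem F156482 : act 1 n47309 = n101574 := d15_1 D47309 F156480 F74527
theorem F156483 : act 0 n47327 = n89181 := d21_10 F136880 (iv1 D47047) (iv5 D22616) (iv6 D10718) D10717 D22613 D47034 D100907 (iv5 F156478) (iv6 F156481)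
theorem F156484 : act 1 n47312 = n89181 := d15_0 (iv0 F156483) (iv7 D47327) (iv2 F74542)
def n101575 : Q := act 5 n47250
theorem D101575 : act 5 n47250 = n101575 := rfl
theorem F156485 : act 0 n89341 = n101575 := d21_1 D89341 (iv5 D101575) (iv6 D47250) (iv1 D22723) (iv6 D10750) F13493 F13491 (iv5 F14429) D19635 D41725
def n101576 : Q := act 7 n47250
theorem D101576 : act 7 n47250 = n101576 := rfl
theorem F156486 : act 2 n101576 = n47309 := d4_1 D101576 (iv7 F156443) F156442
def n101577 : Q := act 2 n47251
theorem D101577 : act 2 n47251 = n101577 := rfl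
theorem F156487 : act 5 n101577 = n100935 := d2_2 F137015 D101577 F156396
theorem F156488 : act 7 n47252 = n101577 := d15_2 (iv0 D47251) D47252 (iv2 D101577)
def n101578 : Q := act 3 n47251
theorem D101578 : act 3 n47251 = n101578 := rfl
def n101579 : Q := act 4 n47251
theorem D101579 : act 4 n47251 = n101579 := rfl
def n101580 : Q := act 6 n47251
theorem D101580 : act 6 n47251 = n101580 := rfl
def n101581 : Q := act 7 n47251
theorem D101581 : act 7 n47251 = n101581 := rfl
theorem F156489 : act 2 n101581 = n47252 := d4_1 D101581 F156488 (iv2 D101577)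
theorem F156490 : act 5 n101581 = n100915 := d13_1 D101581 (iv7 F156397) F137015
def n101582 : Q := act 3 n47252
theorem D101582 : act 3 n47252 = n101582 := rfl
theorem F156491 : act 5 n101582 = n100921 := d6_2 F74505 D101582 F155062
def n101583 : Q := act 6 n47252
theorem D101583 : act 6 n47252 = n101583 := rfl
theorem F156492 : act 5 n101583 = n100931 := d12_1 D101583 (iv6 D100931) (iv5 D47039) D47040 F74505
def n101584 : Q := act 0 n47253
theorem D101584 : act 0 n47253 = n101584 := rfl
def n101585 : Q := act 1 n47253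
theorem D101585 : act 1 n47253 = n101585 := rfl
theorem F156493 : act 4 n101585 = n88959 := d18_7 (iv1 F64078) F155439 (iv1 D37900) F29336 D22724 D47253 D101585 F136530 F72952
def n101590 : Q := act 1 n47256
theorem D101590 : act 1 n47256 = n101590 := rfl
theorem F156498 : act 7 n101590 = n71785 := d15_2 (iv0 F128592) D101590 (iv2 F128588)
theorem F156499 : act 4 n101590 = n48996 := d17_9 (iv1 F116532) F116534 (iv1 D73417) (iv5 F108071) F116236 F116235 F149198 F112921 D101590
theorem F156500 : act 3 n48994 = n101590 := d20_3 (iv4 F25860) F51512 D48994 (iv1 D101590) (iv3 D47256) D47257 (iv1 F74509) (iv4 F87044) (iv3 D55046) F42609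
theorem F156501 : act 2 n101590 = n77608 := d0_1 F156500 (iv3 D77608) (iv2 F59330) (iv3 F71638) (iv2 F77324)
def n101591 : Q := act 4 n47256
theorem D101591 : act 4 n47256 = n101591 := rfl
theorem F156502 : act 2 n101591 = n57449 := d1_1 D101591 (iv4 F128410) F128409
theorem F156504 : act 5 n101591 = n57448 := d16_3 (iv4 F112922) F112921 D101591 F90634 D57476 (iv4 F147903) F147902 F107438 F107439
theorem F156507 : act 3 n101591 = n86448 := d20_3 (iv4 F156499) (iv1 D101590) D101591 (iv1 D86448) (iv3 D40043) F30225 (iv1 F15961) (iv4 F30242) D40065 F77331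
def n101592 : Q := act 6 n47256
theorem D101592 : act 6 n47256 = n101592 := rfl
theorem F156508 : act 3 n101592 = n47259 := d7_1 D101592 (iv6 D47259) D47256
def n101593 : Q := act 3 n47257
theorem D101593 : act 3 n47257 = n101593 := rfl
theorem F156509 : act 2 n101593 = n86546 := d0_1 D101593 F132781 F128643 (iv3 D79218) (iv2 F125568)
theorem F156510 : act 4 n101593 = n86448 := d5_2 D47257 D101593 (iv3 F156507) (iv4 D101591) (iv3 D47256)
def n101594 : Q := act 5 n47257
theorem D101594 : act 5 n47257 = n101594 := rfl
theorem F156513 : act 2 n101594 = n79219 := d2_1 D101594 (iv5 D79219) (iv2 F125568)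
theorem F156514 : act 7 n101594 = n79215 := d13_2 (iv7 F125569) D101594 (iv5 D79215)
theorem F156517 : act 4 n101594 = n77045 := d18_5 (iv1 D47162) F35274 D22726 D47257 D101594 (iv0 D77045) (iv4 F57555) D80454 F123670
theorem F156518 : act 2 n77045 = n80409 := d1_1 F156517 (iv4 F123580) (iv2 F156513)
theorem F156519 : act 7 n77045 = n80408 := d11_2 (iv7 F156514) F156517 F123576
theorem F156520 : act 2 n80408 = n77046 := d15_3 F115773 F115772 F156519
theorem F156521 : act 7 n80409 = n77046 := d4_2 (iv7 F156519) F156518 (iv2 F156520)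
def n101595 : Q := act 6 n47257
theorem D101595 : act 6 n47257 = n101595 := rfl
def n101596 : Q := act 0 n47259
theorem D101596 : act 0 n47259 = n101596 := rfl
def n101597 : Q := act 1 n47259
theorem D101597 : act 1 n47259 = n101597 := rfl
def n101598 : Q := act 5 n47259
theorem D101598 : act 5 n47259 = n101598 := rfl
def n101599 : Q := act 7 n47259
theorem D101599 : act 7 n47259 = n101599 := rfl
def n101600 : Q := act 5 n47262
theorem D101600 : act 5 n47262 = n101600 := rfl
theorem F156525 : act 3 n101600 = n86370 := d6_1 D101600 F132382 F128670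
theorem F156527 : act 0 n101600 = n56279 := d17_2 F74513 D101600 (iv5 D56279) F43836 D36493 (iv0 F116282) (iv5 D77460) (iv0 F87047) F87044
theorem F156529 : act 4 n101600 = n77046 := d18_5 (iv1 F74442) F62349 (iv1 F59059) D47262 D101600 F115773 (iv4 F107224) F123664 (iv5 F123665)
def n101601 : Q := act 6 n47262
theorem D101601 : act 6 n47262 = n101601 := rfl
def n101602 : Q := act 0 n47264
theorem D101602 : act 0 n47264 = n101602 := rfl
def n101603 : Q := act 1 n47264
theorem D101603 : act 1 n47264 = n101603 := rfl
def n101604 : Q := act 5 n47264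
theorem D101604 : act 5 n47264 = n101604 := rfl
def n101605 : Q := act 7 n47264
theorem D101605 : act 7 n47264 = n101605 := rfl
def n101606 : Q := act 0 n47265
theorem D101606 : act 0 n47265 = n101606 := rfl
def n101607 : Q := act 1 n47265
theorem D101607 : act 1 n47265 = n101607 := rfl
theorem F156532 : act 1 n101607 = n47269 := d15_1 D101607 (iv7 D47269) (iv2 F74514)
def n101608 : Q := act 5 n47265
theorem D101608 : act 5 n47265 = n101608 := rfl
theorem F156533 : act 2 n101608 = n47268 := d2_1 D101608 (iv5 D47268) (iv2 F74514)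
def n101609 : Q := act 7 n47265
theorem D101609 : act 7 n47265 = n101609 := rfl
theorem F156534 : act 2 n101609 = n47269 := d4_1 D101609 (iv7 D47269) (iv2 F74514)
theorem F156535 : act 1 n47269 = n101606 := d15_0 (iv0 D101606) D101609 F156534
theorem F156536 : act 1 n47267 = n101609 := d15_1 D47267 (iv7 D101609) F74514
theorem F156537 : act 1 n101609 = n47266 := d15_0 (iv0 D47266) D47269 (iv2 F156534)
def n101610 : Q := act 2 n47266
theorem D101610 : act 2 n47266 = n101610 := rfl
theorem F156538 : act 7 n47267 = n101610 := d15_2 (iv0 D47266) D47267 (iv2 D101610)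
def n101611 : Q := act 3 n47266
theorem D101611 : act 3 n47266 = n101611 := rfl
def n101612 : Q := act 4 n47266
theorem D101612 : act 4 n47266 = n101612 := rfl
def n101613 : Q := act 5 n47266
theorem D101613 : act 5 n47266 = n101613 := rfl
def n101614 : Q := act 6 n47266
theorem D101614 : act 6 n47266 = n101614 := rfl
def n101615 : Q := act 7 n47266
theorem D101615 : act 7 n47266 = n101615 := rfl
theorem F156539 : act 2 n101615 = n47267 := d4_1 D101615 F156538 (iv2 D101610)
def n101616 : Q := act 3 n47267
theorem D101616 : act 3 n47267 = n101616 := rfl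
def n101617 : Q := act 4 n47267
theorem D101617 : act 4 n47267 = n101617 := rfl
def n101618 : Q := act 5 n47267
theorem D101618 : act 5 n47267 = n101618 := rfl
def n101619 : Q := act 6 n47267
theorem D101619 : act 6 n47267 = n101619 := rfl
def n101620 : Q := act 0 n47268
theorem D101620 : act 0 n47268 = n101620 := rfl
def n101621 : Q := act 1 n47268
theorem D101621 : act 1 n47268 = n101621 := rfl
def n101622 : Q := act 4 n47268
theorem D101622 : act 4 n47268 = n101622 := rfl
def n101623 : Q := act 7 n47268
theorem D101623 : act 7 n47268 = n101623 := rfl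
theorem F156540 : act 3 n101623 = n47283 := d8_1 D101623 (iv7 D47283) (iv3 F74515)
theorem F156541 : act 5 n101623 = n47269 := d13_1 D101623 (iv7 D47269) D47268
def n101624 : Q := act 0 n47270
theorem D101624 : act 0 n47270 = n101624 := rfl
theorem F156542 : act 1 n47275 = n101624 := d15_0 (iv0 D101624) (iv7 F74517) (iv2 F74518)
def n101626 : Q := act 3 n47270
theorem D101626 : act 3 n47270 = n101626 := rfl
theorem F156544 : act 7 n101626 = n47276 := d8_2 F74517 D101626 (iv3 D47276)
def n101627 : Q := act 4 n47270
theorem D101627 : act 4 n47270 = n101627 := rfl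
theorem F156545 : act 2 n101627 = n47272 := d1_1 D101627 (iv4 D47272) D47270
theorem F156546 : act 7 n101627 = n47277 := d11_2 F74517 D101627 (iv4 D47277)
def n101628 : Q := act 5 n47270
theorem D101628 : act 5 n47270 = n101628 := rfl
theorem F156547 : act 2 n101628 = n47273 := d2_1 D101628 (iv5 D47273) D47270
theorem F156548 : act 7 n101628 = n47278 := d13_2 F74517 D101628 (iv5 D47278)
def n101629 : Q := act 6 n47270
theorem D101629 : act 6 n47270 = n101629 := rfl
theorem F156549 : act 2 n101629 = n47274 := d3_1 D101629 (iv6 D47274) D47270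
def n101634 : Q := act 5 n47271
theorem D101634 : act 5 n47271 = n101634 := rfl
theorem F156550 : act 3 n101634 = n47273 := d6_1 D101634 (iv5 D47273) D47271
def n101635 : Q := act 6 n47271
theorem D101635 : act 6 n47271 = n101635 := rfl
theorem F156551 : act 3 n101635 = n47274 := d7_1 D101635 (iv6 D47274) D47271
def n101636 : Q := act 7 n47271
theorem D101636 : act 7 n47271 = n101636 := rfl
theorem F156552 : act 3 n101636 = n47275 := d8_1 D101636 (iv7 D47275) D47271
def n101638 : Q := act 1 n47272
theorem D101638 : act 1 n47272 = n101638 := rfl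
theorem F156553 : act 1 n101638 = n47277 := d15_1 D101638 (iv7 F156546) F156545
def n101641 : Q := act 6 n47272
theorem D101641 : act 6 n47272 = n101641 := rfl
theorem F156554 : act 4 n101641 = n47274 := d10_1 D101641 (iv6 D47274) D47272
def n101642 : Q := act 7 n47272
theorem D101642 : act 7 n47272 = n101642 := rfl
theorem F156555 : act 2 n101642 = n47277 := d4_1 D101642 (iv7 F156546) F156545
theorem F156556 : act 4 n101642 = n47275 := d11_1 D101642 (iv7 D47275) D47272
def n101643 : Q := act 0 n47273
theorem D101643 : act 0 n47273 = n101643 := rfl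
theorem F156558 : act 5 n101643 = n83533 := d17_3 D22730 D47273 D101643 (iv4 F155364) (iv5 F74536) (iv0 D47303) (iv5 D22737) (iv0 D10753) (iv4 F17285)
def n101644 : Q := act 1 n47273
theorem D101644 : act 1 n47273 = n101644 := rfl
theorem F156559 : act 1 n101644 = n47278 := d15_1 D101644 (iv7 F156548) F156547
def n101645 : Q := act 4 n47273
theorem D101645 : act 4 n47273 = n101645 := rfl
def n101646 : Q := act 6 n47273
theorem D101646 : act 6 n47273 = n101646 := rfl
def n101647 : Q := act 7 n47273
theorem D101647 : act 7 n47273 = n101647 := rfl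
theorem F156560 : act 2 n101647 = n47278 := d4_1 D101647 (iv7 F156548) F156547
theorem F156561 : act 5 n101647 = n47275 := d13_1 D101647 (iv7 D47275) D47273
theorem F156562 : act 1 n47278 = n101643 := d15_0 (iv0 D101643) D101647 F156560
def n101648 : Q := act 0 n47274
theorem D101648 : act 0 n47274 = n101648 := rfl
def n101649 : Q := act 1 n47274
theorem D101649 : act 1 n47274 = n101649 := rfl
theorem F156563 : act 4 n101649 = n47309 := d17_9 (iv1 D47309) D47310 F74541 (iv5 D47034) F35156 D34587 D75625 (iv5 F113465) D101649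
def n101650 : Q := act 7 n47274
theorem D101650 : act 7 n47274 = n101650 := rfl
def n101651 : Q := act 6 n47275
theorem D101651 : act 6 n47275 = n101651 := rfl
theorem F156564 : act 2 n101651 = n47279 := d3_1 D101651 (iv6 D47279) (iv2 F74518)
def n101652 : Q := act 0 n47276
theorem D101652 : act 0 n47276 = n101652 := rfl
def n101653 : Q := act 1 n47276
theorem D101653 : act 1 n47276 = n101653 := rfl
def n101654 : Q := act 2 n47276
theorem D101654 : act 2 n47276 = n101654 := rfl
def n101655 : Q := act 4 n47276
theorem D101655 : act 4 n47276 = n101655 := rfl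
def n101656 : Q := act 5 n47276
theorem D101656 : act 5 n47276 = n101656 := rfl
theorem F156565 : act 3 n101656 = n47278 := d6_1 D101656 (iv5 D47278) D47276
def n101657 : Q := act 6 n47276
theorem D101657 : act 6 n47276 = n101657 := rfl
theorem F156566 : act 3 n101657 = n47279 := d7_1 D101657 (iv6 D47279) D47276
def n101660 : Q := act 6 n47277
theorem D101660 : act 6 n47277 = n101660 := rfl
theorem F156567 : act 4 n101660 = n47279 := d10_1 D101660 (iv6 D47279) D47277
def n101661 : Q := act 4 n47278
theorem D101661 : act 4 n47278 = n101661 := rfl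
def n101662 : Q := act 6 n47278
theorem D101662 : act 6 n47278 = n101662 := rfl
def n101663 : Q := act 0 n47279
theorem D101663 : act 0 n47279 = n101663 := rfl
def n101664 : Q := act 1 n47279
theorem D101664 : act 1 n47279 = n101664 := rfl
def n101665 : Q := act 5 n47279
theorem D101665 : act 5 n47279 = n101665 := rfl
theorem F156568 : act 0 n83571 = n101665 := d21_1 D83571 (iv5 D101665) (iv6 D47279) (iv1 D22731) (iv6 D10752) (iv5 F13299) F13300 D8648 D18355 D38527
theorem E15363 : n101660 = n98500 := (c17_5 D38527 D83571 F156568 (iv5 D101665) (iv4 F156567) (iv5 F154036) (iv0 D100100) (iv5 D46730) (iv0 D22404) (iv4 F29539))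
theorem F156569 : act 4 n98500 = n47279 := (sb E15363 F156567)
theorem E15364 : n47277 = n46061 := ((((iv6 D98500)).symm.trans (sb E15363 (iv6 D101660)))).symm
theorem E15365 : n101638 = n22003 := ((((iv1 D46061)).symm.trans (sb E15364 (iv1 F156553)))).symm
theorem E15367 : n101642 = n98496 := ((((iv2 F151901)).symm.trans (sb E15364 (iv2 F156555)))).symm
theorem E15369 : n98498 = n22731 := ((D98498).symm.trans (sb E15364 (iv4 D47277)))
theorem E15371 : n101627 = n98491 := (((F151900).symm.trans (sb E15364 (iv7 F156546)))).symm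
theorem E15372 : n47272 = n46060 := (((D46060).symm.trans (sb E15365 (iv1 D101638)))).symm
theorem F156570 : act 4 n98496 = n47275 := (sb E15367 F156556)
theorem F156571 : act 4 n22731 = n46061 := (sb E15369 (iv4 D98498))
theorem F156572 : act 4 n98491 = n47270 := (sb E15371 (iv4 D101627))
theorem E15374 : n98493 = n22730 := ((D98493).symm.trans (sb E15372 (iv4 D47272)))
theorem E15376 : n101641 = n98495 := (((D98495).symm.trans (sb E15372 D101641))).symm
theorem F156573 : act 4 n22730 = n46060 := (sb E15374 (iv4 D98493))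
theorem F156574 : act 4 n98495 = n47274 := (sb E15376 F156554)
theorem F156575 : act 4 n98501 = n47338 := d18_1 D98501 (iv1 F153539) F153536 F73573 (iv4 F59440) F59443 F156573 (iv0 D46060) D46062
def n101666 : Q := act 7 n47279
theorem D101666 : act 7 n47279 = n101666 := rfl
def n101667 : Q := act 2 n47280
theorem D101667 : act 2 n47280 = n101667 := rfl
theorem F156576 : act 7 n47281 = n101667 := d15_2 (iv0 D47280) D47281 (iv2 D101667)
def n101668 : Q := act 3 n47280
theorem D101668 : act 3 n47280 = n101668 := rfl
def n101669 : Q := act 4 n47280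
theorem D101669 : act 4 n47280 = n101669 := rfl
def n101670 : Q := act 5 n47280
theorem D101670 : act 5 n47280 = n101670 := rfl
def n101671 : Q := act 6 n47280
theorem D101671 : act 6 n47280 = n101671 := rfl
def n101672 : Q := act 7 n47280
theorem D101672 : act 7 n47280 = n101672 := rfl
theorem F156577 : act 2 n101672 = n47281 := d4_1 D101672 F156576 (iv2 D101667)
def n101673 : Q := act 3 n47281
theorem D101673 : act 3 n47281 = n101673 := rfl
def n101674 : Q := act 4 n47281
theorem D101674 : act 4 n47281 = n101674 := rfl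
def n101675 : Q := act 5 n47281
theorem D101675 : act 5 n47281 = n101675 := rfl
theorem F156578 : act 6 n75629 = n101675 := d21_5 F13561 (iv1 F12385) (iv5 F27540) D34589 D75629 (iv5 D101675) (iv1 D47281) (iv5 D22732) (iv6 D10752) (iv1 F13560)
def n101676 : Q := act 6 n47281
theorem D101676 : act 6 n47281 = n101676 := rfl
def n101677 : Q := act 0 n47282
theorem D101677 : act 0 n47282 = n101677 := rfl
def n101678 : Q := act 1 n47282
theorem D101678 : act 1 n47282 = n101678 := rfl
def n101679 : Q := act 3 n47282
theorem D101679 : act 3 n47282 = n101679 := rfl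
def n101680 : Q := act 5 n47282
theorem D101680 : act 5 n47282 = n101680 := rfl
def n101681 : Q := act 7 n47282
theorem D101681 : act 7 n47282 = n101681 := rfl
theorem F156579 : act 4 n101681 = n47283 := d11_1 D101681 (iv7 D47283) D47282
def n101682 : Q := act 6 n47283
theorem D101682 : act 6 n47283 = n101682 := rfl
def n101693 : Q := act 0 n47286
theorem D101693 : act 0 n47286 = n101693 := rfl
theorem F156582 : act 1 n47315 = n101693 := d15_0 (iv0 D101693) F74522 D47315
def n101694 : Q := act 1 n47286
theorem D101694 : act 1 n47286 = n101694 := rfl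
def n101695 : Q := act 2 n47286
theorem D101695 : act 2 n47286 = n101695 := rfl
theorem F156584 : act 7 n101695 = n47315 := d4_2 (iv7 F74522) D101695 (iv2 D47315)
theorem F156585 : act 1 n101695 = n47313 := d15_0 (iv0 D47313) (iv7 F74522) D101695
theorem F156586 : act 1 n101694 = n47315 := d15_1 D101694 (iv7 F156584) (iv2 D101695)
theorem F156587 : act 1 n47314 = n101695 := d15_1 D47314 F156584 (iv2 D47315)
def n101696 : Q := act 4 n47286
theorem D101696 : act 4 n47286 = n101696 := rfl
theorem F156588 : act 7 n101696 = n47316 := d11_2 (iv7 F74522) D101696 (iv4 D47316)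
def n101698 : Q := act 6 n47286
theorem D101698 : act 6 n47286 = n101698 := rfl
theorem F156591 : act 3 n101698 = n47289 := d7_1 D101698 (iv6 D47289) D47286
def n101702 : Q := act 5 n47287
theorem D101702 : act 5 n47287 = n101702 := rfl
theorem F156595 : act 2 n101702 = n47300 := d2_1 D101702 (iv5 D47300) (iv2 F74523)
theorem F156596 : act 7 n101702 = n47320 := d13_2 (iv7 F74524) D101702 (iv5 D47320)
def n101703 : Q := act 6 n47287
theorem D101703 : act 6 n47287 = n101703 := rfl
theorem F156597 : act 2 n101703 = n47301 := d3_1 D101703 (iv6 D47301) (iv2 F74523)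
theorem F156598 : act 4 n101703 = n47289 := d10_1 D101703 (iv6 D47289) D47287
def n101706 : Q := act 4 n47288
theorem D101706 : act 4 n47288 = n101706 := rfl
theorem F156601 : act 2 n101706 = n47305 := d1_1 D101706 (iv4 D47305) (iv2 F74525)
theorem F156602 : act 7 n101706 = n47322 := d11_2 (iv7 F74526) D101706 (iv4 D47322)
def n101707 : Q := act 6 n47288
theorem D101707 : act 6 n47288 = n101707 := rfl
theorem F156603 : act 2 n101707 = n47306 := d3_1 D101707 (iv6 D47306) (iv2 F74525)
def n101708 : Q := act 0 n47289
theorem D101708 : act 0 n47289 = n101708 := rfl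
theorem F156604 : act 1 n47311 = n101708 := d15_0 (iv0 D101708) (iv7 F156480) (iv2 F156479)
def n101709 : Q := act 1 n47289
theorem D101709 : act 1 n47289 = n101709 := rfl
theorem F156605 : act 1 n101709 = n47311 := d15_1 D101709 (iv7 D47311) (iv2 F74527)
def n101710 : Q := act 5 n47289
theorem D101710 : act 5 n47289 = n101710 := rfl
theorem F156606 : act 2 n101710 = n47310 := d2_1 D101710 (iv5 D47310) (iv2 F74527)
theorem F156607 : act 7 n101710 = n100907 := d13_2 F156480 D101710 (iv5 F156478)
def n101711 : Q := act 0 n47290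
theorem D101711 : act 0 n47290 = n101711 := rfl
theorem F156608 : act 2 n47296 = n101711 := d15_3 (iv0 D101711) (iv0 D47290) D47296
theorem F156609 : act 3 n101711 = n47315 := d0_2 (iv3 F74530) F156608 (iv2 D47315) (iv3 D22740) (iv2 F35298)
theorem F156610 : act 7 n101711 = n47292 := d4_2 D47296 F156608 (iv2 D47292)
theorem F156611 : act 1 n47291 = n101711 := d15_1 D47291 F156610 (iv2 D47292)
def n101712 : Q := act 2 n47290
theorem D101712 : act 2 n47290 = n101712 := rfl
theorem F156612 : act 7 n47291 = n101712 := d15_2 (iv0 D47290) D47291 (iv2 D101712)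
def n101713 : Q := act 3 n47290
theorem D101713 : act 3 n47290 = n101713 := rfl
def n101714 : Q := act 4 n47290
theorem D101714 : act 4 n47290 = n101714 := rfl
def n101715 : Q := act 5 n47290
theorem D101715 : act 5 n47290 = n101715 := rfl
def n101716 : Q := act 6 n47290
theorem D101716 : act 6 n47290 = n101716 := rfl
def n101717 : Q := act 7 n47290
theorem D101717 : act 7 n47290 = n101717 := rfl
theorem F156613 : act 2 n101717 = n47291 := d4_1 D101717 F156612 (iv2 D101712)
def n101722 : Q := act 0 n47292
theorem D101722 : act 0 n47292 = n101722 := rfl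
theorem F156614 : act 1 n47296 = n101722 := d15_0 (iv0 D101722) (iv7 F156610) (iv2 F156608)
def n101723 : Q := act 1 n47292
theorem D101723 : act 1 n47292 = n101723 := rfl
theorem F156615 : act 1 n101723 = n47296 := d15_1 D101723 (iv7 D47296) D47292
def n101724 : Q := act 4 n47292
theorem D101724 : act 4 n47292 = n101724 := rfl
theorem F156616 : act 2 n101724 = n47293 := d1_1 D101724 (iv4 D47293) D47292
def n101725 : Q := act 5 n47292
theorem D101725 : act 5 n47292 = n101725 := rfl
theorem F156617 : act 2 n101725 = n47294 := d2_1 D101725 (iv5 D47294) D47292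
def n101726 : Q := act 6 n47292
theorem D101726 : act 6 n47292 = n101726 := rfl
theorem F156618 : act 2 n101726 = n47295 := d3_1 D101726 (iv6 D47295) D47292
def n101727 : Q := act 0 n47293
theorem D101727 : act 0 n47293 = n101727 := rfl
def n101728 : Q := act 1 n47293
theorem D101728 : act 1 n47293 = n101728 := rfl
def n101729 : Q := act 3 n47293
theorem D101729 : act 3 n47293 = n101729 := rfl
theorem F156619 : act 4 n101729 = n47299 := d5_2 D47293 D101729 (iv3 D47299) (iv4 D22736) D22735
def n101730 : Q := act 5 n47293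
theorem D101730 : act 5 n47293 = n101730 := rfl
def n101731 : Q := act 6 n47293
theorem D101731 : act 6 n47293 = n101731 := rfl
theorem F156620 : act 4 n101731 = n47295 := d10_1 D101731 (iv6 D47295) D47293
def n101732 : Q := act 7 n47293
theorem D101732 : act 7 n47293 = n101732 := rfl
theorem F156621 : act 4 n101732 = n47296 := d11_1 D101732 (iv7 D47296) D47293
def n101733 : Q := act 0 n47294
theorem D101733 : act 0 n47294 = n101733 := rfl
def n101734 : Q := act 1 n47294
theorem D101734 : act 1 n47294 = n101734 := rfl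
def n101735 : Q := act 4 n47294
theorem D101735 : act 4 n47294 = n101735 := rfl
def n101736 : Q := act 6 n47294
theorem D101736 : act 6 n47294 = n101736 := rfl
theorem F156622 : act 3 n101736 = n47306 := d7_1 D101736 (iv6 D47306) (iv3 F74528)
def n101737 : Q := act 7 n47294
theorem D101737 : act 7 n47294 = n101737 := rfl
theorem F156624 : act 5 n101737 = n47296 := d13_1 D101737 (iv7 D47296) D47294
def n101738 : Q := act 0 n47295
theorem D101738 : act 0 n47295 = n101738 := rfl
def n101739 : Q := act 1 n47295
theorem D101739 : act 1 n47295 = n101739 := rfl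
def n101740 : Q := act 5 n47295
theorem D101740 : act 5 n47295 = n101740 := rfl
theorem F156625 : act 3 n101740 = n47310 := d6_1 D101740 (iv5 D47310) (iv3 F74529)
def n101741 : Q := act 7 n47295
theorem D101741 : act 7 n47295 = n101741 := rfl
theorem F156626 : act 3 n101741 = n47311 := d8_1 D101741 (iv7 D47311) (iv3 F74529)
def n101744 : Q := act 3 n47297
theorem D101744 : act 3 n47297 = n101744 := rfl
def n101745 : Q := act 4 n47297
theorem D101745 : act 4 n47297 = n101745 := rfl
def n101746 : Q := act 5 n47297
theorem D101746 : act 5 n47297 = n101746 := rfl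
def n101747 : Q := act 6 n47297
theorem D101747 : act 6 n47297 = n101747 := rfl
def n101752 : Q := act 6 n47298
theorem D101752 : act 6 n47298 = n101752 := rfl
def n101753 : Q := act 0 n47299
theorem D101753 : act 0 n47299 = n101753 := rfl
def n101754 : Q := act 1 n47299
theorem D101754 : act 1 n47299 = n101754 := rfl
def n101755 : Q := act 2 n47299
theorem D101755 : act 2 n47299 = n101755 := rfl
def n101756 : Q := act 5 n47299
theorem D101756 : act 5 n47299 = n101756 := rfl
theorem F156630 : act 3 n101756 = n47300 := d6_1 D101756 (iv5 D47300) D47299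
def n101757 : Q := act 6 n47299
theorem D101757 : act 6 n47299 = n101757 := rfl
theorem F156631 : act 3 n101757 = n47301 := d7_1 D101757 (iv6 D47301) D47299
def n101758 : Q := act 7 n47299
theorem D101758 : act 7 n47299 = n101758 := rfl
theorem F156632 : act 3 n101758 = n47302 := d8_1 D101758 (iv7 D47302) D47299
def n101759 : Q := act 0 n47300
theorem D101759 : act 0 n47300 = n101759 := rfl
def n101760 : Q := act 1 n47300
theorem D101760 : act 1 n47300 = n101760 := rfl
theorem F156633 : act 1 n101760 = n47320 := d15_1 D101760 (iv7 F156596) F156595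
def n101761 : Q := act 4 n47300
theorem D101761 : act 4 n47300 = n101761 := rfl
def n101762 : Q := act 6 n47300
theorem D101762 : act 6 n47300 = n101762 := rfl
def n101763 : Q := act 7 n47300
theorem D101763 : act 7 n47300 = n101763 := rfl
theorem F156634 : act 2 n101763 = n47320 := d4_1 D101763 (iv7 F156596) F156595
theorem F156635 : act 5 n101763 = n47302 := d13_1 D101763 (iv7 D47302) D47300
theorem F156636 : act 1 n47320 = n101759 := d15_0 (iv0 D101759) D101763 F156634
def n101764 : Q := act 0 n47301
theorem D101764 : act 0 n47301 = n101764 := rfl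
def n101765 : Q := act 1 n47301
theorem D101765 : act 1 n47301 = n101765 := rfl
def n101766 : Q := act 5 n47301
theorem D101766 : act 5 n47301 = n101766 := rfl
def n101767 : Q := act 7 n47301
theorem D101767 : act 7 n47301 = n101767 := rfl
theorem F156637 : act 4 n101767 = n47311 := d11_1 D101767 (iv7 D47311) (iv4 F74532)
def n101768 : Q := act 6 n47302
theorem D101768 : act 6 n47302 = n101768 := rfl
theorem F156638 : act 2 n101768 = n47321 := d3_1 D101768 (iv6 D47321) (iv2 F74533)
def n101769 : Q := act 3 n47303
theorem D101769 : act 3 n47303 = n101769 := rfl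
theorem F156640 : act 5 n101769 = n101137 := d6_2 (iv5 F74536) D101769 F155842
def n101770 : Q := act 4 n47303
theorem D101770 : act 4 n47303 = n101770 := rfl
def n101771 : Q := act 6 n47303
theorem D101771 : act 6 n47303 = n101771 := rfl
theorem F156641 : act 5 n101771 = n101139 := d12_1 D101771 (iv6 D101139) (iv5 D47110) D47111 (iv5 F74536)
def n101772 : Q := act 3 n47304
theorem D101772 : act 3 n47304 = n101772 := rfl
def n101773 : Q := act 4 n47304
theorem D101773 : act 4 n47304 = n101773 := rfl
def n101774 : Q := act 0 n47305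
theorem D101774 : act 0 n47305 = n101774 := rfl
def n101775 : Q := act 1 n47305
theorem D101775 : act 1 n47305 = n101775 := rfl
theorem F156642 : act 1 n101775 = n47322 := d15_1 D101775 (iv7 F156602) F156601
def n101776 : Q := act 3 n47305
theorem D101776 : act 3 n47305 = n101776 := rfl
def n101777 : Q := act 5 n47305
theorem D101777 : act 5 n47305 = n101777 := rfl
def n101778 : Q := act 6 n47305
theorem D101778 : act 6 n47305 = n101778 := rfl
theorem F156643 : act 4 n101778 = n47306 := d10_1 D101778 (iv6 D47306) D47305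
def n101779 : Q := act 7 n47305
theorem D101779 : act 7 n47305 = n101779 := rfl
theorem F156644 : act 2 n101779 = n47322 := d4_1 D101779 (iv7 F156602) F156601
theorem F156645 : act 4 n101779 = n47307 := d11_1 D101779 (iv7 D47307) D47305
theorem F156646 : act 1 n47322 = n101774 := d15_0 (iv0 D101774) D101779 F156644
def n101780 : Q := act 0 n47306
theorem D101780 : act 0 n47306 = n101780 := rfl
def n101781 : Q := act 1 n47306
theorem D101781 : act 1 n47306 = n101781 := rfl
def n101782 : Q := act 5 n47306
theorem D101782 : act 5 n47306 = n101782 := rfl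
theorem F156647 : act 6 n101782 = n47310 := d12_2 D47306 D101782 (iv5 D47310) (iv6 D22738) D22737
def n101783 : Q := act 7 n47306
theorem D101783 : act 7 n47306 = n101783 := rfl
def n101784 : Q := act 6 n47307
theorem D101784 : act 6 n47307 = n101784 := rfl
theorem F156648 : act 2 n101784 = n47323 := d3_1 D101784 (iv6 D47323) (iv2 F74538)
def n101785 : Q := act 5 n47309
theorem D101785 : act 5 n47309 = n101785 := rfl
def n101786 : Q := act 4 n47310
theorem D101786 : act 4 n47310 = n101786 := rfl
def n101787 : Q := act 7 n47310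
theorem D101787 : act 7 n47310 = n101787 := rfl
theorem F156649 : act 2 n101787 = n100907 := d4_1 D101787 (iv7 F156607) F156606
theorem F156650 : act 5 n101787 = n47311 := d13_1 D101787 (iv7 D47311) D47310
def n101788 : Q := act 6 n47311
theorem D101788 : act 6 n47311 = n101788 := rfl
theorem F156651 : act 2 n101788 = n47327 := d3_1 D101788 F156481 (iv2 F156479)
theorem F156652 : act 7 n101788 = n47312 := d14_2 D47311 D101788 (iv6 D47312) (iv7 D22739) D22738
theorem F156653 : act 1 n47325 = n101788 := d15_1 D47325 F156652 F74542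
theorem F156654 : act 1 n101788 = n47324 := d15_0 (iv0 D47324) D47327 (iv2 F156651)
def n101789 : Q := act 0 n47312
theorem D101789 : act 0 n47312 = n101789 := rfl
theorem F156655 : act 1 n47327 = n101789 := d15_0 (iv0 D101789) (iv7 F156652) F156651
def n101790 : Q := act 5 n47312
theorem D101790 : act 5 n47312 = n101790 := rfl
theorem F156656 : act 2 n101790 = n47326 := d2_1 D101790 (iv5 D47326) (iv2 F74542)
theorem F156657 : act 7 n100929 = n101790 := d15_2 (iv0 F74546) D100929 F156656
theorem F156658 : act 5 n101788 = n100929 := d13_3 F156657 (iv5 D101790) (iv7 F156652)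
theorem E15377 : n101708 = n89134 := ((c21_4 D89320 (iv1 F156469) (iv5 D89133) D89134 (iv1 F156604) D101788 F156658 (iv1 D100929) (iv5 D47039) D47040 (iv1 F156395))).symm
theorem F156659 : act 0 n89134 = n47311 := (sb E15377 (iv1 F156604))
theorem F156660 : act 1 n89134 = n47289 := (sb E15377 (iv0 D101708))
theorem E15378 : n101709 = n101576 := (c15_2 F156660 D101709 (iv7 D101576) (iv2 F156442))
theorem F156661 : act 0 n101576 = n47289 := (sb E15378 (iv1 D101709))
theorem F156662 : act 1 n101576 = n47311 := (sb E15378 F156605)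
theorem E15379 : n101787 = n89348 := (c21_1 (iv5 F156650) (iv1 F155052) F155049 F74286 (iv1 F63924) D41719 D89320 (iv1 F156469) (iv5 D89133) D89134 F156659)
theorem F156663 : act 2 n89348 = n100907 := (sb E15379 F156649)
theorem F156664 : act 5 n89348 = n47311 := (sb E15379 F156650)
theorem F156665 : act 7 n89348 = n47310 := (sb E15379 (iv7 D101787))
theorem E15380 : n101710 = n89349 := (c15_4 F155051 F155052 F156665 (iv2 F156606))
theorem F156666 : act 2 n89349 = n47310 := (sb E15380 F156606)
theorem E15381 : n47289 = n46582 := ((((iv5 F137028)).symm.trans (sb E15380 (iv5 D101710)))).symm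
theorem F156667 : act 7 n89349 = n100907 := (sb E15380 F156607)
theorem E15382 : n99705 = n89134 := ((D99705).symm.trans (sb E15381 (iv1 F156660)))
theorem E15383 : n101576 = n99706 := (((D99706).symm.trans (sb E15381 (iv0 F156661)))).symm
theorem E15384 : n99686 = n22738 := (((iv2 F153497)).symm.trans (sb E15381 F74527))
theorem E15385 : n101698 = n99692 := ((((iv3 F153499)).symm.trans (sb E15381 (iv3 F156591)))).symm
theorem E15386 : n101703 = n99698 := ((((iv4 F153502)).symm.trans (sb E15381 (iv4 F156598)))).symm
theorem E15387 : n22734 = n22319 := ((((iv6 D46582)).symm.trans (sb E15381 (iv6 D47289)))).symm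
theorem E15388 : n101574 = n99707 := (((D99707).symm.trans (sb E15381 (iv7 F156480)))).symm
theorem F156668 : act 1 n89134 = n46582 := (sb E15382 (iv0 D99705))
theorem F156669 : act 1 n99706 = n47311 := (sb E15383 F156662)
theorem F156670 : act 2 n99706 = n47309 := (sb E15383 F156486)
theorem F156671 : act 7 n99706 = n47250 := (sb E15383 (iv7 D101576))
theorem F156672 : act 2 n22738 = n46582 := (sb E15384 F153497)
theorem E15389 : n46578 = n10753 := ((((iv6 D22738)).symm.trans (sb E15384 (iv6 D99686)))).symm
theorem E15390 : n47286 = n46579 := ((((iv6 D99692)).symm.trans (sb E15385 (iv6 D101698)))).symm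
theorem F156673 : act 2 n99698 = n47301 := (sb E15386 F156597)
theorem E15391 : n47287 = n46580 := ((((iv6 D99698)).symm.trans (sb E15386 (iv6 D101703)))).symm
theorem E15394 : n47288 = n46581 := (((D46581).symm.trans (sb E15387 D47288))).symm
theorem E15395 : n46583 = n10754 := ((D46583).symm.trans (sb E15387 (iv7 F35297)))
theorem F156674 : act 0 n99707 = n47309 := (sb E15388 (iv1 F156482))
theorem F156675 : act 1 n99707 = n47250 := (sb E15388 (iv0 D101574))
theorem F156676 : act 2 n99707 = n47311 := (sb E15388 (iv2 F156479))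
theorem F156677 : act 5 n99707 = n100907 := (sb E15388 F156478)
theorem F156678 : act 6 n99707 = n47327 := (sb E15388 (iv6 F156481))
theorem F156679 : act 2 n10753 = n22319 := (sb E15389 (iv2 D46578))
theorem E15398 : n99683 = n22735 := (((D22735).symm.trans (sb E15389 D99683))).symm
theorem E15399 : n99684 = n22736 := (((D22736).symm.trans (sb E15389 D99684))).symm
theorem E15400 : n99685 = n22737 := (((D22737).symm.trans (sb E15389 D99685))).symm
theorem E15401 : n22739 = n22320 := ((D22739).symm.trans (sb E15389 (iv7 F73566)))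
theorem E15402 : n101693 = n99687 := (((D99687).symm.trans (sb E15390 D101693))).symm
theorem E15403 : n101694 = n99688 := (((D99688).symm.trans (sb E15390 D101694))).symm
theorem E15404 : n101695 = n99689 := (((D99689).symm.trans (sb E15390 D101695))).symm
theorem E15405 : n101696 = n99690 := (((D99690).symm.trans (sb E15390 D101696))).symm
theorem E15407 : n99693 = n22740 := ((D99693).symm.trans (sb E15390 F74522))
theorem E15411 : n101702 = n99697 := (((D99697).symm.trans (sb E15391 D101702))).symm
theorem E15412 : n99699 = n22741 := ((D99699).symm.trans (sb E15391 F74524))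
theorem E15425 : n101706 = n99702 := (((D99702).symm.trans (sb E15394 D101706))).symm
theorem E15426 : n101707 = n99703 := (((D99703).symm.trans (sb E15394 D101707))).symm
theorem E15427 : n99704 = n22742 := ((D99704).symm.trans (sb E15394 F74526))
theorem F156680 : act 7 n10754 = n22319 := (sb E15395 (iv7 D46583))
theorem E15429 : n47296 = n46584 := ((D47296).symm.trans (sb E15398 F153492))
theorem F156681 : act 2 n22736 = n46580 := (sb E15399 F153493)
theorem E15430 : n47302 = n46585 := ((D47302).symm.trans (sb E15399 F153494))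
theorem F156682 : act 2 n22737 = n46581 := (sb E15400 F153495)
theorem E15431 : n47307 = n46586 := ((D47307).symm.trans (sb E15400 F153496))
theorem F156683 : act 2 n22320 = n10754 := (sb E15401 F35298)
theorem E15432 : n47312 = n46587 := (((D46587).symm.trans (sb E15401 D47312))).symm
theorem F156684 : act 7 n22320 = n10753 := (sb E15401 (iv7 D22739))
theorem F156685 : act 0 n99687 = n47315 := (sb E15402 (iv1 F156582))
theorem F156686 : act 1 n99688 = n47315 := (sb E15403 F156586)
theorem F156687 : act 0 n99689 = n47314 := (sb E15404 (iv1 F156587))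
theorem F156688 : act 1 n99689 = n47313 := (sb E15404 F156585)
theorem F156690 : act 7 n99689 = n47315 := (sb E15404 F156584)
theorem F156691 : act 7 n99690 = n47316 := (sb E15405 F156588)
theorem F156693 : act 7 n22740 = n46579 := (sb E15407 (iv7 D99693))
theorem F156695 : act 2 n99697 = n47300 := (sb E15411 F156595)
theorem F156696 : act 7 n99697 = n47320 := (sb E15411 F156596)
theorem F156697 : act 7 n22741 = n46580 := (sb E15412 (iv7 D99699))
theorem F156698 : act 2 n99702 = n47305 := (sb E15425 F156601)
theorem F156699 : act 7 n99702 = n47322 := (sb E15425 F156602)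
theorem F156700 : act 2 n99703 = n47306 := (sb E15426 F156603)
theorem F156701 : act 7 n22742 = n46581 := (sb E15427 (iv7 D99704))
theorem E15433 : n101723 = n99709 := (((D99709).symm.trans (sb E15429 (iv1 F156615)))).symm
theorem E15434 : n101722 = n99710 := (((D99710).symm.trans (sb E15429 F156614))).symm
theorem E15435 : n101711 = n99711 := (((D99711).symm.trans (sb E15429 F156608))).symm
theorem E15436 : n101732 = n99712 := (((D99712).symm.trans (sb E15429 (iv4 F156621)))).symm
theorem E15437 : n101737 = n99713 := (((D99713).symm.trans (sb E15429 (iv5 F156624)))).symm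
theorem F156702 : act 7 n46584 = n22735 := (sb E15429 (iv7 D47296))
theorem F156703 : act 2 n46585 = n22741 := (sb E15430 F74533)
theorem E15439 : n101758 = n99715 := (((D99715).symm.trans (sb E15430 (iv3 F156632)))).symm
theorem E15440 : n101763 = n99716 := (((D99716).symm.trans (sb E15430 (iv5 F156635)))).symm
theorem E15441 : n101768 = n99717 := (((D99717).symm.trans (sb E15430 D101768))).symm
theorem F156704 : act 7 n46585 = n22736 := (sb E15430 (iv7 D47302))
theorem F156705 : act 2 n46586 = n22742 := (sb E15431 F74538)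
theorem E15442 : n101779 = n99718 := (((D99718).symm.trans (sb E15431 (iv4 F156645)))).symm
theorem E15443 : n101784 = n99719 := (((D99719).symm.trans (sb E15431 D101784))).symm
theorem F156706 : act 7 n46586 = n22737 := (sb E15431 (iv7 D47307))
theorem E15444 : n101789 = n99720 := (((D99720).symm.trans (sb E15432 D101789))).symm
theorem E15445 : n99721 = n89181 := ((D99721).symm.trans (sb E15432 F156484))
theorem F156707 : act 2 n46587 = n22743 := (sb E15432 F74542)
theorem E15446 : n101790 = n99722 := (((D99722).symm.trans (sb E15432 D101790))).symm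
theorem E15447 : n101788 = n99723 := (((D99723).symm.trans (sb E15432 (iv7 F156652)))).symm
theorem F156708 : act 0 n99709 = n47292 := (sb E15433 (iv1 D101723))
theorem F156709 : act 1 n99710 = n47292 := (sb E15434 (iv0 D101722))
theorem F156710 : act 0 n99711 = n47291 := (sb E15435 (iv1 F156611))
theorem F156711 : act 1 n99711 = n47290 := (sb E15435 (iv0 D101711))
theorem F156712 : act 3 n99711 = n47315 := (sb E15435 F156609)
theorem F156713 : act 7 n99711 = n47292 := (sb E15435 F156610)
theorem F156714 : act 7 n99712 = n47293 := (sb E15436 (iv7 D101732))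
theorem F156715 : act 7 n99713 = n47294 := (sb E15437 (iv7 D101737))
theorem F156716 : act 7 n99715 = n47299 := (sb E15439 (iv7 D101758))
theorem F156717 : act 2 n99716 = n47320 := (sb E15440 F156634)
theorem F156718 : act 7 n99716 = n47300 := (sb E15440 (iv7 D101763))
theorem F156719 : act 2 n99717 = n47321 := (sb E15441 F156638)
theorem F156720 : act 2 n99718 = n47322 := (sb E15442 F156644)
theorem F156721 : act 7 n99718 = n47305 := (sb E15442 (iv7 D101779))
theorem F156722 : act 2 n99719 = n47323 := (sb E15443 F156648)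
theorem F156723 : act 0 n99720 = n47327 := (sb E15444 (iv1 F156655))
theorem F156724 : act 0 n89181 = n46587 := (sb E15445 (iv1 D99721))
theorem F156725 : act 2 n99722 = n47326 := (sb E15446 F156656)
theorem F156726 : act 7 n99722 = n100929 := (sb E15446 (iv7 F156657))
theorem F156727 : act 0 n99723 = n47325 := (sb E15447 (iv1 F156653))
theorem F156728 : act 1 n99723 = n47324 := (sb E15447 F156654)
theorem F156729 : act 2 n99723 = n47327 := (sb E15447 F156651)
theorem F156730 : act 5 n99723 = n100929 := (sb E15447 F156658)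
theorem F156731 : act 6 n99723 = n47311 := (sb E15447 (iv6 D101788))
theorem E15448 : n47325 = n47226 := (c21_5 D41727 D89348 F156664 (iv6 F156731) F156727 (iv6 D47226) D47225 D101504 F156315 (iv6 D89347) (iv1 D41726))
theorem E15449 : n101509 = n22743 := ((D101509).symm.trans (sb E15448 (iv1 D47325)))
theorem E15450 : n101510 = n99723 := ((D101510).symm.trans (sb E15448 (iv0 F156727)))
theorem F156732 : act 1 n22743 = n47226 := (sb E15449 (iv0 D101509))
theorem F156733 : act 0 n99723 = n47226 := (sb E15450 (iv1 D101510))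
theorem F156734 : act 7 n47324 = n101490 := d15_2 (iv0 F156733) F156728 F156306
theorem F156735 : act 2 n101511 = n47324 := d4_3 F156734 F156306 D101511
theorem F156736 : act 6 n101526 = n47324 := d14_5 F156734 (iv6 D101490) (iv7 F74494) D47231 D101526
theorem F156737 : act 5 n89299 = n101526 := d21_2 D41718 (iv1 F137007) F156736 (iv1 F156728) F156731 (iv5 F156664) (iv1 F155052) F155049 F74286 (iv1 F63924)
theorem F156738 : act 0 n101526 = n47349 := d21_10 F136212 (iv1 D88844) (iv5 D41475) (iv6 D19526) (iv1 F17153) D22284 D46494 D99447 (iv5 F153183) (iv6 F156736)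
theorem F156739 : act 1 n101512 = n47349 := d15_0 (iv0 F156738) (iv7 D101526) (iv2 F156321)
theorem F156740 : act 7 n101525 = n89299 := d13_0 F156737 (iv7 D101526) D101525
theorem F156741 : act 2 n101525 = n89298 := d15_3 (iv0 D89298) D89299 (iv7 F156740)
theorem E15451 : n101512 = n89186 := ((c2_3 D101525 F156741 F137006 F156321)).symm
theorem F156742 : act 1 n89186 = n47349 := (sb E15451 F156739)
theorem F156743 : act 2 n89186 = n47231 := (sb E15451 F156321)
theorem E15452 : n47227 = n41658 := ((((iv6 D89186)).symm.trans (sb E15451 (iv6 D101512)))).symm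
theorem E15453 : n101486 = n19615 := ((((iv1 D41658)).symm.trans (sb E15452 (iv1 F156300)))).symm
theorem E15455 : n89182 = n22716 := (((iv2 F136881)).symm.trans (sb E15452 F74495))
theorem E15456 : n101497 = n89183 := (((D89183).symm.trans (sb E15452 (iv3 F156309)))).symm
theorem E15457 : n101503 = n89184 := (((D89184).symm.trans (sb E15452 (iv4 F156313)))).symm
theorem E15458 : n101508 = n89185 := (((D89185).symm.trans (sb E15452 (iv5 F156318)))).symm
theorem E15459 : n89177 = n22715 := ((F136879).symm.trans (sb E15452 (iv7 D47227)))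
theorem E15460 : n47222 = n41657 := (((D41657).symm.trans (sb E15453 (iv1 D101486)))).symm
theorem F156744 : act 2 n22716 = n41658 := (sb E15455 F136881)
theorem F156745 : act 7 n89183 = n47223 := (sb E15456 (iv7 D101497))
theorem F156747 : act 7 n89184 = n47224 := (sb E15457 (iv7 D101503))
theorem F156748 : act 2 n89185 = n47230 := (sb E15458 F156317)
theorem F156749 : act 7 n89185 = n47225 := (sb E15458 (iv7 D101508))
theorem F156750 : act 7 n22715 = n41658 := (sb E15459 (iv7 F136879))
theorem F156751 : act 2 n41657 = n22715 := (sb E15460 (iv2 D47222))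
theorem E15461 : n101487 = n89178 := (((D89178).symm.trans (sb E15460 D101487))).symm
theorem E15462 : n101488 = n89179 := (((D89179).symm.trans (sb E15460 D101488))).symm
theorem E15463 : n101489 = n89180 := (((D89180).symm.trans (sb E15460 D101489))).symm
theorem E15464 : n101490 = n89181 := (((D89181).symm.trans (sb E15460 D101490))).symm
theorem F156752 : act 7 n41657 = n22716 := (sb E15460 (iv7 F74494))
theorem F156753 : act 7 n89178 = n47228 := (sb E15461 F156301)
theorem F156754 : act 2 n89179 = n47224 := (sb E15462 F156302)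
theorem F156756 : act 2 n89180 = n47225 := (sb E15463 F156304)
theorem F156757 : act 7 n89180 = n47230 := (sb E15463 F156305)
theorem F156758 : act 2 n89181 = n47226 := (sb E15464 F156306)
theorem F156759 : act 7 n89181 = n47324 := (sb E15464 (iv7 F156734))
theorem E15465 : n100952 = n99447 := ((c13_2 F156759 F153183 (iv7 F155572) (iv5 F136880))).symm
theorem F156760 : act 2 n99447 = n47046 := (sb E15465 (iv2 D100952))
theorem F156761 : act 7 n99447 = n47047 := (sb E15465 (iv7 F155572))
theorem E15466 : n101511 = n99720 := (c15_4 (iv0 D99720) (iv0 F156724) F156759 (iv2 F156735))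
theorem F156762 : act 2 n99720 = n47324 := (sb E15466 F156735)
theorem F156763 : act 7 n99720 = n47226 := (sb E15466 (iv7 D101511))
theorem E15467 : n100956 = n99448 := ((c13_2 F156763 F153176 (iv7 D100956) (iv5 F153516))).symm
theorem F156764 : act 2 n99448 = n47047 := (sb E15467 F155574)
theorem F156765 : act 7 n99448 = n47046 := (sb E15467 (iv7 D100956))
def n101791 : Q := act 2 n47313
theorem D101791 : act 2 n47313 = n101791 := rfl
theorem F156766 : act 7 n47314 = n101791 := d15_2 (iv0 D47313) D47314 (iv2 D101791)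
def n101796 : Q := act 7 n47313
theorem D101796 : act 7 n47313 = n101796 := rfl
theorem F156767 : act 2 n101796 = n47314 := d4_1 D101796 F156766 (iv2 D101791)
def n101797 : Q := act 3 n47314
theorem D101797 : act 3 n47314 = n101797 := rfl
def n101798 : Q := act 4 n47314
theorem D101798 : act 4 n47314 = n101798 := rfl
def n101799 : Q := act 5 n47314
theorem D101799 : act 5 n47314 = n101799 := rfl
def n101800 : Q := act 6 n47314
theorem D101800 : act 6 n47314 = n101800 := rfl
def n101801 : Q := act 4 n47315
theorem D101801 : act 4 n47315 = n101801 := rfl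
theorem F156768 : act 2 n101801 = n47316 := d1_1 D101801 (iv4 D47316) D47315
def n101802 : Q := act 5 n47315
theorem D101802 : act 5 n47315 = n101802 := rfl
def n101803 : Q := act 6 n47315
theorem D101803 : act 6 n47315 = n101803 := rfl
theorem F156770 : act 2 n101803 = n47318 := d3_1 D101803 (iv6 D47318) D47315
def n101804 : Q := act 0 n47316
theorem D101804 : act 0 n47316 = n101804 := rfl
def n101805 : Q := act 1 n47316
theorem D101805 : act 1 n47316 = n101805 := rfl
def n101806 : Q := act 3 n47316
theorem D101806 : act 3 n47316 = n101806 := rfl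
theorem F156771 : act 4 n101806 = n47319 := d5_2 D47316 D101806 (iv3 D47319) (iv4 D22741) D22740
def n101807 : Q := act 5 n47316
theorem D101807 : act 5 n47316 = n101807 := rfl
def n101808 : Q := act 6 n47316
theorem D101808 : act 6 n47316 = n101808 := rfl
theorem F156772 : act 4 n101808 = n47318 := d10_1 D101808 (iv6 D47318) D47316
def n101813 : Q := act 0 n47318
theorem D101813 : act 0 n47318 = n101813 := rfl
def n101814 : Q := act 1 n47318
theorem D101814 : act 1 n47318 = n101814 := rfl
def n101815 : Q := act 5 n47318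
theorem D101815 : act 5 n47318 = n101815 := rfl
theorem F156774 : act 3 n101815 = n47326 := d6_1 D101815 (iv5 D47326) (iv3 F74544)
def n101816 : Q := act 7 n47318
theorem D101816 : act 7 n47318 = n101816 := rfl
theorem F156775 : act 3 n101816 = n47327 := d8_1 D101816 (iv7 D47327) (iv3 F74544)
def n101820 : Q := act 5 n47319
theorem D101820 : act 5 n47319 = n101820 := rfl
theorem F156776 : act 3 n101820 = n47320 := d6_1 D101820 (iv5 D47320) D47319
def n101821 : Q := act 6 n47319
theorem D101821 : act 6 n47319 = n101821 := rfl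
theorem F156777 : act 3 n101821 = n47321 := d7_1 D101821 (iv6 D47321) D47319
def n101822 : Q := act 4 n47320
theorem D101822 : act 4 n47320 = n101822 := rfl
def n101823 : Q := act 6 n47320
theorem D101823 : act 6 n47320 = n101823 := rfl
def n101824 : Q := act 0 n47321
theorem D101824 : act 0 n47321 = n101824 := rfl
def n101825 : Q := act 1 n47321
theorem D101825 : act 1 n47321 = n101825 := rfl
def n101826 : Q := act 5 n47321
theorem D101826 : act 5 n47321 = n101826 := rfl
theorem F156778 : act 1 n101826 = n83390 := d17_6 D22614 D47039 F74546 (iv5 D47326) (iv4 F74545) D101826 (iv5 D83390) (iv0 D38414) F29521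
theorem E15468 : n101752 = n18161 := (c21_6 D83390 (iv1 F156778) (iv5 D101826) (iv6 D47321) (iv1 F74531) D101752 F29332 (iv1 F13537) D8636 D18323 D38414)
theorem E15469 : n47298 = n37897 := (((D37897).symm.trans (sb E15468 (iv6 D101752)))).symm
theorem E15470 : n82550 = n22736 := ((D82550).symm.trans (sb E15469 (iv1 D47298)))
theorem E15471 : n82551 = n22741 := ((D82551).symm.trans (sb E15469 F74531))
theorem E15477 : n98117 = n47297 := (((D47297).symm.trans (sb E15470 (iv1 F151283)))).symm
theorem F156779 : act 1 n22736 = n37897 := (sb E15470 (iv0 D82550))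
theorem F156780 : act 0 n22741 = n37897 := (sb E15471 (iv1 D82551))
theorem F156781 : act 2 n47297 = n82553 := (sb E15477 F151278)
theorem E15478 : n101745 = n46063 := ((D101745).symm.trans (sb E15477 F151279))
theorem E15479 : n101747 = n82557 := ((D101747).symm.trans (sb E15477 F151280))
theorem F156782 : act 7 n47297 = n45821 := (sb E15477 (iv7 D98117))
theorem F156783 : act 4 n46063 = n47297 := (sb E15478 (iv4 D101745))
theorem F156784 : act 6 n82557 = n47297 := (sb E15479 (iv6 D101747))
theorem F156785 : act 7 n98109 = n101744 := d8_2 F156782 (iv3 F151267) (iv3 D101744)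
theorem F156786 : act 7 n98116 = n101746 := d13_2 F156782 D98116 (iv5 D101746)
theorem F156787 : act 0 n101766 = n83201 := d21_7 (iv5 D8625) D8622 (iv5 F29332) D37897 (iv1 F156779) D47301 D101766 (iv5 D83201) (iv6 D38298) (iv1 D18289)
theorem F156788 : act 5 n101759 = n83212 := d21_2 D47300 D101759 (iv6 D83212) (iv1 D38300) (iv6 D18290) (iv5 D8625) D8622 (iv5 F29332) D37897 (iv1 F156779)
theorem F156789 : act 1 n83212 = n89296 := d17_8 (iv1 F155791) (iv5 F74536) (iv1 F74540) (iv5 D22742) D22741 D47320 F156636 F156788 F137002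
def n101827 : Q := act 7 n47321
theorem D101827 : act 7 n47321 = n101827 := rfl
theorem F156790 : act 4 n101827 = n47327 := d11_1 D101827 (iv7 D47327) (iv4 F74545)
def n101828 : Q := act 3 n47322
theorem D101828 : act 3 n47322 = n101828 := rfl
def n101829 : Q := act 5 n47322
theorem D101829 : act 5 n47322 = n101829 := rfl
def n101830 : Q := act 6 n47322
theorem D101830 : act 6 n47322 = n101830 := rfl
theorem F156791 : act 4 n101830 = n47323 := d10_1 D101830 (iv6 D47323) D47322
def n101831 : Q := act 0 n47323
theorem D101831 : act 0 n47323 = n101831 := rfl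
def n101832 : Q := act 5 n47323
theorem D101832 : act 5 n47323 = n101832 := rfl
theorem F156792 : act 6 n101832 = n47326 := d12_2 D47323 D101832 (iv5 D47326) (iv6 D22743) D22742
def n101833 : Q := act 7 n47323
theorem D101833 : act 7 n47323 = n101833 := rfl
theorem F156793 : act 1 n47386 = n101833 := d15_1 (iv0 F153515) (iv7 D101833) (iv2 F156722)
def n101834 : Q := act 3 n47324
theorem D101834 : act 3 n47324 = n101834 := rfl
def n101835 : Q := act 4 n47324
theorem D101835 : act 4 n47324 = n101835 := rfl
def n101836 : Q := act 4 n47326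
theorem D101836 : act 4 n47326 = n101836 := rfl
def n101837 : Q := act 7 n47326
theorem D101837 : act 7 n47326 = n101837 := rfl
theorem F156794 : act 2 n101837 = n100929 := d4_1 D101837 (iv7 F156726) F156725
theorem F156795 : act 5 n101837 = n47327 := d13_1 D101837 (iv7 D47327) D47326
theorem F156796 : act 1 n99440 = n101837 := d15_1 (iv0 F153517) (iv7 D101837) (iv2 F156725)
theorem F156797 : act 0 n99445 = n101837 := d21_1 D99445 F156795 (iv6 F156678) F156674 (iv6 F155847) (iv5 D101144) (iv1 F153266) F153263 F73495 (iv1 F73444)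
theorem F156798 : act 6 n101837 = n100265 := d21_3 (iv5 F153516) F156723 (iv5 F156795) (iv1 D100265) (iv6 D46787) (iv5 D22454) F66060 D10721 (iv6 F35157) D47046
theorem F156799 : act 1 n99445 = n99722 := d15_1 (iv0 F156797) F156726 (iv2 F156794)
def n101838 : Q := act 0 n47329
theorem D101838 : act 0 n47329 = n101838 := rfl
def n101839 : Q := act 1 n47329
theorem D101839 : act 1 n47329 = n101839 := rfl
def n101840 : Q := act 2 n47329
theorem D101840 : act 2 n47329 = n101840 := rfl
def n101841 : Q := act 4 n47329
theorem D101841 : act 4 n47329 = n101841 := rfl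
def n101842 : Q := act 5 n47329
theorem D101842 : act 5 n47329 = n101842 := rfl
theorem F156800 : act 3 n101842 = n47331 := d6_1 D101842 (iv5 D47331) D47329
theorem F156801 : act 7 n101842 = n89290 := d13_2 F156402 D101842 (iv5 F153530)
def n101843 : Q := act 6 n47329
theorem D101843 : act 6 n47329 = n101843 := rfl
theorem F156802 : act 3 n101843 = n47332 := d7_1 D101843 (iv6 D47332) D47329
def n101844 : Q := act 0 n47330
theorem D101844 : act 0 n47330 = n101844 := rfl
theorem F156803 : act 4 n101844 = n98504 := d18_3 D22744 D47330 D101844 F151904 F156783 (iv0 D47297) (iv4 D22736) (iv0 D10753) D10755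
theorem F156804 : act 1 n47335 = n101844 := d15_0 (iv0 D101844) (iv7 F156403) F156412
theorem F156805 : act 7 n98503 = n101844 := d11_0 F156803 (iv7 D98504) D98503
def n101845 : Q := act 1 n47330
theorem D101845 : act 1 n47330 = n101845 := rfl
theorem F156806 : act 1 n101845 = n47335 := d15_1 D101845 F156411 F156404
theorem F156807 : act 2 n98503 = n101845 := d15_3 F156806 F156804 (iv7 F156805)
theorem F156808 : act 4 n88940 = n101845 := d18_5 (iv1 F34821) D22741 F156780 (iv4 F64069) D88940 F156806 (iv4 D47335) F73575 F73573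
theorem F156809 : act 6 n101845 = n47435 := d10_2 (iv6 F136504) F156808 (iv4 F74636)
def n101846 : Q := act 3 n47330
theorem D101846 : act 3 n47330 = n101846 := rfl
def n101847 : Q := act 5 n47330
theorem D101847 : act 5 n47330 = n101847 := rfl
def n101848 : Q := act 6 n47330
theorem D101848 : act 6 n47330 = n101848 := rfl
theorem F156810 : act 4 n101848 = n47332 := d10_1 D101848 (iv6 D47332) D47330
def n101849 : Q := act 4 n47331
theorem D101849 : act 4 n47331 = n101849 := rfl
theorem F156811 : act 7 n101849 = n89296 := d11_2 (iv7 F156392) D101849 F137002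
def n101850 : Q := act 0 n47332
theorem D101850 : act 0 n47332 = n101850 := rfl
def n101851 : Q := act 1 n47332
theorem D101851 : act 1 n47332 = n101851 := rfl
def n101852 : Q := act 7 n47332
theorem D101852 : act 7 n47332 = n101852 := rfl
theorem F156812 : act 5 n101852 = n97800 := d13_1 D101852 F156407 (iv5 F152599)
def n101853 : Q := act 0 n47334
theorem D101853 : act 0 n47334 = n101853 := rfl
def n101854 : Q := act 1 n47334
theorem D101854 : act 1 n47334 = n101854 := rfl
def n101855 : Q := act 2 n47334
theorem D101855 : act 2 n47334 = n101855 := rfl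
def n101856 : Q := act 4 n47334
theorem D101856 : act 4 n47334 = n101856 := rfl
def n101857 : Q := act 5 n47334
theorem D101857 : act 5 n47334 = n101857 := rfl
theorem F156813 : act 3 n101857 = n47336 := d6_1 D101857 (iv5 D47336) D47334
theorem F156814 : act 6 n88835 = n101857 := d7_0 F156813 (iv6 F74549) D88835
def n101858 : Q := act 6 n47334
theorem D101858 : act 6 n47334 = n101858 := rfl
def n101859 : Q := act 3 n47335
theorem D101859 : act 3 n47335 = n101859 := rfl
def n101860 : Q := act 5 n47335
theorem D101860 : act 5 n47335 = n101860 := rfl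
def n101861 : Q := act 6 n47335
theorem D101861 : act 6 n47335 = n101861 := rfl
theorem F156816 : act 4 n101861 = n47337 := d10_1 D101861 (iv6 D47337) D47335
def n101862 : Q := act 4 n47336
theorem D101862 : act 4 n47336 = n101862 := rfl
theorem F156817 : act 2 n101862 = n89296 := d1_1 D101862 F137002 (iv2 F156385)
theorem F156818 : act 6 n101862 = n88836 := d10_2 F74549 D101862 (iv4 D88836)
def n101863 : Q := act 0 n47337
theorem D101863 : act 0 n47337 = n101863 := rfl
def n101864 : Q := act 1 n47337
theorem D101864 : act 1 n47337 = n101864 := rfl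
def n101865 : Q := act 5 n47337
theorem D101865 : act 5 n47337 = n101865 := rfl
theorem F156819 : act 2 n101865 = n89301 := d2_1 D101865 (iv5 F153531) (iv2 F156413)
theorem F156820 : act 6 n101865 = n88837 := d12_2 D47337 D101865 (iv5 D88837) F74549 (iv5 D47336)
def n101866 : Q := act 7 n47337
theorem D101866 : act 7 n47337 = n101866 := rfl
def n101867 : Q := act 2 n47338
theorem D101867 : act 2 n47338 = n101867 := rfl
theorem F156821 : act 7 n47339 = n101867 := d15_2 (iv0 D47338) D47339 (iv2 D101867)
def n101868 : Q := act 3 n47338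
theorem D101868 : act 3 n47338 = n101868 := rfl
def n101869 : Q := act 5 n47338
theorem D101869 : act 5 n47338 = n101869 := rfl
def n101870 : Q := act 6 n47338
theorem D101870 : act 6 n47338 = n101870 := rfl
def n101871 : Q := act 7 n47338
theorem D101871 : act 7 n47338 = n101871 := rfl
theorem F156822 : act 2 n101871 = n47339 := d4_1 D101871 F156821 (iv2 D101867)
def n101872 : Q := act 3 n47339
theorem D101872 : act 3 n47339 = n101872 := rfl
def n101873 : Q := act 4 n47339
theorem D101873 : act 4 n47339 = n101873 := rfl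
def n101874 : Q := act 5 n47339
theorem D101874 : act 5 n47339 = n101874 := rfl
def n101875 : Q := act 6 n47339
theorem D101875 : act 6 n47339 = n101875 := rfl
def n101876 : Q := act 0 n47340
theorem D101876 : act 0 n47340 = n101876 := rfl
def n101877 : Q := act 1 n47340
theorem D101877 : act 1 n47340 = n101877 := rfl
def n101878 : Q := act 2 n47340
theorem D101878 : act 2 n47340 = n101878 := rfl
theorem F156823 : act 6 n101878 = n47462 := d3_2 (iv6 F74550) D101878 (iv2 D47462)
def n101879 : Q := act 5 n47340
theorem D101879 : act 5 n47340 = n101879 := rfl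
theorem F156824 : act 3 n101879 = n47341 := d6_1 D101879 (iv5 D47341) D47340
def n101880 : Q := act 7 n47340
theorem D101880 : act 7 n47340 = n101880 := rfl
theorem F156825 : act 3 n101880 = n47342 := d8_1 D101880 (iv7 D47342) D47340
def n101881 : Q := act 0 n47341
theorem D101881 : act 0 n47341 = n101881 := rfl
def n101882 : Q := act 1 n47341
theorem D101882 : act 1 n47341 = n101882 := rfl
def n101883 : Q := act 4 n47341
theorem D101883 : act 4 n47341 = n101883 := rfl
def n101884 : Q := act 6 n47341
theorem D101884 : act 6 n47341 = n101884 := rfl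
theorem F156826 : act 5 n101884 = n47465 := d12_1 D101884 (iv6 D47465) (iv5 D22797) (iv6 F35299) D47341
def n101885 : Q := act 7 n47341
theorem D101885 : act 7 n47341 = n101885 := rfl
theorem F156827 : act 5 n101885 = n47342 := d13_1 D101885 (iv7 D47342) D47341
def n101886 : Q := act 6 n47342
theorem D101886 : act 6 n47342 = n101886 := rfl
theorem F156828 : act 4 n101886 = n47343 := d10_1 D101886 (iv6 D47343) (iv4 F74551)
theorem F156829 : act 7 n101886 = n47466 := d14_2 D47342 D101886 (iv6 D47466) (iv7 D22798) (iv6 F35299)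
def n101887 : Q := act 5 n47343
theorem D101887 : act 5 n47343 = n101887 := rfl
theorem F156831 : act 6 n101887 = n47344 := d12_2 D47343 D101887 (iv5 D47344) (iv6 D22748) (iv5 F35300)
theorem F156832 : act 7 n101887 = n47469 := d13_2 (iv7 F74552) D101887 (iv5 D47469)
def n101888 : Q := act 4 n47344
theorem D101888 : act 4 n47344 = n101888 := rfl
theorem F156833 : act 7 n101888 = n47357 := d11_2 (iv7 F74554) D101888 (iv4 D47357)
def n101891 : Q := act 3 n47345
theorem D101891 : act 3 n47345 = n101891 := rfl
theorem F156836 : act 7 n101891 = n47351 := d8_2 F74555 D101891 (iv3 D47351)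
def n101892 : Q := act 4 n47345
theorem D101892 : act 4 n47345 = n101892 := rfl
theorem F156837 : act 2 n101892 = n47347 := d1_1 D101892 (iv4 D47347) D47345
theorem F156838 : act 7 n101892 = n47352 := d11_2 F74555 D101892 (iv4 D47352)
def n101893 : Q := act 5 n47345
theorem D101893 : act 5 n47345 = n101893 := rfl
theorem F156839 : act 2 n101893 = n47348 := d2_1 D101893 (iv5 D47348) D47345
theorem F156840 : act 7 n101893 = n47353 := d13_2 F74555 D101893 (iv5 D47353)
def n101894 : Q := act 6 n47345
theorem D101894 : act 6 n47345 = n101894 := rfl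
theorem F156841 : act 2 n101894 = n47349 := d3_1 D101894 (iv6 D47349) D47345
def n101895 : Q := act 0 n47346
theorem D101895 : act 0 n47346 = n101895 := rfl
def n101896 : Q := act 1 n47346
theorem D101896 : act 1 n47346 = n101896 := rfl
def n101897 : Q := act 2 n47346
theorem D101897 : act 2 n47346 = n101897 := rfl
def n101898 : Q := act 4 n47346
theorem D101898 : act 4 n47346 = n101898 := rfl
def n101899 : Q := act 5 n47346
theorem D101899 : act 5 n47346 = n101899 := rfl
theorem F156842 : act 3 n101899 = n47348 := d6_1 D101899 (iv5 D47348) D47346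
def n101900 : Q := act 6 n47346
theorem D101900 : act 6 n47346 = n101900 := rfl
theorem F156843 : act 3 n101900 = n47349 := d7_1 D101900 (iv6 D47349) D47346
def n101901 : Q := act 7 n47346
theorem D101901 : act 7 n47346 = n101901 := rfl
def n101902 : Q := act 0 n47347
theorem D101902 : act 0 n47347 = n101902 := rfl
def n101903 : Q := act 1 n47347
theorem D101903 : act 1 n47347 = n101903 := rfl
theorem F156845 : act 1 n101903 = n47352 := d15_1 D101903 (iv7 F156838) F156837
def n101904 : Q := act 3 n47347
theorem D101904 : act 3 n47347 = n101904 := rfl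
def n101905 : Q := act 5 n47347
theorem D101905 : act 5 n47347 = n101905 := rfl
def n101906 : Q := act 6 n47347
theorem D101906 : act 6 n47347 = n101906 := rfl
theorem F156846 : act 4 n101906 = n47349 := d10_1 D101906 (iv6 D47349) D47347
def n101907 : Q := act 7 n47347
theorem D101907 : act 7 n47347 = n101907 := rfl
theorem F156847 : act 2 n101907 = n47352 := d4_1 D101907 (iv7 F156838) F156837
theorem F156849 : act 1 n47352 = n101902 := d15_0 (iv0 D101902) D101907 F156847
def n101908 : Q := act 0 n47348
theorem D101908 : act 0 n47348 = n101908 := rfl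
theorem F156850 : act 5 n101908 = n99446 := d21_2 D47348 D101908 (iv6 D99446) (iv1 D46493) (iv6 D22284) (iv5 D10618) (iv1 F7005) (iv5 F7343) D10757 D22749
def n101909 : Q := act 1 n47348
theorem D101909 : act 1 n47348 = n101909 := rfl
theorem F156851 : act 1 n101909 = n47353 := d15_1 D101909 (iv7 F156840) F156839
theorem F156852 : act 5 n100951 = n101909 := d21_6 (iv5 F137006) (iv1 F137010) (iv5 D41718) D41719 D89318 (iv6 F156398) (iv1 D101909) (iv5 D47348) D47349 (iv1 F156742)
theorem F156853 : act 7 n101909 = n100950 := d13_2 D100951 F156852 (iv5 D100950)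
theorem F156854 : act 2 n100950 = n101908 := d15_3 (iv0 D101908) D101909 F156853
theorem E15480 : n100936 = n99446 := ((c2_3 D100950 F156854 F156850 F155074)).symm
theorem F156855 : act 1 n99446 = n89342 := (sb E15480 F156401)
theorem F156856 : act 2 n99446 = n47045 := (sb E15480 F155074)
theorem E15481 : n47041 = n46493 := ((((iv6 D99446)).symm.trans (sb E15480 (iv6 D100936)))).symm
theorem E15482 : n100911 = n22284 := ((((iv1 D46493)).symm.trans (sb E15481 (iv1 F155054)))).symm
theorem E15484 : n99442 = n22615 := (((iv2 F153174)).symm.trans (sb E15481 F74291))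
theorem E15485 : n100922 = n99443 := (((D99443).symm.trans (sb E15481 (iv3 F155063)))).symm
theorem E15486 : n83573 = n82965 := ((((iv4 F155525)).symm.trans (sb E15481 (iv4 F155081)))).symm
theorem E15487 : n100932 = n99445 := (((D99445).symm.trans (sb E15481 (iv5 F155071)))).symm
theorem E15488 : n99437 = n22614 := ((F153172).symm.trans (sb E15481 (iv7 D47041)))
theorem E15489 : n47036 = n46492 := (((D46492).symm.trans (sb E15482 (iv1 D100911)))).symm
theorem F156857 : act 2 n22615 = n46493 := (sb E15484 F153174)
theorem E15490 : n88056 = n47042 := (((D47042).symm.trans (sb E15484 F155505))).symm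
theorem F156858 : act 7 n99443 = n47037 := (sb E15485 (iv7 D100922))
theorem F156859 : act 2 n82965 = n38528 := (sb E15486 F128653)
theorem F156860 : act 7 n82965 = n38527 := (sb E15486 (iv7 D83573))
theorem F156861 : act 2 n99445 = n47044 := (sb E15487 F155070)
theorem F156862 : act 7 n99445 = n47039 := (sb E15487 (iv7 D100932))
theorem F156863 : act 7 n22614 = n46493 := (sb E15488 (iv7 F153172))
theorem F156864 : act 2 n46492 = n22614 := (sb E15489 (iv2 D47036))
theorem E15491 : n100912 = n41109 := ((((iv3 F155502)).symm.trans (sb E15489 D100912))).symm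
theorem E15492 : n83568 = n82964 := (((F155501).symm.trans (sb E15489 (iv4 F155083)))).symm
theorem E15493 : n100914 = n99440 := (((D99440).symm.trans (sb E15489 D100914))).symm
theorem E15494 : n100915 = n99441 := (((D99441).symm.trans (sb E15489 D100915))).symm
theorem F156865 : act 7 n46492 = n22615 := (sb E15489 (iv7 F74290))
theorem E15495 : n100939 = n41110 := ((D100939).symm.trans (sb E15490 F135054))
theorem E15496 : n88051 = n47134 := ((D88051).symm.trans (sb E15491 F155089))
theorem F156866 : act 7 n41109 = n47042 := (sb E15491 F155055)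
theorem F156867 : act 2 n82964 = n38527 := (sb E15492 (iv2 D83568))
theorem F156868 : act 7 n82964 = n38528 := (sb E15492 (iv7 F128652))
theorem F156869 : act 2 n99440 = n47039 := (sb E15493 F155058)
theorem F156870 : act 7 n99440 = n47044 := (sb E15493 F155059)
theorem F156871 : act 2 n99441 = n47040 := (sb E15494 F155060)
theorem E15497 : n101581 = n89136 := (((F153173).symm.trans (sb E15494 (iv5 F156490)))).symm
theorem F156872 : act 7 n99441 = n89318 := (sb E15494 (iv7 F156397))
theorem F156873 : act 2 n41110 = n47042 := (sb E15495 (iv2 D100939))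
theorem F156874 : act 2 n47134 = n41109 := (sb E15496 (iv2 D88051))
theorem F156875 : act 7 n47134 = n41110 := (sb E15496 (iv7 F135052))
theorem F156876 : act 2 n89136 = n47252 := (sb E15497 F156489)
theorem F156877 : act 7 n89136 = n47251 := (sb E15497 (iv7 D101581))
theorem F156878 : act 7 n101578 = n88087 := d8_2 F156877 D101578 F155507
theorem E15498 : n101577 = n89135 := (c15_4 (iv0 D89135) D89136 F156877 D101577)
theorem F156879 : act 2 n89135 = n47251 := (sb E15498 (iv2 D101577))
theorem F156880 : act 5 n89135 = n100935 := (sb E15498 F156487)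
theorem F156881 : act 7 n89135 = n47252 := (sb E15498 (iv7 F156488))
theorem F156882 : act 0 n100935 = n89321 := d21_1 F156880 (iv5 F156363) (iv6 F156365) (iv1 D97801) (iv6 D45655) (iv5 D21824) (iv1 F62627) D19608 (iv6 F64262) D89135
theorem F156883 : act 0 n88842 = n100935 := d21_10 (iv5 F156880) (iv1 F136844) F74506 (iv6 F64287) (iv1 F64289) D47231 D101525 (iv1 F156414) (iv5 D88841) D88842
theorem F156884 : act 2 n101578 = n88086 := d15_3 (iv0 D88086) D88087 (iv7 F156878)
theorem F156885 : act 7 n88057 = n100918 := d8_2 F156875 D88057 (iv3 F155090)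
theorem F156886 : act 7 n88058 = n101209 := d11_2 F156875 D88058 (iv4 D101209)
theorem F156887 : act 7 n88059 = n101210 := d13_2 F156875 D88059 (iv5 D101210)
theorem F156888 : act 1 n100917 = n88057 := d15_1 D100917 F156885 (iv2 D100918)
theorem F156889 : act 2 n88053 = n101209 := d1_3 (iv4 D101209) F156874 D88053
theorem F156890 : act 2 n88054 = n101210 := d2_3 (iv5 D101210) F156874 D88054
theorem F156891 : act 2 n88055 = n101211 := d3_3 (iv6 D101211) F156874 D88055
theorem F156892 : act 2 n98099 = n88087 := d2_3 (iv5 F135077) F156891 F155922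
theorem F156893 : act 7 n88086 = n98099 := d4_0 F156892 (iv7 F156878) F156884
theorem E15499 : n101578 = n98098 := ((c15_2 F151237 F151243 F156878 (iv2 F156892))).symm
theorem F156894 : act 2 n98098 = n88086 := (sb E15499 F156884)
theorem F156895 : act 3 n98098 = n47251 := (sb E15499 (iv3 D101578))
theorem F156896 : act 7 n98098 = n88087 := (sb E15499 F156878)
theorem F156897 : act 2 n100940 = n88058 := d1_3 (iv4 D88058) F156873 D100940
theorem F156898 : act 2 n100941 = n88059 := d2_3 (iv5 D88059) F156873 D100941
theorem F156899 : act 2 n100942 = n88060 := d3_3 (iv6 D88060) F156873 D100942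
theorem F156900 : act 7 n88054 = n100941 := d4_0 F156898 F156887 (iv2 F156890)
theorem F156901 : act 1 n100941 = n101349 := d15_0 (iv0 F156120) (iv7 F156887) (iv2 F156898)
theorem F156902 : act 0 n100942 = n88173 := d21_10 (iv5 D88173) (iv1 F134606) F134603 (iv6 F74396) (iv1 F74398) D47178 D101349 (iv1 F156901) (iv5 D100941) D100942
theorem F156903 : act 7 n88053 = n100940 := d4_0 F156897 F156886 (iv2 F156889)
theorem F156904 : act 1 n88057 = n100916 := d15_0 (iv0 D100916) (iv7 F156858) (iv2 F155506)
theorem F156905 : act 0 n101785 = n89341 := d21_1 D101785 (iv5 D89341) D89342 (iv1 F156855) (iv6 D99446) D99445 F156797 F156795 (iv6 F156678) F156674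
def n101910 : Q := act 4 n47348
theorem D101910 : act 4 n47348 = n101910 := rfl
def n101911 : Q := act 6 n47348
theorem D101911 : act 6 n47348 = n101911 := rfl
def n101912 : Q := act 7 n47348
theorem D101912 : act 7 n47348 = n101912 := rfl
theorem F156906 : act 2 n101912 = n47353 := d4_1 D101912 (iv7 F156840) F156839
theorem F156908 : act 1 n47353 = n101908 := d15_0 (iv0 D101908) D101912 F156906
theorem F156909 : act 0 n47354 = n101144 := d21_4 (iv5 F156850) (iv1 F156908) (iv5 D47353) D47354 F155847 D101785 F156905 (iv5 D89341) D89342 (iv1 F156855)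
def n101913 : Q := act 7 n47349
theorem D101913 : act 7 n47349 = n101913 := rfl
def n101915 : Q := act 0 n47351
theorem D101915 : act 0 n47351 = n101915 := rfl
def n101916 : Q := act 1 n47351
theorem D101916 : act 1 n47351 = n101916 := rfl
def n101917 : Q := act 2 n47351
theorem D101917 : act 2 n47351 = n101917 := rfl
def n101918 : Q := act 4 n47351
theorem D101918 : act 4 n47351 = n101918 := rfl
def n101919 : Q := act 5 n47351
theorem D101919 : act 5 n47351 = n101919 := rfl
theorem F156911 : act 3 n101919 = n47353 := d6_1 D101919 (iv5 D47353) D47351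
def n101920 : Q := act 6 n47351
theorem D101920 : act 6 n47351 = n101920 := rfl
theorem F156912 : act 3 n101920 = n47354 := d7_1 D101920 (iv6 D47354) D47351
def n101921 : Q := act 3 n47352
theorem D101921 : act 3 n47352 = n101921 := rfl
def n101922 : Q := act 5 n47352
theorem D101922 : act 5 n47352 = n101922 := rfl
def n101923 : Q := act 6 n47352
theorem D101923 : act 6 n47352 = n101923 := rfl
theorem F156913 : act 4 n101923 = n47354 := d10_1 D101923 (iv6 D47354) D47352
def n101924 : Q := act 4 n47353
theorem D101924 : act 4 n47353 = n101924 := rfl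
def n101925 : Q := act 6 n47353
theorem D101925 : act 6 n47353 = n101925 := rfl
def n101926 : Q := act 1 n47354
theorem D101926 : act 1 n47354 = n101926 := rfl
def n101927 : Q := act 5 n47354
theorem D101927 : act 5 n47354 = n101927 := rfl
theorem F156914 : act 0 n101927 = n99500 := d21_7 (iv5 D47331) (iv1 F73576) F73573 (iv6 F59431) (iv1 F59433) D47354 D101927 (iv5 D99500) D99501 (iv1 F156338)
theorem F156915 : act 0 n99495 = n101927 := d21_1 D99495 (iv5 D101927) (iv6 D47354) (iv1 D22750) (iv6 D10757) F7343 (iv1 F7028) D10621 D22294 D46512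
def n101928 : Q := act 7 n47354
theorem D101928 : act 7 n47354 = n101928 := rfl
def n101929 : Q := act 2 n47355
theorem D101929 : act 2 n47355 = n101929 := rfl
theorem F156916 : act 7 n47356 = n101929 := d15_2 (iv0 D47355) D47356 (iv2 D101929)
def n101930 : Q := act 3 n47355
theorem D101930 : act 3 n47355 = n101930 := rfl
def n101931 : Q := act 4 n47355
theorem D101931 : act 4 n47355 = n101931 := rfl
def n101932 : Q := act 6 n47355
theorem D101932 : act 6 n47355 = n101932 := rfl
def n101933 : Q := act 7 n47355
theorem D101933 : act 7 n47355 = n101933 := rfl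
theorem F156917 : act 2 n101933 = n47356 := d4_1 D101933 F156916 (iv2 D101929)
def n101934 : Q := act 3 n47356
theorem D101934 : act 3 n47356 = n101934 := rfl
def n101935 : Q := act 4 n47356
theorem D101935 : act 4 n47356 = n101935 := rfl
def n101936 : Q := act 6 n47356
theorem D101936 : act 6 n47356 = n101936 := rfl
def n101937 : Q := act 0 n47357
theorem D101937 : act 0 n47357 = n101937 := rfl
def n101938 : Q := act 1 n47357
theorem D101938 : act 1 n47357 = n101938 := rfl
def n101939 : Q := act 3 n47357
theorem D101939 : act 3 n47357 = n101939 := rfl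
theorem F156918 : act 4 n101939 = n88182 := d5_2 D47357 D101939 (iv3 D88182) (iv4 D41157) (iv3 F35303)
theorem F156919 : act 6 n101939 = n47497 := d7_2 (iv6 F74557) D101939 (iv3 D47497)
def n101940 : Q := act 5 n47357
theorem D101940 : act 5 n47357 = n101940 := rfl
def n101941 : Q := act 0 n47360
theorem D101941 : act 0 n47360 = n101941 := rfl
theorem F156920 : act 4 n101941 = n87743 := d20_2 D47360 D101941 F154400 (iv1 D90487) F65392 F31809 F35827 (iv4 D10760) D10759 D22752
theorem F156921 : act 1 n47365 = n101941 := d15_0 (iv0 D101941) (iv7 F156226) F156234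
def n101942 : Q := act 1 n47360
theorem D101942 : act 1 n47360 = n101942 := rfl
theorem F156922 : act 1 n101942 = n47365 := d15_1 D101942 F156231 F156228
theorem F156923 : act 4 n87742 = n101942 := d20_0 (iv1 D101942) (iv4 D47360) (iv3 F74681) (iv1 D47195) (iv3 D22704) (iv4 F66813) (iv1 D21465) (iv4 F30927) (iv3 F61986) D87742
theorem F156924 : act 3 n48382 = n101942 := d20_9 (iv4 D47360) (iv1 F73600) (iv4 F148089) F148088 F148069 F153382 (iv4 F153381) (iv1 D99633) F76048 (iv1 D101942)
def n101943 : Q := act 3 n47360
theorem D101943 : act 3 n47360 = n101943 := rfl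
theorem F156925 : act 4 n101943 = n47471 := d5_2 D47360 D101943 F74683 (iv4 F74682) F74681
def n101944 : Q := act 5 n47360
theorem D101944 : act 5 n47360 = n101944 := rfl
def n101945 : Q := act 6 n47360
theorem D101945 : act 6 n47360 = n101945 := rfl
theorem F156926 : act 4 n101945 = n47362 := d10_1 D101945 (iv6 D47362) D47360
def n101946 : Q := act 0 n47361
theorem D101946 : act 0 n47361 = n101946 := rfl
theorem F156927 : act 1 n47366 = n101946 := d15_0 (iv0 D101946) (iv7 F156227) F156233
def n101947 : Q := act 1 n47361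
theorem D101947 : act 1 n47361 = n101947 := rfl
theorem F156928 : act 1 n101947 = n47366 := d15_1 D101947 F156232 F156229
def n101948 : Q := act 4 n47361
theorem D101948 : act 4 n47361 = n101948 := rfl
def n101949 : Q := act 6 n47361
theorem D101949 : act 6 n47361 = n101949 := rfl
def n101955 : Q := act 6 n47364
theorem D101955 : act 6 n47364 = n101955 := rfl
theorem F156930 : act 3 n101955 = n47367 := d7_1 D101955 (iv6 D47367) D47364
def n101957 : Q := act 6 n47365
theorem D101957 : act 6 n47365 = n101957 := rfl
theorem F156931 : act 4 n101957 = n47367 := d10_1 D101957 (iv6 D47367) D47365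
def n101964 : Q := act 4 n47368
theorem D101964 : act 4 n47368 = n101964 := rfl
def n101965 : Q := act 6 n47368
theorem D101965 : act 6 n47368 = n101965 := rfl
theorem F156933 : act 2 n101965 = n47375 := d3_1 D101965 (iv6 D47375) (iv2 F74561)
def n101966 : Q := act 0 n47369
theorem D101966 : act 0 n47369 = n101966 := rfl
def n101967 : Q := act 1 n47369
theorem D101967 : act 1 n47369 = n101967 := rfl
theorem F156934 : act 1 n101967 = n47379 := d15_1 D101967 (iv7 D47379) (iv2 F74562)
def n101968 : Q := act 5 n47369
theorem D101968 : act 5 n47369 = n101968 := rfl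
theorem F156935 : act 2 n101968 = n47378 := d2_1 D101968 (iv5 D47378) (iv2 F74562)
theorem F156936 : act 3 n101968 = n89435 := d6_1 D101968 F153556 F153554
theorem F156937 : act 7 n89423 = n101968 := d4_0 F156935 (iv7 F74568) D89423
theorem F156938 : act 1 n101968 = n89421 := d15_0 (iv0 D89421) F74568 (iv2 F156935)
theorem F156939 : act 1 n89422 = n101968 := d15_1 D89422 (iv7 F156937) (iv2 D89423)
def n101969 : Q := act 7 n47369
theorem D101969 : act 7 n47369 = n101969 := rfl
theorem F156940 : act 2 n101969 = n47379 := d4_1 D101969 (iv7 D47379) (iv2 F74562)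
theorem F156941 : act 5 n101969 = n89423 := d13_1 D101969 F156937 (iv5 D101968)
theorem F156942 : act 1 n47379 = n101966 := d15_0 (iv0 D101966) D101969 F156940
theorem F156943 : act 1 n47377 = n101969 := d15_1 D47377 (iv7 D101969) F74562
theorem F156944 : act 1 n101969 = n47376 := d15_0 (iv0 D47376) D47379 (iv2 F156940)
def n101970 : Q := act 1 n47370
theorem D101970 : act 1 n47370 = n101970 := rfl
def n101971 : Q := act 4 n47370
theorem D101971 : act 4 n47370 = n101971 := rfl
def n101972 : Q := act 6 n47370
theorem D101972 : act 6 n47370 = n101972 := rfl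
theorem F156945 : act 3 n101972 = n95482 := d7_1 D101972 (iv6 D95482) (iv3 F74563)
def n101973 : Q := act 1 n47371
theorem D101973 : act 1 n47371 = n101973 := rfl
def n101974 : Q := act 7 n47371
theorem D101974 : act 7 n47371 = n101974 := rfl
theorem F156946 : act 3 n101974 = n48108 := d8_1 D101974 F75585 (iv3 F74564)
theorem F156947 : act 4 n101974 = n47379 := d11_1 D101974 (iv7 D47379) (iv4 F74565)
theorem F156948 : act 5 n101974 = n97078 := d13_1 D101974 F149760 F147306
def n101975 : Q := act 2 n47372
theorem D101975 : act 2 n47372 = n101975 := rfl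
theorem F156949 : act 7 n47373 = n101975 := d15_2 (iv0 D47372) D47373 (iv2 D101975)
def n101976 : Q := act 3 n47372
theorem D101976 : act 3 n47372 = n101976 := rfl
def n101977 : Q := act 4 n47372
theorem D101977 : act 4 n47372 = n101977 := rfl
def n101978 : Q := act 5 n47372
theorem D101978 : act 5 n47372 = n101978 := rfl
def n101979 : Q := act 6 n47372
theorem D101979 : act 6 n47372 = n101979 := rfl
def n101980 : Q := act 7 n47372
theorem D101980 : act 7 n47372 = n101980 := rfl
theorem F156950 : act 2 n101980 = n47373 := d4_1 D101980 F156949 (iv2 D101975)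
def n101981 : Q := act 3 n47373
theorem D101981 : act 3 n47373 = n101981 := rfl
def n101982 : Q := act 4 n47373
theorem D101982 : act 4 n47373 = n101982 := rfl
def n101983 : Q := act 5 n47373
theorem D101983 : act 5 n47373 = n101983 := rfl
def n101984 : Q := act 6 n47373
theorem D101984 : act 6 n47373 = n101984 := rfl
def n101985 : Q := act 0 n47374
theorem D101985 : act 0 n47374 = n101985 := rfl
def n101986 : Q := act 1 n47374
theorem D101986 : act 1 n47374 = n101986 := rfl
def n101987 : Q := act 3 n47374
theorem D101987 : act 3 n47374 = n101987 := rfl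
theorem F156951 : act 4 n101987 = n47389 := d5_2 D47374 D101987 (iv3 D47389) (iv4 D22765) (iv3 F35305)
def n101988 : Q := act 5 n47374
theorem D101988 : act 5 n47374 = n101988 := rfl
def n101989 : Q := act 6 n47374
theorem D101989 : act 6 n47374 = n101989 := rfl
theorem F156952 : act 4 n101989 = n47375 := d10_1 D101989 (iv6 D47375) D47374
def n101990 : Q := act 0 n47375
theorem D101990 : act 0 n47375 = n101990 := rfl
def n101991 : Q := act 1 n47375
theorem D101991 : act 1 n47375 = n101991 := rfl
def n101992 : Q := act 5 n47375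
theorem D101992 : act 5 n47375 = n101992 := rfl
theorem F156953 : act 3 n101992 = n47393 := d6_1 D101992 (iv5 D47393) (iv3 F74566)
theorem F156954 : act 6 n101992 = n47378 := d12_2 D47375 D101992 (iv5 D47378) (iv6 D22757) D22756
def n101993 : Q := act 7 n47375
theorem D101993 : act 7 n47375 = n101993 := rfl
def n101994 : Q := act 2 n47376
theorem D101994 : act 2 n47376 = n101994 := rfl
theorem F156956 : act 7 n47377 = n101994 := d15_2 (iv0 D47376) D47377 (iv2 D101994)
def n101995 : Q := act 3 n47376
theorem D101995 : act 3 n47376 = n101995 := rfl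
def n101996 : Q := act 4 n47376
theorem D101996 : act 4 n47376 = n101996 := rfl
def n101997 : Q := act 5 n47376
theorem D101997 : act 5 n47376 = n101997 := rfl
def n101998 : Q := act 6 n47376
theorem D101998 : act 6 n47376 = n101998 := rfl
def n101999 : Q := act 7 n47376
theorem D101999 : act 7 n47376 = n101999 := rfl
theorem F156957 : act 2 n101999 = n47377 := d4_1 D101999 F156956 (iv2 D101994)
def n102000 : Q := act 3 n47377
theorem D102000 : act 3 n47377 = n102000 := rfl
def n102001 : Q := act 4 n47377
theorem D102001 : act 4 n47377 = n102001 := rfl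
def n102002 : Q := act 5 n47377
theorem D102002 : act 5 n47377 = n102002 := rfl
def n102003 : Q := act 6 n47377
theorem D102003 : act 6 n47377 = n102003 := rfl
def n102004 : Q := act 0 n47378
theorem D102004 : act 0 n47378 = n102004 := rfl
theorem F156958 : act 1 n89423 = n102004 := d15_0 (iv0 D102004) (iv7 F74568) D89423
def n102005 : Q := act 1 n47378
theorem D102005 : act 1 n47378 = n102005 := rfl
theorem F156959 : act 1 n102005 = n89423 := d15_1 D102005 F156937 F156935
def n102006 : Q := act 4 n47378
theorem D102006 : act 4 n47378 = n102006 := rfl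
theorem F156960 : act 7 n102006 = n89424 := d11_2 F74568 D102006 (iv4 D89424)
def n102007 : Q := act 0 n47382
theorem D102007 : act 0 n47382 = n102007 := rfl
def n102008 : Q := act 1 n47382
theorem D102008 : act 1 n47382 = n102008 := rfl
def n102009 : Q := act 4 n47382
theorem D102009 : act 4 n47382 = n102009 := rfl
def n102010 : Q := act 6 n47382
theorem D102010 : act 6 n47382 = n102010 := rfl
theorem F156961 : act 3 n102010 = n47384 := d7_1 D102010 (iv6 D47384) D47382
theorem F156962 : act 5 n102010 = n99073 := d12_1 D102010 (iv6 D99073) (iv5 D46341) D46342 (iv5 F74591)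
def n102011 : Q := act 3 n47383
theorem D102011 : act 3 n47383 = n102011 := rfl
def n102012 : Q := act 5 n47383
theorem D102012 : act 5 n47383 = n102012 := rfl
theorem F156963 : act 2 n102012 = n89376 := d2_1 D102012 (iv5 F150775) F150773
theorem F156964 : act 7 n102012 = n89378 := d13_2 F153566 D102012 (iv5 F153565)
theorem F156965 : act 4 n102012 = n47556 := d16_2 D47383 D102012 (iv5 D47556) (iv4 D22855) F62685 D41993 F64793 (iv7 F71993) F71991
theorem F156966 : act 0 n102012 = n88891 := d17_2 (iv1 F74593) D102012 F136364 (iv4 F136345) (iv5 D88884) F63997 (iv5 F35955) (iv0 D22843) D22845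
theorem F156967 : act 1 n102012 = n88878 := d17_6 (iv1 F34840) (iv5 F64421) (iv1 F64795) (iv5 F35325) D47383 D102012 F136317 F73618 F35346
def n102013 : Q := act 6 n47383
theorem D102013 : act 6 n47383 = n102013 := rfl
theorem F156968 : act 4 n102013 = n47384 := d10_1 D102013 (iv6 D47384) D47383
def n102014 : Q := act 0 n47384
theorem D102014 : act 0 n47384 = n102014 := rfl
def n102015 : Q := act 1 n47384
theorem D102015 : act 1 n47384 = n102015 := rfl
def n102016 : Q := act 7 n47384
theorem D102016 : act 7 n47384 = n102016 := rfl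
theorem F156969 : act 5 n102016 = n99080 := d13_1 D102016 (iv7 D99080) (iv5 F74594)
def n102017 : Q := act 3 n47385
theorem D102017 : act 3 n47385 = n102017 := rfl
def n102018 : Q := act 5 n47385
theorem D102018 : act 5 n47385 = n102018 := rfl
theorem F156970 : act 2 n102018 = n89378 := d2_1 D102018 (iv5 F153565) F153564
theorem F156971 : act 4 n102018 = n47554 := d9_1 D102018 (iv5 D47554) (iv4 D22852) F17317 (iv4 F34636) (iv5 F35325) D47383 D102012 F156965 (iv5 D47556) (iv4 D22855) F62685 D41993 F64793 D47385
theorem F156972 : act 7 n102018 = n89376 := d13_2 F150774 D102018 (iv5 F150775)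
theorem F156973 : act 0 n102018 = n88878 := d17_2 (iv1 F74596) D102018 F136317 (iv4 F136380) (iv5 D88896) (iv0 F74743) (iv5 D47542) F35413 D22885
theorem F156974 : act 1 n102018 = n88891 := d17_6 D22330 (iv5 F72997) (iv1 F73000) F64793 D47385 D102018 F136364 (iv0 D46613) (iv4 D22332)
def n102019 : Q := act 6 n47385
theorem D102019 : act 6 n47385 = n102019 := rfl
theorem F156975 : act 4 n102019 = n47386 := d10_1 D102019 (iv6 D47386) D47385
def n102020 : Q := act 7 n47386
theorem D102020 : act 7 n47386 = n102020 := rfl
def n102021 : Q := act 3 n47387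
theorem D102021 : act 3 n47387 = n102021 := rfl
def n102022 : Q := act 6 n47387
theorem D102022 : act 6 n47387 = n102022 := rfl
theorem F156976 : act 4 n102022 = n99828 := d10_1 D102022 (iv6 D99828) (iv4 F74597)
def n102023 : Q := act 3 n47388
theorem D102023 : act 3 n47388 = n102023 := rfl
def n102024 : Q := act 6 n47388
theorem D102024 : act 6 n47388 = n102024 := rfl
theorem F156977 : act 4 n102024 = n99830 := d10_1 D102024 (iv6 D99830) (iv4 F74600)
def n102025 : Q := act 0 n47389
theorem D102025 : act 0 n47389 = n102025 := rfl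
def n102026 : Q := act 1 n47389
theorem D102026 : act 1 n47389 = n102026 := rfl
def n102027 : Q := act 2 n47389
theorem D102027 : act 2 n47389 = n102027 := rfl
def n102028 : Q := act 6 n47389
theorem D102028 : act 6 n47389 = n102028 := rfl
theorem F156978 : act 3 n102028 = n47390 := d7_1 D102028 (iv6 D47390) D47389
def n102029 : Q := act 0 n47390
theorem D102029 : act 0 n47390 = n102029 := rfl
def n102030 : Q := act 1 n47390
theorem D102030 : act 1 n47390 = n102030 := rfl
def n102031 : Q := act 5 n47390
theorem D102031 : act 5 n47390 = n102031 := rfl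
def n102032 : Q := act 7 n47390
theorem D102032 : act 7 n47390 = n102032 := rfl
theorem F156979 : act 4 n102032 = n47394 := d11_1 D102032 (iv7 D47394) (iv4 F74601)
def n102033 : Q := act 2 n47391
theorem D102033 : act 2 n47391 = n102033 := rfl
theorem F156980 : act 7 n47392 = n102033 := d15_2 (iv0 D47391) D47392 (iv2 D102033)
def n102034 : Q := act 3 n47391
theorem D102034 : act 3 n47391 = n102034 := rfl
def n102035 : Q := act 4 n47391
theorem D102035 : act 4 n47391 = n102035 := rfl
def n102036 : Q := act 5 n47391
theorem D102036 : act 5 n47391 = n102036 := rfl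
theorem F156981 : act 0 n102036 = n101865 := d21_1 D102036 (iv5 D101865) (iv6 D47337) (iv1 D22745) F17286 (iv5 D4920) D4918 D10761 D22766 D47391
theorem F156982 : act 6 n101780 = n47391 := d21_5 (iv5 D10755) D10753 D22737 D47306 D101780 D102036 F156981 (iv5 D101865) (iv6 D47337) (iv1 D22745)
def n102037 : Q := act 7 n47391
theorem D102037 : act 7 n47391 = n102037 := rfl
theorem F156983 : act 2 n102037 = n47392 := d4_1 D102037 F156980 (iv2 D102033)
def n102038 : Q := act 3 n47392
theorem D102038 : act 3 n47392 = n102038 := rfl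
def n102039 : Q := act 4 n47392
theorem D102039 : act 4 n47392 = n102039 := rfl
def n102040 : Q := act 5 n47392
theorem D102040 : act 5 n47392 = n102040 := rfl
theorem F156984 : act 0 n101865 = n102040 := d21_10 (iv5 D102040) (iv1 D47392) D47393 F74603 F35335 (iv6 F63921) (iv5 D41475) D41473 D88837 (iv6 F156820)
def n102041 : Q := act 6 n47392
theorem D102041 : act 6 n47392 = n102041 := rfl
def n102042 : Q := act 0 n47393
theorem D102042 : act 0 n47393 = n102042 := rfl
def n102043 : Q := act 1 n47393
theorem D102043 : act 1 n47393 = n102043 := rfl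
theorem F156985 : act 1 n102043 = n89442 := d15_1 D102043 (iv7 D89442) (iv2 F74602)
def n102044 : Q := act 4 n47393
theorem D102044 : act 4 n47393 = n102044 := rfl
theorem F156986 : act 2 n102044 = n89439 := d1_1 D102044 F137106 (iv2 F74602)
theorem F156987 : act 6 n102044 = n47395 := d10_2 (iv6 F74603) D102044 (iv4 D47395)
def n102045 : Q := act 7 n47393
theorem D102045 : act 7 n47393 = n102045 := rfl
theorem F156988 : act 2 n102045 = n89442 := d4_1 D102045 (iv7 D89442) (iv2 F74602)
theorem F156989 : act 5 n102045 = n47394 := d13_1 D102045 (iv7 D47394) D47393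
theorem F156990 : act 6 n102045 = n89432 := d14_1 D102045 (iv7 D89432) (iv6 D41761) F58701 (iv6 F74603)
theorem F156991 : act 1 n89442 = n102042 := d15_0 (iv0 D102042) D102045 F156988
theorem F156992 : act 1 n89441 = n102045 := d15_1 D89441 (iv7 D102045) F74602
theorem F156993 : act 1 n102045 = n89440 := d15_0 (iv0 D89440) D89442 (iv2 F156988)
theorem F156994 : act 5 n101863 = n89440 := d21_0 (iv1 F156993) F156989 (iv6 F153607) (iv1 F153609) (iv6 F156335) (iv5 F155845) F156331 (iv5 D47336) D47337 D101863
def n102046 : Q := act 3 n47395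
theorem D102046 : act 3 n47395 = n102046 := rfl
theorem F156995 : act 5 n102046 = n99757 := d6_2 (iv5 F74606) D102046 (iv3 D99757)
theorem F156996 : act 7 n102046 = n89427 := d8_2 (iv7 F74605) D102046 (iv3 D89427)
def n102048 : Q := act 6 n47397
theorem D102048 : act 6 n47397 = n102048 := rfl
theorem F156998 : act 3 n102048 = n47400 := d7_1 D102048 (iv6 D47400) D47397
def n102049 : Q := act 3 n47398
theorem D102049 : act 3 n47398 = n102049 := rfl
theorem F156999 : act 2 n102049 = n88191 := d0_1 D102049 (iv3 D88191) (iv2 F156157) (iv3 F150997) F156159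
theorem F157000 : act 4 n102049 = n90431 := d5_2 D47398 D102049 (iv3 F153479) (iv4 F142884) (iv3 D47397)
theorem F157001 : act 0 n102049 = n87673 := d20_10 F135458 (iv1 D88477) (iv4 F74044) F74043 (iv1 F61968) (iv3 F35338) (iv4 D22774) D22771 D47398 D102049
def n102051 : Q := act 6 n47398
theorem D102051 : act 6 n47398 = n102051 := rfl
theorem F157002 : act 4 n102051 = n47400 := d10_1 D102051 (iv6 D47400) D47398
def n102052 : Q := act 0 n47399
theorem D102052 : act 0 n47399 = n102052 := rfl
theorem F157003 : act 1 n47404 = n102052 := d15_0 (iv0 D102052) (iv7 F156166) (iv2 F156167)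
def n102060 : Q := act 5 n47403
theorem D102060 : act 5 n47403 = n102060 := rfl
theorem F157005 : act 3 n102060 = n88188 := d6_1 D102060 (iv5 D88188) F74609
def n102061 : Q := act 6 n47403
theorem D102061 : act 6 n47403 = n102061 := rfl
theorem F157007 : act 4 n102061 = n47405 := d10_1 D102061 (iv6 D47405) D47403
def n102062 : Q := act 4 n47404
theorem D102062 : act 4 n47404 = n102062 := rfl
def n102063 : Q := act 6 n47404
theorem D102063 : act 6 n47404 = n102063 := rfl
def n102068 : Q := act 5 n47406
theorem D102068 : act 5 n47406 = n102068 := rfl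
theorem F157008 : act 2 n102068 = n47411 := d2_1 D102068 (iv5 D47411) (iv2 F74610)
theorem F157009 : act 3 n102068 = n88355 := d6_1 D102068 (iv5 D88355) F74613
theorem F157010 : act 7 n102068 = n88303 := d13_2 (iv7 F74611) D102068 (iv5 D88303)
theorem F157011 : act 1 n88306 = n102068 := d15_1 D88306 F157010 F135215
theorem F157012 : act 1 n102068 = n88305 := d15_0 (iv0 D88305) (iv7 F74620) (iv2 F157008)
def n102069 : Q := act 6 n47406
theorem D102069 : act 6 n47406 = n102069 := rfl
theorem F157013 : act 2 n102069 = n47412 := d3_1 D102069 (iv6 D47412) (iv2 F74610)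
theorem F157014 : act 3 n102069 = n88356 := d7_1 D102069 (iv6 D88356) F74613
theorem F157015 : act 4 n102069 = n47408 := d10_1 D102069 (iv6 D47408) D47406
def n102072 : Q := act 0 n47408
theorem D102072 : act 0 n47408 = n102072 := rfl
def n102073 : Q := act 1 n47408
theorem D102073 : act 1 n47408 = n102073 := rfl
theorem F157018 : act 1 n102073 = n47420 := d15_1 D102073 (iv7 D47420) (iv2 F74616)
def n102074 : Q := act 5 n47408
theorem D102074 : act 5 n47408 = n102074 := rfl
theorem F157019 : act 2 n102074 = n47419 := d2_1 D102074 (iv5 D47419) (iv2 F74616)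
def n102075 : Q := act 7 n47408
theorem D102075 : act 7 n47408 = n102075 := rfl
theorem F157020 : act 2 n102075 = n47420 := d4_1 D102075 (iv7 D47420) (iv2 F74616)
theorem F157021 : act 1 n47420 = n102072 := d15_0 (iv0 D102072) D102075 F157020
theorem F157022 : act 1 n47418 = n102075 := d15_1 D47418 (iv7 D102075) F74616
theorem F157023 : act 1 n102075 = n47417 := d15_0 (iv0 D47417) D47420 (iv2 F157020)
def n102076 : Q := act 2 n47409
theorem D102076 : act 2 n47409 = n102076 := rfl
theorem F157024 : act 7 n47410 = n102076 := d15_2 (iv0 D47409) D47410 (iv2 D102076)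
def n102077 : Q := act 5 n47409
theorem D102077 : act 5 n47409 = n102077 := rfl
def n102078 : Q := act 6 n47409
theorem D102078 : act 6 n47409 = n102078 := rfl
def n102079 : Q := act 7 n47409
theorem D102079 : act 7 n47409 = n102079 := rfl
theorem F157025 : act 2 n102079 = n47410 := d4_1 D102079 F157024 (iv2 D102076)
def n102080 : Q := act 3 n47410
theorem D102080 : act 3 n47410 = n102080 := rfl
theorem F157026 : act 0 n102080 = n97961 := d20_10 (iv4 D97961) (iv1 D45725) F34314 F34313 D21858 D45728 F72133 F74720 F74719 D102080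
def n102081 : Q := act 5 n47410
theorem D102081 : act 5 n47410 = n102081 := rfl
def n102082 : Q := act 6 n47410
theorem D102082 : act 6 n47410 = n102082 := rfl
def n102083 : Q := act 0 n47411
theorem D102083 : act 0 n47411 = n102083 := rfl
theorem F157027 : act 1 n88303 = n102083 := d15_0 (iv0 D102083) F74620 (iv2 F135215)
def n102084 : Q := act 1 n47411
theorem D102084 : act 1 n47411 = n102084 := rfl
theorem F157028 : act 1 n102084 = n88303 := d15_1 D102084 (iv7 F157010) F157008
def n102085 : Q := act 4 n47411
theorem D102085 : act 4 n47411 = n102085 := rfl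
theorem F157029 : act 7 n102085 = n88307 := d11_2 (iv7 F74620) D102085 (iv4 D88307)
def n102086 : Q := act 6 n47411
theorem D102086 : act 6 n47411 = n102086 := rfl
theorem F157030 : act 3 n102086 = n87727 := d7_1 D102086 (iv6 D87727) (iv3 F74619)
def n102087 : Q := act 0 n47412
theorem D102087 : act 0 n47412 = n102087 := rfl
def n102088 : Q := act 1 n47412
theorem D102088 : act 1 n47412 = n102088 := rfl
def n102089 : Q := act 5 n47412
theorem D102089 : act 5 n47412 = n102089 := rfl
theorem F157031 : act 3 n102089 = n87728 := d6_1 D102089 (iv5 D87728) (iv3 F74621)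
def n102101 : Q := act 1 n47415
theorem D102101 : act 1 n47415 = n102101 := rfl
def n102109 : Q := act 2 n47417
theorem D102109 : act 2 n47417 = n102109 := rfl
theorem F157039 : act 7 n47418 = n102109 := d15_2 (iv0 D47417) D47418 (iv2 D102109)
def n102110 : Q := act 3 n47417
theorem D102110 : act 3 n47417 = n102110 := rfl
def n102111 : Q := act 4 n47417
theorem D102111 : act 4 n47417 = n102111 := rfl
def n102112 : Q := act 5 n47417
theorem D102112 : act 5 n47417 = n102112 := rfl
def n102113 : Q := act 6 n47417
theorem D102113 : act 6 n47417 = n102113 := rfl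
def n102114 : Q := act 7 n47417
theorem D102114 : act 7 n47417 = n102114 := rfl
theorem F157040 : act 2 n102114 = n47418 := d4_1 D102114 F157039 (iv2 D102109)
def n102115 : Q := act 3 n47418
theorem D102115 : act 3 n47418 = n102115 := rfl
def n102116 : Q := act 4 n47418
theorem D102116 : act 4 n47418 = n102116 := rfl
def n102117 : Q := act 5 n47418
theorem D102117 : act 5 n47418 = n102117 := rfl
def n102118 : Q := act 6 n47418
theorem D102118 : act 6 n47418 = n102118 := rfl
def n102133 : Q := act 6 n47423
theorem D102133 : act 6 n47423 = n102133 := rfl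
def n102138 : Q := act 4 n47425
theorem D102138 : act 4 n47425 = n102138 := rfl
theorem F157043 : act 6 n102138 = n47427 := d10_2 (iv6 F74627) D102138 (iv4 D47427)
def n102140 : Q := act 3 n47427
theorem D102140 : act 3 n47427 = n102140 := rfl
def n102151 : Q := act 4 n47430
theorem D102151 : act 4 n47430 = n102151 := rfl
theorem F157047 : act 2 n102151 = n47431 := d1_1 D102151 (iv4 D47431) D47430
def n102152 : Q := act 5 n47430
theorem D102152 : act 5 n47430 = n102152 := rfl
theorem F157048 : act 2 n102152 = n47432 := d2_1 D102152 (iv5 D47432) D47430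
theorem F157049 : act 4 n96117 = n102152 := d1_0 F157048 (iv4 F150265) F150272
theorem E15500 : n99796 = n99765 := (c17_7 F70652 D44996 D96364 (iv5 F150273) F157049 (iv5 D102152) F153630 (iv5 D99765) (iv0 D46600) (iv4 F70650))
theorem F157050 : act 0 n99765 = n47430 := (sb E15500 (iv1 F153630))
theorem F157051 : act 1 n99765 = n46610 := (sb E15500 (iv0 D99796))
theorem E15501 : n99797 = n99770 := (c15_2 F157051 D99797 (iv7 F156232) (iv2 F156233))
theorem F157052 : act 0 n99770 = n46610 := (sb E15501 (iv1 D99797))
theorem F157053 : act 1 n99770 = n47430 := (sb E15501 F153634)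
def n102153 : Q := act 6 n47430
theorem D102153 : act 6 n47430 = n102153 := rfl
theorem F157054 : act 2 n102153 = n47433 := d3_1 D102153 (iv6 D47433) D47430
def n102154 : Q := act 0 n47431
theorem D102154 : act 0 n47431 = n102154 := rfl
def n102155 : Q := act 1 n47431
theorem D102155 : act 1 n47431 = n102155 := rfl
theorem F157055 : act 4 n100383 = n102155 := d20_6 (iv4 F64411) (iv1 F64413) (iv4 F64501) (iv3 F137345) F137346 (iv3 F154404) (iv1 D102155) (iv4 D47431) (iv3 D22785) (iv1 F34846)
def n102156 : Q := act 3 n47431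
theorem D102156 : act 3 n47431 = n102156 := rfl
theorem F157056 : act 4 n102156 = n47436 := d5_2 D47431 D102156 (iv3 D47436) (iv4 D22786) D22785
def n102158 : Q := act 6 n47431
theorem D102158 : act 6 n47431 = n102158 := rfl
theorem F157057 : act 4 n102158 = n47433 := d10_1 D102158 (iv6 D47433) D47431
def n102159 : Q := act 0 n47432
theorem D102159 : act 0 n47432 = n102159 := rfl
def n102160 : Q := act 1 n47432
theorem D102160 : act 1 n47432 = n102160 := rfl
def n102161 : Q := act 0 n47433
theorem D102161 : act 0 n47433 = n102161 := rfl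
def n102162 : Q := act 1 n47433
theorem D102162 : act 1 n47433 = n102162 := rfl
def n102163 : Q := act 5 n47433
theorem D102163 : act 5 n47433 = n102163 := rfl
theorem F157058 : act 3 n102163 = n47440 := d6_1 D102163 (iv5 D47440) (iv3 F74629)
def n102164 : Q := act 7 n47433
theorem D102164 : act 7 n47433 = n102164 := rfl
theorem F157059 : act 3 n102164 = n47441 := d8_1 D102164 (iv7 D47441) (iv3 F74629)
def n102165 : Q := act 3 n47434
theorem D102165 : act 3 n47434 = n102165 := rfl
theorem F157060 : act 5 n102165 = n98333 := d6_2 (iv5 F74630) D102165 (iv3 D98333)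
theorem F157061 : act 7 n102165 = n99954 := d8_2 F74633 D102165 (iv3 D99954)
def n102166 : Q := act 6 n47434
theorem D102166 : act 6 n47434 = n102166 := rfl
theorem F157062 : act 4 n102166 = n99819 := d10_1 D102166 (iv6 D99819) (iv4 F74631)
def n102167 : Q := act 3 n47435
theorem D102167 : act 3 n47435 = n102167 := rfl
def n102168 : Q := act 0 n47436
theorem D102168 : act 0 n47436 = n102168 := rfl
def n102169 : Q := act 1 n47436
theorem D102169 : act 1 n47436 = n102169 := rfl
def n102170 : Q := act 2 n47436
theorem D102170 : act 2 n47436 = n102170 := rfl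
def n102171 : Q := act 6 n47436
theorem D102171 : act 6 n47436 = n102171 := rfl
theorem F157063 : act 3 n102171 = n47437 := d7_1 D102171 (iv6 D47437) D47436
def n102172 : Q := act 0 n47437
theorem D102172 : act 0 n47437 = n102172 := rfl
def n102173 : Q := act 1 n47437
theorem D102173 : act 1 n47437 = n102173 := rfl
def n102174 : Q := act 5 n47437
theorem D102174 : act 5 n47437 = n102174 := rfl
def n102175 : Q := act 7 n47437
theorem D102175 : act 7 n47437 = n102175 := rfl
theorem F157064 : act 4 n102175 = n47441 := d11_1 D102175 (iv7 D47441) (iv4 F74637)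
def n102176 : Q := act 2 n47438
theorem D102176 : act 2 n47438 = n102176 := rfl
theorem F157065 : act 7 n47439 = n102176 := d15_2 (iv0 D47438) D47439 (iv2 D102176)
def n102177 : Q := act 3 n47438
theorem D102177 : act 3 n47438 = n102177 := rfl
def n102178 : Q := act 4 n47438
theorem D102178 : act 4 n47438 = n102178 := rfl
def n102179 : Q := act 5 n47438
theorem D102179 : act 5 n47438 = n102179 := rfl
def n102180 : Q := act 6 n47438
theorem D102180 : act 6 n47438 = n102180 := rfl
theorem F157066 : act 5 n102180 = n89441 := d21_6 (iv5 D45656) F63040 (iv5 D22787) D22788 D47438 D102180 (iv1 D89441) (iv5 F73596) (iv6 D46599) (iv1 F71995)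
def n102181 : Q := act 7 n47438
theorem D102181 : act 7 n47438 = n102181 := rfl
theorem F157067 : act 2 n102181 = n47439 := d4_1 D102181 F157065 (iv2 D102176)
def n102182 : Q := act 3 n47439
theorem D102182 : act 3 n47439 = n102182 := rfl
def n102183 : Q := act 4 n47439
theorem D102183 : act 4 n47439 = n102183 := rfl
def n102184 : Q := act 5 n47439
theorem D102184 : act 5 n47439 = n102184 := rfl
theorem F157068 : act 6 n101182 = n102184 := d21_5 (iv5 D46475) F62712 (iv5 F35228) D47124 D101182 (iv5 D102184) (iv1 D47439) D47440 F75646 (iv1 F75644)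
def n102185 : Q := act 6 n47439
theorem D102185 : act 6 n47439 = n102185 := rfl
def n102186 : Q := act 1 n47440
theorem D102186 : act 1 n47440 = n102186 := rfl
theorem F157069 : act 5 n102133 = n102186 := d21_6 F34843 (iv1 F17176) D10766 D22779 D47423 D102133 (iv1 D102186) (iv5 D47440) (iv6 D22788) (iv1 F34846)
def n102187 : Q := act 4 n47440
theorem D102187 : act 4 n47440 = n102187 := rfl
theorem F157070 : act 6 n102187 = n100532 := d10_2 (iv6 F75646) D102187 F154599
def n102188 : Q := act 7 n47440
theorem D102188 : act 7 n47440 = n102188 := rfl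
theorem F157071 : act 5 n102188 = n47441 := d13_1 D102188 (iv7 D47441) D47440
def n102199 : Q := act 4 n47444
theorem D102199 : act 4 n47444 = n102199 := rfl
theorem F157074 : act 2 n102199 = n47445 := d1_1 D102199 (iv4 D47445) D47444
def n102200 : Q := act 5 n47444
theorem D102200 : act 5 n47444 = n102200 := rfl
theorem F157075 : act 2 n102200 = n47446 := d2_1 D102200 (iv5 D47446) D47444
def n102201 : Q := act 6 n47444
theorem D102201 : act 6 n47444 = n102201 := rfl
theorem F157076 : act 2 n102201 = n47447 := d3_1 D102201 (iv6 D47447) D47444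
def n102202 : Q := act 0 n47445
theorem D102202 : act 0 n47445 = n102202 := rfl
def n102203 : Q := act 1 n47445
theorem D102203 : act 1 n47445 = n102203 := rfl
def n102204 : Q := act 3 n47445
theorem D102204 : act 3 n47445 = n102204 := rfl
theorem F157077 : act 4 n102204 = n47448 := d5_2 D47445 D102204 (iv3 D47448) (iv4 D22791) D22790
def n102205 : Q := act 5 n47445
theorem D102205 : act 5 n47445 = n102205 := rfl
def n102206 : Q := act 6 n47445
theorem D102206 : act 6 n47445 = n102206 := rfl
theorem F157078 : act 4 n102206 = n47447 := d10_1 D102206 (iv6 D47447) D47445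
def n102207 : Q := act 0 n47446
theorem D102207 : act 0 n47446 = n102207 := rfl
def n102208 : Q := act 1 n47446
theorem D102208 : act 1 n47446 = n102208 := rfl
def n102209 : Q := act 0 n47447
theorem D102209 : act 0 n47447 = n102209 := rfl
def n102210 : Q := act 1 n47447
theorem D102210 : act 1 n47447 = n102210 := rfl
def n102211 : Q := act 5 n47447
theorem D102211 : act 5 n47447 = n102211 := rfl
theorem F157079 : act 3 n102211 = n47452 := d6_1 D102211 (iv5 D47452) (iv3 F74639)
def n102212 : Q := act 7 n47447
theorem D102212 : act 7 n47447 = n102212 := rfl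
def n102213 : Q := act 0 n47448
theorem D102213 : act 0 n47448 = n102213 := rfl
def n102214 : Q := act 1 n47448
theorem D102214 : act 1 n47448 = n102214 := rfl
def n102215 : Q := act 2 n47448
theorem D102215 : act 2 n47448 = n102215 := rfl
def n102216 : Q := act 6 n47448
theorem D102216 : act 6 n47448 = n102216 := rfl
theorem F157081 : act 3 n102216 = n47449 := d7_1 D102216 (iv6 D47449) D47448
def n102217 : Q := act 0 n47449
theorem D102217 : act 0 n47449 = n102217 := rfl
def n102218 : Q := act 1 n47449
theorem D102218 : act 1 n47449 = n102218 := rfl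
def n102219 : Q := act 5 n47449
theorem D102219 : act 5 n47449 = n102219 := rfl
def n102220 : Q := act 7 n47449
theorem D102220 : act 7 n47449 = n102220 := rfl
theorem F157082 : act 4 n102220 = n47453 := d11_1 D102220 (iv7 D47453) (iv4 F74640)
def n102221 : Q := act 2 n47450
theorem D102221 : act 2 n47450 = n102221 := rfl
theorem F157083 : act 7 n47451 = n102221 := d15_2 (iv0 D47450) D47451 (iv2 D102221)
def n102222 : Q := act 3 n47450
theorem D102222 : act 3 n47450 = n102222 := rfl
def n102223 : Q := act 4 n47450
theorem D102223 : act 4 n47450 = n102223 := rfl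
def n102224 : Q := act 5 n47450
theorem D102224 : act 5 n47450 = n102224 := rfl
def n102225 : Q := act 6 n47450
theorem D102225 : act 6 n47450 = n102225 := rfl
def n102226 : Q := act 7 n47450
theorem D102226 : act 7 n47450 = n102226 := rfl
theorem F157084 : act 2 n102226 = n47451 := d4_1 D102226 F157083 (iv2 D102221)
def n102227 : Q := act 3 n47451
theorem D102227 : act 3 n47451 = n102227 := rfl
def n102228 : Q := act 4 n47451
theorem D102228 : act 4 n47451 = n102228 := rfl
def n102229 : Q := act 5 n47451
theorem D102229 : act 5 n47451 = n102229 := rfl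
def n102230 : Q := act 6 n47451
theorem D102230 : act 6 n47451 = n102230 := rfl
def n102231 : Q := act 0 n47452
theorem D102231 : act 0 n47452 = n102231 := rfl
theorem F157085 : act 5 n102231 = n101781 := d21_0 (iv1 D101781) D101782 F156647 F74541 F74283 (iv5 D41349) D41347 D88596 F135754 D102231
def n102232 : Q := act 1 n47452
theorem D102232 : act 1 n47452 = n102232 := rfl
theorem F157086 : act 5 n101780 = n102232 := d21_0 (iv1 D102232) (iv5 D47452) (iv6 D22793) (iv1 D10769) (iv6 F17286) (iv5 D10755) D10753 D22737 D47306 D101780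
def n102233 : Q := act 4 n47452
theorem D102233 : act 4 n47452 = n102233 := rfl
def n102234 : Q := act 7 n47452
theorem D102234 : act 7 n47452 = n102234 := rfl
theorem F157087 : act 5 n102234 = n47453 := d13_1 D102234 (iv7 D47453) D47452
def n102235 : Q := act 0 n47455
theorem D102235 : act 0 n47455 = n102235 := rfl
def n102236 : Q := act 1 n47455
theorem D102236 : act 1 n47455 = n102236 := rfl
def n102237 : Q := act 2 n47455
theorem D102237 : act 2 n47455 = n102237 := rfl
def n102238 : Q := act 4 n47455
theorem D102238 : act 4 n47455 = n102238 := rfl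
def n102239 : Q := act 6 n47455
theorem D102239 : act 6 n47455 = n102239 := rfl
theorem F157088 : act 3 n102239 = n47456 := d7_1 D102239 (iv6 D47456) D47455
def n102240 : Q := act 0 n47456
theorem D102240 : act 0 n47456 = n102240 := rfl
def n102241 : Q := act 1 n47456
theorem D102241 : act 1 n47456 = n102241 := rfl
def n102242 : Q := act 5 n47456
theorem D102242 : act 5 n47456 = n102242 := rfl
def n102243 : Q := act 7 n47456
theorem D102243 : act 7 n47456 = n102243 := rfl
def n102244 : Q := act 0 n47458
theorem D102244 : act 0 n47458 = n102244 := rfl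
def n102245 : Q := act 1 n47458
theorem D102245 : act 1 n47458 = n102245 := rfl
def n102246 : Q := act 2 n47458
theorem D102246 : act 2 n47458 = n102246 := rfl
def n102247 : Q := act 4 n47458
theorem D102247 : act 4 n47458 = n102247 := rfl
def n102248 : Q := act 6 n47458
theorem D102248 : act 6 n47458 = n102248 := rfl
theorem F157089 : act 3 n102248 = n47459 := d7_1 D102248 (iv6 D47459) D47458
def n102249 : Q := act 0 n47459
theorem D102249 : act 0 n47459 = n102249 := rfl
def n102250 : Q := act 1 n47459
theorem D102250 : act 1 n47459 = n102250 := rfl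
def n102251 : Q := act 5 n47459
theorem D102251 : act 5 n47459 = n102251 := rfl
def n102252 : Q := act 7 n47459
theorem D102252 : act 7 n47459 = n102252 := rfl
def n102253 : Q := act 0 n47460
theorem D102253 : act 0 n47460 = n102253 := rfl
theorem F157090 : act 2 n47464 = n102253 := d15_3 (iv0 D102253) (iv0 D47460) D47464
theorem F157091 : act 7 n102253 = n47462 := d4_2 D47464 F157090 (iv2 D47462)
theorem F157092 : act 1 n47461 = n102253 := d15_1 D47461 F157091 (iv2 D47462)
def n102254 : Q := act 2 n47460
theorem D102254 : act 2 n47460 = n102254 := rfl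
theorem F157093 : act 7 n47461 = n102254 := d15_2 (iv0 D47460) D47461 (iv2 D102254)
def n102255 : Q := act 3 n47460
theorem D102255 : act 3 n47460 = n102255 := rfl
def n102256 : Q := act 4 n47460
theorem D102256 : act 4 n47460 = n102256 := rfl
def n102257 : Q := act 5 n47460
theorem D102257 : act 5 n47460 = n102257 := rfl
def n102258 : Q := act 6 n47460
theorem D102258 : act 6 n47460 = n102258 := rfl
def n102259 : Q := act 7 n47460
theorem D102259 : act 7 n47460 = n102259 := rfl
theorem F157094 : act 2 n102259 = n47461 := d4_1 D102259 F157093 (iv2 D102254)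
def n102260 : Q := act 3 n47461
theorem D102260 : act 3 n47461 = n102260 := rfl
def n102261 : Q := act 4 n47461
theorem D102261 : act 4 n47461 = n102261 := rfl
def n102262 : Q := act 5 n47461
theorem D102262 : act 5 n47461 = n102262 := rfl
def n102263 : Q := act 6 n47461
theorem D102263 : act 6 n47461 = n102263 := rfl
def n102264 : Q := act 0 n47462
theorem D102264 : act 0 n47462 = n102264 := rfl
theorem F157095 : act 1 n47464 = n102264 := d15_0 (iv0 D102264) (iv7 F157091) (iv2 F157090)
def n102265 : Q := act 1 n47462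
theorem D102265 : act 1 n47462 = n102265 := rfl
theorem F157096 : act 1 n102265 = n47464 := d15_1 D102265 (iv7 D47464) D47462
def n102266 : Q := act 5 n47462
theorem D102266 : act 5 n47462 = n102266 := rfl
theorem F157097 : act 2 n102266 = n47463 := d2_1 D102266 (iv5 D47463) D47462
def n102267 : Q := act 0 n47463
theorem D102267 : act 0 n47463 = n102267 := rfl
def n102268 : Q := act 1 n47463
theorem D102268 : act 1 n47463 = n102268 := rfl
def n102269 : Q := act 4 n47463
theorem D102269 : act 4 n47463 = n102269 := rfl
def n102270 : Q := act 6 n47463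
theorem D102270 : act 6 n47463 = n102270 := rfl
theorem F157098 : act 3 n102270 = n47465 := d7_1 D102270 (iv6 D47465) (iv3 F74643)
def n102271 : Q := act 6 n47464
theorem D102271 : act 6 n47464 = n102271 := rfl
theorem F157099 : act 3 n102271 = n47466 := d7_1 D102271 (iv6 D47466) (iv3 F74644)
def n102272 : Q := act 0 n47465
theorem D102272 : act 0 n47465 = n102272 := rfl
def n102273 : Q := act 1 n47465
theorem D102273 : act 1 n47465 = n102273 := rfl
def n102274 : Q := act 7 n47465
theorem D102274 : act 7 n47465 = n102274 := rfl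
def n102275 : Q := act 0 n47466
theorem D102275 : act 0 n47466 = n102275 := rfl
def n102276 : Q := act 1 n47466
theorem D102276 : act 1 n47466 = n102276 := rfl
def n102277 : Q := act 5 n47466
theorem D102277 : act 5 n47466 = n102277 := rfl
def n102278 : Q := act 2 n47467
theorem D102278 : act 2 n47467 = n102278 := rfl
theorem F157100 : act 7 n47468 = n102278 := d15_2 (iv0 D47467) D47468 (iv2 D102278)
def n102279 : Q := act 3 n47467
theorem D102279 : act 3 n47467 = n102279 := rfl
def n102280 : Q := act 4 n47467
theorem D102280 : act 4 n47467 = n102280 := rfl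
def n102281 : Q := act 5 n47467
theorem D102281 : act 5 n47467 = n102281 := rfl
def n102282 : Q := act 6 n47467
theorem D102282 : act 6 n47467 = n102282 := rfl
theorem F157101 : act 5 n102282 = n100971 := d21_6 (iv5 D22324) (iv1 F17175) (iv5 F17291) D22799 D47467 D102282 (iv1 D100971) (iv5 F153570) (iv6 D99756) (iv1 D46597)
def n102283 : Q := act 7 n47467
theorem D102283 : act 7 n47467 = n102283 := rfl
theorem F157102 : act 2 n102283 = n47468 := d4_1 D102283 F157100 (iv2 D102278)
def n102284 : Q := act 3 n47468
theorem D102284 : act 3 n47468 = n102284 := rfl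
def n102285 : Q := act 4 n47468
theorem D102285 : act 4 n47468 = n102285 := rfl
def n102286 : Q := act 5 n47468
theorem D102286 : act 5 n47468 = n102286 := rfl
def n102287 : Q := act 6 n47468
theorem D102287 : act 6 n47468 = n102287 := rfl
def n102288 : Q := act 0 n47469
theorem D102288 : act 0 n47469 = n102288 := rfl
def n102289 : Q := act 1 n47469
theorem D102289 : act 1 n47469 = n102289 := rfl
def n102290 : Q := act 4 n47469
theorem D102290 : act 4 n47469 = n102290 := rfl
theorem F157103 : act 6 n102290 = n47470 := d10_2 (iv6 F74647) D102290 (iv4 D47470)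
def n102291 : Q := act 3 n47470
theorem D102291 : act 3 n47470 = n102291 := rfl
theorem F157104 : act 4 n102291 = n88281 := d5_2 D47470 D102291 F135189 F62386 (iv3 F35347)
theorem F157105 : act 7 n102291 = n47497 := d8_2 (iv7 F74648) D102291 (iv3 D47497)
def n102292 : Q := act 5 n47471
theorem D102292 : act 5 n47471 = n102292 := rfl
theorem F157106 : act 3 n102292 = n88226 := d6_1 D102292 (iv5 D88226) (iv3 F74683)
def n102294 : Q := act 3 n47472
theorem D102294 : act 3 n47472 = n102294 := rfl
theorem F157108 : act 2 n102294 = n88222 := d0_1 D102294 (iv3 D88222) (iv2 F156216) (iv3 F153585) F156223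
theorem F157109 : act 4 n102294 = n88342 := d20_6 (iv4 F74719) (iv1 F153886) F153883 (iv3 F151018) (iv1 F151023) D102294 (iv1 F148073) F148071 F134636 (iv1 F74618)
theorem F157110 : act 2 n88342 = n96271 := d1_1 F157109 (iv4 F148068) (iv2 F157108)
theorem F157111 : act 7 n96270 = n88342 := d15_2 (iv0 F148069) F148067 F157110
theorem F157112 : act 7 n88343 = n96271 := d15_2 (iv0 D88342) D88343 (iv2 F157110)
theorem F157113 : act 2 n96270 = n88343 := d4_3 F157112 (iv2 F157110) (iv7 F157111)
theorem F157114 : act 3 n96386 = n88343 := d8_3 F157112 F153382 (iv7 F156206)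
def n102295 : Q := act 4 n47472
theorem D102295 : act 4 n47472 = n102295 := rfl
theorem F157115 : act 3 n102295 = n48375 := d20_3 (iv4 F151019) (iv1 F151023) D102295 (iv1 D48375) (iv3 D23517) (iv4 D11029) (iv1 F7486) D11060 D23602 D48436
def n102296 : Q := act 5 n47472
theorem D102296 : act 5 n47472 = n102296 := rfl
def n102298 : Q := act 5 n47473
theorem D102298 : act 5 n47473 = n102298 := rfl
theorem F157116 : act 2 n102298 = n47474 := d2_1 D102298 (iv5 D47474) D47473
def n102299 : Q := act 6 n47473
theorem D102299 : act 6 n47473 = n102299 := rfl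
theorem F157117 : act 2 n102299 = n47475 := d3_1 D102299 (iv6 D47475) D47473
theorem F157118 : act 4 n102299 = n95464 := d10_1 D102299 (iv6 D95464) (iv4 F74649)
def n102300 : Q := act 0 n47474
theorem D102300 : act 0 n47474 = n102300 := rfl
def n102301 : Q := act 1 n47474
theorem D102301 : act 1 n47474 = n102301 := rfl
def n102302 : Q := act 4 n47474
theorem D102302 : act 4 n47474 = n102302 := rfl
def n102303 : Q := act 6 n47474
theorem D102303 : act 6 n47474 = n102303 := rfl
theorem F157119 : act 3 n102303 = n47479 := d7_1 D102303 (iv6 D47479) (iv3 F74650)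
def n102304 : Q := act 0 n47475
theorem D102304 : act 0 n47475 = n102304 := rfl
def n102305 : Q := act 1 n47475
theorem D102305 : act 1 n47475 = n102305 := rfl
def n102306 : Q := act 5 n47475
theorem D102306 : act 5 n47475 = n102306 := rfl
theorem F157120 : act 3 n102306 = n47480 := d6_1 D102306 (iv5 D47480) (iv3 F74651)
theorem F157121 : act 7 n102306 = n89475 := d13_2 F154256 D102306 (iv5 F154255)
def n102307 : Q := act 3 n47476
theorem D102307 : act 3 n47476 = n102307 := rfl
theorem F157122 : act 2 n102307 = n88207 := d0_1 D102307 (iv3 D88207) (iv2 F69717) (iv3 F70514) F74656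
theorem F157123 : act 5 n102307 = n89081 := d6_2 (iv5 F74652) D102307 F136791
def n102308 : Q := act 4 n47476
theorem D102308 : act 4 n47476 = n102308 := rfl
theorem F157124 : act 2 n102308 = n96168 := d1_1 D102308 (iv4 D96168) F74656
theorem F157125 : act 0 n102308 = n47637 := d18_2 D47476 D102308 (iv4 D47637) (iv5 D22928) (iv4 D10825) F16609 (iv4 F34318) F34323 D22804
theorem F157126 : act 1 n102308 = n47619 := d18_6 (iv1 D41806) F31429 (iv1 F35515) (iv4 F64233) (iv5 F74652) D102308 (iv4 D47619) D47618 (iv5 F74880)
def n102309 : Q := act 6 n47476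
theorem D102309 : act 6 n47476 = n102309 := rfl
theorem F157127 : act 2 n102309 = n96166 := d3_1 D102309 F147852 F74656
theorem F157128 : act 5 n102309 = n89083 := d12_1 D102309 (iv6 D89083) (iv5 D41622) D41623 (iv5 F74652)
def n102310 : Q := act 4 n47477
theorem D102310 : act 4 n47477 = n102310 := rfl
theorem F157129 : act 7 n102310 = n96168 := d11_2 (iv7 F74658) D102310 (iv4 D96168)
theorem F157130 : act 0 n102310 = n47619 := d18_2 (iv1 F74657) D102310 (iv4 D47619) (iv5 D22911) (iv4 D10820) (iv0 D4934) (iv4 F7346) D10774 D22809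
theorem F157131 : act 1 n102310 = n47637 := d18_6 (iv1 F136336) F136333 (iv1 F63978) (iv4 F64382) F74660 D102310 (iv4 D47637) F74876 F74875
def n102311 : Q := act 1 n47478
theorem D102311 : act 1 n47478 = n102311 := rfl
theorem F157132 : act 1 n102311 = n47487 := d15_1 D102311 (iv7 F151014) F151013
theorem F157133 : act 4 n102311 = n97995 := d18_7 F66482 F17195 D20494 F66647 D22804 D47478 D102311 F151071 (iv5 D45745)
def n102312 : Q := act 3 n47478
theorem D102312 : act 3 n47478 = n102312 := rfl
def n102313 : Q := act 5 n47478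
theorem D102313 : act 5 n47478 = n102313 := rfl
theorem F157135 : act 1 n102313 = n99941 := d17_6 (iv1 D22812) (iv5 D10775) D10773 D22804 D47478 D102313 (iv5 D99941) (iv0 F74672) (iv4 D47493)
def n102314 : Q := act 6 n47478
theorem D102314 : act 6 n47478 = n102314 := rfl
theorem F157136 : act 4 n102314 = n47479 := d10_1 D102314 (iv6 D47479) D47478
def n102315 : Q := act 0 n47479
theorem D102315 : act 0 n47479 = n102315 := rfl
def n102316 : Q := act 1 n47479
theorem D102316 : act 1 n47479 = n102316 := rfl
def n102317 : Q := act 5 n47479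
theorem D102317 : act 5 n47479 = n102317 := rfl
theorem F157137 : act 2 n102317 = n89480 := d2_1 D102317 (iv5 F151016) F151015
theorem F157138 : act 6 n102317 = n47480 := d12_2 D47479 D102317 (iv5 D47480) (iv6 D22805) D22804
def n102318 : Q := act 7 n47479
theorem D102318 : act 7 n47479 = n102318 := rfl
def n102319 : Q := act 5 n47483
theorem D102319 : act 5 n47483 = n102319 := rfl
theorem F157139 : act 2 n102319 = n47485 := d2_1 D102319 (iv5 D47485) D47483
def n102320 : Q := act 6 n47483
theorem D102320 : act 6 n47483 = n102320 := rfl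
theorem F157140 : act 2 n102320 = n47486 := d3_1 D102320 (iv6 D47486) D47483
def n102322 : Q := act 0 n47485
theorem D102322 : act 0 n47485 = n102322 := rfl
def n102323 : Q := act 1 n47485
theorem D102323 : act 1 n47485 = n102323 := rfl
def n102324 : Q := act 4 n47485
theorem D102324 : act 4 n47485 = n102324 := rfl
def n102325 : Q := act 6 n47485
theorem D102325 : act 6 n47485 = n102325 := rfl
theorem F157143 : act 3 n102325 = n47488 := d7_1 D102325 (iv6 D47488) (iv3 F74669)
def n102326 : Q := act 0 n47486
theorem D102326 : act 0 n47486 = n102326 := rfl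
def n102328 : Q := act 3 n47487
theorem D102328 : act 3 n47487 = n102328 := rfl
def n102329 : Q := act 5 n47487
theorem D102329 : act 5 n47487 = n102329 := rfl
theorem F157145 : act 0 n102329 = n99941 := d17_2 F151994 D102329 (iv5 D99941) (iv4 D46677) (iv5 D22383) (iv0 F66482) D45745 F72661 D98602
def n102330 : Q := act 6 n47487
theorem D102330 : act 6 n47487 = n102330 := rfl
theorem F157146 : act 4 n102330 = n47488 := d10_1 D102330 (iv6 D47488) D47487
def n102331 : Q := act 0 n47488
theorem D102331 : act 0 n47488 = n102331 := rfl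
def n102332 : Q := act 1 n47488
theorem D102332 : act 1 n47488 = n102332 := rfl
def n102333 : Q := act 7 n47488
theorem D102333 : act 7 n47488 = n102333 := rfl
def n102334 : Q := act 0 n47489
theorem D102334 : act 0 n47489 = n102334 := rfl
def n102335 : Q := act 1 n47489
theorem D102335 : act 1 n47489 = n102335 := rfl
def n102336 : Q := act 2 n47489
theorem D102336 : act 2 n47489 = n102336 := rfl
def n102337 : Q := act 4 n47489
theorem D102337 : act 4 n47489 = n102337 := rfl
def n102338 : Q := act 6 n47489
theorem D102338 : act 6 n47489 = n102338 := rfl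
theorem F157147 : act 3 n102338 = n47491 := d7_1 D102338 (iv6 D47491) D47489
def n102339 : Q := act 0 n47490
theorem D102339 : act 0 n47490 = n102339 := rfl
theorem F157148 : act 4 n102339 = n89537 := d18_3 D22811 D47490 D102339 F137251 F72165 F58689 F66647 (iv0 D10773) D10775
theorem F157149 : act 2 n99942 = n102339 := d15_3 (iv0 D102339) F74671 D99942
theorem F157150 : act 1 n47493 = n102339 := d15_0 (iv0 D102339) (iv7 F137073) F137072
theorem F157151 : act 7 n102339 = n99285 := d15_2 (iv0 F74672) F157150 F152854
def n102340 : Q := act 3 n47490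
theorem D102340 : act 3 n47490 = n102340 := rfl
def n102341 : Q := act 5 n47490
theorem D102341 : act 5 n47490 = n102341 := rfl
theorem F157152 : act 4 n102341 = n47658 := d16_2 D47490 D102341 (iv5 D47658) (iv4 F66691) (iv5 F66688) (iv4 F63931) F63932 (iv7 F72159) F72160
def n102342 : Q := act 6 n47490
theorem D102342 : act 6 n47490 = n102342 := rfl
theorem F157153 : act 4 n102342 = n47491 := d10_1 D102342 (iv6 D47491) D47490
def n102343 : Q := act 0 n47491
theorem D102343 : act 0 n47491 = n102343 := rfl
def n102344 : Q := act 1 n47491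
theorem D102344 : act 1 n47491 = n102344 := rfl
def n102345 : Q := act 7 n47491
theorem D102345 : act 7 n47491 = n102345 := rfl
def n102346 : Q := act 0 n47492
theorem D102346 : act 0 n47492 = n102346 := rfl
def n102347 : Q := act 1 n47492
theorem D102347 : act 1 n47492 = n102347 := rfl
def n102348 : Q := act 2 n47492
theorem D102348 : act 2 n47492 = n102348 := rfl
def n102349 : Q := act 4 n47492
theorem D102349 : act 4 n47492 = n102349 := rfl
def n102350 : Q := act 6 n47492
theorem D102350 : act 6 n47492 = n102350 := rfl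
theorem F157154 : act 3 n102350 = n47494 := d7_1 D102350 (iv6 D47494) D47492
def n102351 : Q := act 3 n47493
theorem D102351 : act 3 n47493 = n102351 := rfl
def n102352 : Q := act 5 n47493
theorem D102352 : act 5 n47493 = n102352 := rfl
theorem F157155 : act 4 n102352 = n47655 := d9_1 D102352 (iv5 D47655) F72216 (iv5 F74586) (iv4 F74590) F72162 D47490 D102341 F157152 (iv5 D47658) (iv4 F66691) (iv5 F66688) (iv4 F63931) F63932 D47493
def n102353 : Q := act 6 n47493
theorem D102353 : act 6 n47493 = n102353 := rfl
theorem F157156 : act 4 n102353 = n47494 := d10_1 D102353 (iv6 D47494) D47493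
def n102354 : Q := act 0 n47494
theorem D102354 : act 0 n47494 = n102354 := rfl
def n102355 : Q := act 1 n47494
theorem D102355 : act 1 n47494 = n102355 := rfl
def n102356 : Q := act 7 n47494
theorem D102356 : act 7 n47494 = n102356 := rfl
def n102357 : Q := act 3 n47495
theorem D102357 : act 3 n47495 = n102357 := rfl
def n102358 : Q := act 5 n47495
theorem D102358 : act 5 n47495 = n102358 := rfl
theorem F157157 : act 4 n102358 = n47653 := d16_2 (iv4 F137261) D102358 (iv5 D47653) (iv4 D22940) (iv5 F31271) (iv4 F63963) D88881 F136338 (iv2 F137257)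
def n102359 : Q := act 6 n47495
theorem D102359 : act 6 n47495 = n102359 := rfl
def n102360 : Q := act 3 n47496
theorem D102360 : act 3 n47496 = n102360 := rfl
def n102361 : Q := act 5 n47496
theorem D102361 : act 5 n47496 = n102361 := rfl
theorem F157158 : act 4 n102361 = n47648 := d9_1 D102361 (iv5 D47648) (iv4 D22936) (iv5 F63524) (iv4 F64465) (iv5 F137258) (iv4 F137261) D102358 F157157 (iv5 D47653) (iv4 D22940) (iv5 F31271) (iv4 F63963) D88881 (iv4 F136331)
def n102362 : Q := act 6 n47496
theorem D102362 : act 6 n47496 = n102362 := rfl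
def n102363 : Q := act 0 n47497
theorem D102363 : act 0 n47497 = n102363 := rfl
def n102364 : Q := act 1 n47497
theorem D102364 : act 1 n47497 = n102364 := rfl
def n102365 : Q := act 2 n47497
theorem D102365 : act 2 n47497 = n102365 := rfl
theorem F157159 : act 4 n102365 = n88279 := d1_2 (iv4 F74673) D102365 (iv2 D88279)
def n102366 : Q := act 5 n47497
theorem D102366 : act 5 n47497 = n102366 := rfl
theorem F157160 : act 3 n102366 = n47498 := d6_1 D102366 (iv5 D47498) D47497
def n102367 : Q := act 0 n47498
theorem D102367 : act 0 n47498 = n102367 := rfl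
theorem F157161 : act 5 n102367 = n47619 := d17_3 (iv1 D47496) D47498 D102367 (iv4 D47619) (iv5 D22911) (iv0 F66633) D46424 (iv0 F136329) (iv4 F136331)
theorem F157162 : act 4 n102367 = n47641 := d18_3 (iv1 F151157) F151154 D102367 (iv5 D47641) (iv4 D22930) (iv0 F34987) (iv4 F73899) (iv0 F142950) F142949
theorem F157163 : act 1 n47665 = n102367 := d15_0 (iv0 D102367) F151150 F151148
def n102368 : Q := act 1 n47498
theorem D102368 : act 1 n47498 = n102368 := rfl
theorem F157164 : act 1 n102368 = n47665 := d15_1 D102368 F151043 F151041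
theorem F157165 : act 5 n102368 = n47637 := d17_7 (iv1 F74654) (iv5 D22809) (iv1 D10774) D10775 D22813 D47498 D102368 (iv0 F157125) (iv4 D102308)
theorem F157166 : act 4 n102368 = n47626 := d18_7 (iv1 F72201) (iv4 D22936) (iv1 F34336) (iv4 F72208) (iv5 F151155) F151154 D102368 (iv0 F136033) (iv5 D88692)
def n102369 : Q := act 6 n47498
theorem D102369 : act 6 n47498 = n102369 := rfl
def n102370 : Q := act 3 n47499
theorem D102370 : act 3 n47499 = n102370 := rfl
theorem F157167 : act 7 n102370 = n88222 := d8_2 (iv7 F156220) D102370 (iv3 D88222)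
theorem F157168 : act 4 n102370 = n88343 := d20_6 F30928 (iv1 F63099) D10785 D22821 D47499 D102370 (iv1 D88343) F62464 (iv3 D19402) F63094
theorem F157169 : act 0 n102370 = n87678 := d20_10 F134593 (iv1 D47794) (iv4 F73262) F73261 F66633 D22910 (iv4 F74400) D101234 F155952 D102370
theorem F157170 : act 1 n102294 = n87678 := d15_0 (iv0 F157169) F157167 (iv2 F157108)
def n102371 : Q := act 5 n47499
theorem D102371 : act 5 n47499 = n102371 := rfl
theorem F157171 : act 2 n102371 = n88226 := d2_1 D102371 (iv5 D88226) (iv2 F156219)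
theorem F157172 : act 7 n102371 = n88223 := d13_2 (iv7 F156220) D102371 (iv5 D88223)
def n102372 : Q := act 6 n47499
theorem D102372 : act 6 n47499 = n102372 := rfl
def n102373 : Q := act 5 n47500
theorem D102373 : act 5 n47500 = n102373 := rfl
theorem F157174 : act 2 n102373 = n88223 := d2_1 D102373 (iv5 D88223) (iv2 F156216)
theorem F157175 : act 7 n102373 = n88226 := d13_2 (iv7 F156217) D102373 (iv5 D88226)
def n102375 : Q := act 5 n47501
theorem D102375 : act 5 n47501 = n102375 := rfl
theorem F157177 : act 2 n102375 = n47502 := d2_1 D102375 (iv5 D47502) D47501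
theorem F157178 : act 3 n102375 = n88195 := d6_1 D102375 (iv5 D88195) (iv3 F74675)
theorem F157179 : act 7 n102375 = n88228 := d13_2 (iv7 F74677) D102375 (iv5 D88228)
theorem F157180 : act 1 n88231 = n102375 := d15_1 D88231 F157179 F135163
theorem F157181 : act 1 n102375 = n88230 := d15_0 (iv0 D88230) (iv7 F74685) (iv2 F157177)
def n102376 : Q := act 6 n47501
theorem D102376 : act 6 n47501 = n102376 := rfl
theorem F157182 : act 2 n102376 = n47503 := d3_1 D102376 (iv6 D47503) D47501
theorem F157183 : act 3 n102376 = n88196 := d7_1 D102376 (iv6 D88196) (iv3 F74675)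
theorem F157184 : act 4 n102376 = n47529 := d10_1 D102376 (iv6 D47529) (iv4 F74676)
def n102377 : Q := act 0 n47502
theorem D102377 : act 0 n47502 = n102377 := rfl
theorem F157185 : act 1 n88228 = n102377 := d15_0 (iv0 D102377) F74685 (iv2 F135163)
def n102378 : Q := act 1 n47502
theorem D102378 : act 1 n47502 = n102378 := rfl
theorem F157186 : act 1 n102378 = n88228 := d15_1 D102378 (iv7 F157179) F157177
def n102379 : Q := act 4 n47502
theorem D102379 : act 4 n47502 = n102379 := rfl
theorem F157187 : act 7 n102379 = n88232 := d11_2 (iv7 F74685) D102379 (iv4 D88232)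
def n102380 : Q := act 6 n47502
theorem D102380 : act 6 n47502 = n102380 := rfl
def n102381 : Q := act 0 n47503
theorem D102381 : act 0 n47503 = n102381 := rfl
def n102382 : Q := act 1 n47503
theorem D102382 : act 1 n47503 = n102382 := rfl
def n102383 : Q := act 3 n47504
theorem D102383 : act 3 n47504 = n102383 := rfl
theorem F157189 : act 7 n102383 = n88207 := d8_2 (iv7 F74689) D102383 (iv3 D88207)
def n102384 : Q := act 4 n47504
theorem D102384 : act 4 n47504 = n102384 := rfl
theorem F157190 : act 2 n102384 = n88210 := d1_1 D102384 (iv4 D88210) F74690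
theorem F157191 : act 7 n102384 = n88208 := d11_2 (iv7 F74689) D102384 (iv4 D88208)
theorem F157192 : act 0 n102384 = n87723 := d17_0 (iv5 F135243) F135244 F133347 F62386 F30992 (iv0 F17306) D22822 D47504 D102384
theorem F157193 : act 1 n102384 = n87726 := d18_6 (iv1 F133403) (iv4 D40412) D40410 D87018 F133555 D102384 (iv4 D87726) F134644 F134643
def n102385 : Q := act 6 n47504
theorem D102385 : act 6 n47504 = n102385 := rfl
theorem F157194 : act 2 n102385 = n88211 := d3_1 D102385 (iv6 D88211) F74690
theorem F157195 : act 5 n102385 = n88018 := d12_1 D102385 (iv6 D88018) (iv5 F134802) F134800 F133555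
theorem F157196 : act 0 n102385 = n88165 := d21_4 D41187 (iv1 F133557) F133555 D102385 (iv6 D88165) (iv5 D41153) (iv1 D19356) D19357 F30991 D19365
def n102386 : Q := act 3 n47505
theorem D102386 : act 3 n47505 = n102386 := rfl
theorem F157197 : act 7 n102386 = n88238 := d8_2 (iv7 F74692) D102386 (iv3 D88238)
def n102390 : Q := act 7 n47506
theorem D102390 : act 7 n47506 = n102390 := rfl
theorem F157202 : act 6 n102390 = n88243 := d14_1 D102390 (iv7 D88243) (iv6 D41179) (iv7 F35397) D47506
def n102391 : Q := act 0 n47509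
theorem D102391 : act 0 n47509 = n102391 := rfl
theorem F157206 : act 1 n102376 = n102391 := d15_0 (iv0 D102391) F74703 (iv2 F157182)
def n102392 : Q := act 1 n47509
theorem D102392 : act 1 n47509 = n102392 := rfl
theorem F157207 : act 4 n101995 = n102392 := d20_6 (iv4 F62387) (iv1 F62388) F35322 (iv3 F35306) D47376 D101995 (iv1 D102392) F74702 (iv3 D22859) D22857
def n102393 : Q := act 2 n47509
theorem D102393 : act 2 n47509 = n102393 := rfl
theorem F157208 : act 4 n102393 = n47564 := d1_2 (iv4 F74702) D102393 (iv2 D47564)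
theorem F157209 : act 7 n102393 = n102376 := d4_2 (iv7 F74703) D102393 F157182
theorem F157210 : act 1 n102393 = n102381 := d15_0 (iv0 D102381) (iv7 F74703) D102393
theorem F157211 : act 1 n102392 = n102376 := d15_1 D102392 (iv7 F157209) (iv2 D102393)
theorem F157212 : act 1 n102382 = n102393 := d15_1 D102382 F157209 F157182
def n102394 : Q := act 5 n47509
theorem D102394 : act 5 n47509 = n102394 := rfl
theorem F157213 : act 3 n102394 = n47510 := d6_1 D102394 (iv5 D47510) D47509
theorem F157214 : act 7 n102394 = n86994 := d13_2 (iv7 F74703) D102394 F133506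
def n102395 : Q := act 4 n47510
theorem D102395 : act 4 n47510 = n102395 := rfl
theorem F157215 : act 2 n102395 = n86992 := d1_1 D102395 (iv4 D86992) (iv2 F74704)
theorem F157216 : act 5 n102395 = n87705 := d9_2 D47510 D102395 (iv4 D87705) (iv5 D40854) (iv4 F63102) F63103 F35391 D41171 D88220 F135160 (iv4 D47505) (iv5 D22822) (iv4 D10785) D10786 D22826
theorem F157217 : act 7 n102395 = n86995 := d11_2 (iv7 F74705) D102395 (iv4 D86995)
def n102396 : Q := act 6 n47510
theorem D102396 : act 6 n47510 = n102396 := rfl
theorem F157218 : act 2 n102396 = n86993 := d3_1 D102396 (iv6 D86993) (iv2 F74704)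
theorem F157219 : act 5 n102396 = n94076 := d12_1 D102396 (iv6 D94076) F69136 F62383 D47510
def n102397 : Q := act 5 n47512
theorem D102397 : act 5 n47512 = n102397 := rfl
theorem F157220 : act 3 n102397 = n99657 := d6_1 D102397 (iv5 D99657) (iv3 F74712)
def n102398 : Q := act 6 n47512
theorem D102398 : act 6 n47512 = n102398 := rfl
theorem F157221 : act 3 n102398 = n99658 := d7_1 D102398 (iv6 D99658) (iv3 F74712)
def n102399 : Q := act 5 n47513
theorem D102399 : act 5 n47513 = n102399 := rfl
theorem F157222 : act 0 n102399 = n47537 := d17_2 (iv1 F139256) D102399 F74730 F72976 D94450 (iv0 F145634) (iv5 D92734) F135528 (iv4 F139253)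
theorem E15502 : n99006 = n21974 := (c21_6 D102399 F157222 F74730 (iv6 D46321) D46317 D99006 D45989 (iv1 F136499) F136497 D90485 (iv1 F139256))
theorem E15503 : n46317 = n45990 := (((D45990).symm.trans (sb E15502 (iv6 D99006)))).symm
theorem E15504 : n98286 = n88963 := ((D98286).symm.trans (sb E15503 (iv1 F136536)))
theorem E15505 : n98287 = n22149 := ((D98287).symm.trans (sb E15503 (iv0 D46317)))
theorem E15506 : n88962 = n88912 := ((((iv2 F136434)).symm.trans (sb E15503 (iv2 F145449)))).symm
theorem E15507 : n99004 = n98283 := ((((iv3 F151694)).symm.trans (sb E15503 D99004))).symm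
theorem E15508 : n93896 = n93834 := ((((iv4 F144664)).symm.trans (sb E15503 F144724))).symm
theorem E15510 : n98289 = n88961 := ((D98289).symm.trans (sb E15503 (iv7 F145451)))
theorem F157223 : act 1 n88963 = n45990 := (sb E15504 (iv0 D98286))
theorem F157224 : act 0 n22149 = n45990 := (sb E15505 (iv1 D98287))
theorem F157225 : act 0 n88912 = n41536 := (sb E15506 (iv1 D88962))
theorem F157226 : act 1 n88912 = n46319 := (sb E15506 F136537)
theorem E15511 : n87408 = n87335 := (((F136435).symm.trans (sb E15506 F147628))).symm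
theorem E15512 : n94310 = n94249 := ((((iv4 F145334)).symm.trans (sb E15506 (iv4 F145446)))).symm
theorem F157227 : act 7 n88912 = n46318 := (sb E15506 (iv7 F145450))
theorem F157228 : act 0 n98283 = n98418 := (sb E15507 F152535)
theorem F157229 : act 1 n98283 = n87376 := (sb E15507 (iv0 F152525))
theorem E15513 : n99063 = n88798 := (((F151693).symm.trans (sb E15507 F152582))).symm
theorem E15514 : n88988 = n88590 := (((F151695).symm.trans (sb E15507 F152524))).symm
theorem F157230 : act 7 n98283 = n99067 := (sb E15507 (iv7 F152590))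
theorem F157231 : act 1 n93834 = n94136 := (sb E15508 F152534)
theorem E15515 : n43893 = n43864 := (((F144663).symm.trans (sb E15508 (iv3 D93896)))).symm
theorem F157232 : act 7 n88961 = n45990 := (sb E15510 (iv7 D98289))
theorem F157233 : act 0 n87335 = n40621 := (sb E15511 (iv1 D87408))
theorem F157234 : act 1 n87335 = n96104 := (sb E15511 F147741)
theorem E15516 : n96102 = n95632 := ((((iv2 F147311)).symm.trans (sb E15511 (iv2 F150058)))).symm
theorem E15517 : n95992 = n95779 := ((((iv4 F147472)).symm.trans (sb E15511 (iv4 F147627)))).symm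
theorem F157235 : act 7 n87335 = n96103 := (sb E15511 (iv7 F150061))
theorem F157236 : act 0 n94249 = n93783 := (sb E15512 F145447)
theorem E15518 : n44086 = n44059 := (((F145333).symm.trans (sb E15512 (iv3 D94310)))).symm
theorem F157237 : act 7 n94249 = n99007 := (sb E15512 (iv7 F152527))
theorem F157238 : act 1 n88798 = n88929 := (sb E15513 (iv0 F152581))
theorem E15519 : n46339 = n41458 := (((F136178).symm.trans (sb E15513 (iv4 D99063)))).symm
theorem F157239 : act 0 n88590 = n41546 := (sb E15514 (iv1 D88988))
theorem F157240 : act 1 n88590 = n43990 := (sb E15514 F136595)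
theorem E15520 : n93897 = n93835 := ((((iv3 F144665)).symm.trans (sb E15514 (iv3 F144725)))).symm
theorem F157241 : act 7 n88590 = n46340 := (sb E15514 F152584)
theorem E15521 : n93836 = n20793 := ((D93836).symm.trans (sb E15515 (iv1 D43893)))
theorem E15522 : n93837 = n93806 := ((D93837).symm.trans (sb E15515 F144603))
theorem E15523 : n93804 = n44046 := ((((iv2 F69345)).symm.trans (sb E15515 (iv2 F152542)))).symm
theorem E15524 : n93898 = n71480 := ((((iv5 F108014)).symm.trans (sb E15515 D93898))).symm
theorem E15526 : n93838 = n93805 := ((D93838).symm.trans (sb E15515 (iv7 F152545)))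
theorem F157242 : act 0 n95632 = n46283 := (sb E15516 (iv1 F147735))
theorem F157243 : act 1 n95632 = n44843 := (sb E15516 (iv0 D96102))
theorem E15527 : n97316 = n97090 := ((((iv4 F149790)).symm.trans (sb E15516 (iv4 F150057)))).symm
theorem F157244 : act 7 n95632 = n87407 := (sb E15516 (iv7 F150060))
theorem F157245 : act 0 n95779 = n96536 := (sb E15517 F148705)
theorem E15528 : n44796 = n44730 := (((F147471).symm.trans (sb E15517 (iv3 D95992)))).symm
theorem E15529 : n94250 = n94146 := ((D94250).symm.trans (sb E15518 (iv1 F145107)))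
theorem E15530 : n94251 = n20943 := ((D94251).symm.trans (sb E15518 (iv0 D44086)))
theorem E15531 : n94145 = n34942 := (((F69381).symm.trans (sb E15518 (iv2 F152540)))).symm
theorem E15534 : n94252 = n94144 := ((D94252).symm.trans (sb E15518 (iv7 F152530)))
theorem E15535 : n88799 = n40649 := ((D88799).symm.trans (sb E15519 (iv1 F72990)))
theorem E15536 : n88800 = n22191 := ((D88800).symm.trans (sb E15519 (iv0 D46339)))
theorem E15540 : n88987 = n88802 := (((D88802).symm.trans (sb E15519 F152586))).symm
theorem F157246 : act 0 n93835 = n98692 := (sb E15520 F152526)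
theorem F157247 : act 1 n93835 = n98697 := (sb E15520 (iv0 F152163))
theorem F157248 : act 7 n93835 = n99066 := (sb E15520 (iv7 F152587))
theorem E15541 : n94222 = n43892 := (((D43892).symm.trans (sb E15521 (iv1 F145271)))).symm
theorem F157249 : act 1 n20793 = n43864 := (sb E15521 (iv0 D93836))
theorem F157250 : act 0 n93806 = n43864 := (sb E15522 (iv1 D93837))
theorem E15542 : n94219 = n43894 := ((D94219).symm.trans (sb E15523 (iv1 F144597)))
theorem E15543 : n94220 = n43847 := ((D94220).symm.trans (sb E15523 (iv0 D93804)))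
theorem F157251 : act 0 n71480 = n43915 := (sb E15524 F152422)
theorem F157252 : act 6 n93805 = n94227 := (sb E15526 (iv6 F145279))
theorem F157253 : act 7 n93805 = n43864 := (sb E15526 (iv7 D93838))
theorem F157254 : act 0 n97090 = n89113 := (sb E15527 F150059)
theorem E15544 : n45453 = n45386 := (((F149789).symm.trans (sb E15527 (iv3 D97316)))).symm
theorem E15545 : n95780 = n93987 := ((D95780).symm.trans (sb E15528 (iv1 F144795)))
theorem E15546 : n95781 = n21332 := ((D95781).symm.trans (sb E15528 (iv0 D44796)))
theorem E15547 : n93986 = n45407 := ((((iv2 F71641)).symm.trans (sb E15528 (iv2 F152536)))).symm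
theorem E15550 : n95783 = n93985 := ((D95783).symm.trans (sb E15528 (iv7 F152532)))
theorem E15551 : n76499 = n44087 := ((((iv1 F145109)).symm.trans (sb E15529 (iv1 F145338)))).symm
theorem F157255 : act 1 n94146 = n44059 := (sb E15529 (iv0 D94250))
theorem F157256 : act 0 n20943 = n44059 := (sb E15530 (iv1 D94251))
theorem E15552 : n76496 = n44018 := ((D76496).symm.trans (sb E15531 (iv1 D94145)))
theorem E15553 : n76497 = n44088 := ((D76497).symm.trans (sb E15531 F145108))
theorem F157257 : act 6 n94144 = n76503 := (sb E15534 F145337)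
theorem F157258 : act 7 n94144 = n44059 := (sb E15534 (iv7 D94252))
theorem F157259 : act 1 n40649 = n41458 := (sb E15535 (iv0 D88799))
theorem F157260 : act 0 n22191 = n41458 := (sb E15536 (iv1 D88800))
theorem F157261 : act 0 n88802 = n43990 := (sb E15540 (iv1 F136594))
theorem F157262 : act 1 n88802 = n41546 := (sb E15540 (iv0 D88987))
theorem F157263 : act 2 n88802 = n46340 := (sb E15540 (iv2 F152585))
theorem E15554 : n93894 = n93833 := ((D93894).symm.trans (sb E15541 F145268))
theorem F157264 : act 7 n43892 = n44046 := (sb E15541 (iv7 D94222))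
theorem F157265 : act 1 n43894 = n44046 := (sb E15542 (iv0 D94219))
theorem F157266 : act 0 n43847 = n44046 := (sb E15543 (iv1 D94220))
theorem E15555 : n97093 = n21686 := ((D97093).symm.trans (sb E15544 (iv1 D45453)))
theorem E15556 : n97094 = n96565 := ((D97094).symm.trans (sb E15544 F148735))
theorem E15557 : n96563 = n44709 := (((F71584).symm.trans (sb E15544 (iv2 F152538)))).symm
theorem E15560 : n97096 = n96564 := ((D97096).symm.trans (sb E15544 (iv7 F152547)))
theorem E15561 : n97156 = n44797 := ((((iv1 F144798)).symm.trans (sb E15545 (iv1 F149903)))).symm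
theorem F157267 : act 1 n93987 = n44730 := (sb E15545 (iv0 D95780))
theorem F157268 : act 0 n21332 = n44730 := (sb E15546 (iv1 D95781))
theorem E15562 : n97153 = n43928 := ((D97153).symm.trans (sb E15547 (iv1 D93986)))
theorem E15563 : n97154 = n44798 := ((D97154).symm.trans (sb E15547 F144796))
theorem F157269 : act 6 n93985 = n97152 := (sb E15550 (iv6 F149890))
theorem F157270 : act 7 n93985 = n44730 := (sb E15550 (iv7 D95783))
theorem E15564 : n94315 = n94255 := ((D94315).symm.trans (sb E15551 (iv6 F145344)))
theorem F157271 : act 7 n44087 = n34942 := (sb E15551 (iv7 D76499))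
theorem F157272 : act 1 n44018 = n34942 := (sb E15552 (iv0 D76496))
theorem F157273 : act 0 n44088 = n34942 := (sb E15553 (iv1 D76497))
theorem F157274 : act 6 n93833 = n43892 := (sb E15554 (iv6 D93894))
theorem E15565 : n95729 = n45452 := (((D45452).symm.trans (sb E15555 (iv1 F149801)))).symm
theorem F157275 : act 1 n21686 = n45386 := (sb E15555 (iv0 D97093))
theorem F157276 : act 0 n96565 = n45386 := (sb E15556 (iv1 D97094))
theorem E15566 : n95726 = n45454 := ((D95726).symm.trans (sb E15557 (iv1 F148729)))
theorem E15567 : n95727 = n45086 := ((D95727).symm.trans (sb E15557 (iv0 D96563)))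
theorem F157277 : act 6 n96564 = n95736 := (sb E15560 F149800)
theorem F157278 : act 7 n96564 = n45386 := (sb E15560 (iv7 D97096))
theorem E15568 : n95997 = n95788 := ((D95997).symm.trans (sb E15561 F149900))
theorem F157279 : act 7 n44797 = n45407 := (sb E15561 (iv7 D97156))
theorem F157280 : act 1 n43928 = n45407 := (sb E15562 (iv0 D97153))
theorem F157281 : act 0 n44798 = n45407 := (sb E15563 (iv1 D97154))
theorem F157282 : act 6 n94255 = n44087 := (sb E15564 (iv6 D94315))
theorem E15569 : n97314 = n97088 := ((D97314).symm.trans (sb E15565 (iv6 F149779)))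
theorem F157283 : act 7 n45452 = n44709 := (sb E15565 (iv7 D95729))
theorem F157284 : act 1 n45454 = n44709 := (sb E15566 (iv0 D95726))
theorem F157285 : act 0 n45086 = n44709 := (sb E15567 (iv1 D95727))
theorem F157286 : act 6 n95788 = n44797 := (sb E15568 (iv6 D95997))
theorem F157287 : act 6 n97088 = n45452 := (sb E15569 (iv6 D97314))
theorem F157288 : act 7 n95724 = n97312 := d11_2 F157283 (iv4 F147420) (iv4 D97312)
theorem F157289 : act 7 n95728 = n97313 := d13_2 F157283 D95728 (iv5 D97313)
theorem F157290 : act 7 n95996 = n97155 := d8_2 F157289 F150052 F149896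
theorem F157291 : act 7 n93892 = n94218 := d8_2 F157288 F150051 (iv3 F147419)
theorem F157292 : act 0 n89117 = n95724 := d20_1 F147664 F147420 (iv3 F71642) (iv1 F157280) (iv3 D43928) (iv4 D20815) D20812 F65892 D44822 D96051
theorem E15570 : n90692 = n68094 := (c21_8 F36975 F36977 F28374 D34942 (iv1 F157272) F139609 (iv5 D90696) D90692 F104223 (iv6 D32621) (iv1 F32624))
theorem F157293 : act 1 n68094 = n42458 := (sb E15570 (iv0 D90692))
theorem F157294 : act 7 n90693 = n52861 := d15_2 F157293 D90693 (iv2 F104222)
theorem F157295 : act 5 n76486 = n90693 := d13_3 F157294 F83506 D76486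
theorem F157296 : act 7 n76498 = n94314 := d13_2 F157271 D76498 (iv5 D94314)
theorem F157297 : act 7 n93893 = n94221 := d8_2 F157296 F145454 F145264
theorem F157298 : act 0 n95724 = n98077 := d20_4 (iv4 F68923) F157266 (iv4 F145261) (iv3 F147419) (iv3 D98077) F136392 (iv1 F136391) (iv4 F126453) F126452 (iv1 F72933)
theorem F157299 : act 3 n96052 = n97409 := d20_3 (iv4 F147420) F157298 F151226 (iv1 D97409) (iv3 D45490) F62597 (iv1 F62913) F62909 D45086 F157285
theorem E15571 : n102008 = n99578 := ((c21_1 D99578 (iv1 D102008) F74591 (iv6 D46342) F157260 (iv6 D41458) (iv5 F72118) (iv1 F59423) (iv5 D22309) D22310 D46542)).symm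
theorem F157300 : act 0 n99578 = n47382 := (sb E15571 (iv1 D102008))
theorem E15572 : n102007 = n99583 := ((c15_4 (iv0 D102007) (iv0 F157300) F153429 (iv2 F153418))).symm
theorem F157301 : act 1 n99583 = n47382 := (sb E15572 (iv0 D102007))
theorem E15573 : n100966 = n97953 := (c21_8 (iv5 F29558) D38606 F72118 D41458 (iv1 F157259) D87432 (iv5 F135058) (iv1 F155584) (iv5 D97953) (iv6 D45723) (iv1 D21856))
theorem F157302 : act 0 n97953 = n47050 := (sb E15573 (iv1 D100966))
theorem F157303 : act 1 n97953 = n88066 := (sb E15573 F155584)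
theorem F157304 : act 5 n99071 = n97963 := d21_2 D87431 (iv1 F152594) (iv6 D97963) (iv1 D45725) (iv6 D21857) (iv5 F29558) D38606 F72118 D41458 (iv1 F157259)
theorem E15574 : n99668 = n99074 := ((c21_11 (iv5 D99668) (iv1 F153336) F153333 F73544 (iv1 F72123) D97963 (iv5 F157304) (iv1 D99071) (iv5 D46341) D46342 D99074)).symm
theorem F157305 : act 5 n99074 = n46574 := (sb E15574 (iv5 D99668))
theorem E15575 : n100965 = n99540 := (c15_2 F157303 F155581 (iv7 D99540) (iv2 F150977))
theorem F157306 : act 0 n99540 = n88066 := (sb E15575 (iv1 F155581))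
theorem F157307 : act 1 n99540 = n47050 := (sb E15575 (iv0 D100965))
theorem F157310 : act 0 n49699 = n94323 := d21_4 (iv5 D24060) (iv1 F18637) (iv5 F37996) D49699 (iv6 D94323) (iv5 D44090) F157256 (iv5 F97674) (iv6 D62627) F47563
theorem F157311 : act 5 n93954 = n69803 := d21_6 (iv5 D15949) D15947 D33069 D71480 F157251 D93954 (iv1 D69803) (iv5 F78515) (iv6 D49692) F43572
theorem F157312 : act 3 n69803 = n93960 := d6_1 F157311 (iv5 D93960) (iv3 F144773)
theorem F157313 : act 0 n92608 = n90513 := d21_7 D43401 (iv1 F68226) F52297 D43864 (iv1 F157249) D43897 (iv5 F142663) (iv5 D90513) (iv6 D42362) (iv1 F32608)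
theorem F157314 : act 1 n92891 = n90513 := d15_0 (iv0 F157313) F142664 D92891
theorem E15576 : n99069 = n88809 := (c14_2 F157241 D99069 (iv7 D88809) (iv6 D41463) (iv7 F68966) D88590)
theorem F157315 : act 6 n88809 = n46340 := (sb E15576 (iv6 D99069))
theorem E15577 : n101384 = n99642 := ((c21_2 D46567 D99642 F156178 (iv6 D94100) (iv1 F157240) (iv6 D88590) F74235 (iv1 D22312) (iv5 D10626) D10627 D22315)).symm
theorem F157316 : act 2 n99642 = n47382 := (sb E15577 F156177)
theorem F157317 : act 3 n99642 = n47188 := (sb E15577 (iv3 D101384))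
theorem F157318 : act 5 n99642 = n94100 := (sb E15577 F156178)
theorem E15578 : n99754 = n99643 := ((c15_2 (iv0 D99642) D99643 F153563 (iv2 F157316))).symm
theorem F157319 : act 3 n99643 = n46597 := (sb E15578 (iv3 D99754))
theorem F157320 : act 5 n99643 = n89540 := (sb E15578 F153562)
theorem E15579 : n99538 = n99452 := ((c21_7 D19253 (iv1 F34811) (iv5 F74235) D88590 F157239 D88990 (iv5 F153189) (iv1 D99538) (iv5 D46528) (iv6 D22303) (iv1 F17162))).symm
theorem F157322 : act 0 n99452 = n46528 := (sb E15579 (iv1 D99538))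
theorem E15580 : n100967 = n99537 := (c15_4 (iv0 D99537) (iv0 F157322) F153190 D100967)
theorem F157323 : act 2 n99537 = n47050 := (sb E15580 (iv2 D100967))
theorem F157324 : act 3 n99537 = n47138 := (sb E15580 F155582)
theorem F157325 : act 7 n99537 = n88066 := (sb E15580 F155583)
theorem E15581 : n99009 = n98295 := (c14_2 F157227 D99009 (iv7 D98295) (iv6 D45992) (iv7 F69353) D88912)
theorem F157326 : act 6 n98295 = n46318 := (sb E15581 (iv6 D99009))
def n102400 : Q := act 6 n47513
theorem D102400 : act 6 n47513 = n102400 := rfl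
theorem F157327 : act 4 n102400 = n76460 := d10_1 D102400 (iv6 F139379) F139380
theorem F157328 : act 5 n102400 = n98315 := d21_6 D45989 (iv1 F136499) F136497 D90485 (iv1 F139256) D102400 (iv1 D98315) (iv5 D46001) (iv6 D21978) D21974
def n102401 : Q := act 5 n47514
theorem D102401 : act 5 n47514 = n102401 := rfl
theorem F157329 : act 2 n102401 = n47515 := d2_1 D102401 (iv5 D47515) D47514
def n102402 : Q := act 0 n47515
theorem D102402 : act 0 n47515 = n102402 := rfl
def n102403 : Q := act 1 n47515
theorem D102403 : act 1 n47515 = n102403 := rfl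
def n102404 : Q := act 4 n47515
theorem D102404 : act 4 n47515 = n102404 := rfl
theorem F157330 : act 1 n102404 = n101420 := d18_6 (iv1 D47184) (iv4 F68154) F68156 F63661 D47515 D102404 (iv4 D101420) (iv0 F156170) (iv5 D101373)
def n102405 : Q := act 6 n47515
theorem D102405 : act 6 n47515 = n102405 := rfl
theorem F157331 : act 3 n102405 = n47517 := d7_1 D102405 (iv6 D47517) (iv3 F74713)
def n102406 : Q := act 3 n47516
theorem D102406 : act 3 n47516 = n102406 := rfl
theorem F157332 : act 7 n102406 = n102167 := d8_2 (iv7 F74715) D102406 (iv3 D102167)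
def n102407 : Q := act 6 n47516
theorem D102407 : act 6 n47516 = n102407 := rfl
theorem F157333 : act 2 n102407 = n102166 := d3_1 D102407 (iv6 D102166) (iv2 F74714)
theorem F157334 : act 4 n102407 = n47517 := d10_1 D102407 (iv6 D47517) D47516
def n102408 : Q := act 0 n47517
theorem D102408 : act 0 n47517 = n102408 := rfl
def n102409 : Q := act 1 n47517
theorem D102409 : act 1 n47517 = n102409 := rfl
def n102410 : Q := act 7 n47517
theorem D102410 : act 7 n47517 = n102410 := rfl
def n102412 : Q := act 1 n47518
theorem D102412 : act 1 n47518 = n102412 := rfl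
theorem F157336 : act 1 n102412 = n47523 := d15_1 D102412 (iv7 D47523) D47518
def n102413 : Q := act 3 n47518
theorem D102413 : act 3 n47518 = n102413 := rfl
theorem F157337 : act 7 n102413 = n47524 := d8_2 F74718 D102413 (iv3 D47524)
theorem F157338 : act 2 n102413 = n99638 := d15_3 (iv0 D99638) (iv0 F74725) (iv7 F157337)
theorem F157339 : act 2 n88295 = n47519 := d0_3 D102413 F157338 (iv3 F153391) (iv3 D47519) D47518
theorem E15582 : n102079 = n41212 := (c1_4 D88295 F157339 F74719 (iv2 F157025))
theorem E15583 : n88294 = n47410 := ((D88294).symm.trans (sb E15582 F157025))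
theorem E15584 : n88298 = n47409 := ((D88298).symm.trans (sb E15582 (iv7 D102079)))
theorem F157340 : act 2 n47410 = n41212 := (sb E15583 (iv2 D88294))
theorem E15585 : n102076 = n41213 := ((F157024).symm.trans (sb E15583 (iv7 F135208)))
theorem F157341 : act 7 n47409 = n41212 := (sb E15584 (iv7 D88298))
theorem F157342 : act 2 n41213 = n47409 := (sb E15585 (iv2 D102076))
theorem F157343 : act 7 n41213 = n47410 := (sb E15585 (iv7 F157024))
theorem F157344 : act 7 n48234 = n88295 := d15_2 (iv0 F74720) D48234 F157339
theorem F157345 : act 7 n88300 = n47519 := d15_2 (iv0 F153587) F135214 (iv2 F157339)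
theorem F157346 : act 2 n48234 = n88300 := d4_3 F157345 (iv2 F157339) (iv7 F157344)
theorem E15586 : n47523 = n46629 := (c8_3 F157345 (iv3 D47519) D47523 (iv3 F135211))
theorem E15587 : n102412 = n22840 := ((((iv1 F73661)).symm.trans (sb E15586 (iv1 F157336)))).symm
theorem E15589 : n99838 = n22839 := ((D99838).symm.trans (sb E15586 F74722))
theorem E15590 : n99841 = n22838 := ((D99841).symm.trans (sb E15586 (iv7 D47523)))
theorem E15591 : n47518 = n46630 := ((((iv1 F73666)).symm.trans (sb E15587 (iv1 D102412)))).symm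
theorem F157347 : act 2 n22839 = n46629 := (sb E15589 (iv2 D99838))
theorem F157348 : act 7 n22838 = n46629 := (sb E15590 (iv7 D99841))
theorem F157349 : act 2 n46630 = n22838 := (sb E15591 (iv2 D47518))
theorem E15592 : n102413 = n99842 := (((D99842).symm.trans (sb E15591 D102413))).symm
theorem F157350 : act 7 n46630 = n22839 := (sb E15591 (iv7 F74718))
theorem F157351 : act 2 n99842 = n99638 := (sb E15592 F157338)
theorem F157352 : act 7 n99842 = n47524 := (sb E15592 F157337)
theorem F157353 : act 7 n47525 = n47612 := d11_2 F157350 D47525 F74869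
theorem F157354 : act 7 n47526 = n99843 := d13_2 F157350 D47526 (iv5 D99843)
theorem F157355 : act 2 n47612 = n47520 := d15_3 (iv0 F151065) F74872 F157353
theorem F157356 : act 2 n47525 = n47613 := d15_3 F151105 F151104 (iv7 F157353)
theorem F157357 : act 7 n47613 = n47520 := d4_2 (iv7 F157353) F157356 (iv2 F157355)
theorem F157358 : act 2 n47521 = n99843 := d2_3 (iv5 D99843) F157349 D47521
theorem F157360 : act 7 n99839 = n47521 := d13_2 F157348 D99839 (iv5 D47521)
theorem F157361 : act 2 n47526 = n99839 := d4_3 F157360 F157358 (iv7 F157354)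
theorem F157362 : act 2 n99840 = n47527 := d3_3 (iv6 D47527) F157347 D99840
theorem F157363 : act 7 n102080 = n88299 := d8_2 F157343 D102080 (iv3 D88299)
theorem F157364 : act 7 n102081 = n88301 := d13_2 F157343 D102081 (iv5 D88301)
theorem F157365 : act 2 n102077 = n88301 := d2_3 (iv5 D88301) F157342 D102077
theorem F157367 : act 7 n88296 = n102077 := d13_2 F157341 D88296 (iv5 D102077)
theorem F157368 : act 2 n102081 = n88296 := d4_3 F157367 F157365 (iv7 F157364)
def n102414 : Q := act 5 n47519
theorem D102414 : act 5 n47519 = n102414 := rfl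
theorem F157370 : act 3 n102414 = n47521 := d6_1 D102414 (iv5 D47521) D47519
def n102415 : Q := act 6 n47519
theorem D102415 : act 6 n47519 = n102415 := rfl
theorem F157372 : act 4 n102415 = n102082 := d10_1 D102415 (iv6 D102082) (iv4 F74719)
def n102416 : Q := act 3 n47520
theorem D102416 : act 3 n47520 = n102416 := rfl
theorem F157373 : act 2 n102416 = n102080 := d0_1 D102416 (iv3 D102080) F157340 F74870 F157355
theorem F157374 : act 4 n102416 = n102080 := d5_2 D47520 D102416 (iv3 D102080) (iv4 F74719) (iv3 D47519)
theorem F157375 : act 0 n92781 = n88191 := d20_10 (iv4 F143001) (iv1 F143002) (iv4 F151061) F151060 F151065 D102416 F157374 F157026 (iv4 D97961) F143102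
theorem F157376 : act 0 n102416 = n87679 := d20_10 (iv4 D87679) (iv1 D40846) F30911 F30910 F17307 D22821 F35394 D22838 D47520 D102416
theorem F157377 : act 0 n97957 = n102080 := d20_1 D97957 (iv4 F157374) (iv3 D102416) F74721 (iv3 D45744) (iv4 D21869) (iv1 D10430) (iv4 F16600) (iv3 F34313) D45724
theorem F157378 : act 0 n88222 = n97956 := d20_4 F72190 D47194 F74836 D88222 (iv3 D97956) D97957 F157377 (iv4 F157374) (iv3 D102416) F74721
theorem F157379 : act 0 n87674 = n102416 := d20_1 D87674 F157374 (iv3 D102080) (iv1 D47410) F35338 (iv4 D19264) (iv1 D9058) (iv4 F14132) (iv3 F30910) D40845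
theorem F157380 : act 0 n88192 = n99926 := d20_1 D88192 (iv4 D99926) F134591 F157379 (iv3 D102416) (iv4 D47520) (iv1 F73665) F73663 (iv3 F134608) (iv1 F134612)
def n102417 : Q := act 5 n47520
theorem D102417 : act 5 n47520 = n102417 := rfl
def n102418 : Q := act 6 n47520
theorem D102418 : act 6 n47520 = n102418 := rfl
theorem F157381 : act 4 n102418 = n47522 := d10_1 D102418 (iv6 D47522) D47520
def n102419 : Q := act 0 n47521
theorem D102419 : act 0 n47521 = n102419 := rfl
theorem F157382 : act 1 n47526 = n102419 := d15_0 (iv0 D102419) (iv7 F157360) (iv2 F157361)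
def n102420 : Q := act 1 n47521
theorem D102420 : act 1 n47521 = n102420 := rfl
theorem F157383 : act 1 n102420 = n47526 := d15_1 D102420 F157354 (iv2 F157358)
def n102421 : Q := act 4 n47521
theorem D102421 : act 4 n47521 = n102421 := rfl
def n102422 : Q := act 6 n47521
theorem D102422 : act 6 n47521 = n102422 := rfl
def n102424 : Q := act 1 n47522
theorem D102424 : act 1 n47522 = n102424 := rfl
def n102427 : Q := act 2 n47524
theorem D102427 : act 2 n47524 = n102427 := rfl
theorem F157384 : act 3 n102427 = n48234 := d0_2 D47524 D102427 F157346 F135211 (iv2 F157347)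
theorem F157385 : act 7 n102427 = n99638 := d4_2 F157352 D102427 (iv2 F157351)
theorem F157386 : act 1 n102427 = n99582 := d15_0 (iv0 F153728) F157352 D102427
theorem F157387 : act 1 n99577 = n102427 := d15_0 F157386 F153417 (iv2 F153426)
theorem F157388 : act 4 n102427 = n47524 := d20_2 D99582 (iv1 F157386) (iv3 D47524) (iv1 D22839) (iv3 D10791) (iv4 D4925) (iv1 F7038) (iv4 F17174) (iv3 F34814) (iv1 F73538)
theorem E15593 : n99768 = n99632 := ((c20_11 (iv4 F153589) (iv1 F148354) (iv4 F148358) D99948 F153885 (iv3 F157384) F157388 F74725 (iv4 D46566) D46565 D99632)).symm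
theorem F157389 : act 3 n99632 = n46601 := (sb E15593 (iv3 D99768))
theorem F157390 : act 4 n99632 = n95346 := (sb E15593 (iv4 F153589))
theorem F157391 : act 7 n99632 = n47364 := (sb E15593 (iv7 F156209))
def n102429 : Q := act 6 n47524
theorem D102429 : act 6 n47524 = n102429 := rfl
theorem F157393 : act 3 n102429 = n47527 := d7_1 D102429 (iv6 D47527) D47524
def n102430 : Q := act 5 n47525
theorem D102430 : act 5 n47525 = n102430 := rfl
def n102431 : Q := act 6 n47525
theorem D102431 : act 6 n47525 = n102431 := rfl
theorem F157395 : act 3 n102431 = n102078 := d7_1 D102431 (iv6 D102078) F74724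
theorem F157396 : act 4 n102431 = n47527 := d10_1 D102431 (iv6 D47527) D47525
def n102438 : Q := act 4 n47528
theorem D102438 : act 4 n47528 = n102438 := rfl
theorem F157397 : act 2 n102438 = n47532 := d1_1 D102438 (iv4 D47532) (iv2 F74726)
def n102439 : Q := act 6 n47528
theorem D102439 : act 6 n47528 = n102439 := rfl
theorem F157398 : act 2 n102439 = n47533 := d3_1 D102439 (iv6 D47533) (iv2 F74726)
def n102440 : Q := act 5 n47529
theorem D102440 : act 5 n47529 = n102440 := rfl
theorem F157399 : act 2 n102440 = n47536 := d2_1 D102440 (iv5 D47536) (iv2 F74727)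
theorem F157400 : act 3 n102440 = n98867 := d6_1 D102440 (iv5 F152417) F74857
def n102441 : Q := act 2 n47530
theorem D102441 : act 2 n47530 = n102441 := rfl
theorem F157401 : act 7 n47531 = n102441 := d15_2 (iv0 D47530) D47531 (iv2 D102441)
def n102442 : Q := act 3 n47530
theorem D102442 : act 3 n47530 = n102442 := rfl
theorem F157402 : act 4 n102442 = n102101 := d20_6 D47385 F74595 (iv4 D22845) (iv3 F35410) D47530 D102442 (iv1 D102101) (iv4 D47415) F35340 (iv1 F35332)
theorem F157403 : act 0 n48236 = n102442 := d18_0 F157402 (iv1 D102101) (iv4 D47415) (iv5 D22775) D22774 D47410 (iv4 F74719) (iv0 F74720) D48236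
def n102443 : Q := act 4 n47530
theorem D102443 : act 4 n47530 = n102443 := rfl
theorem F157404 : act 0 n102443 = n101408 := d18_2 D47530 D102443 (iv4 D101408) (iv5 D47197) (iv4 F72190) (iv0 F74721) (iv4 D47520) (iv0 D22838) D22841
def n102444 : Q := act 5 n47530
theorem D102444 : act 5 n47530 = n102444 := rfl
def n102445 : Q := act 6 n47530
theorem D102445 : act 6 n47530 = n102445 := rfl
def n102446 : Q := act 7 n47530
theorem D102446 : act 7 n47530 = n102446 := rfl
theorem F157405 : act 2 n102446 = n47531 := d4_1 D102446 F157401 (iv2 D102441)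
def n102447 : Q := act 3 n47531
theorem D102447 : act 3 n47531 = n102447 := rfl
def n102448 : Q := act 4 n47531
theorem D102448 : act 4 n47531 = n102448 := rfl
def n102449 : Q := act 5 n47531
theorem D102449 : act 5 n47531 = n102449 := rfl
def n102450 : Q := act 6 n47531
theorem D102450 : act 6 n47531 = n102450 := rfl
def n102451 : Q := act 0 n47532
theorem D102451 : act 0 n47532 = n102451 := rfl
def n102452 : Q := act 1 n47532
theorem D102452 : act 1 n47532 = n102452 := rfl
def n102453 : Q := act 3 n47532
theorem D102453 : act 3 n47532 = n102453 := rfl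
theorem F157406 : act 4 n102453 = n47544 := d5_2 D47532 D102453 (iv3 D47544) (iv4 D22845) (iv3 F35410)
def n102454 : Q := act 5 n47532
theorem D102454 : act 5 n47532 = n102454 := rfl
def n102455 : Q := act 6 n47532
theorem D102455 : act 6 n47532 = n102455 := rfl
theorem F157407 : act 4 n102455 = n47533 := d10_1 D102455 (iv6 D47533) D47532
def n102456 : Q := act 0 n47533
theorem D102456 : act 0 n47533 = n102456 := rfl
def n102457 : Q := act 1 n47533
theorem D102457 : act 1 n47533 = n102457 := rfl
def n102458 : Q := act 5 n47533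
theorem D102458 : act 5 n47533 = n102458 := rfl
theorem F157408 : act 3 n102458 = n47548 := d6_1 D102458 (iv5 D47548) (iv3 F74728)
theorem F157409 : act 6 n102458 = n47536 := d12_2 D47533 D102458 (iv5 D47536) (iv6 D22842) D22841
def n102459 : Q := act 7 n47533
theorem D102459 : act 7 n47533 = n102459 := rfl
theorem F157410 : act 3 n102459 = n47549 := d8_1 D102459 (iv7 D47549) (iv3 F74728)
def n102460 : Q := act 2 n47534
theorem D102460 : act 2 n47534 = n102460 := rfl
theorem F157411 : act 7 n47535 = n102460 := d15_2 (iv0 D47534) D47535 (iv2 D102460)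
def n102461 : Q := act 3 n47534
theorem D102461 : act 3 n47534 = n102461 := rfl
theorem F157412 : act 4 n102461 = n88337 := d20_6 F35333 (iv1 D10801) (iv4 F17313) (iv3 F35411) D47534 D102461 (iv1 D88337) (iv4 F135191) (iv3 D88286) (iv1 F62394)
theorem F157413 : act 0 n48237 = n102461 := d20_10 F157412 (iv1 D88337) (iv4 F135191) (iv3 D88286) (iv1 F62394) (iv3 F67006) F67007 F66111 (iv4 F36517) (iv3 F75830)
def n102462 : Q := act 4 n47534
theorem D102462 : act 4 n47534 = n102462 := rfl
def n102463 : Q := act 5 n47534
theorem D102463 : act 5 n47534 = n102463 := rfl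
def n102464 : Q := act 6 n47534
theorem D102464 : act 6 n47534 = n102464 := rfl
def n102465 : Q := act 7 n47534
theorem D102465 : act 7 n47534 = n102465 := rfl
theorem F157414 : act 2 n102465 = n47535 := d4_1 D102465 F157411 (iv2 D102460)
def n102466 : Q := act 3 n47535
theorem D102466 : act 3 n47535 = n102466 := rfl
def n102467 : Q := act 4 n47535
theorem D102467 : act 4 n47535 = n102467 := rfl
theorem F157415 : act 0 n100185 = n102467 := d20_10 (iv4 D102467) (iv1 D47535) (iv4 F74687) F74686 (iv1 F62473) (iv3 F65707) F34998 D22458 (iv4 F134007) D100185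
theorem F157416 : act 3 n88336 = n102467 := d20_5 F32820 F62469 D19389 D41231 D88336 (iv4 D102467) (iv1 D47535) (iv4 F74687) F74686 (iv1 F62473)
def n102468 : Q := act 5 n47535
theorem D102468 : act 5 n47535 = n102468 := rfl
def n102469 : Q := act 6 n47535
theorem D102469 : act 6 n47535 = n102469 := rfl
def n102470 : Q := act 0 n47536
theorem D102470 : act 0 n47536 = n102470 := rfl
def n102471 : Q := act 1 n47536
theorem D102471 : act 1 n47536 = n102471 := rfl
def n102472 : Q := act 4 n47536
theorem D102472 : act 4 n47536 = n102472 := rfl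
def n102473 : Q := act 0 n47537
theorem D102473 : act 0 n47537 = n102473 := rfl
def n102474 : Q := act 2 n47537
theorem D102474 : act 2 n47537 = n102474 := rfl
theorem F157417 : act 5 n102474 = n99011 := d2_2 (iv5 F74730) D102474 F152549
def n102475 : Q := act 4 n47537
theorem D102475 : act 4 n47537 = n102475 := rfl
theorem F157418 : act 0 n101379 = n102475 := d20_7 D22885 (iv1 F74596) (iv4 D47385) F74475 (iv1 D47189) (iv3 F74468) D101379 (iv4 D102475) (iv3 D47537) (iv1 F35412)
def n102476 : Q := act 6 n47537
theorem D102476 : act 6 n47537 = n102476 := rfl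
theorem F157419 : act 3 n102476 = n47539 := d7_1 D102476 (iv6 D47539) D47537
theorem F157420 : act 5 n102476 = n99015 := d12_1 D102476 (iv6 D99015) (iv5 D46320) D46321 (iv5 F74730)
def n102477 : Q := act 3 n47538
theorem D102477 : act 3 n47538 = n102477 := rfl
theorem F157421 : act 7 n102477 = n102023 := d8_2 (iv7 F74732) D102477 (iv3 D102023)
def n102478 : Q := act 6 n47538
theorem D102478 : act 6 n47538 = n102478 := rfl
theorem F157422 : act 2 n102478 = n102022 := d3_1 D102478 (iv6 D102022) (iv2 F74731)
theorem F157423 : act 4 n102478 = n47539 := d10_1 D102478 (iv6 D47539) D47538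
def n102479 : Q := act 0 n47539
theorem D102479 : act 0 n47539 = n102479 := rfl
def n102480 : Q := act 1 n47539
theorem D102480 : act 1 n47539 = n102480 := rfl
def n102481 : Q := act 7 n47539
theorem D102481 : act 7 n47539 = n102481 := rfl
theorem F157424 : act 5 n102481 = n99023 := d13_1 D102481 (iv7 D99023) (iv5 F74735)
def n102482 : Q := act 0 n47540
theorem D102482 : act 0 n47540 = n102482 := rfl
def n102483 : Q := act 1 n47540
theorem D102483 : act 1 n47540 = n102483 := rfl
def n102484 : Q := act 2 n47540
theorem D102484 : act 2 n47540 = n102484 := rfl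
theorem F157425 : act 1 n102484 = n48257 := d15_0 (iv0 F156187) F153700 D102484
def n102485 : Q := act 4 n47540
theorem D102485 : act 4 n47540 = n102485 := rfl
def n102486 : Q := act 5 n47540
theorem D102486 : act 5 n47540 = n102486 := rfl
theorem F157426 : act 3 n102486 = n47542 := d6_1 D102486 (iv5 D47542) D47540
theorem F157427 : act 7 n102486 = n88972 := d13_2 F153700 D102486 (iv5 F153699)
theorem F157428 : act 4 n89865 = n102486 := d11_3 F157427 (iv4 F138102) F138105
theorem F157429 : act 6 n89580 = n102486 := d14_5 F157427 (iv6 D88972) F64091 D46309 (iv7 F137325)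
theorem E15594 : n102483 = n99949 := ((c21_7 F154123 (iv1 F154122) (iv5 D87884) D87885 (iv1 F153890) (iv6 D99950) D99949 (iv1 D102483) D102486 (iv6 F157429) F144995)).symm
theorem F157430 : act 0 n99949 = n47540 := (sb E15594 (iv1 D102483))
theorem F157431 : act 0 n102486 = n94123 := d20_7 F33568 (iv1 F63240) (iv4 F64764) F64763 D41981 D89865 F157428 (iv4 F147283) F147282 F76086
def n102487 : Q := act 6 n47540
theorem D102487 : act 6 n47540 = n102487 := rfl
theorem F157432 : act 3 n102487 = n47543 := d7_1 D102487 (iv6 D47543) D47540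
def n102488 : Q := act 3 n47541
theorem D102488 : act 3 n47541 = n102488 := rfl
theorem F157433 : act 7 n102488 = n102021 := d8_2 (iv7 F74737) D102488 (iv3 D102021)
def n102489 : Q := act 6 n47541
theorem D102489 : act 6 n47541 = n102489 := rfl
theorem F157434 : act 2 n102489 = n102024 := d3_1 D102489 (iv6 D102024) (iv2 F74736)
theorem F157435 : act 4 n102489 = n47543 := d10_1 D102489 (iv6 D47543) D47541
def n102490 : Q := act 0 n47543
theorem D102490 : act 0 n47543 = n102490 := rfl
def n102491 : Q := act 1 n47543
theorem D102491 : act 1 n47543 = n102491 := rfl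
def n102492 : Q := act 7 n47543
theorem D102492 : act 7 n47543 = n102492 := rfl
def n102493 : Q := act 0 n47544
theorem D102493 : act 0 n47544 = n102493 := rfl
def n102494 : Q := act 1 n47544
theorem D102494 : act 1 n47544 = n102494 := rfl
def n102495 : Q := act 2 n47544
theorem D102495 : act 2 n47544 = n102495 := rfl
def n102496 : Q := act 6 n47544
theorem D102496 : act 6 n47544 = n102496 := rfl
theorem F157436 : act 3 n102496 = n47545 := d7_1 D102496 (iv6 D47545) D47544
def n102497 : Q := act 0 n47545
theorem D102497 : act 0 n47545 = n102497 := rfl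
def n102498 : Q := act 1 n47545
theorem D102498 : act 1 n47545 = n102498 := rfl
def n102499 : Q := act 5 n47545
theorem D102499 : act 5 n47545 = n102499 := rfl
def n102500 : Q := act 7 n47545
theorem D102500 : act 7 n47545 = n102500 := rfl
theorem F157437 : act 4 n102500 = n47549 := d11_1 D102500 (iv7 D47549) (iv4 F74745)
def n102501 : Q := act 2 n47546
theorem D102501 : act 2 n47546 = n102501 := rfl
theorem F157438 : act 7 n47547 = n102501 := d15_2 (iv0 D47546) D47547 (iv2 D102501)
def n102502 : Q := act 3 n47546
theorem D102502 : act 3 n47546 = n102502 := rfl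
def n102503 : Q := act 4 n47546
theorem D102503 : act 4 n47546 = n102503 := rfl
def n102504 : Q := act 5 n47546
theorem D102504 : act 5 n47546 = n102504 := rfl
def n102505 : Q := act 6 n47546
theorem D102505 : act 6 n47546 = n102505 := rfl
def n102506 : Q := act 7 n47546
theorem D102506 : act 7 n47546 = n102506 := rfl
theorem F157439 : act 2 n102506 = n47547 := d4_1 D102506 F157438 (iv2 D102501)
def n102507 : Q := act 3 n47547
theorem D102507 : act 3 n47547 = n102507 := rfl
def n102508 : Q := act 4 n47547
theorem D102508 : act 4 n47547 = n102508 := rfl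
def n102509 : Q := act 5 n47547
theorem D102509 : act 5 n47547 = n102509 := rfl
def n102510 : Q := act 6 n47547
theorem D102510 : act 6 n47547 = n102510 := rfl
def n102511 : Q := act 0 n47548
theorem D102511 : act 0 n47548 = n102511 := rfl
def n102512 : Q := act 1 n47548
theorem D102512 : act 1 n47548 = n102512 := rfl
def n102513 : Q := act 4 n47548
theorem D102513 : act 4 n47548 = n102513 := rfl
theorem F157440 : act 2 n102513 = n89446 := d1_1 D102513 F137110 F74860
theorem F157441 : act 6 n102513 = n47552 := d10_2 (iv6 F74746) D102513 (iv4 D47552)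
def n102514 : Q := act 7 n47548
theorem D102514 : act 7 n47548 = n102514 := rfl
theorem F157442 : act 5 n102514 = n47549 := d13_1 D102514 (iv7 D47549) D47548
def n102515 : Q := act 1 n47550
theorem D102515 : act 1 n47550 = n102515 := rfl
def n102516 : Q := act 2 n47550
theorem D102516 : act 2 n47550 = n102516 := rfl
theorem F157443 : act 6 n102516 = n88361 := d3_2 (iv6 F152559) D102516 (iv2 F152560)
def n102517 : Q := act 3 n47551
theorem D102517 : act 3 n47551 = n102517 := rfl
theorem F157444 : act 5 n102517 = n88873 := d6_2 (iv5 F74749) D102517 (iv3 D88873)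
theorem F157445 : act 7 n102517 = n88923 := d8_2 (iv7 F74748) D102517 F136482
def n102518 : Q := act 6 n47551
theorem D102518 : act 6 n47551 = n102518 := rfl
theorem F157446 : act 2 n102518 = n89503 := d3_1 D102518 (iv6 D89503) F74750
theorem F157447 : act 5 n102518 = n98376 := d12_1 D102518 (iv6 D98376) F72601 F63958 (iv5 F74749)
def n102519 : Q := act 3 n47552
theorem D102519 : act 3 n47552 = n102519 := rfl
theorem F157448 : act 5 n102519 = n99831 := d6_2 (iv5 F74753) D102519 (iv3 D99831)
theorem F157449 : act 7 n102519 = n89443 := d8_2 (iv7 F74752) D102519 (iv3 D89443)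
def n102520 : Q := act 0 n47553
theorem D102520 : act 0 n47553 = n102520 := rfl
theorem F157450 : act 1 n91351 = n102520 := d15_0 (iv0 D102520) F74757 (iv2 F140449)
def n102521 : Q := act 1 n47553
theorem D102521 : act 1 n47553 = n102521 := rfl
def n102522 : Q := act 2 n47553
theorem D102522 : act 2 n47553 = n102522 := rfl
theorem F157451 : act 3 n102522 = n87439 := d0_2 D47553 D102522 F134211 F67006 F35554
theorem F157453 : act 7 n102522 = n91351 := d4_2 (iv7 F74757) D102522 F140449
theorem F157454 : act 1 n102522 = n100643 := d15_0 (iv0 D100643) (iv7 F74757) D102522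
theorem F157455 : act 1 n102521 = n91351 := d15_1 D102521 (iv7 F157453) (iv2 D102522)
theorem F157456 : act 6 n87437 = n102522 := d14_5 F157453 (iv6 D91351) F66975 D87823 (iv7 F134792)
theorem F157457 : act 1 n100644 = n102522 := d15_1 D100644 F157453 F140449
def n102523 : Q := act 5 n47553
theorem D102523 : act 5 n47553 = n102523 := rfl
theorem F157458 : act 3 n102523 = n47554 := d6_1 D102523 (iv5 D47554) D47553
theorem F157459 : act 7 n102523 = n89375 := d13_2 (iv7 F74757) D102523 F137056
def n102524 : Q := act 6 n47553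
theorem D102524 : act 6 n47553 = n102524 := rfl
theorem F157460 : act 2 n102524 = n87437 := d3_1 D102524 F157456 (iv2 D102522)
theorem F157461 : act 3 n102524 = n47555 := d7_1 D102524 (iv6 D47555) D47553
theorem F157463 : act 7 n102524 = n99094 := d14_2 (iv7 F74757) D102524 F152623 F73399 D46941
theorem F157464 : act 5 n89139 = n102524 := d6_0 F157461 F74765 D89139
def n102525 : Q := act 6 n47554
theorem D102525 : act 6 n47554 = n102525 := rfl
theorem F157465 : act 2 n102525 = n89379 := d3_1 D102525 (iv6 D89379) (iv2 F74758)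
theorem F157467 : act 0 n102525 = n89317 := d21_4 (iv5 F58700) (iv1 F35425) D47554 D102525 (iv6 D89317) (iv5 D41718) (iv1 D19632) D19633 F31404 D19646
def n102526 : Q := act 6 n47556
theorem D102526 : act 6 n47556 = n102526 := rfl
theorem F157468 : act 2 n102526 = n89377 := d3_1 D102526 (iv6 D89377) (iv2 F74772)
theorem F157469 : act 3 n102526 = n91375 := d7_1 D102526 F140512 (iv3 F74773)
theorem F157470 : act 5 n102526 = n48150 := d12_1 D102526 (iv6 D48150) (iv5 D23291) F62707 D47556
def n102527 : Q := act 0 n47557
theorem D102527 : act 0 n47557 = n102527 := rfl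
theorem F157471 : act 1 n100547 = n102527 := d15_0 (iv0 D102527) F74777 (iv2 F154626)
def n102528 : Q := act 1 n47557
theorem D102528 : act 1 n47557 = n102528 := rfl
def n102529 : Q := act 2 n47557
theorem D102529 : act 2 n47557 = n102529 := rfl
theorem F157472 : act 3 n102529 = n102516 := d0_2 D47557 D102529 (iv2 D102516) (iv3 D47550) (iv2 F63019)
theorem F157473 : act 7 n102529 = n100547 := d4_2 (iv7 F74777) D102529 F154626
theorem F157474 : act 1 n102529 = n100552 := d15_0 (iv0 D100552) (iv7 F74777) D102529
theorem F157475 : act 1 n102528 = n100547 := d15_1 D102528 (iv7 F157473) (iv2 D102529)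
theorem F157476 : act 1 n100553 = n102529 := d15_1 D100553 F157473 F154626
def n102530 : Q := act 5 n47557
theorem D102530 : act 5 n47557 = n102530 := rfl
theorem F157477 : act 3 n102530 = n47558 := d6_1 D102530 (iv5 D47558) D47557
theorem F157478 : act 7 n102530 = n89524 := d13_2 (iv7 F74777) D102530 F137230
def n102531 : Q := act 6 n47557
theorem D102531 : act 6 n47557 = n102531 := rfl
theorem F157479 : act 3 n102531 = n47559 := d7_1 D102531 (iv6 D47559) D47557
theorem F157480 : act 7 n102531 = n99039 := d14_2 (iv7 F74777) D102531 (iv6 F152568) F73373 D46909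
theorem F157481 : act 5 n88975 = n102531 := d13_3 F157480 (iv5 D99039) (iv7 F136564)
def n102532 : Q := act 6 n47558
theorem D102532 : act 6 n47558 = n102532 := rfl
theorem F157482 : act 2 n102532 = n89529 := d3_1 D102532 (iv6 D89529) (iv2 F74778)
theorem F157483 : act 5 n102532 = n88977 := d12_1 D102532 (iv6 D88977) (iv5 F74784) (iv6 D47559) D47558
def n102533 : Q := act 0 n47560
theorem D102533 : act 0 n47560 = n102533 := rfl
theorem F157484 : act 3 n102533 = n91357 := d20_5 (iv4 F35322) (iv1 F62389) (iv4 F62390) D47560 D102533 (iv4 D91357) (iv1 F66989) (iv4 F67007) F67006 (iv1 D22768)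
theorem F157485 : act 1 n102516 = n102533 := d15_0 (iv0 D102533) F74789 D102516
theorem F157487 : act 7 n91408 = n102533 := d8_0 F157484 F140473 D91408
def n102534 : Q := act 1 n47560
theorem D102534 : act 1 n47560 = n102534 := rfl
def n102535 : Q := act 2 n47560
theorem D102535 : act 2 n47560 = n102535 := rfl
theorem F157488 : act 3 n102535 = n100547 := d0_2 D47560 D102535 F154626 F74120 (iv2 F63015)
theorem F157489 : act 6 n102535 = n91341 := d3_2 (iv6 F74788) D102535 (iv2 F140415)
theorem F157490 : act 7 n102535 = n102516 := d4_2 (iv7 F74789) D102535 (iv2 D102516)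
theorem F157491 : act 1 n102535 = n91408 := d15_0 (iv0 F140607) (iv7 F74789) D102535
theorem F157492 : act 1 n102534 = n102516 := d15_1 D102534 (iv7 F157490) (iv2 D102535)
theorem F157493 : act 2 n91408 = n102534 := d15_3 F157492 F157485 (iv7 F157487)
theorem F157494 : act 6 n102534 = n99816 := d3_2 (iv6 F140606) F157493 F153661
theorem F157495 : act 7 n102515 = n102534 := d15_2 (iv0 F140607) D102515 (iv2 F157493)
theorem F157496 : act 2 n102533 = n102515 := d4_3 F157495 (iv2 F157493) F157487
theorem F157497 : act 1 n102515 = n102535 := d15_0 F157491 F157487 F157496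
def n102536 : Q := act 5 n47560
theorem D102536 : act 5 n47560 = n102536 := rfl
theorem F157498 : act 3 n102536 = n47561 := d6_1 D102536 (iv5 D47561) D47560
theorem F157499 : act 7 n102536 = n89527 := d13_2 (iv7 F74789) D102536 F137237
def n102537 : Q := act 6 n47561
theorem D102537 : act 6 n47561 = n102537 := rfl
theorem F157500 : act 2 n102537 = n89526 := d3_1 D102537 (iv6 D89526) (iv2 F74790)
theorem F157501 : act 5 n102537 = n99380 := d12_1 D102537 (iv6 D99380) (iv5 D46469) F63021 D47561
def n102538 : Q := act 2 n47562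
theorem D102538 : act 2 n47562 = n102538 := rfl
theorem F157502 : act 7 n47563 = n102538 := d15_2 (iv0 D47562) D47563 (iv2 D102538)
def n102539 : Q := act 3 n47562
theorem D102539 : act 3 n47562 = n102539 := rfl
theorem F157503 : act 4 n102539 = n88310 := d20_6 (iv4 D22855) (iv1 D10796) D10797 D22859 D47562 D102539 (iv1 D88310) (iv4 F73587) F73586 (iv1 F35436)
theorem F157504 : act 0 n91406 = n102539 := d20_10 F157503 (iv1 D88310) (iv4 F73587) F73586 (iv1 F35436) F62696 F32039 D20207 D42777 D91406
def n102540 : Q := act 4 n47562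
theorem D102540 : act 4 n47562 = n102540 := rfl
theorem F157505 : act 0 n102540 = n47616 := d20_1 D102540 (iv4 F140522) (iv3 D91379) (iv1 D42762) (iv3 F62696) (iv4 D22855) (iv1 D10796) D10797 D22859 D47562
def n102541 : Q := act 5 n47562
theorem D102541 : act 5 n47562 = n102541 := rfl
def n102542 : Q := act 6 n47562
theorem D102542 : act 6 n47562 = n102542 := rfl
def n102543 : Q := act 7 n47562
theorem D102543 : act 7 n47562 = n102543 := rfl
def n102544 : Q := act 3 n47563
theorem D102544 : act 3 n47563 = n102544 := rfl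
def n102545 : Q := act 4 n47563
theorem D102545 : act 4 n47563 = n102545 := rfl
theorem F157507 : act 0 n47616 = n102545 := d20_10 (iv4 D102545) (iv1 D47563) (iv4 F74702) (iv3 D47509) (iv1 F62372) (iv3 F70490) F70491 F65711 (iv4 F35979) (iv3 F74874)
theorem F157508 : act 3 n88309 = n102545 := d20_5 F62373 (iv1 D19393) (iv4 F31009) (iv3 F62412) D88309 (iv4 D102545) (iv1 D47563) (iv4 F74702) (iv3 D47509) (iv1 F62372)
def n102546 : Q := act 5 n47563
theorem D102546 : act 5 n47563 = n102546 := rfl
def n102547 : Q := act 6 n47563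
theorem D102547 : act 6 n47563 = n102547 := rfl
def n102548 : Q := act 5 n47564
theorem D102548 : act 5 n47564 = n102548 := rfl
theorem F157509 : act 2 n102548 = n47565 := d2_1 D102548 (iv5 D47565) D47564
theorem F157510 : act 7 n102548 = n102440 := d13_2 (iv7 F74795) D102548 (iv5 D102440)
theorem F157511 : act 1 n102471 = n102548 := d15_1 D102471 F157510 F157399
theorem F157512 : act 1 n102548 = n102470 := d15_0 (iv0 D102470) (iv7 F74800) (iv2 F157509)
def n102549 : Q := act 6 n47564
theorem D102549 : act 6 n47564 = n102549 := rfl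
theorem F157513 : act 2 n102549 = n47566 := d3_1 D102549 (iv6 D47566) D47564
theorem F157514 : act 7 n102549 = n99846 := d14_2 (iv7 F74795) D102549 (iv6 D99846) F73664 D47529
theorem F157515 : act 1 n99852 = n102549 := d15_1 D99852 F157514 F153737
theorem F157516 : act 1 n102549 = n99851 := d15_0 (iv0 D99851) (iv7 F74802) (iv2 F157513)
def n102550 : Q := act 0 n47565
theorem D102550 : act 0 n47565 = n102550 := rfl
theorem F157517 : act 1 n102440 = n102550 := d15_0 (iv0 D102550) F74800 (iv2 F157399)
def n102551 : Q := act 1 n47565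
theorem D102551 : act 1 n47565 = n102551 := rfl
theorem F157518 : act 1 n102551 = n102440 := d15_1 D102551 (iv7 F157510) F157509
def n102552 : Q := act 4 n47565
theorem D102552 : act 4 n47565 = n102552 := rfl
theorem F157519 : act 7 n102552 = n102472 := d11_2 (iv7 F74800) D102552 (iv4 D102472)
def n102553 : Q := act 6 n47565
theorem D102553 : act 6 n47565 = n102553 := rfl
def n102554 : Q := act 0 n47566
theorem D102554 : act 0 n47566 = n102554 := rfl
theorem F157521 : act 1 n99846 = n102554 := d15_0 (iv0 D102554) F74802 (iv2 F153737)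
def n102555 : Q := act 1 n47566
theorem D102555 : act 1 n47566 = n102555 := rfl
theorem F157522 : act 1 n102555 = n99846 := d15_1 D102555 (iv7 F157514) F157513
def n102556 : Q := act 0 n47567
theorem D102556 : act 0 n47567 = n102556 := rfl
def n102557 : Q := act 1 n47567
theorem D102557 : act 1 n47567 = n102557 := rfl
def n102558 : Q := act 7 n47567
theorem D102558 : act 7 n47567 = n102558 := rfl
theorem F157523 : act 6 n102558 = n102514 := d14_1 D102558 (iv7 D102514) F74746 (iv7 F35559) D47567
def n102559 : Q := act 3 n47569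
theorem D102559 : act 3 n47569 = n102559 := rfl
theorem F157524 : act 4 n102559 = n88470 := d5_2 (iv4 F153401) D102559 (iv3 F156169) (iv4 D101372) (iv3 F153402)
theorem F157525 : act 0 n90419 = n102559 := d20_4 F63673 D48368 F76026 D90419 (iv3 D102559) F153401 (iv1 F153400) (iv4 D90526) (iv3 F145329) (iv1 D88525)
def n102562 : Q := act 5 n47570
theorem D102562 : act 5 n47570 = n102562 := rfl
theorem F157526 : act 0 n102562 = n90503 := d17_2 (iv1 F142890) D102562 F139295 F137300 D89587 F139329 (iv5 D47582) F73646 (iv4 F142887)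
def n102563 : Q := act 6 n47570
theorem D102563 : act 6 n47570 = n102563 := rfl
def n102564 : Q := act 5 n47571
theorem D102564 : act 5 n47571 = n102564 := rfl
theorem F157527 : act 2 n102564 = n47572 := d2_1 D102564 (iv5 D47572) D47571
def n102565 : Q := act 6 n47571
theorem D102565 : act 6 n47571 = n102565 := rfl
theorem F157528 : act 2 n102565 = n47573 := d3_1 D102565 (iv6 D47573) D47571
theorem F157529 : act 4 n102565 = n47584 := d10_1 D102565 (iv6 D47584) (iv4 F74811)
def n102566 : Q := act 0 n47572
theorem D102566 : act 0 n47572 = n102566 := rfl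
def n102567 : Q := act 1 n47572
theorem D102567 : act 1 n47572 = n102567 := rfl
def n102568 : Q := act 4 n47572
theorem D102568 : act 4 n47572 = n102568 := rfl
def n102569 : Q := act 6 n47572
theorem D102569 : act 6 n47572 = n102569 := rfl
theorem F157530 : act 3 n102569 = n47577 := d7_1 D102569 (iv6 D47577) (iv3 F74812)
def n102570 : Q := act 0 n47573
theorem D102570 : act 0 n47573 = n102570 := rfl
def n102571 : Q := act 1 n47573
theorem D102571 : act 1 n47573 = n102571 := rfl
def n102572 : Q := act 3 n47574
theorem D102572 : act 3 n47574 = n102572 := rfl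
theorem F157531 : act 5 n102572 = n93032 := d6_2 (iv5 F74815) D102572 (iv3 D93032)
theorem F157532 : act 7 n102572 = n94450 := d8_2 F74817 D102572 F145633
def n102573 : Q := act 6 n47574
theorem D102573 : act 6 n47574 = n102573 := rfl
def n102574 : Q := act 3 n47575
theorem D102574 : act 3 n47575 = n102574 := rfl
theorem F157533 : act 5 n102574 = n94178 := d6_2 (iv5 F74819) D102574 F145194
def n102575 : Q := act 6 n47575
theorem D102575 : act 6 n47575 = n102575 := rfl
theorem F157534 : act 2 n102575 = n94455 := d3_1 D102575 F145637 F74820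
theorem F157535 : act 5 n102575 = n94180 := d12_1 D102575 (iv6 D94180) (iv5 D44031) D44032 (iv5 F74819)
def n102576 : Q := act 3 n47576
theorem D102576 : act 3 n47576 = n102576 := rfl
def n102577 : Q := act 6 n47576
theorem D102577 : act 6 n47576 = n102577 := rfl
theorem F157536 : act 4 n102577 = n47577 := d10_1 D102577 (iv6 D47577) D47576
def n102578 : Q := act 0 n47577
theorem D102578 : act 0 n47577 = n102578 := rfl
def n102579 : Q := act 7 n47577
theorem D102579 : act 7 n47577 = n102579 := rfl
def n102580 : Q := act 0 n47579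
theorem D102580 : act 0 n47579 = n102580 := rfl
def n102581 : Q := act 1 n47579
theorem D102581 : act 1 n47579 = n102581 := rfl
def n102582 : Q := act 2 n47579
theorem D102582 : act 2 n47579 = n102582 := rfl
theorem F157537 : act 3 n102582 = n92728 := d0_2 D47579 D102582 F142961 F135137 F65429
theorem F157538 : act 4 n102582 = n47604 := d1_2 (iv4 F74827) D102582 (iv2 D47604)
theorem F157539 : act 6 n102582 = n92705 := d3_2 (iv6 F74828) D102582 (iv2 D92705)
def n102583 : Q := act 5 n47581
theorem D102583 : act 5 n47581 = n102583 := rfl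
theorem F157540 : act 2 n102583 = n48233 := d2_1 D102583 (iv5 D48233) F74837
theorem F157541 : act 3 n102583 = n47582 := d6_1 D102583 (iv5 D47582) D47581
theorem F157542 : act 7 n102583 = n48185 := d13_2 (iv7 F74835) D102583 (iv5 D48185)
theorem F157543 : act 0 n102583 = n87017 := d17_2 (iv1 F74839) D102583 (iv5 D87017) F61482 F36496 F36495 F17845 F17838 D23365
theorem F157545 : act 4 n102583 = n101422 := d18_5 D10743 (iv4 F66804) (iv1 F68879) (iv4 F74833) D102583 (iv0 D101422) (iv4 D47202) (iv0 D22707) (iv5 D10745)
def n102584 : Q := act 4 n47582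
theorem D102584 : act 4 n47582 = n102584 := rfl
def n102585 : Q := act 6 n47582
theorem D102585 : act 6 n47582 = n102585 := rfl
def n102586 : Q := act 4 n47583
theorem D102586 : act 4 n47583 = n102586 := rfl
theorem F157546 : act 2 n102586 = n47587 := d1_1 D102586 (iv4 D47587) (iv2 F74840)
def n102587 : Q := act 6 n47583
theorem D102587 : act 6 n47583 = n102587 := rfl
theorem F157547 : act 2 n102587 = n47588 := d3_1 D102587 (iv6 D47588) (iv2 F74840)
def n102588 : Q := act 0 n47584
theorem D102588 : act 0 n47584 = n102588 := rfl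
theorem F157548 : act 5 n102588 = n87584 := d21_0 F143986 F136719 F64183 (iv1 F72928) (iv6 F137343) (iv5 F153688) (iv1 F153689) (iv5 D47583) D47584 D102588
theorem F157549 : act 3 n48261 = n102588 := d6_3 F157548 (iv3 D87584) (iv5 F75866)
theorem F157550 : act 7 n47590 = n102588 := d13_0 F157548 F136716 (iv5 F136714)
theorem F157551 : act 4 n102588 = n92847 := d11_1 F157550 (iv7 D92847) F74843
theorem F157552 : act 6 n102588 = n88325 := d14_1 F157550 (iv7 F135272) F135271 F73280 (iv6 F74845)
theorem F157553 : act 2 n102588 = n47589 := d15_3 (iv0 D47589) D47590 F157550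
theorem F157554 : act 7 n99297 = n47589 := d4_2 (iv7 F157550) (iv2 F152893) (iv2 F157553)
theorem F157555 : act 1 n47584 = n99297 := d15_1 (iv0 D102588) F157554 (iv2 F157553)
theorem F157556 : act 1 n99297 = n47592 := d15_1 F157555 (iv7 D47592) (iv2 F74841)
theorem F157558 : act 5 n47589 = n89039 := d2_2 (iv5 F157548) F157553 (iv2 F136717)
theorem F157559 : act 0 n89028 = n87584 := d21_7 (iv5 F151788) F151789 (iv5 D46265) (iv6 D22127) (iv1 F31357) D41582 D89028 (iv5 F157548) F157552 F151070
theorem E15595 : n94225 = n94152 := (c17_9 (iv1 D89027) D89028 F157559 (iv5 F157548) F157551 F143213 (iv0 F151791) (iv5 D94226) D94225 F145120)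
theorem E15596 : n44077 = n44048 := (((iv1 F145124)).symm.trans (sb E15595 (iv1 D94225)))
theorem E15597 : n93833 = n44076 := (((F145122).symm.trans (sb E15595 F145275))).symm
theorem E15598 : n94224 = n20938 := ((D94224).symm.trans (sb E15596 (iv1 D44077)))
theorem E15599 : n94150 = n43861 := (((F69355).symm.trans (sb E15596 (iv2 F151946)))).symm
theorem E15600 : n94284 = n94223 := ((((iv3 F145273)).symm.trans (sb E15596 D94284))).symm
theorem E15601 : n94285 = n88804 := ((((iv4 F136186)).symm.trans (sb E15596 D94285))).symm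
theorem E15604 : n94227 = n94151 := ((D94227).symm.trans (sb E15596 (iv7 F151945)))
theorem E15605 : n94255 = n43904 := (((F144586).symm.trans (sb E15597 (iv3 F145343)))).symm
theorem E15606 : n94282 = n43892 := ((D94282).symm.trans (sb E15597 F157274))
theorem F157561 : act 1 n20938 = n44048 := (sb E15598 (iv0 D94224))
theorem E15607 : n93831 = n44078 := ((D93831).symm.trans (sb E15599 (iv1 F145118)))
theorem E15608 : n93832 = n44020 := ((D93832).symm.trans (sb E15599 (iv0 D94150)))
theorem E15609 : n93799 = n44060 := ((((iv3 F69383)).symm.trans (sb E15599 F145499))).symm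
theorem F157562 : act 7 n43861 = n44076 := (sb E15599 F151947)
theorem F157563 : act 1 n94223 = n93788 := (sb E15600 (iv0 F152077))
theorem E15610 : n93922 = n76500 := (((F145272).symm.trans (sb E15600 F145415))).symm
theorem E15611 : n89061 = n88910 := (((F145274).symm.trans (sb E15600 (iv4 F145416)))).symm
theorem F157564 : act 7 n94223 = n98564 := (sb E15600 (iv7 F151941))
theorem E15612 : n46112 = n41463 := (((F136185).symm.trans (sb E15601 F145421))).symm
theorem F157565 : act 6 n94151 = n93805 := (sb E15604 (iv6 F157252))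
theorem F157566 : act 7 n94151 = n44048 := (sb E15604 (iv7 D94227))
theorem E15614 : n93800 = n76501 := ((F144584).symm.trans (sb E15605 F145347))
theorem E15615 : n93798 = n76503 := (((iv2 F151958)).symm.trans (sb E15605 F145342))
theorem E15616 : n95788 = n45465 := (((F144585).symm.trans (sb E15605 (iv4 F147476)))).symm
theorem E15617 : n93928 = n44087 := ((D93928).symm.trans (sb E15605 F157282))
theorem F157567 : act 6 n43892 = n44076 := (sb E15606 (iv6 D94282))
theorem F157568 : act 1 n44078 = n43861 := (sb E15607 (iv0 D93831))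
theorem F157569 : act 0 n44020 = n43861 := (sb E15608 (iv1 D93832))
theorem E15618 : n94253 = n43845 := ((D94253).symm.trans (sb E15609 (iv1 D93799)))
theorem E15619 : n94254 = n43905 := ((D94254).symm.trans (sb E15609 F144583))
theorem E15620 : n43903 = n34944 := (((F69382).symm.trans (sb E15609 F151948))).symm
theorem E15621 : n94375 = n44732 := ((((iv4 F70313)).symm.trans (sb E15609 F145498))).symm
theorem F157570 : act 7 n44060 = n43904 := (sb E15609 F151949)
theorem F157571 : act 0 n76500 = n94131 := (sb E15610 F146016)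
theorem E15622 : n46079 = n45992 := (((F114666).symm.trans (sb E15610 F144750))).symm
theorem F157572 : act 0 n88910 = n46080 := (sb E15611 (iv1 F136743))
theorem F157573 : act 1 n88910 = n41598 := (sb E15611 (iv0 D89061))
theorem E15623 : n98643 = n88805 := (((F136427).symm.trans (sb E15611 (iv3 F152073)))).symm
theorem F157574 : act 7 n88910 = n46078 := (sb E15611 (iv7 F145419))
theorem E15624 : n88806 = n22037 := ((D88806).symm.trans (sb E15612 (iv1 D46112)))
theorem E15625 : n88807 = n40807 := ((D88807).symm.trans (sb E15612 F72692))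
theorem E15626 : n89078 = n88589 := ((((iv2 F135738)).symm.trans (sb E15612 (iv2 F152035)))).symm
theorem E15629 : n89079 = n88809 := (((D88809).symm.trans (sb E15612 (iv7 F152037)))).symm
theorem F157575 : act 0 n76501 = n43904 := (sb E15614 (iv1 F144584))
theorem F157576 : act 2 n76501 = n43845 := (sb E15614 (iv2 D93800))
theorem F157577 : act 3 n76501 = n43894 := (sb E15614 F144579)
theorem F157578 : act 4 n76501 = n44826 := (sb E15614 F144580)
theorem F157579 : act 7 n76501 = n43905 := (sb E15614 F144581)
theorem F157580 : act 2 n76503 = n43904 := (sb E15615 F151958)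
theorem E15630 : n97152 = n94374 := (((iv4 F149889)).symm.trans (sb E15615 F145496))
theorem E15633 : n97088 = n44785 := ((((iv3 F144587)).symm.trans (sb E15616 (iv3 F149778)))).symm
theorem E15634 : n97350 = n44797 := ((D97350).symm.trans (sb E15616 F157286))
theorem F157581 : act 6 n44087 = n43904 := (sb E15617 (iv6 D93928))
theorem F157582 : act 0 n43845 = n76503 := (sb E15618 (iv1 F145345))
theorem F157583 : act 1 n43845 = n44060 := (sb E15618 (iv0 D94253))
theorem F157584 : act 0 n43905 = n44060 := (sb E15619 (iv1 D94254))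
theorem F157585 : act 1 n43905 = n76503 := (sb E15619 F145341)
theorem F157586 : act 1 n34944 = n20798 := (sb E15620 (iv0 D43903))
theorem E15635 : n45464 = n45406 := ((((iv4 F71640)).symm.trans (sb E15620 (iv4 F145505)))).symm
theorem E15638 : n95785 = n44107 := ((D95785).symm.trans (sb E15621 (iv1 D94375)))
theorem E15639 : n95786 = n45466 := ((D95786).symm.trans (sb E15621 (iv0 F145500)))
theorem E15640 : n95529 = n45383 := ((((iv3 F71567)).symm.trans (sb E15621 (iv3 F147151)))).symm
theorem F157587 : act 7 n44732 = n45465 := (sb E15621 F151951)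
theorem E15641 : n98292 = n22009 := ((D98292).symm.trans (sb E15622 (iv1 D46079)))
theorem E15642 : n98293 = n89063 := ((D98293).symm.trans (sb E15622 F136749))
theorem E15643 : n98567 = n95633 := ((((iv3 F147314)).symm.trans (sb E15622 D98567))).symm
theorem E15646 : n98295 = n89062 := ((D98295).symm.trans (sb E15622 (iv7 F145418)))
theorem F157588 : act 0 n88805 = n98398 := (sb E15623 (iv1 F152076))
theorem F157589 : act 1 n88805 = n98434 := (sb E15623 (iv0 F152075))
theorem E15647 : n98432 = n98377 := ((((iv2 F151804)).symm.trans (sb E15623 F152072))).symm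
theorem F157590 : act 7 n88805 = n98433 := (sb E15623 F152074)
theorem F157591 : act 1 n22037 = n41463 := (sb E15624 (iv0 D88806))
theorem F157592 : act 0 n40807 = n41463 := (sb E15625 (iv1 D88807))
theorem F157593 : act 0 n88589 = n44254 := (sb E15626 (iv1 F136785))
theorem F157594 : act 1 n88589 = n41621 := (sb E15626 (iv0 D89078))
theorem E15648 : n95964 = n95731 := ((((iv3 F147424)).symm.trans (sb E15626 (iv3 F147596)))).symm
theorem F157595 : act 7 n88589 = n46111 := (sb E15626 (iv7 F152034))
theorem F157596 : act 0 n88809 = n41621 := (sb E15629 (iv1 D89079))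
theorem F157597 : act 1 n88809 = n44254 := (sb E15629 F136786)
theorem F157598 : act 2 n88809 = n46111 := (sb E15629 F152036)
theorem F157599 : act 4 n88809 = n98433 := (sb E15629 F151857)
theorem F157600 : act 4 n94374 = n76503 := (sb E15630 F149889)
theorem F157601 : act 6 n94374 = n93985 := (sb E15630 (iv6 F157269))
theorem E15651 : n95736 = n95530 := ((((iv2 F151954)).symm.trans (sb E15633 F149777))).symm
theorem E15652 : n95961 = n45452 := ((D95961).symm.trans (sb E15633 F157287))
theorem F157602 : act 6 n44797 = n45465 := (sb E15634 (iv6 D97350))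
theorem F157603 : act 0 n45406 = n94376 := (sb E15635 (iv1 F145504))
theorem F157604 : act 1 n45406 = n21691 := (sb E15635 (iv0 D45464))
theorem E15653 : n97345 = n97148 := ((((iv3 F149884)).symm.trans (sb E15635 D97345))).symm
theorem F157605 : act 7 n45406 = n94374 := (sb E15635 (iv7 F151957))
theorem F157606 : act 1 n44107 = n44732 := (sb E15638 (iv0 D95785))
theorem F157607 : act 0 n45466 = n44732 := (sb E15639 (iv1 D95786))
theorem E15656 : n97085 = n44787 := ((D97085).symm.trans (sb E15640 (iv1 F147152)))
theorem E15657 : n97086 = n44622 := ((D97086).symm.trans (sb E15640 (iv0 D95529)))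
theorem E15658 : n44786 = n44713 := (((F71566).symm.trans (sb E15640 F151952))).symm
theorem F157608 : act 7 n45383 = n44785 := (sb E15640 F151953)
theorem F157609 : act 1 n22009 = n45992 := (sb E15641 (iv0 D98292))
theorem F157610 : act 0 n89063 = n45992 := (sb E15642 (iv1 D98293))
theorem F157611 : act 0 n95633 = n86924 := (sb E15643 F151963)
theorem F157612 : act 1 n95633 = n87579 := (sb E15643 (iv0 F151962))
theorem E15659 : n87577 = n87334 := (((F147313).symm.trans (sb E15643 (iv2 F151961)))).symm
theorem F157613 : act 7 n95633 = n87578 := (sb E15643 (iv7 F151964))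
theorem F157614 : act 6 n89062 = n46318 := (sb E15646 F157326)
theorem F157615 : act 7 n89062 = n45992 := (sb E15646 (iv7 D98295))
theorem F157616 : act 1 n98377 = n46041 := (sb E15647 (iv0 D98432))
theorem F157617 : act 7 n98377 = n98640 := (sb E15647 (iv7 F152039))
theorem F157618 : act 7 n95731 = n98639 := (sb E15648 F152033)
theorem F157619 : act 6 n95530 = n96564 := (sb E15651 (iv6 F157277))
theorem F157620 : act 6 n45452 = n44785 := (sb E15652 (iv6 D95961))
theorem F157621 : act 0 n97148 = n95503 := (sb E15653 F150096)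
theorem F157622 : act 1 n44787 = n45383 := (sb E15656 (iv0 D97085))
theorem F157623 : act 0 n44622 = n45383 := (sb E15657 (iv1 D97086))
theorem F157624 : act 0 n44713 = n21327 := (sb E15658 (iv1 D44786))
theorem F157625 : act 1 n44713 = n95531 := (sb E15658 F147158)
theorem E15661 : n95965 = n95735 := (((D95735).symm.trans (sb E15658 D95965))).symm
theorem F157626 : act 7 n44713 = n95530 := (sb E15658 (iv7 F151955))
theorem F157627 : act 0 n87334 = n89034 := (sb E15659 (iv1 F136708))
theorem F157628 : act 1 n87334 = n40765 := (sb E15659 (iv0 D87577))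
theorem F157629 : act 0 n95735 = n44805 := (sb E15661 F151753)
theorem F157630 : act 0 n93830 = n89165 := d20_4 (iv4 F70151) F157623 (iv4 F149771) F149770 (iv3 D89165) (iv4 F136863) (iv1 F150727) F150724 F145977 (iv1 D46087)
theorem F157631 : act 3 n93995 = n94387 := d20_3 (iv4 F144662) F157630 F144819 (iv1 D94387) (iv3 D44115) F62671 (iv1 F34533) (iv4 F62875) D44020 F157569
theorem F157632 : act 6 n95959 = n97312 := d10_2 F157620 D95959 (iv4 D97312)
theorem F157633 : act 6 n93892 = n94280 := d7_2 F157632 F150051 (iv3 F147593)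
theorem F157634 : act 7 n97083 = n95959 := d14_0 F157632 (iv7 F157288) (iv6 D95724) (iv7 F71560) D97083
theorem F157635 : act 7 n94280 = n93830 := d8_2 F157634 F147593 (iv3 F149770)
theorem E15663 : n98566 = n88961 := ((c3_2 F157614 F145452 (iv6 D98566) (iv2 F145420))).symm
theorem F157636 : act 6 n88961 = n46078 := (sb E15663 (iv6 D98566))
theorem F157637 : act 6 n96103 = n87578 := d7_2 F157614 F150063 (iv3 F151965)
theorem F157638 : act 6 n98433 = n99067 := d7_2 F157636 (iv3 F151858) F152592
theorem E15664 : n100572 = n99914 := (c21_8 (iv5 F136497) (iv1 F136500) (iv5 D45991) D45992 (iv1 F157609) D46082 (iv5 F74127) D100572 (iv5 D99914) (iv6 D46668) (iv1 F65390))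
theorem F157639 : act 1 n99914 = n46916 := (sb E15664 (iv0 D100572))
theorem F157640 : act 5 n98572 = n102398 := d21_2 D46081 D98572 (iv6 D102398) F139255 (iv6 D90485) (iv5 F136497) (iv1 F136500) (iv5 D45991) D45992 (iv1 F157609)
theorem F157641 : act 7 n95960 = n97087 := d13_2 F157608 D95960 (iv5 D97087)
theorem F157642 : act 7 n95787 = n97349 := d8_2 F157641 F149776 F150100
theorem E15665 : n98642 = n88802 := (c3_3 (iv6 F157315) F157598 D98642 F157263)
theorem F157643 : act 6 n88802 = n46111 := (sb E15665 (iv6 D98642))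
theorem F157644 : act 0 n87675 = n102307 := d21_1 D87675 F157123 (iv6 D89081) (iv1 F157594) (iv6 D88589) F74225 (iv1 F34810) (iv5 D19253) D19254 D40845
theorem F157645 : act 1 n87675 = n102383 := d15_1 (iv0 F157644) F157189 (iv2 F157122)
theorem E15666 : n99894 = n99566 := (c21_7 D10626 D22311 (iv5 F74225) D88589 F157593 D94713 (iv5 F153809) (iv1 D99566) (iv5 D46538) (iv6 D22308) (iv1 D10624))
theorem F157646 : act 2 n99566 = n47117 := (sb E15666 F153808)
theorem F157647 : act 3 n99566 = n46650 := (sb E15666 (iv3 D99894))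
theorem F157648 : act 5 n99566 = n94713 := (sb E15666 F153809)
theorem F157649 : act 7 n99566 = n88017 := (sb E15666 F153810)
theorem F157650 : act 0 n94712 = n99663 := d21_1 D94712 (iv5 D99663) (iv6 D46573) (iv1 D22316) (iv6 D10627) D10626 D22311 (iv5 F74225) D88589 F157593
theorem F157651 : act 1 n89080 = n99663 := d15_0 (iv0 F157650) F146000 (iv2 F136787)
theorem E15667 : n99565 = n99506 := ((c15_4 (iv0 D99565) D99566 F157649 (iv2 F153267))).symm
theorem F157653 : act 1 n99506 = n46538 := (sb E15667 (iv0 D99565))
theorem F157660 : act 0 n97958 = n88207 := d21_1 D97958 F135145 (iv6 D87597) F157592 (iv6 D41463) (iv5 F74232) (iv1 D38607) F29558 D21857 D45724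
theorem E15670 : n101159 = n97947 := (c21_8 D22309 (iv1 F59424) F74232 D41463 (iv1 F157591) D46114 (iv5 F74353) D101159 (iv5 D97947) (iv6 D45720) (iv1 F34310))
theorem F157661 : act 0 n97947 = n88017 := (sb E15670 (iv1 F155854))
theorem F157662 : act 1 n97947 = n47117 := (sb E15670 (iv0 D101159))
theorem F157663 : act 5 n98646 = n99584 := d21_2 D46113 D98646 (iv6 D99584) (iv1 D46543) (iv6 D22310) D22309 (iv1 F59424) F74232 D41463 (iv1 F157591)
theorem F157664 : act 2 n99663 = n98646 := d2_3 F157663 F153420 D99663
theorem F157665 : act 7 n98647 = n99663 := d15_2 (iv0 D98646) D98647 F157664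
theorem F157666 : act 5 n99664 = n98647 := d13_3 F157665 (iv5 D99663) D99664
theorem E15671 : n101160 = n99568 := (c15_2 F157662 D101160 (iv7 D99568) (iv2 F150965))
theorem F157667 : act 0 n99568 = n47117 := (sb E15671 (iv1 D101160))
theorem F157668 : act 1 n99568 = n88017 := (sb E15671 F155855)
theorem F157670 : act 0 n52116 = n93938 := d21_4 F46787 (iv1 F23478) D25303 D52116 (iv6 D93938) (iv5 D43907) (iv1 F157586) F55310 (iv6 D29128) D29125
theorem F157671 : act 6 n61294 = n93930 := d21_5 (iv5 D29013) (iv1 D13809) D13811 D29019 D61294 (iv5 D93930) F157584 (iv5 F82384) (iv6 D52117) (iv1 F46651)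
theorem F157672 : act 2 n93938 = n61294 := d3_3 F157671 F144757 D93938
theorem F157673 : act 7 n61295 = n93938 := d15_2 (iv0 D61294) D61295 F157672
theorem F157674 : act 3 n93948 = n61295 := d8_3 F157673 F144766 D93948
theorem E15672 : n92903 = n76493 := (c21_8 (iv5 F56708) F56709 F33105 D44060 (iv1 F157583) F143279 (iv5 D92907) D92903 (iv5 D76493) (iv6 D34940) (iv1 F31839))
theorem F157675 : act 1 n76493 = n43467 := (sb E15672 (iv0 D92903))
theorem F157676 : act 7 n92904 = n90553 := d15_2 F157675 D92904 F139370
theorem F157677 : act 5 n90554 = n92904 := d13_3 F157676 (iv5 D90553) D90554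
theorem F157678 : act 2 n93927 = n61526 := d2_3 (iv5 F114668) F157580 D93927
theorem F157679 : act 7 n52117 = n93927 := d4_0 F157678 (iv7 D61526) (iv2 F82383)
theorem F157680 : act 1 n93927 = n61524 := d15_0 (iv0 D61524) D61526 (iv2 F157678)
theorem F157681 : act 7 n94281 = n62770 := d8_2 F157679 (iv3 F145411) F97943
theorem F157682 : act 1 n61525 = n93927 := d15_1 D61525 (iv7 F157679) F82383
theorem F157683 : act 0 n90316 = n92765 := d21_7 F41511 (iv1 F68229) F68231 D44048 (iv1 F157561) D44080 (iv5 F138934) (iv5 D92765) (iv6 D43397) (iv1 F32599)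
theorem F157684 : act 1 n90680 = n92765 := d15_0 (iv0 F157683) F138935 D90680
def n102589 : Q := act 5 n47584
theorem D102589 : act 5 n47584 = n102589 := rfl
theorem F157685 : act 2 n102589 = n47591 := d2_1 D102589 (iv5 D47591) (iv2 F74841)
theorem F157686 : act 0 n89035 = n102589 := d21_1 D89035 (iv5 D102589) (iv6 D47584) (iv1 F73642) (iv6 D42366) (iv5 F60112) (iv1 F60114) (iv5 D19584) D19585 D41584
def n102590 : Q := act 7 n47584
theorem D102590 : act 7 n47584 = n102590 := rfl
theorem F157687 : act 2 n102590 = n47592 := d4_1 D102590 (iv7 D47592) (iv2 F74841)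
theorem F157688 : act 3 n102590 = n102549 := d8_1 D102590 F157514 F153738
theorem F157689 : act 6 n102590 = n99837 := d14_1 D102590 F153722 F74858 F73644 D47584
theorem F157690 : act 1 n47590 = n102590 := d15_1 D47590 (iv7 D102590) F74841
theorem F157691 : act 1 n102590 = n47589 := d15_1 F157690 (iv7 F157554) F152893
def n102591 : Q := act 3 n47585
theorem D102591 : act 3 n47585 = n102591 := rfl
theorem F157692 : act 4 n102591 = n101986 := d20_6 D47383 F74592 (iv4 D22885) (iv3 F35579) D47585 D102591 (iv1 D101986) (iv4 D47374) F35305 D22763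
def n102592 : Q := act 4 n47585
theorem D102592 : act 4 n47585 = n102592 := rfl
def n102593 : Q := act 5 n47585
theorem D102593 : act 5 n47585 = n102593 := rfl
theorem F157693 : act 2 n102593 = n89585 := d2_1 D102593 F153696 (iv2 F153694)
theorem F157694 : act 7 n102593 = n89584 := d13_2 (iv7 F153691) D102593 (iv5 F153688)
theorem F157695 : act 0 n88883 = n102593 := d21_10 (iv5 D102593) (iv1 F153687) (iv5 D99822) (iv6 F74858) (iv1 F153720) (iv6 D46875) D46874 (iv1 F154496) (iv5 F154505) F147834
theorem F157696 : act 1 n89586 = n102593 := d15_0 (iv0 F157695) F136339 D89586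
theorem E15673 : n98915 = n89586 := (c15_1 D98915 F157696 F157694 (iv2 F137342))
theorem F157697 : act 0 n89586 = n46287 := (sb E15673 (iv1 D98915))
theorem F157698 : act 6 n98912 = n102593 := d14_5 F157694 F137343 F72929 D46285 D98912
def n102594 : Q := act 6 n47585
theorem D102594 : act 6 n47585 = n102594 := rfl
def n102595 : Q := act 4 n47586
theorem D102595 : act 4 n47586 = n102595 := rfl
def n102596 : Q := act 6 n47586
theorem D102596 : act 6 n47586 = n102596 := rfl
theorem F157699 : act 5 n102596 = n98914 := d12_1 D102596 (iv6 D98914) (iv5 D46286) D46287 (iv5 F153686)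
def n102597 : Q := act 0 n47587
theorem D102597 : act 0 n47587 = n102597 := rfl
def n102598 : Q := act 1 n47587
theorem D102598 : act 1 n47587 = n102598 := rfl
def n102599 : Q := act 3 n47587
theorem D102599 : act 3 n47587 = n102599 := rfl
theorem F157700 : act 4 n102599 = n47593 := d5_2 D47587 D102599 (iv3 D47593) (iv4 D22885) (iv3 F35579)
def n102600 : Q := act 5 n47587
theorem D102600 : act 5 n47587 = n102600 := rfl
def n102601 : Q := act 6 n47587
theorem D102601 : act 6 n47587 = n102601 := rfl
theorem F157701 : act 4 n102601 = n47588 := d10_1 D102601 (iv6 D47588) D47587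
def n102602 : Q := act 0 n47588
theorem D102602 : act 0 n47588 = n102602 := rfl
def n102603 : Q := act 1 n47588
theorem D102603 : act 1 n47588 = n102603 := rfl
def n102604 : Q := act 5 n47588
theorem D102604 : act 5 n47588 = n102604 := rfl
theorem F157702 : act 3 n102604 = n47597 := d6_1 D102604 (iv5 D47597) (iv3 F74842)
theorem F157703 : act 6 n102604 = n47591 := d12_2 D47588 D102604 (iv5 D47591) (iv6 D22884) D22883
def n102605 : Q := act 7 n47588
theorem D102605 : act 7 n47588 = n102605 := rfl
theorem F157704 : act 3 n102605 = n47598 := d8_1 D102605 (iv7 D47598) (iv3 F74842)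
def n102606 : Q := act 3 n47589
theorem D102606 : act 3 n47589 = n102606 := rfl
def n102607 : Q := act 4 n47589
theorem D102607 : act 4 n47589 = n102607 := rfl
theorem F157705 : act 2 n102607 = n92847 := d1_1 D102607 (iv4 F157551) F157553
theorem F157706 : act 7 n102607 = n92839 := d11_2 F157554 D102607 (iv4 F152894)
theorem F157707 : act 1 n92845 = n102607 := d15_1 D92845 F157706 F143208
theorem F157708 : act 5 n94335 = n102607 := d2_0 F157705 F143213 D94335
theorem F157709 : act 1 n102607 = n92844 := d15_0 (iv0 D92844) D92847 (iv2 F157705)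
theorem F157710 : act 0 n62770 = n94335 := d17_2 F157569 (iv5 F97944) F157708 (iv4 D102607) F157558 (iv0 D89039) (iv5 D41586) D41585 (iv4 F69269)
theorem F157711 : act 1 n62770 = n92846 := d15_1 (iv0 F157710) (iv7 F143211) D94335
theorem E15674 : n92770 = n20538 := (c21_5 F33089 (iv1 F55258) F55260 D43400 D92770 D43443 D92846 (iv1 F157711) F97944 (iv6 D43861) (iv1 F33091))
theorem E15675 : n90514 = n43439 := (((D43439).symm.trans (sb E15674 (iv1 F143089)))).symm
theorem E15676 : n43440 = n43400 := ((D43440).symm.trans (sb E15674 (iv0 D92770)))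
theorem E15677 : n92771 = n92601 := ((((iv1 F142651)).symm.trans (sb E15675 (iv1 F143084)))).symm
theorem E15678 : n92773 = n92600 := ((((iv2 F154063)).symm.trans (sb E15675 (iv2 F143087)))).symm
theorem E15679 : n76486 = n42439 := (((F138903).symm.trans (sb E15675 F139314))).symm
theorem E15680 : n92832 = n92766 := ((D92832).symm.trans (sb E15675 (iv6 F143068)))
theorem E15681 : n92599 = n42362 := (((iv7 F154066)).symm.trans (sb E15675 (iv7 D90514)))
theorem F157712 : act 0 n43400 = n20538 := (sb E15676 (iv1 D43440))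
theorem E15682 : n92834 = n92767 := ((((iv3 F143073)).symm.trans (sb E15676 D92834))).symm
theorem E15683 : n92835 = n92769 := ((((iv4 F143083)).symm.trans (sb E15676 D92835))).symm
theorem F157713 : act 0 n92601 = n43400 := (sb E15677 (iv1 D92771))
theorem E15686 : n90512 = n43320 := ((((iv1 D92600)).symm.trans (sb E15678 (iv1 F143090)))).symm
theorem E15687 : n90511 = n43441 := (((F142652).symm.trans (sb E15678 F143091))).symm
theorem F157714 : act 6 n92600 = n90519 := (sb E15678 F143088)
theorem F157715 : act 7 n92600 = n43400 := (sb E15678 (iv7 D92773))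
theorem E15688 : n70287 = n20035 := ((((iv1 D42439)).symm.trans (sb E15679 (iv1 F114642)))).symm
theorem E15689 : n90301 = n70286 := ((F138901).symm.trans (sb E15679 F114643))
theorem E15690 : n90299 = n70288 := (((iv2 F154070)).symm.trans (sb E15679 F114640))
theorem E15691 : n90693 = n90651 := (((D90651).symm.trans (sb E15679 F157295))).symm
theorem E15692 : n90652 = n90554 := ((D90652).symm.trans (sb E15679 (iv6 F139373)))
theorem E15693 : n90300 = n34936 := (((iv7 F154068)).symm.trans (sb E15679 (iv7 D76486)))
theorem F157716 : act 6 n92766 = n43439 := (sb E15680 (iv6 D92832))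
theorem F157717 : act 7 n42362 = n43439 := (sb E15681 F154066)
theorem F157718 : act 0 n92767 = n101196 := (sb E15682 F155909)
theorem F157719 : act 1 n92767 = n90286 := (sb E15682 (iv0 F154217))
theorem E15694 : n90646 = n70285 := (((F143072).symm.trans (sb E15682 F143200))).symm
theorem E15695 : n90789 = n90483 := (((F143074).symm.trans (sb E15682 (iv4 F143201)))).symm
theorem F157720 : act 7 n92767 = n100139 := (sb E15682 (iv7 F154060))
theorem E15696 : n46774 = n45723 := (((F143082).symm.trans (sb E15683 (iv3 F143206)))).symm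
theorem F157721 : act 0 n43320 = n42362 := (sb E15686 (iv1 D90512))
theorem F157722 : act 1 n43441 = n42362 := (sb E15687 (iv0 D90511))
theorem E15697 : n42438 = n32621 := ((D42438).symm.trans (sb E15688 (iv1 D70287)))
theorem F157723 : act 0 n70286 = n42439 := (sb E15689 (iv1 F138901))
theorem F157724 : act 2 n70286 = n42210 := (sb E15689 (iv2 D90301))
theorem F157725 : act 3 n70286 = n42423 := (sb E15689 F138896)
theorem F157726 : act 4 n70286 = n47866 := (sb E15689 F138897)
theorem F157727 : act 7 n70286 = n42440 := (sb E15689 F138898)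
theorem E15698 : n76485 = n42440 := (((iv1 F114639)).symm.trans (sb E15690 (iv1 F138895)))
theorem E15699 : n76484 = n42210 := ((F114641).symm.trans (sb E15690 (iv0 D90299)))
theorem F157728 : act 2 n70288 = n42439 := (sb E15690 F154070)
theorem F157729 : act 4 n70288 = n92933 := (sb E15690 F143300)
theorem F157730 : act 0 n90651 = n42458 := (sb E15691 (iv1 D90693))
theorem F157731 : act 7 n90651 = n52861 := (sb E15691 F157294)
theorem F157732 : act 6 n90554 = n42439 := (sb E15692 (iv6 D90652))
theorem E15700 : n92934 = n47801 := ((((iv4 F75099)).symm.trans (sb E15693 F143302))).symm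
theorem F157733 : act 7 n34936 = n42439 := (sb E15693 F154068)
theorem F157734 : act 0 n70285 = n92578 := (sb E15694 F143944)
theorem E15701 : n46742 = n46670 := (((F106721).symm.trans (sb E15694 F139559))).symm
theorem F157735 : act 0 n90483 = n46743 := (sb E15695 (iv1 F139726))
theorem F157736 : act 1 n90483 = n42516 := (sb E15695 (iv0 D90789))
theorem E15702 : n100231 = n97949 := ((((iv3 F150972)).symm.trans (sb E15695 (iv3 F154205)))).symm
theorem F157737 : act 7 n90483 = n46741 := (sb E15695 (iv7 F143204))
theorem E15703 : n97951 = n22437 := ((D97951).symm.trans (sb E15696 (iv1 D46774)))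
theorem E15704 : n97952 = n41048 := ((D97952).symm.trans (sb E15696 F73887))
theorem E15705 : n93327 = n22303 := (((F72122).symm.trans (sb E15696 (iv2 F154212)))).symm
theorem E15708 : n97954 = n93326 := ((D97954).symm.trans (sb E15696 (iv7 F154209)))
theorem F157738 : act 1 n32621 = n20035 := (sb E15697 (iv0 D42438))
theorem E15709 : n48056 = n48013 := ((((iv4 F75435)).symm.trans (sb E15697 (iv4 F143309)))).symm
theorem F157739 : act 0 n42440 = n34936 := (sb E15698 (iv1 D76485))
theorem F157740 : act 1 n42440 = n70288 := (sb E15698 F114639)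
theorem F157741 : act 0 n42210 = n70288 := (sb E15699 (iv1 F114641))
theorem F157742 : act 1 n42210 = n34936 := (sb E15699 (iv0 D76484))
theorem F157743 : act 0 n47801 = n43477 := (sb E15700 (iv1 D92934))
theorem F157744 : act 1 n47801 = n48058 := (sb E15700 (iv0 F143304))
theorem E15712 : n100168 = n48003 := ((((iv3 F75412)).symm.trans (sb E15700 (iv3 F154110)))).symm
theorem F157745 : act 7 n47801 = n48057 := (sb E15700 (iv7 F154069))
theorem E15713 : n99917 = n22409 := ((D99917).symm.trans (sb E15701 (iv1 D46742)))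
theorem E15714 : n99918 = n90791 := ((D99918).symm.trans (sb E15701 F139732))
theorem E15715 : n100142 = n95432 := ((((iv3 F147045)).symm.trans (sb E15701 D100142))).symm
theorem E15718 : n99920 = n90790 := ((D99920).symm.trans (sb E15701 (iv7 F143203)))
theorem F157746 : act 0 n97949 = n99975 := (sb E15702 (iv1 F154216))
theorem F157747 : act 1 n97949 = n100016 := (sb E15702 (iv0 F154206))
theorem E15719 : n100014 = n46524 := (((F150971).symm.trans (sb E15702 F154210))).symm
theorem F157748 : act 7 n97949 = n100015 := (sb E15702 (iv7 F154207))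
theorem E15720 : n46773 = n46529 := ((D46773).symm.trans (sb E15703 (iv1 F150980)))
theorem F157749 : act 1 n22437 = n45723 := (sb E15703 (iv0 D97951))
theorem F157750 : act 0 n41048 = n45723 := (sb E15704 (iv1 D97952))
theorem E15721 : n46526 = n43654 := ((D46526).symm.trans (sb E15705 (iv1 D93327)))
theorem E15722 : n46527 = n46443 := ((D46527).symm.trans (sb E15705 F143920))
theorem F157751 : act 6 n93326 = n46539 := (sb E15708 F150979)
theorem F157752 : act 7 n93326 = n45723 := (sb E15708 (iv7 D97954))
theorem F157753 : act 0 n48013 = n92935 := (sb E15709 (iv1 F143308))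
theorem F157754 : act 1 n48013 = n23186 := (sb E15709 (iv0 D48056))
theorem F157755 : act 7 n48013 = n92933 := (sb E15709 F154072)
theorem F157756 : act 0 n48003 = n47831 := (sb E15712 (iv1 F154111))
theorem F157757 : act 1 n48003 = n46751 := (sb E15712 (iv0 D100168))
theorem E15723 : n47830 = n47791 := (((F75411).symm.trans (sb E15712 F154113))).symm
theorem E15724 : n100858 = n99513 := ((((iv4 F153283)).symm.trans (sb E15712 (iv4 F154958)))).symm
theorem F157758 : act 7 n48003 = n47829 := (sb E15712 (iv7 F154112))
theorem F157759 : act 1 n22409 = n46670 := (sb E15713 (iv0 D99917))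
theorem F157760 : act 0 n90791 = n46670 := (sb E15714 (iv1 D99918))
theorem E15725 : n87910 = n87740 := (((F147044).symm.trans (sb E15715 (iv2 F154211)))).symm
theorem F157761 : act 7 n95432 = n87911 := (sb E15715 (iv7 F154218))
theorem F157762 : act 7 n90790 = n46670 := (sb E15718 (iv7 D99920))
theorem E15726 : n99520 = n46706 := ((D99520).symm.trans (sb E15719 (iv0 D100014)))
theorem E15727 : n100227 = n99522 := (((D99522).symm.trans (sb E15719 (iv7 F154214)))).symm
theorem F157763 : act 0 n46529 = n41048 := (sb E15720 (iv1 F73886))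
theorem F157764 : act 1 n46529 = n22437 := (sb E15720 (iv0 D46773))
theorem F157765 : act 2 n46529 = n93326 := (sb E15720 (iv2 F154208))
theorem E15728 : n100226 = n99518 := ((((iv3 F153286)).symm.trans (sb E15720 D100226))).symm
theorem F157766 : act 1 n43654 = n22303 := (sb E15721 (iv0 D46526))
theorem F157767 : act 0 n46443 = n22303 := (sb E15722 (iv1 D46527))
theorem F157768 : act 0 n47791 = n23016 := (sb E15723 (iv1 D47830))
theorem F157769 : act 1 n47791 = n100166 := (sb E15723 F154107)
theorem E15741 : n100844 = n100721 := ((((iv3 F154825)).symm.trans (sb E15723 (iv3 F154949)))).symm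
theorem F157770 : act 7 n47791 = n100169 := (sb E15723 (iv7 F154115))
theorem F157771 : act 0 n99513 = n88039 := (sb E15724 (iv1 F155001))
theorem F157772 : act 1 n99513 = n47017 := (sb E15724 (iv0 D100858))
theorem F157773 : act 0 n87740 = n99295 := (sb E15725 (iv1 F152891))
theorem F157774 : act 1 n87740 = n41017 := (sb E15725 (iv0 D87910))
theorem F157775 : act 0 n46706 = n46524 := (sb E15726 (iv1 D99520))
theorem F157776 : act 0 n99522 = n100016 := (sb E15727 F154167)
theorem F157777 : act 1 n99522 = n99975 := (sb E15727 (iv0 F154168))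
theorem F157778 : act 2 n99522 = n100015 := (sb E15727 (iv2 F154215))
theorem F157779 : act 0 n99518 = n47017 := (sb E15728 F154989)
theorem F157780 : act 1 n99518 = n88039 := (sb E15728 (iv0 F154166))
theorem F157781 : act 4 n99518 = n100169 := (sb E15728 F154165)
theorem F157782 : act 0 n100721 = n47013 := (sb E15741 (iv1 D100844))
theorem F157783 : act 1 n100721 = n47018 := (sb E15741 F154947)
theorem F157784 : act 3 n99519 = n87762 := d20_5 D47018 (iv1 F157783) F154826 F134706 D99519 (iv4 D87762) (iv1 F134736) (iv4 F153154) F153153 (iv1 F74211)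
theorem F157785 : act 4 n99519 = n99975 := d20_0 (iv1 F157777) F153287 (iv3 F153286) F157779 (iv3 D47017) D47018 (iv1 F157783) F154826 F134706 D99519
theorem F157786 : act 7 n100016 = n99519 := d11_0 F157785 F154169 F153961
theorem E15742 : n100860 = n99516 := (c20_4 (iv4 F66991) (iv1 F126426) F135037 (iv3 F154959) (iv1 D99516) F73521 (iv4 F73522) D99519 F157785 (iv3 D99975) (iv1 F73802))
theorem F157787 : act 2 n99516 = n47017 := (sb E15742 (iv2 D100860))
theorem F157788 : act 3 n99516 = n88035 := (sb E15742 F154959)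
theorem F157789 : act 4 n99516 = n87858 := (sb E15742 (iv4 F154960))
theorem F157790 : act 7 n99516 = n88039 := (sb E15742 (iv7 F154988))
theorem E15743 : n100779 = n99515 := (c15_4 (iv0 D99515) D99516 F157790 (iv2 F154875))
theorem F157791 : act 2 n99515 = n88039 := (sb E15743 F154875)
theorem F157792 : act 3 n99515 = n46991 := (sb E15743 (iv3 D100779))
theorem F157793 : act 4 n99515 = n87857 := (sb E15743 F154876)
theorem F157794 : act 7 n99515 = n47017 := (sb E15743 F154965)
theorem F157795 : act 2 n99519 = n99975 := d4_1 F157786 F154169 D100016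
theorem F157796 : act 1 n100015 = n99519 := d15_1 D100015 (iv7 F157786) (iv2 D100016)
theorem F157797 : act 0 n95538 = n97087 := d21_7 D44714 (iv1 F71598) F71600 D47791 F157768 D47833 (iv5 F147170) (iv5 D97087) (iv6 D45383) (iv1 F34078)
theorem F157798 : act 1 n96016 = n97087 := d15_0 (iv0 F157797) F147171 D96016
theorem F157799 : act 0 n90510 = n99427 := d20_4 D46751 (iv1 F157757) (iv4 F153283) F153282 (iv3 D99427) F143903 (iv1 F74328) (iv4 F143897) F143896 (iv1 D46749)
theorem F157800 : act 6 n99550 = n100015 := d10_2 F157751 (iv4 F153299) (iv4 F153962)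
theorem E15744 : n100141 = n99915 := (c7_3 F157800 F153963 D100141 F153844)
theorem F157801 : act 6 n99915 = n46741 := (sb E15744 (iv6 D100141))
theorem E15745 : n97378 = n97151 := (c21_8 D44733 F70317 F56636 D47801 F157743 D92937 (iv5 F143315) D97378 (iv5 D97151) (iv6 D45406) (iv1 F34096))
theorem F157802 : act 1 n97151 = n45475 := (sb E15745 (iv0 D97378))
theorem E15746 : n97379 = n97349 := (c15_2 F157802 D97379 (iv7 F157642) (iv2 F149887))
theorem F157803 : act 0 n97349 = n45475 := (sb E15746 (iv1 D97379))
theorem F157804 : act 0 n101199 = n90510 := d20_1 (iv4 F155910) F139311 F65436 (iv1 F157742) (iv3 D42210) (iv4 F31760) (iv1 F65694) F65695 D42485 D90732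
theorem E15747 : n93962 = n29128 := (c21_8 (iv5 D7905) D7903 D16943 D34936 (iv1 F157742) (iv6 F135607) F135606 D93962 (iv5 F55310) (iv6 D34944) (iv1 D16949))
theorem E15748 : n61525 = n43918 := ((D61525).symm.trans (sb E15747 (iv0 D93962)))
theorem F157805 : act 0 n43918 = n29128 := (sb E15748 (iv1 D61525))
theorem E15749 : n93963 = n93927 := ((D93963).symm.trans (sb E15748 F157682))
theorem F157806 : act 0 n93927 = n43918 := (sb E15749 (iv1 D93963))
theorem F157807 : act 7 n61524 = n93964 := d15_2 (iv0 F157806) F157680 (iv2 D93964)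
theorem F157808 : act 2 n93811 = n61524 := d4_3 F157807 (iv2 D93964) (iv7 F144611)
theorem F157809 : act 3 n61524 = n93952 := d0_2 D93811 F157808 (iv2 D93952) (iv3 D43915) F68929
theorem F157810 : act 0 n76449 = n88546 := d21_10 F135606 F157805 (iv5 F55310) (iv6 D34944) (iv1 D16949) (iv6 F27780) (iv5 D16941) D16939 D34925 D76449
theorem F157811 : act 6 n75147 = n90661 := d21_9 (iv5 D42442) (iv1 F157738) (iv5 F104223) (iv6 D68094) F49969 (iv6 F54599) (iv5 D34414) D34412 D75147 (iv1 D90661)
theorem F157812 : act 0 n60027 = n90663 := d21_4 (iv5 D16685) F22760 D28500 D60027 (iv6 D90663) (iv5 D42442) (iv1 F157738) (iv5 F104223) (iv6 D68094) F49969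
theorem F157813 : act 5 n90661 = n94260 := d12_1 F157811 (iv6 D94260) (iv5 F112691) (iv6 D75148) D75147
theorem F157814 : act 7 n90513 = n92831 := d8_2 F157731 (iv3 F139312) F143196
theorem F157815 : act 7 n92830 = n90510 := d11_2 F157717 D92830 F139311
def n102608 : Q := act 6 n47589
theorem D102608 : act 6 n47589 = n102608 := rfl
theorem F157816 : act 2 n102608 = n88325 := d3_1 D102608 (iv6 F157552) F157553
def n102609 : Q := act 0 n47591
theorem D102609 : act 0 n47591 = n102609 := rfl
theorem F157817 : act 2 n89037 = n102609 := d15_3 (iv0 D102609) (iv0 F135033) (iv7 F136712)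
theorem F157818 : act 5 n102609 = n89027 := d2_2 D89037 F157817 (iv2 F136691)
theorem F157819 : act 7 n102609 = n89035 := d4_2 (iv7 F136712) F157817 F136709
theorem F157820 : act 1 n89037 = n102589 := d15_0 (iv0 F157686) (iv7 F157819) (iv2 F157817)
def n102610 : Q := act 4 n47591
theorem D102610 : act 4 n47591 = n102610 := rfl
def n102611 : Q := act 7 n47591
theorem D102611 : act 7 n47591 = n102611 := rfl
theorem F157821 : act 3 n102611 = n47601 := d8_1 D102611 (iv7 D47601) (iv3 F74846)
theorem F157822 : act 5 n102611 = n47592 := d13_1 D102611 (iv7 D47592) D47591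
theorem F157823 : act 1 n89035 = n102611 := d15_1 (iv0 F157686) (iv7 D102611) (iv2 F157685)
theorem F157824 : act 1 n102611 = n89037 := d15_1 F157823 F136712 (iv2 F136709)
def n102612 : Q := act 0 n47593
theorem D102612 : act 0 n47593 = n102612 := rfl
def n102613 : Q := act 1 n47593
theorem D102613 : act 1 n47593 = n102613 := rfl
def n102614 : Q := act 2 n47593
theorem D102614 : act 2 n47593 = n102614 := rfl
def n102615 : Q := act 6 n47593
theorem D102615 : act 6 n47593 = n102615 := rfl
theorem F157825 : act 3 n102615 = n47594 := d7_1 D102615 (iv6 D47594) D47593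
def n102616 : Q := act 0 n47594
theorem D102616 : act 0 n47594 = n102616 := rfl
def n102617 : Q := act 1 n47594
theorem D102617 : act 1 n47594 = n102617 := rfl
def n102618 : Q := act 5 n47594
theorem D102618 : act 5 n47594 = n102618 := rfl
def n102619 : Q := act 7 n47594
theorem D102619 : act 7 n47594 = n102619 := rfl
theorem F157826 : act 4 n102619 = n47598 := d11_1 D102619 (iv7 D47598) (iv4 F74849)
def n102620 : Q := act 2 n47595
theorem D102620 : act 2 n47595 = n102620 := rfl
theorem F157827 : act 7 n47596 = n102620 := d15_2 (iv0 D47595) D47596 (iv2 D102620)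
def n102621 : Q := act 3 n47595
theorem D102621 : act 3 n47595 = n102621 := rfl
def n102622 : Q := act 4 n47595
theorem D102622 : act 4 n47595 = n102622 := rfl
def n102623 : Q := act 5 n47595
theorem D102623 : act 5 n47595 = n102623 := rfl
def n102624 : Q := act 6 n47595
theorem D102624 : act 6 n47595 = n102624 := rfl
def n102625 : Q := act 7 n47595
theorem D102625 : act 7 n47595 = n102625 := rfl
theorem F157828 : act 2 n102625 = n47596 := d4_1 D102625 F157827 (iv2 D102620)
def n102626 : Q := act 3 n47596
theorem D102626 : act 3 n47596 = n102626 := rfl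
def n102627 : Q := act 4 n47596
theorem D102627 : act 4 n47596 = n102627 := rfl
def n102628 : Q := act 6 n47596
theorem D102628 : act 6 n47596 = n102628 := rfl
theorem F157829 : act 5 n102628 = n100501 := d12_1 D102628 F154558 (iv5 D98552) D98553 F151936
theorem F157830 : act 7 n100500 = n102628 := d13_0 F157829 (iv7 D100501) D100500
def n102629 : Q := act 0 n47597
theorem D102629 : act 0 n47597 = n102629 := rfl
def n102630 : Q := act 1 n47597
theorem D102630 : act 1 n47597 = n102630 := rfl
def n102631 : Q := act 4 n47597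
theorem D102631 : act 4 n47597 = n102631 := rfl
theorem F157831 : act 6 n102631 = n47600 := d10_2 (iv6 F74850) D102631 (iv4 D47600)
def n102632 : Q := act 7 n47597
theorem D102632 : act 7 n47597 = n102632 := rfl
theorem F157832 : act 5 n102632 = n47598 := d13_1 D102632 (iv7 D47598) D47597
def n102633 : Q := act 1 n47599
theorem D102633 : act 1 n47599 = n102633 := rfl
def n102634 : Q := act 2 n47599
theorem D102634 : act 2 n47599 = n102634 := rfl
theorem F157833 : act 5 n102634 = n87552 := d2_2 F136759 D102634 (iv2 F136897)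
theorem F157834 : act 7 n102634 = n87885 := d4_2 F152011 D102634 (iv2 F152009)
theorem E15750 : n102633 = n99950 := (c15_1 D102633 F153890 (iv7 F157834) (iv2 D102634))
theorem F157836 : act 0 n99950 = n47599 := (sb E15750 (iv1 D102633))
def n102635 : Q := act 3 n47600
theorem D102635 : act 3 n47600 = n102635 := rfl
def n102636 : Q := act 6 n47601
theorem D102636 : act 6 n47601 = n102636 := rfl
theorem F157837 : act 2 n102636 = n98580 := d3_1 D102636 (iv6 D98580) (iv2 F74853)
theorem F157838 : act 5 n102636 = n98332 := d12_1 D102636 (iv6 D98332) F72581 (iv6 F35958) (iv5 F74854)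
theorem F157839 : act 0 n102636 = n98544 := d21_4 D46099 (iv1 F72668) (iv5 F74854) D102636 (iv6 D98544) (iv5 D46072) (iv1 D22005) D22006 F34501 D22018
def n102637 : Q := act 3 n47602
theorem D102637 : act 3 n47602 = n102637 := rfl
theorem F157840 : act 6 n102637 = n100396 := d7_2 (iv6 F75840) D102637 (iv3 D100396)
def n102638 : Q := act 4 n47602
theorem D102638 : act 4 n47602 = n102638 := rfl
theorem F157841 : act 2 n102638 = n90310 := d1_1 D102638 F138925 F75839
theorem F157842 : act 6 n102638 = n90308 := d10_2 (iv6 F75840) D102638 F138917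
theorem F157843 : act 3 n90655 = n102638 := d7_3 F157842 F138916 D90655
def n102639 : Q := act 5 n47602
theorem D102639 : act 5 n47602 = n102639 := rfl
theorem F157844 : act 2 n102639 = n100447 := d2_1 D102639 (iv5 D100447) F75839
theorem F157845 : act 0 n88876 = n102639 := d21_1 D88876 (iv5 D102639) F75840 (iv1 D46856) (iv6 D22509) D22508 F35064 (iv5 D22128) D22129 F64326
theorem F157846 : act 1 n89564 = n102639 := d15_0 (iv0 F157845) F136313 (iv2 F137312)
def n102640 : Q := act 4 n47603
theorem D102640 : act 4 n47603 = n102640 := rfl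
theorem F157847 : act 3 n102640 = n88504 := d5_1 D102640 F135493 F74830 F75835 F75837
theorem F157848 : act 6 n102640 = n88545 := d10_2 F135329 D102640 F135602
theorem F157849 : act 7 n102640 = n90310 := d11_2 (iv7 F75838) D102640 F138925
theorem F157850 : act 0 n102640 = n90528 := d17_0 F145327 (iv1 F145326) F76771 F69358 D89023 (iv0 F136668) (iv5 D47605) D47603 D102640
theorem F157851 : act 1 n102638 = n90528 := d15_0 (iv0 F157850) F157849 (iv2 F157841)
def n102641 : Q := act 5 n47603
theorem D102641 : act 5 n47603 = n102641 := rfl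
theorem F157852 : act 3 n102641 = n89710 := d6_1 D102641 (iv5 F137683) F75837
theorem F157853 : act 7 n102641 = n100447 := d13_2 (iv7 F75838) D102641 (iv5 D100447)
theorem F157854 : act 1 n88876 = n102641 := d15_1 (iv0 F157845) F157853 (iv2 F157844)
def n102642 : Q := act 4 n47605
theorem D102642 : act 4 n47605 = n102642 := rfl
def n102643 : Q := act 6 n47605
theorem D102643 : act 6 n47605 = n102643 := rfl
theorem F157855 : act 3 n102643 = n47606 := d7_1 D102643 (iv6 D47606) (iv3 F74859)
theorem F157856 : act 5 n102643 = n99826 := d12_1 D102643 (iv6 D99826) (iv5 D46623) (iv6 F35960) D47605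
def n102644 : Q := act 0 n47606
theorem D102644 : act 0 n47606 = n102644 := rfl
def n102645 : Q := act 1 n47606
theorem D102645 : act 1 n47606 = n102645 := rfl
theorem F157857 : act 1 n102645 = n102514 := d15_1 D102645 (iv7 D102514) (iv2 F74860)
def n102646 : Q := act 7 n47606
theorem D102646 : act 7 n47606 = n102646 := rfl
theorem F157858 : act 2 n102646 = n102514 := d4_1 D102646 (iv7 D102514) (iv2 F74860)
theorem F157859 : act 5 n102646 = n99835 := d13_1 D102646 (iv7 D99835) (iv5 F74861)
theorem F157860 : act 1 n102514 = n102644 := d15_0 (iv0 D102644) D102646 F157858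
theorem F157861 : act 1 n102512 = n102646 := d15_1 D102512 (iv7 D102646) F74860
theorem F157862 : act 1 n102646 = n102511 := d15_0 (iv0 D102511) D102514 (iv2 F157858)
def n102648 : Q := act 1 n47607
theorem D102648 : act 1 n47607 = n102648 := rfl
theorem F157864 : act 4 n48353 = n102648 := d20_6 (iv4 D11013) (iv1 D5016) D5017 D11016 D23495 D48353 (iv1 D102648) F74862 (iv3 D23654) F17951
def n102652 : Q := act 1 n47610
theorem D102652 : act 1 n47610 = n102652 := rfl
theorem F157874 : act 4 n102652 = n48218 := d18_7 (iv1 D10974) (iv4 F17269) D22684 (iv4 F35258) D22905 D47610 D102652 F75786 (iv5 D23370)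
theorem F157876 : act 6 n88404 = n102652 := d10_0 F157874 F75791 D88404
def n102653 : Q := act 3 n47610
theorem D102653 : act 3 n47610 = n102653 := rfl
theorem F157877 : act 4 n102653 = n47625 := d5_2 D47610 D102653 (iv3 D47625) (iv4 D22915) (iv3 F35975)
def n102654 : Q := act 5 n47610
theorem D102654 : act 5 n47610 = n102654 := rfl
theorem F157879 : act 7 n102654 = n48289 := d13_2 F148127 D102654 F148130
def n102655 : Q := act 5 n47612
theorem D102655 : act 5 n47612 = n102655 := rfl
theorem F157882 : act 2 n102655 = n102417 := d2_1 D102655 (iv5 D102417) (iv2 F157355)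
theorem F157884 : act 7 n102655 = n102430 := d13_2 F157353 D102655 (iv5 D102430)
def n102657 : Q := act 3 n47613
theorem D102657 : act 3 n47613 = n102657 := rfl
theorem F157889 : act 4 n102657 = n88299 := d5_2 F74871 D102657 (iv3 D88299) D88300 F135211
theorem F157890 : act 7 n102657 = n102416 := d8_2 (iv7 F157357) D102657 (iv3 D102416)
theorem F157891 : act 0 n102657 = n97957 := d20_10 (iv4 D97957) (iv1 F72130) F61945 F61944 (iv1 F30919) D19362 (iv4 F34884) D46629 F74871 D102657
theorem F157892 : act 0 n87679 = n88299 := d20_1 D87679 (iv4 F157889) (iv3 D102657) (iv1 D47613) (iv3 D22910) (iv4 D10820) (iv1 F16610) (iv4 F34318) (iv3 F72127) (iv1 F72131)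
theorem F157893 : act 0 n97961 = n102657 := d20_1 D97961 F157889 (iv3 D88299) (iv1 D41213) (iv3 D19383) (iv4 D9096) (iv1 F14138) (iv4 F30918) (iv3 F61944) (iv1 F72123)
def n102658 : Q := act 5 n47613
theorem D102658 : act 5 n47613 = n102658 := rfl
theorem F157895 : act 7 n102658 = n102417 := d13_2 (iv7 F157357) D102658 (iv5 D102417)
def n102659 : Q := act 6 n47613
theorem D102659 : act 6 n47613 = n102659 := rfl
theorem F157897 : act 4 n102659 = n99840 := d10_1 D102659 (iv6 D99840) F74871
def n102661 : Q := act 6 n47614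
theorem D102661 : act 6 n47614 = n102661 := rfl
theorem F157899 : act 2 n102661 = n47616 := d3_1 D102661 (iv6 D47616) D47614
theorem F157900 : act 1 n102661 = n102467 := d15_0 (iv0 F157415) F154132 (iv2 F157899)
def n102662 : Q := act 0 n47615
theorem D102662 : act 0 n47615 = n102662 := rfl
def n102663 : Q := act 1 n47615
theorem D102663 : act 1 n47615 = n102663 := rfl
def n102664 : Q := act 4 n47615
theorem D102664 : act 4 n47615 = n102664 := rfl
def n102665 : Q := act 6 n47615
theorem D102665 : act 6 n47615 = n102665 := rfl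
theorem F157901 : act 3 n102665 = n47620 := d7_1 D102665 (iv6 D47620) (iv3 F74873)
def n102666 : Q := act 5 n47616
theorem D102666 : act 5 n47616 = n102666 := rfl
theorem F157902 : act 3 n102666 = n47621 := d6_1 D102666 (iv5 D47621) (iv3 F74874)
theorem F157903 : act 7 n102666 = n98367 := d13_2 F154132 D102666 (iv5 F154131)
def n102667 : Q := act 3 n47617
theorem D102667 : act 3 n47617 = n102667 := rfl
theorem F157904 : act 5 n102667 = n89065 := d6_2 (iv5 F74875) D102667 F136753
def n102668 : Q := act 4 n47617
theorem D102668 : act 4 n47617 = n102668 := rfl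
theorem F157905 : act 2 n102668 = n98602 := d1_1 D102668 (iv4 D98602) F74877
theorem F157906 : act 7 n102668 = n102311 := d11_2 F151072 D102668 F157133
theorem F157907 : act 0 n102668 = n97981 := d18_2 D47617 D102668 (iv4 D97981) (iv5 D45732) F66611 F58680 (iv4 F34936) F66540 D22911
theorem F157908 : act 1 n102668 = n97974 := d18_6 (iv1 D88854) F63931 F74584 (iv4 F65934) (iv5 F74875) D102668 (iv4 D97974) D97973 F151011
def n102669 : Q := act 6 n47617
theorem D102669 : act 6 n47617 = n102669 := rfl
theorem F157909 : act 2 n102669 = n98600 := d3_1 D102669 F151993 F74877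
theorem F157910 : act 5 n102669 = n89067 := d12_1 D102669 (iv6 D89067) (iv5 D41600) D41601 (iv5 F74875)
def n102670 : Q := act 3 n47618
theorem D102670 : act 3 n47618 = n102670 := rfl
theorem F157911 : act 5 n102670 = n89536 := d6_2 F74880 D102670 (iv3 D89536)
theorem F157912 : act 7 n102670 = n88358 := d8_2 (iv7 F74879) D102670 F151996
theorem F157913 : act 2 n102670 = n88357 := d15_3 (iv0 D88357) D88358 (iv7 F157912)
def n102671 : Q := act 4 n47618
theorem D102671 : act 4 n47618 = n102671 := rfl
theorem F157914 : act 2 n102671 = n102311 := d1_1 D102671 F157133 (iv2 F151074)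
theorem F157915 : act 7 n102671 = n98602 := d11_2 (iv7 F74879) D102671 (iv4 D98602)
theorem F157916 : act 0 n102671 = n97974 := d18_2 (iv1 F74878) D102671 (iv4 D97974) (iv5 D45729) (iv4 F34322) F66561 (iv4 F34687) F66634 D22928
theorem F157917 : act 1 n102671 = n97981 := d18_6 (iv1 F72164) F74590 (iv1 F133530) F133532 F74880 D102671 (iv4 D97981) F72146 (iv5 D44883)
theorem F157918 : act 0 n102670 = n87720 := d20_4 D97981 (iv1 F157917) (iv4 D102671) D102670 F134641 D87723 (iv1 F146165) (iv4 D94816) (iv3 F70514) (iv1 F72146)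
def n102672 : Q := act 3 n47619
theorem D102672 : act 3 n47619 = n102672 := rfl
def n102673 : Q := act 6 n47619
theorem D102673 : act 6 n47619 = n102673 := rfl
theorem F157919 : act 4 n102673 = n47620 := d10_1 D102673 (iv6 D47620) D47619
def n102674 : Q := act 0 n47620
theorem D102674 : act 0 n47620 = n102674 := rfl
def n102675 : Q := act 1 n47620
theorem D102675 : act 1 n47620 = n102675 := rfl
def n102676 : Q := act 5 n47620
theorem D102676 : act 5 n47620 = n102676 := rfl
theorem F157920 : act 2 n102676 = n98370 := d2_1 D102676 F151794 F151079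
theorem F157921 : act 6 n102676 = n47621 := d12_2 D47620 D102676 (iv5 D47621) (iv6 D22912) D22911
def n102677 : Q := act 7 n47620
theorem D102677 : act 7 n47620 = n102677 := rfl
def n102678 : Q := act 4 n47621
theorem D102678 : act 4 n47621 = n102678 := rfl
theorem F157922 : act 2 n102678 = n89482 := d1_1 D102678 F137145 (iv2 F74881)
theorem F157923 : act 7 n102678 = n89481 := d11_2 (iv7 F74882) D102678 F137144
theorem F157924 : act 0 n102678 = n88600 := d18_2 (iv1 F74883) D102678 (iv4 D88600) (iv5 D41349) F31127 D19471 D41353 (iv0 F63736) (iv5 F72601)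
theorem F157925 : act 1 n102678 = n89457 := d18_6 F140585 F70491 F65711 (iv4 F35979) D47621 D102678 (iv4 D89457) F135764 (iv5 F140584)
def n102681 : Q := act 3 n47623
theorem D102681 : act 3 n47623 = n102681 := rfl
theorem F157932 : act 4 n102681 = n94063 := d5_2 (iv4 F74886) D102681 (iv3 D94063) (iv4 D43971) (iv3 F69105)
def n102682 : Q := act 5 n47623
theorem D102682 : act 5 n47623 = n102682 := rfl
theorem F157934 : act 1 n102682 = n89550 := d17_6 (iv1 F127096) (iv5 F66688) F74584 D43956 (iv4 F74886) D102682 (iv5 D89550) F136037 F136036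
def n102683 : Q := act 3 n47624
theorem D102683 : act 3 n47624 = n102683 := rfl
def n102684 : Q := act 5 n47624
theorem D102684 : act 5 n47624 = n102684 := rfl
theorem F157935 : act 0 n102684 = n89550 := d17_2 (iv1 F74888) D102684 (iv5 D89550) (iv4 D41815) (iv5 D19680) D19679 F35985 F35983 D22930
def n102685 : Q := act 0 n47625
theorem D102685 : act 0 n47625 = n102685 := rfl
def n102690 : Q := act 0 n47626
theorem D102690 : act 0 n47626 = n102690 := rfl
theorem F157939 : act 5 n102690 = n47646 := d17_1 D102690 (iv1 F74933) D47653 (iv4 F157157) (iv5 D102358) (iv0 D47495) D47498 D102368 F157166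
theorem F157940 : act 1 n47641 = n102690 := d15_0 (iv0 D102690) (iv7 F151117) F151116
theorem F157941 : act 7 n102690 = n91049 := d15_2 F136034 F157940 F140088
def n102694 : Q := act 1 n47629
theorem D102694 : act 1 n47629 = n102694 := rfl
theorem F157945 : act 7 n102694 = n87298 := d15_2 (iv0 F74894) D102694 F134016
theorem F157946 : act 4 n102694 = n87299 := d18_7 (iv1 F75819) F75821 (iv1 F73874) F35979 D22918 D47629 D102694 F134024 F73906
theorem F157948 : act 6 n88693 = n102694 := d10_0 F157946 F134022 (iv4 F136036)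
def n102697 : Q := act 3 n47632
theorem D102697 : act 3 n47632 = n102697 := rfl
theorem F157953 : act 4 n102697 = n47640 := d5_2 D47632 D102697 (iv3 D47640) (iv4 D22930) (iv3 F35991)
def n102698 : Q := act 0 n47635
theorem D102698 : act 0 n47635 = n102698 := rfl
def n102699 : Q := act 1 n47635
theorem D102699 : act 1 n47635 = n102699 := rfl
theorem F157955 : act 3 n87721 = n102699 := d20_3 D41167 D88212 F135151 (iv1 D102699) F74917 D47637 (iv1 F157131) (iv4 D102310) (iv3 F74659) (iv1 D41166)
theorem F157956 : act 5 n89038 = n102699 := d21_6 (iv5 D98919) (iv1 F152435) F152433 (iv6 F136698) (iv1 F136699) D89038 (iv1 D102699) (iv5 D47635) D47636 (iv1 F152468)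
theorem F157957 : act 7 n102699 = n88315 := d8_2 F134646 F157955 (iv3 D88315)
theorem F157958 : act 2 n88315 = n102698 := d15_3 (iv0 D102698) D102699 F157957
def n102700 : Q := act 4 n47635
theorem D102700 : act 4 n47635 = n102700 := rfl
def n102701 : Q := act 6 n47635
theorem D102701 : act 6 n47635 = n102701 := rfl
theorem F157959 : act 3 n102701 = n47638 := d7_1 D102701 (iv6 D47638) (iv3 F74917)
def n102702 : Q := act 5 n47636
theorem D102702 : act 5 n47636 = n102702 := rfl
theorem F157963 : act 0 n93902 = n102702 := d21_1 D93902 (iv5 D102702) (iv6 D47636) (iv1 F74047) (iv6 D46425) F60120 (iv1 D39104) F29810 D22130 F72749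
theorem F157964 : act 1 n98869 = n102702 := d15_0 (iv0 F157963) F144731 (iv2 F152419)
def n102703 : Q := act 3 n47637
theorem D102703 : act 3 n47637 = n102703 := rfl
def n102704 : Q := act 6 n47637
theorem D102704 : act 6 n47637 = n102704 := rfl
theorem F157965 : act 4 n102704 = n47638 := d10_1 D102704 (iv6 D47638) D47637
def n102705 : Q := act 0 n47638
theorem D102705 : act 0 n47638 = n102705 := rfl
def n102706 : Q := act 1 n47638
theorem D102706 : act 1 n47638 = n102706 := rfl
def n102707 : Q := act 5 n47638
theorem D102707 : act 5 n47638 = n102707 := rfl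
def n102708 : Q := act 7 n47638
theorem D102708 : act 7 n47638 = n102708 := rfl
def n102717 : Q := act 3 n47644
theorem D102717 : act 3 n47644 = n102717 := rfl
theorem F157980 : act 4 n102717 = n47647 := d5_2 D47644 D102717 (iv3 D47647) (iv4 D22936) D22935
theorem F157981 : act 7 n102717 = n48281 := d8_2 (iv7 F74927) D102717 (iv3 D48281)
def n102718 : Q := act 5 n47644
theorem D102718 : act 5 n47644 = n102718 := rfl
theorem F157983 : act 7 n102718 = n48282 := d13_2 (iv7 F74927) D102718 (iv5 D48282)
def n102719 : Q := act 6 n47644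
theorem D102719 : act 6 n47644 = n102719 := rfl
theorem F157985 : act 4 n102719 = n47645 := d10_1 D102719 (iv6 D47645) D47644
theorem F157987 : act 5 n102719 = n91882 := d21_6 (iv5 F64994) (iv1 F64995) (iv5 D40539) (iv6 F36498) F74930 D102719 (iv1 D91882) (iv5 D42948) (iv6 D20284) D20280
theorem F157988 : act 0 n102719 = n92166 := d20_7 D42981 (iv1 F75976) F75977 (iv3 F138675) (iv1 D47651) (iv3 F74931) (iv4 F157985) F141751 F67469 (iv1 F32267)
def n102720 : Q := act 0 n47645
theorem D102720 : act 0 n47645 = n102720 := rfl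
def n102722 : Q := act 3 n47646
theorem D102722 : act 3 n47646 = n102722 := rfl
theorem F157990 : act 4 n102722 = n91067 := d5_2 (iv4 F74932) D102722 F140107 F66701 (iv3 F66693)
theorem F157991 : act 7 n102722 = n91048 := d8_2 (iv7 F74934) D102722 F140086
def n102723 : Q := act 0 n47647
theorem D102723 : act 0 n47647 = n102723 := rfl
def n102724 : Q := act 1 n47647
theorem D102724 : act 1 n47647 = n102724 := rfl
def n102725 : Q := act 2 n47647
theorem D102725 : act 2 n47647 = n102725 := rfl
def n102726 : Q := act 5 n47647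
theorem D102726 : act 5 n47647 = n102726 := rfl
theorem F157992 : act 3 n102726 = n47648 := d6_1 D102726 (iv5 D47648) D47647
def n102727 : Q := act 6 n47647
theorem D102727 : act 6 n47647 = n102727 := rfl
def n102728 : Q := act 0 n47648
theorem D102728 : act 0 n47648 = n102728 := rfl
def n102729 : Q := act 1 n47648
theorem D102729 : act 1 n47648 = n102729 := rfl
def n102730 : Q := act 6 n47648
theorem D102730 : act 6 n47648 = n102730 := rfl
def n102731 : Q := act 0 n47649
theorem D102731 : act 0 n47649 = n102731 := rfl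
theorem F158002 : act 4 n102731 = n91265 := d20_2 (iv4 F74935) D102731 F140336 (iv1 F68365) F66474 D42981 (iv1 F75976) F75977 (iv3 F138675) (iv1 D47651)
def n102733 : Q := act 5 n47649
theorem D102733 : act 5 n47649 = n102733 := rfl
theorem F158004 : act 0 n102733 = n90997 := d21_7 D22956 (iv1 F63856) (iv5 D41409) D41410 (iv1 F72201) D47649 D102733 (iv5 D90997) (iv6 D42623) F31943
def n102741 : Q := act 0 n47654
theorem D102741 : act 0 n47654 = n102741 := rfl
def n102742 : Q := act 1 n47654
theorem D102742 : act 1 n47654 = n102742 := rfl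
def n102743 : Q := act 2 n47654
theorem D102743 : act 2 n47654 = n102743 := rfl
def n102744 : Q := act 5 n47654
theorem D102744 : act 5 n47654 = n102744 := rfl
theorem F158008 : act 3 n102744 = n47655 := d6_1 D102744 (iv5 D47655) D47654
def n102745 : Q := act 6 n47654
theorem D102745 : act 6 n47654 = n102745 := rfl
def n102746 : Q := act 0 n47655
theorem D102746 : act 0 n47655 = n102746 := rfl
theorem F158010 : act 5 n102746 = n97998 := d17_3 D22942 D47655 D102746 (iv4 D97998) (iv5 F72180) F63971 F63524 (iv0 D10828) D10830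
def n102747 : Q := act 6 n47655
theorem D102747 : act 6 n47655 = n102747 := rfl
def n102753 : Q := act 4 n47657
theorem D102753 : act 4 n47657 = n102753 := rfl
theorem F158020 : act 7 n102753 = n48270 := d11_2 F151124 D102753 (iv4 F151123)
def n102758 : Q := act 4 n47659
theorem D102758 : act 4 n47659 = n102758 := rfl
def n102760 : Q := act 6 n47659
theorem D102760 : act 6 n47659 = n102760 := rfl
def n102770 : Q := act 6 n47662
theorem D102770 : act 6 n47662 = n102770 := rfl
theorem F158026 : act 3 n102770 = n47666 := d7_1 D102770 (iv6 D47666) (iv3 F74938)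
theorem F158027 : act 5 n102770 = n47752 := d12_1 D102770 (iv6 D47752) (iv5 D22975) (iv6 F36000) D47662
def n102775 : Q := act 3 n47665
theorem D102775 : act 3 n47665 = n102775 := rfl
def n102776 : Q := act 6 n47665
theorem D102776 : act 6 n47665 = n102776 := rfl
theorem F158028 : act 4 n102776 = n47666 := d10_1 D102776 (iv6 D47666) D47665
def n102777 : Q := act 0 n47666
theorem D102777 : act 0 n47666 = n102777 := rfl
def n102778 : Q := act 1 n47666
theorem D102778 : act 1 n47666 = n102778 := rfl
def n102779 : Q := act 7 n47666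
theorem D102779 : act 7 n47666 = n102779 := rfl
theorem F158029 : act 5 n102779 = n47761 := d13_1 D102779 (iv7 D47761) (iv5 F74939)
def n102780 : Q := act 3 n47667
theorem D102780 : act 3 n47667 = n102780 := rfl
theorem F158030 : act 4 n102780 = n47669 := d5_2 D47667 D102780 (iv3 D47669) (iv4 D22947) (iv3 F36001)
def n102781 : Q := act 1 n47668
theorem D102781 : act 1 n47668 = n102781 := rfl
theorem F158031 : act 1 n102781 = n86512 := d15_1 D102781 (iv7 D86512) (iv2 F74942)
theorem F158032 : act 7 n102781 = n84792 := d15_2 (iv0 F128467) D102781 F130004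
theorem F158033 : act 5 n80348 = n102781 := d21_6 F21534 F9629 D10441 D21886 (iv1 F119025) D80348 (iv1 D102781) F74944 (iv6 D40087) (iv1 F30253)
theorem F158034 : act 2 n102781 = n80358 := d2_1 F158033 (iv5 D80358) (iv2 F123432)
theorem F158035 : act 4 n84657 = n102781 := d1_0 F158034 F123466 F129873
def n102782 : Q := act 7 n47668
theorem D102782 : act 7 n47668 = n102782 := rfl
theorem F158036 : act 2 n102782 = n86512 := d4_1 D102782 (iv7 D86512) (iv2 F74942)
theorem F158037 : act 3 n102782 = n47673 := d8_1 D102782 (iv7 D47673) (iv3 F74943)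
theorem F158038 : act 5 n102782 = n84697 := d13_1 D102782 F129928 (iv5 F74944)
theorem F158039 : act 1 n80358 = n102782 := d15_1 (iv0 F123464) (iv7 D102782) F74942
theorem F158040 : act 1 n102782 = n84792 := d15_1 F158039 (iv7 F158032) F158034
def n102783 : Q := act 0 n47669
theorem D102783 : act 0 n47669 = n102783 := rfl
def n102784 : Q := act 1 n47669
theorem D102784 : act 1 n47669 = n102784 := rfl
def n102785 : Q := act 2 n47669
theorem D102785 : act 2 n47669 = n102785 := rfl
theorem F158041 : act 3 n102785 = n88756 := d0_2 D47669 D102785 (iv2 D88756) (iv3 D41440) (iv2 F36002)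
def n102786 : Q := act 6 n47669
theorem D102786 : act 6 n47669 = n102786 := rfl
theorem F158042 : act 3 n102786 = n47670 := d7_1 D102786 (iv6 D47670) D47669
def n102787 : Q := act 5 n47670
theorem D102787 : act 5 n47670 = n102787 := rfl
theorem F158043 : act 2 n102787 = n88752 := d2_1 D102787 (iv5 D88752) (iv2 F74945)
def n102788 : Q := act 6 n47671
theorem D102788 : act 6 n47671 = n102788 := rfl
theorem F158045 : act 4 n102788 = n83466 := d10_1 D102788 (iv6 D83466) F127829
def n102789 : Q := act 1 n47674
theorem D102789 : act 1 n47674 = n102789 := rfl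
def n102790 : Q := act 2 n47674
theorem D102790 : act 2 n47674 = n102790 := rfl
theorem F158047 : act 3 n102790 = n88769 := d0_2 D47674 D102790 (iv2 D88769) (iv3 D41444) F36009
theorem F158048 : act 7 n102790 = n88761 := d4_2 (iv7 F74954) D102790 (iv2 D88761)
theorem F158049 : act 1 n102790 = n88759 := d15_0 (iv0 D88759) (iv7 F74954) D102790
theorem F158050 : act 1 n102789 = n88761 := d15_1 D102789 (iv7 F158048) (iv2 D102790)
theorem F158051 : act 2 n88759 = n102789 := d15_3 F158050 (iv0 F142074) F142073
theorem F158052 : act 7 n88760 = n102789 := d15_2 (iv0 D88759) D88760 (iv2 F158051)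
theorem F158053 : act 2 n92380 = n88760 := d4_3 F158052 (iv2 F158051) (iv7 F142073)
def n102791 : Q := act 5 n47674
theorem D102791 : act 5 n47674 = n102791 := rfl
theorem F158055 : act 3 n102791 = n47675 := d6_1 D102791 (iv5 D47675) D47674
theorem F158056 : act 7 n102791 = n88716 := d13_2 (iv7 F74954) D102791 F136056
def n102792 : Q := act 6 n47674
theorem D102792 : act 6 n47674 = n102792 := rfl
theorem F158057 : act 3 n102792 = n47676 := d7_1 D102792 (iv6 D47676) D47674
def n102793 : Q := act 6 n47675
theorem D102793 : act 6 n47675 = n102793 := rfl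
def n102795 : Q := act 2 n47677
theorem D102795 : act 2 n47677 = n102795 := rfl
theorem F158060 : act 7 n47678 = n102795 := d15_2 (iv0 D47677) D47678 (iv2 D102795)
def n102796 : Q := act 3 n47677
theorem D102796 : act 3 n47677 = n102796 := rfl
theorem F158061 : act 4 n102796 = n90002 := d20_6 (iv4 D9632) (iv1 F17493) D10835 D22950 D47677 D102796 (iv1 D90002) (iv4 F67530) (iv3 D43121) (iv1 D20343)
def n102797 : Q := act 4 n47677
theorem D102797 : act 4 n47677 = n102797 := rfl
def n102798 : Q := act 5 n47677
theorem D102798 : act 5 n47677 = n102798 := rfl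
theorem F158064 : act 4 n102798 = n88437 := d19_2 D47677 D102798 F135424 F63606 (iv5 D20283) (iv4 D9597) F6215 (iv1 F3155) F3154 F1826 F1162 (iv1 F1166) F607 (iv4 F1213) (iv3 F1894) D2032 D4939 D10835 D22950
def n102800 : Q := act 7 n47677
theorem D102800 : act 7 n47677 = n102800 := rfl
theorem F158065 : act 2 n102800 = n47678 := d4_1 D102800 F158060 (iv2 D102795)
def n102802 : Q := act 4 n47678
theorem D102802 : act 4 n47678 = n102802 := rfl
theorem F158067 : act 3 n90001 = n102802 := d20_5 (iv4 D9597) (iv1 F17547) D19837 D42065 D90001 (iv4 D102802) (iv1 D47678) (iv4 F67285) (iv3 D42937) (iv1 D20281)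
def n102803 : Q := act 5 n47678
theorem D102803 : act 5 n47678 = n102803 := rfl
def n102805 : Q := act 5 n47679
theorem D102805 : act 5 n47679 = n102805 := rfl
theorem F158068 : act 2 n102805 = n47680 := d2_1 D102805 (iv5 D47680) D47679
theorem F158069 : act 3 n102805 = n88783 := d6_1 D102805 (iv5 D88783) (iv3 F74963)
def n102808 : Q := act 4 n47680
theorem D102808 : act 4 n47680 = n102808 := rfl
def n102810 : Q := act 0 n47681
theorem D102810 : act 0 n47681 = n102810 := rfl
def n102811 : Q := act 1 n47681
theorem D102811 : act 1 n47681 = n102811 := rfl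
theorem F158071 : act 1 n102811 = n88796 := d15_1 D102811 (iv7 D88796) (iv2 F74965)
def n102812 : Q := act 7 n47681
theorem D102812 : act 7 n47681 = n102812 := rfl
theorem F158072 : act 2 n102812 = n88796 := d4_1 D102812 (iv7 D88796) (iv2 F74965)
theorem F158073 : act 1 n88796 = n102810 := d15_0 (iv0 D102810) D102812 F158072
theorem F158074 : act 1 n88795 = n102812 := d15_1 D88795 (iv7 D102812) F74965
theorem F158075 : act 1 n102812 = n88794 := d15_0 (iv0 D88794) D88796 (iv2 F158072)
def n102813 : Q := act 0 n47684
theorem D102813 : act 0 n47684 = n102813 := rfl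
theorem F158076 : act 1 n88756 = n102813 := d15_0 (iv0 D102813) F74968 D88756
def n102814 : Q := act 1 n47684
theorem D102814 : act 1 n47684 = n102814 := rfl
def n102815 : Q := act 2 n47684
theorem D102815 : act 2 n47684 = n102815 := rfl
theorem F158077 : act 7 n102815 = n88756 := d4_2 (iv7 F74968) D102815 (iv2 D88756)
theorem F158078 : act 1 n102815 = n88754 := d15_0 (iv0 D88754) (iv7 F74968) D102815
theorem F158079 : act 1 n102814 = n88756 := d15_1 D102814 (iv7 F158077) (iv2 D102815)
theorem F158080 : act 1 n88755 = n102815 := d15_1 D88755 F158077 (iv2 D88756)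
def n102816 : Q := act 6 n47684
theorem D102816 : act 6 n47684 = n102816 := rfl
theorem F158081 : act 3 n102816 = n47685 := d7_1 D102816 (iv6 D47685) D47684
def n102817 : Q := act 1 n47685
theorem D102817 : act 1 n47685 = n102817 := rfl
def n102818 : Q := act 5 n47685
theorem D102818 : act 5 n47685 = n102818 := rfl
def n102819 : Q := act 7 n47685
theorem D102819 : act 7 n47685 = n102819 := rfl
theorem F158082 : act 4 n102819 = n47688 := d11_1 D102819 (iv7 D47688) (iv4 F74969)
theorem F158083 : act 6 n102819 = n88753 := d14_1 D102819 (iv7 D88753) F63882 (iv7 F36012) D47685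
def n102820 : Q := act 4 n47686
theorem D102820 : act 4 n47686 = n102820 := rfl
theorem F158084 : act 6 n102820 = n88652 := d10_2 (iv6 F74970) D102820 (iv4 D88652)
theorem F158085 : act 0 n75806 = n102820 := d20_1 (iv4 F113678) (iv4 D102820) (iv3 F119076) F88193 F56938 (iv4 F56507) (iv1 F88496) (iv4 F88499) D58709 F117719
def n102821 : Q := act 5 n47686
theorem D102821 : act 5 n47686 = n102821 := rfl
theorem F158086 : act 6 n102821 = n88654 := d12_2 (iv6 F74970) D102821 (iv5 D88654) (iv6 D41390) D41389
def n102822 : Q := act 4 n47687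
theorem D102822 : act 4 n47687 = n102822 := rfl
theorem F158088 : act 6 n102822 = n84195 := d10_2 F151302 D102822 F151304
def n102823 : Q := act 3 n47689
theorem D102823 : act 3 n47689 = n102823 := rfl
theorem F158089 : act 7 n102823 = n88774 := d8_2 (iv7 F141309) D102823 (iv3 D88774)
def n102824 : Q := act 4 n47689
theorem D102824 : act 4 n47689 = n102824 := rfl
theorem F158090 : act 2 n102824 = n88780 := d1_1 D102824 (iv4 D88780) (iv2 F141308)
theorem F158091 : act 7 n102824 = n88775 := d11_2 (iv7 F141309) D102824 (iv4 D88775)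
theorem F158092 : act 1 n93257 = n102824 := d15_1 D93257 F158091 F141310
theorem F158094 : act 1 n102824 = n93256 := d15_0 (iv0 D93256) F141305 (iv2 F158090)
def n102825 : Q := act 5 n47689
theorem D102825 : act 5 n47689 = n102825 := rfl
theorem F158095 : act 2 n102825 = n88781 := d2_1 D102825 (iv5 D88781) (iv2 F141308)
theorem F158096 : act 7 n102825 = n88776 := d13_2 (iv7 F141309) D102825 (iv5 D88776)
def n102827 : Q := act 5 n47690
theorem D102827 : act 5 n47690 = n102827 := rfl
theorem F158098 : act 2 n102827 = n88776 := d2_1 D102827 (iv5 D88776) (iv2 F141306)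
theorem F158099 : act 7 n102827 = n88781 := d13_2 (iv7 F141307) D102827 (iv5 D88781)
def n102829 : Q := act 5 n47691
theorem D102829 : act 5 n47691 = n102829 := rfl
theorem F158102 : act 2 n102829 = n47692 := d2_1 D102829 (iv5 D47692) D47691
theorem F158103 : act 7 n102829 = n88783 := d13_2 (iv7 F74974) D102829 (iv5 D88783)
theorem F158105 : act 1 n102829 = n88784 := d15_0 (iv0 D88784) (iv7 F74979) (iv2 F158102)
def n102831 : Q := act 0 n47692
theorem D102831 : act 0 n47692 = n102831 := rfl
theorem F158107 : act 1 n88783 = n102831 := d15_0 (iv0 D102831) F74979 (iv2 F136164)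
def n102832 : Q := act 1 n47692
theorem D102832 : act 1 n47692 = n102832 := rfl
theorem F158108 : act 1 n102832 = n88783 := d15_1 D102832 (iv7 F158103) F158102
def n102833 : Q := act 4 n47692
theorem D102833 : act 4 n47692 = n102833 := rfl
theorem F158109 : act 7 n102833 = n88786 := d11_2 (iv7 F74979) D102833 (iv4 D88786)
def n102841 : Q := act 7 n47694
theorem D102841 : act 7 n47694 = n102841 := rfl
theorem F158113 : act 6 n102841 = n88796 := d14_1 D102841 (iv7 D88796) (iv6 D41453) (iv7 F36015) D47694
def n102851 : Q := act 2 n47699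
theorem D102851 : act 2 n47699 = n102851 := rfl
theorem F158117 : act 7 n47700 = n102851 := d15_2 (iv0 D47699) D47700 (iv2 D102851)
theorem F158118 : act 3 n102851 = n96450 := d8_1 F158117 (iv7 F148523) F138528
theorem F158119 : act 2 n88632 = n99910 := d0_3 F158118 (iv2 D96450) (iv3 F138724) (iv3 F153839) D102851
theorem F158122 : act 7 n88633 = n99910 := d15_2 (iv0 D88632) D88633 (iv2 F158119)
theorem F158124 : act 7 n47699 = n90101 := d8_2 F158122 (iv3 F153839) F138687
theorem E15752 : n102851 = n48556 := (c15_4 F138755 D90101 (iv7 F158124) D102851)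
theorem E15753 : n96450 = n23686 := ((((iv3 D48556)).symm.trans (sb E15752 F158118))).symm
theorem E15755 : n48555 = n45034 := ((D48555).symm.trans (sb E15753 (iv2 D96450)))
theorem E15757 : n96452 = n23687 := ((D96452).symm.trans (sb E15755 (iv7 F76414)))
theorem F158138 : act 7 n23687 = n45034 := (sb E15757 (iv7 D96452))
theorem F158140 : act 7 n95706 = n48563 := d13_2 F158138 (iv5 F147399) (iv5 D48563)
theorem F158141 : act 7 n48491 = n48564 := d14_4 F158138 (iv6 F76421) (iv7 F158140) F147400 (iv6 D48564)
theorem F158142 : act 2 n48564 = n48490 := d15_3 (iv0 D48490) D48491 F158141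
def n102854 : Q := act 5 n47700
theorem D102854 : act 5 n47700 = n102854 := rfl
theorem F158158 : act 3 n102854 = n48559 := d6_1 D102854 F76417 F138528
theorem F158159 : act 0 n102854 = n89624 := d21_1 D102854 (iv5 F145075) (iv6 D94125) (iv1 F139541) (iv6 D90629) (iv5 D42430) D42427 D90627 F139521 (iv1 F138526)
def n102856 : Q := act 3 n47702
theorem D102856 : act 3 n47702 = n102856 := rfl
theorem F158167 : act 4 n102856 = n96455 := d20_6 (iv4 D19474) F14246 D10841 D22960 D47702 D102856 (iv1 D96455) F70880 (iv3 D22966) (iv1 F31141)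
def n102857 : Q := act 4 n47702
theorem D102857 : act 4 n47702 = n102857 := rfl
theorem F158168 : act 2 n102857 = n91150 := d1_1 D102857 F140198 F138398
theorem F158169 : act 7 n102857 = n91147 := d11_2 (iv7 F138399) D102857 F140194
theorem F158170 : act 1 n91146 = n102857 := d15_1 D91146 F158169 (iv2 D91147)
theorem F158171 : act 3 n91163 = n102857 := d0_0 F158168 F140197 F66904 D42685 D91163
theorem F158172 : act 1 n102857 = n91145 := d15_0 (iv0 D91145) D91150 (iv2 F158168)
def n102858 : Q := act 5 n47702
theorem D102858 : act 5 n47702 = n102858 := rfl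
def n102859 : Q := act 6 n47702
theorem D102859 : act 6 n47702 = n102859 := rfl
def n102860 : Q := act 5 n47703
theorem D102860 : act 5 n47703 = n102860 := rfl
def n102861 : Q := act 6 n47703
theorem D102861 : act 6 n47703 = n102861 := rfl
def n102862 : Q := act 5 n47704
theorem D102862 : act 5 n47704 = n102862 := rfl
theorem F158174 : act 2 n102862 = n47705 := d2_1 D102862 (iv5 D47705) D47704
def n102863 : Q := act 6 n47704
theorem D102863 : act 6 n47704 = n102863 := rfl
theorem F158175 : act 2 n102863 = n47706 := d3_1 D102863 (iv6 D47706) D47704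
def n102864 : Q := act 0 n47705
theorem D102864 : act 0 n47705 = n102864 := rfl
def n102865 : Q := act 1 n47705
theorem D102865 : act 1 n47705 = n102865 := rfl
def n102866 : Q := act 4 n47705
theorem D102866 : act 4 n47705 = n102866 := rfl
def n102867 : Q := act 6 n47705
theorem D102867 : act 6 n47705 = n102867 := rfl
theorem F158176 : act 3 n102867 = n47707 := d7_1 D102867 (iv6 D47707) (iv3 F74985)
def n102868 : Q := act 0 n47706
theorem D102868 : act 0 n47706 = n102868 := rfl
def n102869 : Q := act 1 n47706
theorem D102869 : act 1 n47706 = n102869 := rfl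
def n102870 : Q := act 5 n47706
theorem D102870 : act 5 n47706 = n102870 := rfl
theorem F158177 : act 3 n102870 = n47710 := d6_1 D102870 (iv5 D47710) (iv3 F74986)
def n102871 : Q := act 7 n47706
theorem D102871 : act 7 n47706 = n102871 := rfl
def n102872 : Q := act 0 n47707
theorem D102872 : act 0 n47707 = n102872 := rfl
def n102873 : Q := act 1 n47707
theorem D102873 : act 1 n47707 = n102873 := rfl
def n102874 : Q := act 5 n47707
theorem D102874 : act 5 n47707 = n102874 := rfl
theorem F158180 : act 6 n102874 = n47710 := d12_2 D47707 D102874 (iv5 D47710) (iv6 D22962) D22961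
def n102875 : Q := act 7 n47707
theorem D102875 : act 7 n47707 = n102875 := rfl

end Cfsg.Agent.Helper17.ONTC
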