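import Cfsg.Agent.Helper17.ONTC.Facts20

set_option autoImplicit false
set_option linter.all false

noncomputable section

namespace Cfsg.Agent.Helper17.ONTC

def n102881 : Q := act 0 n47710
theorem D102881 : act 0 n47710 = n102881 := rfl
def n102882 : Q := act 1 n47710
theorem D102882 : act 1 n47710 = n102882 := rfl
theorem F158183 : act 5 n102882 = n99400 := d17_7 F73411 F73409 (iv1 D22958) (iv5 F17635) (iv4 F36019) D47710 D102882 (iv0 F153093) F74889
def n102883 : Q := act 4 n47710
theorem D102883 : act 4 n47710 = n102883 := rfl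
def n102884 : Q := act 7 n47710
theorem D102884 : act 7 n47710 = n102884 := rfl
theorem F158185 : act 2 n102884 = n100338 := d4_1 D102884 F154325 F136060
theorem F158187 : act 1 n100338 = n102881 := d15_0 (iv0 D102881) D102884 F158185
theorem F158188 : act 1 n100680 = n102884 := d15_1 (iv0 F154793) (iv7 D102884) (iv2 F136060)
theorem F158190 : act 5 n102881 = n100681 := d17_7 F73917 (iv5 D46793) (iv1 F64560) F64557 (iv4 F73938) D100338 F158187 F154795 F141880
def n102891 : Q := act 2 n47721
theorem D102891 : act 2 n47721 = n102891 := rfl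
theorem F158198 : act 7 n47722 = n102891 := d15_2 (iv0 D47721) D47722 (iv2 D102891)
def n102892 : Q := act 3 n47721
theorem D102892 : act 3 n47721 = n102892 := rfl
theorem F158199 : act 4 n102892 = n88435 := d20_6 (iv4 D20128) (iv1 F27433) F27434 D22966 D47721 D102892 (iv1 D88435) (iv4 F63860) F63859 (iv1 F31959)
theorem F158200 : act 0 n102892 = n47745 := d20_1 (iv4 F158199) (iv4 F138411) (iv3 D90064) F67378 D92032 F141527 (iv1 F138779) F138778 (iv3 F135857) (iv1 F135862)
def n102893 : Q := act 4 n47721
theorem D102893 : act 4 n47721 = n102893 := rfl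
def n102894 : Q := act 5 n47721
theorem D102894 : act 5 n47721 = n102894 := rfl
def n102895 : Q := act 6 n47721
theorem D102895 : act 6 n47721 = n102895 := rfl
def n102896 : Q := act 7 n47721
theorem D102896 : act 7 n47721 = n102896 := rfl
theorem F158201 : act 2 n102896 = n47722 := d4_1 D102896 F158198 (iv2 D102891)
def n102897 : Q := act 3 n47722
theorem D102897 : act 3 n47722 = n102897 := rfl
def n102898 : Q := act 4 n47722
theorem D102898 : act 4 n47722 = n102898 := rfl
theorem F158202 : act 3 n102898 = n96441 := d20_3 F147030 (iv1 F137482) D102898 (iv1 F148500) F133641 F61575 (iv1 F36844) D48571 (iv3 F148528) (iv1 F148529)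
def n102899 : Q := act 5 n47722
theorem D102899 : act 5 n47722 = n102899 := rfl
def n102900 : Q := act 6 n47722
theorem D102900 : act 6 n47722 = n102900 := rfl
def n102901 : Q := act 5 n47723
theorem D102901 : act 5 n47723 = n102901 := rfl
theorem F158203 : act 2 n102901 = n47724 := d2_1 D102901 (iv5 D47724) D47723
def n102902 : Q := act 6 n47723
theorem D102902 : act 6 n47723 = n102902 := rfl
def n102903 : Q := act 0 n47724
theorem D102903 : act 0 n47724 = n102903 := rfl
def n102904 : Q := act 1 n47724
theorem D102904 : act 1 n47724 = n102904 := rfl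
def n102905 : Q := act 4 n47724
theorem D102905 : act 4 n47724 = n102905 := rfl
def n102906 : Q := act 6 n47724
theorem D102906 : act 6 n47724 = n102906 := rfl
theorem F158205 : act 3 n102906 = n47726 := d7_1 D102906 (iv6 D47726) (iv3 F75001)
def n102911 : Q := act 0 n47726
theorem D102911 : act 0 n47726 = n102911 := rfl
def n102912 : Q := act 1 n47726
theorem D102912 : act 1 n47726 = n102912 := rfl
def n102913 : Q := act 5 n47726
theorem D102913 : act 5 n47726 = n102913 := rfl
theorem F158208 : act 6 n102913 = n47727 := d12_2 D47726 D102913 (iv5 D47727) (iv6 D22968) D22967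
def n102914 : Q := act 7 n47726
theorem D102914 : act 7 n47726 = n102914 := rfl
def n102915 : Q := act 4 n47727
theorem D102915 : act 4 n47727 = n102915 := rfl
theorem F158210 : act 5 n102915 = n99456 := d9_2 D47727 D102915 F153195 F73463 F34776 (iv5 F61984) (iv4 F73921) (iv5 F154243) F154244 (iv5 D47056) (iv4 D22630) (iv5 D10721) (iv4 F17245) D22610 (iv4 F36026)
theorem F158211 : act 0 n102915 = n100988 := d18_2 (iv1 F75004) D102915 F155607 (iv5 F155015) (iv4 D100888) F74263 (iv4 F73896) F73895 D46791
def n102917 : Q := act 2 n47729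
theorem D102917 : act 2 n47729 = n102917 := rfl
theorem F158219 : act 7 n47730 = n102917 := d15_2 (iv0 D47729) D47730 (iv2 D102917)
def n102918 : Q := act 3 n47729
theorem D102918 : act 3 n47729 = n102918 := rfl
theorem F158220 : act 4 n102918 = n92552 := d20_6 F63763 F32426 F31646 D22969 D47729 D102918 (iv1 D92552) F67949 (iv3 D41361) D41360
def n102919 : Q := act 4 n47729
theorem D102919 : act 4 n47729 = n102919 := rfl
theorem F158221 : act 0 n88447 = n102919 := d20_10 (iv4 D102919) (iv1 F137498) F137496 (iv3 F138232) (iv1 F138236) (iv3 F138406) (iv4 F138404) (iv1 D89969) F64927 D88447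
def n102920 : Q := act 5 n47729
theorem D102920 : act 5 n47729 = n102920 := rfl
def n102921 : Q := act 6 n47729
theorem D102921 : act 6 n47729 = n102921 := rfl
def n102922 : Q := act 7 n47729
theorem D102922 : act 7 n47729 = n102922 := rfl
theorem F158222 : act 2 n102922 = n47730 := d4_1 D102922 F158219 (iv2 D102917)
def n102923 : Q := act 3 n47730
theorem D102923 : act 3 n47730 = n102923 := rfl
def n102924 : Q := act 4 n47730
theorem D102924 : act 4 n47730 = n102924 := rfl
theorem F158223 : act 3 n102924 = n88427 := d20_3 (iv4 F137496) (iv1 F137500) D102924 (iv1 F138331) F138329 (iv4 F136041) (iv1 F136043) D88702 (iv3 F138302) (iv1 F138303)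
def n102925 : Q := act 5 n47730
theorem D102925 : act 5 n47730 = n102925 := rfl
def n102926 : Q := act 6 n47730
theorem D102926 : act 6 n47730 = n102926 := rfl
def n102927 : Q := act 5 n47731
theorem D102927 : act 5 n47731 = n102927 := rfl
theorem F158224 : act 2 n102927 = n47732 := d2_1 D102927 (iv5 D47732) D47731
def n102928 : Q := act 6 n47731
theorem D102928 : act 6 n47731 = n102928 := rfl
theorem F158225 : act 2 n102928 = n47733 := d3_1 D102928 (iv6 D47733) D47731
def n102929 : Q := act 0 n47732
theorem D102929 : act 0 n47732 = n102929 := rfl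
def n102930 : Q := act 1 n47732
theorem D102930 : act 1 n47732 = n102930 := rfl
def n102931 : Q := act 4 n47732
theorem D102931 : act 4 n47732 = n102931 := rfl
def n102932 : Q := act 6 n47732
theorem D102932 : act 6 n47732 = n102932 := rfl
theorem F158226 : act 3 n102932 = n47734 := d7_1 D102932 (iv6 D47734) (iv3 F75009)
def n102933 : Q := act 0 n47733
theorem D102933 : act 0 n47733 = n102933 := rfl
def n102934 : Q := act 1 n47733
theorem D102934 : act 1 n47733 = n102934 := rfl
def n102935 : Q := act 5 n47733
theorem D102935 : act 5 n47733 = n102935 := rfl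
theorem F158227 : act 3 n102935 = n47737 := d6_1 D102935 (iv5 D47737) (iv3 F75010)
def n102936 : Q := act 7 n47733
theorem D102936 : act 7 n47733 = n102936 := rfl
theorem F158228 : act 3 n102936 = n47738 := d8_1 D102936 (iv7 D47738) (iv3 F75010)
def n102937 : Q := act 0 n47734
theorem D102937 : act 0 n47734 = n102937 := rfl
def n102938 : Q := act 1 n47734
theorem D102938 : act 1 n47734 = n102938 := rfl
def n102939 : Q := act 5 n47734
theorem D102939 : act 5 n47734 = n102939 := rfl
theorem F158230 : act 6 n102939 = n47737 := d12_2 D47734 D102939 (iv5 D47737) (iv6 D22971) D22970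
def n102940 : Q := act 7 n47734
theorem D102940 : act 7 n47734 = n102940 := rfl
def n102942 : Q := act 1 n47737
theorem D102942 : act 1 n47737 = n102942 := rfl
theorem F158233 : act 5 n99397 = n102942 := d21_6 D10846 D22976 F36030 D43120 F73406 D99397 (iv1 D102942) (iv5 D47737) (iv6 D22971) (iv1 D10844)
def n102943 : Q := act 4 n47737
theorem D102943 : act 4 n47737 = n102943 := rfl
def n102944 : Q := act 7 n47737
theorem D102944 : act 7 n47737 = n102944 := rfl
theorem F158235 : act 5 n102944 = n47738 := d13_1 D102944 (iv7 D47738) D47737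
def n102945 : Q := act 0 n47740
theorem D102945 : act 0 n47740 = n102945 := rfl
theorem F158237 : act 1 n92559 = n102945 := d15_0 (iv0 D102945) (iv7 F137504) (iv2 F142578)
def n102946 : Q := act 1 n47740
theorem D102946 : act 1 n47740 = n102946 := rfl
theorem F158238 : act 1 n102946 = n92559 := d15_1 D102946 F142579 F140093
theorem F158239 : act 4 n90391 = n102946 := d20_6 (iv4 D20304) D20301 (iv4 F66900) (iv3 F138652) (iv1 F138657) D90391 (iv1 D102946) F75013 (iv3 F133972) (iv1 D43000)
def n102956 : Q := act 0 n47745
theorem D102956 : act 0 n47745 = n102956 := rfl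
theorem F158245 : act 4 n102956 = n88434 := d20_0 (iv1 F135860) F135858 (iv3 F135818) (iv1 F135822) F138395 (iv4 F138394) (iv1 D90061) F65006 D47745 D102956
def n102957 : Q := act 2 n47745
theorem D102957 : act 2 n47745 = n102957 := rfl
theorem F158246 : act 3 n102957 = n92559 := d0_2 D47745 D102957 F142578 (iv3 D89673) F135723
def n102958 : Q := act 5 n47745
theorem D102958 : act 5 n47745 = n102958 := rfl
def n102959 : Q := act 6 n47745
theorem D102959 : act 6 n47745 = n102959 := rfl
def n102966 : Q := act 4 n47748
theorem D102966 : act 4 n47748 = n102966 := rfl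
theorem F158249 : act 2 n102966 = n47751 := d1_1 D102966 (iv4 D47751) (iv2 F75015)
theorem F158250 : act 5 n102966 = n47751 := d16_1 D102966 (iv4 D47751) (iv5 D22975) F17636 (iv5 F14513) (iv4 F31473) D41885 F64579 (iv2 F75015)
def n102967 : Q := act 6 n47748
theorem D102967 : act 6 n47748 = n102967 := rfl
theorem F158251 : act 2 n102967 = n47752 := d3_1 D102967 (iv6 D47752) (iv2 F75015)
def n102968 : Q := act 3 n47749
theorem D102968 : act 3 n47749 = n102968 := rfl
theorem F158252 : act 5 n102968 = n91015 := d6_2 (iv5 F137515) D102968 (iv3 F140064)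
def n102971 : Q := act 3 n47750
theorem D102971 : act 3 n47750 = n102971 := rfl
def n102974 : Q := act 0 n47751
theorem D102974 : act 0 n47751 = n102974 := rfl
def n102975 : Q := act 1 n47751
theorem D102975 : act 1 n47751 = n102975 := rfl
def n102976 : Q := act 3 n47751
theorem D102976 : act 3 n47751 = n102976 := rfl
theorem F158255 : act 4 n102976 = n47757 := d5_2 D47751 D102976 (iv3 D47757) (iv4 D22978) (iv3 F36029)
def n102977 : Q := act 6 n47751
theorem D102977 : act 6 n47751 = n102977 := rfl
theorem F158256 : act 4 n102977 = n47752 := d10_1 D102977 (iv6 D47752) D47751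
def n102978 : Q := act 0 n47752
theorem D102978 : act 0 n47752 = n102978 := rfl
def n102979 : Q := act 1 n47752
theorem D102979 : act 1 n47752 = n102979 := rfl
def n102980 : Q := act 7 n47752
theorem D102980 : act 7 n47752 = n102980 := rfl
theorem F158257 : act 3 n102980 = n47761 := d8_1 D102980 (iv7 D47761) (iv3 F75016)
def n102983 : Q := act 2 n47753
theorem D102983 : act 2 n47753 = n102983 := rfl
theorem F158258 : act 5 n102983 = n92218 := d2_2 (iv5 F75017) D102983 (iv2 D92218)
def n102984 : Q := act 4 n47753
theorem D102984 : act 4 n47753 = n102984 := rfl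
def n102989 : Q := act 7 n47754
theorem D102989 : act 7 n47754 = n102989 := rfl
def n102993 : Q := act 4 n47755
theorem D102993 : act 4 n47755 = n102993 := rfl
def n102998 : Q := act 7 n47756
theorem D102998 : act 7 n47756 = n102998 := rfl
def n102999 : Q := act 0 n47757
theorem D102999 : act 0 n47757 = n102999 := rfl
def n103000 : Q := act 1 n47757
theorem D103000 : act 1 n47757 = n103000 := rfl
def n103001 : Q := act 2 n47757
theorem D103001 : act 2 n47757 = n103001 := rfl
def n103002 : Q := act 6 n47757
theorem D103002 : act 6 n47757 = n103002 := rfl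
theorem F158264 : act 3 n103002 = n47758 := d7_1 D103002 (iv6 D47758) D47757
def n103003 : Q := act 0 n47758
theorem D103003 : act 0 n47758 = n103003 := rfl
def n103004 : Q := act 1 n47758
theorem D103004 : act 1 n47758 = n103004 := rfl
def n103005 : Q := act 5 n47758
theorem D103005 : act 5 n47758 = n103005 := rfl
def n103006 : Q := act 7 n47758
theorem D103006 : act 7 n47758 = n103006 := rfl
theorem F158265 : act 4 n103006 = n47761 := d11_1 D103006 (iv7 D47761) (iv4 F75019)
def n103007 : Q := act 2 n47759
theorem D103007 : act 2 n47759 = n103007 := rfl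
theorem F158266 : act 7 n47760 = n103007 := d15_2 (iv0 D47759) D47760 (iv2 D103007)
def n103008 : Q := act 3 n47759
theorem D103008 : act 3 n47759 = n103008 := rfl
def n103009 : Q := act 4 n47759
theorem D103009 : act 4 n47759 = n103009 := rfl
def n103010 : Q := act 5 n47759
theorem D103010 : act 5 n47759 = n103010 := rfl
def n103011 : Q := act 6 n47759
theorem D103011 : act 6 n47759 = n103011 := rfl
def n103012 : Q := act 7 n47759
theorem D103012 : act 7 n47759 = n103012 := rfl
theorem F158267 : act 2 n103012 = n47760 := d4_1 D103012 F158266 (iv2 D103007)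
def n103013 : Q := act 3 n47760
theorem D103013 : act 3 n47760 = n103013 := rfl
def n103014 : Q := act 4 n47760
theorem D103014 : act 4 n47760 = n103014 := rfl
def n103015 : Q := act 5 n47760
theorem D103015 : act 5 n47760 = n103015 := rfl
def n103016 : Q := act 6 n47760
theorem D103016 : act 6 n47760 = n103016 := rfl
def n103017 : Q := act 6 n47762
theorem D103017 : act 6 n47762 = n103017 := rfl
theorem F158268 : act 3 n103017 = n87850 := d7_1 D103017 (iv6 D87850) (iv3 F75020)
theorem F158269 : act 4 n103017 = n47763 := d10_1 D103017 (iv6 D47763) D47762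
def n103018 : Q := act 0 n47763
theorem D103018 : act 0 n47763 = n103018 := rfl
def n103019 : Q := act 1 n47763
theorem D103019 : act 1 n47763 = n103019 := rfl
def n103020 : Q := act 5 n47763
theorem D103020 : act 5 n47763 = n103020 := rfl
def n103021 : Q := act 7 n47763
theorem D103021 : act 7 n47763 = n103021 := rfl
def n103022 : Q := act 4 n47764
theorem D103022 : act 4 n47764 = n103022 := rfl
theorem F158270 : act 3 n103022 = n87857 := d5_1 D103022 (iv4 F157793) F157792 D100780 F154877
def n103023 : Q := act 5 n47764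
theorem D103023 : act 5 n47764 = n103023 := rfl
def n103024 : Q := act 6 n47764
theorem D103024 : act 6 n47764 = n103024 := rfl
theorem F158271 : act 5 n103024 = n96546 := d21_6 (iv5 F51594) (iv1 F51595) (iv5 F26946) D22981 D47764 D103024 (iv1 D96546) (iv5 D45080) (iv6 D21522) D21520
def n103025 : Q := act 4 n47765
theorem D103025 : act 4 n47765 = n103025 := rfl
def n103026 : Q := act 5 n47765
theorem D103026 : act 5 n47765 = n103026 := rfl
def n103027 : Q := act 6 n47765
theorem D103027 : act 6 n47765 = n103027 := rfl
def n103028 : Q := act 0 n47766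
theorem D103028 : act 0 n47766 = n103028 := rfl
def n103029 : Q := act 1 n47766
theorem D103029 : act 1 n47766 = n103029 := rfl
theorem F158272 : act 5 n95506 = n103029 := d21_6 (iv5 F70137) (iv1 F70139) (iv5 D21231) D21232 D44614 D95506 (iv1 D103029) (iv5 D47766) (iv6 D22981) D22980
def n103030 : Q := act 4 n47766
theorem D103030 : act 4 n47766 = n103030 := rfl
def n103031 : Q := act 7 n47766
theorem D103031 : act 7 n47766 = n103031 := rfl
theorem F158273 : act 3 n103031 = n47776 := d8_1 D103031 (iv7 D47776) (iv3 F75024)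
theorem F158274 : act 5 n103031 = n47767 := d13_1 D103031 (iv7 D47767) D47766
def n103032 : Q := act 2 n47768
theorem D103032 : act 2 n47768 = n103032 := rfl
theorem F158275 : act 7 n47769 = n103032 := d15_2 (iv0 D47768) D47769 (iv2 D103032)
def n103033 : Q := act 3 n47768
theorem D103033 : act 3 n47768 = n103033 := rfl
def n103034 : Q := act 4 n47768
theorem D103034 : act 4 n47768 = n103034 := rfl
def n103035 : Q := act 5 n47768
theorem D103035 : act 5 n47768 = n103035 := rfl
def n103036 : Q := act 7 n47768
theorem D103036 : act 7 n47768 = n103036 := rfl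
theorem F158276 : act 2 n103036 = n47769 := d4_1 D103036 F158275 (iv2 D103032)
def n103037 : Q := act 3 n47769
theorem D103037 : act 3 n47769 = n103037 := rfl
def n103038 : Q := act 4 n47769
theorem D103038 : act 4 n47769 = n103038 := rfl
def n103039 : Q := act 5 n47769
theorem D103039 : act 5 n47769 = n103039 := rfl
def n103040 : Q := act 6 n47769
theorem D103040 : act 6 n47769 = n103040 := rfl
def n103041 : Q := act 0 n47770
theorem D103041 : act 0 n47770 = n103041 := rfl
def n103042 : Q := act 4 n47770
theorem D103042 : act 4 n47770 = n103042 := rfl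
theorem F158277 : act 2 n103042 = n47827 := d1_1 D103042 (iv4 D47827) (iv2 F75028)
theorem F158278 : act 6 n103042 = n47775 := d10_2 (iv6 F75029) D103042 (iv4 D47775)
def n103043 : Q := act 7 n47770
theorem D103043 : act 7 n47770 = n103043 := rfl
theorem F158279 : act 2 n103043 = n47828 := d4_1 D103043 (iv7 D47828) (iv2 F75028)
theorem F158280 : act 5 n103043 = n47771 := d13_1 D103043 (iv7 D47771) D47770
theorem F158281 : act 1 n47828 = n103041 := d15_0 (iv0 D103041) D103043 F158279
theorem F158282 : act 1 n47826 = n103043 := d15_1 D47826 (iv7 D103043) F75028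
theorem F158283 : act 1 n103043 = n47825 := d15_0 (iv0 D47825) D47828 (iv2 F158279)
def n103044 : Q := act 4 n47772
theorem D103044 : act 4 n47772 = n103044 := rfl
theorem F158284 : act 2 n103044 = n47843 := d1_1 D103044 (iv4 D47843) (iv2 F75034)
theorem F158285 : act 7 n103044 = n47836 := d11_2 (iv7 F75035) D103044 (iv4 D47836)
def n103045 : Q := act 6 n47772
theorem D103045 : act 6 n47772 = n103045 := rfl
theorem F158286 : act 2 n103045 = n47844 := d3_1 D103045 (iv6 D47844) (iv2 F75034)
def n103046 : Q := act 3 n47774
theorem D103046 : act 3 n47774 = n103046 := rfl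
theorem F158287 : act 7 n103046 = n47851 := d8_2 (iv7 F75043) D103046 (iv3 D47851)
def n103047 : Q := act 4 n47774
theorem D103047 : act 4 n47774 = n103047 := rfl
theorem F158288 : act 2 n103047 = n47849 := d1_1 D103047 (iv4 D47849) (iv2 F75044)
theorem F158289 : act 7 n103047 = n47852 := d11_2 (iv7 F75043) D103047 (iv4 D47852)
def n103048 : Q := act 6 n47774
theorem D103048 : act 6 n47774 = n103048 := rfl
theorem F158291 : act 2 n103048 = n47850 := d3_1 D103048 (iv6 D47850) (iv2 F75044)
theorem F158292 : act 5 n103048 = n48396 := d12_1 D103048 (iv6 D48396) F64880 (iv6 F138006) F138004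
def n103049 : Q := act 0 n47775
theorem D103049 : act 0 n47775 = n103049 := rfl
theorem F158294 : act 2 n47854 = n103049 := d15_3 (iv0 D103049) (iv0 F150193) F150192
theorem F158295 : act 7 n103049 = n47855 := d4_2 F150192 F158294 (iv2 F150191)
theorem F158296 : act 1 n47858 = n103049 := d15_1 F150194 F158295 (iv2 F150191)
def n103050 : Q := act 3 n47775
theorem D103050 : act 3 n47775 = n103050 := rfl
def n103051 : Q := act 5 n47775
theorem D103051 : act 5 n47775 = n103051 := rfl
theorem F158297 : act 2 n103051 = n47857 := d2_1 D103051 (iv5 D47857) (iv2 F75038)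
theorem F158298 : act 4 n103051 = n47930 := d16_2 D47775 D103051 F75248 F36130 F17661 (iv4 F17655) (iv5 F36073) (iv7 D23025) (iv2 F36039)
def n103052 : Q := act 7 n47775
theorem D103052 : act 7 n47775 = n103052 := rfl
theorem F158301 : act 4 n103052 = n47776 := d11_1 D103052 (iv7 D47776) D47775
def n103053 : Q := act 6 n47776
theorem D103053 : act 6 n47776 = n103053 := rfl
theorem F158305 : act 2 n103053 = n47859 := d3_1 D103053 (iv6 D47859) (iv2 F75039)
def n103054 : Q := act 5 n47777
theorem D103054 : act 5 n47777 = n103054 := rfl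
theorem F158306 : act 3 n103054 = n47778 := d6_1 D103054 (iv5 D47778) D47777
theorem F158307 : act 7 n103054 = n47894 := d13_2 (iv7 F75050) D103054 (iv5 D47894)
def n103055 : Q := act 1 n47778
theorem D103055 : act 1 n47778 = n103055 := rfl
theorem F158308 : act 1 n103055 = n47781 := d15_1 D103055 F75064 (iv2 F75052)
theorem F158309 : act 7 n103055 = n47869 := d15_2 F147303 D103055 (iv2 F147300)
theorem F158310 : act 5 n103055 = n89933 := d17_7 (iv1 F64833) F75056 (iv1 D47779) (iv5 D22989) D22988 D47778 D103055 (iv0 D89933) (iv4 D42024)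
theorem F158311 : act 2 n47870 = n103055 := d2_3 F158310 (iv2 F138123) F75146
def n103056 : Q := act 4 n47778
theorem D103056 : act 4 n47778 = n103056 := rfl
theorem F158312 : act 2 n103056 = n47871 := d1_1 D103056 (iv4 D47871) (iv2 F75052)
theorem F158313 : act 7 n103056 = n47896 := d11_2 (iv7 F75053) D103056 (iv4 D47896)
theorem F158314 : act 0 n103056 = n89924 := d18_2 (iv1 D103055) D103056 (iv4 D89924) (iv5 D42016) F31579 D19812 D42025 F138124 (iv5 F158310)
def n103057 : Q := act 6 n47778
theorem D103057 : act 6 n47778 = n103057 := rfl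
theorem F158315 : act 2 n103057 = n47872 := d3_1 D103057 (iv6 D47872) (iv2 F75052)
theorem F158316 : act 5 n103057 = n96131 := d12_1 D103057 (iv6 D96131) (iv5 D44861) (iv6 F36047) D47778
def n103058 : Q := act 0 n47780
theorem D103058 : act 0 n47780 = n103058 := rfl
theorem F158317 : act 4 n103058 = n90338 := d18_3 (iv1 D47779) D47780 D103058 F138996 (iv4 F70206) (iv0 F137333) (iv4 D42025) F64832 F75056
theorem F158318 : act 2 n47877 = n103058 := d15_3 (iv0 D103058) (iv0 F140356) F140355
def n103061 : Q := act 4 n47781
theorem D103061 : act 4 n47781 = n103061 := rfl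
theorem F158327 : act 2 n103061 = n47896 := d1_1 D103061 (iv4 D47896) (iv2 F75063)
theorem F158328 : act 7 n103061 = n47871 := d11_2 (iv7 F75064) D103061 (iv4 D47871)
theorem F158329 : act 1 n103061 = n89924 := d18_6 F31878 F17655 (iv1 F17644) D22991 D47781 D103061 (iv4 D89924) (iv0 F65627) (iv5 D42477)
def n103062 : Q := act 6 n47781
theorem D103062 : act 6 n47781 = n103062 := rfl
theorem F158330 : act 2 n103062 = n47897 := d3_1 D103062 (iv6 D47897) (iv2 F75063)
def n103063 : Q := act 3 n47783
theorem D103063 : act 3 n47783 = n103063 := rfl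
theorem F158331 : act 7 n103063 = n47879 := d8_2 (iv7 F75070) D103063 (iv3 D47879)
def n103064 : Q := act 5 n47783
theorem D103064 : act 5 n47783 = n103064 := rfl
theorem F158332 : act 2 n103064 = n47902 := d2_1 D103064 (iv5 D47902) (iv2 F75069)
theorem F158333 : act 7 n103064 = n47880 := d13_2 (iv7 F75070) D103064 (iv5 D47880)
def n103074 : Q := act 1 n47787
theorem D103074 : act 1 n47787 = n103074 := rfl
theorem F158352 : act 7 n103074 = n47926 := d15_2 F139662 D103074 (iv2 F139659)
theorem F158353 : act 5 n103074 = n89938 := d17_7 (iv1 F63399) (iv5 D22992) (iv1 D10851) D10852 D22995 D47787 D103074 (iv0 D89938) (iv4 D42026)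
theorem F158354 : act 2 n47927 = n103074 := d2_3 F158353 (iv2 F139000) (iv5 F139004)
def n103075 : Q := act 4 n47787
theorem D103075 : act 4 n47787 = n103075 := rfl
theorem F158356 : act 5 n103075 = n47858 := d9_2 D47787 D103075 F75131 F36073 F17655 (iv5 F17661) (iv4 F36130) (iv5 F75248) (iv4 F158298) (iv5 D103051) (iv4 D47775) (iv5 D22984) F17642 D10852 D22995
theorem F158357 : act 7 n47857 = n103075 := d13_0 F158356 (iv7 D47858) D47857
def n103076 : Q := act 6 n47787
theorem D103076 : act 6 n47787 = n103076 := rfl
theorem F158359 : act 5 n103076 = n87056 := d12_1 D103076 (iv6 D87056) (iv5 D40449) (iv6 F36055) D47787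
def n103077 : Q := act 7 n47787
theorem D103077 : act 7 n47787 = n103077 := rfl
theorem F158361 : act 4 n103077 = n47857 := d11_1 D103077 F158357 (iv4 D103075)
theorem F158362 : act 5 n103077 = n47788 := d13_1 D103077 (iv7 D47788) D47787
theorem F158363 : act 1 n47927 = n103077 := d15_1 D47927 (iv7 D103077) F75080
theorem F158364 : act 1 n103077 = n47926 := d15_1 F158363 (iv7 F158352) (iv2 F158354)
def n103078 : Q := act 6 n47789
theorem D103078 : act 6 n47789 = n103078 := rfl
theorem F158365 : act 2 n103078 = n97942 := d3_1 D103078 (iv6 D97942) (iv2 F75085)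
theorem F158366 : act 3 n103078 = n92762 := d7_1 D103078 (iv6 D92762) (iv3 F75086)
theorem F158367 : act 4 n103078 = n47790 := d10_1 D103078 (iv6 D47790) D47789
def n103079 : Q := act 0 n47790
theorem D103079 : act 0 n47790 = n103079 := rfl
def n103080 : Q := act 1 n47790
theorem D103080 : act 1 n47790 = n103080 := rfl
def n103081 : Q := act 5 n47790
theorem D103081 : act 5 n47790 = n103081 := rfl
theorem F158368 : act 0 n95975 = n103081 := d21_7 (iv5 F71662) (iv1 F71665) (iv5 D44712) D44713 F157624 D44789 D95975 (iv5 D103081) (iv6 D47790) (iv1 F36251)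
def n103082 : Q := act 7 n47790
theorem D103082 : act 7 n47790 = n103082 := rfl
theorem F158369 : act 6 n103082 = n47829 := d14_1 D103082 (iv7 F157758) (iv6 D48003) (iv7 F36266) D47790
def n103083 : Q := act 5 n47791
theorem D103083 : act 5 n47791 = n103083 := rfl
theorem F158370 : act 0 n103083 = n47848 := d17_2 (iv1 F157769) D103083 (iv5 F138087) F138086 (iv5 F152925) F154101 (iv5 D87877) F73868 D100166
def n103084 : Q := act 0 n47792
theorem D103084 : act 0 n47792 = n103084 := rfl
theorem F158371 : act 4 n103084 = n97956 := d20_2 (iv4 F75092) D103084 (iv3 D97956) (iv1 F72130) F61944 F30918 (iv1 F14137) D9101 D19402 (iv1 F73265)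
theorem F158372 : act 0 n103084 = n47796 := d20_1 (iv4 F158371) F75095 (iv3 F72170) (iv1 F72167) D45744 F72190 D47194 F74836 D88222 F157378
def n103085 : Q := act 1 n47792
theorem D103085 : act 1 n47792 = n103085 := rfl
theorem F158373 : act 1 n103085 = n47796 := d15_1 D103085 (iv7 D47796) (iv2 F75091)
theorem F158374 : act 3 n47804 = n103085 := d20_3 F146952 (iv1 F143147) F143148 (iv1 D103085) (iv3 F75440) F75441 D90413 (iv4 F139166) F135439 F146956
def n103086 : Q := act 5 n47792
theorem D103086 : act 5 n47792 = n103086 := rfl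
theorem F158375 : act 2 n103086 = n47795 := d2_1 D103086 (iv5 D47795) (iv2 F75091)
def n103087 : Q := act 7 n47792
theorem D103087 : act 7 n47792 = n103087 := rfl
theorem F158376 : act 2 n103087 = n47796 := d4_1 D103087 (iv7 D47796) (iv2 F75091)
theorem F158377 : act 4 n103087 = n87718 := d11_1 D103087 F134634 (iv4 F75092)
theorem F158378 : act 6 n103087 = n48383 := d14_1 D103087 F76050 (iv6 D48006) F36250 D47792
theorem F158379 : act 1 n47794 = n103087 := d15_1 D47794 (iv7 D103087) F75091
theorem F158380 : act 0 n47793 = n103087 := d20_10 F158377 (iv1 F134633) (iv4 F135287) (iv3 F148088) (iv1 F148092) F70750 F70043 F143097 F143096 (iv3 F143099)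
def n103088 : Q := act 2 n47793
theorem D103088 : act 2 n47793 = n103088 := rfl
theorem F158381 : act 7 n47794 = n103088 := d15_2 (iv0 D47793) D47794 (iv2 D103088)
def n103089 : Q := act 4 n47793
theorem D103089 : act 4 n47793 = n103089 := rfl
theorem F158382 : act 3 n103089 = n92777 := d5_1 D103089 (iv4 D92777) D92776 F143096 (iv3 F143099)
theorem F158383 : act 0 n103089 = n102370 := d20_1 D103089 F157168 (iv3 F157114) (iv1 D96386) (iv3 D45005) F66780 F66559 F29057 (iv3 F36064) D47793
theorem F158384 : act 0 n102294 = n103089 := d20_1 (iv4 F157109) (iv4 D103089) F143099 (iv1 D48448) (iv3 D23612) (iv4 F35314) (iv1 D19397) D19399 D41237 D88342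
def n103090 : Q := act 5 n47793
theorem D103090 : act 5 n47793 = n103090 := rfl
def n103091 : Q := act 6 n47793
theorem D103091 : act 6 n47793 = n103091 := rfl
def n103092 : Q := act 7 n47793
theorem D103092 : act 7 n47793 = n103092 := rfl
theorem F158385 : act 2 n103092 = n47794 := d4_1 D103092 F158381 (iv2 D103088)
def n103093 : Q := act 3 n47794
theorem D103093 : act 3 n47794 = n103093 := rfl
theorem F158386 : act 4 n103093 = n88288 := d5_2 F134593 D103093 F135201 (iv4 D87679) D87678
def n103094 : Q := act 5 n47794
theorem D103094 : act 5 n47794 = n103094 := rfl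
def n103095 : Q := act 6 n47794
theorem D103095 : act 6 n47794 = n103095 := rfl
def n103096 : Q := act 0 n47795
theorem D103096 : act 0 n47795 = n103096 := rfl
def n103097 : Q := act 1 n47795
theorem D103097 : act 1 n47795 = n103097 := rfl
def n103098 : Q := act 4 n47795
theorem D103098 : act 4 n47795 = n103098 := rfl
def n103099 : Q := act 7 n47795
theorem D103099 : act 7 n47795 = n103099 := rfl
def n103100 : Q := act 3 n47797
theorem D103100 : act 3 n47797 = n103100 := rfl
def n103101 : Q := act 6 n47797
theorem D103101 : act 6 n47797 = n103101 := rfl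
def n103102 : Q := act 3 n47798
theorem D103102 : act 3 n47798 = n103102 := rfl
def n103103 : Q := act 5 n47798
theorem D103103 : act 5 n47798 = n103103 := rfl
def n103104 : Q := act 7 n47798
theorem D103104 : act 7 n47798 = n103104 := rfl
theorem F158389 : act 4 n103104 = n47799 := d11_1 D103104 (iv7 D47799) D47798
theorem F158390 : act 1 n95364 = n103104 := d15_1 (iv0 F146997) (iv7 D103104) (iv2 F75455)
theorem F158391 : act 1 n103104 = n95361 := d15_1 F158390 (iv7 F148378) F148377
def n103105 : Q := act 6 n47799
theorem D103105 : act 6 n47799 = n103105 := rfl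
theorem F158392 : act 5 n103105 = n48386 := d12_1 D103105 (iv6 D48386) (iv5 D23524) (iv6 F36065) (iv5 F75097)
def n103106 : Q := act 0 n47800
theorem D103106 : act 0 n47800 = n103106 := rfl
def n103107 : Q := act 1 n47800
theorem D103107 : act 1 n47800 = n103107 := rfl
def n103108 : Q := act 5 n47800
theorem D103108 : act 5 n47800 = n103108 := rfl
theorem F158393 : act 0 n47851 = n103108 := d21_7 (iv5 F71678) (iv1 F71681) (iv5 D44731) D44732 (iv1 F157606) (iv6 F138092) F138091 (iv5 D103108) (iv6 D47800) (iv1 F36273)
def n103109 : Q := act 7 n47800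
theorem D103109 : act 7 n47800 = n103109 := rfl
theorem F158394 : act 4 n103109 = n76494 := d11_1 D103109 (iv7 D76494) (iv4 F75098)
theorem F158395 : act 6 n103109 = n92933 := d14_1 D103109 (iv7 F157755) (iv6 D48013) (iv7 F36260) D47800
def n103110 : Q := act 5 n47801
theorem D103110 : act 5 n47801 = n103110 := rfl
def n103111 : Q := act 5 n47802
theorem D103111 : act 5 n47802 = n103111 := rfl
theorem F158396 : act 2 n103111 = n47805 := d2_1 D103111 (iv5 D47805) (iv2 F75100)
def n103112 : Q := act 2 n47803
theorem D103112 : act 2 n47803 = n103112 := rfl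
theorem F158397 : act 4 n103112 = n92799 := d1_2 F135534 D103112 (iv2 D92799)
theorem F158398 : act 7 n47804 = n103112 := d15_2 (iv0 D47803) D47804 (iv2 D103112)
def n103113 : Q := act 3 n47803
theorem D103113 : act 3 n47803 = n103113 := rfl
theorem F158399 : act 4 n103113 = n88289 := d20_6 F63179 F35639 (iv4 F17654) (iv3 F36069) D47803 D103113 (iv1 D88289) F62408 (iv3 D23602) (iv1 F63177)
theorem F158400 : act 3 n99921 = n88289 := d5_5 (iv4 F158399) (iv3 D103113) (iv4 F135534) D92800 (iv4 F153846)
def n103114 : Q := act 5 n47803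
theorem D103114 : act 5 n47803 = n103114 := rfl
def n103115 : Q := act 6 n47803
theorem D103115 : act 6 n47803 = n103115 := rfl
theorem F158401 : act 4 n103115 = n92802 := d10_1 D103115 (iv6 D92802) F135534
def n103116 : Q := act 7 n47803
theorem D103116 : act 7 n47803 = n103116 := rfl
theorem F158402 : act 2 n103116 = n47804 := d4_1 D103116 F158398 (iv2 D103112)
theorem F158403 : act 4 n103116 = n92803 := d11_1 D103116 (iv7 D92803) F135534
def n103117 : Q := act 5 n47804
theorem D103117 : act 5 n47804 = n103117 := rfl
def n103118 : Q := act 6 n47804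
theorem D103118 : act 6 n47804 = n103118 := rfl
theorem F158404 : act 4 n103118 = n92805 := d10_1 D103118 (iv6 D92805) F143148
def n103119 : Q := act 0 n47805
theorem D103119 : act 0 n47805 = n103119 := rfl
def n103120 : Q := act 1 n47805
theorem D103120 : act 1 n47805 = n103120 := rfl
def n103121 : Q := act 4 n47805
theorem D103121 : act 4 n47805 = n103121 := rfl
def n103122 : Q := act 3 n47806
theorem D103122 : act 3 n47806 = n103122 := rfl
theorem F158405 : act 5 n103122 = n89895 := d6_2 F75104 D103122 (iv3 D89895)
def n103123 : Q := act 6 n47806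
theorem D103123 : act 6 n47806 = n103123 := rfl
theorem F158406 : act 2 n103123 = n89931 := d3_1 D103123 (iv6 D89931) (iv2 F75105)
theorem F158407 : act 5 n103123 = n97019 := d12_1 D103123 (iv6 D97019) (iv5 D45353) (iv6 F64815) F75104
def n103124 : Q := act 3 n47807
theorem D103124 : act 3 n47807 = n103124 := rfl
def n103125 : Q := act 3 n47808
theorem D103125 : act 3 n47808 = n103125 := rfl
theorem F158408 : act 5 n103125 = n81544 := d6_2 (iv5 F75106) D103125 (iv3 D81544)
def n103126 : Q := act 6 n47808
theorem D103126 : act 6 n47808 = n103126 := rfl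
def n103127 : Q := act 3 n47809
theorem D103127 : act 3 n47809 = n103127 := rfl
theorem F158409 : act 5 n103127 = n81546 := d6_2 F75485 D103127 (iv3 D81546)
def n103128 : Q := act 6 n47809
theorem D103128 : act 6 n47809 = n103128 := rfl
def n103129 : Q := act 0 n47810
theorem D103129 : act 0 n47810 = n103129 := rfl
def n103130 : Q := act 1 n47810
theorem D103130 : act 1 n47810 = n103130 := rfl
def n103131 : Q := act 5 n47810
theorem D103131 : act 5 n47810 = n103131 := rfl
theorem F158410 : act 3 n103131 = n47813 := d6_1 D103131 (iv5 D47813) (iv3 F75107)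
def n103132 : Q := act 7 n47810
theorem D103132 : act 7 n47810 = n103132 := rfl
theorem F158411 : act 3 n103132 = n47814 := d8_1 D103132 (iv7 D47814) (iv3 F75107)
def n103133 : Q := act 2 n47811
theorem D103133 : act 2 n47811 = n103133 := rfl
def n103134 : Q := act 3 n47811
theorem D103134 : act 3 n47811 = n103134 := rfl
def n103135 : Q := act 4 n47811
theorem D103135 : act 4 n47811 = n103135 := rfl
def n103136 : Q := act 5 n47811
theorem D103136 : act 5 n47811 = n103136 := rfl
def n103137 : Q := act 6 n47811
theorem D103137 : act 6 n47811 = n103137 := rfl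
theorem F158413 : act 5 n103137 = n81713 := d21_6 F29102 (iv1 F22028) F22025 D23011 D47811 D103137 (iv1 D81713) (iv5 D37345) (iv6 D17934) D17932
def n103138 : Q := act 7 n47811
theorem D103138 : act 7 n47811 = n103138 := rfl
def n103143 : Q := act 0 n47813
theorem D103143 : act 0 n47813 = n103143 := rfl
def n103144 : Q := act 1 n47813
theorem D103144 : act 1 n47813 = n103144 := rfl
theorem F158415 : act 5 n96781 = n103144 := d21_6 F29677 (iv1 D10307) D10309 D21581 D45227 D96781 (iv1 D103144) (iv5 D47813) (iv6 D23011) (iv1 F29675)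
def n103145 : Q := act 4 n47813
theorem D103145 : act 4 n47813 = n103145 := rfl
def n103146 : Q := act 7 n47813
theorem D103146 : act 7 n47813 = n103146 := rfl
theorem F158416 : act 5 n103146 = n47814 := d13_1 D103146 (iv7 D47814) D47813
def n103149 : Q := act 3 n47815
theorem D103149 : act 3 n47815 = n103149 := rfl
theorem F158419 : act 7 n103149 = n47821 := d8_2 F75109 D103149 (iv3 D47821)
def n103150 : Q := act 4 n47815
theorem D103150 : act 4 n47815 = n103150 := rfl
theorem F158420 : act 2 n103150 = n47817 := d1_1 D103150 (iv4 D47817) D47815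
theorem F158421 : act 7 n103150 = n47822 := d11_2 F75109 D103150 (iv4 D47822)
def n103151 : Q := act 5 n47815
theorem D103151 : act 5 n47815 = n103151 := rfl
theorem F158422 : act 2 n103151 = n47818 := d2_1 D103151 (iv5 D47818) D47815
theorem F158423 : act 7 n103151 = n47823 := d13_2 F75109 D103151 (iv5 D47823)
def n103152 : Q := act 6 n47815
theorem D103152 : act 6 n47815 = n103152 := rfl
theorem F158424 : act 2 n103152 = n47819 := d3_1 D103152 (iv6 D47819) D47815
def n103153 : Q := act 0 n47816
theorem D103153 : act 0 n47816 = n103153 := rfl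
def n103154 : Q := act 1 n47816
theorem D103154 : act 1 n47816 = n103154 := rfl
def n103155 : Q := act 2 n47816
theorem D103155 : act 2 n47816 = n103155 := rfl
def n103156 : Q := act 4 n47816
theorem D103156 : act 4 n47816 = n103156 := rfl
def n103157 : Q := act 5 n47816
theorem D103157 : act 5 n47816 = n103157 := rfl
theorem F158425 : act 3 n103157 = n47818 := d6_1 D103157 (iv5 D47818) D47816
def n103158 : Q := act 6 n47816
theorem D103158 : act 6 n47816 = n103158 := rfl
theorem F158426 : act 3 n103158 = n47819 := d7_1 D103158 (iv6 D47819) D47816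
def n103159 : Q := act 7 n47816
theorem D103159 : act 7 n47816 = n103159 := rfl
def n103160 : Q := act 0 n47817
theorem D103160 : act 0 n47817 = n103160 := rfl
def n103161 : Q := act 1 n47817
theorem D103161 : act 1 n47817 = n103161 := rfl
def n103162 : Q := act 3 n47817
theorem D103162 : act 3 n47817 = n103162 := rfl
theorem F158429 : act 0 n55095 = n103162 := d20_4 F85773 (iv1 D26626) D26627 D55095 (iv3 D103162) (iv4 D47817) (iv1 F75033) (iv4 F91931) F91930 (iv1 F85771)
def n103163 : Q := act 5 n47817
theorem D103163 : act 5 n47817 = n103163 := rfl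
def n103164 : Q := act 6 n47817
theorem D103164 : act 6 n47817 = n103164 := rfl
def n103165 : Q := act 7 n47817
theorem D103165 : act 7 n47817 = n103165 := rfl
theorem F158431 : act 2 n103165 = n47822 := d4_1 D103165 (iv7 F158421) F158420
theorem F158433 : act 1 n47822 = n103160 := d15_0 (iv0 D103160) D103165 F158431
def n103166 : Q := act 0 n47818
theorem D103166 : act 0 n47818 = n103166 := rfl
theorem F158434 : act 5 n103166 = n95868 := d21_2 D47818 D103166 (iv6 D95868) (iv1 D44760) (iv6 D21319) F16012 (iv1 D4949) D4950 D10859 D23012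
def n103167 : Q := act 1 n47818
theorem D103167 : act 1 n47818 = n103167 := rfl
theorem F158435 : act 1 n103167 = n47823 := d15_1 D103167 (iv7 F158423) F158422
def n103168 : Q := act 4 n47818
theorem D103168 : act 4 n47818 = n103168 := rfl
def n103169 : Q := act 6 n47818
theorem D103169 : act 6 n47818 = n103169 := rfl
def n103170 : Q := act 7 n47818
theorem D103170 : act 7 n47818 = n103170 := rfl
theorem F158436 : act 2 n103170 = n47823 := d4_1 D103170 (iv7 F158423) F158422
theorem F158437 : act 5 n103170 = n47820 := d13_1 D103170 (iv7 D47820) D47818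
theorem F158438 : act 1 n47823 = n103166 := d15_0 (iv0 D103166) D103170 F158436
def n103171 : Q := act 0 n47819
theorem D103171 : act 0 n47819 = n103171 := rfl
def n103172 : Q := act 1 n47819
theorem D103172 : act 1 n47819 = n103172 := rfl
def n103173 : Q := act 7 n47819
theorem D103173 : act 7 n47819 = n103173 := rfl
def n103175 : Q := act 0 n47821
theorem D103175 : act 0 n47821 = n103175 := rfl
def n103176 : Q := act 1 n47821
theorem D103176 : act 1 n47821 = n103176 := rfl
def n103177 : Q := act 2 n47821
theorem D103177 : act 2 n47821 = n103177 := rfl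
def n103178 : Q := act 4 n47821
theorem D103178 : act 4 n47821 = n103178 := rfl
def n103179 : Q := act 5 n47821
theorem D103179 : act 5 n47821 = n103179 := rfl
theorem F158440 : act 3 n103179 = n47823 := d6_1 D103179 (iv5 D47823) D47821
def n103180 : Q := act 6 n47821
theorem D103180 : act 6 n47821 = n103180 := rfl
def n103181 : Q := act 3 n47822
theorem D103181 : act 3 n47822 = n103181 := rfl
def n103184 : Q := act 4 n47823
theorem D103184 : act 4 n47823 = n103184 := rfl
def n103185 : Q := act 6 n47823
theorem D103185 : act 6 n47823 = n103185 := rfl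
def n103186 : Q := act 0 n47824
theorem D103186 : act 0 n47824 = n103186 := rfl
theorem F158443 : act 5 n103186 = n97223 := d21_0 (iv1 F149976) F147534 (iv6 F71672) (iv1 F71674) D95868 (iv5 F158434) (iv1 F158438) (iv5 D47823) D47824 D103186
def n103190 : Q := act 2 n47825
theorem D103190 : act 2 n47825 = n103190 := rfl
theorem F158445 : act 7 n47826 = n103190 := d15_2 (iv0 D47825) D47826 (iv2 D103190)
def n103191 : Q := act 3 n47825
theorem D103191 : act 3 n47825 = n103191 := rfl
def n103192 : Q := act 4 n47825
theorem D103192 : act 4 n47825 = n103192 := rfl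
def n103193 : Q := act 5 n47825
theorem D103193 : act 5 n47825 = n103193 := rfl
def n103194 : Q := act 6 n47825
theorem D103194 : act 6 n47825 = n103194 := rfl
def n103195 : Q := act 7 n47825
theorem D103195 : act 7 n47825 = n103195 := rfl
theorem F158446 : act 2 n103195 = n47826 := d4_1 D103195 F158445 (iv2 D103190)
def n103196 : Q := act 3 n47826
theorem D103196 : act 3 n47826 = n103196 := rfl
def n103197 : Q := act 4 n47826
theorem D103197 : act 4 n47826 = n103197 := rfl
def n103198 : Q := act 6 n47826
theorem D103198 : act 6 n47826 = n103198 := rfl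
def n103199 : Q := act 0 n47827
theorem D103199 : act 0 n47827 = n103199 := rfl
def n103200 : Q := act 1 n47827
theorem D103200 : act 1 n47827 = n103200 := rfl
def n103201 : Q := act 3 n47827
theorem D103201 : act 3 n47827 = n103201 := rfl
theorem F158447 : act 6 n103201 = n47856 := d7_2 (iv6 F75111) D103201 (iv3 D47856)
def n103202 : Q := act 5 n47827
theorem D103202 : act 5 n47827 = n103202 := rfl
def n103203 : Q := act 7 n47827
theorem D103203 : act 7 n47827 = n103203 := rfl
theorem F158448 : act 4 n103203 = n47828 := d11_1 D103203 (iv7 D47828) D47827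
def n103204 : Q := act 6 n47828
theorem D103204 : act 6 n47828 = n103204 := rfl
theorem F158449 : act 7 n103204 = n47859 := d14_2 D47828 D103204 (iv6 D47859) (iv7 D23025) (iv6 F36072)
def n103205 : Q := act 4 n47829
theorem D103205 : act 4 n47829 = n103205 := rfl
theorem F158450 : act 2 n103205 = n99518 := d1_1 D103205 F157781 (iv2 F154116)
theorem F158451 : act 3 n103205 = n92830 := d5_1 D103205 (iv4 D92830) F138903 F138902 (iv3 F138904)
theorem F158452 : act 7 n103205 = n99513 := d11_2 F157758 D103205 F153283
theorem F158453 : act 0 n99515 = n103205 := d20_1 (iv4 F157793) (iv4 D103205) F138904 (iv1 D48057) (iv3 D23186) F62970 (iv1 D19303) (iv4 F30956) (iv3 F62125) D87857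
theorem F158454 : act 1 n99516 = n103205 := d15_0 (iv0 F158453) F157794 (iv2 F157787)
theorem F158455 : act 3 n87858 = n96206 := d20_3 D103205 (iv1 F158454) F157789 (iv1 D96206) F70587 F33675 (iv1 F66030) (iv4 F35765) D23016 D47829
def n103206 : Q := act 5 n47829
theorem D103206 : act 5 n47829 = n103206 := rfl
def n103207 : Q := act 5 n47831
theorem D103207 : act 5 n47831 = n103207 := rfl
theorem F158456 : act 2 n103207 = n47832 := d2_1 D103207 (iv5 D47832) D47831
def n103208 : Q := act 6 n47831
theorem D103208 : act 6 n47831 = n103208 := rfl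
theorem F158457 : act 2 n103208 = n47833 := d3_1 D103208 (iv6 D47833) D47831
theorem F158458 : act 4 n103208 = n87885 := d10_1 D103208 (iv6 D87885) (iv4 F75113)
def n103209 : Q := act 0 n47832
theorem D103209 : act 0 n47832 = n103209 := rfl
def n103210 : Q := act 1 n47832
theorem D103210 : act 1 n47832 = n103210 := rfl
def n103211 : Q := act 4 n47832
theorem D103211 : act 4 n47832 = n103211 := rfl
def n103212 : Q := act 6 n47832
theorem D103212 : act 6 n47832 = n103212 := rfl
theorem F158459 : act 3 n103212 = n47837 := d7_1 D103212 (iv6 D47837) (iv3 F75114)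
def n103213 : Q := act 0 n47833
theorem D103213 : act 0 n47833 = n103213 := rfl
def n103214 : Q := act 1 n47833
theorem D103214 : act 1 n47833 = n103214 := rfl
def n103215 : Q := act 3 n47834
theorem D103215 : act 3 n47834 = n103215 := rfl
theorem F158460 : act 5 n103215 = n89890 := d6_2 (iv5 F75116) D103215 F137996
def n103216 : Q := act 4 n47834
theorem D103216 : act 4 n47834 = n103216 := rfl
theorem F158461 : act 2 n103216 = n89924 := d1_1 D103216 (iv4 D89924) F75118
theorem F158462 : act 0 n103216 = n47896 := d18_2 D47834 D103216 (iv4 D47896) (iv5 D23059) (iv4 D10871) F17651 (iv4 F36041) F36043 D23017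
theorem F158463 : act 1 n103216 = n47871 := d18_6 (iv1 D45501) F34161 (iv1 F63360) (iv4 F64813) (iv5 F75116) D103216 (iv4 D47871) D47870 (iv5 F75146)
def n103217 : Q := act 6 n47834
theorem D103217 : act 6 n47834 = n103217 := rfl
theorem F158464 : act 2 n103217 = n89920 := d3_1 D103217 F138084 F75118
theorem F158465 : act 5 n103217 = n89892 := d12_1 D103217 (iv6 D89892) (iv5 D42001) D42002 (iv5 F75116)
def n103218 : Q := act 4 n47835
theorem D103218 : act 4 n47835 = n103218 := rfl
theorem F158467 : act 0 n103218 = n47871 := d18_2 (iv1 F75119) D103218 (iv4 D47871) (iv5 D23041) (iv4 D10866) (iv0 D4952) (iv4 F7372) D10861 D23020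
theorem F158468 : act 1 n103218 = n47896 := d18_6 (iv1 F138023) (iv4 D89896) (iv1 F64828) (iv4 F64860) F75121 D103218 (iv4 D47896) F75144 F75143
def n103219 : Q := act 6 n47835
theorem D103219 : act 6 n47835 = n103219 := rfl
def n103220 : Q := act 0 n47836
theorem D103220 : act 0 n47836 = n103220 := rfl
theorem F158469 : act 4 n103220 = n95624 := d18_3 (iv1 D47835) D47836 D103220 (iv5 D95624) F70206 F74004 F62908 (iv0 F71716) F75121
theorem F158470 : act 1 n47843 = n103220 := d15_0 (iv0 D103220) (iv7 F158285) F158284
def n103221 : Q := act 1 n47836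
theorem D103221 : act 1 n47836 = n103221 := rfl
theorem F158471 : act 1 n103221 = n47843 := d15_1 D103221 (iv7 F139650) F139649
theorem F158472 : act 4 n103221 = n103055 := d18_7 F66356 F33675 (iv1 F66030) (iv4 F35765) D23017 D47836 D103221 F158308 (iv5 D47781)
def n103222 : Q := act 3 n47836
theorem D103222 : act 3 n47836 = n103222 := rfl
def n103223 : Q := act 5 n47836
theorem D103223 : act 5 n47836 = n103223 := rfl
theorem F158473 : act 4 n103223 = n47927 := d16_2 D47836 D103223 F139004 (iv4 D90339) (iv5 D42234) F31764 D23020 (iv7 F65626) F65625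
def n103224 : Q := act 6 n47836
theorem D103224 : act 6 n47836 = n103224 := rfl
theorem F158474 : act 4 n103224 = n47837 := d10_1 D103224 (iv6 D47837) D47836
def n103225 : Q := act 0 n47837
theorem D103225 : act 0 n47837 = n103225 := rfl
def n103226 : Q := act 1 n47837
theorem D103226 : act 1 n47837 = n103226 := rfl
def n103227 : Q := act 7 n47837
theorem D103227 : act 7 n47837 = n103227 := rfl
def n103228 : Q := act 3 n47838
theorem D103228 : act 3 n47838 = n103228 := rfl
theorem F158475 : act 4 n103228 = n87799 := d5_2 F139638 D103228 F154428 (iv4 F153028) (iv3 D92864)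
def n103230 : Q := act 6 n47838
theorem D103230 : act 6 n47838 = n103230 := rfl
theorem F158476 : act 4 n103230 = n92866 := d10_1 D103230 (iv6 D92866) F139638
def n103231 : Q := act 5 n47839
theorem D103231 : act 5 n47839 = n103231 := rfl
def n103232 : Q := act 6 n47839
theorem D103232 : act 6 n47839 = n103232 := rfl
def n103233 : Q := act 5 n47840
theorem D103233 : act 5 n47840 = n103233 := rfl
theorem F158478 : act 2 n103233 = n47841 := d2_1 D103233 (iv5 D47841) D47840
def n103234 : Q := act 6 n47840
theorem D103234 : act 6 n47840 = n103234 := rfl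
theorem F158479 : act 2 n103234 = n47842 := d3_1 D103234 (iv6 D47842) D47840
def n103235 : Q := act 0 n47841
theorem D103235 : act 0 n47841 = n103235 := rfl
def n103236 : Q := act 1 n47841
theorem D103236 : act 1 n47841 = n103236 := rfl
def n103237 : Q := act 4 n47841
theorem D103237 : act 4 n47841 = n103237 := rfl
def n103238 : Q := act 6 n47841
theorem D103238 : act 6 n47841 = n103238 := rfl
theorem F158480 : act 3 n103238 = n47844 := d7_1 D103238 (iv6 D47844) (iv3 F75122)
def n103239 : Q := act 0 n47842
theorem D103239 : act 0 n47842 = n103239 := rfl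
def n103240 : Q := act 1 n47842
theorem D103240 : act 1 n47842 = n103240 := rfl
theorem F158481 : act 4 n76316 = n103240 := d20_6 (iv4 F139586) (iv1 F139590) (iv4 F135493) (iv3 F157847) F157850 (iv3 F145328) (iv1 D103240) (iv4 F139018) F139017 (iv1 F138596)
theorem F158482 : act 2 n103240 = n76465 := d1_1 F158481 (iv4 D76465) (iv2 F153438)
theorem F158483 : act 7 n103240 = n76448 := d11_2 (iv7 F153439) F158481 (iv4 D76448)
theorem F158484 : act 2 n76448 = n103239 := d15_3 (iv0 D103239) D103240 F158483
theorem F158485 : act 7 n76465 = n103239 := d4_2 (iv7 F158483) F158482 (iv2 F158484)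
theorem F158486 : act 4 n103239 = n76311 := d11_1 F158485 F153453 D76465
theorem F158487 : act 5 n95803 = n103239 := d17_3 (iv1 D44739) D44740 D95803 F158486 (iv5 D76311) (iv0 D34863) (iv5 F33112) D44062 F136673
def n103241 : Q := act 5 n47842
theorem D103241 : act 5 n47842 = n103241 := rfl
theorem F158488 : act 3 n103241 = n47846 := d6_1 D103241 (iv5 D47846) (iv3 F75123)
def n103242 : Q := act 7 n47842
theorem D103242 : act 7 n47842 = n103242 := rfl
theorem F158489 : act 3 n103242 = n47847 := d8_1 D103242 (iv7 D47847) (iv3 F75123)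
theorem F158490 : act 4 n103242 = n94037 := d11_1 D103242 F144877 F139018
theorem F158491 : act 6 n103242 = n93993 := d14_1 D103242 F144816 F76244 F65624 D47842
def n103243 : Q := act 3 n47843
theorem D103243 : act 3 n47843 = n103243 := rfl
def n103244 : Q := act 5 n47843
theorem D103244 : act 5 n47843 = n103244 := rfl
theorem F158492 : act 4 n103244 = n47926 := d9_1 D103244 (iv5 F139629) (iv4 D90721) (iv5 D42474) (iv4 F35765) D23017 D47836 D103223 F158473 F139004 (iv4 D90339) (iv5 D42234) F31764 D23020 D47843
def n103245 : Q := act 6 n47843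
theorem D103245 : act 6 n47843 = n103245 := rfl
theorem F158493 : act 4 n103245 = n47844 := d10_1 D103245 (iv6 D47844) D47843
def n103246 : Q := act 0 n47844
theorem D103246 : act 0 n47844 = n103246 := rfl
def n103247 : Q := act 1 n47844
theorem D103247 : act 1 n47844 = n103247 := rfl
def n103248 : Q := act 5 n47844
theorem D103248 : act 5 n47844 = n103248 := rfl
theorem F158494 : act 6 n103248 = n47846 := d12_2 D47844 D103248 (iv5 D47846) (iv6 D23021) D23020
def n103249 : Q := act 7 n47844
theorem D103249 : act 7 n47844 = n103249 := rfl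
def n103250 : Q := act 4 n47846
theorem D103250 : act 4 n47846 = n103250 := rfl
theorem F158495 : act 0 n103250 = n95683 := d18_2 F75124 D103250 (iv4 D95683) (iv5 D44690) F63429 F63710 (iv4 F33520) (iv0 F63254) D45353
theorem F158496 : act 1 n103250 = n95676 := d18_6 (iv1 F75224) (iv4 F125245) (iv1 F125249) F65226 D47846 D103250 (iv4 D95676) D95675 F147369
def n103251 : Q := act 0 n47848
theorem D103251 : act 0 n47848 = n103251 := rfl
def n103252 : Q := act 2 n47848
theorem D103252 : act 2 n47848 = n103252 := rfl
def n103253 : Q := act 4 n47848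
theorem D103253 : act 4 n47848 = n103253 := rfl
def n103254 : Q := act 6 n47848
theorem D103254 : act 6 n47848 = n103254 := rfl
theorem F158497 : act 3 n103254 = n47850 := d7_1 D103254 (iv6 D47850) D47848
def n103255 : Q := act 0 n47849
theorem D103255 : act 0 n47849 = n103255 := rfl
theorem F158498 : act 4 n103255 = n95296 := d18_3 D23022 D47849 D103255 F146941 F70030 (iv0 F66029) (iv4 F35765) (iv0 D10860) D10862
theorem F158499 : act 1 n47852 = n103255 := d15_0 (iv0 D103255) (iv7 F150090) F150089
theorem F158500 : act 7 n103255 = n95295 := d15_2 F147963 F158499 (iv2 F147961)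
def n103256 : Q := act 3 n47849
theorem D103256 : act 3 n47849 = n103256 := rfl
def n103257 : Q := act 5 n47849
theorem D103257 : act 5 n47849 = n103257 := rfl
theorem F158501 : act 4 n103257 = n47919 := d16_2 D47849 D103257 (iv5 D47919) (iv4 F65240) F65238 F64855 F64858 (iv7 F75043) F75044
def n103258 : Q := act 6 n47849
theorem D103258 : act 6 n47849 = n103258 := rfl
theorem F158502 : act 4 n103258 = n47850 := d10_1 D103258 (iv6 D47850) D47849
def n103259 : Q := act 0 n47850
theorem D103259 : act 0 n47850 = n103259 := rfl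
def n103260 : Q := act 1 n47850
theorem D103260 : act 1 n47850 = n103260 := rfl
def n103261 : Q := act 7 n47850
theorem D103261 : act 7 n47850 = n103261 := rfl
def n103262 : Q := act 1 n47851
theorem D103262 : act 1 n47851 = n103262 := rfl
def n103263 : Q := act 2 n47851
theorem D103263 : act 2 n47851 = n103263 := rfl
def n103264 : Q := act 4 n47851
theorem D103264 : act 4 n47851 = n103264 := rfl
def n103265 : Q := act 6 n47851
theorem D103265 : act 6 n47851 = n103265 := rfl
theorem F158503 : act 3 n103265 = n47853 := d7_1 D103265 (iv6 D47853) D47851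
def n103266 : Q := act 3 n47852
theorem D103266 : act 3 n47852 = n103266 := rfl
def n103267 : Q := act 5 n47852
theorem D103267 : act 5 n47852 = n103267 := rfl
theorem F158504 : act 4 n103267 = n47916 := d9_1 D103267 (iv5 D47916) F66371 (iv5 F133580) (iv4 F133579) F75046 D47849 D103257 F158501 (iv5 D47919) (iv4 F65240) F65238 F64855 F64858 D47852
def n103268 : Q := act 6 n47852
theorem D103268 : act 6 n47852 = n103268 := rfl
theorem F158505 : act 4 n103268 = n47853 := d10_1 D103268 (iv6 D47853) D47852
def n103269 : Q := act 0 n47853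
theorem D103269 : act 0 n47853 = n103269 := rfl
def n103270 : Q := act 1 n47853
theorem D103270 : act 1 n47853 = n103270 := rfl
def n103271 : Q := act 7 n47853
theorem D103271 : act 7 n47853 = n103271 := rfl
def n103272 : Q := act 3 n47854
theorem D103272 : act 3 n47854 = n103272 := rfl
def n103273 : Q := act 5 n47854
theorem D103273 : act 5 n47854 = n103273 := rfl
theorem F158506 : act 4 n103273 = n47913 := d16_2 F138131 D103273 (iv5 D47913) (iv4 D23074) (iv5 F64825) D42025 D89937 (iv7 F147960) (iv2 F147958)
def n103274 : Q := act 6 n47854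
theorem D103274 : act 6 n47854 = n103274 := rfl
def n103275 : Q := act 3 n47855
theorem D103275 : act 3 n47855 = n103275 := rfl
def n103276 : Q := act 5 n47855
theorem D103276 : act 5 n47855 = n103276 := rfl
def n103277 : Q := act 6 n47855
theorem D103277 : act 6 n47855 = n103277 := rfl
def n103278 : Q := act 0 n47856
theorem D103278 : act 0 n47856 = n103278 := rfl
def n103279 : Q := act 1 n47856
theorem D103279 : act 1 n47856 = n103279 := rfl
def n103280 : Q := act 2 n47856
theorem D103280 : act 2 n47856 = n103280 := rfl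
def n103281 : Q := act 5 n47856
theorem D103281 : act 5 n47856 = n103281 := rfl
theorem F158508 : act 3 n103281 = n47857 := d6_1 D103281 (iv5 D47857) D47856
def n103282 : Q := act 7 n47856
theorem D103282 : act 7 n47856 = n103282 := rfl
theorem F158509 : act 3 n103282 = n47858 := d8_1 D103282 (iv7 D47858) D47856
def n103283 : Q := act 0 n47857
theorem D103283 : act 0 n47857 = n103283 := rfl
theorem F158510 : act 5 n103283 = n47871 := d17_3 (iv1 D47855) D47857 D103283 (iv4 D47871) (iv5 D23041) (iv0 F66025) D44515 (iv0 F138134) (iv4 F138136)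
theorem F158511 : act 4 n103283 = n47902 := d18_3 (iv1 F158364) F158361 D103283 (iv5 D47902) (iv4 D23061) (iv0 F36096) D47875 (iv0 F139630) F139629
def n103284 : Q := act 1 n47857
theorem D103284 : act 1 n47857 = n103284 := rfl
theorem F158514 : act 5 n103284 = n47896 := d17_7 (iv1 F75117) (iv5 D23020) (iv1 D10861) D10862 D23024 D47857 D103284 (iv0 F158462) (iv4 D103216)
theorem F158515 : act 4 n103284 = n47880 := d18_7 F73259 (iv4 D23069) (iv1 F36061) (iv4 F75082) (iv5 F158362) F158361 D103284 (iv0 F148546) (iv5 D96460)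
def n103285 : Q := act 6 n47857
theorem D103285 : act 6 n47857 = n103285 := rfl
def n103286 : Q := act 6 n47858
theorem D103286 : act 6 n47858 = n103286 := rfl
theorem F158516 : act 4 n103286 = n47859 := d10_1 D103286 (iv6 D47859) (iv4 F75131)
def n103287 : Q := act 0 n47859
theorem D103287 : act 0 n47859 = n103287 := rfl
def n103288 : Q := act 1 n47859
theorem D103288 : act 1 n47859 = n103288 := rfl
def n103290 : Q := act 0 n47862
theorem D103290 : act 0 n47862 = n103290 := rfl
theorem F158518 : act 4 n103290 = n99484 := d20_2 (iv4 F75137) D103290 (iv3 D99484) (iv1 D46509) F34792 (iv4 F32422) F62960 (iv4 D22524) D22523 F66960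
theorem F158519 : act 3 n103290 = n103025 := d20_5 (iv4 D20052) D20049 F65545 D47862 D103290 (iv4 D103025) (iv1 D47765) F36034 F36033 F31879
theorem F158520 : act 1 n96204 = n103290 := d15_0 (iv0 D103290) F75138 (iv2 F147953)
def n103291 : Q := act 1 n47862
theorem D103291 : act 1 n47862 = n103291 := rfl
theorem F158521 : act 4 n99870 = n103291 := d20_6 (iv4 F66124) (iv1 D10646) (iv4 F17190) (iv3 F34914) D46642 D99870 (iv1 D103291) F75137 (iv3 D42747) (iv1 F66053)
theorem F158522 : act 0 n96204 = n103291 := d20_1 (iv4 F147955) (iv4 F158521) (iv3 D99870) (iv1 F126437) (iv3 F134957) (iv4 F142698) (iv1 F142700) (iv4 F74118) (iv3 F140417) (iv1 F140416)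
def n103292 : Q := act 2 n47862
theorem D103292 : act 2 n47862 = n103292 := rfl
theorem F158523 : act 3 n103292 = n96351 := d0_2 D47862 D103292 F148295 F74217 F70029
theorem F158524 : act 4 n103292 = n91342 := d1_2 (iv4 F75137) D103292 (iv2 D91342)
theorem F158525 : act 6 n103292 = n100164 := d3_2 F75550 D103292 F154093
theorem F158526 : act 7 n103292 = n96204 := d4_2 (iv7 F75138) D103292 F147953
theorem F158527 : act 1 n103292 = n96205 := d15_0 (iv0 D96205) (iv7 F75138) D103292
theorem F158528 : act 1 n96206 = n103292 := d15_1 D96206 F158526 F147953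
def n103293 : Q := act 5 n47862
theorem D103293 : act 5 n47862 = n103293 := rfl
theorem F158529 : act 3 n103293 = n47863 := d6_1 D103293 (iv5 D47863) D47862
def n103294 : Q := act 4 n47863
theorem D103294 : act 4 n47863 = n103294 := rfl
theorem F158533 : act 0 n103294 = n97343 := d18_2 F138129 D103294 (iv4 D97343) (iv5 D45463) (iv4 F62908) F74003 (iv4 F138121) (iv0 D89933) D89935
def n103295 : Q := act 6 n47863
theorem D103295 : act 6 n47863 = n103295 := rfl
def n103296 : Q := act 2 n47864
theorem D103296 : act 2 n47864 = n103296 := rfl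
def n103298 : Q := act 6 n47864
theorem D103298 : act 6 n47864 = n103298 := rfl
def n103299 : Q := act 7 n47864
theorem D103299 : act 7 n47864 = n103299 := rfl
def n103300 : Q := act 3 n47865
theorem D103300 : act 3 n47865 = n103300 := rfl
theorem F158537 : act 0 n103300 = n103022 := d20_4 (iv4 F68028) D92630 F142731 D103300 F158270 (iv4 F157793) F158453 (iv4 D103205) F138904 (iv1 D48057)
def n103303 : Q := act 5 n47866
theorem D103303 : act 5 n47866 = n103303 := rfl
def n103304 : Q := act 6 n47866
theorem D103304 : act 6 n47866 = n103304 := rfl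
theorem F158539 : act 2 n103304 = n47868 := d3_1 D103304 (iv6 D47868) D47866
theorem F158540 : act 3 n103304 = n96129 := d7_1 D103304 F147778 F147089
theorem F158541 : act 7 n96095 = n103304 := d4_0 F158539 (iv7 F75142) D96095
theorem F158543 : act 1 n96094 = n103304 := d15_1 D96094 (iv7 F158541) (iv2 D96095)
def n103305 : Q := act 0 n47867
theorem D103305 : act 0 n47867 = n103305 := rfl
def n103306 : Q := act 1 n47867
theorem D103306 : act 1 n47867 = n103306 := rfl
def n103307 : Q := act 4 n47867
theorem D103307 : act 4 n47867 = n103307 := rfl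
def n103308 : Q := act 6 n47867
theorem D103308 : act 6 n47867 = n103308 := rfl
def n103309 : Q := act 0 n47868
theorem D103309 : act 0 n47868 = n103309 := rfl
theorem F158545 : act 1 n96095 = n103309 := d15_0 (iv0 D103309) (iv7 F75142) D96095
def n103310 : Q := act 1 n47868
theorem D103310 : act 1 n47868 = n103310 := rfl
theorem F158546 : act 1 n103310 = n96095 := d15_1 D103310 F158541 F158539
def n103311 : Q := act 5 n47868
theorem D103311 : act 5 n47868 = n103311 := rfl
theorem F158547 : act 3 n103311 = n47874 := d6_1 D103311 (iv5 D47874) (iv3 F75141)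
theorem F158548 : act 7 n103311 = n96096 := d13_2 F75142 D103311 (iv5 D96096)
def n103312 : Q := act 3 n47869
theorem D103312 : act 3 n47869 = n103312 := rfl
theorem F158549 : act 5 n103312 = n97075 := d6_2 (iv5 F75143) D103312 F149752
def n103313 : Q := act 4 n47869
theorem D103313 : act 4 n47869 = n103313 := rfl
theorem F158551 : act 7 n103313 = n103221 := d11_2 F158309 D103313 F158472
def n103314 : Q := act 6 n47869
theorem D103314 : act 6 n47869 = n103314 := rfl
theorem F158554 : act 5 n103314 = n97077 := d12_1 D103314 (iv6 D97077) (iv5 D45376) D45377 (iv5 F75143)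
def n103315 : Q := act 3 n47870
theorem D103315 : act 3 n47870 = n103315 := rfl
theorem F158555 : act 5 n103315 = n97442 := d6_2 F75146 D103315 (iv3 D97442)
def n103316 : Q := act 4 n47870
theorem D103316 : act 4 n47870 = n103316 := rfl
theorem F158557 : act 7 n103316 = n103220 := d11_2 F147301 D103316 F158469
theorem F158558 : act 0 n103316 = n90727 := d18_2 (iv1 F75145) D103316 (iv4 D90727) (iv5 D42477) (iv4 D20052) (iv0 F66016) (iv4 F33417) F66026 D23059
theorem F158559 : act 1 n103316 = n103044 := d18_6 D42014 F133579 (iv1 F133577) (iv4 F71754) F75146 D103316 (iv4 D103044) F75036 (iv5 D42016)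
def n103317 : Q := act 6 n47870
theorem D103317 : act 6 n47870 = n103317 := rfl
theorem F158560 : act 5 n103317 = n96394 := d12_1 D103317 (iv6 D96394) F70793 F71752 F75146
def n103318 : Q := act 3 n47871
theorem D103318 : act 3 n47871 = n103318 := rfl
def n103319 : Q := act 6 n47871
theorem D103319 : act 6 n47871 = n103319 := rfl
theorem F158561 : act 4 n103319 = n47872 := d10_1 D103319 (iv6 D47872) D47871
def n103320 : Q := act 0 n47872
theorem D103320 : act 0 n47872 = n103320 := rfl
def n103321 : Q := act 1 n47872
theorem D103321 : act 1 n47872 = n103321 := rfl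
def n103322 : Q := act 5 n47872
theorem D103322 : act 5 n47872 = n103322 := rfl
theorem F158562 : act 2 n103322 = n96131 := d2_1 D103322 (iv5 F158316) F158315
theorem F158563 : act 6 n103322 = n47874 := d12_2 D47872 D103322 (iv5 D47874) (iv6 D23042) D23041
def n103323 : Q := act 7 n47872
theorem D103323 : act 7 n47872 = n103323 := rfl
def n103324 : Q := act 3 n47873
theorem D103324 : act 3 n47873 = n103324 := rfl
theorem F158565 : act 5 n103324 = n96077 := d6_2 F75151 D103324 (iv3 D96077)
theorem F158566 : act 6 n103324 = n101974 := d7_2 F75583 D103324 F156946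
theorem F158568 : act 0 n103324 = n97509 := d20_4 (iv4 F66251) (iv1 F66276) (iv4 F75149) D103324 (iv3 D97509) (iv4 D45541) F66738 (iv4 F36752) F36751 D23623
def n103325 : Q := act 3 n47875
theorem D103325 : act 3 n47875 = n103325 := rfl
theorem F158569 : act 4 n103325 = n103325 := d5_2 D47875 D103325 (iv3 D103325) (iv4 D47875) F63273
theorem F158570 : act 6 n103325 = n97020 := d7_2 (iv6 F75156) D103325 (iv3 D97020)
def n103326 : Q := act 5 n47875
theorem D103326 : act 5 n47875 = n103326 := rfl
def n103328 : Q := act 3 n47877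
theorem D103328 : act 3 n47877 = n103328 := rfl
theorem F158577 : act 4 n103328 = n91385 := d5_2 (iv4 F75159) D103328 (iv3 D91385) (iv4 D42769) F66368
def n103329 : Q := act 5 n47877
theorem D103329 : act 5 n47877 = n103329 := rfl
def n103330 : Q := act 3 n47878
theorem D103330 : act 3 n47878 = n103330 := rfl
theorem F158580 : act 4 n103330 = n100252 := d5_2 F75162 D103330 (iv3 D100252) F73896 F71759
def n103331 : Q := act 5 n47878
theorem D103331 : act 5 n47878 = n103331 := rfl
def n103332 : Q := act 0 n47879
theorem D103332 : act 0 n47879 = n103332 := rfl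
def n103333 : Q := act 1 n47879
theorem D103333 : act 1 n47879 = n103333 := rfl
def n103334 : Q := act 2 n47879
theorem D103334 : act 2 n47879 = n103334 := rfl
def n103335 : Q := act 5 n47879
theorem D103335 : act 5 n47879 = n103335 := rfl
theorem F158583 : act 3 n103335 = n47880 := d6_1 D103335 (iv5 D47880) D47879
def n103337 : Q := act 0 n47880
theorem D103337 : act 0 n47880 = n103337 := rfl
theorem F158585 : act 5 n103337 = n47906 := d17_1 D103337 (iv1 F75230) D47913 (iv4 F158506) (iv5 D103273) (iv0 D47854) D47857 D103284 F158515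
theorem F158586 : act 1 n47902 = n103337 := d15_0 (iv0 D103337) (iv7 F158333) F158332
def n103338 : Q := act 6 n47880
theorem D103338 : act 6 n47880 = n103338 := rfl
def n103339 : Q := act 1 n47881
theorem D103339 : act 1 n47881 = n103339 := rfl
theorem F158590 : act 4 n81423 = n103339 := d20_0 (iv1 D103339) F75164 (iv3 F74898) (iv1 D47631) F35991 D22930 (iv1 F74888) (iv4 F76264) (iv3 F76262) (iv1 F125242)
theorem F158592 : act 5 n103339 = n96422 := d17_5 F67686 (iv5 D37185) D37183 D81423 F158590 (iv0 D96422) (iv5 D45022) D45020 F70820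
def n103340 : Q := act 5 n47881
theorem D103340 : act 5 n47881 = n103340 := rfl
theorem F158594 : act 0 n103340 = n95382 := d17_2 (iv1 D103339) D103340 (iv5 D95382) F70829 D90408 F139141 F68950 (iv0 F125240) F158590
theorem F158595 : act 1 n103340 = n95385 := d17_6 (iv1 F63219) F17955 D19780 F63236 (iv4 F75164) D103340 (iv5 D95385) F70827 F70824
def n103341 : Q := act 5 n47882
theorem D103341 : act 5 n47882 = n103341 := rfl
theorem F158596 : act 3 n103341 = n47883 := d6_1 D103341 (iv5 D47883) D47882
theorem F158597 : act 7 n103341 = n87800 := d13_2 (iv7 F75166) D103341 (iv5 D87800)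
def n103342 : Q := act 6 n47882
theorem D103342 : act 6 n47882 = n103342 := rfl
theorem F158598 : act 2 n103342 = n102637 := d3_1 D103342 F157840 F154424
theorem F158599 : act 3 n103342 = n47884 := d7_1 D103342 (iv6 D47884) D47882
def n103343 : Q := act 4 n47883
theorem D103343 : act 4 n47883 = n103343 := rfl
theorem F158601 : act 2 n103343 = n87805 := d1_1 D103343 (iv4 D87805) (iv2 F75167)
theorem F158602 : act 7 n103343 = n87803 := d11_2 (iv7 F75168) D103343 (iv4 D87803)
theorem F158603 : act 0 n103343 = n91362 := d18_2 F146081 D103343 (iv4 D91362) D91363 (iv4 F147753) (iv0 F147757) (iv4 F134778) F134779 D94765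
theorem F158604 : act 1 n103343 = n91366 := d18_6 (iv1 F66091) F65651 F65647 D23055 D47883 D103343 (iv4 D91366) F66999 (iv5 D40936)
def n103344 : Q := act 6 n47883
theorem D103344 : act 6 n47883 = n103344 := rfl
theorem F158605 : act 2 n103344 = n87806 := d3_1 D103344 (iv6 D87806) (iv2 F75167)
def n103345 : Q := act 3 n47887
theorem D103345 : act 3 n47887 = n103345 := rfl
theorem F158606 : act 4 n103345 = n47901 := d5_2 D47887 D103345 (iv3 D47901) (iv4 D23061) (iv3 F36116)
theorem F158607 : act 7 n103345 = n99899 := d8_2 (iv7 F75189) D103345 (iv3 D99899)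
def n103346 : Q := act 5 n47887
theorem D103346 : act 5 n47887 = n103346 := rfl
theorem F158608 : act 2 n103346 = n87842 := d2_1 D103346 F134811 (iv2 F75188)
theorem F158609 : act 7 n103346 = n87841 := d13_2 (iv7 F75189) D103346 F134810
theorem F158610 : act 0 n103346 = n48216 := d17_2 (iv1 F75190) D103346 (iv5 D48216) (iv4 D23361) (iv5 D10971) (iv0 F66044) D20197 F32033 D42726
theorem F158611 : act 1 n103346 = n87845 := d17_6 (iv1 F73688) F34930 F65647 D23056 D47887 D103346 F134813 F75779 F75781
def n103347 : Q := act 0 n47888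
theorem D103347 : act 0 n47888 = n103347 := rfl
theorem F158614 : act 6 n103347 = n93339 := d21_5 F34930 F65647 D23056 D47888 D103347 (iv5 D93339) (iv1 F68616) D46454 (iv6 F73685) (iv1 F73688)
theorem F158616 : act 1 n89643 = n103347 := d15_0 (iv0 D103347) (iv7 F76386) (iv2 F137423)
def n103349 : Q := act 5 n47892
theorem D103349 : act 5 n47892 = n103349 := rfl
theorem F158625 : act 3 n103349 = n96087 := d6_1 D103349 F147699 F75209
theorem F158626 : act 7 n103349 = n96210 := d13_2 (iv7 F75212) D103349 (iv5 D96210)
def n103350 : Q := act 5 n47893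
theorem D103350 : act 5 n47893 = n103350 := rfl
theorem F158627 : act 2 n103350 = n47894 := d2_1 D103350 (iv5 D47894) D47893
def n103351 : Q := act 6 n47893
theorem D103351 : act 6 n47893 = n103351 := rfl
theorem F158628 : act 2 n103351 = n47895 := d3_1 D103351 (iv6 D47895) D47893
theorem F158629 : act 4 n103351 = n102637 := d10_1 D103351 F157840 F154425
theorem F158630 : act 0 n103351 = n101974 := d20_7 (iv4 D22852) (iv1 F17323) D10813 D22891 D47602 D102637 (iv4 F158629) F156947 F74569 (iv1 F35425)
theorem F158631 : act 7 n101973 = n103351 := d15_2 (iv0 F76114) D101973 F158628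
def n103352 : Q := act 0 n47894
theorem D103352 : act 0 n47894 = n103352 := rfl
def n103353 : Q := act 1 n47894
theorem D103353 : act 1 n47894 = n103353 := rfl
def n103354 : Q := act 4 n47894
theorem D103354 : act 4 n47894 = n103354 := rfl
def n103355 : Q := act 6 n47894
theorem D103355 : act 6 n47894 = n103355 := rfl
theorem F158632 : act 3 n103355 = n47897 := d7_1 D103355 (iv6 D47897) (iv3 F75214)
def n103356 : Q := act 0 n47895
theorem D103356 : act 0 n47895 = n103356 := rfl
theorem F158633 : act 2 n101974 = n103356 := d15_3 (iv0 D103356) (iv0 F76114) D101974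
theorem F158634 : act 4 n103356 = n101969 := d1_2 (iv4 F156947) F158633 F156940
theorem F158635 : act 5 n103356 = n95655 := d2_2 (iv5 F156948) F158633 (iv2 F149762)
theorem F158636 : act 7 n103356 = n96363 := d4_2 D101974 F158633 F148322
theorem F158637 : act 1 n103351 = n96363 := d15_1 (iv0 F158630) (iv7 F158636) (iv2 F158633)
theorem F158638 : act 1 n101973 = n103356 := d15_1 D101973 F158636 F148322
theorem F158639 : act 5 n88856 = n102004 := d17_1 D88856 (iv1 F156958) (iv5 F156941) (iv4 F158634) F158635 (iv0 D95655) (iv5 D44680) (iv0 F70205) F70203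
def n103357 : Q := act 5 n47895
theorem D103357 : act 5 n47895 = n103357 := rfl
theorem F158640 : act 3 n103357 = n47899 := d6_1 D103357 (iv5 D47899) (iv3 F75215)
theorem F158641 : act 0 n89363 = n103357 := d21_1 D89363 (iv5 D103357) (iv6 D47895) (iv1 F75213) (iv6 D44591) D44590 (iv1 F70246) (iv5 D44674) D44675 F136666
def n103358 : Q := act 7 n47895
theorem D103358 : act 7 n47895 = n103358 := rfl
theorem F158642 : act 2 n103358 = n101973 := d4_1 D103358 F158631 F158628
theorem F158643 : act 3 n103358 = n47900 := d8_1 D103358 (iv7 D47900) (iv3 F75215)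
theorem F158644 : act 6 n103358 = n95555 := d14_1 D103358 F147219 (iv6 F75049) F75050 D47895
theorem F158645 : act 1 n96363 = n103358 := d15_1 F158637 (iv7 D103358) (iv2 F158628)
theorem F158646 : act 1 n103358 = n101974 := d15_1 F158645 (iv7 D101974) (iv2 F148322)
def n103359 : Q := act 3 n47896
theorem D103359 : act 3 n47896 = n103359 := rfl
def n103360 : Q := act 6 n47896
theorem D103360 : act 6 n47896 = n103360 := rfl
theorem F158647 : act 4 n103360 = n47897 := d10_1 D103360 (iv6 D47897) D47896
def n103361 : Q := act 0 n47897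
theorem D103361 : act 0 n47897 = n103361 := rfl
def n103362 : Q := act 1 n47897
theorem D103362 : act 1 n47897 = n103362 := rfl
def n103363 : Q := act 5 n47897
theorem D103363 : act 5 n47897 = n103363 := rfl
theorem F158648 : act 6 n103363 = n47899 := d12_2 D47897 D103363 (iv5 D47899) (iv6 D23060) D23059
def n103364 : Q := act 7 n47897
theorem D103364 : act 7 n47897 = n103364 := rfl
def n103365 : Q := act 3 n47898
theorem D103365 : act 3 n47898 = n103365 := rfl
theorem F158649 : act 4 n103365 = n100268 := d5_2 F139782 D103365 (iv3 D100268) (iv4 F73903) D90804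
theorem F158650 : act 5 n103365 = n95685 := d6_2 (iv5 F75216) D103365 (iv3 D95685)
theorem F158651 : act 6 n103365 = n96128 := d7_2 (iv6 F75560) D103365 (iv3 F147774)
theorem F158652 : act 7 n103365 = n96382 := d8_2 F75217 D103365 F148342
theorem F158653 : act 0 n103365 = n48421 := d20_4 (iv4 F134681) F139783 F139782 D103365 (iv3 D48421) (iv4 D23561) (iv1 D11042) (iv4 F17901) (iv3 F36649) (iv1 F75130)
theorem F158654 : act 1 n95464 = n48421 := d15_0 (iv0 F158653) F158652 F148341
theorem F158655 : act 1 n100799 = n95464 := d15_0 F158654 F76139 (iv2 F154897)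
theorem F158656 : act 0 n97044 = n95685 := d21_7 D96130 F147780 (iv5 D95643) (iv6 D44673) (iv1 F34059) D45364 D97044 (iv5 F158650) F158651 (iv1 D96128)
def n103366 : Q := act 4 n47899
theorem D103366 : act 4 n47899 = n103366 := rfl
theorem F158657 : act 0 n103366 = n89904 := d18_2 (iv1 F75219) D103366 (iv4 D89904) (iv5 D42008) F31576 F63239 (iv4 F33503) F34033 D45343
theorem F158658 : act 1 n103366 = n97018 := d18_6 (iv1 F76117) F70061 F63397 (iv4 F36118) D47899 D103366 (iv4 D97018) F138044 F138042
def n103367 : Q := act 0 n47901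
theorem D103367 : act 0 n47901 = n103367 := rfl
def n103368 : Q := act 1 n47901
theorem D103368 : act 1 n47901 = n103368 := rfl
def n103369 : Q := act 2 n47901
theorem D103369 : act 2 n47901 = n103369 := rfl
def n103370 : Q := act 5 n47901
theorem D103370 : act 5 n47901 = n103370 := rfl
theorem F158659 : act 3 n103370 = n47902 := d6_1 D103370 (iv5 D47902) D47901
def n103371 : Q := act 6 n47901
theorem D103371 : act 6 n47901 = n103371 := rfl
theorem F158660 : act 3 n103371 = n47903 := d7_1 D103371 (iv6 D47903) D47901
def n103372 : Q := act 6 n47902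
theorem D103372 : act 6 n47902 = n103372 := rfl
def n103373 : Q := act 0 n47903
theorem D103373 : act 0 n47903 = n103373 := rfl
theorem F158661 : act 4 n103373 = n90925 := d18_3 F36119 (iv4 F75226) D103373 (iv5 F144502) (iv4 F147034) (iv0 F148524) (iv4 D96451) (iv0 D45034) F33823
def n103374 : Q := act 5 n47903
theorem D103374 : act 5 n47903 = n103374 := rfl
def n103376 : Q := act 3 n47905
theorem D103376 : act 3 n47905 = n103376 := rfl
def n103390 : Q := act 5 n47910
theorem D103390 : act 5 n47910 = n103390 := rfl
def n103407 : Q := act 5 n47917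
theorem D103407 : act 5 n47917 = n103407 := rfl
theorem F158710 : act 2 n103407 = n48136 := d2_1 D103407 F134866 F134861
theorem F158711 : act 7 n103407 = n48135 := d13_2 F134856 D103407 (iv5 F134857)
def n103430 : Q := act 6 n47924
theorem D103430 : act 6 n47924 = n103430 := rfl
theorem F158726 : act 5 n103430 = n87124 := d12_1 D103430 (iv6 D87124) (iv5 D40478) (iv6 F36129) D47924
def n103441 : Q := act 7 n47929
theorem D103441 : act 7 n47929 = n103441 := rfl
theorem F158733 : act 5 n103441 = n87133 := d13_1 D103441 (iv7 D87133) (iv5 F75247)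
def n103443 : Q := act 5 n47931
theorem D103443 : act 5 n47931 = n103443 := rfl
theorem F158734 : act 7 n103443 = n48554 := d13_2 (iv7 F75250) D103443 (iv5 D48554)
def n103444 : Q := act 3 n47932
theorem D103444 : act 3 n47932 = n103444 := rfl
theorem F158735 : act 5 n103444 = n88860 := d6_2 (iv5 F75251) D103444 F136256
theorem F158736 : act 7 n103444 = n100240 := d8_2 F75254 D103444 (iv3 D100240)
def n103445 : Q := act 6 n47932
theorem D103445 : act 6 n47932 = n103445 := rfl
theorem F158737 : act 2 n103445 = n89418 := d3_1 D103445 F137095 F75253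
theorem F158738 : act 5 n103445 = n88862 := d12_1 D103445 (iv6 D88862) (iv5 D41481) D41482 (iv5 F75251)
def n103446 : Q := act 3 n47933
theorem D103446 : act 3 n47933 = n103446 := rfl
theorem F158739 : act 5 n103446 = n89413 := d6_2 (iv5 F75257) D103446 F137092
theorem F158740 : act 7 n103446 = n89412 := d8_2 (iv7 F75256) D103446 F137091
def n103447 : Q := act 6 n47933
theorem D103447 : act 6 n47933 = n103447 := rfl
theorem F158741 : act 2 n103447 = n100242 := d3_1 D103447 (iv6 D100242) F75258
theorem F158742 : act 5 n103447 = n97985 := d12_1 D103447 (iv6 D97985) (iv5 F136244) F136245 (iv5 F75257)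
theorem F158743 : act 0 n103447 = n100947 := d21_4 (iv5 F73928) (iv1 F74771) (iv5 F75257) D103447 (iv6 D100947) (iv5 D47044) (iv1 D22615) D22616 F35157 D22628
def n103448 : Q := act 0 n47934
theorem D103448 : act 0 n47934 = n103448 := rfl
theorem F158744 : act 4 n103448 = n88893 := d18_3 (iv1 D47933) D47934 D103448 (iv5 D88893) F63992 F62645 (iv4 F34251) (iv0 F74770) (iv5 F75257)
theorem F158745 : act 1 n99330 = n103448 := d15_0 (iv0 D103448) F75260 (iv2 F152960)
theorem F158746 : act 2 n89582 = n103448 := d1_3 F158744 F136366 D89582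
theorem F158747 : act 7 n100154 = n103448 := d11_0 F158744 (iv7 F136369) D100154
def n103449 : Q := act 1 n47934
theorem D103449 : act 1 n47934 = n103449 := rfl
theorem F158748 : act 1 n103449 = n99330 := d15_1 D103449 F152961 (iv2 F75259)
theorem F158749 : act 7 n103449 = n89582 := d15_2 (iv0 D103448) D103449 F158746
theorem F158750 : act 4 n103449 = n89583 := d18_7 F65666 F17118 F65658 D10881 D23096 D47934 D103449 F137339 (iv5 D42517)
theorem F158751 : act 2 n100154 = n103449 := d1_3 F158750 F137336 D100154
def n103450 : Q := act 3 n47934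
theorem D103450 : act 3 n47934 = n103450 := rfl
theorem F158752 : act 4 n103450 = n93350 := d5_2 D47934 D103450 (iv3 D93350) (iv4 D43664) (iv3 F36141)
theorem F158753 : act 7 n103450 = n100262 := d8_2 (iv7 F75260) D103450 (iv3 D100262)
def n103451 : Q := act 5 n47934
theorem D103451 : act 5 n47934 = n103451 := rfl
theorem F158754 : act 2 n103451 = n100219 := d2_1 D103451 F154157 (iv2 F75259)
theorem F158755 : act 7 n103451 = n100220 := d13_2 (iv7 F75260) D103451 F154161
theorem F158756 : act 4 n103451 = n99333 := d16_2 D47934 D103451 (iv5 D99333) (iv4 D46446) (iv5 D22251) D22250 D46444 F73320 (iv2 F65977)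
theorem F158757 : act 0 n103451 = n99345 := d17_2 (iv1 D103449) D103451 F152990 F73885 F34965 F34709 D46438 F137338 (iv4 F158750)
theorem F158758 : act 1 n103451 = n99325 := d17_6 (iv1 D46497) (iv5 D22287) (iv1 F66083) D23096 D47934 D103451 (iv5 D99325) D99323 F152941
def n103452 : Q := act 6 n47934
theorem D103452 : act 6 n47934 = n103452 := rfl
theorem F158759 : act 2 n103452 = n100244 := d3_1 D103452 (iv6 D100244) (iv2 F75259)
theorem F158760 : act 4 n103452 = n47935 := d10_1 D103452 (iv6 D47935) D47934
def n103453 : Q := act 0 n47935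
theorem D103453 : act 0 n47935 = n103453 := rfl
def n103454 : Q := act 1 n47935
theorem D103454 : act 1 n47935 = n103454 := rfl
theorem F158761 : act 1 n103454 = n100247 := d15_1 D103454 (iv7 D100247) (iv2 F75261)
def n103455 : Q := act 7 n47935
theorem D103455 : act 7 n47935 = n103455 := rfl
theorem F158762 : act 2 n103455 = n100247 := d4_1 D103455 (iv7 D100247) (iv2 F75261)
theorem F158763 : act 3 n103455 = n93356 := d8_1 D103455 (iv7 D93356) (iv3 F75262)
theorem F158764 : act 6 n103455 = n100267 := d14_1 D103455 (iv7 D100267) (iv6 D46787) F65706 D47935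
theorem F158765 : act 1 n100247 = n103453 := d15_0 (iv0 D103453) D103455 F158762
theorem F158766 : act 1 n100246 = n103455 := d15_1 D100246 (iv7 D103455) F75261
theorem F158767 : act 1 n103455 = n100245 := d15_0 (iv0 D100245) D100247 (iv2 F158762)
def n103456 : Q := act 3 n47936
theorem D103456 : act 3 n47936 = n103456 := rfl
theorem F158768 : act 4 n103456 = n91390 := d5_2 D47936 D103456 (iv3 D91390) F75180 F75178
theorem F158769 : act 6 n103456 = n89606 := d7_2 (iv6 F75264) D103456 (iv3 D89606)
def n103457 : Q := act 3 n47938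
theorem D103457 : act 3 n47938 = n103457 := rfl
theorem F158772 : act 7 n103457 = n89589 := d8_2 (iv7 F75280) D103457 (iv3 D89589)
def n103459 : Q := act 3 n47940
theorem D103459 : act 3 n47940 = n103459 := rfl
theorem F158776 : act 7 n103459 = n100250 := d8_2 (iv7 F75286) D103459 (iv3 D100250)
def n103460 : Q := act 0 n47941
theorem D103460 : act 0 n47941 = n103460 := rfl
def n103462 : Q := act 2 n47941
theorem D103462 : act 2 n47941 = n103462 := rfl
def n103464 : Q := act 4 n47942
theorem D103464 : act 4 n47942 = n103464 := rfl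
theorem F158787 : act 2 n103464 = n100220 := d1_1 D103464 F154162 (iv2 F75293)
theorem F158788 : act 5 n103464 = n99330 := d9_2 D47942 D103464 (iv4 D99330) (iv5 D46444) (iv4 D22250) D22251 D46446 D99333 (iv4 F158756) (iv5 D103451) (iv4 D47934) (iv5 D23096) (iv4 D10881) D10882 D23099
theorem F158789 : act 7 n103464 = n100219 := d11_2 (iv7 F75294) D103464 F154158
theorem F158790 : act 0 n103464 = n99325 := d18_2 F134701 D103464 F152944 F73937 F35021 F62674 D23132 (iv0 F63067) D87738
theorem F158791 : act 1 n103464 = n99345 := d18_6 (iv1 F75281) (iv4 D47938) (iv1 D23098) D23099 D47942 D103464 (iv4 D99345) (iv0 F139770) (iv5 D90801)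
def n103465 : Q := act 6 n47942
theorem D103465 : act 6 n47942 = n103465 := rfl
theorem F158792 : act 2 n103465 = n100260 := d3_1 D103465 (iv6 D100260) (iv2 F75293)
def n103579 : Q := act 6 n47978
theorem D103579 : act 6 n47978 = n103579 := rfl
theorem F158890 : act 2 n103579 = n103017 := d3_1 D103579 (iv6 D103017) (iv2 F75342)
theorem F158891 : act 3 n103579 = n96201 := d7_1 D103579 (iv6 D96201) (iv3 F75343)
theorem F158892 : act 4 n103579 = n47979 := d10_1 D103579 (iv6 D47979) D47978
def n103580 : Q := act 0 n47979
theorem D103580 : act 0 n47979 = n103580 := rfl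
def n103581 : Q := act 1 n47979
theorem D103581 : act 1 n47979 = n103581 := rfl
def n103582 : Q := act 5 n47979
theorem D103582 : act 5 n47979 = n103582 := rfl
theorem F158894 : act 2 n103582 = n103020 := d2_1 D103582 (iv5 D103020) (iv2 F75347)
theorem F158895 : act 3 n103582 = n100753 := d6_1 D103582 (iv5 D100753) (iv3 F75348)
def n103583 : Q := act 7 n47979
theorem D103583 : act 7 n47979 = n103583 := rfl
theorem F158898 : act 6 n103583 = n103021 := d14_1 D103583 (iv7 D103021) (iv6 D47763) (iv7 F70968) D47979
def n103584 : Q := act 0 n47980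
theorem D103584 : act 0 n47980 = n103584 := rfl
def n103585 : Q := act 1 n47980
theorem D103585 : act 1 n47980 = n103585 := rfl
theorem F158902 : act 1 n103585 = n70046 := d15_1 D103585 (iv7 D70046) (iv2 F75349)
def n103586 : Q := act 5 n47980
theorem D103586 : act 5 n47980 = n103586 := rfl
theorem F158903 : act 2 n103586 = n70045 := d2_1 D103586 (iv5 D70045) (iv2 F75349)
theorem F158904 : act 3 n103586 = n47987 := d6_1 D103586 (iv5 D47987) (iv3 F75350)
theorem F158905 : act 6 n103586 = n47983 := d12_2 D47980 D103586 (iv5 D47983) (iv6 D23149) D23148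
def n103587 : Q := act 7 n47980
theorem D103587 : act 7 n47980 = n103587 := rfl
theorem F158906 : act 2 n103587 = n70046 := d4_1 D103587 (iv7 D70046) (iv2 F75349)
theorem F158907 : act 3 n103587 = n47988 := d8_1 D103587 (iv7 D47988) (iv3 F75350)
theorem F158908 : act 4 n103587 = n69922 := d11_1 D103587 (iv7 D69922) (iv4 F75351)
theorem F158909 : act 6 n103587 = n70046 := d14_1 D103587 (iv7 D70046) F51575 (iv7 F36220) D47980
theorem F158910 : act 1 n70046 = n103584 := d15_0 (iv0 D103584) D103587 F158906
theorem F158911 : act 1 n70044 = n103587 := d15_1 D70044 (iv7 D103587) F75349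
theorem F158912 : act 4 n73492 = n103584 := d20_6 (iv4 F53157) (iv1 D33818) (iv4 D16341) (iv3 F25847) D33788 D73492 (iv1 F158910) F106432 F51576 (iv1 F41727)
theorem F158913 : act 1 n103587 = n70043 := d15_0 (iv0 D70043) D70046 (iv2 F158906)
def n103588 : Q := act 3 n47981
theorem D103588 : act 3 n47981 = n103588 := rfl
theorem F158914 : act 2 n103588 = n99480 := d0_1 D103588 F153250 (iv2 F154967) F154877 F154998
theorem F158915 : act 7 n103588 = n99485 := d8_2 F155000 D103588 F153252
theorem F158916 : act 4 n103588 = n99470 := d20_6 (iv4 D23159) (iv1 D10905) (iv4 F17710) (iv3 F36223) D47981 D103588 (iv1 F153240) F75210 (iv3 F75209) (iv1 F70597)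
theorem F158917 : act 0 n103228 = n103588 := d20_10 F158916 (iv1 F153240) F75210 (iv3 F75209) (iv1 F70597) (iv3 F68311) (iv4 D43455) D43452 F139638 D103228
def n103589 : Q := act 4 n47981
theorem D103589 : act 4 n47981 = n103589 := rfl
theorem F158918 : act 2 n103589 = n103022 := d1_1 D103589 (iv4 D103022) F154998
theorem F158919 : act 7 n103589 = n103025 := d11_2 F155000 D103589 (iv4 D103025)
theorem F158920 : act 3 n103589 = n96205 := d20_3 F36224 D47981 D103589 (iv1 F158527) F158523 F148296 (iv1 F74211) D47018 (iv3 F75353) (iv1 D47982)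
theorem F158921 : act 7 n96205 = n103290 := d8_2 (iv7 F158919) F158920 F158519
theorem F158922 : act 2 n103290 = n96206 := d15_3 F158528 F158527 F158921
theorem F158923 : act 2 n96205 = n103291 := d15_3 (iv0 F158522) F158520 (iv7 F158921)
theorem F158924 : act 7 n103291 = n96206 := d4_2 (iv7 F158921) F158923 (iv2 F158922)
theorem F158925 : act 1 n103300 = n103025 := d15_1 (iv0 F158537) (iv7 F158919) F158918
def n103590 : Q := act 5 n47981
theorem D103590 : act 5 n47981 = n103590 := rfl
theorem F158926 : act 2 n103590 = n103023 := d2_1 D103590 (iv5 D103023) F154998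
theorem F158927 : act 7 n103590 = n103026 := d13_2 F155000 D103590 (iv5 D103026)
def n103591 : Q := act 6 n47981
theorem D103591 : act 6 n47981 = n103591 := rfl
theorem F158928 : act 2 n103591 = n103024 := d3_1 D103591 (iv6 D103024) F154998
theorem F158929 : act 5 n103591 = n95512 := d21_6 D44610 F70136 (iv5 D23148) D23149 D47981 D103591 (iv1 D95512) (iv5 D44616) (iv6 D21232) D21230
theorem F158930 : act 2 n95512 = n96546 := d2_1 F158929 (iv5 F158271) (iv2 F158928)
theorem F158931 : act 7 n96545 = n95512 := d15_2 F148708 F148713 F158930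
theorem F158932 : act 7 n95511 = n96546 := d15_2 F148714 F148715 (iv2 F158930)
theorem F158933 : act 2 n96545 = n95511 := d4_3 F158932 (iv2 F158930) (iv7 F158931)
def n103592 : Q := act 4 n47982
theorem D103592 : act 4 n47982 = n103592 := rfl
theorem F158934 : act 2 n103592 = n103025 := d1_1 D103592 (iv4 D103025) (iv2 F154999)
theorem F158935 : act 3 n103592 = n100861 := d5_1 D103592 (iv4 D100861) (iv3 D47017) D47018 (iv3 F75353)
theorem F158936 : act 7 n103592 = n103022 := d11_2 (iv7 F154997) D103592 (iv4 D103022)
def n103593 : Q := act 5 n47982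
theorem D103593 : act 5 n47982 = n103593 := rfl
theorem F158937 : act 2 n103593 = n103026 := d2_1 D103593 (iv5 D103026) (iv2 F154999)
theorem F158938 : act 3 n103593 = n100864 := d6_1 D103593 (iv5 D100864) (iv3 F75353)
theorem F158939 : act 7 n103593 = n103023 := d13_2 (iv7 F154997) D103593 (iv5 D103023)
def n103594 : Q := act 6 n47982
theorem D103594 : act 6 n47982 = n103594 := rfl
theorem F158940 : act 2 n103594 = n103027 := d3_1 D103594 (iv6 D103027) (iv2 F154999)
theorem F158941 : act 3 n103594 = n100865 := d7_1 D103594 (iv6 D100865) (iv3 F75353)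
def n103595 : Q := act 0 n47983
theorem D103595 : act 0 n47983 = n103595 := rfl
def n103596 : Q := act 1 n47983
theorem D103596 : act 1 n47983 = n103596 := rfl
theorem F158942 : act 1 n103596 = n103031 := d15_1 D103596 (iv7 D103031) (iv2 F75354)
theorem F158943 : act 5 n96539 = n103596 := d21_6 (iv5 F70963) (iv1 F70965) (iv5 D21521) D21522 D45078 D96539 (iv1 D103596) (iv5 D47983) (iv6 D23149) D23147
def n103597 : Q := act 4 n47983
theorem D103597 : act 4 n47983 = n103597 := rfl
theorem F158944 : act 2 n103597 = n103030 := d1_1 D103597 (iv4 D103030) (iv2 F75354)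
def n103598 : Q := act 7 n47983
theorem D103598 : act 7 n47983 = n103598 := rfl
theorem F158945 : act 2 n103598 = n103031 := d4_1 D103598 (iv7 D103031) (iv2 F75354)
theorem F158946 : act 3 n103598 = n47993 := d8_1 D103598 (iv7 D47993) (iv3 F75355)
theorem F158947 : act 5 n103598 = n47984 := d13_1 D103598 (iv7 D47984) D47983
theorem F158948 : act 1 n103031 = n103595 := d15_0 (iv0 D103595) D103598 F158945
theorem F158949 : act 1 n103029 = n103598 := d15_1 D103029 (iv7 D103598) F75354
theorem F158950 : act 1 n103598 = n103028 := d15_0 (iv0 D103028) D103031 (iv2 F158945)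
def n103599 : Q := act 2 n47985
theorem D103599 : act 2 n47985 = n103599 := rfl
theorem F158951 : act 7 n47986 = n103599 := d15_2 (iv0 D47985) D47986 (iv2 D103599)
def n103600 : Q := act 3 n47985
theorem D103600 : act 3 n47985 = n103600 := rfl
def n103601 : Q := act 4 n47985
theorem D103601 : act 4 n47985 = n103601 := rfl
def n103602 : Q := act 5 n47985
theorem D103602 : act 5 n47985 = n103602 := rfl
def n103603 : Q := act 7 n47985
theorem D103603 : act 7 n47985 = n103603 := rfl
theorem F158952 : act 2 n103603 = n47986 := d4_1 D103603 F158951 (iv2 D103599)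
def n103604 : Q := act 3 n47986
theorem D103604 : act 3 n47986 = n103604 := rfl
def n103605 : Q := act 4 n47986
theorem D103605 : act 4 n47986 = n103605 := rfl
def n103606 : Q := act 5 n47986
theorem D103606 : act 5 n47986 = n103606 := rfl
def n103607 : Q := act 6 n47986
theorem D103607 : act 6 n47986 = n103607 := rfl
def n103608 : Q := act 0 n47987
theorem D103608 : act 0 n47987 = n103608 := rfl
def n103609 : Q := act 4 n47987
theorem D103609 : act 4 n47987 = n103609 := rfl
theorem F158953 : act 2 n103609 = n48044 := d1_1 D103609 (iv4 D48044) (iv2 F75364)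
theorem F158954 : act 6 n103609 = n47992 := d10_2 (iv6 F75365) D103609 (iv4 D47992)
def n103610 : Q := act 7 n47987
theorem D103610 : act 7 n47987 = n103610 := rfl
theorem F158955 : act 2 n103610 = n48045 := d4_1 D103610 (iv7 D48045) (iv2 F75364)
theorem F158956 : act 5 n103610 = n47988 := d13_1 D103610 (iv7 D47988) D47987
theorem F158957 : act 1 n48045 = n103608 := d15_0 (iv0 D103608) D103610 F158955
theorem F158958 : act 1 n48043 = n103610 := d15_1 D48043 (iv7 D103610) F75364
theorem F158959 : act 1 n103610 = n48042 := d15_0 (iv0 D48042) D48045 (iv2 F158955)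
def n103611 : Q := act 0 n47989
theorem D103611 : act 0 n47989 = n103611 := rfl
theorem F158960 : act 3 n103611 = n90723 := d20_5 F62533 (iv1 F62114) F62947 D47989 D103611 (iv4 F152863) (iv1 D92591) F67986 (iv3 D23207) D23205
theorem F158961 : act 1 n48048 = n103611 := d15_0 (iv0 D103611) F75373 D48048
theorem F158962 : act 7 n48046 = n103611 := d8_0 F158960 (iv7 F154622) (iv3 F139642)
def n103612 : Q := act 1 n47989
theorem D103612 : act 1 n47989 = n103612 := rfl
def n103613 : Q := act 2 n47989
theorem D103613 : act 2 n47989 = n103613 := rfl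
theorem F158964 : act 4 n103613 = n91341 := d1_2 (iv4 F75372) D103613 (iv2 F140415)
theorem F158965 : act 7 n103613 = n48048 := d4_2 (iv7 F75373) D103613 (iv2 D48048)
theorem F158966 : act 1 n103613 = n48046 := d15_0 (iv0 D48046) (iv7 F75373) D103613
theorem F158967 : act 1 n103612 = n48048 := d15_1 D103612 (iv7 F158965) (iv2 D103613)
theorem F158968 : act 2 n48046 = n103612 := d15_3 F158967 F158961 (iv7 F158962)
theorem F158969 : act 7 n48047 = n103612 := d15_2 (iv0 D48046) D48047 (iv2 F158968)
theorem F158970 : act 2 n103611 = n48047 := d4_3 F158969 (iv2 F158968) F158962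
def n103615 : Q := act 4 n47990
theorem D103615 : act 4 n47990 = n103615 := rfl
theorem F158974 : act 2 n103615 = n48061 := d1_1 D103615 (iv4 D48061) (iv2 F75374)
theorem F158975 : act 7 n103615 = n48053 := d11_2 (iv7 F75375) D103615 (iv4 D48053)
def n103616 : Q := act 6 n47990
theorem D103616 : act 6 n47990 = n103616 := rfl
theorem F158976 : act 2 n103616 = n48062 := d3_1 D103616 (iv6 D48062) (iv2 F75374)
theorem F158977 : act 5 n103616 = n89845 := d12_1 D103616 (iv6 D89845) F64760 F63022 D47990
def n103618 : Q := act 4 n47991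
theorem D103618 : act 4 n47991 = n103618 := rfl
theorem F158979 : act 2 n103618 = n48064 := d1_1 D103618 (iv4 D48064) (iv2 F75382)
theorem F158980 : act 7 n103618 = n48067 := d11_2 (iv7 F75381) D103618 (iv4 D48067)
theorem F158981 : act 1 n103618 = n96211 := d18_6 F133996 F71461 (iv1 F71465) (iv4 F137931) (iv5 F137934) D103618 (iv4 D96211) (iv0 F147216) (iv5 D95554)
def n103619 : Q := act 6 n47991
theorem D103619 : act 6 n47991 = n103619 := rfl
theorem F158982 : act 2 n103619 = n48065 := d3_1 D103619 (iv6 D48065) (iv2 F75382)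
def n103620 : Q := act 0 n47992
theorem D103620 : act 0 n47992 = n103620 := rfl
theorem F158983 : act 4 n103620 = n87864 := d18_3 F70374 D47992 D103620 (iv5 F137948) (iv4 D89868) F64771 (iv4 F70273) F70367 D44794
theorem F158984 : act 2 n48069 = n103620 := d15_3 (iv0 D103620) (iv0 F147702) F147709
theorem F158985 : act 7 n103620 = n48070 := d4_2 F147709 F158984 (iv2 F147701)
theorem F158986 : act 1 n48073 = n103620 := d15_1 F147703 F158985 (iv2 F147701)
theorem F158987 : act 3 n100800 = n87864 := d20_5 D97343 F150091 (iv4 D95295) (iv3 F74216) D100800 (iv4 F158983) (iv1 F158986) F75522 F36294 F71717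
def n103621 : Q := act 3 n47992
theorem D103621 : act 3 n47992 = n103621 := rfl
def n103622 : Q := act 5 n47992
theorem D103622 : act 5 n47992 = n103622 := rfl
theorem F158988 : act 2 n103622 = n48072 := d2_1 D103622 (iv5 D48072) (iv2 F75376)
theorem F158989 : act 4 n103622 = n48139 := d16_2 D47992 D103622 F75626 F36335 F17740 (iv4 F17734) (iv5 F36295) (iv7 D23192) (iv2 F36230)
theorem F158990 : act 7 n48137 = n103622 := d11_0 F158989 (iv7 D48139) D48137
def n103623 : Q := act 7 n47992
theorem D103623 : act 7 n47992 = n103623 := rfl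
theorem F158991 : act 2 n103623 = n48073 := d4_1 D103623 (iv7 D48073) (iv2 F75376)
theorem F158992 : act 4 n103623 = n47993 := d11_1 D103623 (iv7 D47993) D47992
theorem F158993 : act 5 n103623 = n48137 := d13_1 D103623 F158990 (iv5 D103622)
theorem F158994 : act 1 n48070 = n103623 := d15_1 D48070 (iv7 D103623) F75376
theorem F158995 : act 1 n103623 = n48069 := d15_1 F158994 (iv7 F147709) F147701
def n103624 : Q := act 6 n47993
theorem D103624 : act 6 n47993 = n103624 := rfl
theorem F158996 : act 2 n103624 = n48074 := d3_1 D103624 (iv6 D48074) (iv2 F75377)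
theorem F158997 : act 5 n103624 = n103053 := d12_1 D103624 (iv6 D103053) F75040 (iv6 F36233) (iv5 F75378)
def n103625 : Q := act 1 n47994
theorem D103625 : act 1 n47994 = n103625 := rfl
theorem F158998 : act 1 n103625 = n47996 := d15_1 D103625 F75392 (iv2 F75387)
theorem F158999 : act 7 n103625 = n48087 := d15_2 F149615 D103625 (iv2 F149612)
theorem F159000 : act 5 n103625 = n94094 := d17_7 (iv1 F64740) (iv5 F70814) (iv1 F70817) (iv5 D23157) D23156 D47994 D103625 F144993 F70415
theorem F159001 : act 2 n48088 = n103625 := d2_3 F159000 F144989 F75558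
def n103626 : Q := act 4 n47994
theorem D103626 : act 4 n47994 = n103626 := rfl
theorem F159002 : act 2 n103626 = n48089 := d1_1 D103626 (iv4 D48089) (iv2 F75387)
theorem F159003 : act 7 n103626 = n48106 := d11_2 (iv7 F75388) D103626 (iv4 D48106)
def n103627 : Q := act 6 n47994
theorem D103627 : act 6 n47994 = n103627 := rfl
theorem F159004 : act 2 n103627 = n48090 := d3_1 D103627 (iv6 D48090) (iv2 F75387)
def n103630 : Q := act 4 n47996
theorem D103630 : act 4 n47996 = n103630 := rfl
theorem F159009 : act 2 n103630 = n48106 := d1_1 D103630 (iv4 D48106) (iv2 F75391)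
theorem F159010 : act 7 n103630 = n48089 := d11_2 (iv7 F75392) D103630 (iv4 D48089)
def n103631 : Q := act 6 n47996
theorem D103631 : act 6 n47996 = n103631 := rfl
theorem F159011 : act 2 n103631 = n48107 := d3_1 D103631 (iv6 D48107) (iv2 F75391)
def n103635 : Q := act 3 n47999
theorem D103635 : act 3 n47999 = n103635 := rfl
theorem F159018 : act 4 n103635 = n99401 := d5_2 (iv4 F134829) D103635 (iv3 D99401) F73418 F134827
theorem F159019 : act 7 n103635 = n48124 := d8_2 (iv7 F75402) D103635 (iv3 D48124)
def n103636 : Q := act 5 n47999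
theorem D103636 : act 5 n47999 = n103636 := rfl
theorem F159021 : act 7 n103636 = n48125 := d13_2 (iv7 F75402) D103636 (iv5 D48125)
def n103637 : Q := act 0 n48000
theorem D103637 : act 0 n48000 = n103637 := rfl
def n103638 : Q := act 1 n48000
theorem D103638 : act 1 n48000 = n103638 := rfl
def n103639 : Q := act 2 n48000
theorem D103639 : act 2 n48000 = n103639 := rfl
def n103640 : Q := act 5 n48000
theorem D103640 : act 5 n48000 = n103640 := rfl
def n103641 : Q := act 7 n48000
theorem D103641 : act 7 n48000 = n103641 := rfl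
theorem F159026 : act 3 n103641 = n48002 := d8_1 D103641 (iv7 D48002) D48000
theorem F159027 : act 4 n103641 = n103641 := d11_1 D103641 (iv7 D103641) F75404
def n103642 : Q := act 4 n48001
theorem D103642 : act 4 n48001 = n103642 := rfl
theorem F159028 : act 2 n103642 = n48137 := d1_1 D103642 (iv4 D48137) (iv2 F75406)
theorem F159029 : act 5 n103642 = n48073 := d9_2 D48001 D103642 F75522 F36295 F17734 (iv5 F17740) (iv4 F36335) (iv5 F75626) (iv4 F158989) (iv5 D103622) (iv4 D47992) (iv5 D23152) F17710 D10906 D23162
theorem F159030 : act 7 n48072 = n103642 := d13_0 F159029 (iv7 D48073) D48072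
def n103643 : Q := act 6 n48001
theorem D103643 : act 6 n48001 = n103643 := rfl
theorem F159031 : act 2 n103643 = n48138 := d3_1 D103643 (iv6 D48138) (iv2 F75406)
theorem F159032 : act 5 n103643 = n87184 := d12_1 D103643 (iv6 D87184) (iv5 D40500) (iv6 F36239) D48001
def n103644 : Q := act 7 n48001
theorem D103644 : act 7 n48001 = n103644 := rfl
theorem F159034 : act 4 n103644 = n48072 := d11_1 D103644 F159030 (iv4 D103642)
theorem F159035 : act 5 n103644 = n48002 := d13_1 D103644 (iv7 D48002) D48001
theorem F159036 : act 1 n48136 = n103644 := d15_1 D48136 (iv7 D103644) F75406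
theorem F159037 : act 1 n103644 = n48135 := d15_1 F159036 (iv7 F158711) F158710
def n103645 : Q := act 5 n48003
theorem D103645 : act 5 n48003 = n103645 := rfl
theorem F159038 : act 2 n103645 = n103083 := d2_1 D103645 (iv5 D103083) (iv2 F75411)
theorem F159041 : act 0 n97328 = n103645 := d21_7 (iv5 F70341) (iv1 F71583) (iv5 D45385) D45386 (iv1 F157275) D45456 D97328 (iv5 D103645) (iv6 D48003) (iv1 F36247)
theorem F159042 : act 1 n103252 = n103645 := d15_0 (iv0 F159041) F150069 D103252
def n103646 : Q := act 6 n48004
theorem D103646 : act 6 n48004 = n103646 := rfl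
theorem F159043 : act 2 n103646 = n100720 := d3_1 D103646 (iv6 D100720) (iv2 F75413)
theorem F159044 : act 3 n103646 = n48005 := d7_1 D103646 (iv6 D48005) D48004
theorem F159045 : act 4 n103646 = n95431 := d10_1 D103646 (iv6 D95431) (iv4 F75414)
def n103647 : Q := act 0 n48005
theorem D103647 : act 0 n48005 = n103647 := rfl
def n103648 : Q := act 1 n48005
theorem D103648 : act 1 n48005 = n103648 := rfl
theorem F159046 : act 1 n103648 = n103082 := d15_1 D103648 (iv7 D103082) (iv2 F75418)
def n103649 : Q := act 5 n48005
theorem D103649 : act 5 n48005 = n103649 := rfl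
theorem F159047 : act 2 n103649 = n103081 := d2_1 D103649 (iv5 D103081) (iv2 F75418)
def n103650 : Q := act 7 n48005
theorem D103650 : act 7 n48005 = n103650 := rfl
theorem F159048 : act 2 n103650 = n103082 := d4_1 D103650 (iv7 D103082) (iv2 F75418)
theorem F159049 : act 6 n103650 = n100169 := d14_1 D103650 (iv7 F157770) (iv6 D47791) (iv7 F36269) D48005
theorem F159050 : act 1 n103082 = n103647 := d15_0 (iv0 D103647) D103650 F159048
def n103651 : Q := act 5 n48006
theorem D103651 : act 5 n48006 = n103651 := rfl
theorem F159053 : act 2 n103651 = n48009 := d2_1 D103651 (iv5 D48009) (iv2 F75419)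
theorem F159054 : act 3 n103651 = n103111 := d6_1 D103651 (iv5 D103111) (iv3 F75420)
def n103652 : Q := act 3 n48007
theorem D103652 : act 3 n48007 = n103652 := rfl
theorem F159055 : act 4 n103652 = n88525 := d5_2 (iv4 F153409) D103652 F145329 D90526 (iv3 F153383)
theorem F159056 : act 7 n103652 = n48017 := d8_2 F153412 D103652 F151057
theorem F159057 : act 0 n103652 = n48019 := d20_4 F148349 (iv1 F153731) (iv4 F153409) D103652 F75443 F36280 F66560 (iv4 F66780) D45005 D96385
theorem F159058 : act 2 n103652 = n48016 := d15_3 (iv0 D48016) D48017 (iv7 F159056)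
theorem F159059 : act 6 n103240 = n103652 := d3_0 F159058 (iv6 F135566) (iv2 F158482)
theorem F159060 : act 0 n48015 = n103652 := d20_10 F159055 (iv1 D88525) F63673 (iv3 D23501) F31029 D41237 F62464 (iv1 F73265) (iv4 F75092) (iv3 F75440)
theorem F159061 : act 5 n103240 = n95804 := d21_6 (iv5 F56739) (iv1 F71680) F71678 D48015 F159060 (iv6 F159059) (iv1 D95804) (iv5 D44740) (iv6 D21310) D21306
def n103653 : Q := act 5 n48007
theorem D103653 : act 5 n48007 = n103653 := rfl
def n103654 : Q := act 6 n48007
theorem D103654 : act 6 n48007 = n103654 := rfl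
theorem F159062 : act 3 n103654 = n103240 := d7_1 D103654 F159059 (iv3 D103652)
def n103655 : Q := act 3 n48008
theorem D103655 : act 3 n48008 = n103655 := rfl
theorem F159063 : act 4 n103655 = n100382 := d5_2 F153328 D103655 (iv3 F154396) (iv4 D99582) D99581
theorem F159064 : act 7 n103655 = n101942 := d8_2 (iv7 F153411) D103655 (iv3 F156924)
theorem F159065 : act 2 n103655 = n101941 := d15_3 (iv0 D101941) D101942 (iv7 F159064)
def n103656 : Q := act 5 n48008
theorem D103656 : act 5 n48008 = n103656 := rfl
theorem F159068 : act 0 n103656 = n48457 := d17_2 (iv1 F76052) D103656 (iv5 F137942) F157428 (iv5 D102486) (iv0 F157430) (iv5 D99949) F153668 F153664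
def n103657 : Q := act 6 n48008
theorem D103657 : act 6 n48008 = n103657 := rfl
def n103658 : Q := act 0 n48009
theorem D103658 : act 0 n48009 = n103658 := rfl
def n103659 : Q := act 1 n48009
theorem D103659 : act 1 n48009 = n103659 := rfl
def n103660 : Q := act 4 n48009
theorem D103660 : act 4 n48009 = n103660 := rfl
def n103661 : Q := act 3 n48010
theorem D103661 : act 3 n48010 = n103661 := rfl
theorem F159069 : act 2 n103661 = n103100 := d0_1 D103661 (iv3 D103100) (iv2 F75450) (iv3 F75447) F75424
theorem F159070 : act 5 n103661 = n89830 := d6_2 (iv5 F75423) D103661 (iv3 D89830)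
theorem F159071 : act 7 n103661 = n103122 := d8_2 (iv7 F75426) D103661 (iv3 D103122)
def n103662 : Q := act 6 n48010
theorem D103662 : act 6 n48010 = n103662 := rfl
theorem F159072 : act 2 n103662 = n89867 := d3_1 D103662 (iv6 D89867) F75424
def n103663 : Q := act 3 n48011
theorem D103663 : act 3 n48011 = n103663 := rfl
def n103664 : Q := act 6 n48012
theorem D103664 : act 6 n48012 = n103664 := rfl
theorem F159073 : act 2 n103664 = n100721 := d3_1 D103664 (iv6 D100721) (iv2 F75428)
theorem F159074 : act 3 n103664 = n48013 := d7_1 D103664 (iv6 D48013) D48012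
theorem F159075 : act 4 n103664 = n95432 := d10_1 D103664 (iv6 D95432) (iv4 F75429)
theorem F159076 : act 7 n100843 = n103664 := d11_0 F159075 F157761 (iv4 F154944)
theorem F159077 : act 0 n100784 = n103664 := d20_1 D100784 F159075 F147045 (iv1 F157759) (iv3 D22409) F66073 (iv1 F35152) F35149 (iv3 F35144) (iv1 F74207)
theorem F159078 : act 0 n95432 = n48191 := d20_7 F70595 (iv1 F62120) (iv4 F62970) D23186 (iv1 F157754) (iv3 F159074) F159075 F75735 F74214 (iv1 F70598)
theorem F159079 : act 0 n87912 = n95432 := d20_1 F143251 (iv4 F159075) F159074 F157753 F143305 F75503 (iv1 F140425) (iv4 F158524) F158523 (iv1 F148298)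
theorem F159080 : act 0 n103664 = n100780 := d20_7 (iv4 D103205) F154106 (iv4 D100166) (iv3 F139727) F157760 (iv3 F147045) (iv4 F159075) (iv4 D100780) (iv3 F157792) F158453
def n103665 : Q := act 5 n48013
theorem D103665 : act 5 n48013 = n103665 := rfl
theorem F159081 : act 2 n103665 = n103110 := d2_1 D103665 (iv5 D103110) (iv2 F75434)
theorem F159082 : act 0 n48066 = n103665 := d21_7 (iv5 F70345) (iv1 F70347) F51820 D45407 (iv1 F157280) D93989 (iv5 F144806) (iv5 D103665) (iv6 D48013) (iv1 F36258)
def n103666 : Q := act 0 n48014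
theorem D103666 : act 0 n48014 = n103666 := rfl
def n103667 : Q := act 1 n48014
theorem D103667 : act 1 n48014 = n103667 := rfl
def n103668 : Q := act 5 n48014
theorem D103668 : act 5 n48014 = n103668 := rfl
theorem F159084 : act 2 n103668 = n103108 := d2_1 D103668 (iv5 D103108) (iv2 F75436)
theorem F159085 : act 3 n103668 = n103081 := d6_1 D103668 (iv5 D103081) (iv3 F75437)
theorem F159086 : act 7 n103262 = n103668 := d15_2 (iv0 F158393) D103262 F159084
def n103669 : Q := act 7 n48014
theorem D103669 : act 7 n48014 = n103669 := rfl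
theorem F159087 : act 2 n103669 = n103109 := d4_1 D103669 (iv7 D103109) (iv2 F75436)
theorem F159088 : act 3 n103669 = n103082 := d8_1 D103669 (iv7 D103082) (iv3 F75437)
theorem F159090 : act 5 n103669 = n103262 := d13_1 D103669 F159086 (iv5 D103668)
theorem F159091 : act 6 n103669 = n48057 := d14_1 D103669 (iv7 F157745) (iv6 D47801) (iv7 F36261) D48014
theorem F159094 : act 1 n103669 = n103106 := d15_0 (iv0 D103106) D103109 (iv2 F159087)
def n103670 : Q := act 1 n48015
theorem D103670 : act 1 n48015 = n103670 := rfl
theorem F159095 : act 1 n103670 = n48019 := d15_1 D103670 (iv7 D48019) (iv2 F75439)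
theorem F159096 : act 7 n103670 = n48016 := d15_2 (iv0 F159060) D103670 (iv2 F159058)
theorem F159097 : act 4 n88524 = n103670 := d20_0 (iv1 D103670) F75441 (iv3 F68141) F73768 F62357 (iv4 F63116) (iv1 F63133) F34857 D41325 D88524
theorem F159098 : act 3 n101941 = n103670 := d20_3 (iv4 F153673) (iv1 F153677) (iv4 F156920) (iv1 D103670) F75440 F75092 (iv1 F134638) (iv4 F148071) F148070 (iv1 F148087)
theorem F159099 : act 2 n103670 = n48017 := d0_1 F159098 F151057 (iv2 F153413) D103655 F159065
def n103671 : Q := act 5 n48015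
theorem D103671 : act 5 n48015 = n103671 := rfl
theorem F159100 : act 2 n103671 = n48018 := d2_1 D103671 (iv5 D48018) (iv2 F75439)
theorem F159101 : act 3 n103671 = n103086 := d6_1 D103671 (iv5 D103086) (iv3 F75440)
def n103672 : Q := act 7 n48015
theorem D103672 : act 7 n48015 = n103672 := rfl
theorem F159102 : act 2 n103672 = n48019 := d4_1 D103672 (iv7 D48019) (iv2 F75439)
theorem F159103 : act 3 n103672 = n103087 := d8_1 D103672 (iv7 D103087) (iv3 F75440)
theorem F159104 : act 4 n103672 = n90415 := d11_1 D103672 (iv7 D90415) (iv4 F75441)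
theorem F159105 : act 6 n103672 = n48449 := d14_1 D103672 F76197 (iv6 D47802) (iv7 F36272) D48015
theorem F159106 : act 1 n48017 = n103672 := d15_1 D48017 (iv7 D103672) F75439
theorem F159107 : act 1 n103672 = n48016 := d15_1 F159106 (iv7 F159096) F159099
def n103673 : Q := act 3 n48016
theorem D103673 : act 3 n48016 = n103673 := rfl
theorem F159109 : act 4 n103673 = n100381 := d5_2 (iv4 F135565) D103673 F154402 (iv4 F139380) (iv3 D90556)
theorem F159110 : act 7 n103673 = n101941 := d8_2 F159096 D103673 F159098
theorem F159111 : act 0 n103673 = n99769 := d20_10 (iv4 D99769) (iv1 D46601) (iv4 F70650) (iv3 D44945) (iv1 D21451) (iv3 F33698) F33699 D42390 (iv4 F135565) D103673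
def n103674 : Q := act 5 n48016
theorem D103674 : act 5 n48016 = n103674 := rfl
def n103675 : Q := act 5 n48017
theorem D103675 : act 5 n48017 = n103675 := rfl
def n103676 : Q := act 6 n48017
theorem D103676 : act 6 n48017 = n103676 := rfl
theorem F159113 : act 4 n103676 = n90562 := d10_1 D103676 (iv6 D90562) (iv4 F151058)
def n103677 : Q := act 0 n48018
theorem D103677 : act 0 n48018 = n103677 := rfl
def n103678 : Q := act 1 n48018
theorem D103678 : act 1 n48018 = n103678 := rfl
def n103679 : Q := act 4 n48018
theorem D103679 : act 4 n48018 = n103679 := rfl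
def n103680 : Q := act 7 n48018
theorem D103680 : act 7 n48018 = n103680 := rfl
theorem F159114 : act 3 n103680 = n48023 := d8_1 D103680 (iv7 D48023) (iv3 F75442)
theorem F159115 : act 5 n103680 = n48019 := d13_1 D103680 (iv7 D48019) D48018
def n103681 : Q := act 6 n48020
theorem D103681 : act 6 n48020 = n103681 := rfl
theorem F159116 : act 2 n103681 = n103101 := d3_1 D103681 (iv6 D103101) (iv2 F75450)
theorem F159117 : act 3 n103681 = n89867 := d7_1 D103681 (iv6 D89867) F75447
theorem F159118 : act 5 n103681 = n103219 := d12_1 D103681 (iv6 D103219) (iv5 F75121) F64861 (iv5 F75446)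
def n103682 : Q := act 3 n48021
theorem D103682 : act 3 n48021 = n103682 := rfl
theorem F159119 : act 2 n103682 = n103122 := d0_1 D103682 (iv3 D103122) F75105 F64881 (iv2 F75454)
theorem F159120 : act 5 n103682 = n89825 := d6_2 F75453 D103682 F137865
theorem F159121 : act 7 n103682 = n103100 := d8_2 (iv7 F75452) D103682 (iv3 D103100)
def n103683 : Q := act 6 n48021
theorem D103683 : act 6 n48021 = n103683 := rfl
theorem F159122 : act 2 n103683 = n89856 := d3_1 D103683 F137921 (iv2 F75454)
theorem F159123 : act 5 n103683 = n89827 := d12_1 D103683 (iv6 D89827) (iv5 D41961) D41962 F75453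
def n103684 : Q := act 3 n48022
theorem D103684 : act 3 n48022 = n103684 := rfl
def n103685 : Q := act 5 n48022
theorem D103685 : act 5 n48022 = n103685 := rfl
def n103686 : Q := act 7 n48022
theorem D103686 : act 7 n48022 = n103686 := rfl
theorem F159125 : act 2 n103686 = n103104 := d4_1 D103686 (iv7 D103104) (iv2 F75455)
theorem F159126 : act 4 n103686 = n48023 := d11_1 D103686 (iv7 D48023) D48022
theorem F159127 : act 1 n96396 = n103686 := d15_1 (iv0 F148379) (iv7 D103686) F75455
theorem F159128 : act 1 n103686 = n96393 := d15_1 F159127 F148371 (iv2 F148377)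
def n103687 : Q := act 6 n48023
theorem D103687 : act 6 n48023 = n103687 := rfl
theorem F159129 : act 2 n103687 = n103105 := d3_1 D103687 (iv6 D103105) (iv2 F75456)
theorem F159130 : act 5 n103687 = n48452 := d12_1 D103687 (iv6 D48452) (iv5 D23613) (iv6 F36281) (iv5 F75457)
def n103688 : Q := act 3 n48024
theorem D103688 : act 3 n48024 = n103688 := rfl
theorem F159131 : act 5 n103688 = n96492 := d6_2 (iv5 F75460) D103688 (iv3 D96492)
theorem F159132 : act 7 n103688 = n103125 := d8_2 F75469 D103688 (iv3 D103125)
theorem F159133 : act 0 n103688 = n57693 := d20_4 F153307 F115100 F115099 D103688 F90873 (iv4 D57113) D57111 F120319 D76722 (iv1 F153308)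
def n103689 : Q := act 6 n48024
theorem D103689 : act 6 n48024 = n103689 := rfl
theorem F159134 : act 2 n103689 = n103128 := d3_1 D103689 (iv6 D103128) (iv2 F75484)
def n103690 : Q := act 3 n48025
theorem D103690 : act 3 n48025 = n103690 := rfl
theorem F159135 : act 5 n103690 = n96494 := d6_2 (iv5 F75482) D103690 (iv3 D96494)
theorem F159136 : act 7 n103690 = n103127 := d8_2 F75483 D103690 (iv3 D103127)
def n103691 : Q := act 4 n48025
theorem D103691 : act 4 n48025 = n103691 := rfl
theorem F159137 : act 2 n103691 = n99605 := d1_1 D103691 F153355 F75481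
theorem F159138 : act 5 n103691 = n100890 := d9_2 (iv5 F75482) D103691 F155026 F89623 (iv4 D45721) D45722 F75463 (iv5 F75460) (iv4 F115099) (iv5 F155018) F155019 F89617 (iv4 D45718) D45719 F75474
theorem F159139 : act 7 n103691 = n99606 := d11_2 F75483 D103691 F153361
theorem F159140 : act 0 n103691 = n52923 := d17_0 F83632 D83679 (iv5 F149983) (iv4 D97228) F74238 (iv0 D38888) (iv5 F36286) D48025 D103691
theorem F159141 : act 1 n103691 = n99569 := d18_6 (iv1 D100890) (iv4 D47030) (iv1 F75473) F75474 (iv5 F75482) D103691 F153307 (iv0 F159140) F159138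
def n103692 : Q := act 6 n48025
theorem D103692 : act 6 n48025 = n103692 := rfl
theorem F159142 : act 2 n103692 = n103126 := d3_1 D103692 (iv6 D103126) F75481
def n103693 : Q := act 6 n48026
theorem D103693 : act 6 n48026 = n103693 := rfl
theorem F159143 : act 2 n103693 = n48027 := d3_1 D103693 (iv6 D48027) D48026
theorem F159144 : act 3 n103693 = n54348 := d7_1 D103693 F85754 (iv3 F75475)
theorem F159145 : act 4 n103693 = n54355 := d10_1 D103693 F85776 (iv4 F75476)
def n103694 : Q := act 0 n48027
theorem D103694 : act 0 n48027 = n103694 := rfl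
def n103695 : Q := act 1 n48027
theorem D103695 : act 1 n48027 = n103695 := rfl
def n103696 : Q := act 5 n48027
theorem D103696 : act 5 n48027 = n103696 := rfl
theorem F159146 : act 3 n103696 = n48030 := d6_1 D103696 (iv5 D48030) (iv3 F75487)
theorem F159147 : act 6 n103696 = n84346 := d12_2 D48027 D103696 (iv5 D84346) (iv6 D38890) (iv5 F36286)
def n103697 : Q := act 7 n48027
theorem D103697 : act 7 n48027 = n103697 := rfl
theorem F159148 : act 3 n103697 = n48031 := d8_1 D103697 (iv7 D48031) (iv3 F75487)
theorem F159149 : act 4 n103697 = n103132 := d11_1 D103697 (iv7 D103132) (iv4 F75488)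
theorem F159150 : act 6 n103697 = n103132 := d14_1 D103697 (iv7 D103132) (iv6 D47810) (iv7 F36287) D48027
def n103698 : Q := act 2 n48028
theorem D103698 : act 2 n48028 = n103698 := rfl
def n103699 : Q := act 3 n48028
theorem D103699 : act 3 n48028 = n103699 := rfl
def n103700 : Q := act 4 n48028
theorem D103700 : act 4 n48028 = n103700 := rfl
def n103701 : Q := act 5 n48028
theorem D103701 : act 5 n48028 = n103701 := rfl
def n103702 : Q := act 6 n48028
theorem D103702 : act 6 n48028 = n103702 := rfl
theorem F159152 : act 5 n103702 = n96788 := d21_6 (iv5 D21432) F16148 (iv5 F17730) D23178 D48028 D103702 (iv1 D96788) (iv5 D45229) (iv6 D21581) (iv1 F33663)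
def n103703 : Q := act 7 n48028
theorem D103703 : act 7 n48028 = n103703 := rfl
def n103704 : Q := act 3 n48029
theorem D103704 : act 3 n48029 = n103704 := rfl
def n103705 : Q := act 4 n48029
theorem D103705 : act 4 n48029 = n103705 := rfl
def n103706 : Q := act 5 n48029
theorem D103706 : act 5 n48029 = n103706 := rfl
def n103707 : Q := act 6 n48029
theorem D103707 : act 6 n48029 = n103707 := rfl
def n103708 : Q := act 0 n48030
theorem D103708 : act 0 n48030 = n103708 := rfl
def n103709 : Q := act 1 n48030
theorem D103709 : act 1 n48030 = n103709 := rfl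
theorem F159154 : act 1 n103709 = n84426 := d15_1 D103709 (iv7 D84426) (iv2 F75490)
theorem F159155 : act 5 n81706 = n103709 := d21_6 (iv5 D17930) (iv1 D8460) D8461 D17934 D37343 D81706 (iv1 D103709) (iv5 D48030) (iv6 D23178) (iv1 F29100)
def n103710 : Q := act 4 n48030
theorem D103710 : act 4 n48030 = n103710 := rfl
theorem F159156 : act 2 n103710 = n84425 := d1_1 D103710 (iv4 D84425) (iv2 F75490)
theorem F159157 : act 6 n103710 = n84354 := d10_2 (iv6 F75491) D103710 (iv4 D84354)
def n103711 : Q := act 7 n48030
theorem D103711 : act 7 n48030 = n103711 := rfl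
theorem F159158 : act 2 n103711 = n84426 := d4_1 D103711 (iv7 D84426) (iv2 F75490)
theorem F159159 : act 5 n103711 = n48031 := d13_1 D103711 (iv7 D48031) D48030
theorem F159160 : act 1 n84426 = n103708 := d15_0 (iv0 D103708) D103711 F159158
theorem F159161 : act 1 n84424 = n103711 := d15_1 D84424 (iv7 D103711) F75490
theorem F159162 : act 1 n103711 = n84423 := d15_0 (iv0 D84423) D84426 (iv2 F159158)
def n103713 : Q := act 1 n48032
theorem D103713 : act 1 n48032 = n103713 := rfl
theorem F159164 : act 1 n103713 = n48037 := d15_1 D103713 (iv7 D48037) D48032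
def n103714 : Q := act 3 n48032
theorem D103714 : act 3 n48032 = n103714 := rfl
theorem F159165 : act 7 n103714 = n48038 := d8_2 F75498 D103714 (iv3 D48038)
def n103715 : Q := act 4 n48032
theorem D103715 : act 4 n48032 = n103715 := rfl
theorem F159166 : act 2 n103715 = n48034 := d1_1 D103715 (iv4 D48034) D48032
theorem F159167 : act 7 n103715 = n48039 := d11_2 F75498 D103715 (iv4 D48039)
def n103716 : Q := act 5 n48032
theorem D103716 : act 5 n48032 = n103716 := rfl
theorem F159168 : act 2 n103716 = n48035 := d2_1 D103716 (iv5 D48035) D48032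
theorem F159169 : act 7 n103716 = n48040 := d13_2 F75498 D103716 (iv5 D48040)
def n103717 : Q := act 6 n48032
theorem D103717 : act 6 n48032 = n103717 := rfl
theorem F159170 : act 2 n103717 = n48036 := d3_1 D103717 (iv6 D48036) D48032
def n103718 : Q := act 0 n48033
theorem D103718 : act 0 n48033 = n103718 := rfl
def n103719 : Q := act 1 n48033
theorem D103719 : act 1 n48033 = n103719 := rfl
def n103720 : Q := act 2 n48033
theorem D103720 : act 2 n48033 = n103720 := rfl
def n103721 : Q := act 4 n48033
theorem D103721 : act 4 n48033 = n103721 := rfl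
def n103722 : Q := act 5 n48033
theorem D103722 : act 5 n48033 = n103722 := rfl
theorem F159171 : act 3 n103722 = n48035 := d6_1 D103722 (iv5 D48035) D48033
def n103723 : Q := act 6 n48033
theorem D103723 : act 6 n48033 = n103723 := rfl
theorem F159172 : act 3 n103723 = n48036 := d7_1 D103723 (iv6 D48036) D48033
def n103724 : Q := act 7 n48033
theorem D103724 : act 7 n48033 = n103724 := rfl
theorem F159173 : act 3 n103724 = n48037 := d8_1 D103724 (iv7 D48037) D48033
def n103725 : Q := act 0 n48034
theorem D103725 : act 0 n48034 = n103725 := rfl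
def n103726 : Q := act 1 n48034
theorem D103726 : act 1 n48034 = n103726 := rfl
theorem F159174 : act 1 n103726 = n48039 := d15_1 D103726 (iv7 F159167) F159166
def n103727 : Q := act 3 n48034
theorem D103727 : act 3 n48034 = n103727 := rfl
def n103728 : Q := act 5 n48034
theorem D103728 : act 5 n48034 = n103728 := rfl
def n103729 : Q := act 6 n48034
theorem D103729 : act 6 n48034 = n103729 := rfl
theorem F159175 : act 4 n103729 = n48036 := d10_1 D103729 (iv6 D48036) D48034
def n103730 : Q := act 7 n48034
theorem D103730 : act 7 n48034 = n103730 := rfl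
theorem F159176 : act 2 n103730 = n48039 := d4_1 D103730 (iv7 F159167) F159166
theorem F159177 : act 4 n103730 = n48037 := d11_1 D103730 (iv7 D48037) D48034
theorem F159178 : act 1 n48039 = n103725 := d15_0 (iv0 D103725) D103730 F159176
def n103731 : Q := act 0 n48035
theorem D103731 : act 0 n48035 = n103731 := rfl
theorem F159179 : act 5 n103731 = n97222 := d21_2 D48035 D103731 (iv6 D97222) (iv1 D45428) (iv6 D21678) F16471 (iv1 D4972) D4973 D10913 D23179
def n103732 : Q := act 1 n48035
theorem D103732 : act 1 n48035 = n103732 := rfl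
theorem F159180 : act 1 n103732 = n48040 := d15_1 D103732 (iv7 F159169) F159168
def n103733 : Q := act 4 n48035
theorem D103733 : act 4 n48035 = n103733 := rfl
def n103734 : Q := act 6 n48035
theorem D103734 : act 6 n48035 = n103734 := rfl
def n103735 : Q := act 7 n48035
theorem D103735 : act 7 n48035 = n103735 := rfl
theorem F159181 : act 2 n103735 = n48040 := d4_1 D103735 (iv7 F159169) F159168
theorem F159182 : act 5 n103735 = n48037 := d13_1 D103735 (iv7 D48037) D48035
theorem F159183 : act 1 n48040 = n103731 := d15_0 (iv0 D103731) D103735 F159181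
def n103736 : Q := act 0 n48036
theorem D103736 : act 0 n48036 = n103736 := rfl
def n103737 : Q := act 1 n48036
theorem D103737 : act 1 n48036 = n103737 := rfl
theorem F159184 : act 6 n103186 = n103737 := d21_3 D45429 D97223 (iv5 F158443) (iv1 D103737) (iv6 D48036) D48035 D103731 F159179 (iv6 D97222) (iv1 D45428)
def n103738 : Q := act 7 n48036
theorem D103738 : act 7 n48036 = n103738 := rfl
def n103739 : Q := act 6 n48037
theorem D103739 : act 6 n48037 = n103739 := rfl
theorem F159185 : act 2 n103739 = n48041 := d3_1 D103739 (iv6 D48041) (iv2 F75499)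
def n103740 : Q := act 0 n48038
theorem D103740 : act 0 n48038 = n103740 := rfl
def n103741 : Q := act 1 n48038
theorem D103741 : act 1 n48038 = n103741 := rfl
def n103742 : Q := act 2 n48038
theorem D103742 : act 2 n48038 = n103742 := rfl
def n103743 : Q := act 4 n48038
theorem D103743 : act 4 n48038 = n103743 := rfl
def n103744 : Q := act 5 n48038
theorem D103744 : act 5 n48038 = n103744 := rfl
theorem F159186 : act 3 n103744 = n48040 := d6_1 D103744 (iv5 D48040) D48038
def n103745 : Q := act 6 n48038
theorem D103745 : act 6 n48038 = n103745 := rfl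
theorem F159187 : act 3 n103745 = n48041 := d7_1 D103745 (iv6 D48041) D48038
def n103746 : Q := act 3 n48039
theorem D103746 : act 3 n48039 = n103746 := rfl
def n103747 : Q := act 5 n48039
theorem D103747 : act 5 n48039 = n103747 := rfl
def n103748 : Q := act 6 n48039
theorem D103748 : act 6 n48039 = n103748 := rfl
theorem F159188 : act 4 n103748 = n48041 := d10_1 D103748 (iv6 D48041) D48039
def n103749 : Q := act 4 n48040
theorem D103749 : act 4 n48040 = n103749 := rfl
def n103750 : Q := act 6 n48040
theorem D103750 : act 6 n48040 = n103750 := rfl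
def n103751 : Q := act 0 n48041
theorem D103751 : act 0 n48041 = n103751 := rfl
theorem F159189 : act 5 n103751 = n95869 := d21_0 (iv1 F149959) F149956 F71672 (iv1 F71683) D97222 (iv5 F159179) (iv1 F159183) (iv5 D48040) D48041 D103751
theorem F159190 : act 6 n103751 = n103172 := d21_3 D44761 D95869 (iv5 F159189) (iv1 D103172) (iv6 D47819) D47818 D103166 F158434 (iv6 D95868) (iv1 D44760)
def n103752 : Q := act 1 n48041
theorem D103752 : act 1 n48041 = n103752 := rfl
def n103753 : Q := act 5 n48041
theorem D103753 : act 5 n48041 = n103753 := rfl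
theorem F159191 : act 0 n97197 = n103753 := d21_1 D97197 (iv5 D103753) (iv6 D48041) (iv1 D23180) (iv6 D10913) (iv5 D4973) D4971 (iv5 F16465) D21676 D45421
def n103754 : Q := act 7 n48041
theorem D103754 : act 7 n48041 = n103754 := rfl
def n103755 : Q := act 2 n48042
theorem D103755 : act 2 n48042 = n103755 := rfl
theorem F159192 : act 7 n48043 = n103755 := d15_2 (iv0 D48042) D48043 (iv2 D103755)
def n103756 : Q := act 3 n48042
theorem D103756 : act 3 n48042 = n103756 := rfl
def n103757 : Q := act 4 n48042
theorem D103757 : act 4 n48042 = n103757 := rfl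
def n103758 : Q := act 5 n48042
theorem D103758 : act 5 n48042 = n103758 := rfl
def n103759 : Q := act 6 n48042
theorem D103759 : act 6 n48042 = n103759 := rfl
def n103760 : Q := act 7 n48042
theorem D103760 : act 7 n48042 = n103760 := rfl
theorem F159193 : act 2 n103760 = n48043 := d4_1 D103760 F159192 (iv2 D103755)
def n103761 : Q := act 3 n48043
theorem D103761 : act 3 n48043 = n103761 := rfl
def n103762 : Q := act 4 n48043
theorem D103762 : act 4 n48043 = n103762 := rfl
def n103763 : Q := act 6 n48043
theorem D103763 : act 6 n48043 = n103763 := rfl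
def n103764 : Q := act 0 n48044
theorem D103764 : act 0 n48044 = n103764 := rfl
def n103765 : Q := act 1 n48044
theorem D103765 : act 1 n48044 = n103765 := rfl
def n103766 : Q := act 3 n48044
theorem D103766 : act 3 n48044 = n103766 := rfl
theorem F159194 : act 4 n103766 = n103201 := d5_2 D48044 D103766 (iv3 D103201) (iv4 D47827) (iv3 F36290)
theorem F159195 : act 6 n103766 = n48071 := d7_2 (iv6 F75500) D103766 (iv3 D48071)
def n103767 : Q := act 5 n48044
theorem D103767 : act 5 n48044 = n103767 := rfl
def n103768 : Q := act 7 n48044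
theorem D103768 : act 7 n48044 = n103768 := rfl
theorem F159196 : act 4 n103768 = n48045 := d11_1 D103768 (iv7 D48045) D48044
def n103769 : Q := act 6 n48045
theorem D103769 : act 6 n48045 = n103769 := rfl
theorem F159197 : act 3 n103769 = n103204 := d7_1 D103769 (iv6 D103204) (iv3 F75501)
theorem F159198 : act 5 n103769 = n103204 := d12_1 D103769 (iv6 D103204) F75112 (iv6 F36293) (iv5 F75502)
theorem F159199 : act 7 n103769 = n48074 := d14_2 D48045 D103769 (iv6 D48074) (iv7 D23192) (iv6 F36291)
def n103770 : Q := act 4 n48046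
theorem D103770 : act 4 n48046 = n103770 := rfl
theorem F159200 : act 3 n103770 = n90608 := d5_1 D103770 (iv4 D90608) (iv3 F139640) F139641 (iv3 F139642)
def n103771 : Q := act 5 n48046
theorem D103771 : act 5 n48046 = n103771 := rfl
theorem F159201 : act 3 n103771 = n103231 := d6_1 D103771 (iv5 D103231) (iv3 F139642)
def n103772 : Q := act 6 n48046
theorem D103772 : act 6 n48046 = n103772 := rfl
def n103773 : Q := act 3 n48047
theorem D103773 : act 3 n48047 = n103773 := rfl
theorem F159203 : act 2 n103773 = n103228 := d0_1 D103773 (iv3 D103228) (iv2 F154623) (iv3 F158960) F158970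
theorem F159204 : act 4 n103773 = n100436 := d5_2 F154712 D103773 (iv3 F154713) (iv4 D100631) D100630
theorem F159205 : act 0 n103773 = n99480 := d20_1 (iv4 F159204) (iv4 D99480) F126436 (iv1 F126431) (iv3 D42755) F65651 F65647 D23055 D47882 (iv1 F154489)
theorem F159206 : act 1 n103773 = n99485 := d15_1 (iv0 F159205) (iv7 F158915) F158914
def n103776 : Q := act 5 n48048
theorem D103776 : act 5 n48048 = n103776 := rfl
theorem F159207 : act 2 n103776 = n48049 := d2_1 D103776 (iv5 D48049) D48048
def n103777 : Q := act 6 n48048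
theorem D103777 : act 6 n48048 = n103777 := rfl
theorem F159208 : act 2 n103777 = n48050 := d3_1 D103777 (iv6 D48050) D48048
theorem F159209 : act 4 n103777 = n100518 := d10_1 D103777 (iv6 D100518) (iv4 F75503)
def n103781 : Q := act 6 n48049
theorem D103781 : act 6 n48049 = n103781 := rfl
theorem F159210 : act 3 n103781 = n48054 := d7_1 D103781 (iv6 D48054) (iv3 F75504)
def n103783 : Q := act 1 n48050
theorem D103783 : act 1 n48050 = n103783 := rfl
def n103784 : Q := act 3 n48051
theorem D103784 : act 3 n48051 = n103784 := rfl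
theorem F159211 : act 2 n103784 = n103215 := d0_1 D103784 (iv3 D103215) (iv2 F75118) (iv3 F138049) F138048
theorem F159212 : act 5 n103784 = n95698 := d6_2 (iv5 F75507) D103784 F147388
def n103785 : Q := act 4 n48051
theorem D103785 : act 4 n48051 = n103785 := rfl
theorem F159213 : act 0 n103785 = n48106 := d18_2 D48051 D103785 (iv4 D48106) (iv5 D23227) (iv4 D10925) F17719 (iv4 F36232) F36235 D23184
theorem F159214 : act 1 n103785 = n48089 := d18_6 (iv1 D44833) F33549 (iv1 F63311) (iv4 F70273) (iv5 F75507) D103785 (iv4 D48089) D48088 (iv5 F75558)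
def n103786 : Q := act 6 n48051
theorem D103786 : act 6 n48051 = n103786 := rfl
theorem F159215 : act 5 n103786 = n95700 := d12_1 D103786 (iv6 D95700) (iv5 D44697) D44698 (iv5 F75507)
def n103787 : Q := act 4 n48052
theorem D103787 : act 4 n48052 = n103787 := rfl
theorem F159217 : act 1 n103787 = n48106 := d18_6 (iv1 F137950) (iv4 D89868) (iv1 D41984) (iv4 F64770) F75510 D103787 (iv4 D48106) F75556 F75555
def n103788 : Q := act 6 n48052
theorem D103788 : act 6 n48052 = n103788 := rfl
theorem F159218 : act 3 n103788 = n103219 := d7_1 D103788 (iv6 D103219) (iv3 F75511)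
theorem F159219 : act 5 n103788 = n89867 := d12_1 D103788 (iv6 D89867) (iv5 D41982) D41983 F75510
def n103789 : Q := act 0 n48053
theorem D103789 : act 0 n48053 = n103789 := rfl
theorem F159220 : act 4 n103789 = n97006 := d18_3 (iv1 D48052) D48053 D103789 (iv5 D97006) F71461 F69171 F69052 (iv0 F70365) F75510
theorem F159221 : act 3 n97006 = n103353 := d20_3 D48053 D103789 F159220 (iv1 D103353) F75214 D47896 (iv1 F158468) (iv4 D103218) (iv3 F75511) (iv1 D48052)
theorem F159222 : act 1 n48061 = n103789 := d15_0 (iv0 D103789) (iv7 F158975) F158974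
theorem F159223 : act 5 n103353 = n97003 := d6_2 D97006 F159221 F149606
def n103790 : Q := act 1 n48053
theorem D103790 : act 1 n48053 = n103790 := rfl
theorem F159224 : act 1 n103790 = n48061 := d15_1 D103790 (iv7 F143321) F143320
theorem F159225 : act 4 n103790 = n103625 := d18_7 F63075 F30956 D19302 (iv4 F62965) D23184 D48053 D103790 F158998 (iv5 D47996)
def n103791 : Q := act 3 n48053
theorem D103791 : act 3 n48053 = n103791 := rfl
def n103792 : Q := act 5 n48053
theorem D103792 : act 5 n48053 = n103792 := rfl
def n103793 : Q := act 6 n48053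
theorem D103793 : act 6 n48053 = n103793 := rfl
theorem F159227 : act 4 n103793 = n48054 := d10_1 D103793 (iv6 D48054) D48053
def n103794 : Q := act 0 n48054
theorem D103794 : act 0 n48054 = n103794 := rfl
def n103795 : Q := act 1 n48054
theorem D103795 : act 1 n48054 = n103795 := rfl
def n103796 : Q := act 7 n48054
theorem D103796 : act 7 n48054 = n103796 := rfl
def n103797 : Q := act 5 n48057
theorem D103797 : act 5 n48057 = n103797 := rfl
theorem F159228 : act 3 n103797 = n103206 := d6_1 D103797 (iv5 D103206) F138904
theorem F159229 : act 7 n103797 = n103110 := d13_2 F157745 D103797 (iv5 D103110)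
theorem F159230 : act 1 n48066 = n103797 := d15_1 (iv0 F159082) F159229 (iv2 F159081)
def n103798 : Q := act 5 n48058
theorem D103798 : act 5 n48058 = n103798 := rfl
theorem F159231 : act 2 n103798 = n48059 := d2_1 D103798 (iv5 D48059) D48058
def n103799 : Q := act 6 n48058
theorem D103799 : act 6 n48058 = n103799 := rfl
theorem F159232 : act 2 n103799 = n48060 := d3_1 D103799 (iv6 D48060) D48058
def n103800 : Q := act 0 n48059
theorem D103800 : act 0 n48059 = n103800 := rfl
def n103801 : Q := act 1 n48059
theorem D103801 : act 1 n48059 = n103801 := rfl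
def n103802 : Q := act 4 n48059
theorem D103802 : act 4 n48059 = n103802 := rfl
def n103803 : Q := act 6 n48059
theorem D103803 : act 6 n48059 = n103803 := rfl
theorem F159233 : act 3 n103803 = n48062 := d7_1 D103803 (iv6 D48062) (iv3 F75519)
def n103804 : Q := act 0 n48060
theorem D103804 : act 0 n48060 = n103804 := rfl
def n103805 : Q := act 1 n48060
theorem D103805 : act 1 n48060 = n103805 := rfl
def n103806 : Q := act 3 n48061
theorem D103806 : act 3 n48061 = n103806 := rfl
def n103807 : Q := act 5 n48061
theorem D103807 : act 5 n48061 = n103807 := rfl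
def n103808 : Q := act 6 n48061
theorem D103808 : act 6 n48061 = n103808 := rfl
theorem F159235 : act 4 n103808 = n48062 := d10_1 D103808 (iv6 D48062) D48061
def n103809 : Q := act 0 n48062
theorem D103809 : act 0 n48062 = n103809 := rfl
def n103810 : Q := act 1 n48062
theorem D103810 : act 1 n48062 = n103810 := rfl
def n103811 : Q := act 7 n48062
theorem D103811 : act 7 n48062 = n103811 := rfl
def n103812 : Q := act 0 n48063
theorem D103812 : act 0 n48063 = n103812 := rfl
def n103813 : Q := act 1 n48063
theorem D103813 : act 1 n48063 = n103813 := rfl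
def n103814 : Q := act 2 n48063
theorem D103814 : act 2 n48063 = n103814 := rfl
theorem F159236 : act 1 n103814 = n103081 := d15_0 (iv0 F158368) (iv7 F147602) D103814
def n103815 : Q := act 4 n48063
theorem D103815 : act 4 n48063 = n103815 := rfl
def n103816 : Q := act 6 n48063
theorem D103816 : act 6 n48063 = n103816 := rfl
theorem F159237 : act 3 n103816 = n48065 := d7_1 D103816 (iv6 D48065) D48063
def n103817 : Q := act 0 n48064
theorem D103817 : act 0 n48064 = n103817 := rfl
theorem F159238 : act 4 n103817 = n96087 := d18_3 D23189 D48064 D103817 F147699 F70595 F62121 (iv4 F62965) (iv0 D10914) D10916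
theorem F159239 : act 1 n48067 = n103817 := d15_0 (iv0 D103817) (iv7 F147624) F147623
theorem F159240 : act 7 n103817 = n96211 := d15_2 F134850 F159239 F147966
def n103818 : Q := act 3 n48064
theorem D103818 : act 3 n48064 = n103818 := rfl
def n103819 : Q := act 5 n48064
theorem D103819 : act 5 n48064 = n103819 := rfl
theorem F159241 : act 4 n103819 = n48128 := d16_2 D48064 D103819 (iv5 D48128) (iv4 F66318) (iv5 F66315) (iv4 F69059) F69060 (iv7 F75381) F75382
def n103820 : Q := act 6 n48064
theorem D103820 : act 6 n48064 = n103820 := rfl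
theorem F159242 : act 4 n103820 = n48065 := d10_1 D103820 (iv6 D48065) D48064
def n103821 : Q := act 0 n48065
theorem D103821 : act 0 n48065 = n103821 := rfl
def n103822 : Q := act 1 n48065
theorem D103822 : act 1 n48065 = n103822 := rfl
def n103823 : Q := act 5 n48065
theorem D103823 : act 5 n48065 = n103823 := rfl
theorem F159243 : act 6 n103823 = n48453 := d12_2 D48065 D103823 (iv5 F137872) (iv6 F137871) F75384
def n103824 : Q := act 7 n48065
theorem D103824 : act 7 n48065 = n103824 := rfl
def n103828 : Q := act 3 n48067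
theorem D103828 : act 3 n48067 = n103828 := rfl
def n103829 : Q := act 5 n48067
theorem D103829 : act 5 n48067 = n103829 := rfl
theorem F159245 : act 4 n103829 = n48125 := d9_1 D103829 (iv5 D48125) F68411 D87870 F134870 F75384 D48064 D103819 F159241 (iv5 D48128) (iv4 F66318) (iv5 F66315) (iv4 F69059) F69060 D48067
def n103830 : Q := act 6 n48067
theorem D103830 : act 6 n48067 = n103830 := rfl
def n103834 : Q := act 3 n48069
theorem D103834 : act 3 n48069 = n103834 := rfl
def n103835 : Q := act 5 n48069
theorem D103835 : act 5 n48069 = n103835 := rfl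
theorem F159247 : act 4 n103835 = n48122 := d16_2 (iv4 F147708) D103835 (iv5 D48122) (iv4 D23240) (iv5 F33468) (iv4 F70180) D95554 F147215 (iv2 F147704)
def n103836 : Q := act 6 n48069
theorem D103836 : act 6 n48069 = n103836 := rfl
def n103837 : Q := act 3 n48070
theorem D103837 : act 3 n48070 = n103837 := rfl
def n103838 : Q := act 5 n48070
theorem D103838 : act 5 n48070 = n103838 := rfl
theorem F159248 : act 4 n103838 = n48116 := d9_1 D103838 (iv5 D48116) (iv4 D23235) (iv5 F63418) (iv4 F70415) (iv5 F147705) (iv4 F147708) D103835 F159247 (iv5 D48122) (iv4 D23240) (iv5 F33468) (iv4 F70180) D95554 (iv4 F147218)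
def n103839 : Q := act 6 n48070
theorem D103839 : act 6 n48070 = n103839 := rfl
def n103840 : Q := act 0 n48071
theorem D103840 : act 0 n48071 = n103840 := rfl
def n103841 : Q := act 1 n48071
theorem D103841 : act 1 n48071 = n103841 := rfl
def n103842 : Q := act 2 n48071
theorem D103842 : act 2 n48071 = n103842 := rfl
theorem F159249 : act 4 n103842 = n103280 := d1_2 (iv4 F75521) D103842 (iv2 D103280)
def n103843 : Q := act 5 n48071
theorem D103843 : act 5 n48071 = n103843 := rfl
theorem F159250 : act 3 n103843 = n48072 := d6_1 D103843 (iv5 D48072) D48071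
def n103844 : Q := act 7 n48071
theorem D103844 : act 7 n48071 = n103844 := rfl
theorem F159251 : act 3 n103844 = n48073 := d8_1 D103844 (iv7 D48073) D48071
theorem F159252 : act 4 n103844 = n103282 := d11_1 D103844 (iv7 D103282) (iv4 F75521)
def n103845 : Q := act 0 n48072
theorem D103845 : act 0 n48072 = n103845 := rfl
theorem F159253 : act 5 n103845 = n48089 := d17_3 (iv1 D48070) D48072 D103845 (iv4 D48089) (iv5 D23208) (iv0 F62739) D44921 (iv0 F147216) (iv4 F147218)
theorem F159254 : act 4 n103845 = n48111 := d18_3 (iv1 F159037) F159034 D103845 (iv5 D48111) (iv4 D23229) F36317 D48093 (iv0 F134858) F134857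
theorem F159255 : act 1 n48137 = n103845 := d15_0 (iv0 D103845) F159030 F159028
def n103846 : Q := act 1 n48072
theorem D103846 : act 1 n48072 = n103846 := rfl
theorem F159256 : act 1 n103846 = n48137 := d15_1 D103846 F158990 F158988
theorem F159257 : act 5 n103846 = n48106 := d17_7 (iv1 F75508) (iv5 D23187) (iv1 D10915) D10916 D23191 D48072 D103846 (iv0 F159213) (iv4 D103785)
theorem F159258 : act 4 n48099 = n103846 := d9_15 F159257 (iv4 D48106) (iv5 D23227) (iv4 D10925) D10926 D23229 D48111 (iv4 F159254) F159253 (iv4 D48089) (iv5 D23208) (iv4 D10920) D10921 D23213 D48099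
def n103847 : Q := act 6 n48072
theorem D103847 : act 6 n48072 = n103847 := rfl
def n103848 : Q := act 6 n48073
theorem D103848 : act 6 n48073 = n103848 := rfl
theorem F159259 : act 4 n103848 = n48074 := d10_1 D103848 (iv6 D48074) (iv4 F75522)
def n103849 : Q := act 0 n48074
theorem D103849 : act 0 n48074 = n103849 := rfl
def n103850 : Q := act 1 n48074
theorem D103850 : act 1 n48074 = n103850 := rfl
def n103852 : Q := act 1 n48080
theorem D103852 : act 1 n48080 = n103852 := rfl
theorem F159262 : act 1 n103852 = n87853 := d15_1 D103852 (iv7 F154095) F154093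
theorem F159263 : act 7 n103852 = n87858 := d15_2 (iv0 F154963) D103852 (iv2 F154961)
theorem F159264 : act 4 n88039 = n103852 := d20_0 (iv1 D103852) F75549 F62139 (iv1 F36439) F73278 (iv4 F73279) F157721 (iv4 F139311) (iv3 F153282) F157771
theorem F159265 : act 2 n103852 = n87857 := d1_1 F159264 (iv4 F157793) F157791
theorem F159266 : act 3 n103852 = n103291 := d5_1 F159264 (iv4 F158521) (iv3 D99870) F135046 D88039
def n103853 : Q := act 5 n48080
theorem D103853 : act 5 n48080 = n103853 := rfl
theorem F159267 : act 3 n103853 = n48081 := d6_1 D103853 (iv5 D48081) D48080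
theorem F159268 : act 7 n103853 = n87859 := d13_2 (iv7 F75551) D103853 (iv5 D87859)
def n103854 : Q := act 4 n48081
theorem D103854 : act 4 n48081 = n103854 := rfl
theorem F159269 : act 2 n103854 = n103817 := d1_1 D103854 F159238 (iv2 F147700)
theorem F159270 : act 7 n103854 = n87865 := d11_2 (iv7 F75552) D103854 (iv4 D87865)
theorem F159271 : act 0 n103854 = n95990 := d18_2 (iv1 F147706) D103854 (iv4 D95990) (iv5 D44794) (iv4 F69052) (iv0 F69169) D94094 F144993 (iv5 F147705)
theorem F159272 : act 1 n103854 = n103618 := d18_6 F32655 (iv4 D20560) (iv1 F62650) (iv4 F62533) D48081 D103854 (iv4 D103618) (iv0 D47991) (iv5 D23152)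
def n103855 : Q := act 6 n48081
theorem D103855 : act 6 n48081 = n103855 := rfl
theorem F159273 : act 5 n103855 = n103295 := d12_1 D103855 (iv6 D103295) (iv5 D47863) (iv6 F66366) D48081
def n103856 : Q := act 2 n48082
theorem D103856 : act 2 n48082 = n103856 := rfl
def n103857 : Q := act 5 n48082
theorem D103857 : act 5 n48082 = n103857 := rfl
def n103858 : Q := act 6 n48082
theorem D103858 : act 6 n48082 = n103858 := rfl
theorem F159276 : act 3 n103858 = n103298 := d7_1 D103858 (iv6 D103298) F139008
def n103859 : Q := act 7 n48082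
theorem D103859 : act 7 n48082 = n103859 := rfl
def n103860 : Q := act 3 n48083
theorem D103860 : act 3 n48083 = n103860 := rfl
theorem F159281 : act 0 n103860 = n103589 := d20_10 (iv4 D103589) (iv1 F75360) F75026 F75025 (iv1 F36042) D23019 (iv4 F65227) D90340 F139005 D103860
theorem F159282 : act 0 n103592 = n103860 := d20_4 (iv4 F157781) F157779 D100861 (iv3 F158935) (iv3 D103860) (iv4 F139005) (iv1 F139006) (iv4 F139634) F139633 (iv1 F154114)
def n103863 : Q := act 5 n48084
theorem D103863 : act 5 n48084 = n103863 := rfl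
theorem F159283 : act 2 n103863 = n48085 := d2_1 D103863 (iv5 D48085) D48084
def n103864 : Q := act 6 n48084
theorem D103864 : act 6 n48084 = n103864 := rfl
theorem F159284 : act 2 n103864 = n48086 := d3_1 D103864 (iv6 D48086) D48084
def n103865 : Q := act 0 n48085
theorem D103865 : act 0 n48085 = n103865 := rfl
def n103866 : Q := act 1 n48085
theorem D103866 : act 1 n48085 = n103866 := rfl
def n103867 : Q := act 4 n48085
theorem D103867 : act 4 n48085 = n103867 := rfl
def n103868 : Q := act 6 n48085
theorem D103868 : act 6 n48085 = n103868 := rfl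
theorem F159285 : act 3 n103868 = n48090 := d7_1 D103868 (iv6 D48090) (iv3 F75553)
def n103869 : Q := act 0 n48086
theorem D103869 : act 0 n48086 = n103869 := rfl
theorem F159286 : act 4 n103869 = n94034 := d20_0 (iv1 D94034) (iv4 F144815) (iv3 D93993) F69064 (iv3 F75516) F75514 (iv1 D23217) (iv4 F36309) (iv3 F75554) D103869
theorem F159287 : act 3 n103309 = n103869 := d20_5 F36662 (iv1 F63192) (iv4 F36090) (iv3 F75141) D103309 F159286 (iv1 D94034) (iv4 F144815) (iv3 D93993) F69064
def n103870 : Q := act 1 n48086
theorem D103870 : act 1 n48086 = n103870 := rfl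
theorem F159288 : act 4 n94033 = n103870 := d20_0 (iv1 D103870) (iv4 F142633) F142632 F67993 F36591 F31121 F35648 D20827 D43950 D94033
def n103871 : Q := act 5 n48086
theorem D103871 : act 5 n48086 = n103871 := rfl
def n103872 : Q := act 3 n48087
theorem D103872 : act 3 n48087 = n103872 := rfl
theorem F159290 : act 5 n103872 = n95682 := d6_2 (iv5 F75555) D103872 F147374
def n103873 : Q := act 4 n48087
theorem D103873 : act 4 n48087 = n103873 := rfl
theorem F159291 : act 2 n103873 = n103789 := d1_1 D103873 F159220 F149612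
theorem F159292 : act 7 n103873 = n103790 := d11_2 F158999 D103873 F159225
theorem F159294 : act 1 n103873 = n92939 := d18_6 F137883 F69059 (iv1 F71466) (iv4 F70265) (iv5 F75555) D103873 (iv4 D92939) D92938 F143318
def n103874 : Q := act 6 n48087
theorem D103874 : act 6 n48087 = n103874 := rfl
theorem F159295 : act 5 n103874 = n95684 := d12_1 D103874 (iv6 D95684) (iv5 D44690) D44691 (iv5 F75555)
def n103875 : Q := act 3 n48088
theorem D103875 : act 3 n48088 = n103875 := rfl
theorem F159296 : act 5 n103875 = n96086 := d6_2 F75558 D103875 (iv3 D96086)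
theorem F159297 : act 7 n103875 = n103353 := d8_2 F149613 D103875 (iv3 F159221)
theorem F159298 : act 2 n103875 = n103352 := d15_3 (iv0 D103352) D103353 (iv7 F159297)
def n103876 : Q := act 4 n48088
theorem D103876 : act 4 n48088 = n103876 := rfl
theorem F159299 : act 2 n103876 = n103790 := d1_1 D103876 F159225 (iv2 F159001)
theorem F159300 : act 7 n103876 = n103789 := d11_2 F149613 D103876 F159220
theorem F159301 : act 0 n103876 = n92939 := d18_2 (iv1 F75557) D103876 (iv4 D92939) (iv5 D43478) (iv4 D20560) F62632 (iv4 F33681) F62740 D23227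
theorem F159302 : act 1 n103876 = n103615 := d18_6 (iv1 F75386) (iv4 F134870) F134871 (iv4 F70414) F75558 D103876 (iv4 D103615) (iv0 F138051) (iv5 D89906)
theorem F159303 : act 0 n103875 = n103054 := d20_4 D103615 (iv1 F159302) (iv4 D103876) D103875 F158306 D103056 F158314 (iv4 D89924) (iv3 F138049) F138051
def n103877 : Q := act 6 n48088
theorem D103877 : act 6 n48088 = n103877 := rfl
theorem F159304 : act 5 n103877 = n95485 := d12_1 D103877 (iv6 D95485) (iv5 F71798) (iv6 F71801) F75558
def n103878 : Q := act 3 n48089
theorem D103878 : act 3 n48089 = n103878 := rfl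
def n103879 : Q := act 6 n48089
theorem D103879 : act 6 n48089 = n103879 := rfl
theorem F159305 : act 4 n103879 = n48090 := d10_1 D103879 (iv6 D48090) D48089
def n103880 : Q := act 0 n48090
theorem D103880 : act 0 n48090 = n103880 := rfl
def n103881 : Q := act 1 n48090
theorem D103881 : act 1 n48090 = n103881 := rfl
def n103883 : Q := act 7 n48090
theorem D103883 : act 7 n48090 = n103883 := rfl
def n103886 : Q := act 6 n48093
theorem D103886 : act 6 n48093 = n103886 := rfl
theorem F159311 : act 4 n103886 = n48094 := d10_1 D103886 (iv6 D48094) D48093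
theorem F159312 : act 7 n103886 = n95380 := d14_2 F143333 D103886 (iv6 D95380) (iv7 F70810) F143336
def n103892 : Q := act 5 n48097
theorem D103892 : act 5 n48097 = n103892 := rfl
theorem F159321 : act 0 n103892 = n96101 := d17_2 (iv1 F75571) D103892 (iv5 D96101) (iv4 D44842) (iv5 D21364) (iv0 F63235) (iv5 F63304) F36314 D23229
def n103898 : Q := act 0 n48099
theorem D103898 : act 0 n48099 = n103898 := rfl
theorem F159325 : act 5 n103898 = n48113 := d17_1 D103898 (iv1 F75594) D48122 (iv4 F159247) (iv5 D103835) (iv0 D48069) D48072 D103846 (iv4 F159258)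
def n103903 : Q := act 0 n48104
theorem D103903 : act 0 n48104 = n103903 := rfl
def n103904 : Q := act 1 n48104
theorem D103904 : act 1 n48104 = n103904 := rfl
theorem F159333 : act 3 n95624 = n103904 := d20_3 D47836 D103220 F158469 (iv1 D103904) F75579 D48106 (iv1 F159217) (iv4 D103787) F75511 (iv1 D47835)
theorem F159335 : act 7 n103904 = n103315 := d8_2 (iv7 F147301) F159333 (iv3 D103315)
theorem F159336 : act 2 n103315 = n103903 := d15_3 (iv0 D103903) D103904 F159335
def n103905 : Q := act 4 n48104
theorem D103905 : act 4 n48104 = n103905 := rfl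
def n103906 : Q := act 6 n48104
theorem D103906 : act 6 n48104 = n103906 := rfl
theorem F159337 : act 3 n103906 = n48107 := d7_1 D103906 (iv6 D48107) (iv3 F75579)
def n103907 : Q := act 0 n48105
theorem D103907 : act 0 n48105 = n103907 := rfl
theorem F159338 : act 2 n103365 = n103907 := d15_3 (iv0 D103907) (iv0 F148344) (iv7 F158652)
theorem F159339 : act 5 n103907 = n97053 := d2_2 (iv5 F158650) F159338 (iv2 F149720)
theorem F159340 : act 7 n103907 = n95464 := d4_2 (iv7 F158652) F159338 (iv2 F148341)
theorem F159341 : act 1 n103365 = n100799 := d15_0 F158655 (iv7 F159340) (iv2 F159338)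
def n103908 : Q := act 5 n48105
theorem D103908 : act 5 n48105 = n103908 := rfl
theorem F159342 : act 3 n103908 = n48109 := d6_1 D103908 (iv5 D48109) (iv3 F75580)
theorem F159343 : act 0 n95672 = n103908 := d21_1 D95672 (iv5 D103908) (iv6 D48105) (iv1 F74220) (iv6 D44989) (iv5 F70248) (iv1 F71517) (iv5 D45363) D45364 F136448
def n103909 : Q := act 3 n48106
theorem D103909 : act 3 n48106 = n103909 := rfl
def n103910 : Q := act 6 n48106
theorem D103910 : act 6 n48106 = n103910 := rfl
theorem F159344 : act 4 n103910 = n48107 := d10_1 D103910 (iv6 D48107) D48106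
def n103911 : Q := act 0 n48107
theorem D103911 : act 0 n48107 = n103911 := rfl
def n103912 : Q := act 1 n48107
theorem D103912 : act 1 n48107 = n103912 := rfl
def n103913 : Q := act 5 n48107
theorem D103913 : act 5 n48107 = n103913 := rfl
theorem F159345 : act 6 n103913 = n48109 := d12_2 D48107 D103913 (iv5 D48109) (iv6 D23228) D23227
def n103914 : Q := act 7 n48107
theorem D103914 : act 7 n48107 = n103914 := rfl
def n103920 : Q := act 7 n48112
theorem D103920 : act 7 n48112 = n103920 := rfl
theorem F159349 : act 5 n103920 = n48530 := d13_1 D103920 F76381 (iv5 F75590)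
theorem F159350 : act 6 n103920 = n89609 := d14_1 D103920 F137389 (iv6 D46845) (iv7 F65903) D48112
def n103921 : Q := act 3 n48113
theorem D103921 : act 3 n48113 = n103921 := rfl
theorem F159353 : act 4 n103921 = n87949 := d5_2 (iv4 F75593) D103921 F134942 F62301 (iv3 F62131)
theorem F159354 : act 7 n103921 = n87873 := d8_2 F75596 D103921 (iv3 D87873)
def n103924 : Q := act 0 n48115
theorem D103924 : act 0 n48115 = n103924 := rfl
def n103925 : Q := act 1 n48115
theorem D103925 : act 1 n48115 = n103925 := rfl
def n103926 : Q := act 2 n48115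
theorem D103926 : act 2 n48115 = n103926 := rfl
def n103927 : Q := act 5 n48115
theorem D103927 : act 5 n48115 = n103927 := rfl
theorem F159362 : act 3 n103927 = n48116 := d6_1 D103927 (iv5 D48116) D48115
def n103928 : Q := act 6 n48115
theorem D103928 : act 6 n48115 = n103928 := rfl
theorem F159363 : act 3 n103928 = n48117 := d7_1 D103928 (iv6 D48117) D48115
def n103929 : Q := act 0 n48116
theorem D103929 : act 0 n48116 = n103929 := rfl
theorem F159364 : act 5 n103929 = n93365 := d17_3 (iv1 D48114) D48116 D103929 (iv4 D93365) (iv5 F69166) F69170 (iv5 D43532) (iv0 F68408) F75598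
theorem F159365 : act 1 n48122 = n103929 := d15_0 (iv0 D103929) (iv7 F147734) F147733
def n103931 : Q := act 6 n48116
theorem D103931 : act 6 n48116 = n103931 := rfl
def n103933 : Q := act 1 n48117
theorem D103933 : act 1 n48117 = n103933 := rfl
theorem F159377 : act 6 n103339 = n103933 := d21_3 D45022 D96422 (iv5 F158592) (iv1 D103933) (iv6 D48117) D48116 D103929 F159364 F144003 (iv1 D45020)
def n103937 : Q := act 0 n48121
theorem D103937 : act 0 n48121 = n103937 := rfl
def n103938 : Q := act 1 n48121
theorem D103938 : act 1 n48121 = n103938 := rfl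
def n103939 : Q := act 2 n48121
theorem D103939 : act 2 n48121 = n103939 := rfl
def n103940 : Q := act 5 n48121
theorem D103940 : act 5 n48121 = n103940 := rfl
theorem F159386 : act 3 n103940 = n48122 := d6_1 D103940 (iv5 D48122) D48121
def n103941 : Q := act 6 n48121
theorem D103941 : act 6 n48121 = n103941 := rfl
theorem F159387 : act 3 n103941 = n48123 := d7_1 D103941 (iv6 D48123) D48121
theorem F159388 : act 7 n103376 = n103941 := d8_0 F159387 (iv7 F75618) D103376
def n103942 : Q := act 6 n48122
theorem D103942 : act 6 n48122 = n103942 := rfl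
def n103943 : Q := act 0 n48123
theorem D103943 : act 0 n48123 = n103943 := rfl
theorem F159389 : act 5 n103943 = n95719 := d17_1 D103943 (iv1 F149692) F149690 F71499 F34044 (iv0 F63243) D19786 F63281 (iv4 F75617)
theorem F159390 : act 4 n103943 = n87454 := d18_3 F36332 (iv4 F75617) D103943 (iv5 D87454) (iv4 F63701) (iv0 D21279) F16005 D10164 D21290
def n103944 : Q := act 5 n48123
theorem D103944 : act 5 n48123 = n103944 := rfl
theorem F159396 : act 0 n103944 = n97029 := d17_2 (iv1 F138145) D103944 (iv5 D97029) (iv4 F125248) (iv5 F125246) (iv0 F135319) (iv5 F137709) (iv0 D89720) D89722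
def n103945 : Q := act 0 n48124
theorem D103945 : act 0 n48124 = n103945 := rfl
def n103946 : Q := act 1 n48124
theorem D103946 : act 1 n48124 = n103946 := rfl
def n103947 : Q := act 2 n48124
theorem D103947 : act 2 n48124 = n103947 := rfl
theorem F159398 : act 4 n103947 = n100673 := d1_2 (iv4 F75619) D103947 (iv2 D100673)
def n103948 : Q := act 5 n48124
theorem D103948 : act 5 n48124 = n103948 := rfl
def n103949 : Q := act 6 n48124
theorem D103949 : act 6 n48124 = n103949 := rfl
theorem F159401 : act 4 n103949 = n100675 := d10_1 D103949 (iv6 D100675) (iv4 F75619)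
def n103953 : Q := act 5 n48126
theorem D103953 : act 5 n48126 = n103953 := rfl
theorem F159410 : act 0 n103953 = n96448 := d17_2 F148487 D103953 (iv5 D96448) F70871 F33823 D45029 (iv5 F70855) (iv0 F70816) (iv4 F76162)
theorem F159411 : act 1 n103953 = n103443 := d17_6 F140281 F135400 (iv1 F139929) (iv5 F139932) F134875 D103953 (iv5 D103443) (iv0 F140311) (iv4 D91255)
def n103955 : Q := act 0 n48127
theorem D103955 : act 0 n48127 = n103955 := rfl
def n103956 : Q := act 1 n48127
theorem D103956 : act 1 n48127 = n103956 := rfl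
def n103957 : Q := act 2 n48127
theorem D103957 : act 2 n48127 = n103957 := rfl
def n103958 : Q := act 5 n48127
theorem D103958 : act 5 n48127 = n103958 := rfl
def n103959 : Q := act 6 n48127
theorem D103959 : act 6 n48127 = n103959 := rfl
theorem F159416 : act 3 n103959 = n48129 := d7_1 D103959 (iv6 D48129) D48127
def n103961 : Q := act 5 n48129
theorem D103961 : act 5 n48129 = n103961 := rfl
def n103964 : Q := act 3 n48130
theorem D103964 : act 3 n48130 = n103964 := rfl
def n103972 : Q := act 1 n48132
theorem D103972 : act 1 n48132 = n103972 := rfl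
theorem F159425 : act 1 n103972 = n48134 := d15_1 D103972 (iv7 D48134) D48132
def n103977 : Q := act 6 n48133
theorem D103977 : act 6 n48133 = n103977 := rfl
theorem F159427 : act 3 n103977 = n48138 := d7_1 D103977 (iv6 D48138) (iv3 F75622)
def n103984 : Q := act 3 n48137
theorem D103984 : act 3 n48137 = n103984 := rfl
def n103985 : Q := act 6 n48137
theorem D103985 : act 6 n48137 = n103985 := rfl
theorem F159434 : act 4 n103985 = n48138 := d10_1 D103985 (iv6 D48138) D48137
def n103986 : Q := act 0 n48138
theorem D103986 : act 0 n48138 = n103986 := rfl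
def n103987 : Q := act 1 n48138
theorem D103987 : act 1 n48138 = n103987 := rfl
def n103988 : Q := act 7 n48138
theorem D103988 : act 7 n48138 = n103988 := rfl
theorem F159435 : act 5 n103988 = n87248 := d13_1 D103988 (iv7 D87248) (iv5 F75625)
def n104006 : Q := act 3 n48147
theorem D104006 : act 3 n48147 = n104006 := rfl
theorem F159454 : act 5 n104006 = n98658 := d6_2 (iv5 F75643) D104006 (iv3 D98658)
theorem F159455 : act 6 n104006 = n102163 := d7_2 F75646 D104006 F157058
theorem F159456 : act 7 n104006 = n100600 := d8_2 F75647 D104006 (iv3 D100600)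
def n104007 : Q := act 3 n48148
theorem D104007 : act 3 n48148 = n104007 := rfl
theorem F159457 : act 5 n104007 = n89472 := d6_2 (iv5 F75650) D104007 F137141
theorem F159458 : act 7 n104007 = n100603 := d8_2 (iv7 F75649) D104007 (iv3 D100603)
def n104008 : Q := act 6 n48148
theorem D104008 : act 6 n48148 = n104008 := rfl
theorem F159459 : act 2 n104008 = n100602 := d3_1 D104008 (iv6 D100602) F75651
theorem F159460 : act 5 n104008 = n89474 := d12_1 D104008 (iv6 D89474) (iv5 D41776) D41777 (iv5 F75650)
def n104009 : Q := act 0 n48149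
theorem D104009 : act 0 n48149 = n104009 := rfl
theorem F159461 : act 4 n104009 = n89548 := d18_3 (iv1 D48148) D48149 D104009 (iv5 D89548) F64475 (iv0 F65731) (iv4 F70480) (iv0 F70484) (iv5 F75650)
theorem F159462 : act 1 n99391 = n104009 := d15_0 (iv0 D104009) F75653 (iv2 F153073)
theorem F159463 : act 2 n100529 = n104009 := d1_3 F159461 F137271 D100529
theorem F159464 : act 7 n100527 = n104009 := d11_0 F159461 F137272 D100527
def n104010 : Q := act 1 n48149
theorem D104010 : act 1 n48149 = n104010 := rfl
theorem F159465 : act 1 n104010 = n99391 := d15_1 D104010 F153074 (iv2 F75652)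
theorem F159466 : act 7 n104010 = n100529 := d15_2 (iv0 D104009) D104010 F159463
theorem F159467 : act 4 n104010 = n89615 := d18_7 (iv1 F34744) F17233 F62709 D10946 D23291 D48149 D104010 F137397 (iv5 D46467)
theorem F159468 : act 2 n100527 = n104010 := d1_3 F159467 F137395 D100527
def n104011 : Q := act 3 n48149
theorem D104011 : act 3 n48149 = n104011 := rfl
theorem F159469 : act 4 n104011 = n91370 := d5_2 D48149 D104011 (iv3 D91370) (iv4 D42759) (iv3 F36388)
theorem F159470 : act 7 n104011 = n100605 := d8_2 (iv7 F75653) D104011 (iv3 D100605)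
def n104012 : Q := act 5 n48149
theorem D104012 : act 5 n48149 = n104012 := rfl
theorem F159473 : act 4 n104012 = n99394 := d16_2 D48149 D104012 (iv5 D99394) (iv4 D46476) (iv5 D22270) D22269 D46475 F73401 F63004
def n104013 : Q := act 6 n48149
theorem D104013 : act 6 n48149 = n104013 := rfl
theorem F159476 : act 2 n104013 = n100646 := d3_1 D104013 (iv6 D100646) (iv2 F75652)
theorem F159477 : act 4 n104013 = n48150 := d10_1 D104013 (iv6 D48150) D48149
def n104014 : Q := act 0 n48150
theorem D104014 : act 0 n48150 = n104014 := rfl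
def n104015 : Q := act 1 n48150
theorem D104015 : act 1 n48150 = n104015 := rfl
theorem F159478 : act 1 n104015 = n100649 := d15_1 D104015 (iv7 D100649) (iv2 F75654)
def n104016 : Q := act 7 n48150
theorem D104016 : act 7 n48150 = n104016 := rfl
theorem F159479 : act 2 n104016 = n100649 := d4_1 D104016 (iv7 D100649) (iv2 F75654)
theorem F159480 : act 3 n104016 = n91376 := d8_1 D104016 (iv7 D91376) (iv3 F75655)
theorem F159481 : act 6 n104016 = n100609 := d14_1 D104016 (iv7 D100609) (iv6 D46928) F62722 D48150
theorem F159482 : act 1 n100649 = n104014 := d15_0 (iv0 D104014) D104016 F159479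
theorem F159483 : act 1 n100648 = n104016 := d15_1 D100648 (iv7 D104016) F75654
theorem F159484 : act 1 n104016 = n100647 := d15_0 (iv0 D100647) D100649 (iv2 F159479)
def n104017 : Q := act 3 n48152
theorem D104017 : act 3 n48152 = n104017 := rfl
theorem F159486 : act 6 n104017 = n89549 := d7_2 (iv6 F75669) D104017 (iv3 D89549)
def n104019 : Q := act 6 n48153
theorem D104019 : act 6 n48153 = n104019 := rfl
theorem F159490 : act 2 n104019 = n92364 := d3_1 D104019 F142037 (iv2 F75671)
theorem F159491 : act 4 n104019 = n48154 := d10_1 D104019 (iv6 D48154) D48153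
theorem F159494 : act 1 n104019 = n102731 := d15_0 (iv0 D102731) (iv7 F142038) (iv2 F159490)
theorem F159495 : act 1 n91265 = n48267 := d18_8 (iv1 D42625) (iv4 F66458) F137402 F137400 (iv5 F75674) (iv4 F159491) F159494 F158002 F75874
theorem F159496 : act 1 n90999 = n91265 := d15_0 F159495 (iv7 F141258) F141255
def n104027 : Q := act 1 n48158
theorem D104027 : act 1 n48158 = n104027 := rfl
theorem F159519 : act 1 n104027 = n99394 := d15_1 D104027 F153079 (iv2 F75690)
theorem F159521 : act 5 n104027 = n48162 := d17_7 (iv1 F34756) F17239 F62709 D10947 D23295 D48158 D104027 F75699 (iv4 D46477)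
def n104040 : Q := act 3 n48162
theorem D104040 : act 3 n48162 = n104040 := rfl
theorem F159534 : act 4 n104040 = n93324 := d5_2 F75701 D104040 (iv3 D93324) (iv4 D43653) (iv3 F68379)
theorem F159535 : act 7 n104040 = n92331 := d8_2 (iv7 F75700) D104040 F141993
def n104041 : Q := act 4 n48163
theorem D104041 : act 4 n48163 = n104041 := rfl
theorem F159536 : act 2 n104041 = n100584 := d1_1 D104041 F154650 (iv2 F75703)
theorem F159537 : act 7 n104041 = n100587 := d11_2 (iv7 F75704) D104041 F154652
theorem F159538 : act 5 n104041 = n99385 := d16_1 D104041 F153056 F73499 F72702 (iv5 F35543) D46477 D99396 F153084 (iv2 F75703)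
def n104042 : Q := act 6 n48163
theorem D104042 : act 6 n48163 = n104042 := rfl
theorem F159539 : act 2 n104042 = n100669 := d3_1 D104042 (iv6 D100669) (iv2 F75703)
def n104116 : Q := act 0 n48184
theorem D104116 : act 0 n48184 = n104116 := rfl
def n104117 : Q := act 1 n48184
theorem D104117 : act 1 n48184 = n104117 := rfl
def n104118 : Q := act 5 n48184
theorem D104118 : act 5 n48184 = n104118 := rfl
theorem F159591 : act 2 n104118 = n87387 := d2_1 D104118 (iv5 D87387) (iv2 F75722)
theorem F159592 : act 6 n104118 = n48185 := d12_2 D48184 D104118 (iv5 D48185) (iv6 D23317) D23316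
def n104119 : Q := act 7 n48184
theorem D104119 : act 7 n48184 = n104119 := rfl
theorem F159593 : act 2 n104119 = n87388 := d4_1 D104119 (iv7 D87388) (iv2 F75722)
theorem F159594 : act 6 n104119 = n87392 := d14_1 D104119 (iv7 D87392) (iv6 D40615) (iv7 F36427) D48184
theorem F159597 : act 1 n104119 = n87385 := d15_0 (iv0 D87385) D87388 (iv2 F159593)
def n104120 : Q := act 4 n48185
theorem D104120 : act 4 n48185 = n104120 := rfl
theorem F159598 : act 2 n104120 = n87746 := d1_1 D104120 (iv4 D87746) (iv2 F75723)
theorem F159599 : act 7 n104120 = n101422 := d11_2 F157542 D104120 (iv4 F157545)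
theorem F159600 : act 0 n104120 = n101246 := d18_2 F145070 D104120 (iv4 D101246) (iv5 F137182) F137181 F72333 (iv4 F66305) (iv0 F134173) D94124
theorem F159601 : act 1 n104120 = n101249 := d18_6 (iv1 F35251) F68872 (iv1 D43823) (iv4 F36431) D48185 D104120 (iv4 D101249) F74410 F35286
def n104121 : Q := act 0 n48186
theorem D104121 : act 0 n48186 = n104121 := rfl
def n104122 : Q := act 1 n48186
theorem D104122 : act 1 n48186 = n104122 := rfl
theorem F159602 : act 1 n104122 = n86561 := d15_1 D104122 (iv7 D86561) (iv2 F75724)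
def n104123 : Q := act 5 n48186
theorem D104123 : act 5 n48186 = n104123 := rfl
def n104124 : Q := act 7 n48186
theorem D104124 : act 7 n48186 = n104124 := rfl
theorem F159606 : act 2 n104124 = n86561 := d4_1 D104124 (iv7 D86561) (iv2 F75724)
theorem F159607 : act 3 n104124 = n71496 := d8_1 D104124 (iv7 D71496) (iv3 F75725)
theorem F159608 : act 4 n104124 = n48190 := d11_1 D104124 (iv7 D48190) (iv4 F75726)
theorem F159609 : act 6 n104124 = n86575 := d14_1 D104124 (iv7 D86575) (iv6 D40131) (iv7 F36434) D48186
theorem F159610 : act 1 n86561 = n104121 := d15_0 (iv0 D104121) D104124 F159606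
theorem F159611 : act 1 n86559 = n104124 := d15_1 D86559 (iv7 D104124) F75724
theorem F159612 : act 1 n104124 = n86558 := d15_0 (iv0 D86558) D86561 (iv2 F159606)
def n104125 : Q := act 2 n48187
theorem D104125 : act 2 n48187 = n104125 := rfl
theorem F159613 : act 7 n48188 = n104125 := d15_2 (iv0 D48187) D48188 (iv2 D104125)
def n104126 : Q := act 3 n48187
theorem D104126 : act 3 n48187 = n104126 := rfl
def n104127 : Q := act 4 n48187
theorem D104127 : act 4 n48187 = n104127 := rfl
def n104128 : Q := act 5 n48187
theorem D104128 : act 5 n48187 = n104128 := rfl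
def n104129 : Q := act 6 n48187
theorem D104129 : act 6 n48187 = n104129 := rfl
def n104130 : Q := act 7 n48187
theorem D104130 : act 7 n48187 = n104130 := rfl
theorem F159614 : act 2 n104130 = n48188 := d4_1 D104130 F159613 (iv2 D104125)
def n104131 : Q := act 3 n48188
theorem D104131 : act 3 n48188 = n104131 := rfl
def n104132 : Q := act 4 n48188
theorem D104132 : act 4 n48188 = n104132 := rfl
def n104133 : Q := act 5 n48188
theorem D104133 : act 5 n48188 = n104133 := rfl
def n104134 : Q := act 6 n48188
theorem D104134 : act 6 n48188 = n104134 := rfl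
def n104135 : Q := act 0 n48189
theorem D104135 : act 0 n48189 = n104135 := rfl
def n104136 : Q := act 1 n48189
theorem D104136 : act 1 n48189 = n104136 := rfl
theorem F159615 : act 1 n104136 = n87903 := d15_1 D104136 (iv7 D87903) (iv2 F75728)
theorem F159616 : act 5 n87560 = n104136 := d21_6 (iv5 D19171) (iv1 F14071) D9038 D19228 D40755 D87560 (iv1 D104136) (iv5 D48189) (iv6 D23319) (iv1 F30802)
def n104137 : Q := act 4 n48189
theorem D104137 : act 4 n48189 = n104137 := rfl
theorem F159617 : act 2 n104137 = n87902 := d1_1 D104137 (iv4 D87902) (iv2 F75728)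
theorem F159618 : act 6 n104137 = n48197 := d10_2 (iv6 F75729) D104137 (iv4 D48197)
def n104138 : Q := act 7 n48189
theorem D104138 : act 7 n48189 = n104138 := rfl
theorem F159619 : act 2 n104138 = n87903 := d4_1 D104138 (iv7 D87903) (iv2 F75728)
theorem F159620 : act 5 n104138 = n48190 := d13_1 D104138 (iv7 D48190) D48189
theorem F159621 : act 1 n87903 = n104135 := d15_0 (iv0 D104135) D104138 F159619
theorem F159622 : act 1 n87901 = n104138 := d15_1 D87901 (iv7 D104138) F75728
theorem F159623 : act 1 n104138 = n87900 := d15_0 (iv0 D87900) D87903 (iv2 F159619)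
def n104139 : Q := act 0 n48191
theorem D104139 : act 0 n48191 = n104139 := rfl
theorem F159624 : act 3 n104139 = n99522 := d20_5 (iv4 F17129) D22257 (iv4 F62945) D48191 D104139 F153287 F157763 F62205 (iv3 D41048) F62729
theorem F159625 : act 2 n87911 = n104139 := d15_3 (iv0 D104139) (iv0 F159078) F157761
theorem F159626 : act 1 n87912 = n104139 := d15_0 (iv0 D104139) F75736 D87912
theorem F159627 : act 7 n104139 = n87740 := d15_2 (iv0 F159079) F159626 (iv2 F147044)
def n104140 : Q := act 5 n48191
theorem D104140 : act 5 n48191 = n104140 := rfl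
theorem F159628 : act 3 n104140 = n48192 := d6_1 D104140 (iv5 D48192) D48191
theorem F159629 : act 7 n104140 = n87913 := d13_2 (iv7 F75736) D104140 (iv5 D87913)
def n104141 : Q := act 6 n48191
theorem D104141 : act 6 n48191 = n104141 := rfl
theorem F159630 : act 3 n104141 = n48193 := d7_1 D104141 (iv6 D48193) D48191
theorem F159632 : act 5 n87587 = n104141 := d6_0 F159630 F75741 D87587
def n104142 : Q := act 1 n48192
theorem D104142 : act 1 n48192 = n104142 := rfl
theorem F159633 : act 1 n104142 = n48194 := d15_1 D104142 F75743 (iv2 F75737)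
theorem F159635 : act 5 n104142 = n87022 := d17_7 (iv1 D89496) (iv5 F75657) (iv1 F75665) (iv5 D46453) (iv4 F62945) D48192 D104142 (iv0 F134916) (iv4 F137194)
theorem F159637 : act 4 n93439 = n104142 := d18_3 (iv1 D43699) D43700 D93439 F159635 F133565 (iv0 F66175) D43723 (iv0 F70232) (iv5 F68684)
def n104143 : Q := act 4 n48192
theorem D104143 : act 4 n48192 = n104143 := rfl
theorem F159638 : act 2 n104143 = n87908 := d1_1 D104143 (iv4 D87908) (iv2 F75737)
theorem F159639 : act 7 n104143 = n87915 := d11_2 (iv7 F75738) D104143 (iv4 D87915)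
theorem F159640 : act 0 n104143 = n93343 := d18_2 (iv1 D104142) D104143 (iv4 D93343) (iv5 F69137) (iv4 F72281) F72282 (iv4 F66310) (iv0 F133567) (iv5 F159635)
theorem F159641 : act 1 n104143 = n93346 := d18_6 F62729 (iv4 F17129) D22257 (iv4 F62945) D48192 D104143 (iv4 D93346) F68622 (iv5 D41049)
def n104144 : Q := act 6 n48192
theorem D104144 : act 6 n48192 = n104144 := rfl
theorem F159642 : act 2 n104144 = n87909 := d3_1 D104144 (iv6 D87909) (iv2 F75737)
theorem F159643 : act 5 n104144 = n87589 := d12_1 D104144 (iv6 D87589) (iv5 F75741) (iv6 D48193) D48192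
def n104145 : Q := act 4 n48194
theorem D104145 : act 4 n48194 = n104145 := rfl
theorem F159646 : act 0 n104145 = n93346 := d18_2 F137723 D104145 (iv4 D93346) F69147 (iv4 F69145) D89496 F137194 F134914 D89727
theorem F159647 : act 1 n104145 = n93343 := d18_6 D20658 D43660 (iv1 F68616) F62758 D48194 D104145 (iv4 D93343) (iv0 D43662) (iv5 D20660)
def n104146 : Q := act 6 n48194
theorem D104146 : act 6 n48194 = n104146 := rfl
theorem F159648 : act 2 n104146 = n87916 := d3_1 D104146 (iv6 D87916) (iv2 F75742)
def n104147 : Q := act 3 n48195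
theorem D104147 : act 3 n48195 = n104147 := rfl
theorem F159649 : act 7 n104147 = n87921 := d8_2 (iv7 F133445) D104147 (iv3 D87921)
theorem F159650 : act 4 n100882 = n104147 := d20_8 (iv4 F134924) (iv1 F144973) (iv4 D94088) F69149 (iv1 D22629) (iv3 F35143) D47023 D100882 (iv3 D104147) (iv1 F75744)
def n104148 : Q := act 6 n48195
theorem D104148 : act 6 n48195 = n104148 := rfl
theorem F159651 : act 2 n104148 = n87920 := d3_1 D104148 (iv6 D87920) F133446
def n104149 : Q := act 6 n48196
theorem D104149 : act 6 n48196 = n104149 := rfl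
theorem F159652 : act 2 n104149 = n87923 := d3_1 D104149 (iv6 D87923) (iv2 F133441)
def n104150 : Q := act 3 n48197
theorem D104150 : act 3 n48197 = n104150 := rfl
def n104151 : Q := act 5 n48197
theorem D104151 : act 5 n48197 = n104151 := rfl
theorem F159655 : act 4 n104151 = n87954 := d16_2 D48197 D104151 F134945 F62301 F30968 (iv4 F30962) (iv5 F62144) (iv7 D41024) (iv2 F36440)
theorem F159657 : act 1 n104151 = n93442 := d17_6 F137723 (iv5 D48194) (iv1 D23321) D23322 D48197 D104151 (iv5 D93442) D93440 F144135
def n104152 : Q := act 3 n48198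
theorem D104152 : act 3 n48198 = n104152 := rfl
theorem F159659 : act 7 n104152 = n87942 := d8_2 F75750 D104152 (iv3 D87942)
def n104154 : Q := act 6 n48198
theorem D104154 : act 6 n48198 = n104154 := rfl
theorem F159665 : act 4 n104154 = n99348 := d10_1 D104154 (iv6 D99348) (iv4 F75747)
theorem F159666 : act 0 n48250 = n104154 := d18_2 F67034 (iv4 F75850) F159665 F153000 F137469 F138288 F138286 (iv0 F66099) D42775
def n104155 : Q := act 3 n48199
theorem D104155 : act 3 n48199 = n104155 := rfl
theorem F159668 : act 4 n104155 = n92646 := d5_2 F75753 D104155 (iv3 D92646) (iv4 F73951) F73950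
def n104156 : Q := act 5 n48199
theorem D104156 : act 5 n48199 = n104156 := rfl
def n104159 : Q := act 2 n48200
theorem D104159 : act 2 n48200 = n104159 := rfl
theorem F159674 : act 3 n104159 = n87947 := d0_2 D48200 D104159 (iv2 D87947) (iv3 D41062) (iv2 F36451)
def n104161 : Q := act 0 n48201
theorem D104161 : act 0 n48201 = n104161 := rfl
theorem F159677 : act 5 n104161 = n93449 := d17_3 (iv1 D48199) D48201 D104161 F144148 (iv5 D46453) (iv0 D22257) D22259 D46456 F75753
theorem F159678 : act 1 n87954 = n104161 := d15_0 (iv0 D104161) (iv7 F143916) F143914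
def n104162 : Q := act 1 n48201
theorem D104162 : act 1 n48201 = n104162 := rfl
theorem F159683 : act 5 n104162 = n93450 := d17_7 (iv1 D20697) (iv5 D9809) (iv1 F62485) D10963 D23336 D48201 D104162 F144152 (iv4 D43705)
def n104163 : Q := act 4 n48201
theorem D104163 : act 4 n48201 = n104163 := rfl
theorem F159686 : act 5 n104163 = n87928 := d9_2 D48201 D104163 F134924 F62144 F30962 (iv5 F30968) (iv4 F62301) (iv5 F134945) (iv4 F159655) (iv5 D104151) (iv4 D48197) (iv5 D23322) F17808 D10963 D23336
theorem F159688 : act 0 n104163 = n93442 := d18_2 (iv1 D104162) D104163 F144143 (iv5 D93333) (iv4 D43657) F32821 D43704 D93450 (iv5 F159683)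
def n104164 : Q := act 6 n48201
theorem D104164 : act 6 n48201 = n104164 := rfl
theorem F159690 : act 2 n104164 = n87953 := d3_1 D104164 (iv6 D87953) (iv2 F75756)
theorem F159691 : act 5 n104164 = n88388 := d12_1 D104164 (iv6 D88388) (iv5 D41265) (iv6 F36452) D48201
def n104165 : Q := act 0 n48202
theorem D104165 : act 0 n48202 = n104165 := rfl
def n104166 : Q := act 1 n48202
theorem D104166 : act 1 n48202 = n104166 := rfl
def n104167 : Q := act 5 n48202
theorem D104167 : act 5 n48202 = n104167 := rfl
theorem F159692 : act 3 n104167 = n48208 := d6_1 D104167 (iv5 D48208) (iv3 F75757)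
theorem F159693 : act 6 n104167 = n48203 := d12_2 D48202 D104167 (iv5 D48203) (iv6 D23343) D23342
def n104168 : Q := act 7 n48202
theorem D104168 : act 7 n48202 = n104168 := rfl
theorem F159694 : act 3 n104168 = n48209 := d8_1 D104168 (iv7 D48209) (iv3 F75757)
def n104169 : Q := act 4 n48203
theorem D104169 : act 4 n48203 = n104169 := rfl
def n104171 : Q := act 0 n48205
theorem D104171 : act 0 n48205 = n104171 := rfl
def n104172 : Q := act 1 n48205
theorem D104172 : act 1 n48205 = n104172 := rfl
theorem F159698 : act 1 n104172 = n86575 := d15_1 D104172 (iv7 D86575) (iv2 F75763)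
def n104174 : Q := act 7 n48205
theorem D104174 : act 7 n48205 = n104174 := rfl
theorem F159701 : act 2 n104174 = n86575 := d4_1 D104174 (iv7 D86575) (iv2 F75763)
theorem F159702 : act 4 n104174 = n48209 := d11_1 D104174 (iv7 D48209) (iv4 F75764)
theorem F159703 : act 6 n104174 = n86561 := d14_1 D104174 (iv7 D86561) (iv6 D40123) (iv7 F36467) D48205
theorem F159704 : act 1 n86575 = n104171 := d15_0 (iv0 D104171) D104174 F159701
theorem F159705 : act 1 n86573 = n104174 := d15_1 D86573 (iv7 D104174) F75763
theorem F159706 : act 1 n104174 = n86572 := d15_0 (iv0 D86572) D86575 (iv2 F159701)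
def n104175 : Q := act 2 n48206
theorem D104175 : act 2 n48206 = n104175 := rfl
theorem F159707 : act 7 n48207 = n104175 := d15_2 (iv0 D48206) D48207 (iv2 D104175)
def n104176 : Q := act 3 n48206
theorem D104176 : act 3 n48206 = n104176 := rfl
def n104177 : Q := act 4 n48206
theorem D104177 : act 4 n48206 = n104177 := rfl
def n104178 : Q := act 5 n48206
theorem D104178 : act 5 n48206 = n104178 := rfl
def n104179 : Q := act 6 n48206
theorem D104179 : act 6 n48206 = n104179 := rfl
def n104180 : Q := act 7 n48206
theorem D104180 : act 7 n48206 = n104180 := rfl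
theorem F159708 : act 2 n104180 = n48207 := d4_1 D104180 F159707 (iv2 D104175)
def n104181 : Q := act 3 n48207
theorem D104181 : act 3 n48207 = n104181 := rfl
def n104182 : Q := act 4 n48207
theorem D104182 : act 4 n48207 = n104182 := rfl
def n104183 : Q := act 5 n48207
theorem D104183 : act 5 n48207 = n104183 := rfl
def n104184 : Q := act 6 n48207
theorem D104184 : act 6 n48207 = n104184 := rfl
def n104185 : Q := act 0 n48208
theorem D104185 : act 0 n48208 = n104185 := rfl
def n104186 : Q := act 1 n48208
theorem D104186 : act 1 n48208 = n104186 := rfl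
theorem F159709 : act 1 n104186 = n87797 := d15_1 D104186 (iv7 D87797) (iv2 F75766)
theorem F159710 : act 5 n87397 = n104186 := d21_6 (iv5 D19173) (iv1 D9012) D9014 D19182 D40616 D87397 (iv1 D104186) (iv5 D48208) (iv6 D23345) (iv1 F30805)
def n104187 : Q := act 4 n48208
theorem D104187 : act 4 n48208 = n104187 := rfl
theorem F159711 : act 2 n104187 = n87796 := d1_1 D104187 (iv4 D87796) (iv2 F75766)
theorem F159712 : act 6 n104187 = n48213 := d10_2 (iv6 F75767) D104187 (iv4 D48213)
def n104188 : Q := act 7 n48208
theorem D104188 : act 7 n48208 = n104188 := rfl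
theorem F159713 : act 2 n104188 = n87797 := d4_1 D104188 (iv7 D87797) (iv2 F75766)
theorem F159714 : act 5 n104188 = n48209 := d13_1 D104188 (iv7 D48209) D48208
theorem F159715 : act 1 n87797 = n104185 := d15_0 (iv0 D104185) D104188 F159713
theorem F159716 : act 1 n87795 = n104188 := d15_1 D87795 (iv7 D104188) F75766
theorem F159717 : act 1 n104188 = n87794 := d15_0 (iv0 D87794) D87797 (iv2 F159713)
def n104189 : Q := act 4 n48210
theorem D104189 : act 4 n48210 = n104189 := rfl
theorem F159718 : act 2 n104189 = n87803 := d1_1 D104189 (iv4 D87803) (iv2 F75773)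
theorem F159719 : act 7 n104189 = n87805 := d11_2 (iv7 F75774) D104189 (iv4 D87805)
theorem F159720 : act 0 n104189 = n91366 := d18_2 F146093 D104189 (iv4 D91366) F67000 (iv4 F63986) F72769 F72765 (iv0 F69688) D94767
theorem F159721 : act 1 n104189 = n91362 := d18_6 F65648 (iv4 F17183) D22351 (iv4 F66348) D48210 D104189 (iv4 D91362) (iv0 D42757) (iv5 D20201)
def n104190 : Q := act 6 n48210
theorem D104190 : act 6 n48210 = n104190 := rfl
theorem F159722 : act 2 n104190 = n87804 := d3_1 D104190 (iv6 D87804) (iv2 F75773)
theorem F159723 : act 5 n104190 = n87424 := d12_1 D104190 (iv6 D87424) (iv5 F72357) F72355 D48210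
def n104191 : Q := act 6 n48211
theorem D104191 : act 6 n48211 = n104191 := rfl
theorem F159724 : act 2 n104191 = n87812 := d3_1 D104191 (iv6 D87812) F133396
theorem F159725 : act 5 n104191 = n88318 := d12_1 D104191 (iv6 D88318) D88317 (iv6 F135234) F133586
def n104192 : Q := act 3 n48212
theorem D104192 : act 3 n48212 = n104192 := rfl
theorem F159726 : act 7 n104192 = n87809 := d8_2 F133394 D104192 (iv3 D87809)
def n104193 : Q := act 6 n48212
theorem D104193 : act 6 n48212 = n104193 := rfl
theorem F159727 : act 2 n104193 = n87815 := d3_1 D104193 (iv6 D87815) (iv2 F133393)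
def n104194 : Q := act 3 n48213
theorem D104194 : act 3 n48213 = n104194 := rfl
def n104195 : Q := act 5 n48213
theorem D104195 : act 5 n48213 = n104195 := rfl
theorem F159728 : act 2 n104195 = n87819 := d2_1 D104195 (iv5 D87819) (iv2 F75777)
theorem F159730 : act 4 n104195 = n87845 := d16_2 D48213 D104195 F134813 F62112 F30951 (iv4 F30945) (iv5 F62009) (iv7 D40919) (iv2 F36473)
theorem F159731 : act 0 n104195 = n91279 := d17_2 F153814 D104195 (iv5 D91279) (iv4 D42723) (iv5 D20170) F65775 D22361 D46650 D99895
theorem F159732 : act 1 n104195 = n91302 := d17_6 F146081 (iv5 D47883) F66119 D23348 D48213 D104195 (iv5 F140454) F140456 (iv4 F146083)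
def n104199 : Q := act 2 n48215
theorem D104199 : act 2 n48215 = n104199 := rfl
theorem F159738 : act 6 n104199 = n89990 := d3_2 (iv6 F75782) D104199 (iv2 D89990)
def n104201 : Q := act 0 n48216
theorem D104201 : act 0 n48216 = n104201 := rfl
theorem F159740 : act 5 n104201 = n91285 := d17_3 F75237 D48216 D104201 (iv4 F140348) (iv5 D46637) (iv0 D22351) D22353 (iv0 F64027) D47910
theorem F159742 : act 1 n87845 = n104201 := d15_0 (iv0 D104201) (iv7 F140440) F140438
def n104202 : Q := act 4 n48216
theorem D104202 : act 4 n48216 = n104202 := rfl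
theorem F159745 : act 5 n104202 = n87820 := d9_2 D48216 D104202 F134788 F62009 F30945 (iv5 F30951) (iv4 F62112) (iv5 F134813) (iv4 F159730) (iv5 D104195) (iv4 D48213) (iv5 D23348) F17822 D10971 D23361
theorem F159746 : act 7 n104202 = n87819 := d11_2 F140440 D104202 (iv4 F140439)
theorem F159747 : act 0 n104202 = n91302 := d18_2 F158610 D104202 (iv4 D91302) (iv5 D42732) (iv4 D20174) D20173 D42728 F75191 D103346
theorem F159748 : act 1 n104202 = n91279 := d18_6 (iv1 F67072) (iv4 D42799) F62553 D23361 D48216 D104202 (iv4 F140467) F140470 F140372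
def n104203 : Q := act 6 n48216
theorem D104203 : act 6 n48216 = n104203 := rfl
theorem F159750 : act 5 n104203 = n89992 := d12_1 D104203 (iv6 D89992) (iv5 D42061) (iv6 F36485) D48216
def n104204 : Q := act 1 n48217
theorem D104204 : act 1 n48217 = n104204 := rfl
theorem F159751 : act 1 n104204 = n48220 := d15_1 D104204 F75795 (iv2 F75784)
theorem F159752 : act 7 n104204 = n48238 := d15_2 F134171 D104204 (iv2 F134170)
theorem F159753 : act 5 n104204 = n89872 := d17_7 (iv1 F69203) F75788 (iv1 D48218) (iv5 D23366) D23365 D48217 D104204 (iv0 F137964) (iv4 D44004)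
theorem F159754 : act 2 n48239 = n104204 := d2_3 F159753 F137960 F134175
theorem F159755 : act 4 n101390 = n104204 := d18_3 (iv1 F74471) D47199 (iv1 F156192) F159753 (iv4 D89872) F69726 (iv4 F137181) F137185 (iv5 F74470)
def n104205 : Q := act 4 n48217
theorem D104205 : act 4 n48217 = n104205 := rfl
theorem F159756 : act 2 n104205 = n48240 := d1_1 D104205 (iv4 D48240) (iv2 F75784)
theorem F159757 : act 7 n104205 = n48259 := d11_2 (iv7 F75785) D104205 (iv4 D48259)
theorem F159758 : act 0 n104205 = n94120 := d18_2 (iv1 D104204) D104205 (iv4 D94120) (iv5 D44001) F33033 D20889 D44005 (iv0 F137963) (iv5 F159753)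
theorem E15759 : n102482 = n99947 := (c20_5 D46605 (iv1 F74739) (iv4 D47541) D47540 D102482 F153880 D104205 F159758 (iv4 D94120) (iv3 F71992) F71994)
theorem F159759 : act 1 n99947 = n47540 := (sb E15759 (iv0 D102482))
def n104206 : Q := act 6 n48217
theorem D104206 : act 6 n48217 = n104206 := rfl
theorem F159760 : act 2 n104206 = n48241 := d3_1 D104206 (iv6 D48241) (iv2 F75784)
def n104207 : Q := act 1 n48219
theorem D104207 : act 1 n48219 = n104207 := rfl
theorem F159762 : act 7 n104207 = n48246 := d15_2 F151256 D104207 (iv2 F151252)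
theorem F159763 : act 4 n104207 = n48424 := d18_7 (iv1 D21465) (iv4 F30927) (iv1 F66875) (iv4 D23365) D23366 D48219 D104207 F76154 (iv5 D44953)
def n104210 : Q := act 4 n48220
theorem D104210 : act 4 n48220 = n104210 := rfl
theorem F159770 : act 2 n104210 = n48259 := d1_1 D104210 (iv4 D48259) (iv2 F75794)
theorem F159771 : act 7 n104210 = n48240 := d11_2 (iv7 F75795) D104210 (iv4 D48240)
theorem F159772 : act 1 n104210 = n94120 := d18_6 (iv1 F35256) F17280 (iv1 F17831) D23369 D48220 D104210 (iv4 D94120) (iv0 F74404) (iv5 D47145)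
def n104215 : Q := act 3 n48222
theorem D104215 : act 3 n48222 = n104215 := rfl
theorem F159784 : act 4 n104215 = n95381 := d5_2 D48222 D104215 (iv3 D95381) F70829 F70830
def n104216 : Q := act 5 n48222
theorem D104216 : act 5 n48222 = n104216 := rfl
theorem F159786 : act 2 n104216 = n48271 := d2_1 D104216 (iv5 D48271) (iv2 F75799)
def n104217 : Q := act 5 n48223
theorem D104217 : act 5 n48223 = n104217 := rfl
theorem F159789 : act 7 n104217 = n48271 := d13_2 (iv7 F75803) D104217 (iv5 D48271)
def n104218 : Q := act 3 n48224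
theorem D104218 : act 3 n48224 = n104218 := rfl
theorem F159792 : act 7 n104218 = n48278 := d8_2 (iv7 F75807) D104218 (iv3 D48278)
def n104219 : Q := act 5 n48224
theorem D104219 : act 5 n48224 = n104219 := rfl
theorem F159794 : act 7 n104219 = n48279 := d13_2 (iv7 F75807) D104219 (iv5 D48279)
def n104220 : Q := act 0 n48225
theorem D104220 : act 0 n48225 = n104220 := rfl
def n104221 : Q := act 1 n48225
theorem D104221 : act 1 n48225 = n104221 := rfl
def n104222 : Q := act 2 n48225
theorem D104222 : act 2 n48225 = n104222 := rfl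
theorem F159797 : act 6 n104222 = n87291 := d3_2 (iv6 F75811) D104222 (iv2 D87291)
def n104223 : Q := act 5 n48225
theorem D104223 : act 5 n48225 = n104223 := rfl
def n104224 : Q := act 7 n48225
theorem D104224 : act 7 n48225 = n104224 := rfl
theorem F159799 : act 3 n104224 = n48227 := d8_1 D104224 (iv7 D48227) D48225
def n104226 : Q := act 6 n48226
theorem D104226 : act 6 n48226 = n104226 := rfl
theorem F159806 : act 5 n104226 = n87293 := d12_1 D104226 (iv6 D87293) (iv5 D40539) (iv6 F36498) D48226
def n104228 : Q := act 1 n48230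
theorem D104228 : act 1 n48230 = n104228 := rfl
theorem F159809 : act 5 n104228 = n87734 := d18_9 F134691 (iv4 F141854) (iv1 F141856) (iv4 D48544) F65740 (iv4 F74165) D100660 (iv4 F154753) D104228
theorem F159810 : act 6 n87735 = n104228 := d21_3 (iv5 F134000) (iv1 F134005) D87735 (iv1 D104228) (iv6 D48230) (iv5 D23385) (iv1 F66562) (iv5 F66694) (iv6 F67829) (iv1 F133998)
theorem F159812 : act 4 n100681 = n104228 := d17_4 (iv1 D47709) D47710 D102881 F158190 F159809 (iv0 F134692) (iv5 F67832) F138746 (iv4 F138744)
def n104229 : Q := act 5 n48232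
theorem D104229 : act 5 n48232 = n104229 := rfl
theorem F159813 : act 3 n104229 = n48233 := d6_1 D104229 (iv5 D48233) D48232
theorem F159814 : act 7 n104229 = n87744 := d13_2 (iv7 F75826) D104229 (iv5 D87744)
theorem F159815 : act 4 n102154 = n104229 := d20_8 (iv4 F145072) (iv1 D47208) (iv4 D22709) F17278 D10768 D22785 D47431 D102154 F159813 (iv1 F145071)
theorem E15760 : n101947 = n22785 := (c18_1 (iv1 F156928) D47431 D102154 F159815 (iv5 D104229) F75824 (iv0 F70762) (iv4 D22755) D22753 D47366)
theorem E15761 : n47428 = n47361 := ((D47428).symm.trans (sb E15760 (iv1 D101947)))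
theorem E15762 : n47429 = n47366 := ((D47429).symm.trans (sb E15760 F156928))
theorem E15763 : n101946 = n99798 := ((D101946).symm.trans (sb E15761 (iv1 F153633)))
theorem F159816 : act 1 n47361 = n22785 := (sb E15761 (iv0 D47428))
theorem F159817 : act 0 n47366 = n22785 := (sb E15762 (iv1 D47429))
theorem F159818 : act 0 n99798 = n47366 := (sb E15763 (iv1 F156927))
theorem F159819 : act 1 n99798 = n47361 := (sb E15763 (iv0 D101946))
def n104230 : Q := act 4 n48233
theorem D104230 : act 4 n48233 = n104230 := rfl
theorem F159821 : act 2 n104230 = n101422 := d1_1 D104230 (iv4 F157545) F157540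
theorem F159822 : act 7 n104230 = n87746 := d11_2 (iv7 F75827) D104230 (iv4 D87746)
theorem F159823 : act 0 n104230 = n101249 := d18_2 F145064 D104230 (iv4 D101249) F74411 (iv4 F64430) F69725 D89872 (iv0 F137964) D94122
theorem F159824 : act 1 n104230 = n101246 := d18_6 D22684 (iv4 F35258) (iv1 F66730) (iv4 F66739) D48233 D104230 (iv4 D101246) (iv0 D47148) (iv5 D22686)
def n104231 : Q := act 6 n48233
theorem D104231 : act 6 n48233 = n104231 := rfl
theorem F159825 : act 5 n104231 = n88293 := d12_1 D104231 (iv6 D88293) (iv5 D41207) (iv6 F66740) D48233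
def n104233 : Q := act 6 n48234
theorem D104233 : act 6 n48234 = n104233 := rfl
def n104234 : Q := act 5 n48235
theorem D104234 : act 5 n48235 = n104234 := rfl
def n104235 : Q := act 6 n48235
theorem D104235 : act 6 n48235 = n104235 := rfl
theorem F159828 : act 2 n104235 = n48237 := d3_1 D104235 (iv6 D48237) D48235
theorem F159829 : act 3 n104235 = n102534 := d7_1 D104235 F157494 (iv3 F153659)
theorem F159830 : act 1 n104235 = n102539 := d15_0 (iv0 F157504) F140600 (iv2 F159828)
def n104236 : Q := act 1 n48236
theorem D104236 : act 1 n48236 = n104236 := rfl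
def n104237 : Q := act 4 n48236
theorem D104237 : act 4 n48236 = n104237 := rfl
def n104238 : Q := act 6 n48236
theorem D104238 : act 6 n48236 = n104238 := rfl
def n104239 : Q := act 1 n48237
theorem D104239 : act 1 n48237 = n104239 := rfl
theorem F159832 : act 4 n88336 = n104239 := d20_0 (iv1 D104239) (iv4 F151007) F151006 F72141 F65707 F32820 F62469 D19389 D41231 D88336
def n104240 : Q := act 5 n48237
theorem D104240 : act 5 n48237 = n104240 := rfl
theorem F159833 : act 3 n104240 = n48243 := d6_1 D104240 (iv5 D48243) (iv3 F75830)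
def n104241 : Q := act 3 n48238
theorem D104241 : act 3 n48238 = n104241 := rfl
theorem F159834 : act 5 n104241 = n96106 := d6_2 (iv5 F75831) D104241 F147744
theorem F159835 : act 4 n101985 = n104241 := d20_8 D48259 (iv1 F156186) (iv4 D101387) (iv3 F74475) (iv1 D22764) (iv3 F35305) D47374 D101985 (iv3 D104241) (iv1 F75832)
theorem F159836 : act 1 n89462 = n101983 := d18_8 (iv1 D47373) D47374 D101985 F159835 F159834 F147745 (iv0 F147363) F147362 (iv5 D101983)
def n104242 : Q := act 4 n48238
theorem D104242 : act 4 n48238 = n104242 := rfl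
theorem F159837 : act 2 n104242 = n101389 := d1_1 D104242 F156190 F134170
theorem F159838 : act 7 n104242 = n101390 := d11_2 F159752 D104242 F159755
theorem F159839 : act 0 n104242 = n101243 := d18_2 D48238 D104242 (iv4 D101243) (iv5 D47147) F68872 F68870 (iv4 F66739) (iv0 D23388) D23391
theorem F159840 : act 1 n104242 = n101238 := d18_6 (iv1 D89493) F64436 F72328 (iv4 F70442) (iv5 F75831) D104242 (iv4 D101238) D101237 F155963
def n104243 : Q := act 6 n48238
theorem D104243 : act 6 n48238 = n104243 := rfl
theorem F159841 : act 5 n104243 = n96108 := d12_1 D104243 (iv6 D96108) (iv5 D44844) D44845 (iv5 F75831)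
def n104244 : Q := act 4 n48239
theorem D104244 : act 4 n48239 = n104244 := rfl
theorem F159842 : act 2 n104244 = n101390 := d1_1 D104244 F159755 (iv2 F159754)
theorem F159843 : act 7 n104244 = n101389 := d11_2 (iv7 F134174) D104244 F156190
theorem F159844 : act 0 n104244 = n101238 := d18_2 (iv1 F75833) D104244 (iv4 D101238) (iv5 D47145) (iv4 F35258) (iv0 F66797) (iv4 F36431) F66800 D23411
theorem F159845 : act 1 n104244 = n101243 := d18_6 D44000 F72337 (iv1 F72336) F133551 F134175 D104244 (iv4 D101243) F74409 (iv5 D44001)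
def n104245 : Q := act 6 n48239
theorem D104245 : act 6 n48239 = n104245 := rfl
theorem F159846 : act 5 n104245 = n87920 := d12_1 D104245 (iv6 D87920) D87919 F134915 F134175
def n104246 : Q := act 3 n48240
theorem D104246 : act 3 n48240 = n104246 := rfl
def n104247 : Q := act 6 n48240
theorem D104247 : act 6 n48240 = n104247 := rfl
theorem F159847 : act 4 n104247 = n48241 := d10_1 D104247 (iv6 D48241) D48240
def n104248 : Q := act 0 n48241
theorem D104248 : act 0 n48241 = n104248 := rfl
def n104249 : Q := act 1 n48241
theorem D104249 : act 1 n48241 = n104249 := rfl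
def n104250 : Q := act 5 n48241
theorem D104250 : act 5 n48241 = n104250 := rfl
theorem F159848 : act 6 n104250 = n48243 := d12_2 D48241 D104250 (iv5 D48243) (iv6 D23392) D23391
def n104251 : Q := act 7 n48241
theorem D104251 : act 7 n48241 = n104251 := rfl
def n104252 : Q := act 4 n48243
theorem D104252 : act 4 n48243 = n104252 := rfl
theorem F159849 : act 2 n104252 = n89253 := d1_1 D104252 (iv4 F137671) F134108
theorem F159850 : act 7 n104252 = n89252 := d11_2 (iv7 F134106) D104252 F136967
theorem F159851 : act 0 n104252 = n89209 := d18_2 (iv1 F134110) D104252 (iv4 D89209) (iv5 D41684) F31394 D19719 D41891 (iv0 F64602) (iv5 F134109)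
theorem F159852 : act 1 n104252 = n89256 := d18_6 (iv1 F140462) F67007 F66111 (iv4 F36517) D48243 D104252 F136969 F136927 (iv5 F140458)
def n104253 : Q := act 3 n48244
theorem D104253 : act 3 n48244 = n104253 := rfl
theorem F159854 : act 6 n104253 = n87826 := d7_2 (iv6 F75843) D104253 (iv3 D87826)
def n104257 : Q := act 3 n48246
theorem D104257 : act 3 n48246 = n104257 := rfl
theorem F159865 : act 6 n104257 = n99899 := d7_2 F75848 D104257 (iv3 D99899)
def n104258 : Q := act 5 n48246
theorem D104258 : act 5 n48246 = n104258 := rfl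
def n104266 : Q := act 0 n48249
theorem D104266 : act 0 n48249 = n104266 := rfl
theorem F159872 : act 5 n104266 = n48268 := d17_1 D104266 (iv1 F75882) D48277 (iv4 F156256) (iv5 D101441) (iv0 D47207) D47210 D101452 (iv4 F156267)
theorem F159874 : act 7 n96293 = n104266 := d13_0 F159872 (iv7 F75883) D96293
def n104274 : Q := act 5 n48253
theorem D104274 : act 5 n48253 = n104274 := rfl
theorem F159890 : act 6 n104274 = n87870 := d12_2 F139934 D104274 (iv5 D87870) D87871 F139932
theorem F159892 : act 4 n104274 = n89828 := d17_4 F66560 D23408 D48253 D104274 F137872 (iv0 D48453) (iv5 D23617) F66535 F36280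
theorem F159893 : act 1 n104274 = n90408 := d17_8 (iv1 F137953) D89874 (iv1 F137968) (iv5 D45003) (iv4 F66805) D81423 F125242 D104274 F139140
theorem F159894 : act 0 n104274 = n89374 := d18_0 F137053 (iv1 F71538) (iv4 D41986) F63236 (iv4 F75164) D103339 (iv4 F158590) F125242 D104274
def n104276 : Q := act 4 n48257
theorem D104276 : act 4 n48257 = n104276 := rfl
def n104277 : Q := act 6 n48257
theorem D104277 : act 6 n48257 = n104277 := rfl
theorem F159896 : act 3 n104277 = n48260 := d7_1 D104277 (iv6 D48260) (iv3 F75864)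
def n104278 : Q := act 5 n48258
theorem D104278 : act 5 n48258 = n104278 := rfl
theorem F159897 : act 2 n104278 = n98590 := d2_1 D104278 F153889 F153888
theorem F159900 : act 0 n89057 = n104278 := d21_1 D89057 (iv5 D104278) (iv6 D48258) (iv1 F73783) (iv6 D46681) (iv5 F72636) (iv1 F72639) (iv5 D40746) D40747 (iv1 F72653)
theorem F159901 : act 1 n98587 = n104278 := d15_0 (iv0 F159900) F136734 (iv2 F151979)
def n104279 : Q := act 3 n48259
theorem D104279 : act 3 n48259 = n104279 := rfl
def n104280 : Q := act 6 n48259
theorem D104280 : act 6 n48259 = n104280 := rfl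
theorem F159902 : act 4 n104280 = n48260 := d10_1 D104280 (iv6 D48260) D48259
def n104281 : Q := act 0 n48260
theorem D104281 : act 0 n48260 = n104281 := rfl
def n104282 : Q := act 1 n48260
theorem D104282 : act 1 n48260 = n104282 := rfl
def n104283 : Q := act 5 n48260
theorem D104283 : act 5 n48260 = n104283 := rfl
theorem F159903 : act 6 n104283 = n48263 := d12_2 D48260 D104283 (iv5 D48263) (iv6 D23412) D23411
def n104284 : Q := act 7 n48260
theorem D104284 : act 7 n48260 = n104284 := rfl
def n104294 : Q := act 3 n48268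
theorem D104294 : act 3 n48268 = n104294 := rfl
theorem F159916 : act 7 n104294 = n96292 := d8_2 F75883 D104294 (iv3 D96292)
def n104295 : Q := act 3 n48269
theorem D104295 : act 3 n48269 = n104295 := rfl
theorem F159918 : act 6 n104295 = n86873 := d7_2 (iv6 F75887) D104295 (iv3 D86873)
def n104296 : Q := act 0 n48270
theorem D104296 : act 0 n48270 = n104296 := rfl
def n104297 : Q := act 1 n48270
theorem D104297 : act 1 n48270 = n104297 := rfl
def n104298 : Q := act 2 n48270
theorem D104298 : act 2 n48270 = n104298 := rfl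
def n104299 : Q := act 5 n48270
theorem D104299 : act 5 n48270 = n104299 := rfl
theorem F159919 : act 3 n104299 = n48271 := d6_1 D104299 (iv5 D48271) D48270
def n104300 : Q := act 6 n48270
theorem D104300 : act 6 n48270 = n104300 := rfl
def n104301 : Q := act 0 n48271
theorem D104301 : act 0 n48271 = n104301 := rfl
theorem F159921 : act 5 n104301 = n104207 := d17_3 (iv1 D48269) D48271 D104301 F159763 F76150 F69726 F64452 (iv0 F74929) F75885
theorem F159924 : act 7 n104258 = n104301 := d13_0 F159921 F159762 D104258
def n104302 : Q := act 1 n48271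
theorem D104302 : act 1 n48271 = n104302 := rfl
theorem F159927 : act 5 n104302 = n98106 := d17_7 (iv1 F66138) F32001 D20888 F66192 D23421 D48271 D104302 F151256 (iv4 D48219)
def n104303 : Q := act 6 n48271
theorem D104303 : act 6 n48271 = n104303 := rfl
def n104304 : Q := act 0 n48272
theorem D104304 : act 0 n48272 = n104304 := rfl
theorem F159929 : act 1 n93455 = n104304 := d15_0 (iv0 D104304) (iv7 F141270) (iv2 F144167)
theorem F159930 : act 4 n104304 = n102720 := d18_7 (iv1 D87082) (iv4 F133685) (iv1 F140532) F137725 (iv5 F68696) (iv4 F144168) F159929 (iv0 D102720) F133689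
theorem F159931 : act 3 n102720 = n48564 := d20_3 (iv4 F75888) D104304 F159930 (iv1 F76424) F67670 D43215 (iv1 F75985) (iv4 D48336) (iv3 F138700) (iv1 D48274)
def n104314 : Q := act 0 n48278
theorem D104314 : act 0 n48278 = n104314 := rfl
def n104315 : Q := act 1 n48278
theorem D104315 : act 1 n48278 = n104315 := rfl
def n104316 : Q := act 2 n48278
theorem D104316 : act 2 n48278 = n104316 := rfl
def n104317 : Q := act 5 n48278
theorem D104317 : act 5 n48278 = n104317 := rfl
theorem F159944 : act 3 n104317 = n48279 := d6_1 D104317 (iv5 D48279) D48278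
def n104318 : Q := act 6 n48278
theorem D104318 : act 6 n48278 = n104318 := rfl
def n104319 : Q := act 0 n48279
theorem D104319 : act 0 n48279 = n104319 := rfl
theorem F159946 : act 5 n104319 = n102652 := d17_3 D23429 D48279 D104319 F157874 (iv5 F75788) F69203 F66192 (iv0 D10987) D10989
def n104320 : Q := act 6 n48279
theorem D104320 : act 6 n48279 = n104320 := rfl
def n104327 : Q := act 0 n48283
theorem D104327 : act 0 n48283 = n104327 := rfl
theorem F159955 : act 2 n48287 = n104327 := d15_3 (iv0 D104327) (iv0 D48283) D48287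
theorem F159956 : act 4 n104327 = n48351 := d1_2 (iv4 F75898) F159955 (iv2 F76006)
def n104332 : Q := act 6 n48283
theorem D104332 : act 6 n48283 = n104332 := rfl
def n104339 : Q := act 1 n48285
theorem D104339 : act 1 n48285 = n104339 := rfl
theorem F159964 : act 1 n104339 = n48287 := d15_1 D104339 (iv7 D48287) D48285
def n104344 : Q := act 6 n48286
theorem D104344 : act 6 n48286 = n104344 := rfl
theorem F159966 : act 3 n104344 = n48291 := d7_1 D104344 (iv6 D48291) (iv3 F75896)
theorem F159967 : act 5 n104344 = n88454 := d12_1 D104344 (iv6 D88454) (iv5 D41289) (iv6 F36539) D48286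
def n104345 : Q := act 7 n48286
theorem D104345 : act 7 n48286 = n104345 := rfl
theorem F159969 : act 5 n104345 = n48287 := d13_1 D104345 (iv7 D48287) D48286
def n104350 : Q := act 3 n48290
theorem D104350 : act 3 n48290 = n104350 := rfl
def n104351 : Q := act 6 n48290
theorem D104351 : act 6 n48290 = n104351 := rfl
theorem F159970 : act 4 n104351 = n48291 := d10_1 D104351 (iv6 D48291) D48290
def n104352 : Q := act 0 n48291
theorem D104352 : act 0 n48291 = n104352 := rfl
def n104353 : Q := act 1 n48291
theorem D104353 : act 1 n48291 = n104353 := rfl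
def n104354 : Q := act 7 n48291
theorem D104354 : act 7 n48291 = n104354 := rfl
theorem F159971 : act 5 n104354 = n88463 := d13_1 D104354 (iv7 D88463) (iv5 F75899)
def n104356 : Q := act 3 n48293
theorem D104356 : act 3 n48293 = n104356 := rfl
theorem F159972 : act 5 n104356 = n93808 := d6_2 (iv5 F75901) D104356 F144606
def n104357 : Q := act 4 n48293
theorem D104357 : act 4 n48293 = n104357 := rfl
theorem F159973 : act 2 n104357 = n93949 := d1_1 D104357 (iv4 D93949) F75905
theorem F159974 : act 0 n104357 = n90440 := d18_2 D48293 D104357 (iv4 D90440) (iv5 D42296) (iv4 F66845) F33046 F32903 F66729 D23449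
theorem F159975 : act 1 n104357 = n90436 := d18_6 (iv1 D92455) F67764 F74808 F72353 (iv5 F75901) D104357 (iv4 D90436) D90435 F142246
theorem F159976 : act 0 n90438 = n102572 := d20_4 D104357 F159974 (iv4 D90440) (iv3 F139194) (iv3 D102572) (iv4 F135469) (iv1 D88489) (iv4 D41304) (iv3 F36549) D48293
theorem F159977 : act 1 n90490 = n102572 := d15_0 (iv0 F159976) (iv7 F142978) F142976
theorem F159978 : act 0 n93011 = n90759 := d21_7 (iv5 F157531) (iv1 F159977) (iv5 D90490) D90491 (iv1 F143452) (iv6 D93012) D93011 (iv5 F145583) F145584 F144899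
def n104358 : Q := act 6 n48293
theorem D104358 : act 6 n48293 = n104358 := rfl
theorem F159979 : act 2 n104358 = n93947 := d3_1 D104358 F144770 F75905
theorem F159980 : act 5 n104358 = n93810 := d12_1 D104358 (iv6 D93810) (iv5 D43848) D43849 (iv5 F75901)
def n104359 : Q := act 3 n48294
theorem D104359 : act 3 n48294 = n104359 := rfl
theorem F159981 : act 5 n104359 = n93942 := d6_2 F75908 D104359 F144768
theorem F159982 : act 7 n104359 = n93941 := d8_2 (iv7 F75907) D104359 F144767
def n104360 : Q := act 4 n48294
theorem D104360 : act 4 n48294 = n104360 := rfl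
theorem F159983 : act 7 n104360 = n93949 := d11_2 (iv7 F75907) D104360 (iv4 D93949)
theorem F159984 : act 0 n104360 = n90436 := d18_2 (iv1 F75906) D104360 (iv4 D90436) (iv5 D42291) (iv4 F66839) (iv0 D20895) F15636 (iv0 F66710) D43393
theorem F159985 : act 1 n104360 = n90440 := d18_6 D43965 (iv4 F142134) (iv1 F142137) F136287 F75908 D104360 (iv4 D90440) F69119 (iv5 D43967)
def n104361 : Q := act 6 n48294
theorem D104361 : act 6 n48294 = n104361 := rfl
theorem F159986 : act 2 n104361 = n92901 := d3_1 D104361 F143276 (iv2 F75932)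
theorem F159987 : act 5 n104361 = n92607 := d12_1 D104361 (iv6 D92607) (iv5 F142475) F142477 F75908
def n104362 : Q := act 0 n48295
theorem D104362 : act 0 n48295 = n104362 := rfl
theorem F159988 : act 4 n104362 = n92736 := d18_3 (iv1 D48294) D48295 D104362 F142989 F68957 (iv0 F35686) (iv4 F61511) F75904 F75908
theorem F159989 : act 1 n92758 = n104362 := d15_0 (iv0 D104362) (iv7 F75935) (iv2 F143049)
theorem F159990 : act 2 n94057 = n104362 := d1_3 F159988 (iv2 F142991) D94057
def n104363 : Q := act 1 n48295
theorem D104363 : act 1 n48295 = n104363 := rfl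
theorem F159991 : act 1 n104363 = n92758 := d15_1 D104363 F143050 F139220
theorem F159992 : act 7 n104363 = n94057 := d15_2 (iv0 D104362) D104363 F159990
theorem F159993 : act 4 n104363 = n92737 := d18_7 (iv1 D20503) F15200 F66484 D10994 D23449 D48295 D104363 F142993 (iv5 D43386)
def n104364 : Q := act 3 n48295
theorem D104364 : act 3 n48295 = n104364 := rfl
theorem F159994 : act 4 n104364 = n88490 := d5_2 D48295 D104364 (iv3 D88490) (iv4 D41304) (iv3 F36549)
def n104365 : Q := act 5 n48295
theorem D104365 : act 5 n48295 = n104365 := rfl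
theorem F159995 : act 4 n104365 = n91137 := d16_2 D48295 D104365 F140169 (iv4 D43395) (iv5 D20514) D20513 D43393 F68192 (iv2 F66686)
theorem F159996 : act 0 n104365 = n91079 := d17_2 (iv1 D104363) D104365 F140125 F139213 F65314 F32590 D43383 D92737 (iv4 F159993)
theorem F159997 : act 1 n104365 = n92753 := d17_6 (iv1 D43420) (iv5 D20530) (iv1 F66709) D23449 D48295 D104365 (iv5 D92753) D92751 F143030
def n104366 : Q := act 6 n48295
theorem D104366 : act 6 n48295 = n104366 := rfl
theorem F159998 : act 4 n104366 = n48296 := d10_1 D104366 (iv6 D48296) D48295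
def n104367 : Q := act 0 n48296
theorem D104367 : act 0 n48296 = n104367 := rfl
def n104368 : Q := act 1 n48296
theorem D104368 : act 1 n48296 = n104368 := rfl
def n104369 : Q := act 7 n48296
theorem D104369 : act 7 n48296 = n104369 := rfl
theorem F159999 : act 3 n104369 = n88496 := d8_1 D104369 (iv7 D88496) (iv3 F75909)
def n104371 : Q := act 5 n48298
theorem D104371 : act 5 n48298 = n104371 := rfl
theorem F160004 : act 1 n104371 = n90469 := d17_6 D19973 D42334 (iv1 F65373) F66679 D48298 D104371 (iv5 D90469) (iv0 D42336) (iv4 D19975)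
def n104373 : Q := act 5 n48299
theorem D104373 : act 5 n48299 = n104373 := rfl
theorem F160005 : act 0 n104373 = n90464 := d17_2 D48299 D104373 (iv5 D90464) (iv4 D42333) D42334 (iv0 F65372) F32944 F66493 D23453
def n104375 : Q := act 5 n48300
theorem D104375 : act 5 n48300 = n104375 := rfl
theorem F160009 : act 1 n104375 = n90464 := d17_6 D43827 (iv5 F142135) (iv1 F142137) F136290 F76248 D104375 (iv5 D90464) F66867 F65273
def n104381 : Q := act 0 n48302
theorem D104381 : act 0 n48302 = n104381 := rfl
theorem F160014 : act 5 n104381 = n48324 := d17_3 (iv1 D48300) D48302 D104381 F75963 F68888 F33051 D44007 F76253 F76248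
theorem F160015 : act 2 n91139 = n104381 := d15_3 (iv0 D104381) F75919 D91139
theorem F160016 : act 1 n91137 = n104381 := d15_0 (iv0 D104381) (iv7 F75956) F140170
theorem F160018 : act 4 n104381 = n92810 := d1_2 (iv4 F140173) F160015 F143162
def n104382 : Q := act 4 n48302
theorem D104382 : act 4 n48302 = n104382 := rfl
theorem F160019 : act 5 n104382 = n92758 := d9_2 D48302 D104382 (iv4 D92758) (iv5 D43393) (iv4 D20513) D20514 D43395 (iv5 F140169) (iv4 F159995) (iv5 D104365) (iv4 D48295) (iv5 D23449) (iv4 D10994) D10995 D23453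
theorem F160020 : act 0 n104382 = n92753 := d18_2 (iv1 F75919) D104382 F143033 F139246 F65378 (iv0 F35716) D23485 (iv0 F63434) D42676
theorem F160021 : act 1 n104382 = n91079 := d18_6 (iv1 F75946) (iv4 D48298) (iv1 D23452) D23453 D48302 D104382 (iv4 D91079) D91078 F140123
def n104407 : Q := act 3 n48311
theorem D104407 : act 3 n48311 = n104407 := rfl
theorem F160055 : act 7 n104407 = n104356 := d8_2 (iv7 F75934) D104407 (iv3 D104356)
def n104408 : Q := act 4 n48311
theorem D104408 : act 4 n48311 = n104408 := rfl
theorem F160056 : act 2 n104408 = n104360 := d1_1 D104408 (iv4 D104360) F75932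
theorem F160057 : act 7 n104408 = n104357 := d11_2 (iv7 F75934) D104408 (iv4 D104357)
theorem F160058 : act 0 n104408 = n92738 := d18_2 D48311 D104408 (iv4 D92738) (iv5 D43383) (iv4 F66802) (iv0 D20748) F15469 F66791 D23477
theorem F160059 : act 1 n104408 = n92745 := d18_6 (iv1 F139203) F139202 F137201 (iv4 F142294) F142296 D104408 (iv4 D92745) F142990 F142989
def n104409 : Q := act 0 n48312
theorem D104409 : act 0 n48312 = n104409 := rfl
theorem F160060 : act 4 n104409 = n90435 := d18_3 (iv1 F69039) D48312 D104409 F142246 F142243 F67798 (iv4 F69033) (iv0 D43911) D43913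
theorem F160061 : act 2 n104363 = n104409 := d15_3 (iv0 D104409) (iv0 F144901) (iv7 F159992)
theorem F160062 : act 1 n90458 = n104409 := d15_0 (iv0 D104409) F75935 (iv2 F139220)
theorem F160063 : act 7 n104409 = n104362 := d15_2 F144902 F160062 (iv2 F159990)
def n104410 : Q := act 3 n48312
theorem D104410 : act 3 n48312 = n104410 := rfl
theorem F160064 : act 4 n104410 = n88538 := d5_2 D48312 D104410 (iv3 D88538) (iv4 D41329) (iv3 F36589)
theorem F160065 : act 7 n104410 = n104364 := d8_2 (iv7 F75935) D104410 (iv3 D104364)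
def n104411 : Q := act 5 n48312
theorem D104411 : act 5 n48312 = n104411 := rfl
theorem F160066 : act 2 n104411 = n104382 := d2_1 D104411 F160019 F143049
theorem F160067 : act 7 n104411 = n104365 := d13_2 (iv7 F75935) D104411 (iv5 D104365)
theorem F160069 : act 0 n104411 = n90453 := d17_2 F144901 D104411 (iv5 D90453) (iv4 D42300) (iv5 D19961) D19960 D42296 F69119 D94057
theorem F160070 : act 1 n104411 = n90480 := d17_6 (iv1 F68282) F68275 (iv1 F66786) D23477 D48312 D104411 (iv5 F143037) F143039 (iv4 F139236)
def n104412 : Q := act 6 n48312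
theorem D104412 : act 6 n48312 = n104412 := rfl
theorem F160071 : act 4 n104412 = n48313 := d10_1 D104412 (iv6 D48313) D48312
def n104413 : Q := act 0 n48313
theorem D104413 : act 0 n48313 = n104413 := rfl
def n104415 : Q := act 7 n48313
theorem D104415 : act 7 n48313 = n104415 := rfl
theorem F160075 : act 3 n104415 = n88544 := d8_1 D104415 (iv7 D88544) (iv3 F75936)
theorem F160076 : act 6 n104415 = n104369 := d14_1 D104415 (iv7 D104369) (iv6 D48296) (iv7 F36590) D48313
def n104416 : Q := act 4 n48314
theorem D104416 : act 4 n48314 = n104416 := rfl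
theorem F160080 : act 1 n104416 = n94167 := d18_6 (iv1 D92627) F68020 F66531 (iv4 F36592) D48314 D104416 (iv4 D94167) D94166 F145159
theorem F160081 : act 0 n94021 = n94165 := d20_4 D93809 (iv1 F144856) (iv4 D94022) D94021 F145155 D94167 (iv1 F160080) (iv4 D104416) F75938 (iv1 F68927)
def n104422 : Q := act 5 n48318
theorem D104422 : act 5 n48318 = n104422 := rfl
theorem F160098 : act 0 n104422 = n48326 := d17_2 (iv1 F75951) D104422 (iv5 D48326) (iv4 D23485) F35718 (iv0 D20844) D20846 (iv0 F32999) D42320
def n104440 : Q := act 0 n48325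
theorem D104440 : act 0 n48325 = n104440 := rfl
def n104441 : Q := act 1 n48325
theorem D104441 : act 1 n48325 = n104441 := rfl
def n104442 : Q := act 2 n48325
theorem D104442 : act 2 n48325 = n104442 := rfl
def n104443 : Q := act 5 n48325
theorem D104443 : act 5 n48325 = n104443 := rfl
theorem F160118 : act 3 n104443 = n48326 := d6_1 D104443 (iv5 D48326) D48325
def n104445 : Q := act 4 n48326
theorem D104445 : act 4 n48326 = n104445 := rfl
theorem F160121 : act 5 n104445 = n92751 := d16_1 D104445 F143030 (iv5 F68271) F67789 F32417 D42660 D91082 F140135 F139228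
def n104446 : Q := act 6 n48326
theorem D104446 : act 6 n48326 = n104446 := rfl
def n104468 : Q := act 0 n48337
theorem D104468 : act 0 n48337 = n104468 := rfl
theorem F160145 : act 1 n104442 = n104468 := d15_0 (iv0 D104468) F75987 D104442
def n104470 : Q := act 2 n48337
theorem D104470 : act 2 n48337 = n104470 := rfl
theorem F160147 : act 7 n104470 = n104442 := d4_2 (iv7 F75987) D104470 (iv2 D104442)
theorem F160148 : act 1 n104470 = n104440 := d15_0 (iv0 D104440) (iv7 F75987) D104470
theorem F160150 : act 1 n104441 = n104470 := d15_1 D104441 F160147 (iv2 D104442)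
def n104472 : Q := act 4 n48338
theorem D104472 : act 4 n48338 = n104472 := rfl
theorem F160153 : act 7 n104472 = n104445 := d11_2 (iv7 F75988) D104472 (iv4 D104445)
theorem F160154 : act 5 n104472 = n90450 := d16_1 D104472 (iv4 F139236) (iv5 F139234) (iv4 D90466) (iv5 D42334) D42333 D90464 (iv7 F140135) F140134
def n104498 : Q := act 5 n48345
theorem D104498 : act 5 n48345 = n104498 := rfl
theorem F160164 : act 3 n104498 = n48488 := d6_1 D104498 (iv5 D48488) (iv3 F75996)
def n104532 : Q := act 6 n48354
theorem D104532 : act 6 n48354 = n104532 := rfl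
def n104556 : Q := act 5 n48361
theorem D104556 : act 5 n48361 = n104556 := rfl
def n104581 : Q := act 2 n48368
theorem D104581 : act 2 n48368 = n104581 := rfl
theorem F160233 : act 4 n104581 = n90418 := d1_2 (iv4 F76026) D104581 F139169
theorem F160234 : act 7 n48369 = n104581 := d15_2 (iv0 D48368) D48369 (iv2 D104581)
def n104582 : Q := act 5 n48368
theorem D104582 : act 5 n48368 = n104582 := rfl
def n104583 : Q := act 6 n48368
theorem D104583 : act 6 n48368 = n104583 := rfl
theorem F160235 : act 4 n104583 = n90421 := d10_1 D104583 (iv6 D90421) (iv4 F76026)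
def n104584 : Q := act 7 n48368
theorem D104584 : act 7 n48368 = n104584 := rfl
theorem F160236 : act 2 n104584 = n48369 := d4_1 D104584 F160234 (iv2 D104581)
theorem F160237 : act 4 n104584 = n90416 := d11_1 D104584 (iv7 F139168) (iv4 F76026)
def n104585 : Q := act 3 n48369
theorem D104585 : act 3 n48369 = n104585 := rfl
def n104586 : Q := act 5 n48369
theorem D104586 : act 5 n48369 = n104586 := rfl
def n104587 : Q := act 6 n48369
theorem D104587 : act 6 n48369 = n104587 := rfl
theorem F160238 : act 4 n104587 = n52660 := d10_1 D104587 (iv6 F83202) F76028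
theorem F160239 : act 5 n104587 = n95582 := d21_6 (iv5 F55142) (iv1 F70612) (iv5 D44926) D44927 (iv1 F76032) D104587 (iv1 D95582) (iv5 D44643) (iv6 D21250) D21247
def n104588 : Q := act 5 n48370
theorem D104588 : act 5 n48370 = n104588 := rfl
theorem F160240 : act 2 n104588 = n48371 := d2_1 D104588 (iv5 D48371) D48370
theorem F160241 : act 7 n104588 = n96222 := d13_2 (iv7 F76030) D104588 (iv5 D96222)
theorem F160242 : act 1 n96238 = n104588 := d15_1 D96238 F160241 F147992
theorem F160243 : act 1 n104588 = n96237 := d15_0 (iv0 D96237) (iv7 F76035) (iv2 F160240)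
def n104589 : Q := act 0 n48371
theorem D104589 : act 0 n48371 = n104589 := rfl
theorem F160244 : act 1 n96222 = n104589 := d15_0 (iv0 D104589) F76035 (iv2 F147992)
theorem F160245 : act 5 n96972 = n104589 := d21_6 D44519 F70037 (iv5 D21614) D21615 D45334 D96972 (iv1 F160244) (iv5 D96222) (iv6 D44927) (iv1 F33695)
def n104590 : Q := act 1 n48371
theorem D104590 : act 1 n48371 = n104590 := rfl
theorem F160246 : act 1 n104590 = n96222 := d15_1 D104590 (iv7 F160241) F160240
def n104591 : Q := act 4 n48371
theorem D104591 : act 4 n48371 = n104591 := rfl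
theorem F160247 : act 7 n104591 = n96239 := d11_2 (iv7 F76035) D104591 (iv4 D96239)
def n104592 : Q := act 6 n48371
theorem D104592 : act 6 n48371 = n104592 := rfl
theorem F160248 : act 3 n104592 = n48373 := d7_1 D104592 (iv6 D48373) (iv3 F76034)
def n104593 : Q := act 3 n48372
theorem D104593 : act 3 n48372 = n104593 := rfl
theorem F160249 : act 5 n104593 = n97082 := d6_2 (iv5 F76037) D104593 (iv3 D97082)
theorem F160250 : act 7 n104593 = n96287 := d8_2 (iv7 F76036) D104593 (iv3 D96287)
def n104594 : Q := act 6 n48372
theorem D104594 : act 6 n48372 = n104594 := rfl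
theorem F160251 : act 4 n104594 = n48373 := d10_1 D104594 (iv6 D48373) D48372
def n104595 : Q := act 0 n48373
theorem D104595 : act 0 n48373 = n104595 := rfl
def n104596 : Q := act 1 n48373
theorem D104596 : act 1 n48373 = n104596 := rfl
def n104597 : Q := act 7 n48373
theorem D104597 : act 7 n48373 = n104597 := rfl
theorem F160252 : act 6 n104597 = n96269 := d14_1 D104597 (iv7 D96269) F70640 F63181 D48373
def n104598 : Q := act 4 n48374
theorem D104598 : act 4 n48374 = n104598 := rfl
theorem F160253 : act 3 n104598 = n95346 := d5_1 D104598 (iv4 F157390) F157389 D99769 F153590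
theorem F160254 : act 0 n104598 = n95319 := d20_1 D104598 (iv4 F148015) (iv3 D96234) (iv1 D44932) F33698 F16172 (iv1 F63142) D11029 D23517 D48374
theorem F160255 : act 0 n104585 = n104598 := d20_10 (iv4 D104598) (iv1 F76038) F70796 (iv3 D45012) F66764 (iv3 F36275) F36276 D42278 F76028 D104585
theorem F160256 : act 7 n104585 = n96234 := d15_2 (iv0 F160254) (iv0 F160255) F148014
theorem E15774 : n96230 = n48369 := (c8_3 F160256 (iv3 D96234) F148009 D104585)
theorem E15775 : n104584 = n44931 := (((iv2 F160236)).symm.trans (sb E15774 (iv2 D96230)))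
theorem E15776 : n104581 = n44932 := ((F160234).symm.trans (sb E15774 (iv7 F148009)))
theorem F160257 : act 2 n44931 = n48369 := (sb E15775 F160236)
theorem E15777 : n90416 = n90413 := (((F139166).symm.trans (sb E15775 F160237))).symm
theorem E15778 : n96233 = n48368 := ((D96233).symm.trans (sb E15775 (iv7 D104584)))
theorem E15779 : n90418 = n90414 := ((((iv4 F139161)).symm.trans (sb E15776 F160233))).symm
theorem F160258 : act 7 n44932 = n48369 := (sb E15776 (iv7 F160234))
theorem F160259 : act 2 n90413 = n42278 := (sb E15777 (iv2 D90416))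
theorem F160260 : act 7 n90413 = n42279 := (sb E15777 (iv7 F139168))
theorem F160261 : act 2 n48368 = n44932 := (sb E15778 F148012)
theorem E15780 : n95318 = n92700 := (((F142879).symm.trans (sb E15778 F148013))).symm
theorem F160262 : act 7 n48368 = n44931 := (sb E15778 (iv7 D96233))
theorem F160263 : act 2 n90414 = n42279 := (sb E15779 F139169)
theorem E15781 : n92698 = n88464 := (((F139160).symm.trans (sb E15779 (iv3 F142876)))).symm
theorem F160264 : act 7 n90414 = n42278 := (sb E15779 (iv7 D90418))
theorem F160265 : act 2 n92700 = n44525 := (sb E15780 F146961)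
theorem F160266 : act 7 n92700 = n44524 := (sb E15780 (iv7 D95318))
theorem F160267 : act 2 n88464 = n43362 := (sb E15781 F142875)
theorem F160268 : act 7 n88464 = n43361 := (sb E15781 (iv7 D92698))
theorem E15782 : n95315 = n92695 := ((c11_2 F160268 D92695 (iv7 F146960) (iv4 F135436))).symm
theorem F160269 : act 2 n92695 = n44524 := (sb E15782 (iv2 D95315))
theorem F160270 : act 7 n92695 = n44525 := (sb E15782 (iv7 F146960))
theorem E15783 : n92694 = n88465 := (c15_4 F135444 F135437 F160268 D92694)
theorem F160271 : act 2 n88465 = n43361 := (sb E15783 (iv2 D92694))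
theorem F160272 : act 7 n88465 = n43362 := (sb E15783 (iv7 F142870))
theorem F160273 : act 7 n96231 = n104582 := d13_2 F160262 D96231 (iv5 D104582)
theorem F160274 : act 2 n96235 = n104582 := d2_3 (iv5 D104582) F160261 D96235
theorem F160275 : act 2 n96236 = n104583 := d3_3 (iv6 D104583) F160261 D96236
theorem F160276 : act 7 n104586 = n96235 := d13_2 F160258 D104586 (iv5 D96235)
theorem F160277 : act 2 n96231 = n104586 := d4_3 F160276 F160274 (iv7 F160273)
theorem F160278 : act 2 n104587 = n96232 := d3_3 (iv6 D96232) F160257 D104587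
def n104599 : Q := act 5 n48374
theorem D104599 : act 5 n48374 = n104599 := rfl
def n104600 : Q := act 6 n48374
theorem D104600 : act 6 n48374 = n104600 := rfl
def n104601 : Q := act 4 n48375
theorem D104601 : act 4 n48375 = n104601 := rfl
theorem F160279 : act 3 n104601 = n88342 := d5_1 D104601 (iv4 F157109) (iv3 D102294) D102295 F157115
theorem F160280 : act 0 n95319 = n104601 := d20_10 (iv4 D104601) (iv1 D48375) F36627 (iv3 D23517) (iv1 F17932) D23612 (iv4 F63613) D88464 F135436 D95319
theorem F160281 : act 0 n104601 = n104585 := d20_4 (iv4 F134593) (iv1 F157170) F157109 (iv3 F160279) (iv3 D104585) (iv4 F76028) (iv1 F139167) (iv4 F159104) F159103 (iv1 F158379)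
def n104602 : Q := act 5 n48375
theorem D104602 : act 5 n48375 = n104602 := rfl
def n104603 : Q := act 6 n48375
theorem D104603 : act 6 n48375 = n104603 := rfl
def n104604 : Q := act 0 n48376
theorem D104604 : act 0 n48376 = n104604 := rfl
theorem F160282 : act 1 n96404 = n104604 := d15_0 (iv0 D104604) (iv7 F76186) (iv2 F148401)
def n104605 : Q := act 1 n48376
theorem D104605 : act 1 n48376 = n104605 := rfl
theorem F160283 : act 1 n104605 = n96404 := d15_1 D104605 F148403 F147001
def n104606 : Q := act 4 n48376
theorem D104606 : act 4 n48376 = n104606 := rfl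
def n104607 : Q := act 6 n48376
theorem D104607 : act 6 n48376 = n104607 := rfl
theorem F160284 : act 3 n104607 = n48379 := d7_1 D104607 (iv6 D48379) (iv3 F76040)
def n104608 : Q := act 0 n48377
theorem D104608 : act 0 n48377 = n104608 := rfl
def n104609 : Q := act 1 n48377
theorem D104609 : act 1 n48377 = n104609 := rfl
def n104610 : Q := act 3 n48378
theorem D104610 : act 3 n48378 = n104610 := rfl
def n104612 : Q := act 0 n48379
theorem D104612 : act 0 n48379 = n104612 := rfl
def n104613 : Q := act 1 n48379
theorem D104613 : act 1 n48379 = n104613 := rfl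
theorem F160287 : act 1 n104613 = n48405 := d15_1 D104613 (iv7 D48405) (iv2 F76044)
def n104614 : Q := act 7 n48379
theorem D104614 : act 7 n48379 = n104614 := rfl
theorem F160288 : act 2 n104614 = n48405 := d4_1 D104614 (iv7 D48405) (iv2 F76044)
theorem F160289 : act 1 n48405 = n104612 := d15_0 (iv0 D104612) D104614 F160288
theorem F160290 : act 1 n48403 = n104614 := d15_1 D48403 (iv7 D104614) F76044
theorem F160291 : act 1 n104614 = n48402 := d15_0 (iv0 D48402) D48405 (iv2 F160288)
def n104615 : Q := act 0 n48380
theorem D104615 : act 0 n48380 = n104615 := rfl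
theorem F160292 : act 3 n104615 = n102001 := d20_5 (iv4 D23556) (iv1 F17908) D23520 D48380 D104615 (iv4 D102001) (iv1 D47377) (iv4 F74565) F74564 (iv1 F70129)
theorem F160293 : act 1 n95372 = n104615 := d15_0 (iv0 D104615) F76046 (iv2 F147003)
def n104616 : Q := act 1 n48380
theorem D104616 : act 1 n48380 = n104616 := rfl
def n104617 : Q := act 2 n48380
theorem D104617 : act 2 n48380 = n104617 := rfl
theorem F160294 : act 3 n104617 = n48415 := d0_2 D48380 D104617 (iv2 D48415) (iv3 D23549) (iv2 F36631)
theorem F160296 : act 5 n104617 = n97141 := d2_2 F147459 D104617 F149870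
theorem F160297 : act 7 n104617 = n95372 := d4_2 (iv7 F76046) D104617 F147003
theorem F160298 : act 1 n104617 = n104608 := d15_0 (iv0 D104608) (iv7 F76046) D104617
theorem F160299 : act 1 n104616 = n95372 := d15_1 D104616 (iv7 F160297) (iv2 D104617)
theorem F160300 : act 1 n104609 = n104617 := d15_1 D104609 F160297 F147003
def n104618 : Q := act 4 n48381
theorem D104618 : act 4 n48381 = n104618 := rfl
theorem F160301 : act 2 n104618 = n99581 := d1_1 D104618 F153328 F153413
theorem F160302 : act 3 n104618 = n99654 := d5_1 D104618 (iv4 F153434) F151059 (iv4 F151058) F151057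
theorem F160303 : act 7 n104618 = n99634 := d11_2 (iv7 F153412) D104618 (iv4 F153409)
theorem F160304 : act 0 n104618 = n99633 := d20_1 D104618 F153381 (iv3 F153382) (iv1 D96271) (iv3 D44943) F63174 F36643 (iv4 D23523) D23522 D48381
theorem F160305 : act 0 n99632 = n104618 := d20_10 (iv4 D104618) (iv1 F76047) F75421 (iv3 F139252) (iv1 F139256) (iv3 F154402) (iv4 F159109) F159111 (iv4 D99769) (iv3 F157389)
def n104619 : Q := act 5 n48381
theorem D104619 : act 5 n48381 = n104619 := rfl
theorem F160306 : act 2 n104619 = n103656 := d2_1 D104619 (iv5 D103656) F153413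
theorem F160307 : act 3 n104619 = n103675 := d6_1 D104619 (iv5 D103675) F151057
theorem F160308 : act 7 n104619 = n103653 := d13_2 (iv7 F153412) D104619 (iv5 D103653)
def n104620 : Q := act 6 n48381
theorem D104620 : act 6 n48381 = n104620 := rfl
theorem F160309 : act 2 n104620 = n103657 := d3_1 D104620 (iv6 D103657) F153413
theorem F160310 : act 3 n104620 = n103676 := d7_1 D104620 (iv6 D103676) F151057
theorem F160311 : act 5 n95969 = n104620 := d21_2 D44788 D95969 (iv6 D104620) (iv1 F76047) (iv6 D48006) (iv5 F71662) (iv1 F71665) (iv5 D44712) D44713 F157624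
def n104621 : Q := act 5 n48382
theorem D104621 : act 5 n48382 = n104621 := rfl
theorem F160312 : act 2 n104621 = n103653 := d2_1 D104621 (iv5 D103653) (iv2 F153410)
theorem F160313 : act 7 n104621 = n103656 := d13_2 F153411 D104621 (iv5 D103656)
theorem F160314 : act 0 n104621 = n48391 := d21_1 D104621 (iv5 F138103) F138104 F157285 (iv6 D44709) D44708 (iv1 F71664) F71662 D48006 F76049
theorem F160315 : act 1 n104619 = n48391 := d15_0 (iv0 F160314) F160313 (iv2 F160306)
theorem F160316 : act 1 n103653 = n48457 := d15_0 (iv0 F159068) (iv7 F160313) F160312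
def n104622 : Q := act 6 n48382
theorem D104622 : act 6 n48382 = n104622 := rfl
theorem F160317 : act 2 n104622 = n103654 := d3_1 D104622 (iv6 D103654) (iv2 F153410)
theorem F160318 : act 4 n104622 = n99636 := d10_1 D104622 (iv6 D99636) F76048
theorem F160319 : act 5 n104622 = n95758 := d21_6 D44708 (iv1 F71664) F71662 D48006 F76049 D104622 (iv1 D95758) (iv5 D44722) (iv6 D21300) D21296
def n104623 : Q := act 5 n48383
theorem D104623 : act 5 n48383 = n104623 := rfl
theorem F160320 : act 2 n104623 = n48384 := d2_1 D104623 (iv5 D48384) D48383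
theorem F160321 : act 7 n104623 = n103651 := d13_2 (iv7 F76050) D104623 (iv5 D103651)
theorem F160322 : act 1 n103659 = n104623 := d15_1 D103659 F160321 F159053
theorem F160323 : act 1 n104623 = n103658 := d15_0 (iv0 D103658) (iv7 F76054) (iv2 F160320)
def n104624 : Q := act 0 n48384
theorem D104624 : act 0 n48384 = n104624 := rfl
theorem F160324 : act 1 n103651 = n104624 := d15_0 (iv0 D104624) F76054 (iv2 F159053)
theorem F160325 : act 5 n97117 = n104624 := d21_6 (iv5 F71600) (iv1 D45390) (iv5 D21659) D21660 D45393 D97117 (iv1 F160324) (iv5 D103651) (iv6 D48006) (iv1 F36253)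
theorem F160326 : act 0 n89865 = n97117 := d21_10 F160325 (iv1 F160324) (iv5 D103651) (iv6 D48006) (iv1 F36253) D47791 D103083 F158370 (iv5 F138087) F138088
def n104625 : Q := act 1 n48384
theorem D104625 : act 1 n48384 = n104625 := rfl
theorem F160327 : act 1 n104625 = n103651 := d15_1 D104625 (iv7 F160321) F160320
def n104626 : Q := act 4 n48384
theorem D104626 : act 4 n48384 = n104626 := rfl
theorem F160328 : act 7 n104626 = n103660 := d11_2 (iv7 F76054) D104626 (iv4 D103660)
def n104627 : Q := act 6 n48384
theorem D104627 : act 6 n48384 = n104627 := rfl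
theorem F160329 : act 3 n104627 = n48386 := d7_1 D104627 (iv6 D48386) (iv3 F76053)
def n104628 : Q := act 3 n48385
theorem D104628 : act 3 n48385 = n104628 := rfl
theorem F160330 : act 5 n104628 = n97184 := d6_2 (iv5 F76056) D104628 (iv3 D97184)
theorem F160331 : act 7 n104628 = n103663 := d8_2 (iv7 F76055) D104628 (iv3 D103663)
def n104629 : Q := act 6 n48385
theorem D104629 : act 6 n48385 = n104629 := rfl
theorem F160332 : act 4 n104629 = n48386 := d10_1 D104629 (iv6 D48386) D48385
def n104630 : Q := act 0 n48386
theorem D104630 : act 0 n48386 = n104630 := rfl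
def n104631 : Q := act 1 n48386
theorem D104631 : act 1 n48386 = n104631 := rfl
def n104632 : Q := act 7 n48386
theorem D104632 : act 7 n48386 = n104632 := rfl
theorem F160333 : act 6 n104632 = n97207 := d14_1 D104632 (iv7 D97207) F71670 (iv7 F36645) D48386
def n104633 : Q := act 3 n48387
theorem D104633 : act 3 n48387 = n104633 := rfl
theorem F160334 : act 5 n104633 = n89858 := d6_2 F76060 D104633 (iv3 D89858)
def n104634 : Q := act 4 n48387
theorem D104634 : act 4 n48387 = n104634 := rfl
theorem F160335 : act 2 n104634 = n96013 := d1_1 D104634 (iv4 D96013) (iv2 F76062)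
theorem F160336 : act 0 n104634 = n95357 := d18_2 D48387 D104634 (iv4 D95357) (iv5 D44538) F66743 F58145 F58142 F66558 D23528
theorem F160337 : act 1 n104634 = n95352 := d18_6 F137888 F70202 F127101 F127100 F76060 D104634 (iv4 D95352) D95351 F146980
def n104635 : Q := act 6 n48387
theorem D104635 : act 6 n48387 = n104635 := rfl
theorem F160338 : act 2 n104635 = n96011 := d3_1 D104635 F147638 (iv2 F76062)
theorem F160339 : act 5 n104635 = n95534 := d12_1 D104635 (iv6 D95534) (iv5 D44623) (iv6 F76061) F76060
def n104636 : Q := act 3 n48388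
theorem D104636 : act 3 n48388 = n104636 := rfl
theorem F160340 : act 5 n104636 = n89859 := d6_2 F76066 D104636 (iv3 D89859)
theorem F160341 : act 7 n104636 = n96006 := d8_2 (iv7 F76065) D104636 F147636
def n104637 : Q := act 4 n48388
theorem D104637 : act 4 n48388 = n104637 := rfl
theorem F160342 : act 7 n104637 = n96013 := d11_2 (iv7 F76065) D104637 (iv4 D96013)
theorem F160343 : act 0 n104637 = n95352 := d18_2 (iv1 F76064) D104637 (iv4 D95352) (iv5 D44535) F66726 (iv0 D19948) (iv4 F17727) (iv0 F66764) D45013
theorem F160344 : act 1 n104637 = n95357 := d18_6 D44857 (iv4 F144884) F144883 (iv4 D89860) F76066 D104637 (iv4 D95357) F70782 (iv5 D44859)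
def n104638 : Q := act 6 n48388
theorem D104638 : act 6 n48388 = n104638 := rfl
theorem F160345 : act 2 n104638 = n103823 := d3_1 D104638 F159243 (iv2 F76207)
theorem F160346 : act 5 n104638 = n103619 := d12_1 D104638 (iv6 D103619) F137934 (iv6 D89861) F76066
def n104639 : Q := act 0 n48389
theorem D104639 : act 0 n48389 = n104639 := rfl
theorem F160347 : act 4 n104639 = n89871 := d18_3 (iv1 D48388) D48389 D104639 (iv5 D89871) (iv4 D41986) (iv0 D19780) (iv4 F31549) D41976 F76066
theorem F160348 : act 1 n96406 = n104639 := d15_0 (iv0 D104639) (iv7 F76210) (iv2 F148407)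
theorem F160349 : act 2 n96126 = n104639 := d1_3 F160347 F137957 D96126
def n104640 : Q := act 1 n48389
theorem D104640 : act 1 n48389 = n104640 := rfl
theorem F160352 : act 4 n104640 = n89874 := d18_7 (iv1 D21487) F16223 (iv1 F66773) (iv4 F17900) D23528 D48389 D104640 F137967 (iv5 D45006)
def n104641 : Q := act 3 n48389
theorem D104641 : act 3 n48389 = n104641 := rfl
theorem F160353 : act 4 n104641 = n48399 := d5_2 D48389 D104641 (iv3 D48399) (iv4 D23532) (iv3 F36648)
def n104642 : Q := act 5 n48389
theorem D104642 : act 5 n48389 = n104642 := rfl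
theorem F160354 : act 4 n104642 = n96409 := d16_2 D48389 D104642 (iv5 D96409) (iv4 D45015) (iv5 D21498) D21497 D45013 F70799 F70059
theorem F160355 : act 0 n104642 = n96424 := d17_2 (iv1 D104640) D104642 F148444 F146999 F70056 F33790 D45003 F137968 (iv4 F160352)
def n104643 : Q := act 6 n48389
theorem D104643 : act 6 n48389 = n104643 := rfl
theorem F160357 : act 4 n104643 = n48390 := d10_1 D104643 (iv6 D48390) D48389
def n104644 : Q := act 0 n48390
theorem D104644 : act 0 n48390 = n104644 := rfl
def n104645 : Q := act 1 n48390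
theorem D104645 : act 1 n48390 = n104645 := rfl
def n104646 : Q := act 7 n48390
theorem D104646 : act 7 n48390 = n104646 := rfl
theorem F160358 : act 3 n104646 = n48405 := d8_1 D104646 (iv7 D48405) (iv3 F76067)
def n104647 : Q := act 2 n48391
theorem D104647 : act 2 n48391 = n104647 := rfl
theorem F160359 : act 1 n104647 = n103653 := d15_0 F160316 F76217 D104647
theorem F160360 : act 1 n103656 = n104647 := d15_0 F160359 (iv7 F160308) F160306
def n104648 : Q := act 4 n48391
theorem D104648 : act 4 n48391 = n104648 := rfl
def n104649 : Q := act 6 n48391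
theorem D104649 : act 6 n48391 = n104649 := rfl
theorem F160361 : act 3 n104649 = n48393 := d7_1 D104649 (iv6 D48393) D48391
def n104650 : Q := act 3 n48392
theorem D104650 : act 3 n48392 = n104650 := rfl
def n104651 : Q := act 6 n48392
theorem D104651 : act 6 n48392 = n104651 := rfl
theorem F160362 : act 4 n104651 = n48393 := d10_1 D104651 (iv6 D48393) D48392
def n104652 : Q := act 0 n48393
theorem D104652 : act 0 n48393 = n104652 := rfl
def n104653 : Q := act 1 n48393
theorem D104653 : act 1 n48393 = n104653 := rfl
def n104654 : Q := act 7 n48393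
theorem D104654 : act 7 n48393 = n104654 := rfl
def n104655 : Q := act 0 n48394
theorem D104655 : act 0 n48394 = n104655 := rfl
def n104656 : Q := act 1 n48394
theorem D104656 : act 1 n48394 = n104656 := rfl
def n104657 : Q := act 2 n48394
theorem D104657 : act 2 n48394 = n104657 := rfl
def n104658 : Q := act 4 n48394
theorem D104658 : act 4 n48394 = n104658 := rfl
def n104659 : Q := act 6 n48394
theorem D104659 : act 6 n48394 = n104659 := rfl
theorem F160363 : act 3 n104659 = n48396 := d7_1 D104659 (iv6 D48396) D48394
def n104660 : Q := act 3 n48395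
theorem D104660 : act 3 n48395 = n104660 := rfl
def n104661 : Q := act 6 n48395
theorem D104661 : act 6 n48395 = n104661 := rfl
theorem F160364 : act 4 n104661 = n48396 := d10_1 D104661 (iv6 D48396) D48395
def n104662 : Q := act 0 n48396
theorem D104662 : act 0 n48396 = n104662 := rfl
theorem F160365 : act 6 n104662 = n97202 := d21_5 F75423 (iv1 F64877) (iv5 F64880) D48396 D104662 (iv5 D97202) (iv1 D45422) D45423 F71670 D48010
def n104663 : Q := act 1 n48396
theorem D104663 : act 1 n48396 = n104663 := rfl
def n104664 : Q := act 7 n48396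
theorem D104664 : act 7 n48396 = n104664 := rfl
def n104665 : Q := act 3 n48397
theorem D104665 : act 3 n48397 = n104665 := rfl
def n104666 : Q := act 6 n48397
theorem D104666 : act 6 n48397 = n104666 := rfl
def n104667 : Q := act 3 n48398
theorem D104667 : act 3 n48398 = n104667 := rfl
def n104668 : Q := act 6 n48398
theorem D104668 : act 6 n48398 = n104668 := rfl
def n104669 : Q := act 0 n48399
theorem D104669 : act 0 n48399 = n104669 := rfl
def n104670 : Q := act 1 n48399
theorem D104670 : act 1 n48399 = n104670 := rfl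
def n104671 : Q := act 2 n48399
theorem D104671 : act 2 n48399 = n104671 := rfl
def n104672 : Q := act 5 n48399
theorem D104672 : act 5 n48399 = n104672 := rfl
theorem F160366 : act 3 n104672 = n48400 := d6_1 D104672 (iv5 D48400) D48399
def n104673 : Q := act 6 n48399
theorem D104673 : act 6 n48399 = n104673 := rfl
def n104674 : Q := act 6 n48400
theorem D104674 : act 6 n48400 = n104674 := rfl
theorem F160368 : act 4 n104674 = n97183 := d10_1 D104674 (iv6 D97183) (iv4 F76068)
def n104678 : Q := act 7 n48401
theorem D104678 : act 7 n48401 = n104678 := rfl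
theorem F160369 : act 4 n104678 = n48405 := d11_1 D104678 (iv7 D48405) (iv4 F76070)
def n104679 : Q := act 2 n48402
theorem D104679 : act 2 n48402 = n104679 := rfl
theorem F160370 : act 7 n48403 = n104679 := d15_2 (iv0 D48402) D48403 (iv2 D104679)
def n104680 : Q := act 3 n48402
theorem D104680 : act 3 n48402 = n104680 := rfl
def n104681 : Q := act 4 n48402
theorem D104681 : act 4 n48402 = n104681 := rfl
def n104682 : Q := act 5 n48402
theorem D104682 : act 5 n48402 = n104682 := rfl
def n104683 : Q := act 6 n48402
theorem D104683 : act 6 n48402 = n104683 := rfl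
def n104684 : Q := act 7 n48402
theorem D104684 : act 7 n48402 = n104684 := rfl
theorem F160371 : act 2 n104684 = n48403 := d4_1 D104684 F160370 (iv2 D104679)
def n104685 : Q := act 3 n48403
theorem D104685 : act 3 n48403 = n104685 := rfl
def n104686 : Q := act 4 n48403
theorem D104686 : act 4 n48403 = n104686 := rfl
def n104687 : Q := act 5 n48403
theorem D104687 : act 5 n48403 = n104687 := rfl
def n104688 : Q := act 6 n48403
theorem D104688 : act 6 n48403 = n104688 := rfl
def n104689 : Q := act 0 n48404
theorem D104689 : act 0 n48404 = n104689 := rfl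
def n104690 : Q := act 1 n48404
theorem D104690 : act 1 n48404 = n104690 := rfl
def n104691 : Q := act 4 n48404
theorem D104691 : act 4 n48404 = n104691 := rfl
def n104692 : Q := act 7 n48404
theorem D104692 : act 7 n48404 = n104692 := rfl
theorem F160374 : act 5 n104692 = n48405 := d13_1 D104692 (iv7 D48405) D48404
def n104693 : Q := act 0 n48406
theorem D104693 : act 0 n48406 = n104693 := rfl
def n104694 : Q := act 1 n48406
theorem D104694 : act 1 n48406 = n104694 := rfl
def n104695 : Q := act 2 n48406
theorem D104695 : act 2 n48406 = n104695 := rfl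
theorem F160375 : act 3 n104695 = n103799 := d0_2 D48406 D104695 F159232 F75520 F63023
theorem F160376 : act 4 n104695 = n102535 := d1_2 (iv4 F76072) D104695 (iv2 D102535)
theorem F160377 : act 6 n104695 = n103613 := d3_2 (iv6 F76073) D104695 (iv2 D103613)
def n104696 : Q := act 0 n48407
theorem D104696 : act 0 n48407 = n104696 := rfl
theorem F160378 : act 1 n103799 = n104696 := d15_0 (iv0 D104696) F76074 (iv2 F159232)
def n104697 : Q := act 1 n48407
theorem D104697 : act 1 n48407 = n104697 := rfl
def n104698 : Q := act 2 n48407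
theorem D104698 : act 2 n48407 = n104698 := rfl
theorem F160379 : act 7 n104698 = n103799 := d4_2 (iv7 F76074) D104698 F159232
theorem F160380 : act 1 n104698 = n103804 := d15_0 (iv0 D103804) (iv7 F76074) D104698
theorem F160381 : act 1 n104697 = n103799 := d15_1 D104697 (iv7 F160379) (iv2 D104698)
theorem F160382 : act 1 n103805 = n104698 := d15_1 D103805 F160379 F159232
def n104699 : Q := act 6 n48407
theorem D104699 : act 6 n48407 = n104699 := rfl
theorem F160383 : act 3 n104699 = n48408 := d7_1 D104699 (iv6 D48408) D48407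
theorem F160384 : act 4 n104699 = n92970 := d10_1 D104699 F143380 F135487
theorem F160385 : act 7 n104699 = n92937 := d14_2 (iv7 F76074) D104699 (iv6 D92937) F68334 D48060
theorem F160386 : act 5 n96569 = n104699 := d13_3 F160385 (iv5 F143315) (iv7 F148742)
def n104700 : Q := act 3 n48409
theorem D104700 : act 3 n48409 = n104700 := rfl
theorem F160387 : act 5 n104700 = n104610 := d6_2 (iv5 F76082) D104700 (iv3 D104610)
def n104701 : Q := act 0 n48410
theorem D104701 : act 0 n48410 = n104701 := rfl
def n104702 : Q := act 1 n48410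
theorem D104702 : act 1 n48410 = n104702 := rfl
def n104703 : Q := act 2 n48410
theorem D104703 : act 2 n48410 = n104703 := rfl
def n104704 : Q := act 5 n48410
theorem D104704 : act 5 n48410 = n104704 := rfl
theorem F160388 : act 3 n104704 = n48411 := d6_1 D104704 (iv5 D48411) D48410
def n104705 : Q := act 6 n48411
theorem D104705 : act 6 n48411 = n104705 := rfl
def n104706 : Q := act 0 n48412
theorem D104706 : act 0 n48412 = n104706 := rfl
theorem F160389 : act 1 n104695 = n104706 := d15_0 (iv0 D104706) F76106 D104695
def n104707 : Q := act 1 n48412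
theorem D104707 : act 1 n48412 = n104707 := rfl
def n104708 : Q := act 2 n48412
theorem D104708 : act 2 n48412 = n104708 := rfl
theorem F160390 : act 3 n104708 = n104698 := d0_2 D48412 D104708 (iv2 D104698) (iv3 D48407) F63026
theorem F160391 : act 4 n104708 = n102516 := d1_2 F76107 D104708 (iv2 D102516)
theorem F160392 : act 7 n104708 = n104695 := d4_2 (iv7 F76106) D104708 (iv2 D104695)
theorem F160393 : act 1 n104708 = n104693 := d15_0 (iv0 D104693) (iv7 F76106) D104708
theorem F160394 : act 1 n104707 = n104695 := d15_1 D104707 (iv7 F160392) (iv2 D104708)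
theorem F160395 : act 1 n104694 = n104708 := d15_1 D104694 F160392 (iv2 D104695)
def n104709 : Q := act 3 n48414
theorem D104709 : act 3 n48414 = n104709 := rfl
theorem F160396 : act 4 n104709 = n88374 := d5_2 F135317 D104709 (iv3 F135336) (iv4 F75821) (iv3 F135316)
theorem F160397 : act 6 n104709 = n48472 := d7_2 (iv6 F76115) D104709 (iv3 D48472)
def n104710 : Q := act 3 n48416
theorem D104710 : act 3 n48416 = n104710 := rfl
theorem F160399 : act 7 n104710 = n104700 := d8_2 (iv7 F76124) D104710 (iv3 D104700)
def n104711 : Q := act 6 n48416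
theorem D104711 : act 6 n48416 = n104711 := rfl
theorem F160400 : act 4 n104711 = n48417 := d10_1 D104711 (iv6 D48417) D48416
def n104712 : Q := act 0 n48417
theorem D104712 : act 0 n48417 = n104712 := rfl
def n104713 : Q := act 1 n48417
theorem D104713 : act 1 n48417 = n104713 := rfl
def n104714 : Q := act 7 n48417
theorem D104714 : act 7 n48417 = n104714 := rfl
theorem F160401 : act 6 n104714 = n104692 := d14_1 D104714 (iv7 D104692) F76071 (iv7 F36660) D48417
def n104715 : Q := act 3 n48418
theorem D104715 : act 3 n48418 = n104715 := rfl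
theorem F160402 : act 4 n104715 = n87725 := d5_2 (iv4 F76127) D104715 (iv3 D87725) (iv4 D40864) (iv3 F61964)
theorem F160403 : act 5 n104715 = n95625 := d6_2 (iv5 F76126) D104715 (iv3 D95625)
theorem F160404 : act 6 n104715 = n96091 := d7_2 F76131 D104715 (iv3 D96091)
theorem F160405 : act 7 n104715 = n88352 := d8_2 (iv7 F76130) D104715 (iv3 D88352)
def n104716 : Q := act 0 n48419
theorem D104716 : act 0 n48419 = n104716 := rfl
theorem F160406 : act 1 n104703 = n104716 := d15_0 (iv0 D104716) F76134 D104703
def n104717 : Q := act 1 n48419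
theorem D104717 : act 1 n48419 = n104717 := rfl
def n104718 : Q := act 2 n48419
theorem D104718 : act 2 n48419 = n104718 := rfl
theorem F160407 : act 3 n104718 = n100799 := d0_2 D48419 D104718 F154897 F75580 F63328
theorem F160408 : act 4 n104718 = n92872 := d1_2 (iv4 F76132) D104718 F143255
theorem F160409 : act 6 n104718 = n92870 := d3_2 (iv6 F76133) D104718 F143246
theorem F160410 : act 7 n104718 = n104703 := d4_2 (iv7 F76134) D104718 (iv2 D104703)
theorem F160411 : act 1 n104718 = n104701 := d15_0 (iv0 D104701) (iv7 F76134) D104718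
theorem F160412 : act 1 n104717 = n104703 := d15_1 D104717 (iv7 F160410) (iv2 D104718)
theorem F160413 : act 1 n104702 = n104718 := d15_1 D104702 F160410 (iv2 D104703)
def n104719 : Q := act 5 n48419
theorem D104719 : act 5 n48419 = n104719 := rfl
theorem F160414 : act 3 n104719 = n48420 := d6_1 D104719 (iv5 D48420) D48419
theorem F160415 : act 7 n104719 = n104704 := d13_2 (iv7 F76134) D104719 (iv5 D104704)
def n104720 : Q := act 6 n48420
theorem D104720 : act 6 n48420 = n104720 := rfl
theorem F160416 : act 2 n104720 = n103913 := d3_1 D104720 F159345 (iv2 F76135)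
theorem F160417 : act 5 n104720 = n103631 := d12_1 D104720 (iv6 D103631) (iv5 D47996) (iv6 F63324) D48420
def n104721 : Q := act 2 n48421
theorem D104721 : act 2 n48421 = n104721 := rfl
theorem F160418 : act 3 n104721 = n104703 := d0_2 D48421 D104721 (iv2 D104703) (iv3 D48410) F63335
theorem F160419 : act 7 n104721 = n100799 := d4_2 (iv7 F76139) D104721 F154897
theorem F160420 : act 1 n104721 = n103907 := d15_0 (iv0 D103907) (iv7 F76139) D104721
theorem F160421 : act 1 n96382 = n104721 := d15_0 F160420 F159340 (iv2 F148341)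
def n104722 : Q := act 5 n48421
theorem D104722 : act 5 n48421 = n104722 := rfl
theorem F160422 : act 3 n104722 = n48422 := d6_1 D104722 (iv5 D48422) D48421
theorem F160423 : act 7 n104722 = n103908 := d13_2 (iv7 F76139) D104722 (iv5 D103908)
def n104723 : Q := act 6 n48421
theorem D104723 : act 6 n48421 = n104723 := rfl
theorem F160424 : act 3 n104723 = n48423 := d7_1 D104723 (iv6 D48423) D48421
theorem F160426 : act 0 n96092 = n104723 := d20_4 (iv4 F65622) (iv1 F66289) (iv4 F70425) D96092 F160424 F76145 (iv1 F63321) (iv4 F75514) F75516 (iv1 F66286)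
def n104724 : Q := act 6 n48422
theorem D104724 : act 6 n48422 = n104724 := rfl
theorem F160427 : act 2 n104724 = n104705 := d3_1 D104724 (iv6 D104705) (iv2 F76140)
def n104726 : Q := act 5 n48425
theorem D104726 : act 5 n48425 = n104726 := rfl
theorem F160430 : act 0 n104726 = n95385 := d17_2 (iv1 F76258) D104726 (iv5 D95385) (iv4 F125255) (iv5 F137054) (iv0 F159894) (iv5 D104274) (iv0 D48253) D48254
theorem F160431 : act 1 n104726 = n95382 := d17_6 D21193 (iv5 F64747) (iv1 F64748) (iv5 F66775) D48425 D104726 (iv5 D95382) (iv0 D44551) (iv4 D21195)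
def n104728 : Q := act 5 n48426
theorem D104728 : act 5 n48426 = n104728 := rfl
theorem F160432 : act 0 n104728 = n95379 := d17_2 D48426 D104728 (iv5 D95379) (iv4 D44549) (iv5 F64747) F64749 F63236 (iv0 F66778) D23578
def n104730 : Q := act 5 n48427
theorem D104730 : act 5 n48427 = n104730 := rfl
theorem F160436 : act 1 n104730 = n95379 := d17_6 D81425 (iv5 F144880) F144883 F137926 F76159 D104730 (iv5 D95379) F76321 F76320
def n104736 : Q := act 0 n48429
theorem D104736 : act 0 n48429 = n104736 := rfl
theorem F160442 : act 5 n104736 = n48487 := d17_3 (iv1 D48427) D48429 D104736 (iv4 F125260) F125261 F58146 D42263 F125241 F76159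
theorem F160443 : act 1 n96409 = n104736 := d15_0 (iv0 D104736) (iv7 F76273) (iv2 F148412)
theorem F160444 : act 4 n103685 = n104736 := d16_2 D48022 D103685 F160442 (iv4 F125260) F125261 F58142 (iv5 F75097) (iv7 D47799) (iv2 F36278)
def n104737 : Q := act 4 n48429
theorem D104737 : act 4 n48429 = n104737 := rfl
theorem F160445 : act 5 n104737 = n96406 := d9_2 D48429 D104737 (iv4 D96406) (iv5 D45013) (iv4 D21497) D21498 D45015 D96409 (iv4 F160354) (iv5 D104642) (iv4 D48389) (iv5 D23528) F17900 D11046 D23578
theorem F160447 : act 1 n104737 = n96424 := d18_6 (iv1 F76258) (iv4 D48425) (iv1 D23577) D23578 D48429 D104737 (iv4 D96424) D96423 F148437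
def n104756 : Q := act 5 n48436
theorem D104756 : act 5 n48436 = n104756 := rfl
theorem F160464 : act 2 n104756 = n95355 := d2_1 D104756 (iv5 D95355) F76168
theorem F160465 : act 7 n104756 = n95463 := d13_2 (iv7 F76170) D104756 (iv5 D95463)
theorem F160466 : act 1 n104756 = n97477 := d15_0 (iv0 F150262) F148340 (iv2 F160464)
def n104757 : Q := act 5 n48437
theorem D104757 : act 5 n48437 = n104757 := rfl
theorem F160467 : act 2 n104757 = n48438 := d2_1 D104757 (iv5 D48438) D48437
theorem F160468 : act 3 n104757 = n104588 := d6_1 D104757 (iv5 D104588) (iv3 F76172)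
theorem F160469 : act 7 n104757 = n95454 := d13_2 (iv7 F76173) D104757 (iv5 D95454)
theorem F160470 : act 0 n95465 = n104757 := d21_1 F150258 (iv5 D104757) (iv6 F148086) (iv1 D96276) (iv6 F147716) (iv5 F150253) (iv1 D97473) (iv5 D45520) D45521 D97476
theorem F160471 : act 1 n95363 = n104757 := d15_1 (iv0 F146996) F160469 F147097
theorem F160472 : act 1 n96392 = n95454 := d15_1 (iv0 F148373) (iv7 F160469) F160467
theorem E15784 : n102335 = n102296 := ((c17_2 (iv1 F151023) D102296 (iv1 D102335) (iv5 F137043) (iv4 F147768) (iv5 F148367) F160472 (iv5 D95454) F76169 (iv4 F151019))).symm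
theorem F160473 : act 0 n102296 = n47489 := (sb E15784 (iv1 D102335))
def n104758 : Q := act 0 n48438
theorem D104758 : act 0 n48438 = n104758 := rfl
theorem F160474 : act 2 n95363 = n104758 := d15_3 (iv0 D104758) (iv0 F148373) F148368
theorem F160475 : act 1 n95454 = n104758 := d15_0 (iv0 D104758) F76177 (iv2 F147097)
theorem F160476 : act 7 n104758 = n95465 := d15_2 F160472 F160475 (iv2 F148369)
theorem F160477 : act 5 n95654 = n104758 := d21_6 (iv5 F70196) F70198 (iv5 D21276) D21277 D44679 D95654 (iv1 F160475) (iv5 D95454) (iv6 D44593) (iv1 F33776)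
def n104759 : Q := act 4 n48438
theorem D104759 : act 4 n48438 = n104759 := rfl
theorem F160478 : act 7 n104759 = n95466 := d11_2 (iv7 F76177) D104759 (iv4 D95466)
def n104760 : Q := act 6 n48438
theorem D104760 : act 6 n48438 = n104760 := rfl
theorem F160479 : act 3 n104760 = n48440 := d7_1 D104760 (iv6 D48440) (iv3 F76176)
def n104761 : Q := act 3 n48439
theorem D104761 : act 3 n48439 = n104761 := rfl
theorem F160480 : act 5 n104761 = n95631 := d6_2 (iv5 F76180) D104761 (iv3 D95631)
theorem F160481 : act 7 n104761 = n95489 := d8_2 (iv7 F76179) D104761 (iv3 D95489)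
def n104762 : Q := act 6 n48439
theorem D104762 : act 6 n48439 = n104762 := rfl
theorem F160482 : act 2 n104762 = n104594 := d3_1 D104762 (iv6 D104594) (iv2 F76178)
theorem F160483 : act 4 n104762 = n48440 := d10_1 D104762 (iv6 D48440) D48439
def n104763 : Q := act 0 n48440
theorem D104763 : act 0 n48440 = n104763 := rfl
def n104764 : Q := act 1 n48440
theorem D104764 : act 1 n48440 = n104764 := rfl
theorem F160484 : act 1 n104764 = n104597 := d15_1 D104764 (iv7 D104597) (iv2 F76181)
def n104765 : Q := act 7 n48440
theorem D104765 : act 7 n48440 = n104765 := rfl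
theorem F160485 : act 2 n104765 = n104597 := d4_1 D104765 (iv7 D104597) (iv2 F76181)
theorem F160486 : act 6 n104765 = n95480 := d14_1 D104765 (iv7 D95480) F70125 F63151 D48440
theorem F160487 : act 1 n104597 = n104763 := d15_0 (iv0 D104763) D104765 F160485
theorem F160488 : act 1 n104596 = n104765 := d15_1 D104596 (iv7 D104765) F76181
theorem F160489 : act 1 n104765 = n104595 := d15_0 (iv0 D104595) D104597 (iv2 F160485)
def n104766 : Q := act 4 n48441
theorem D104766 : act 4 n48441 = n104766 := rfl
theorem F160490 : act 2 n104766 = n104601 := d1_1 D104766 (iv4 D104601) (iv2 F156236)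
theorem F160491 : act 3 n104766 = n96385 := d5_1 D104766 F148349 (iv3 D47364) D47365 (iv3 F76182)
theorem F160492 : act 7 n104766 = n104598 := d11_2 F156235 D104766 (iv4 D104598)
theorem F160493 : act 0 n96234 = n104766 := d20_10 (iv4 D104766) (iv1 F76183) F70058 (iv3 D44544) F66714 (iv3 F75443) F75444 (iv1 F139159) F139161 D96234
def n104767 : Q := act 5 n48441
theorem D104767 : act 5 n48441 = n104767 := rfl
theorem F160496 : act 7 n104767 = n104599 := d13_2 F156235 D104767 (iv5 D104599)
def n104768 : Q := act 6 n48441
theorem D104768 : act 6 n48441 = n104768 := rfl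
theorem F160497 : act 2 n104768 = n104603 := d3_1 D104768 (iv6 D104603) (iv2 F156236)
theorem F160498 : act 3 n104768 = n101957 := d7_1 D104768 (iv6 D101957) (iv3 F76182)
def n104769 : Q := act 3 n48442
theorem D104769 : act 3 n48442 = n104769 := rfl
theorem F160499 : act 2 n104769 = n101943 := d0_1 D104769 (iv3 D101943) (iv2 F156228) F153590 F156237
theorem F160500 : act 7 n104769 = n102295 := d8_2 (iv7 F156238) D104769 F157115
theorem F160501 : act 4 n104769 = n97977 := d20_6 F15951 D10094 D21185 D44544 (iv1 F76184) D104769 (iv1 D97977) F72142 (iv3 D44537) (iv1 D21180)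
theorem F160502 : act 0 n103113 = n104769 := d20_10 F160501 (iv1 D97977) F72142 (iv3 D44537) (iv1 D21180) (iv3 F33422) F33423 D43416 F135534 D103113
theorem F160503 : act 0 n104769 = n103093 := d20_1 (iv4 F160501) F158386 F135201 F157892 (iv3 D88299) D88300 (iv1 F135214) (iv4 F150999) F150998 (iv1 F151022)
def n104770 : Q := act 4 n48442
theorem D104770 : act 4 n48442 = n104770 := rfl
theorem F160504 : act 2 n104770 = n104598 := d1_1 D104770 (iv4 D104598) F156237
theorem F160505 : act 7 n104770 = n104601 := d11_2 (iv7 F156238) D104770 (iv4 D104601)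
theorem F160506 : act 0 n104770 = n96234 := d20_1 D104770 F148015 (iv3 D95319) (iv1 D44525) F33422 F15951 D10094 D21185 D44544 (iv1 F76184)
theorem F160507 : act 3 n104770 = n96270 := d20_3 F70058 (iv1 F76184) D104770 (iv1 F148067) (iv3 F148088) F148089 (iv1 F73602) D47365 (iv3 F76182) (iv1 F76183)
def n104771 : Q := act 5 n48442
theorem D104771 : act 5 n48442 = n104771 := rfl
theorem F160508 : act 2 n104771 = n104599 := d2_1 D104771 (iv5 D104599) F156237
theorem F160509 : act 7 n104771 = n104602 := d13_2 (iv7 F156238) D104771 (iv5 D104602)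
def n104772 : Q := act 6 n48442
theorem D104772 : act 6 n48442 = n104772 := rfl
theorem F160510 : act 2 n104772 = n104600 := d3_1 D104772 (iv6 D104600) F156237
def n104773 : Q := act 0 n48443
theorem D104773 : act 0 n48443 = n104773 := rfl
theorem F160511 : act 1 n95371 = n104773 := d15_0 (iv0 D104773) F76186 (iv2 F147001)
def n104774 : Q := act 1 n48443
theorem D104774 : act 1 n48443 = n104774 := rfl
theorem F160512 : act 1 n104774 = n95371 := d15_1 D104774 (iv7 F148403) F148401
def n104775 : Q := act 4 n48443
theorem D104775 : act 4 n48443 = n104775 := rfl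
theorem F160513 : act 7 n104775 = n104606 := d11_2 (iv7 F76186) D104775 (iv4 D104606)
def n104776 : Q := act 6 n48443
theorem D104776 : act 6 n48443 = n104776 := rfl
theorem F160514 : act 3 n104776 = n48446 := d7_1 D104776 (iv6 D48446) (iv3 F76185)
def n104777 : Q := act 0 n48444
theorem D104777 : act 0 n48444 = n104777 := rfl
def n104778 : Q := act 1 n48444
theorem D104778 : act 1 n48444 = n104778 := rfl
def n104779 : Q := act 3 n48445
theorem D104779 : act 3 n48445 = n104779 := rfl
theorem F160515 : act 5 n104779 = n104710 := d6_2 (iv5 F76190) D104779 (iv3 D104710)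
theorem F160516 : act 7 n104779 = n104610 := d8_2 (iv7 F76191) D104779 (iv3 D104610)
def n104780 : Q := act 6 n48445
theorem D104780 : act 6 n48445 = n104780 := rfl
theorem F160517 : act 2 n104780 = n48467 := d3_1 D104780 (iv6 D48467) (iv2 F76189)
def n104781 : Q := act 0 n48446
theorem D104781 : act 0 n48446 = n104781 := rfl
def n104782 : Q := act 1 n48446
theorem D104782 : act 1 n48446 = n104782 := rfl
theorem F160519 : act 1 n104782 = n48471 := d15_1 D104782 (iv7 D48471) (iv2 F76194)
theorem F160520 : act 5 n95946 = n104782 := d21_6 (iv5 D21333) (iv1 D10178) D10179 (iv6 F33524) D44781 D95946 (iv1 D104782) (iv5 F147611) (iv6 D95979) (iv1 F70366)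
def n104783 : Q := act 7 n48446
theorem D104783 : act 7 n48446 = n104783 := rfl
theorem F160521 : act 2 n104783 = n48471 := d4_1 D104783 (iv7 D48471) (iv2 F76194)
theorem F160522 : act 6 n104783 = n104614 := d14_1 D104783 (iv7 D104614) (iv6 D48379) (iv7 F36734) D48446
theorem F160523 : act 1 n48471 = n104781 := d15_0 (iv0 D104781) D104783 F160521
theorem F160524 : act 1 n48469 = n104783 := d15_1 D48469 (iv7 D104783) F76194
theorem F160525 : act 1 n104783 = n48468 := d15_0 (iv0 D48468) D48471 (iv2 F160521)
def n104784 : Q := act 2 n48447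
theorem D104784 : act 2 n48447 = n104784 := rfl
theorem F160526 : act 7 n48448 = n104784 := d15_2 (iv0 D48447) D48448 (iv2 D104784)
theorem F160527 : act 3 n104784 = n103092 := d8_1 F160526 (iv7 D103092) F143099
def n104785 : Q := act 3 n48447
theorem D104785 : act 3 n48447 = n104785 := rfl
theorem F160528 : act 2 n104785 = n103093 := d0_1 D104785 (iv3 D103093) (iv2 F158385) (iv3 F160527) (iv2 D104784)
theorem F160529 : act 4 n104785 = n95436 := d5_2 (iv4 F143143) D104785 F153865 D99931 F153863
theorem F160530 : act 0 n104785 = n102295 := d20_10 (iv4 D102295) (iv1 D47472) (iv4 F70771) (iv3 D45002) (iv1 F33790) (iv3 F70046) F70047 (iv1 F143142) (iv4 F143143) D104785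
theorem F160531 : act 0 n101943 = n104785 := d20_4 (iv4 D22755) D22752 D47360 D101943 (iv3 D104785) F143143 (iv1 D92797) (iv4 F70043) (iv3 F70750) F74041
theorem F160532 : act 2 n95436 = n88288 := d1_1 F160529 (iv4 F158386) (iv2 F160528)
theorem F160533 : act 7 n88289 = n95436 := d15_2 (iv0 D88288) D88289 F160532
theorem F160534 : act 7 n95435 = n88288 := d15_2 F147054 F147053 (iv2 F160532)
theorem F160535 : act 2 n88289 = n95435 := d4_3 F160534 (iv2 F160532) (iv7 F160533)
theorem F160536 : act 7 n87679 = n97957 := d8_2 F160534 F135201 F150984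
theorem E15785 : n97960 = n40846 := (c11_3 F160536 (iv4 D97957) D97960 D87679)
theorem E15786 : n87677 = n45725 := (((iv2 F134592)).symm.trans (sb E15785 F150985))
theorem E15787 : n87672 = n45724 := ((F134590).symm.trans (sb E15785 (iv7 D97960)))
theorem F160537 : act 2 n45725 = n40846 := (sb E15786 F134592)
theorem E15788 : n97955 = n40845 := ((F150983).symm.trans (sb E15786 (iv7 D87677)))
theorem F160538 : act 7 n45724 = n40846 := (sb E15787 (iv7 F134590))
theorem F160539 : act 2 n40845 = n45724 := (sb E15788 (iv2 D97955))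
theorem F160540 : act 7 n40845 = n45725 := (sb E15788 (iv7 F150983))
theorem F160541 : act 2 n97957 = n87674 := d15_3 (iv0 F135213) (iv0 F157892) F160536
theorem F160542 : act 2 n87679 = n97961 := d15_3 (iv0 F157026) (iv0 F157377) (iv7 F160536)
theorem E15789 : n99929 = n99922 := ((c0_3 F135201 F160542 F153850 F153862 (iv3 F153865) F160532)).symm
theorem F160543 : act 2 n99922 = n46673 := (sb E15789 F153862)
theorem F160544 : act 7 n99922 = n46672 := (sb E15789 (iv7 D99929))
theorem F160545 : act 7 n97961 = n87674 := d4_2 (iv7 F160536) F160542 (iv2 F160541)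
theorem F160546 : act 7 n99926 = n92780 := d11_2 F160544 D99926 F153849
theorem E15790 : n99925 = n99921 := (c15_4 (iv0 D99921) D99922 F160544 D99925)
theorem F160547 : act 2 n99921 = n46672 := (sb E15790 (iv2 D99925))
theorem F160548 : act 7 n99921 = n46673 := (sb E15790 (iv7 F153859))
theorem F160549 : act 7 n99931 = n92800 := d11_2 F160548 D99931 (iv4 F153846)
theorem E15791 : n92803 = n92797 := (c8_3 F160549 (iv3 D92800) D92803 (iv3 F153863))
theorem F160550 : act 2 n92797 = n43417 := (sb E15791 F143152)
theorem E15792 : n103116 = n48447 := ((((iv4 F143143)).symm.trans (sb E15791 (iv4 F158403)))).symm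
theorem F160551 : act 7 n92797 = n43416 := (sb E15791 (iv7 D92803))
theorem E15793 : n104784 = n47804 := ((D104784).symm.trans (sb E15792 F158402))
theorem F160552 : act 7 n48447 = n47803 := (sb E15792 (iv7 D103116))
theorem F160553 : act 2 n47804 = n48447 := (sb E15793 (iv2 D104784))
theorem E15794 : n103092 = n103085 := (((F158374).symm.trans (sb E15793 F160527))).symm
theorem E15795 : n103112 = n48448 := ((F158398).symm.trans (sb E15793 (iv7 F160526)))
theorem F160554 : act 2 n103085 = n47794 := (sb E15794 F158385)
theorem F160555 : act 7 n103085 = n47793 := (sb E15794 (iv7 D103092))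
theorem F160556 : act 2 n48448 = n47803 := (sb E15795 (iv2 D103112))
theorem E15796 : n92799 = n92776 := ((((iv4 F143096)).symm.trans (sb E15795 F158397))).symm
theorem F160557 : act 7 n48448 = n47804 := (sb E15795 (iv7 F158398))
theorem F160558 : act 2 n92776 = n43416 := (sb E15796 (iv2 D92799))
theorem F160559 : act 7 n92776 = n43417 := (sb E15796 (iv7 F143151))
theorem F160560 : act 2 n92800 = n99926 := d15_3 (iv0 F157380) (iv0 F153864) F160549
theorem F160561 : act 2 n99931 = n92780 := d4_1 (iv7 F160549) (iv7 F160546) (iv2 F160560)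
theorem E15797 : n92779 = n88476 := (c0_4 (iv3 F153863) F160561 (iv3 D92780) (iv2 F143101) F143149 (iv2 F160550))
theorem F160562 : act 2 n88476 = n43406 := (sb E15797 F143101)
theorem F160563 : act 7 n88476 = n43405 := (sb E15797 (iv7 D92779))
theorem E15798 : n92775 = n88477 := (c15_4 (iv0 F135459) F135457 F160563 D92775)
theorem F160564 : act 2 n88477 = n43405 := (sb E15798 (iv2 D92775))
theorem F160565 : act 7 n88477 = n43406 := (sb E15798 (iv7 F143095))
theorem F160566 : act 7 n92781 = n87673 := d11_2 F160565 D92781 F135458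
theorem F160567 : act 2 n87673 = n92777 := d15_3 (iv0 F143100) (iv0 F157375) F160566
theorem F160568 : act 2 n103089 = n97956 := d0_3 D87673 F160567 (iv3 F158382) (iv3 D97956) (iv2 F160539)
theorem E15799 : n103088 = n103084 := ((c1_3 D103089 F160568 (iv4 F158371) (iv2 D103088))).symm
theorem F160569 : act 2 n103084 = n47793 := (sb E15799 (iv2 D103088))
theorem F160570 : act 7 n103084 = n47794 := (sb E15799 (iv7 F158381))
theorem F160571 : act 7 n87678 = n97956 := d15_2 (iv0 F158384) F157170 (iv2 F160568)
theorem F160572 : act 7 n103113 = n104785 := d8_2 F160552 D103113 (iv3 D104785)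
theorem F160573 : act 7 n97962 = n87675 := d13_2 F160540 D97962 (iv5 D87675)
theorem F160574 : act 2 n97958 = n87675 := d2_3 (iv5 D87675) F160539 D97958
theorem F160575 : act 2 n97959 = n87676 := d3_3 (iv6 D87676) F160539 D97959
theorem F160576 : act 7 n87680 = n97958 := d13_2 F160538 D87680 (iv5 D97958)
theorem F160577 : act 2 n97962 = n87680 := d4_3 F160576 F160574 (iv7 F160573)
theorem F160578 : act 1 n102383 = n87680 := d15_1 F157645 F160576 F160574
theorem F160579 : act 1 n97962 = n88207 := d15_0 (iv0 F157660) (iv7 F160576) (iv2 F160577)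
theorem F160580 : act 1 n87680 = n102307 := d15_0 (iv0 F157644) (iv7 F160573) F160577
theorem F160581 : act 2 n87681 = n97963 := d3_3 (iv6 D97963) F160537 D87681
def n104786 : Q := act 5 n48447
theorem D104786 : act 5 n48447 = n104786 := rfl
theorem F160582 : act 2 n104786 = n103117 := d2_1 D104786 (iv5 D103117) F160553
theorem F160583 : act 7 n104786 = n103114 := d13_2 (iv7 F160552) D104786 (iv5 D103114)
def n104787 : Q := act 6 n48447
theorem D104787 : act 6 n48447 = n104787 := rfl
theorem F160584 : act 2 n104787 = n103118 := d3_1 D104787 (iv6 D103118) F160553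
def n104788 : Q := act 5 n48448
theorem D104788 : act 5 n48448 = n104788 := rfl
theorem F160585 : act 2 n104788 = n103114 := d2_1 D104788 (iv5 D103114) (iv2 F160556)
theorem F160586 : act 3 n104788 = n103090 := d6_1 D104788 (iv5 D103090) F143099
theorem F160587 : act 7 n104788 = n103117 := d13_2 (iv7 F160557) D104788 (iv5 D103117)
theorem F160588 : act 0 n104788 = n48460 := d21_1 D104788 F76222 (iv6 D45468) (iv1 F157604) (iv6 D45406) (iv5 F56638) (iv1 F70346) F70345 D47802 (iv1 F76199)
theorem F160589 : act 1 n104786 = n48460 := d15_0 (iv0 F160588) F160587 (iv2 F160582)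
theorem F160590 : act 1 n104657 = n104786 := d15_0 F160589 F76223 D104657
theorem F160591 : act 1 n104788 = n104657 := d15_0 F160590 F160583 (iv2 F160585)
def n104789 : Q := act 6 n48448
theorem D104789 : act 6 n48448 = n104789 := rfl
theorem F160592 : act 2 n104789 = n103115 := d3_1 D104789 (iv6 D103115) (iv2 F160556)
theorem F160593 : act 3 n104789 = n103091 := d7_1 D104789 (iv6 D103091) F143099
theorem F160594 : act 5 n104789 = n97166 := d21_6 (iv5 F56638) (iv1 F70346) F70345 D47802 (iv1 F76199) D104789 (iv1 D97166) (iv5 D45411) (iv6 D21669) D21666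
def n104790 : Q := act 5 n48449
theorem D104790 : act 5 n48449 = n104790 := rfl
theorem F160595 : act 2 n104790 = n48450 := d2_1 D104790 (iv5 D48450) D48449
theorem F160596 : act 3 n104790 = n104623 := d6_1 D104790 (iv5 D104623) (iv3 F76196)
theorem F160597 : act 7 n104790 = n103111 := d13_2 (iv7 F76197) D104790 (iv5 D103111)
theorem F160598 : act 1 n103120 = n104790 := d15_1 D103120 F160597 F158396
theorem F160599 : act 1 n104790 = n103119 := d15_0 (iv0 D103119) (iv7 F76202) (iv2 F160595)
def n104791 : Q := act 0 n48450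
theorem D104791 : act 0 n48450 = n104791 := rfl
theorem F160600 : act 1 n103111 = n104791 := d15_0 (iv0 D104791) F76202 (iv2 F158396)
theorem F160601 : act 5 n95800 = n104791 := d21_6 (iv5 F70327) (iv1 D44736) (iv5 D21309) D21310 D44738 D95800 (iv1 F160600) (iv5 D103111) (iv6 D47802) (iv1 F36264)
def n104792 : Q := act 1 n48450
theorem D104792 : act 1 n48450 = n104792 := rfl
theorem F160602 : act 1 n104792 = n103111 := d15_1 D104792 (iv7 F160597) F160595
def n104793 : Q := act 4 n48450
theorem D104793 : act 4 n48450 = n104793 := rfl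
theorem F160603 : act 7 n104793 = n103121 := d11_2 (iv7 F76202) D104793 (iv4 D103121)
def n104794 : Q := act 6 n48450
theorem D104794 : act 6 n48450 = n104794 := rfl
theorem F160604 : act 3 n104794 = n48452 := d7_1 D104794 (iv6 D48452) (iv3 F76201)
def n104795 : Q := act 3 n48451
theorem D104795 : act 3 n48451 = n104795 := rfl
theorem F160605 : act 5 n104795 = n95778 := d6_2 (iv5 F76205) D104795 (iv3 D95778)
theorem F160606 : act 7 n104795 = n103124 := d8_2 (iv7 F76204) D104795 (iv3 D103124)
def n104796 : Q := act 6 n48451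
theorem D104796 : act 6 n48451 = n104796 := rfl
theorem F160607 : act 2 n104796 = n104629 := d3_1 D104796 (iv6 D104629) (iv2 F76203)
theorem F160608 : act 4 n104796 = n48452 := d10_1 D104796 (iv6 D48452) D48451
def n104797 : Q := act 0 n48452
theorem D104797 : act 0 n48452 = n104797 := rfl
def n104798 : Q := act 1 n48452
theorem D104798 : act 1 n48452 = n104798 := rfl
theorem F160609 : act 1 n104798 = n104632 := d15_1 D104798 (iv7 D104632) (iv2 F76206)
def n104799 : Q := act 7 n48452
theorem D104799 : act 7 n48452 = n104799 := rfl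
theorem F160610 : act 2 n104799 = n104632 := d4_1 D104799 (iv7 D104632) (iv2 F76206)
theorem F160611 : act 6 n104799 = n95872 := d14_1 D104799 (iv7 D95872) F70349 (iv7 F36741) D48452
theorem F160612 : act 1 n104632 = n104797 := d15_0 (iv0 D104797) D104799 F160610
theorem F160613 : act 1 n104631 = n104799 := d15_1 D104631 (iv7 D104799) F76206
theorem F160614 : act 1 n104799 = n104630 := d15_0 (iv0 D104630) D104632 (iv2 F160610)
def n104800 : Q := act 3 n48453
theorem D104800 : act 3 n48453 = n104800 := rfl
theorem F160615 : act 7 n104800 = n104633 := d8_2 (iv7 F76209) D104800 (iv3 D104633)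
def n104801 : Q := act 4 n48453
theorem D104801 : act 4 n48453 = n104801 := rfl
theorem F160616 : act 2 n104801 = n104637 := d1_1 D104801 (iv4 D104637) F76207
theorem F160617 : act 7 n104801 = n104634 := d11_2 (iv7 F76209) D104801 (iv4 D104634)
theorem F160618 : act 0 n104801 = n96383 := d18_2 D48453 D104801 (iv4 D96383) (iv5 D45003) (iv4 F66805) (iv0 D37183) F29057 F66548 D23617
theorem F160619 : act 1 n104801 = n96390 := d18_6 D89869 (iv4 F139140) (iv1 F159893) F159892 F137872 D104801 (iv4 D96390) (iv0 F137958) (iv5 D89871)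
def n104802 : Q := act 0 n48454
theorem D104802 : act 0 n48454 = n104802 := rfl
theorem F160620 : act 4 n104802 = n95351 := d18_3 F70378 D48454 D104802 F146980 (iv4 D89832) F64741 (iv4 F64764) (iv0 F68951) D44803
theorem F160622 : act 1 n95373 = n104802 := d15_0 (iv0 D104802) F76210 (iv2 F147006)
theorem F160623 : act 7 n104802 = n104639 := d15_2 F147773 F160622 (iv2 F160349)
def n104803 : Q := act 3 n48454
theorem D104803 : act 3 n48454 = n104803 := rfl
theorem F160624 : act 4 n104803 = n48465 := d5_2 D48454 D104803 (iv3 D48465) (iv4 D23621) (iv3 F36749)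
theorem F160625 : act 7 n104803 = n104641 := d8_2 (iv7 F76210) D104803 (iv3 D104641)
def n104804 : Q := act 5 n48454
theorem D104804 : act 5 n48454 = n104804 := rfl
theorem F160626 : act 2 n104804 = n104737 := d2_1 D104804 F160445 F148407
theorem F160627 : act 7 n104804 = n104642 := d13_2 (iv7 F76210) D104804 (iv5 D104642)
theorem F160628 : act 4 n104804 = n95376 := d16_2 D48454 D104804 (iv5 D95376) (iv4 D44547) (iv5 D21186) D21185 D44545 (iv7 F70799) F70798
theorem F160629 : act 0 n104804 = n95368 := d17_2 F147772 D104804 (iv5 D95368) (iv4 D44542) (iv5 D21181) D21180 D44538 F70782 D96126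
theorem F160630 : act 1 n104804 = n95393 := d17_6 (iv1 F75459) F75457 (iv1 F66535) D23617 D48454 D104804 (iv5 F148395) F148397 F146998
def n104805 : Q := act 6 n48454
theorem D104805 : act 6 n48454 = n104805 := rfl
theorem F160631 : act 4 n104805 = n48455 := d10_1 D104805 (iv6 D48455) D48454
def n104806 : Q := act 0 n48455
theorem D104806 : act 0 n48455 = n104806 := rfl
def n104807 : Q := act 1 n48455
theorem D104807 : act 1 n48455 = n104807 := rfl
def n104808 : Q := act 5 n48455
theorem D104808 : act 5 n48455 = n104808 := rfl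
def n104809 : Q := act 7 n48455
theorem D104809 : act 7 n48455 = n104809 := rfl
theorem F160635 : act 3 n104809 = n48471 := d8_1 D104809 (iv7 D48471) (iv3 F76211)
theorem F160636 : act 6 n104809 = n104646 := d14_1 D104809 (iv7 D104646) (iv6 D48390) (iv7 F36750) D48455
def n104810 : Q := act 4 n48456
theorem D104810 : act 4 n48456 = n104810 := rfl
theorem F160639 : act 0 n104810 = n96592 := d18_2 (iv1 F76215) D104810 (iv4 D96592) (iv5 D45098) (iv4 D21533) F16280 (iv4 F16479) (iv0 F33140) D44108
theorem F160640 : act 1 n104810 = n96586 := d18_6 F144047 (iv4 D45541) F66738 (iv4 F36752) D48456 D104810 (iv4 D96586) D96585 F148791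
theorem F160641 : act 0 n96077 = n96584 := d20_4 D95533 (iv1 F147692) (iv4 D96078) D96077 F148787 D96586 (iv1 F160640) (iv4 D104810) F76213 (iv1 F70155)
def n104811 : Q := act 2 n48457
theorem D104811 : act 2 n48457 = n104811 := rfl
theorem F160642 : act 3 n104811 = n104657 := d0_2 D48457 D104811 (iv2 D104657) (iv3 D48394) (iv2 F64875)
theorem F160643 : act 7 n104811 = n104647 := d4_2 (iv7 F76217) D104811 (iv2 D104647)
theorem F160644 : act 1 n104811 = n104619 := d15_0 F160315 (iv7 F76217) D104811
theorem F160645 : act 1 n104621 = n104811 := d15_0 F160644 F160308 (iv2 F160312)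
def n104812 : Q := act 4 n48457
theorem D104812 : act 4 n48457 = n104812 := rfl
theorem F160646 : act 7 n104812 = n104648 := d11_2 (iv7 F76217) D104812 (iv4 D104648)
def n104813 : Q := act 6 n48457
theorem D104813 : act 6 n48457 = n104813 := rfl
theorem F160647 : act 3 n104813 = n48459 := d7_1 D104813 (iv6 D48459) D48457
theorem F160648 : act 5 n104813 = n103254 := d12_1 D104813 (iv6 D103254) (iv5 F138087) F138088 F137942
def n104814 : Q := act 3 n48458
theorem D104814 : act 3 n48458 = n104814 := rfl
theorem F160649 : act 7 n104814 = n104650 := d8_2 (iv7 F76219) D104814 (iv3 D104650)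
def n104815 : Q := act 6 n48458
theorem D104815 : act 6 n48458 = n104815 := rfl
theorem F160650 : act 2 n104815 = n104661 := d3_1 D104815 (iv6 D104661) (iv2 F76218)
theorem F160651 : act 4 n104815 = n48459 := d10_1 D104815 (iv6 D48459) D48458
def n104816 : Q := act 0 n48459
theorem D104816 : act 0 n48459 = n104816 := rfl
theorem F160652 : act 6 n104816 = n95867 := d21_5 (iv5 D41982) D41981 F64767 D48459 D104816 (iv5 D95867) (iv1 D44760) D44761 F70349 (iv1 F64768)
def n104817 : Q := act 1 n48459
theorem D104817 : act 1 n48459 = n104817 := rfl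
theorem F160653 : act 1 n104817 = n104664 := d15_1 D104817 (iv7 D104664) (iv2 F76220)
def n104818 : Q := act 7 n48459
theorem D104818 : act 7 n48459 = n104818 := rfl
theorem F160654 : act 2 n104818 = n104664 := d4_1 D104818 (iv7 D104664) (iv2 F76220)
theorem F160655 : act 5 n104818 = n103261 := d13_1 D104818 (iv7 D103261) (iv5 F76221)
theorem F160656 : act 6 n104818 = n104654 := d14_1 D104818 (iv7 D104654) (iv6 D48393) F64873 D48459
theorem F160657 : act 1 n104664 = n104816 := d15_0 (iv0 D104816) D104818 F160654
theorem F160658 : act 1 n104663 = n104818 := d15_1 D104663 (iv7 D104818) F76220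
theorem F160659 : act 1 n104818 = n104662 := d15_0 (iv0 D104662) D104664 (iv2 F160654)
def n104819 : Q := act 2 n48460
theorem D104819 : act 2 n48460 = n104819 := rfl
theorem F160660 : act 3 n104819 = n104647 := d0_2 D48460 D104819 (iv2 D104647) (iv3 D48391) F64871
theorem F160661 : act 5 n104819 = n97352 := d2_2 (iv5 F76222) D104819 F150104
theorem F160662 : act 7 n104819 = n104657 := d4_2 (iv7 F76223) D104819 (iv2 D104657)
theorem F160663 : act 1 n104819 = n104655 := d15_0 (iv0 D104655) (iv7 F76223) D104819
theorem E15800 : n104655 = n103114 := ((c21_1 D103114 (iv1 F160663) F160661 (iv6 D97352) F157607 (iv6 D44732) D44731 F70312 F33522 D23008 D47803)).symm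
theorem F160664 : act 0 n103114 = n104819 := (sb E15800 (iv1 F160663))
theorem F160665 : act 1 n103114 = n48394 := (sb E15800 (iv0 D104655))
theorem E15801 : n104656 = n103117 := (c15_2 F160665 D104656 (iv7 F160587) F160585)
theorem F160666 : act 0 n103117 = n48394 := (sb E15801 (iv1 D104656))
theorem F160667 : act 1 n103117 = n104819 := d15_1 (iv0 F160666) F160662 (iv2 D104657)
def n104820 : Q := act 4 n48460
theorem D104820 : act 4 n48460 = n104820 := rfl
theorem F160668 : act 7 n104820 = n104658 := d11_2 (iv7 F76223) D104820 (iv4 D104658)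
def n104821 : Q := act 6 n48460
theorem D104821 : act 6 n48460 = n104821 := rfl
theorem F160669 : act 3 n104821 = n48462 := d7_1 D104821 (iv6 D48462) D48460
theorem F160670 : act 5 n104821 = n97356 := d12_1 D104821 (iv6 D97356) (iv5 D45467) D45468 (iv5 F76222)
def n104822 : Q := act 3 n48461
theorem D104822 : act 3 n48461 = n104822 := rfl
theorem F160671 : act 7 n104822 = n104660 := d8_2 (iv7 F76225) D104822 (iv3 D104660)
def n104823 : Q := act 6 n48461
theorem D104823 : act 6 n48461 = n104823 := rfl
theorem F160672 : act 2 n104823 = n104651 := d3_1 D104823 (iv6 D104651) (iv2 F76224)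
theorem F160673 : act 4 n104823 = n48462 := d10_1 D104823 (iv6 D48462) D48461
def n104824 : Q := act 0 n48462
theorem D104824 : act 0 n48462 = n104824 := rfl
def n104825 : Q := act 1 n48462
theorem D104825 : act 1 n48462 = n104825 := rfl
theorem F160674 : act 1 n104825 = n104654 := d15_1 D104825 (iv7 D104654) (iv2 F76226)
def n104826 : Q := act 7 n48462
theorem D104826 : act 7 n48462 = n104826 := rfl
theorem F160675 : act 2 n104826 = n104654 := d4_1 D104826 (iv7 D104654) (iv2 F76226)
theorem F160676 : act 5 n104826 = n97364 := d13_1 D104826 (iv7 D97364) (iv5 F76227)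
theorem F160677 : act 6 n104826 = n104664 := d14_1 D104826 (iv7 D104664) (iv6 D48396) (iv7 F64876) D48462
theorem F160678 : act 1 n104654 = n104824 := d15_0 (iv0 D104824) D104826 F160675
theorem F160679 : act 1 n104653 = n104826 := d15_1 D104653 (iv7 D104826) F76226
theorem F160680 : act 1 n104826 = n104652 := d15_0 (iv0 D104652) D104654 (iv2 F160675)
def n104827 : Q := act 3 n48463
theorem D104827 : act 3 n48463 = n104827 := rfl
theorem F160681 : act 7 n104827 = n104665 := d8_2 (iv7 F135299) D104827 (iv3 D104665)
def n104828 : Q := act 6 n48463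
theorem D104828 : act 6 n48463 = n104828 := rfl
theorem F160682 : act 2 n104828 = n104668 := d3_1 D104828 (iv6 D104668) F135298
def n104829 : Q := act 3 n48464
theorem D104829 : act 3 n48464 = n104829 := rfl
theorem F160683 : act 7 n104829 = n104667 := d8_2 F135296 D104829 (iv3 D104667)
def n104830 : Q := act 6 n48464
theorem D104830 : act 6 n48464 = n104830 := rfl
theorem F160684 : act 2 n104830 = n104666 := d3_1 D104830 (iv6 D104666) (iv2 F135297)
theorem F160685 : act 4 n104830 = n97482 := d10_1 D104830 F150264 (iv4 F76230)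
def n104831 : Q := act 0 n48465
theorem D104831 : act 0 n48465 = n104831 := rfl
theorem F160686 : act 1 n104671 = n104831 := d15_0 (iv0 D104831) F76231 D104671
def n104832 : Q := act 1 n48465
theorem D104832 : act 1 n48465 = n104832 := rfl
def n104833 : Q := act 2 n48465
theorem D104833 : act 2 n48465 = n104833 := rfl
theorem F160687 : act 7 n104833 = n104671 := d4_2 (iv7 F76231) D104833 (iv2 D104671)
theorem F160688 : act 1 n104833 = n104669 := d15_0 (iv0 D104669) (iv7 F76231) D104833
theorem F160689 : act 1 n104832 = n104671 := d15_1 D104832 (iv7 F160687) (iv2 D104833)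
theorem F160690 : act 1 n104670 = n104833 := d15_1 D104670 F160687 (iv2 D104671)
def n104834 : Q := act 5 n48465
theorem D104834 : act 5 n48465 = n104834 := rfl
theorem F160691 : act 3 n104834 = n48466 := d6_1 D104834 (iv5 D48466) D48465
theorem F160692 : act 7 n104834 = n104672 := d13_2 (iv7 F76231) D104834 (iv5 D104672)
def n104835 : Q := act 6 n48465
theorem D104835 : act 6 n48465 = n104835 := rfl
theorem F160693 : act 3 n104835 = n48467 := d7_1 D104835 (iv6 D48467) D48465
def n104836 : Q := act 6 n48466
theorem D104836 : act 6 n48466 = n104836 := rfl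
theorem F160694 : act 2 n104836 = n104711 := d3_1 D104836 (iv6 D104711) (iv2 F76232)
theorem F160695 : act 4 n104836 = n95775 := d10_1 D104836 (iv6 D95775) (iv4 F76233)
def n104837 : Q := act 0 n48467
theorem D104837 : act 0 n48467 = n104837 := rfl
def n104838 : Q := act 1 n48467
theorem D104838 : act 1 n48467 = n104838 := rfl
def n104839 : Q := act 5 n48467
theorem D104839 : act 5 n48467 = n104839 := rfl
def n104840 : Q := act 7 n48467
theorem D104840 : act 7 n48467 = n104840 := rfl
theorem F160696 : act 4 n104840 = n48471 := d11_1 D104840 (iv7 D48471) (iv4 F76236)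
theorem F160697 : act 6 n104840 = n104678 := d14_1 D104840 (iv7 D104678) (iv6 D48401) (iv7 F36756) D48467
def n104841 : Q := act 2 n48468
theorem D104841 : act 2 n48468 = n104841 := rfl
theorem F160698 : act 7 n48469 = n104841 := d15_2 (iv0 D48468) D48469 (iv2 D104841)
def n104842 : Q := act 3 n48468
theorem D104842 : act 3 n48468 = n104842 := rfl
def n104843 : Q := act 4 n48468
theorem D104843 : act 4 n48468 = n104843 := rfl
def n104844 : Q := act 5 n48468
theorem D104844 : act 5 n48468 = n104844 := rfl
def n104845 : Q := act 6 n48468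
theorem D104845 : act 6 n48468 = n104845 := rfl
def n104846 : Q := act 7 n48468
theorem D104846 : act 7 n48468 = n104846 := rfl
theorem F160699 : act 2 n104846 = n48469 := d4_1 D104846 F160698 (iv2 D104841)
def n104847 : Q := act 3 n48469
theorem D104847 : act 3 n48469 = n104847 := rfl
def n104848 : Q := act 4 n48469
theorem D104848 : act 4 n48469 = n104848 := rfl
def n104849 : Q := act 5 n48469
theorem D104849 : act 5 n48469 = n104849 := rfl
theorem F160700 : act 6 n95525 = n104849 := d21_5 (iv5 D44623) (iv1 D21234) D21235 (iv6 F70146) D95525 (iv5 D104849) (iv1 D48469) D48470 F76237 (iv1 F70155)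
def n104850 : Q := act 6 n48469
theorem D104850 : act 6 n48469 = n104850 := rfl
def n104851 : Q := act 0 n48470
theorem D104851 : act 0 n48470 = n104851 := rfl
def n104852 : Q := act 1 n48470
theorem D104852 : act 1 n48470 = n104852 := rfl
def n104853 : Q := act 4 n48470
theorem D104853 : act 4 n48470 = n104853 := rfl
theorem F160701 : act 6 n104853 = n48474 := d10_2 (iv6 F76237) D104853 (iv4 D48474)
def n104854 : Q := act 7 n48470
theorem D104854 : act 7 n48470 = n104854 := rfl
theorem F160702 : act 5 n104854 = n48471 := d13_1 D104854 (iv7 D48471) D48470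
def n104855 : Q := act 0 n48472
theorem D104855 : act 0 n48472 = n104855 := rfl
theorem F160703 : act 1 n103208 = n104855 := d15_0 (iv0 D104855) F76241 (iv2 F158457)
def n104856 : Q := act 1 n48472
theorem D104856 : act 1 n48472 = n104856 := rfl
def n104857 : Q := act 2 n48472
theorem D104857 : act 2 n48472 = n104857 := rfl
theorem F160705 : act 5 n104857 = n96016 := d2_2 (iv5 F76240) D104857 (iv2 D96016)
theorem F160706 : act 7 n104857 = n103208 := d4_2 (iv7 F76241) D104857 F158457
theorem F160707 : act 1 n104857 = n103213 := d15_0 (iv0 D103213) (iv7 F76241) D104857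
theorem F160708 : act 1 n104856 = n103208 := d15_1 D104856 (iv7 F160706) (iv2 D104857)
theorem F160709 : act 1 n103214 = n104857 := d15_1 D103214 F160706 F158457
def n104858 : Q := act 0 n48473
theorem D104858 : act 0 n48473 = n104858 := rfl
def n104859 : Q := act 1 n48473
theorem D104859 : act 1 n48473 = n104859 := rfl
def n104860 : Q := act 2 n48473
theorem D104860 : act 2 n48473 = n104860 := rfl
theorem F160710 : act 3 n104860 = n103208 := d0_2 D48473 D104860 F158457 F75115 F36759
theorem F160711 : act 4 n104860 = n90748 := d1_2 (iv4 F76242) D104860 F139677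
theorem F160712 : act 5 n104860 = n96029 := d2_2 (iv5 F76243) D104860 (iv2 D96029)
theorem F160713 : act 6 n104860 = n90724 := d3_2 (iv6 F76244) D104860 (iv2 D90724)
def n104861 : Q := act 3 n48474
theorem D104861 : act 3 n48474 = n104861 := rfl
def n104864 : Q := act 3 n48477
theorem D104864 : act 3 n48477 = n104864 := rfl
theorem F160720 : act 4 n104864 = n102683 := d5_2 (iv4 F76260) D104864 (iv3 D102683) (iv4 F76264) (iv3 F76262)
def n104865 : Q := act 5 n48477
theorem D104865 : act 5 n48477 = n104865 := rfl
theorem F160724 : act 0 n104865 = n96411 := d17_2 D48477 D104865 (iv5 D96411) (iv4 D45017) (iv5 F63222) D41965 (iv5 F66872) (iv0 D23648) D23650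
theorem F160725 : act 1 n104865 = n48488 := d17_6 D42270 D90408 (iv1 F159893) (iv5 D104274) (iv4 F76260) D104865 (iv5 D48488) (iv0 F61574) F61573
def n104867 : Q := act 5 n48478
theorem D104867 : act 5 n48478 = n104867 := rfl
theorem F160731 : act 0 n104867 = n48488 := d17_2 (iv1 F76266) D104867 (iv5 D48488) (iv4 D23658) (iv5 F31552) F63240 D21379 (iv0 F33569) D44547
def n104872 : Q := act 0 n48480
theorem D104872 : act 0 n48480 = n104872 := rfl
theorem F160742 : act 5 n104872 = n48495 := d17_3 (iv1 D48478) D48480 D104872 F76320 (iv5 D37185) (iv0 F66559) D23408 (iv0 F66638) F76268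
theorem F160743 : act 1 n95376 = n104872 := d15_0 (iv0 D104872) F76273 (iv2 F147009)
theorem F160744 : act 2 n87110 = n104872 := d2_3 F160742 (iv2 F76322) D87110
def n104873 : Q := act 1 n48480
theorem D104873 : act 1 n48480 = n104873 := rfl
theorem F160747 : act 7 n104873 = n87110 := d15_2 (iv0 D104872) D104873 F160744
theorem F160748 : act 5 n104873 = n48496 := d17_7 (iv1 F33805) F33800 F66711 D11075 D23650 D48480 D104873 F76325 (iv4 D44549)
theorem F160750 : act 4 n103103 = n104873 := d16_2 D47798 D103103 F160748 (iv4 F76327) F65281 (iv4 F36280) (iv5 F75457) (iv7 D48023) F36278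
def n104874 : Q := act 4 n48480
theorem D104874 : act 4 n48480 = n104874 := rfl
theorem F160752 : act 5 n104874 = n95373 := d9_2 D48480 D104874 (iv4 D95373) (iv5 D44545) (iv4 D21185) D21186 D44547 D95376 (iv4 F160628) (iv5 D104804) (iv4 D48454) (iv5 D23617) F17933 D11075 D23650
def n104892 : Q := act 4 n48485
theorem D104892 : act 4 n48485 = n104892 := rfl
def n104895 : Q := act 3 n48487
theorem D104895 : act 3 n48487 = n104895 := rfl
def n104896 : Q := act 4 n48488
theorem D104896 : act 4 n48488 = n104896 := rfl
theorem F160763 : act 5 n104896 = n96399 := d16_1 D104896 F148388 (iv5 F75453) F64734 F63222 D45017 D96411 F148418 F147013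
def n104897 : Q := act 6 n48488
theorem D104897 : act 6 n48488 = n104897 := rfl
def n104899 : Q := act 1 n48489
theorem D104899 : act 1 n48489 = n104899 := rfl
theorem F160765 : act 1 n104899 = n103886 := d15_1 D104899 F159312 F147014
def n104902 : Q := act 3 n48491
theorem D104902 : act 3 n48491 = n104902 := rfl
theorem F160770 : act 5 n104902 = n102720 := d6_2 F76422 D104902 F159931
theorem F160773 : act 0 n104902 = n96291 := d21_1 (iv5 F160770) F148137 (iv6 F135834) (iv1 F75174) F73681 (iv5 D45817) (iv1 F72333) F64452 D47645 D102720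
def n104904 : Q := act 4 n48493
theorem D104904 : act 4 n48493 = n104904 := rfl
theorem F160778 : act 6 n104904 = n48587 := d10_2 (iv6 F76317) D104904 (iv4 D48587)
theorem F160780 : act 0 n104904 = n100617 := d18_2 (iv1 F138672) D104904 F154686 (iv5 D90999) (iv4 F138472) (iv0 D43184) F32335 D20370 D43193
def n104905 : Q := act 3 n48495
theorem D104905 : act 3 n48495 = n104905 := rfl
theorem F160782 : act 4 n104905 = n88690 := d5_2 (iv4 F76320) D104905 F136032 F63857 F58682
theorem F160783 : act 6 n104905 = n48545 := d7_2 F76323 D104905 (iv3 D48545)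
theorem F160784 : act 7 n104905 = n104895 := d8_2 F76324 D104905 (iv3 D104895)
def n104906 : Q := act 3 n48496
theorem D104906 : act 3 n48496 = n104906 := rfl
theorem F160786 : act 7 n104906 = n87108 := d8_2 (iv7 F76326) D104906 F133710
def n104907 : Q := act 4 n48497
theorem D104907 : act 4 n48497 = n104907 := rfl
theorem F160787 : act 7 n104907 = n104896 := d11_2 (iv7 F76329) D104907 (iv4 D104896)
theorem F160788 : act 5 n104907 = n95366 := d16_1 D104907 F146998 (iv5 F137876) F137875 F64747 D44549 D95379 (iv7 F148418) F148417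
def n104912 : Q := act 4 n48498
theorem D104912 : act 4 n48498 = n104912 := rfl
theorem F160793 : act 7 n104912 = n48505 := d11_2 F76330 D104912 (iv4 D48505)
def n104942 : Q := act 3 n48505
theorem D104942 : act 3 n48505 = n104942 := rfl
def n104965 : Q := act 0 n48512
theorem D104965 : act 0 n48512 = n104965 := rfl
theorem F160839 : act 1 n86139 = n104965 := d15_0 (iv0 D104965) F76344 D86139
def n104966 : Q := act 1 n48512
theorem D104966 : act 1 n48512 = n104966 := rfl
theorem F160840 : act 4 n56261 = n104966 := d20_6 (iv4 D12898) F9498 D6165 D12985 D27108 D56261 (iv1 D104966) F76343 (iv3 D27911) F22113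
theorem F160841 : act 0 n86139 = n104966 := d20_1 (iv4 F132098) (iv4 F160840) (iv3 D56261) (iv1 F88482) F88479 D78695 (iv1 F119843) D79686 (iv3 F122368) (iv1 F92765)
def n104967 : Q := act 2 n48512
theorem D104967 : act 2 n48512 = n104967 := rfl
theorem F160842 : act 4 n104967 = n58707 := d1_2 (iv4 F76343) D104967 (iv2 D58707)
theorem F160843 : act 7 n104967 = n86139 := d4_2 (iv7 F76344) D104967 (iv2 D86139)
theorem F160844 : act 1 n104967 = n86137 := d15_0 (iv0 D86137) (iv7 F76344) D104967
theorem F160845 : act 1 n86138 = n104967 := d15_1 D86138 F160843 (iv2 D86139)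
def n104968 : Q := act 5 n48512
theorem D104968 : act 5 n48512 = n104968 := rfl
theorem F160846 : act 3 n104968 = n48513 := d6_1 D104968 (iv5 D48513) D48512
theorem F160847 : act 7 n104968 = n86140 := d13_2 (iv7 F76344) D104968 (iv5 D86140)
def n104969 : Q := act 6 n48512
theorem D104969 : act 6 n48512 = n104969 := rfl
theorem F160848 : act 3 n104969 = n48514 := d7_1 D104969 (iv6 D48514) D48512
theorem F160849 : act 4 n104969 = n58708 := d10_1 D104969 (iv6 D58708) (iv4 F76343)
def n104970 : Q := act 6 n48513
theorem D104970 : act 6 n48513 = n104970 := rfl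
theorem F160850 : act 2 n104970 = n87245 := d3_1 D104970 (iv6 D87245) (iv2 F76345)
theorem F160851 : act 4 n104970 = n87184 := d10_1 D104970 (iv6 D87184) (iv4 F76347)
def n104971 : Q := act 0 n48514
theorem D104971 : act 0 n48514 = n104971 := rfl
def n104972 : Q := act 1 n48514
theorem D104972 : act 1 n48514 = n104972 := rfl
theorem F160852 : act 4 n95274 = n104972 := d20_6 F88490 (iv1 F88502) F56507 (iv3 F56938) (iv1 F121661) (iv3 F146901) (iv1 D104972) F76350 F36810 F44641
def n104973 : Q := act 5 n48514
theorem D104973 : act 5 n48514 = n104973 := rfl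
def n104974 : Q := act 7 n48514
theorem D104974 : act 7 n48514 = n104974 := rfl
theorem F160854 : act 4 n104974 = n48517 := d11_1 D104974 (iv7 D48517) (iv4 F76350)
theorem F160855 : act 6 n104974 = n58190 := d14_1 D104974 (iv7 D58190) F44729 (iv7 F36809) D48514
def n104975 : Q := act 3 n48515
theorem D104975 : act 3 n48515 = n104975 := rfl
theorem F160856 : act 6 n104975 = n77750 := d7_2 (iv6 F76351) D104975 F117127
theorem F160857 : act 0 n79579 = n104975 := d21_4 (iv5 D17505) D17503 D36241 D79579 F160856 (iv5 D77750) F118584 D38127 F58949 F54669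
def n104976 : Q := act 4 n48515
theorem D104976 : act 4 n48515 = n104976 := rfl
theorem F160859 : act 6 n104976 = n84362 := d10_2 (iv6 F76351) D104976 (iv4 D84362)
def n104977 : Q := act 5 n48515
theorem D104977 : act 5 n48515 = n104977 := rfl
theorem F160860 : act 2 n104977 = n84511 := d2_1 D104977 (iv5 D84511) F117031
theorem F160861 : act 6 n104977 = n76159 := d12_2 (iv6 F76351) D104977 (iv5 F116927) (iv6 D38902) D38901
theorem F160862 : act 7 n104977 = n58181 := d13_2 F148459 D104977 F148460
theorem F160863 : act 0 n104977 = n81481 := d21_1 D104977 (iv5 F125551) (iv6 D81645) (iv1 D37316) (iv6 F30174) (iv5 D18905) F13814 D11084 D23670 D48515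
theorem F160864 : act 0 n78821 = n104977 := d21_10 (iv5 D104977) (iv1 F148468) F148465 (iv6 D84372) (iv1 F59948) D38993 D84529 F129700 (iv5 D78820) D78821
def n104978 : Q := act 4 n48516
theorem D104978 : act 4 n48516 = n104978 := rfl
theorem F160865 : act 6 n104978 = n86028 := d10_2 F126017 D104978 (iv4 D86028)
def n104979 : Q := act 5 n48516
theorem D104979 : act 5 n48516 = n104979 := rfl
theorem F160868 : act 6 n104979 = n58117 := d12_2 F126017 D104979 F116923 F116920 (iv5 F126016)
theorem F160869 : act 7 n104979 = n84511 := d13_2 (iv7 F117033) D104979 (iv5 D84511)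
theorem F160871 : act 1 n78821 = n104979 := d15_1 (iv0 F160864) F160869 (iv2 F160860)
def n104982 : Q := act 2 n48518
theorem D104982 : act 2 n48518 = n104982 := rfl
theorem F160873 : act 3 n104982 = n87225 := d0_2 D48518 D104982 (iv2 D87225) (iv3 D40519) F36812
theorem F160874 : act 4 n104982 = n102790 := d1_2 (iv4 F76356) D104982 (iv2 D102790)
theorem F160875 : act 7 n104982 = n87215 := d4_2 (iv7 F76357) D104982 (iv2 D87215)
theorem F160878 : act 1 n87214 = n104982 := d15_1 D87214 F160875 (iv2 D87215)
def n104983 : Q := act 6 n48518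
theorem D104983 : act 6 n48518 = n104983 := rfl
theorem F160879 : act 3 n104983 = n48519 := d7_1 D104983 (iv6 D48519) D48518
theorem F160880 : act 4 n104983 = n102792 := d10_1 D104983 (iv6 D102792) (iv4 F76356)
def n104984 : Q := act 5 n48519
theorem D104984 : act 5 n48519 = n104984 := rfl
def n104985 : Q := act 3 n48520
theorem D104985 : act 3 n48520 = n104985 := rfl
theorem F160882 : act 4 n104985 = n86893 := d5_2 (iv4 F141617) D104985 (iv3 F141630) F141627 F141613
theorem F160883 : act 7 n104985 = n87232 := d8_2 (iv7 F141618) D104985 (iv3 D87232)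
def n104995 : Q := act 3 n48524
theorem D104995 : act 3 n48524 = n104995 := rfl
theorem F160898 : act 5 n104995 = n48545 := d6_2 (iv5 F76370) D104995 (iv3 D48545)
theorem F160899 : act 7 n104995 = n87099 := d8_2 (iv7 F76373) D104995 F133703
def n104997 : Q := act 3 n48525
theorem D104997 : act 3 n48525 = n104997 := rfl
theorem F160901 : act 5 n104997 = n81502 := d6_2 (iv5 F76375) D104997 (iv3 D81502)
def n105010 : Q := act 3 n48531
theorem D105010 : act 3 n48531 = n105010 := rfl
theorem F160909 : act 6 n105010 = n103063 := d7_2 (iv6 F76384) D105010 (iv3 D103063)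
def n105022 : Q := act 3 n48539
theorem D105022 : act 3 n48539 = n105022 := rfl
theorem F160933 : act 7 n105022 = n87282 := d8_2 (iv7 F141297) D105022 (iv3 D87282)
theorem F160934 : act 0 n87187 = n105022 := d20_4 F36811 F31912 (iv4 F61619) D87187 (iv3 D105022) (iv4 D48539) (iv1 D23678) (iv4 F36815) (iv3 D23672) D23671
def n105040 : Q := act 0 n48545
theorem D105040 : act 0 n48545 = n105040 := rfl
theorem F160952 : act 1 n87097 = n105040 := d15_0 (iv0 D105040) F76401 D87097
def n105041 : Q := act 1 n48545
theorem D105041 : act 1 n48545 = n105041 := rfl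
def n105042 : Q := act 2 n48545
theorem D105042 : act 2 n48545 = n105042 := rfl
theorem F160953 : act 3 n105042 = n87106 := d0_2 D48545 D105042 (iv2 D87106) (iv3 D40472) F36832
theorem F160954 : act 4 n105042 = n88688 := d1_2 (iv4 F76400) D105042 (iv2 D88688)
theorem F160955 : act 7 n105042 = n87097 := d4_2 (iv7 F76401) D105042 (iv2 D87097)
theorem F160956 : act 1 n105042 = n87095 := d15_0 (iv0 D87095) (iv7 F76401) D105042
theorem F160957 : act 1 n105041 = n87097 := d15_1 D105041 (iv7 F160955) (iv2 D105042)
theorem F160958 : act 1 n87096 = n105042 := d15_1 D87096 F160955 (iv2 D87097)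
def n105043 : Q := act 3 n48546
theorem D105043 : act 3 n48546 = n105043 := rfl
theorem F160959 : act 4 n105043 = n89989 := d5_2 F76469 D105043 (iv3 F138231) F135621 F133940
theorem F160960 : act 7 n105043 = n87112 := d8_2 (iv7 F135645) D105043 (iv3 D87112)
def n105048 : Q := act 6 n48548
theorem D105048 : act 6 n48548 = n105048 := rfl
theorem F160969 : act 3 n105048 = n48551 := d7_1 D105048 (iv6 D48551) (iv3 F76407)
def n105051 : Q := act 5 n48549
theorem D105051 : act 5 n48549 = n105051 := rfl
theorem F160970 : act 3 n105051 = n48554 := d6_1 D105051 (iv5 D48554) (iv3 F76409)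
def n105052 : Q := act 3 n48550
theorem D105052 : act 3 n48550 = n105052 := rfl
theorem F160971 : act 5 n105052 = n75163 := d6_2 (iv5 F76413) D105052 (iv3 D75163)
theorem F160972 : act 7 n105052 = n87129 := d8_2 (iv7 F76412) D105052 (iv3 D87129)
def n105053 : Q := act 6 n48550
theorem D105053 : act 6 n48550 = n105053 := rfl
theorem F160973 : act 2 n105053 = n75187 := d3_1 D105053 (iv6 D75187) (iv2 F76411)
theorem F160974 : act 4 n105053 = n48551 := d10_1 D105053 (iv6 D48551) D48550
def n105054 : Q := act 0 n48551
theorem D105054 : act 0 n48551 = n105054 := rfl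
def n105055 : Q := act 1 n48551
theorem D105055 : act 1 n48551 = n105055 := rfl
def n105056 : Q := act 5 n48551
theorem D105056 : act 5 n48551 = n105056 := rfl
theorem F160975 : act 6 n105056 = n48554 := d12_2 D48551 D105056 (iv5 D48554) (iv6 D23685) D23684
def n105057 : Q := act 7 n48551
theorem D105057 : act 7 n48551 = n105057 := rfl
theorem F160976 : act 6 n105057 = n87133 := d14_1 D105057 (iv7 D87133) (iv6 D40482) (iv7 F36837) D48551
def n105065 : Q := act 1 n48554
theorem D105065 : act 1 n48554 = n105065 := rfl
theorem F160984 : act 5 n105065 = n93035 := d17_7 F75400 F75397 (iv1 D23676) (iv5 F17977) (iv4 F36838) D48554 D105065 (iv0 F148494) F147011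
def n105066 : Q := act 4 n48554
theorem D105066 : act 4 n48554 = n105066 := rfl
def n105106 : Q := act 3 n48600
theorem D105106 : act 3 n48600 = n105106 := rfl
def n105107 : Q := act 5 n48600
theorem D105107 : act 5 n48600 = n105107 := rfl
theorem F161037 : act 0 n105107 = n92272 := d17_2 D48600 D105107 (iv5 D92272) (iv4 D43148) (iv5 F137517) F31624 (iv5 F31621) F31623 D23700
theorem F161039 : act 4 n92272 = n102975 := d18_1 F161037 (iv1 D102975) (iv4 D47751) (iv5 D22975) F17636 D11097 D23705 F76463 D105107
def n105109 : Q := act 5 n48601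
theorem D105109 : act 5 n48601 = n105109 := rfl
def n105111 : Q := act 1 n48602
theorem D105111 : act 1 n48602 = n105111 := rfl
theorem F161043 : act 4 n90014 = n105111 := d20_0 (iv1 D105111) (iv4 F138356) (iv3 D90044) (iv1 D42081) (iv3 D19843) (iv4 D9337) D9336 D19840 D42072 D90014
def n105112 : Q := act 2 n48602
theorem D105112 : act 2 n48602 = n105112 := rfl
def n105115 : Q := act 0 n48603
theorem D105115 : act 0 n48603 = n105115 := rfl
theorem F161046 : act 5 n105115 = n87280 := d17_3 (iv1 D48601) D48603 D105115 (iv4 D87280) F133914 (iv0 F137523) F137524 (iv0 F135668) F135670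
theorem F161047 : act 1 n48623 = n105115 := d15_0 (iv0 D105115) (iv7 F138204) F138203
def n105116 : Q := act 1 n48603
theorem D105116 : act 1 n48603 = n105116 := rfl
theorem F161048 : act 1 n105116 = n48623 := d15_1 D105116 (iv7 F138220) F138219
def n105139 : Q := act 3 n48619
theorem D105139 : act 3 n48619 = n105139 := rfl
theorem F161060 : act 4 n105139 = n48622 := d5_2 D48619 D105139 (iv3 D48622) (iv4 D23705) D23704
def n105146 : Q := act 2 n48622
theorem D105146 : act 2 n48622 = n105146 := rfl
def n105147 : Q := act 5 n48622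
theorem D105147 : act 5 n48622 = n105147 := rfl
theorem F161066 : act 3 n105147 = n48623 := d6_1 D105147 (iv5 D48623) D48622
def n105148 : Q := act 6 n48622
theorem D105148 : act 6 n48622 = n105148 := rfl
def n105149 : Q := act 4 n48623
theorem D105149 : act 4 n48623 = n105149 := rfl
theorem F161068 : act 0 n105149 = n92339 := d18_2 (iv1 F161047) D105149 (iv4 D92339) (iv5 D43180) F32332 D20373 D43201 F137554 (iv5 F161046)
theorem F161069 : act 0 n102791 = n105147 := d20_4 (iv4 F59896) (iv1 F112888) F112890 (iv3 F158055) F161066 D105149 F161068 (iv4 D92339) F67632 (iv1 F36025)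
def n105150 : Q := act 6 n48623
theorem D105150 : act 6 n48623 = n105150 := rfl
def n105169 : Q := act 0 n48631
theorem D105169 : act 0 n48631 = n105169 := rfl
theorem F161074 : act 6 n105169 = n48655 := d21_5 (iv5 D14403) D14401 F36865 D48631 D105169 F99166 (iv1 D63801) F48372 (iv6 D24476) F24051
theorem F161075 : act 1 n49506 = n105169 := d15_0 (iv0 D105169) (iv7 F82158) F82157
def n105170 : Q := act 1 n48631
theorem D105170 : act 1 n48631 = n105170 := rfl
theorem F161076 : act 1 n105170 = n49506 := d15_1 D105170 F78257 (iv2 F76475)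
def n105171 : Q := act 0 n48632
theorem D105171 : act 0 n48632 = n105171 := rfl
theorem F161077 : act 5 n105171 = n49339 := d21_0 (iv1 F78052) F78048 F76506 (iv1 F76513) (iv6 F76514) (iv5 F47944) (iv1 D29794) F36856 D48632 D105171
def n105172 : Q := act 1 n48632
theorem D105172 : act 1 n48632 = n105172 := rfl
theorem F161078 : act 1 n105172 = n52261 := d15_1 D105172 (iv7 D52261) (iv2 F76479)
theorem F161079 : act 5 n49340 = n105172 := d21_0 (iv1 D105172) F76482 (iv6 D29793) (iv1 F46716) D61416 F95914 (iv1 F82124) F82121 (iv6 F78049) (iv1 F78051)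
theorem F161080 : act 6 n63797 = n49340 := d21_5 F46713 (iv1 F45211) F45208 D30101 D63797 F161079 (iv1 D105172) F76482 (iv6 D29793) (iv1 F46716)
theorem F161081 : act 6 n105172 = n48651 := d21_3 (iv5 F78048) (iv1 F78051) F161079 (iv1 F76531) (iv6 F76536) (iv5 F77887) (iv1 F77890) (iv5 F79540) (iv6 F79541) (iv1 F76509)
def n105173 : Q := act 7 n48632
theorem D105173 : act 7 n48632 = n105173 := rfl
theorem F161082 : act 2 n105173 = n52261 := d4_1 D105173 (iv7 D52261) (iv2 F76479)
theorem F161083 : act 3 n105173 = n50169 := d8_1 D105173 (iv7 D50169) (iv3 F76480)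
theorem F161084 : act 4 n105173 = n58931 := d11_1 D105173 (iv7 D58931) (iv4 F76481)
theorem F161085 : act 5 n105173 = n62982 := d13_1 D105173 (iv7 D62982) (iv5 F76482)
theorem F161086 : act 6 n105173 = n49506 := d14_1 D105173 F78257 (iv6 D24527) F36859 D48632
theorem F161087 : act 1 n52261 = n105171 := d15_0 (iv0 D105171) D105173 F161082
theorem F161088 : act 1 n52260 = n105173 := d15_1 D52260 (iv7 D105173) F76479
theorem F161089 : act 0 n52259 = n105173 := d21_1 (iv5 F82633) F161085 F98285 (iv1 D49540) F37887 F37521 F19045 F18468 D24091 D49361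
def n105174 : Q := act 0 n48633
theorem D105174 : act 0 n48633 = n105174 := rfl
def n105175 : Q := act 1 n48633
theorem D105175 : act 1 n48633 = n105175 := rfl
def n105176 : Q := act 2 n48633
theorem D105176 : act 2 n48633 = n105176 := rfl
theorem F161090 : act 3 n105176 = n52264 := d0_2 D48633 D105176 (iv2 D52264) (iv3 D25386) (iv2 F36870)
theorem F161091 : act 4 n105176 = n74183 := d1_2 (iv4 F76483) D105176 (iv2 D74183)
theorem F161092 : act 6 n105176 = n48664 := d3_2 (iv6 F76484) D105176 (iv2 D48664)
def n105177 : Q := act 5 n48633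
theorem D105177 : act 5 n48633 = n105177 := rfl
theorem F161093 : act 3 n105177 = n48634 := d6_1 D105177 (iv5 D48634) D48633
def n105178 : Q := act 6 n48634
theorem D105178 : act 6 n48634 = n105178 := rfl
theorem F161094 : act 2 n105178 = n52268 := d3_1 D105178 (iv6 D52268) (iv2 F76485)
theorem F161095 : act 5 n105178 = n48667 := d12_1 D105178 (iv6 D48667) (iv5 D23726) (iv6 F36871) D48634
def n105179 : Q := act 3 n48636
theorem D105179 : act 3 n48636 = n105179 := rfl
theorem F161096 : act 4 n105179 = n48639 := d5_2 D48636 D105179 (iv3 D48639) (iv4 D23715) (iv3 F36877)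
theorem F161097 : act 7 n105179 = n52295 := d8_2 (iv7 F76492) D105179 (iv3 D52295)
def n105180 : Q := act 5 n48636
theorem D105180 : act 5 n48636 = n105180 := rfl
theorem F161098 : act 4 n105180 = n64517 := d9_1 D105180 (iv5 D64517) F48803 (iv5 D24984) (iv4 D11865) D11866 D24987 D51402 (iv4 F100452) (iv5 D64520) F48808 (iv5 D23730) F18015 D23712 D48636
theorem F161099 : act 7 n105180 = n52296 := d13_2 (iv7 F76492) D105180 (iv5 D52296)
theorem F161100 : act 0 n105180 = n51920 := d17_2 (iv1 F76494) D105180 (iv5 D51920) (iv4 D25193) (iv5 D11956) (iv0 D5634) D5637 D11960 D25201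
theorem F161101 : act 1 n105180 = n49886 := d17_6 F23805 (iv5 D12050) (iv1 F22445) D23712 D48636 D105180 (iv5 D49886) (iv0 F39243) (iv4 D25007)
def n105181 : Q := act 6 n48636
theorem D105181 : act 6 n48636 = n105181 := rfl
theorem F161102 : act 4 n105181 = n48637 := d10_1 D105181 (iv6 D48637) D48636
def n105182 : Q := act 0 n48637
theorem D105182 : act 0 n48637 = n105182 := rfl
theorem F161103 : act 6 n105182 = n52227 := d21_5 (iv5 D12050) (iv1 F22445) D23712 D48637 D105182 F99027 (iv1 D63688) F48287 (iv6 D25008) F23805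
def n105183 : Q := act 1 n48637
theorem D105183 : act 1 n48637 = n105183 := rfl
def n105184 : Q := act 7 n48637
theorem D105184 : act 7 n48637 = n105184 := rfl
theorem F161104 : act 3 n105184 = n48643 := d8_1 D105184 (iv7 D48643) (iv3 F76495)
theorem F161105 : act 5 n105184 = n63698 := d13_1 D105184 (iv7 D63698) (iv5 F76496)
theorem F161106 : act 6 n105184 = n52298 := d14_1 D105184 (iv7 D52298) (iv6 D25401) (iv7 F36878) D48637
theorem F161107 : act 5 n50319 = n63459 := d21_0 (iv1 F99046) (iv5 F161105) F161106 (iv1 F82678) (iv6 F81151) (iv5 F45385) F45388 (iv5 F38139) D24541 D50319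
def n105185 : Q := act 0 n48639
theorem D105185 : act 0 n48639 = n105185 := rfl
theorem F161108 : act 1 n52301 = n105185 := d15_0 (iv0 D105185) F76501 D52301
def n105186 : Q := act 1 n48639
theorem D105186 : act 1 n48639 = n105186 := rfl
def n105187 : Q := act 2 n48639
theorem D105187 : act 2 n48639 = n105187 := rfl
theorem F161109 : act 3 n105187 = n52277 := d0_2 D48639 D105187 (iv2 D52277) (iv3 D25393) (iv2 F36892)
theorem F161110 : act 7 n105187 = n52301 := d4_2 (iv7 F76501) D105187 (iv2 D52301)
theorem F161111 : act 1 n105187 = n52299 := d15_0 (iv0 D52299) (iv7 F76501) D105187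
theorem F161112 : act 1 n105186 = n52301 := d15_1 D105186 (iv7 F161110) (iv2 D105187)
theorem F161113 : act 1 n52300 = n105187 := d15_1 D52300 F161110 (iv2 D52301)
def n105188 : Q := act 6 n48639
theorem D105188 : act 6 n48639 = n105188 := rfl
theorem F161114 : act 3 n105188 = n48640 := d7_1 D105188 (iv6 D48640) D48639
def n105189 : Q := act 0 n48640
theorem D105189 : act 0 n48640 = n105189 := rfl
def n105190 : Q := act 1 n48640
theorem D105190 : act 1 n48640 = n105190 := rfl
theorem F161115 : act 1 n105190 = n52284 := d15_1 D105190 (iv7 D52284) (iv2 F76502)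
def n105191 : Q := act 5 n48640
theorem D105191 : act 5 n48640 = n105191 := rfl
theorem F161116 : act 2 n105191 = n52283 := d2_1 D105191 (iv5 D52283) (iv2 F76502)
def n105192 : Q := act 7 n48640
theorem D105192 : act 7 n48640 = n105192 := rfl
theorem F161117 : act 2 n105192 = n52284 := d4_1 D105192 (iv7 D52284) (iv2 F76502)
theorem F161118 : act 4 n105192 = n48643 := d11_1 D105192 (iv7 D48643) (iv4 F76503)
theorem F161119 : act 6 n105192 = n52307 := d14_1 D105192 (iv7 D52307) (iv6 D25404) (iv7 F36893) D48640
theorem F161120 : act 1 n52284 = n105189 := d15_0 (iv0 D105189) D105192 F161117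
theorem F161121 : act 1 n52282 = n105192 := d15_1 D52282 (iv7 D105192) F76502
theorem F161122 : act 1 n105192 = n52281 := d15_0 (iv0 D52281) D52284 (iv2 F161117)
def n105193 : Q := act 2 n48641
theorem D105193 : act 2 n48641 = n105193 := rfl
theorem F161123 : act 7 n48642 = n105193 := d15_2 (iv0 D48641) D48642 (iv2 D105193)
def n105194 : Q := act 3 n48641
theorem D105194 : act 3 n48641 = n105194 := rfl
def n105195 : Q := act 4 n48641
theorem D105195 : act 4 n48641 = n105195 := rfl
def n105196 : Q := act 7 n48641
theorem D105196 : act 7 n48641 = n105196 := rfl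
theorem F161124 : act 2 n105196 = n48642 := d4_1 D105196 F161123 (iv2 D105193)
def n105197 : Q := act 3 n48642
theorem D105197 : act 3 n48642 = n105197 := rfl
def n105198 : Q := act 4 n48642
theorem D105198 : act 4 n48642 = n105198 := rfl
def n105199 : Q := act 6 n48642
theorem D105199 : act 6 n48642 = n105199 := rfl
def n105200 : Q := act 0 n48644
theorem D105200 : act 0 n48644 = n105200 := rfl
theorem F161125 : act 1 n52277 = n105200 := d15_0 (iv0 D105200) F76510 D52277
def n105201 : Q := act 1 n48644
theorem D105201 : act 1 n48644 = n105201 := rfl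
def n105202 : Q := act 2 n48644
theorem D105202 : act 2 n48644 = n105202 := rfl
theorem F161126 : act 3 n105202 = n52301 := d0_2 D48644 D105202 (iv2 D52301) (iv3 D25402) (iv2 F36907)
theorem F161127 : act 7 n105202 = n52277 := d4_2 (iv7 F76510) D105202 (iv2 D52277)
theorem F161128 : act 1 n105202 = n52275 := d15_0 (iv0 D52275) (iv7 F76510) D105202
theorem F161129 : act 1 n105201 = n52277 := d15_1 D105201 (iv7 F161127) (iv2 D105202)
theorem F161130 : act 1 n52276 = n105202 := d15_1 D52276 F161127 (iv2 D52277)
def n105203 : Q := act 6 n48644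
theorem D105203 : act 6 n48644 = n105203 := rfl
theorem F161131 : act 3 n105203 = n48645 := d7_1 D105203 (iv6 D48645) D48644
def n105204 : Q := act 5 n48645
theorem D105204 : act 5 n48645 = n105204 := rfl
theorem F161132 : act 2 n105204 = n52306 := d2_1 D105204 (iv5 D52306) (iv2 F76511)
def n105205 : Q := act 7 n48645
theorem D105205 : act 7 n48645 = n105205 := rfl
theorem F161133 : act 2 n105205 = n52307 := d4_1 D105205 (iv7 D52307) (iv2 F76511)
theorem F161134 : act 4 n105205 = n48648 := d11_1 D105205 (iv7 D48648) (iv4 F76512)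
theorem F161135 : act 6 n105205 = n52284 := d14_1 D105205 (iv7 D52284) (iv6 D25395) (iv7 F36908) D48645
theorem F161136 : act 1 n51968 = n105205 := d15_1 (iv0 F82078) (iv7 D105205) F76511
theorem F161137 : act 1 n105205 = n52305 := d15_1 F161136 (iv7 F82855) F82853
theorem F161138 : act 4 n52050 = n50254 := d20_8 (iv4 F161134) (iv1 F161136) F82077 F39718 F19750 (iv3 F19833) (iv4 F39865) D52050 F81587 (iv1 F76523)
theorem F161139 : act 7 n51010 = n52050 := d11_0 F161138 F81588 F81144
def n105206 : Q := act 5 n48649
theorem D105206 : act 5 n48649 = n105206 := rfl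
theorem F161140 : act 4 n105206 = n74177 := d9_1 D105206 (iv5 D74177) F53376 (iv5 F45578) F45577 (iv5 F23804) D25007 D51450 (iv4 F110925) (iv5 D74174) F53372 (iv5 F37972) (iv4 F39792) F39793 D48649
theorem F161141 : act 7 n105206 = n52335 := d13_2 (iv7 F76524) D105206 (iv5 D52335)
theorem F161142 : act 0 n105206 = n50998 := d17_2 (iv1 F76526) D105206 (iv5 D50998) (iv4 D24806) F22592 (iv0 D11976) (iv5 F9867) (iv0 F22339) D24326
theorem F161143 : act 1 n105206 = n51003 := d17_6 (iv1 F40172) (iv5 F40174) F39797 F39793 D48649 D105206 (iv5 D51003) F80446 F80444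
def n105207 : Q := act 6 n48649
theorem D105207 : act 6 n48649 = n105207 := rfl
theorem F161144 : act 4 n105207 = n48650 := d10_1 D105207 (iv6 D48650) D48649
def n105208 : Q := act 0 n48650
theorem D105208 : act 0 n48650 = n105208 := rfl
theorem F161145 : act 6 n105208 = n50320 := d21_5 (iv5 F40174) F39797 F39793 D48650 D105208 (iv5 F100099) (iv1 D63460) (iv5 F80962) (iv6 D51317) (iv1 F40172)
def n105209 : Q := act 1 n48650
theorem D105209 : act 1 n48650 = n105209 := rfl
def n105210 : Q := act 7 n48650
theorem D105210 : act 7 n48650 = n105210 := rfl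
theorem F161146 : act 3 n105210 = n48653 := d8_1 D105210 (iv7 D48653) (iv3 F76527)
theorem F161147 : act 5 n105210 = n64447 := d13_1 D105210 F100372 F95716
theorem F161148 : act 6 n105210 = n52339 := d14_1 D105210 (iv7 D52339) (iv6 D25416) (iv7 F36910) D48650
def n105211 : Q := act 2 n48651
theorem D105211 : act 2 n48651 = n105211 := rfl
theorem F161149 : act 7 n48652 = n105211 := d15_2 (iv0 D48651) D48652 (iv2 D105211)
def n105212 : Q := act 3 n48651
theorem D105212 : act 3 n48651 = n105212 := rfl
def n105213 : Q := act 4 n48651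
theorem D105213 : act 4 n48651 = n105213 := rfl
theorem F161150 : act 0 n105213 = n52369 := d18_2 D48651 D105213 F82739 (iv5 F78431) D53935 F100368 F100359 (iv0 F48769) F46629
def n105214 : Q := act 5 n48651
theorem D105214 : act 5 n48651 = n105214 := rfl
def n105215 : Q := act 7 n48651
theorem D105215 : act 7 n48651 = n105215 := rfl
theorem F161151 : act 2 n105215 = n48652 := d4_1 D105215 F161149 (iv2 D105211)
def n105216 : Q := act 3 n48652
theorem D105216 : act 3 n48652 = n105216 := rfl
def n105217 : Q := act 4 n48652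
theorem D105217 : act 4 n48652 = n105217 := rfl
theorem F161152 : act 0 n105217 = n48658 := d18_2 (iv1 F76528) D105217 F76542 F41252 D53938 F100370 F100369 F82713 F82712
theorem F161153 : act 1 n105217 = n52369 := d15_1 (iv0 F161152) (iv7 D52369) (iv2 F76541)
def n105218 : Q := act 5 n48652
theorem D105218 : act 5 n48652 = n105218 := rfl
theorem F161154 : act 6 n105218 = n52195 := d21_3 F82712 (iv1 F76528) D105218 (iv1 F82521) (iv6 D31347) (iv5 D14777) F11288 D14395 D30341 (iv1 F82714)
def n105219 : Q := act 6 n48652
theorem D105219 : act 6 n48652 = n105219 := rfl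
theorem F161155 : act 5 n64436 = n105219 := d21_2 (iv5 F48771) D64436 (iv6 D105219) (iv1 D48652) (iv6 D23721) (iv5 F19795) (iv1 F19799) (iv5 F19981) D25391 F45250
def n105220 : Q := act 2 n48654
theorem D105220 : act 2 n48654 = n105220 := rfl
theorem F161156 : act 7 n48655 = n105220 := d15_2 (iv0 D48654) D48655 (iv2 D105220)
def n105221 : Q := act 3 n48654
theorem D105221 : act 3 n48654 = n105221 := rfl
def n105222 : Q := act 4 n48654
theorem D105222 : act 4 n48654 = n105222 := rfl
def n105223 : Q := act 6 n48654
theorem D105223 : act 6 n48654 = n105223 := rfl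
theorem F161157 : act 5 n105223 = n49459 := d21_6 F19981 (iv1 F18536) F18383 D23722 D48654 D105223 (iv1 D49459) F37843 (iv6 D12081) (iv1 F19979)
def n105224 : Q := act 7 n48654
theorem D105224 : act 7 n48654 = n105224 := rfl
theorem F161158 : act 2 n105224 = n48655 := d4_1 D105224 F161156 (iv2 D105220)
def n105225 : Q := act 3 n48655
theorem D105225 : act 3 n48655 = n105225 := rfl
def n105226 : Q := act 4 n48655
theorem D105226 : act 4 n48655 = n105226 := rfl
def n105227 : Q := act 0 n48657
theorem D105227 : act 0 n48657 = n105227 := rfl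
theorem F161159 : act 1 n52372 = n105227 := d15_0 (iv0 D105227) F76540 D52372
def n105228 : Q := act 1 n48657
theorem D105228 : act 1 n48657 = n105228 := rfl
def n105229 : Q := act 2 n48657
theorem D105229 : act 2 n48657 = n105229 := rfl
theorem F161160 : act 3 n105229 = n52362 := d0_2 D48657 D105229 (iv2 D52362) (iv3 D25423) F36914
theorem F161161 : act 7 n105229 = n52372 := d4_2 (iv7 F76540) D105229 (iv2 D52372)
theorem F161162 : act 1 n105229 = n52370 := d15_0 (iv0 D52370) (iv7 F76540) D105229
theorem F161163 : act 1 n105228 = n52372 := d15_1 D105228 (iv7 F161161) (iv2 D105229)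
theorem F161164 : act 1 n52371 = n105229 := d15_1 D52371 F161161 (iv2 D52372)
def n105230 : Q := act 6 n48657
theorem D105230 : act 6 n48657 = n105230 := rfl
theorem F161165 : act 3 n105230 = n48658 := d7_1 D105230 (iv6 D48658) D48657
def n105231 : Q := act 0 n48658
theorem D105231 : act 0 n48658 = n105231 := rfl
def n105232 : Q := act 5 n48658
theorem D105232 : act 5 n48658 = n105232 := rfl
theorem F161166 : act 2 n105232 = n52368 := d2_1 D105232 (iv5 D52368) (iv2 F76541)
def n105233 : Q := act 7 n48658
theorem D105233 : act 7 n48658 = n105233 := rfl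
theorem F161167 : act 2 n105233 = n52369 := d4_1 D105233 (iv7 D52369) (iv2 F76541)
theorem F161168 : act 4 n105233 = n49075 := d11_1 D105233 (iv7 D49075) (iv4 F76542)
theorem F161169 : act 6 n105233 = n52380 := d14_1 D105233 (iv7 D52380) (iv6 D25428) F36915 D48658
theorem E15802 : n105231 = n105213 := ((c15_1 (iv0 F161150) (iv0 D105231) D105233 F161167)).symm
theorem F161170 : act 1 n105213 = n48658 := (sb E15802 (iv0 D105231))
theorem F161171 : act 1 n52367 = n105233 := d15_1 D52367 (iv7 D105233) F76541
theorem F161172 : act 0 n52324 = n105233 := d18_2 D25411 D52324 F161168 F78429 (iv4 F100366) (iv0 D64444) F48774 (iv0 F40194) (iv5 D25413)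
theorem E15803 : n52366 = n52324 := ((c15_1 (iv0 F161172) (iv0 D52366) D52369 (iv2 F161167))).symm
theorem F161173 : act 1 n52324 = n25425 := (sb E15803 (iv0 D52366))
def n105234 : Q := act 0 n48659
theorem D105234 : act 0 n48659 = n105234 := rfl
theorem F161174 : act 1 n52362 = n105234 := d15_0 (iv0 D105234) F76544 D52362
def n105235 : Q := act 1 n48659
theorem D105235 : act 1 n48659 = n105235 := rfl
def n105236 : Q := act 2 n48659
theorem D105236 : act 2 n48659 = n105236 := rfl
theorem F161175 : act 3 n105236 = n52372 := d0_2 D48659 D105236 (iv2 D52372) (iv3 D25426) F36920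
theorem F161176 : act 4 n105236 = n50361 := d1_2 (iv4 F76543) D105236 (iv2 D50361)
theorem F161177 : act 7 n105236 = n52362 := d4_2 (iv7 F76544) D105236 (iv2 D52362)
theorem F161178 : act 1 n105236 = n52360 := d15_0 (iv0 D52360) (iv7 F76544) D105236
theorem F161179 : act 1 n105235 = n52362 := d15_1 D105235 (iv7 F161177) (iv2 D105236)
theorem F161180 : act 1 n52361 = n105236 := d15_1 D52361 F161177 (iv2 D52362)
def n105237 : Q := act 5 n48659
theorem D105237 : act 5 n48659 = n105237 := rfl
theorem F161181 : act 3 n105237 = n48660 := d6_1 D105237 (iv5 D48660) D48659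
theorem F161182 : act 7 n105237 = n52363 := d13_2 (iv7 F76544) D105237 (iv5 D52363)
def n105238 : Q := act 6 n48659
theorem D105238 : act 6 n48659 = n105238 := rfl
theorem F161183 : act 3 n105238 = n48661 := d7_1 D105238 (iv6 D48661) D48659
theorem F161184 : act 4 n105238 = n50363 := d10_1 D105238 (iv6 D50363) (iv4 F76543)
def n105239 : Q := act 6 n48660
theorem D105239 : act 6 n48660 = n105239 := rfl
theorem F161185 : act 2 n105239 = n52376 := d3_1 D105239 (iv6 D52376) (iv2 F76545)
theorem F161186 : act 4 n105239 = n48689 := d10_1 D105239 (iv6 D48689) (iv4 F76546)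
def n105240 : Q := act 0 n48661
theorem D105240 : act 0 n48661 = n105240 := rfl
def n105241 : Q := act 1 n48661
theorem D105241 : act 1 n48661 = n105241 := rfl
theorem F161187 : act 1 n105241 = n52380 := d15_1 D105241 (iv7 D52380) (iv2 F76548)
def n105242 : Q := act 5 n48661
theorem D105242 : act 5 n48661 = n105242 := rfl
theorem F161188 : act 2 n105242 = n52379 := d2_1 D105242 (iv5 D52379) (iv2 F76548)
def n105243 : Q := act 7 n48661
theorem D105243 : act 7 n48661 = n105243 := rfl
theorem F161189 : act 2 n105243 = n52380 := d4_1 D105243 (iv7 D52380) (iv2 F76548)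
theorem F161190 : act 4 n105243 = n49079 := d11_1 D105243 (iv7 D49079) (iv4 F76549)
theorem F161191 : act 6 n105243 = n52369 := d14_1 D105243 (iv7 D52369) (iv6 D25425) (iv7 F36918) D48661
theorem F161192 : act 1 n52380 = n105240 := d15_0 (iv0 D105240) D105243 F161189
theorem F161193 : act 1 n52378 = n105243 := d15_1 D52378 (iv7 D105243) F76548
theorem F161194 : act 4 n52378 = n51786 := d20_2 (iv4 F161190) (iv1 F161193) (iv3 D51786) (iv1 D25143) F19697 (iv4 F19701) D25149 F79883 F100174 (iv1 F77464)
theorem F161195 : act 1 n105243 = n52377 := d15_0 (iv0 D52377) D52380 (iv2 F161189)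
def n105244 : Q := act 0 n48662
theorem D105244 : act 0 n48662 = n105244 := rfl
theorem F161196 : act 2 n48666 = n105244 := d15_3 (iv0 D105244) (iv0 D48662) D48666
theorem F161197 : act 3 n105244 = n52381 := d0_2 (iv3 F76553) F161196 (iv2 F82745) F40208 (iv2 F36924)
theorem F161198 : act 5 n105244 = n52600 := d2_2 (iv5 F76554) F161196 (iv2 D52600)
theorem F161199 : act 7 n105244 = n48664 := d4_2 D48666 F161196 (iv2 D48664)
theorem F161200 : act 1 n48663 = n105244 := d15_1 D48663 F161199 (iv2 D48664)
def n105245 : Q := act 2 n48662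
theorem D105245 : act 2 n48662 = n105245 := rfl
theorem F161201 : act 7 n48663 = n105245 := d15_2 (iv0 D48662) D48663 (iv2 D105245)
def n105246 : Q := act 3 n48662
theorem D105246 : act 3 n48662 = n105246 := rfl
def n105247 : Q := act 4 n48662
theorem D105247 : act 4 n48662 = n105247 := rfl
def n105248 : Q := act 5 n48662
theorem D105248 : act 5 n48662 = n105248 := rfl
def n105249 : Q := act 6 n48662
theorem D105249 : act 6 n48662 = n105249 := rfl
def n105250 : Q := act 7 n48662
theorem D105250 : act 7 n48662 = n105250 := rfl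
theorem F161202 : act 2 n105250 = n48663 := d4_1 D105250 F161201 (iv2 D105245)
def n105251 : Q := act 3 n48663
theorem D105251 : act 3 n48663 = n105251 := rfl
def n105252 : Q := act 4 n48663
theorem D105252 : act 4 n48663 = n105252 := rfl
def n105253 : Q := act 5 n48663
theorem D105253 : act 5 n48663 = n105253 := rfl
def n105254 : Q := act 6 n48663
theorem D105254 : act 6 n48663 = n105254 := rfl
def n105255 : Q := act 0 n48664
theorem D105255 : act 0 n48664 = n105255 := rfl
theorem F161203 : act 1 n48666 = n105255 := d15_0 (iv0 D105255) (iv7 F161199) (iv2 F161196)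
def n105256 : Q := act 1 n48664
theorem D105256 : act 1 n48664 = n105256 := rfl
theorem F161204 : act 1 n105256 = n48666 := d15_1 D105256 (iv7 D48666) D48664
def n105257 : Q := act 5 n48664
theorem D105257 : act 5 n48664 = n105257 := rfl
theorem F161205 : act 2 n105257 = n48665 := d2_1 D105257 (iv5 D48665) D48664
theorem F161206 : act 3 n105257 = n52394 := d6_1 D105257 (iv5 D52394) (iv3 F76550)
theorem F161207 : act 7 n105257 = n52600 := d13_2 F161199 D105257 (iv5 F161198)
theorem F161208 : act 1 n52599 = n105257 := d15_1 D52599 F161207 (iv2 D52600)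
theorem F161209 : act 1 n105257 = n52598 := d15_0 (iv0 D52598) F76552 (iv2 F161205)
def n105258 : Q := act 0 n48665
theorem D105258 : act 0 n48665 = n105258 := rfl
theorem F161210 : act 1 n52600 = n105258 := d15_0 (iv0 D105258) (iv7 F76552) D52600
def n105259 : Q := act 1 n48665
theorem D105259 : act 1 n48665 = n105259 := rfl
theorem F161211 : act 1 n105259 = n52600 := d15_1 D105259 (iv7 F161207) F161205
def n105260 : Q := act 4 n48665
theorem D105260 : act 4 n48665 = n105260 := rfl
theorem F161212 : act 3 n105260 = n52576 := d5_1 D105260 F83088 F40351 (iv4 F36922) (iv3 F76551)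
theorem F161213 : act 7 n105260 = n52573 := d11_2 F76552 D105260 F83086
def n105261 : Q := act 6 n48665
theorem D105261 : act 6 n48665 = n105261 := rfl
theorem F161214 : act 3 n105261 = n48667 := d7_1 D105261 (iv6 D48667) (iv3 F76551)
def n105262 : Q := act 6 n48666
theorem D105262 : act 6 n48666 = n105262 := rfl
theorem F161215 : act 3 n105262 = n48668 := d7_1 D105262 (iv6 D48668) (iv3 F76553)
def n105263 : Q := act 0 n48667
theorem D105263 : act 0 n48667 = n105263 := rfl
def n105264 : Q := act 1 n48667
theorem D105264 : act 1 n48667 = n105264 := rfl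
theorem F161216 : act 1 n105264 = n52406 := d15_1 D105264 (iv7 D52406) (iv2 F76555)
def n105265 : Q := act 7 n48667
theorem D105265 : act 7 n48667 = n105265 := rfl
theorem F161217 : act 2 n105265 = n52406 := d4_1 D105265 (iv7 D52406) (iv2 F76555)
theorem F161218 : act 4 n105265 = n52616 := d11_1 D105265 F83110 (iv4 F76556)
theorem F161219 : act 6 n105265 = n52605 := d14_1 D105265 (iv7 D52605) (iv6 D25529) F36923 D48667
theorem F161220 : act 1 n52406 = n105263 := d15_0 (iv0 D105263) D105265 F161217
theorem F161221 : act 1 n52405 = n105265 := d15_1 D52405 (iv7 D105265) F76555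
theorem F161222 : act 1 n105265 = n52404 := d15_0 (iv0 D52404) D52406 (iv2 F161217)
def n105266 : Q := act 0 n48668
theorem D105266 : act 0 n48668 = n105266 := rfl
theorem F161223 : act 1 n52269 = n105266 := d15_0 (iv0 D105266) (iv7 F93083) F93081
def n105267 : Q := act 1 n48668
theorem D105267 : act 1 n48668 = n105267 := rfl
theorem F161224 : act 1 n105267 = n52269 := d15_1 D105267 F82644 (iv2 F76557)
def n105268 : Q := act 5 n48668
theorem D105268 : act 5 n48668 = n105268 := rfl
theorem F161225 : act 2 n105268 = n52409 := d2_1 D105268 (iv5 D52409) (iv2 F76557)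
theorem F161226 : act 6 n105268 = n52604 := d12_2 D48668 D105268 (iv5 D52604) (iv6 D25529) (iv5 F36926)
def n105269 : Q := act 2 n48669
theorem D105269 : act 2 n48669 = n105269 := rfl
theorem F161227 : act 7 n48670 = n105269 := d15_2 (iv0 D48669) D48670 (iv2 D105269)
def n105270 : Q := act 3 n48669
theorem D105270 : act 3 n48669 = n105270 := rfl
def n105271 : Q := act 4 n48669
theorem D105271 : act 4 n48669 = n105271 := rfl
def n105272 : Q := act 5 n48669
theorem D105272 : act 5 n48669 = n105272 := rfl
theorem F161228 : act 6 n105272 = n64449 := d21_9 F82706 (iv1 D52331) (iv5 D25413) (iv6 D12083) (iv1 F18014) D23728 F36930 D48669 D105272 (iv1 F100379)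
theorem F161229 : act 0 n105199 = n105272 := d21_10 (iv5 D105272) (iv1 F76559) F40155 (iv6 D25389) (iv1 F36855) D48632 F76482 D62980 F98280 D105199
def n105273 : Q := act 6 n48669
theorem D105273 : act 6 n48669 = n105273 := rfl
theorem F161230 : act 5 n105273 = n52205 := d21_6 (iv5 D5718) (iv1 F7547) (iv5 F18011) D23728 D48669 D105273 (iv1 D52205) (iv5 F40161) (iv6 D25391) (iv1 D12073)
def n105274 : Q := act 7 n48669
theorem D105274 : act 7 n48669 = n105274 := rfl
theorem F161231 : act 2 n105274 = n48670 := d4_1 D105274 F161227 (iv2 D105269)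
def n105275 : Q := act 3 n48670
theorem D105275 : act 3 n48670 = n105275 := rfl
def n105276 : Q := act 4 n48670
theorem D105276 : act 4 n48670 = n105276 := rfl
def n105277 : Q := act 5 n48670
theorem D105277 : act 5 n48670 = n105277 := rfl
theorem F161232 : act 6 n105277 = n49509 := d21_3 F40155 (iv1 F76560) D105277 (iv1 F82172) (iv6 F93054) F93057 (iv1 F82543) (iv5 F161230) (iv6 D105273) (iv1 F76559)
def n105278 : Q := act 6 n48670
theorem D105278 : act 6 n48670 = n105278 := rfl
theorem F161233 : act 5 n105278 = n49426 := d21_6 (iv5 D13339) F22457 (iv5 F19978) D25389 (iv1 F76560) D105278 (iv1 D49426) F40187 (iv6 F40186) (iv1 F39304)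
theorem F161234 : act 3 n50406 = n105278 := d6_3 F161233 (iv3 F111772) (iv5 F79766)
theorem F161235 : act 0 n52354 = n105278 := d21_10 F161233 (iv1 D49426) F40187 (iv6 F40186) (iv1 F39304) D27961 (iv5 F78023) F82732 (iv5 D52353) D52354
theorem E15804 : n105275 = n24568 := (c7_4 D50406 F161234 (iv6 D105278) D105275)
theorem E15805 : n50403 = n48670 := ((D50403).symm.trans (sb E15804 (iv3 D105275)))
theorem F161236 : act 3 n48670 = n24568 := (sb E15805 (iv3 D50403))
theorem E15806 : n105276 = n59204 := ((D105276).symm.trans (sb E15805 F93407))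
theorem E15807 : n105269 = n51529 := ((F161227).symm.trans (sb E15805 F102458))
theorem F161237 : act 4 n59204 = n48670 := (sb E15806 (iv4 D105276))
theorem F161238 : act 2 n51529 = n48669 := (sb E15807 (iv2 D105269))
theorem F161239 : act 7 n51529 = n48670 := (sb E15807 (iv7 F161227))
theorem F161240 : act 2 n105270 = n50408 := d0_3 D51529 F161238 D105270 (iv3 D50408) (iv2 F102456)
theorem E15808 : n105271 = n59203 := (c1_3 (iv4 F93166) F161238 D105271 (iv2 F102472))
theorem F161241 : act 4 n59203 = n48669 := (sb E15808 (iv4 D105271))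
theorem F161242 : act 4 n105274 = n58960 := d11_3 (iv7 F102473) F161241 D105274
theorem F161243 : act 0 n59320 = n58979 := d20_7 (iv4 F161237) (iv1 D59204) F45432 F22317 D13437 D28158 D59320 F93187 F81299 (iv1 F76560)
theorem F161245 : act 1 n59320 = n59016 := d15_1 (iv0 F161243) (iv7 F93480) F93478
theorem F161246 : act 0 n105270 = n50244 := d20_10 (iv4 F93223) (iv1 F161245) (iv4 D59320) (iv3 D28158) (iv1 F22357) (iv3 F22317) (iv4 F45432) D59203 F161241 D105270
theorem E15809 : n51909 = n24571 := (c20_5 (iv4 F22255) (iv1 F80378) (iv4 D25188) D25187 D51909 (iv3 F79607) (iv4 F93223) (iv1 F161245) (iv4 D59320) (iv3 D28158) (iv1 F22357))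
theorem E15810 : n50868 = n50414 := (((D50414).symm.trans (sb E15809 (iv1 F81937)))).symm
theorem E15811 : n50415 = n25187 := ((D50415).symm.trans (sb E15809 (iv0 D51909)))
theorem E15812 : n51910 = n24616 := ((((iv1 F79772)).symm.trans (sb E15810 (iv1 F81941)))).symm
theorem F161247 : act 2 n50414 = n24738 := (sb E15810 (iv2 D50868))
theorem F161248 : act 3 n50414 = n51911 := (sb E15810 (iv3 F81938))
theorem F161249 : act 7 n50414 = n51911 := (sb E15810 (iv7 F81939))
theorem F161250 : act 0 n25187 = n24571 := (sb E15811 (iv1 D50415))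
theorem E15813 : n74271 = n51914 := (((D51914).symm.trans (sb E15811 (iv6 F111160)))).symm
theorem F161251 : act 0 n24616 = n25187 := (sb E15812 (iv1 D51910))
theorem F161252 : act 0 n51914 = n65547 := (sb E15813 F111159)
theorem F161253 : act 1 n51914 = n65551 := (sb E15813 (iv0 F111161))
theorem E15814 : n34167 = n34077 := (((iv5 F81948)).symm.trans (sb E15813 (iv5 D74271)))
theorem E15815 : n74504 = n16506 := ((((iv1 D34077)).symm.trans (sb E15814 D74504))).symm
theorem E15817 : n74506 = n74198 := (((F111006).symm.trans (sb E15814 D74506))).symm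
theorem E15818 : n74269 = n16541 := ((D74269).symm.trans (sb E15814 (iv3 D34167)))
theorem E15819 : n74507 = n74270 := (((D74270).symm.trans (sb E15814 D74507))).symm
theorem F161254 : act 5 n34077 = n51914 := (sb E15814 F81948)
theorem E15820 : n74508 = n74272 := (((D74272).symm.trans (sb E15814 D74508))).symm
theorem E15821 : n74197 = n30583 := ((F111003).symm.trans (sb E15814 F53712))
theorem E15822 : n65138 = n34076 := (((D34076).symm.trans (sb E15815 (iv1 F111850)))).symm
theorem E15823 : n65137 = n34039 := ((((iv1 D74198)).symm.trans (sb E15817 (iv1 F111855)))).symm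
theorem E15824 : n65136 = n34078 := (((F111004).symm.trans (sb E15817 F111853))).symm
theorem F161255 : act 3 n74198 = n65146 := (sb E15817 F111851)
theorem F161256 : act 3 n16541 = n34077 := (sb E15818 (iv3 D74269))
theorem F161257 : act 7 n74270 = n65139 := (sb E15819 F111856)
theorem F161258 : act 3 n74272 = n34169 := (sb E15820 F111857)
theorem E15825 : n51648 = n51596 := ((F111164).symm.trans (sb E15820 F111858))
theorem E15826 : n53635 = n53293 := (((F111162).symm.trans (sb E15820 F111859))).symm
theorem E15827 : n53173 = n14711 := (((F48999).symm.trans (sb E15821 F111000))).symm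
theorem F161259 : act 7 n30583 = n34077 := (sb E15821 (iv7 F111003))
theorem F161260 : act 2 n34076 = n30583 := (sb E15822 (iv2 D65138))
theorem E15828 : n74498 = n74266 := (((D74266).symm.trans (sb E15822 (iv3 F111828)))).symm
theorem E15829 : n31121 = n25835 := ((((iv6 F83878)).symm.trans (sb E15822 F100911))).symm
theorem F161261 : act 0 n34039 = n30583 := (sb E15823 (iv1 D65137))
theorem F161262 : act 1 n34078 = n30583 := (sb E15824 (iv0 D65136))
theorem F161263 : act 0 n51596 = n50437 := (sb E15825 (iv1 F81547))
theorem F161264 : act 1 n51596 = n25091 := (sb E15825 (iv0 D51648))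
theorem F161265 : act 2 n51596 = n50435 := (sb E15825 F99918)
theorem F161266 : act 5 n51596 = n74272 := (sb E15825 (iv5 F111164))
theorem E15830 : n50436 = n30931 := (((F81441).symm.trans (sb E15825 F99916))).symm
theorem F161267 : act 3 n53293 = n25967 := (sb E15826 F84623)
theorem E15831 : n25965 = n25834 := ((((iv6 D53293)).symm.trans (sb E15826 (iv6 D53635)))).symm
theorem E15832 : n31119 = n25789 := ((D31119).symm.trans (sb E15827 (iv1 D53173)))
theorem E15833 : n31120 = n25837 := ((D31120).symm.trans (sb E15827 F83978))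
theorem E15834 : n30177 = n25969 := ((((iv5 F41044)).symm.trans (sb E15827 (iv5 F83979)))).symm
theorem F161270 : act 2 n74266 = n34164 := (sb E15828 (iv2 D74498))
theorem E15835 : n53641 = n53295 := (((F111153).symm.trans (sb E15828 F111829))).symm
theorem F161271 : act 7 n74266 = n65146 := (sb E15828 F111830)
theorem F161272 : act 2 n25835 = n14711 := (sb E15829 (iv2 D31121))
theorem E15838 : n66735 = n53296 := (((D53296).symm.trans (sb E15829 D66735))).symm
theorem E15839 : n53295 = n14454 := (((F83877).symm.trans (sb E15829 (tr (iv5 F84634) E15835)))).symm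
theorem E15840 : n53633 = n53172 := ((((iv7 F99898)).symm.trans (sb E15829 (iv7 F84618)))).symm
theorem E15841 : n66171 = n24584 := ((D66171).symm.trans (sb E15830 (iv1 D50436)))
theorem E15842 : n66172 = n51650 := ((D66172).symm.trans (sb E15830 F81548))
theorem E15843 : n66173 = n51649 := ((D66173).symm.trans (sb E15830 F99913))
theorem F161273 : act 5 n30931 = n53293 := (sb E15830 (iv5 F84131))
theorem E15844 : n51597 = n51554 := (((iv6 F81443)).symm.trans (sb E15830 (iv6 F84132)))
theorem E15845 : n53291 = n12315 := ((D53291).symm.trans (sb E15831 (iv3 D25965)))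
theorem E15846 : n53634 = n53292 := (((D53292).symm.trans (sb E15831 D53634))).symm
theorem E15847 : n14706 = n14453 := (((F84129).symm.trans (sb E15831 F41038))).symm
theorem F161274 : act 7 n25834 = n14711 := (sb E15831 F49031)
theorem F161275 : act 1 n25789 = n14711 := (sb E15832 (iv0 D31119))
theorem F161276 : act 0 n25837 = n14711 := (sb E15833 (iv1 D31120))
theorem E15858 : n53639 = n14325 := ((D53639).symm.trans (sb E15834 (iv1 D30177)))
theorem E15859 : n53640 = n14456 := ((D53640).symm.trans (sb E15834 F48543))
theorem E15860 : n53641 = n14454 := (E15835).trans E15839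
theorem E15862 : n64001 = n53642 := (((D53642).symm.trans (sb E15834 D64001))).symm
theorem E15863 : n63899 = n34164 := ((((iv6 F53700)).symm.trans (sb E15834 (iv6 F99377)))).symm
theorem F161277 : act 2 n14454 = n25969 := (sb E15860 (iv2 D53641))
theorem E15866 : n31111 = n30176 := (((F99900).symm.trans (sb E15860 F84635))).symm
theorem F161278 : act 2 n53296 = n31122 := (sb E15838 F102612)
theorem E15867 : n30436 = n25835 := ((D30436).symm.trans (sb E15839 (iv3 D53295)))
theorem E15868 : n74266 = n30237 := ((((iv6 F83879)).symm.trans (sb E15839 (iv6 F111153)))).symm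
theorem E15869 : n63996 = n53172 := ((D63996).symm.trans (iv3 (sb E15840 (tr F84616 E15866))))
theorem F161279 : act 1 n24584 = n30931 := (sb E15841 (iv0 D66171))
theorem F161280 : act 0 n51650 = n30931 := (sb E15842 (iv1 D66172))
theorem F161281 : act 2 n51649 = n30931 := (sb E15843 (iv2 D66173))
theorem F161282 : act 3 n51554 = n25063 := (sb E15844 (iv3 D51597))
theorem E15870 : n31113 = n30434 := ((((iv5 F81352)).symm.trans (sb E15844 F81442))).symm
theorem F161283 : act 6 n51554 = n30931 := (sb E15844 F81443)
theorem E15871 : n30929 = n30369 := ((((iv7 F99891)).symm.trans (sb E15844 F81444))).symm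
theorem F161284 : act 3 n12315 = n25834 := (sb E15845 (iv3 D53291))
theorem E15872 : n30431 = n7017 := (((F26134).symm.trans (sb E15845 F84130))).symm
theorem F161285 : act 7 n53292 = n31122 := (sb E15846 F84622)
theorem E15873 : n31112 = n30432 := (((D30432).symm.trans (sb E15847 D31112))).symm
theorem F161286 : act 7 n14453 = n25969 := (sb E15847 (iv7 F49033))
theorem F161287 : act 1 n14325 = n25969 := (sb E15858 (iv0 D53639))
theorem F161288 : act 0 n14456 = n25969 := (sb E15859 (iv1 D53640))
theorem F161289 : act 2 n53642 = n30437 := (sb E15862 F99909)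
theorem E15874 : n74496 = n30239 := ((D74496).symm.trans (sb E15863 F99378))
theorem E15875 : n74497 = n30139 := ((D74497).symm.trans (sb E15863 (iv0 D63899)))
theorem E15876 : n30587 = n30238 := ((F53701).symm.trans (sb E15863 F99904))
theorem F161290 : act 3 n25835 = n14454 := (sb E15867 (iv3 D30436))
theorem E15893 : n64168 = n34076 := (((F83878).symm.trans (sb E15867 (iv6 F99884)))).symm
theorem F161291 : act 2 n30237 = n34164 := (sb E15868 F161270)
theorem E15896 : n65146 = n63900 := ((((iv7 F99906)).symm.trans (sb E15868 F161271))).symm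
theorem F161292 : act 3 n53172 = n30176 := (sb E15869 (iv3 D63996))
theorem E15899 : n64686 = n14709 := (((iv3 F100568)).symm.trans (sb E15870 F49484))
theorem E15901 : n65148 = n64175 := ((((iv7 F99889)).symm.trans (sb E15870 (iv7 F100921)))).symm
theorem E15905 : n64506 = n14643 := ((D64506).symm.trans (sb E15871 (iv3 D30929)))
theorem E15907 : n64508 = n50870 := ((D64508).symm.trans (sb E15871 F80239))
theorem F161293 : act 3 n7017 = n14453 := (sb E15872 (iv3 D30431))
theorem E15914 : n66712 = n64689 := (((D64689).symm.trans (sb E15873 D66712))).symm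
theorem F161294 : act 7 n30432 = n53642 := (sb E15873 (iv7 F84639))
theorem F161295 : act 1 n30239 = n34164 := (sb E15874 (iv0 D74496))
theorem F161296 : act 0 n30139 = n34164 := (sb E15875 (iv1 D74497))
theorem E15916 : n64172 = n14507 := ((D64172).symm.trans (sb E15876 (iv3 D30587)))
theorem E15917 : n65147 = n64173 := (((D64173).symm.trans (sb E15876 D65147))).symm
theorem E15918 : n64174 = n50871 := ((D64174).symm.trans (sb E15876 F80241))
theorem F161297 : act 7 n30238 = n34164 := (sb E15876 (iv7 F53701))
theorem F161298 : act 3 n34076 = n30237 := (sb E15893 (iv3 D64168))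
theorem F161299 : act 3 n63900 = n74198 := (sb E15896 (iv3 F161255))
theorem F161300 : act 3 n14709 = n30434 := (sb E15899 F100568)
theorem F161301 : act 3 n64175 = n30589 := (sb E15901 F100919)
theorem F161302 : act 3 n14643 = n30369 := (sb E15905 (iv3 D64506))
theorem F161303 : act 1 n50870 = n50467 := (sb E15907 (iv0 F100438))
theorem E15919 : n51543 = n24738 := ((((iv5 D50870)).symm.trans (sb E15907 F100437))).symm
theorem F161304 : act 6 n50870 = n30369 := (sb E15907 (iv6 D64508))
theorem F161305 : act 4 n64689 = n31116 := (sb E15914 F102603)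
theorem F161306 : act 3 n14507 = n30238 := (sb E15916 (iv3 D64172))
theorem F161307 : act 7 n64173 = n74499 := (sb E15917 (iv7 F111835))
theorem F161308 : act 5 n50871 = n30238 := (sb E15918 (iv5 D64174))
theorem E15920 : n50866 = n25040 := ((D50866).symm.trans (sb E15919 (iv1 D51543)))
theorem E15921 : n50867 = n25083 := ((D50867).symm.trans (sb E15919 F81321))
theorem E15922 : n51911 = n51542 := (((D51542).symm.trans (sb E15920 (iv1 F81940)))).symm
theorem F161309 : act 1 n25040 = n24738 := (sb E15920 (iv0 D50866))
theorem F161310 : act 0 n25083 = n24738 := (sb E15921 (iv1 D50867))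
theorem F161311 : act 2 n51542 = n25187 := (sb E15922 (iv2 D51911))
theorem F161312 : act 3 n51542 = n50414 := (sb E15922 (iv3 F161248))
theorem F161313 : act 7 n51542 = n50414 := (sb E15922 (iv7 F161249))
theorem E15923 : n105267 = n58965 := ((c20_1 D58965 (iv1 D105267) F76558 (iv3 F39396) F161310 (iv3 D24738) D24739 (iv1 F80380) F22257 (iv3 F22239) D28023)).symm
theorem F161314 : act 0 n58965 = n48668 := (sb E15923 (iv1 D105267))
theorem F161315 : act 1 n58965 = n52269 := (sb E15923 F161224)
theorem F161316 : act 0 n59252 = n59113 := d20_7 (iv4 F22257) F80379 (iv4 D24739) D24738 (iv1 F161309) (iv3 F79895) (iv4 F93479) (iv4 D59113) (iv3 D28080) (iv1 F22260)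
theorem F161317 : act 3 n105274 = n52248 := d20_9 (iv4 F93479) F161316 (iv4 D59113) (iv3 D28080) (iv1 F22260) (iv3 F22239) (iv4 F45290) D58960 (iv4 F161242) (iv1 F82610)
theorem F161318 : act 1 n52247 = n59113 := d15_0 (iv0 F161316) F93480 F93222
theorem E15924 : n58961 = n52412 := ((c20_1 D52412 (iv1 D58961) F45290 F22239 D13392 D28080 D59113 (iv1 F161318) F82609 F40126 D25438)).symm
theorem F161320 : act 0 n52412 = n28022 := (sb E15924 (iv1 D58961))
theorem F161321 : act 1 n52412 = n49086 := (sb E15924 F93165)
theorem F161322 : act 2 n52412 = n59203 := (sb E15924 F102472)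
theorem E15925 : n51529 = n25438 := ((((iv4 D52412)).symm.trans (sb E15924 (iv4 F93166)))).symm
theorem F161323 : act 7 n52412 = n59204 := (sb E15924 F102470)
theorem E15926 : n52410 = n48669 := ((D52410).symm.trans (sb E15925 F161238))
theorem E15927 : n52411 = n25036 := ((D52411).symm.trans (sb E15925 (iv3 D51529)))
theorem E15928 : n52415 = n48670 := ((D52415).symm.trans (sb E15925 F161239))
theorem F161324 : act 2 n48669 = n25438 := (sb E15926 (iv2 D52410))
theorem E15929 : n105274 = n25439 := ((D105274).symm.trans (sb E15926 (iv7 F82761)))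
theorem F161325 : act 3 n25036 = n25438 := (sb E15927 (iv3 D52411))
theorem F161326 : act 7 n48670 = n25438 := (sb E15928 (iv7 D52415))
theorem F161327 : act 2 n25439 = n48670 := (sb E15929 F161231)
theorem E15930 : n52416 = n52248 := ((D52416).symm.trans (sb E15929 F161317))
theorem E15931 : n58960 = n52417 := (((D52417).symm.trans (sb E15929 F161242))).symm
theorem F161328 : act 7 n25439 = n48669 := (sb E15929 (iv7 D105274))
theorem F161329 : act 3 n52248 = n25439 := (sb E15930 (iv3 D52416))
theorem F161330 : act 0 n52417 = n49086 := (sb E15931 (iv1 F93164))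
theorem F161331 : act 1 n52417 = n28022 := (sb E15931 (iv0 D58960))
theorem F161332 : act 2 n52417 = n59204 := (sb E15931 (iv2 F102471))
theorem F161333 : act 7 n52417 = n59203 := (sb E15931 (iv7 F102473))
theorem E15932 : n59213 = n52408 := (c20_1 D59213 (iv1 D52408) F40215 (iv3 F40126) D52248 F161329 D52417 F161330 F77473 (iv3 F45181) (iv1 F45435))
theorem F161334 : act 4 n52408 = n28118 := (sb E15932 (iv4 D59213))
theorem F161335 : act 2 n51534 = n52248 := d0_5 F161329 F161327 F161236 F102454 D51534
theorem F161336 : act 7 n105270 = n52248 := d8_0 F161329 F161328 D105270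
theorem F161337 : act 1 n51534 = n50244 := d15_0 (iv0 F161246) F161336 (iv2 F161335)
theorem E15933 : n52249 = n50408 := ((c15_4 F82611 F82610 (iv7 F161336) F161240)).symm
theorem F161338 : act 0 n50408 = n25378 := (sb E15933 (iv1 D52249))
theorem F161339 : act 1 n50408 = n50523 := (sb E15933 F82611)
theorem F161340 : act 1 n51538 = n51534 := d15_0 F161337 (iv7 F79897) (iv2 F81298)
theorem F161341 : act 1 n105270 = n51538 := d15_0 F161340 F102481 (iv2 F161240)
theorem E15934 : n105266 = n58970 := ((c20_1 D58970 (iv1 F161223) F82643 (iv3 F81299) (iv1 F161341) (iv3 D105270) (iv4 F161241) (iv1 F93405) F92941 F45181 (iv1 F45292))).symm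
theorem F161342 : act 0 n58970 = n52269 := (sb E15934 (iv1 F161223))
theorem F161343 : act 1 n58970 = n48668 := (sb E15934 (iv0 D105266))
theorem F161344 : act 7 n105272 = n52418 := d13_2 F161328 D105272 (iv5 D52418)
theorem F161345 : act 2 n105277 = n52418 := d2_3 (iv5 D52418) F161327 D105277
theorem F161346 : act 2 n105278 = n52419 := d3_3 (iv6 D52419) F161327 D105278
theorem E15935 : n66004 = n49509 := (c3_4 (iv6 F161232) F161345 F82765 (iv2 F104355))
theorem F161347 : act 2 n49509 = n52011 := (sb E15935 F104355)
theorem F161348 : act 3 n49509 = n30883 := (sb E15935 (iv3 D66004))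
theorem F161349 : act 7 n49509 = n52012 := (sb E15935 (iv7 F104354))
theorem F161350 : act 2 n52012 = n49510 := d15_3 F82171 F82172 F161349
theorem F161351 : act 7 n52011 = n49510 := d4_2 (iv7 F161349) F161347 (iv2 F161350)
theorem F161352 : act 3 n50405 = n105277 := d7_3 F161232 F161348 F79765
theorem F161353 : act 7 n52413 = n105277 := d13_2 F161326 D52413 (iv5 D105277)
theorem F161354 : act 2 n105272 = n52413 := d4_3 F161353 F161345 (iv7 F161344)
theorem F161355 : act 3 n51531 = n52413 := d8_3 F161353 (iv3 F161352) F102460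
theorem F161356 : act 1 n105199 = n105277 := d15_1 (iv0 F161229) (iv7 F161353) (iv2 F161354)
theorem F161357 : act 1 n52293 = n52418 := d15_1 (iv0 F82762) (iv7 F161344) F161354
theorem F161358 : act 3 n52414 = n51532 := d7_3 (iv6 D51532) F161325 D52414
theorem F161359 : act 3 n51269 = n52183 := d6_3 (iv5 F82763) F161358 F81292
theorem F161360 : act 7 n52183 = n65097 := d8_2 (iv7 F102477) F161359 (iv3 D65097)
theorem F161361 : act 2 n65097 = n52182 := d15_3 (iv0 D52182) D52183 F161360
theorem F161362 : act 2 n52414 = n105273 := d3_3 (iv6 D105273) F161324 D52414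
theorem F161363 : act 2 n52205 = n52183 := d2_3 (iv5 F82763) F161362 F161230
theorem F161364 : act 7 n52182 = n52205 := d4_0 F161363 F161360 F161361
theorem E15936 : n65097 = n52204 := ((c15_2 F82543 F82546 (iv7 F161360) (iv2 F161363))).symm
theorem F161365 : act 2 n52204 = n52182 := (sb E15936 F161361)
theorem F161366 : act 3 n52204 = n30569 := (sb E15936 (iv3 D65097))
theorem F161367 : act 7 n52204 = n52183 := (sb E15936 (iv7 F161360))
theorem F161368 : act 2 n74499 = n64200 := d15_3 (iv0 D64200) (iv0 F99887) F161307
theorem E15937 : n64200 = n64169 := (c1_2 D74499 F161368 (iv4 D64169) F161291)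
theorem F161369 : act 1 n64169 = n30248 := (sb E15937 (iv0 D64200))
theorem F161370 : act 2 n64169 = n74499 := (sb E15937 (iv2 F161368))
theorem F161371 : act 3 n51553 = n50435 := d0_2 F161302 (iv2 F99915) (iv2 F161265) (iv3 D51596) F49027
theorem E15938 : n64509 = n51649 := ((c8_3 (iv7 F99914) F161371 F99917 (iv3 D64509))).symm
theorem F161372 : act 3 n51649 = n30370 := (sb E15938 (iv3 D64509))
theorem F161373 : act 3 n64170 = n74268 := d6_3 (iv5 D74268) F161298 D64170
theorem F161374 : act 0 n65140 = n51784 := d21_4 (iv5 F48452) F161296 D74500 F111837 (iv6 D51784) F81336 (iv1 F48413) (iv5 F81333) F81334 (iv1 D50441)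
theorem F161375 : act 0 n74500 = n50691 := d21_1 D74500 F80050 (iv6 F99735) (iv1 D64110) (iv6 D30215) F23961 (iv1 F37837) F37834 D30139 F161296
theorem F161376 : act 1 n65140 = n51720 := d15_1 (iv0 F161374) (iv7 F101282) F101280
theorem F161377 : act 0 n50622 = n74500 := d21_10 (iv5 D74500) (iv1 F161295) F79817 (iv6 F79818) (iv1 F81543) (iv6 F99578) (iv5 F99575) F99576 F48906 D50622
theorem E15939 : n64675 = n51223 := (c20_3 (iv4 F99569) (iv1 F99572) D64675 (iv3 D51223) (iv1 D24915) F19210 F18122 (iv1 F53796) (iv4 D14707) F161293 (iv1 F48548))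
theorem F161378 : act 4 n51223 = n30427 := (sb E15939 (iv4 D64675))
theorem F161379 : act 4 n59660 = n64632 := d20_0 (iv1 D64632) F48848 F24102 D14453 (iv3 F161293) D14707 (iv1 F53799) F41080 (iv3 F45828) (iv1 F94056)
theorem F161380 : act 2 n74500 = n64170 := d2_3 (iv5 D64170) F161291 D74500
theorem F161381 : act 2 n74268 = n65140 := d0_3 (iv3 F111836) F161380 F161373 F100913 (iv2 F53707)
theorem F161382 : act 0 n59671 = n64634 := d20_1 D59671 F100551 F48849 F161288 (iv3 D25969) D25970 F53800 F20459 (iv3 F22663) D28316
theorem E15940 : n59679 = n59588 := ((c20_8 F37147 (iv1 F53801) (iv4 D25970) D25969 (iv1 F161287) (iv3 F48535) F48536 D59588 (iv4 D59679) (iv3 D28320) (iv1 F37152))).symm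
theorem F161383 : act 3 n59588 = n66674 := (sb E15940 (iv3 F102582))
theorem F161384 : act 4 n59588 = n28320 := (sb E15940 (iv4 D59679))
theorem E15941 : n63983 = n49564 := ((c20_10 F48536 D59588 F161384 (iv3 D28320) (iv1 F37152) (iv3 F39063) (iv4 F80807) (iv1 F104357) (iv4 D49565) D49564 (iv1 D63983))).symm
theorem F161385 : act 0 n49564 = n30172 := (sb E15941 (iv1 D63983))
theorem F161386 : act 0 n66174 = n50445 := d18_2 F161280 D66174 (iv4 F101587) F101588 (iv4 F101266) (iv0 F101267) (iv4 D30926) F40805 (iv5 F81545)
theorem F161387 : act 0 n52043 = n68298 := d20_7 (iv4 F80385) (iv1 F80387) (iv4 D30932) D30931 (iv1 F161279) (iv3 F79625) (iv4 F82255) (iv4 D68298) (iv3 D31779) (iv1 F38784)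
theorem F161388 : act 2 n65139 = n74267 := d3_3 F111154 F161278 (iv6 F100912)
theorem E15942 : n74296 = n74267 := ((c15_4 (iv0 D74296) (iv0 F111158) F161257 F161388)).symm
theorem F161389 : act 1 n74267 = n34088 := (sb E15942 (iv0 D74296))
theorem F161390 : act 0 n51586 = n51913 := d21_4 (iv5 F40713) F81417 (iv5 D51585) D51586 (iv6 F81946) F161266 F111163 (iv5 D51714) D51715 F81654
theorem E15943 : n59208 = n52407 := (c20_1 D59208 (iv1 F93085) F93082 F76487 F161251 (iv3 D25187) D25188 F80377 F22255 (iv3 F22317) D28117)
theorem F161391 : act 4 n52407 = n28117 := (sb E15943 (iv4 D59208))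
def n105279 : Q := act 6 n48671
theorem D105279 : act 6 n48671 = n105279 := rfl
theorem F161392 : act 2 n105279 = n48674 := d3_1 D105279 (iv6 D48674) (iv2 F76561)
theorem F161393 : act 3 n105279 = n49374 := d7_1 D105279 (iv6 D49374) (iv3 F76562)
theorem F161394 : act 5 n105279 = n59371 := d12_1 D105279 (iv6 D59371) (iv5 F76569) (iv6 D48672) D48671
def n105280 : Q := act 6 n48673
theorem D105280 : act 6 n48673 = n105280 := rfl
theorem F161395 : act 2 n105280 = n50894 := d3_1 D105280 (iv6 D50894) F76574
theorem F161396 : act 3 n105280 = n50263 := d7_1 D105280 F79643 F76577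
theorem F161397 : act 4 n105280 = n51563 := d10_1 D105280 (iv6 D51563) (iv4 F76573)
theorem F161398 : act 5 n105280 = n50258 := d12_1 D105280 (iv6 D50258) (iv5 D24510) D24511 (iv5 F76572)
def n105281 : Q := act 0 n48674
theorem D105281 : act 0 n48674 = n105281 := rfl
def n105282 : Q := act 1 n48674
theorem D105282 : act 1 n48674 = n105282 := rfl
def n105283 : Q := act 7 n48674
theorem D105283 : act 7 n48674 = n105283 := rfl
theorem F161399 : act 3 n105283 = n48680 := d8_1 D105283 (iv7 D48680) (iv3 F76578)
theorem F161400 : act 5 n105283 = n61930 := d13_1 D105283 (iv7 D61930) (iv5 F76579)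
theorem F161401 : act 6 n105283 = n52473 := d14_1 D105283 (iv7 D52473) (iv6 D25466) (iv7 F36937) D48674
def n105284 : Q := act 0 n48676
theorem D105284 : act 0 n48676 = n105284 := rfl
theorem F161402 : act 1 n52476 = n105284 := d15_0 (iv0 D105284) F76586 D52476
def n105285 : Q := act 1 n48676
theorem D105285 : act 1 n48676 = n105285 := rfl
def n105286 : Q := act 2 n48676
theorem D105286 : act 2 n48676 = n105286 := rfl
theorem F161403 : act 3 n105286 = n52428 := d0_2 D48676 D105286 (iv2 D52428) (iv3 D25446) (iv2 F36942)
theorem F161404 : act 7 n105286 = n52476 := d4_2 (iv7 F76586) D105286 (iv2 D52476)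
theorem F161405 : act 1 n105286 = n52474 := d15_0 (iv0 D52474) (iv7 F76586) D105286
theorem F161406 : act 1 n105285 = n52476 := d15_1 D105285 (iv7 F161404) (iv2 D105286)
theorem F161407 : act 1 n52475 = n105286 := d15_1 D52475 F161404 (iv2 D52476)
def n105287 : Q := act 6 n48676
theorem D105287 : act 6 n48676 = n105287 := rfl
theorem F161408 : act 3 n105287 = n48677 := d7_1 D105287 (iv6 D48677) D48676
def n105288 : Q := act 0 n48677
theorem D105288 : act 0 n48677 = n105288 := rfl
def n105289 : Q := act 1 n48677
theorem D105289 : act 1 n48677 = n105289 := rfl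
theorem F161409 : act 1 n105289 = n52433 := d15_1 D105289 (iv7 D52433) (iv2 F76587)
def n105290 : Q := act 5 n48677
theorem D105290 : act 5 n48677 = n105290 := rfl
theorem F161410 : act 2 n105290 = n52432 := d2_1 D105290 (iv5 D52432) (iv2 F76587)
def n105291 : Q := act 7 n48677
theorem D105291 : act 7 n48677 = n105291 := rfl
theorem F161411 : act 2 n105291 = n52433 := d4_1 D105291 (iv7 D52433) (iv2 F76587)
theorem F161412 : act 4 n105291 = n48680 := d11_1 D105291 (iv7 D48680) (iv4 F76588)
theorem F161413 : act 6 n105291 = n52481 := d14_1 D105291 (iv7 D52481) (iv6 D25468) (iv7 F36943) D48677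
theorem F161414 : act 1 n52433 = n105288 := d15_0 (iv0 D105288) D105291 F161411
theorem F161415 : act 1 n52431 = n105291 := d15_1 D52431 (iv7 D105291) F76587
theorem F161416 : act 1 n105291 = n52430 := d15_0 (iv0 D52430) D52433 (iv2 F161411)
def n105292 : Q := act 2 n48678
theorem D105292 : act 2 n48678 = n105292 := rfl
theorem F161417 : act 5 n105292 = n60546 := d2_2 (iv5 F76589) D105292 F95160
theorem F161418 : act 7 n48679 = n105292 := d15_2 (iv0 D48678) D48679 (iv2 D105292)
def n105294 : Q := act 4 n48678
theorem D105294 : act 4 n48678 = n105294 := rfl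
def n105295 : Q := act 7 n48678
theorem D105295 : act 7 n48678 = n105295 := rfl
theorem F161420 : act 2 n105295 = n48679 := d4_1 D105295 F161418 (iv2 D105292)
theorem F161421 : act 5 n105295 = n60543 := d13_1 D105295 (iv7 F95159) (iv5 F76589)
def n105296 : Q := act 3 n48679
theorem D105296 : act 3 n48679 = n105296 := rfl
def n105297 : Q := act 4 n48679
theorem D105297 : act 4 n48679 = n105297 := rfl
def n105298 : Q := act 6 n48679
theorem D105298 : act 6 n48679 = n105298 := rfl
theorem F161423 : act 0 n105298 = n58971 := d21_10 (iv5 D58971) (iv1 D28024) F22240 (iv6 D13370) (iv1 F22184) D27950 F45172 D28750 F76591 D105298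
theorem F161424 : act 0 n58966 = n105298 := d21_4 (iv5 F80848) (iv1 F104335) (iv5 D68185) (iv6 F93169) (iv6 D105298) (iv5 F76591) F93129 F93125 F78451 (iv1 F78452)
theorem F161425 : act 2 n52442 = n105298 := d15_3 (iv0 F161424) (iv0 F93170) F93007
theorem E15944 : n105295 = n25449 := (c3_4 D52442 F161425 (iv6 D105298) (iv2 F161420))
theorem E15945 : n52438 = n48679 := (((iv2 F82779)).symm.trans (sb E15944 F161420))
theorem E15946 : n60543 = n52441 := (((D52441).symm.trans (sb E15944 F161421))).symm
theorem E15947 : n52434 = n48678 := ((F82776).symm.trans (sb E15944 (iv7 D105295)))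
theorem E15948 : n105292 = n25448 := ((F161418).symm.trans (sb E15945 (iv7 D52438)))
theorem E15949 : n61869 = n49242 := (((F82780).symm.trans (sb E15946 (iv6 F96441)))).symm
theorem F161428 : act 7 n52441 = n28751 := (sb E15946 (iv7 F95159))
theorem E15950 : n58826 = n58768 := ((((iv6 F92888)).symm.trans (sb E15947 (iv6 F93001)))).symm
theorem F161429 : act 7 n48678 = n25449 := (sb E15947 (iv7 F82776))
theorem F161430 : act 2 n25448 = n48678 := (sb E15948 (iv2 D105292))
theorem E15951 : n60546 = n52437 := (((D52437).symm.trans (sb E15948 F161417))).symm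
theorem F161431 : act 7 n25448 = n48679 := (sb E15948 (iv7 F161418))
theorem F161432 : act 2 n49242 = n29314 := (sb E15949 (iv2 D61869))
theorem F161433 : act 7 n49242 = n29315 := (sb E15949 (iv7 F96442))
theorem F161435 : act 7 n58768 = n27971 := (sb E15950 (iv7 F93002))
theorem F161436 : act 2 n52437 = n28751 := (sb E15951 F95160)
theorem F161437 : act 7 n52437 = n28750 := (sb E15951 (iv7 D60546))
theorem E15952 : n58829 = n58769 := (c15_4 F92890 F92895 F161435 (iv2 F93005))
theorem F161439 : act 7 n58769 = n27970 := (sb E15952 (iv7 D58829))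
theorem E15953 : n61872 = n49243 := ((c13_2 F161439 F77782 (iv7 D61872) F92891)).symm
theorem F161440 : act 2 n49243 = n29315 := (sb E15953 F96445)
theorem F161441 : act 7 n49243 = n29314 := (sb E15953 (iv7 D61872))
theorem F161443 : act 7 n105297 = n52436 := d11_2 F161431 D105297 (iv4 D52436)
theorem F161444 : act 2 n105294 = n52436 := d1_3 (iv4 D52436) F161430 D105294
theorem F161446 : act 7 n52440 = n105294 := d11_2 F161429 D52440 (iv4 D105294)
theorem F161447 : act 2 n105297 = n52440 := d4_3 F161446 F161444 (iv7 F161443)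
def n105299 : Q := act 5 n48683
theorem D105299 : act 5 n48683 = n105299 := rfl
theorem F161448 : act 2 n105299 = n48684 := d2_1 D105299 (iv5 D48684) D48683
theorem F161449 : act 3 n105299 = n52451 := d6_1 D105299 (iv5 D52451) (iv3 F76609)
theorem F161450 : act 7 n105299 = n52487 := d13_2 (iv7 F76610) D105299 (iv5 D52487)
theorem F161451 : act 0 n105299 = n52489 := d21_1 D105299 F139187 D52515 (iv1 F82922) F40685 D49055 (iv1 F86684) F86686 (iv6 F67753) (iv1 F76611)
theorem F161452 : act 0 n52488 = n105299 := d21_1 (iv5 F82871) (iv5 D105299) (iv6 F138876) F138878 (iv6 D43237) F32402 (iv1 D9722) D9724 (iv6 F27049) D25490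
def n105300 : Q := act 4 n48684
theorem D105300 : act 4 n48684 = n105300 := rfl
theorem F161453 : act 7 n105300 = n52490 := d11_2 (iv7 F76614) D105300 (iv4 D52490)
theorem F161454 : act 1 n105300 = n59612 := d18_6 F82960 (iv4 F82958) (iv1 D49039) F37338 D48684 D105300 (iv4 F139388) F139389 (iv5 D69710)
theorem F161455 : act 5 n59582 = n105300 := d19_1 D59582 (iv4 D105300) F76613 (iv1 F37356) F37354 F18207 F10308 F10296 D3297 F10292 F10094 (iv1 F9946) (iv5 F7819) D11373 D24212 F37945 F24105 F23935 D28281
theorem F161456 : act 7 n64531 = n59582 := d13_0 F161455 F161453 (iv5 F100470)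
theorem F161457 : act 2 n59582 = n64532 := d15_3 F100476 F100471 F161456
theorem F161458 : act 2 n64531 = n59583 := d15_3 F100477 F100475 (iv7 F161456)
theorem F161459 : act 7 n59583 = n64532 := d4_2 (iv7 F161456) F161458 (iv2 F161457)
def n105301 : Q := act 6 n48684
theorem D105301 : act 6 n48684 = n105301 := rfl
theorem F161460 : act 3 n105301 = n48686 := d7_1 D105301 (iv6 D48686) (iv3 F76613)
def n105302 : Q := act 0 n48686
theorem D105302 : act 0 n48686 = n105302 := rfl
def n105303 : Q := act 1 n48686
theorem D105303 : act 1 n48686 = n105303 := rfl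
theorem F161461 : act 1 n105303 = n52463 := d15_1 D105303 (iv7 D52463) (iv2 F76616)
def n105304 : Q := act 5 n48686
theorem D105304 : act 5 n48686 = n105304 := rfl
theorem F161462 : act 2 n105304 = n52462 := d2_1 D105304 (iv5 D52462) (iv2 F76616)
theorem F161463 : act 6 n105304 = n48687 := d12_2 D48686 D105304 (iv5 D48687) (iv6 D23737) D23736
def n105305 : Q := act 7 n48686
theorem D105305 : act 7 n48686 = n105305 := rfl
theorem F161464 : act 2 n105305 = n52463 := d4_1 D105305 (iv7 D52463) (iv2 F76616)
theorem F161465 : act 6 n105305 = n52494 := d14_1 D105305 (iv7 D52494) (iv6 D25476) (iv7 F36954) D48686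
theorem F161466 : act 1 n52463 = n105302 := d15_0 (iv0 D105302) D105305 F161464
theorem F161467 : act 1 n52461 = n105305 := d15_1 D52461 (iv7 D105305) F76616
theorem F161468 : act 1 n105305 = n52460 := d15_0 (iv0 D52460) D52463 (iv2 F161464)
def n105306 : Q := act 4 n48687
theorem D105306 : act 4 n48687 = n105306 := rfl
theorem F161469 : act 2 n105306 = n52466 := d1_1 D105306 (iv4 D52466) (iv2 F76617)
theorem F161470 : act 7 n105306 = n71281 := d11_2 F77739 D105306 F107778
theorem F161471 : act 5 n105306 = n52466 := d16_1 D105306 (iv4 D52466) (iv5 D25462) F20023 (iv5 F18629) (iv4 F37672) D49307 F77950 (iv2 F76617)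
theorem F161472 : act 0 n105306 = n52784 := d17_0 F83390 (iv1 D52777) D52779 F83371 F46040 F22756 D25613 (iv0 F76618) D105306
theorem F161473 : act 1 n105306 = n52787 := d18_6 (iv1 F46049) (iv4 D28501) F22764 (iv4 F36957) D48687 D105306 (iv4 D52787) (iv0 F77717) (iv5 D49212)
def n105307 : Q := act 4 n48688
theorem D105307 : act 4 n48688 = n105307 := rfl
theorem F161474 : act 7 n105307 = n52518 := d11_2 (iv7 F76621) D105307 (iv4 D52518)
theorem F161475 : act 1 n105307 = n64534 := d18_6 D42393 F65464 (iv1 F65451) F36964 D48688 D105307 F139399 (iv0 D90569) (iv5 D42395)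
theorem F161476 : act 5 n64452 = n105307 := d19_1 D64452 (iv4 D105307) F76620 (iv1 F40245) (iv5 D25453) F20019 (iv3 D7101) (iv1 F5162) (iv5 D2456) F9921 (iv3 F9929) (iv1 F3497) F3493 (iv4 F7740) F11144 (iv1 F11143) D6892 D14405 D30349
def n105308 : Q := act 6 n48688
theorem D105308 : act 6 n48688 = n105308 := rfl
theorem F161477 : act 3 n105308 = n48689 := d7_1 D105308 (iv6 D48689) (iv3 F76620)
theorem F161478 : act 7 n105308 = n88468 := d14_2 (iv7 F76621) D105308 (iv6 D88468) F63615 (iv6 F40312)
def n105309 : Q := act 0 n48689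
theorem D105309 : act 0 n48689 = n105309 := rfl
def n105310 : Q := act 1 n48689
theorem D105310 : act 1 n48689 = n105310 := rfl
theorem F161479 : act 1 n105310 = n52509 := d15_1 D105310 (iv7 D52509) (iv2 F76622)
def n105311 : Q := act 7 n48689
theorem D105311 : act 7 n48689 = n105311 := rfl
theorem F161480 : act 2 n105311 = n52509 := d4_1 D105311 (iv7 D52509) (iv2 F76622)
theorem F161481 : act 3 n105311 = n88468 := d8_1 D105311 (iv7 F161478) F161477
theorem F161482 : act 6 n105311 = n52521 := d14_1 D105311 (iv7 D52521) (iv6 D25493) (iv7 F36961) D48689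
theorem F161483 : act 1 n52509 = n105309 := d15_0 (iv0 D105309) D105311 F161480
theorem F161484 : act 1 n52507 = n105311 := d15_1 D52507 (iv7 D105311) F76622
theorem F161485 : act 1 n105311 = n52506 := d15_0 (iv0 D52506) D52509 (iv2 F161480)
def n105312 : Q := act 4 n48690
theorem D105312 : act 4 n48690 = n105312 := rfl
theorem F161486 : act 7 n105312 = n52537 := d11_2 (iv7 F76624) D105312 (iv4 D52537)
def n105313 : Q := act 6 n48690
theorem D105313 : act 6 n48690 = n105313 := rfl
theorem F161487 : act 3 n105313 = n48691 := d7_1 D105313 (iv6 D48691) (iv3 F76623)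
theorem F161488 : act 7 n105313 = n92812 := d14_2 (iv7 F76624) D105313 (iv6 D92812) (iv7 D43422) (iv6 F40333)
def n105314 : Q := act 0 n48691
theorem D105314 : act 0 n48691 = n105314 := rfl
def n105315 : Q := act 1 n48691
theorem D105315 : act 1 n48691 = n105315 := rfl
theorem F161489 : act 1 n105315 = n52527 := d15_1 D105315 (iv7 D52527) (iv2 F76625)
def n105316 : Q := act 7 n48691
theorem D105316 : act 7 n48691 = n105316 := rfl
theorem F161490 : act 2 n105316 = n52527 := d4_1 D105316 (iv7 D52527) (iv2 F76625)
theorem F161491 : act 3 n105316 = n92812 := d8_1 D105316 (iv7 F161488) F161487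
theorem F161492 : act 6 n105316 = n52540 := d14_1 D105316 (iv7 D52540) (iv6 D25503) (iv7 F36967) D48691
theorem F161493 : act 1 n52527 = n105314 := d15_0 (iv0 D105314) D105316 F161490
theorem F161494 : act 1 n52525 = n105316 := d15_1 D52525 (iv7 D105316) F76625
theorem F161495 : act 1 n105316 = n52524 := d15_0 (iv0 D52524) D52527 (iv2 F161490)
def n105317 : Q := act 0 n48692
theorem D105317 : act 0 n48692 = n105317 := rfl
def n105318 : Q := act 1 n48692
theorem D105318 : act 1 n48692 = n105318 := rfl
theorem F161496 : act 1 n105318 = n52540 := d15_1 D105318 (iv7 D52540) (iv2 F76626)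
theorem F161497 : act 5 n94259 = n105318 := d21_6 (iv5 F31838) F21325 F26938 D20928 D44061 D94259 (iv1 D105318) F76627 (iv6 D43415) (iv1 F32625)
theorem F161498 : act 2 n105318 = n52539 := d2_1 F161497 (iv5 F114614) (iv2 F145388)
def n105319 : Q := act 7 n48692
theorem D105319 : act 7 n48692 = n105319 := rfl
theorem F161499 : act 2 n105319 = n52540 := d4_1 D105319 (iv7 D52540) (iv2 F76626)
theorem F161500 : act 5 n105319 = n92798 := d13_1 D105319 (iv7 D92798) (iv5 F76627)
theorem F161501 : act 6 n105319 = n52527 := d14_1 D105319 (iv7 D52527) (iv6 D25497) (iv7 F36972) D48692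
theorem F161502 : act 1 n52540 = n105317 := d15_0 (iv0 D105317) D105319 F161499
theorem F161503 : act 1 n52539 = n105319 := d15_1 D52539 (iv7 D105319) F76626
theorem F161504 : act 7 n105317 = n52539 := d15_2 F161496 F161502 (iv2 F161498)
theorem F161505 : act 2 n105317 = n52538 := d15_3 (iv0 D52538) D52539 (iv7 F161504)
theorem F161506 : act 7 n52538 = n105318 := d4_2 (iv7 F161504) F161505 F161498
theorem F161507 : act 1 n105319 = n52538 := d15_1 F161503 F161506 F161498
def n105320 : Q := act 4 n48693
theorem D105320 : act 4 n48693 = n105320 := rfl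
theorem F161508 : act 6 n105320 = n92786 := d10_2 (iv6 F76629) D105320 (iv4 D92786)
theorem F161509 : act 1 n105320 = n76559 := d18_6 F77031 (iv4 D31971) (iv1 F41560) F41558 D48693 D105320 (iv4 D76559) D76558 F114802
def n105321 : Q := act 4 n48694
theorem D105321 : act 4 n48694 = n105321 := rfl
theorem F161510 : act 2 n105321 = n48697 := d1_1 D105321 (iv4 D48697) (iv2 F76631)
def n105322 : Q := act 6 n48694
theorem D105322 : act 6 n48694 = n105322 := rfl
theorem F161511 : act 2 n105322 = n48698 := d3_1 D105322 (iv6 D48698) (iv2 F76631)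
theorem F161512 : act 3 n105322 = n52564 := d7_1 D105322 (iv6 D52564) (iv3 F76632)
theorem F161513 : act 5 n105322 = n48748 := d12_1 D105322 (iv6 D48748) (iv5 D23776) (iv6 F36980) D48694
def n105323 : Q := act 4 n48695
theorem D105323 : act 4 n48695 = n105323 := rfl
def n105324 : Q := act 6 n48695
theorem D105324 : act 6 n48695 = n105324 := rfl
theorem F161514 : act 3 n105324 = n69708 := d7_1 D105324 (iv6 D69708) F85307
def n105325 : Q := act 3 n48696
theorem D105325 : act 3 n48696 = n105325 := rfl
theorem F161515 : act 2 n105325 = n69710 := d0_1 D105325 F106072 (iv2 F55169) (iv3 F106124) F106123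
theorem F161516 : act 5 n105325 = n67901 := d6_2 (iv5 F76633) D105325 (iv3 D67901)
theorem F161517 : act 1 n92787 = n105325 := d17_6 (iv1 D49088) (iv5 F40358) (iv1 F114373) (iv5 D52530) (iv4 F68242) D92787 F161516 F114389 F114387
theorem F161518 : act 0 n92788 = n105325 := d21_1 D92788 F161516 F103975 (iv1 F97646) F114370 (iv5 F139351) (iv1 F139354) (iv5 D48690) (iv6 F65474) (iv1 F68245)
def n105326 : Q := act 4 n48696
theorem D105326 : act 4 n48696 = n105326 := rfl
def n105327 : Q := act 6 n48696
theorem D105327 : act 6 n48696 = n105327 := rfl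
def n105328 : Q := act 0 n48697
theorem D105328 : act 0 n48697 = n105328 := rfl
theorem F161519 : act 4 n105328 = n67895 := d18_3 (iv1 D48696) D48697 D105328 (iv5 D67895) (iv4 D31564) (iv0 D14863) D14866 D31574 (iv5 F76633)
def n105329 : Q := act 1 n48697
theorem D105329 : act 1 n48697 = n105329 := rfl
def n105330 : Q := act 3 n48697
theorem D105330 : act 3 n48697 = n105330 := rfl
theorem F161520 : act 4 n105330 = n48704 := d5_2 D48697 D105330 (iv3 D48704) (iv4 D23752) (iv3 F36981)
theorem F161521 : act 7 n52397 = n105330 := d11_0 F161520 F76645 D52397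
def n105331 : Q := act 5 n48697
theorem D105331 : act 5 n48697 = n105331 := rfl
def n105332 : Q := act 6 n48697
theorem D105332 : act 6 n48697 = n105332 := rfl
theorem F161522 : act 4 n105332 = n48698 := d10_1 D105332 (iv6 D48698) D48697
def n105333 : Q := act 7 n48697
theorem D105333 : act 7 n48697 = n105333 := rfl
theorem F161523 : act 3 n105333 = n52397 := d8_1 D105333 F161521 (iv3 D105330)
theorem F161524 : act 4 n105333 = n48699 := d11_1 D105333 (iv7 D48699) D48697
def n105334 : Q := act 0 n48698
theorem D105334 : act 0 n48698 = n105334 := rfl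
def n105335 : Q := act 1 n48698
theorem D105335 : act 1 n48698 = n105335 := rfl
def n105336 : Q := act 7 n48698
theorem D105336 : act 7 n48698 = n105336 := rfl
theorem F161525 : act 3 n105336 = n48708 := d8_1 D105336 (iv7 D48708) (iv3 F76634)
theorem F161526 : act 5 n105336 = n48758 := d13_1 D105336 (iv7 D48758) (iv5 F76635)
def n105337 : Q := act 6 n48699
theorem D105337 : act 6 n48699 = n105337 := rfl
theorem F161527 : act 3 n105337 = n48709 := d7_1 D105337 (iv6 D48709) (iv3 F76636)
def n105338 : Q := act 2 n48700
theorem D105338 : act 2 n48700 = n105338 := rfl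
theorem F161528 : act 3 n105338 = n52583 := d0_2 D48700 D105338 (iv2 D52583) (iv3 D25524) F36985
theorem F161529 : act 5 n105338 = n49040 := d2_2 (iv5 F76638) D105338 (iv2 D49040)
theorem F161530 : act 7 n105338 = n52592 := d4_2 (iv7 F76639) D105338 (iv2 D52592)
theorem F161531 : act 1 n105338 = n52530 := d15_0 F114373 (iv7 F76639) D105338
theorem F161532 : act 1 n52533 = n105338 := d15_0 F161531 (iv7 F139347) F139346
def n105339 : Q := act 4 n48700
theorem D105339 : act 4 n48700 = n105339 := rfl
theorem F161533 : act 3 n105339 = n64712 := d5_1 D105339 F100589 (iv3 D59198) F45429 D48700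
theorem F161534 : act 7 n105339 = n52593 := d11_2 (iv7 F76639) D105339 (iv4 D52593)
theorem F161535 : act 0 n105339 = n64859 := d18_2 F139343 D105339 (iv4 F142970) (iv5 D92732) (iv4 F68150) F65416 (iv4 F36964) F65451 D90538
theorem F161536 : act 5 n64710 = n105339 := d16_1 (iv4 F100588) (iv4 D105339) F76638 F37338 D48684 D105300 (iv5 F161455) (iv7 F161456) F161458
theorem E15954 : n64876 = n64712 := (c20_5 (iv4 F93867) (iv1 F93868) F45762 D30492 D64876 (iv3 F161533) (iv4 D105339) F139350 F139349 F99483 (iv1 F80504))
theorem F161537 : act 1 n64712 = n30492 := (sb E15954 (iv0 D64876))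
def n105340 : Q := act 6 n48700
theorem D105340 : act 6 n48700 = n105340 := rfl
theorem F161538 : act 3 n105340 = n48701 := d7_1 D105340 (iv6 D48701) D48700
theorem F161539 : act 5 n105340 = n90597 := d12_1 D105340 (iv6 D90597) (iv5 D42415) (iv6 F82982) (iv5 F76638)
def n105341 : Q := act 0 n48701
theorem D105341 : act 0 n48701 = n105341 := rfl
def n105342 : Q := act 1 n48701
theorem D105342 : act 1 n48701 = n105342 := rfl
theorem F161540 : act 1 n105342 = n52589 := d15_1 D105342 (iv7 D52589) (iv2 F76640)
def n105343 : Q := act 5 n48701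
theorem D105343 : act 5 n48701 = n105343 := rfl
theorem F161541 : act 2 n105343 = n52588 := d2_1 D105343 (iv5 D52588) (iv2 F76640)
theorem F161542 : act 3 n105343 = n90597 := d6_1 D105343 (iv5 F161539) F161538
theorem F161543 : act 6 n105343 = n49042 := d12_2 D48701 D105343 (iv5 D49042) (iv6 D23924) (iv5 F36984)
def n105344 : Q := act 7 n48701
theorem D105344 : act 7 n48701 = n105344 := rfl
theorem F161544 : act 2 n105344 = n52589 := d4_1 D105344 (iv7 D52589) (iv2 F76640)
theorem F161545 : act 6 n105344 = n52597 := d14_1 D105344 (iv7 D52597) (iv6 D25527) F36986 D48701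
theorem F161546 : act 1 n52589 = n105341 := d15_0 (iv0 D105341) D105344 F161544
theorem F161547 : act 1 n52587 = n105344 := d15_1 D52587 (iv7 D105344) F76640
theorem F161548 : act 1 n105344 = n52586 := d15_0 (iv0 D52586) D52589 (iv2 F161544)
def n105345 : Q := act 4 n48702
theorem D105345 : act 4 n48702 = n105345 := rfl
theorem F161549 : act 7 n105345 = n52584 := d11_2 (iv7 F76642) D105345 (iv4 D52584)
def n105346 : Q := act 6 n48702
theorem D105346 : act 6 n48702 = n105346 := rfl
theorem F161550 : act 3 n105346 = n48703 := d7_1 D105346 (iv6 D48703) D48702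
theorem F161551 : act 5 n105346 = n74834 := d12_1 D105346 (iv6 D74834) (iv5 D34289) (iv6 F37163) (iv5 F76641)
def n105347 : Q := act 0 n48703
theorem D105347 : act 0 n48703 = n105347 := rfl
theorem F161552 : act 6 n105347 = n92804 := d21_5 (iv5 D14847) (iv1 F18134) (iv5 F36990) D48703 D105347 (iv5 D92804) (iv1 D43417) (iv5 F40335) (iv6 D25503) (iv1 F24513)
def n105348 : Q := act 1 n48703
theorem D105348 : act 1 n48703 = n105348 := rfl
theorem F161553 : act 1 n105348 = n52597 := d15_1 D105348 (iv7 D52597) (iv2 F76643)
def n105349 : Q := act 7 n48703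
theorem D105349 : act 7 n48703 = n105349 := rfl
theorem F161554 : act 2 n105349 = n52597 := d4_1 D105349 (iv7 D52597) (iv2 F76643)
theorem F161555 : act 6 n105349 = n52589 := d14_1 D105349 (iv7 D52589) (iv6 D25525) (iv7 F36989) D48703
theorem F161556 : act 1 n52597 = n105347 := d15_0 (iv0 D105347) D105349 F161554
theorem F161557 : act 1 n52596 = n105349 := d15_1 D52596 (iv7 D105349) F76643
theorem F161558 : act 1 n105349 = n52595 := d15_0 (iv0 D52595) D52597 (iv2 F161554)
def n105350 : Q := act 0 n48704
theorem D105350 : act 0 n48704 = n105350 := rfl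
theorem F161559 : act 1 n52394 = n105350 := d15_0 (iv0 D105350) F76645 (iv2 F82754)
def n105351 : Q := act 1 n48704
theorem D105351 : act 1 n48704 = n105351 := rfl
def n105352 : Q := act 2 n48704
theorem D105352 : act 2 n48704 = n105352 := rfl
theorem F161560 : act 3 n105352 = n52600 := d0_2 D48704 D105352 (iv2 D52600) (iv3 D25528) (iv2 F36992)
theorem F161561 : act 5 n105352 = n52381 := d2_2 (iv5 F76644) D105352 (iv2 F82745)
theorem F161562 : act 7 n105352 = n52394 := d4_2 (iv7 F76645) D105352 F82754
theorem F161563 : act 1 n105352 = n52395 := d15_0 (iv0 D52395) (iv7 F76645) D105352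
theorem F161564 : act 1 n105351 = n52394 := d15_1 D105351 (iv7 F161562) (iv2 D105352)
theorem F161565 : act 1 n52396 = n105352 := d15_1 D52396 F161562 F82754
def n105353 : Q := act 6 n48704
theorem D105353 : act 6 n48704 = n105353 := rfl
theorem F161566 : act 3 n105353 = n48705 := d7_1 D105353 (iv6 D48705) D48704
def n105354 : Q := act 0 n48705
theorem D105354 : act 0 n48705 = n105354 := rfl
def n105355 : Q := act 1 n48705
theorem D105355 : act 1 n48705 = n105355 := rfl
theorem F161567 : act 1 n105355 = n52605 := d15_1 D105355 (iv7 D52605) (iv2 F76646)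
def n105356 : Q := act 5 n48705
theorem D105356 : act 5 n48705 = n105356 := rfl
theorem F161568 : act 2 n105356 = n52604 := d2_1 D105356 (iv5 D52604) (iv2 F76646)
theorem F161569 : act 6 n105356 = n52409 := d12_2 D48705 D105356 (iv5 D52409) (iv6 D25437) (iv5 F36993)
def n105357 : Q := act 7 n48705
theorem D105357 : act 7 n48705 = n105357 := rfl
theorem F161570 : act 2 n105357 = n52605 := d4_1 D105357 (iv7 D52605) (iv2 F76646)
theorem F161571 : act 4 n105357 = n48708 := d11_1 D105357 (iv7 D48708) (iv4 F76647)
theorem F161572 : act 6 n105357 = n52406 := d14_1 D105357 (iv7 D52406) (iv6 D25436) F36994 D48705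
theorem F161573 : act 1 n52605 = n105354 := d15_0 (iv0 D105354) D105357 F161570
theorem F161574 : act 1 n52603 = n105357 := d15_1 D52603 (iv7 D105357) F76646
theorem F161575 : act 1 n105357 = n52602 := d15_0 (iv0 D52602) D52605 (iv2 F161570)
def n105358 : Q := act 2 n48706
theorem D105358 : act 2 n48706 = n105358 := rfl
theorem F161576 : act 7 n48707 = n105358 := d15_2 (iv0 D48706) D48707 (iv2 D105358)
def n105359 : Q := act 3 n48706
theorem D105359 : act 3 n48706 = n105359 := rfl
def n105360 : Q := act 4 n48706
theorem D105360 : act 4 n48706 = n105360 := rfl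
def n105361 : Q := act 5 n48706
theorem D105361 : act 5 n48706 = n105361 := rfl
def n105362 : Q := act 6 n48706
theorem D105362 : act 6 n48706 = n105362 := rfl
theorem F161577 : act 5 n105362 = n70568 := d21_6 (iv5 D23744) (iv1 D11121) D11123 D23753 D48706 D105362 (iv1 D70568) (iv5 F82800) (iv6 D52446) F40241
def n105363 : Q := act 7 n48706
theorem D105363 : act 7 n48706 = n105363 := rfl
theorem F161578 : act 2 n105363 = n48707 := d4_1 D105363 F161576 (iv2 D105358)
def n105364 : Q := act 3 n48707
theorem D105364 : act 3 n48707 = n105364 := rfl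
def n105365 : Q := act 4 n48707
theorem D105365 : act 4 n48707 = n105365 := rfl
def n105366 : Q := act 6 n48707
theorem D105366 : act 6 n48707 = n105366 := rfl
def n105367 : Q := act 6 n48708
theorem D105367 : act 6 n48708 = n105367 := rfl
theorem F161579 : act 2 n105367 = n52616 := d3_1 D105367 (iv6 D52616) (iv2 F76649)
theorem F161580 : act 4 n105367 = n52406 := d10_1 D105367 (iv6 F161572) F161571
theorem F161581 : act 7 n105367 = n48709 := d14_2 D48708 D105367 (iv6 D48709) (iv7 D23754) D23753
theorem F161582 : act 1 n52618 = n105367 := d15_1 D52618 F161581 F76654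
theorem F161583 : act 1 n105367 = n52617 := d15_0 (iv0 D52617) (iv7 F83110) (iv2 F161579)
def n105368 : Q := act 0 n48709
theorem D105368 : act 0 n48709 = n105368 := rfl
theorem F161584 : act 1 n52616 = n105368 := d15_0 (iv0 D105368) (iv7 F161581) F161579
def n105369 : Q := act 1 n48709
theorem D105369 : act 1 n48709 = n105369 := rfl
theorem F161585 : act 1 n105369 = n52616 := d15_1 D105369 F83110 (iv2 F76654)
def n105370 : Q := act 5 n48711
theorem D105370 : act 5 n48711 = n105370 := rfl
theorem F161586 : act 2 n105370 = n52670 := d2_1 D105370 (iv5 D52670) (iv2 F76660)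
theorem F161587 : act 3 n105370 = n78932 := d6_1 D105370 (iv5 D78932) (iv3 F76661)
theorem F161588 : act 0 n105370 = n49325 := d17_2 F77733 D105370 F77989 (iv4 F65509) D44070 (iv0 F114399) (iv5 D76302) F114355 F82992
theorem F161589 : act 1 n105370 = n94263 := d17_6 F69001 D93873 F144708 (iv5 F82482) (iv4 F76662) D105370 (iv5 D94263) (iv0 F69409) F64164
def n105371 : Q := act 6 n48712
theorem D105371 : act 6 n48712 = n105371 := rfl
theorem F161590 : act 2 n105371 = n52682 := d3_1 D105371 (iv6 D52682) F76674
theorem F161591 : act 3 n105371 = n54641 := d7_1 D105371 (iv6 D54641) F76677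
theorem F161592 : act 4 n105371 = n57700 := d10_1 D105371 (iv6 D57700) (iv4 F76678)
theorem F161593 : act 5 n105371 = n90819 := d21_6 (iv5 D42131) (iv1 D19874) D19875 (iv6 F37013) D48712 D105371 (iv1 D90819) D90820 F139797 (iv1 F67878)
def n105372 : Q := act 4 n48713
theorem D105372 : act 4 n48713 = n105372 := rfl
theorem F161594 : act 2 n105372 = n52678 := d1_1 D105372 (iv4 D52678) F76669
theorem F161595 : act 5 n105372 = n55435 := d9_2 (iv5 F76668) D105372 (iv4 F115801) F115802 (iv4 F142214) F142213 (iv4 D48718) (iv5 F76675) F76678 F44463 (iv4 F57252) (iv5 F108357) (iv4 D71876) (iv5 D33215) F37022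
theorem F161596 : act 7 n105372 = n52681 := d11_2 F76673 D105372 (iv4 D52681)
theorem F161597 : act 0 n105372 = n57607 := d17_0 (iv5 D57607) (iv1 D27527) D27530 (iv4 F46135) (iv5 F46137) (iv0 D23755) D23757 D48713 D105372
theorem F161598 : act 1 n105372 = n57602 := d18_6 F42423 (iv4 F42421) (iv1 F42422) F37022 (iv5 F76668) D105372 F90745 (iv0 F83453) (iv5 D52814)
theorem F161599 : act 3 n57692 = n105372 := d6_3 F161595 (iv3 F90018) (iv5 F90872)
theorem F161600 : act 0 n57692 = n76671 := d19_4 F37024 (iv5 F76668) D105372 (iv3 F161599) (iv5 F115008) (iv4 F129399) (iv3 D84340) (iv1 F85709) F85706 (iv4 F75476) F75475 F41725 F26750 (iv4 F26752) (iv3 F26758) F26755 (iv5 D7497) D7496 (iv3 F20172)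
def n105373 : Q := act 6 n48713
theorem D105373 : act 6 n48713 = n105373 := rfl
theorem F161601 : act 2 n105373 = n52679 := d3_1 D105373 (iv6 D52679) F76669
theorem F161602 : act 3 n105373 = n54786 := d7_1 D105373 (iv6 D54786) F76670
def n105374 : Q := act 2 n48715
theorem D105374 : act 2 n48715 = n105374 := rfl
theorem F161604 : act 7 n48716 = n105374 := d15_2 (iv0 D48715) D48716 (iv2 D105374)
def n105375 : Q := act 5 n48715
theorem D105375 : act 5 n48715 = n105375 := rfl
def n105376 : Q := act 6 n48715
theorem D105376 : act 6 n48715 = n105376 := rfl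
theorem F161605 : act 4 n105376 = n52695 := d10_1 D105376 (iv6 D52695) (iv4 F114627)
theorem F161606 : act 5 n105376 = n52136 := d21_6 (iv5 D7893) (iv1 F7564) D11126 D23758 D48715 D105376 (iv1 D52136) F39978 (iv6 D12169) (iv1 F12498)
def n105377 : Q := act 7 n48715
theorem D105377 : act 7 n48715 = n105377 := rfl
theorem F161607 : act 2 n105377 = n48716 := d4_1 D105377 F161604 (iv2 D105374)
theorem F161608 : act 4 n105377 = n52696 := d11_1 D105377 (iv7 D52696) (iv4 F114627)
def n105378 : Q := act 3 n48716
theorem D105378 : act 3 n48716 = n105378 := rfl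
def n105379 : Q := act 5 n48716
theorem D105379 : act 5 n48716 = n105379 := rfl
theorem F161609 : act 0 n105379 = n90344 := d18_0 F139018 D103239 F158486 (iv5 D76311) (iv4 F136679) (iv0 D26990) (iv4 F37017) D48716 D105379
theorem F161610 : act 6 n105379 = n90413 := d21_3 F83212 (iv1 F76689) D105379 (iv1 F139164) F65286 (iv5 F82937) (iv1 F94262) (iv5 F138557) (iv6 D90119) (iv1 F83217)
theorem F161611 : act 2 n52660 = n105379 := d3_3 F161610 F160259 F83202
theorem F161612 : act 4 n96232 = n105379 := d10_3 F161610 (iv4 F139166) D96232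
theorem E15955 : n104701 = n96232 := (c20_11 F161612 F161609 F139018 F75123 F66681 (iv3 D23549) (iv4 D11039) D11037 D23539 D48410 D104701)
theorem F161613 : act 0 n96232 = n104718 := (sb E15955 (iv1 F160411))
theorem F161614 : act 1 n96232 = n48410 := (sb E15955 (iv0 D104701))
theorem F161615 : act 0 n96097 = n95317 := d20_4 F36658 F66744 (iv4 F70431) (iv3 F147721) (iv3 F148011) F161612 F161609 F139018 F75123 F66681
theorem E15956 : n88498 = n76446 := (c18_8 (iv1 F55141) F55137 (iv1 F40459) (iv4 F114619) D105379 (iv4 F161612) F161614 (iv4 F135476) (iv0 D76446) (iv5 D34925))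
theorem F161616 : act 3 n76446 = n41307 := (sb E15956 (iv3 D88498))
theorem F161617 : act 4 n76446 = n48410 := (sb E15956 F135476)
theorem F161618 : act 7 n76446 = n43457 := (sb E15956 F135477)
theorem F161619 : act 7 n92880 = n55275 := d13_2 F161618 D92880 (iv5 F114598)
theorem E15957 : n92872 = n76447 := (c15_4 F114599 F114602 F161618 (iv2 F143255))
theorem F161620 : act 2 n76447 = n43457 := (sb E15957 F143255)
theorem F161621 : act 4 n76447 = n104718 := (sb E15957 (iv4 F160408))
theorem F161622 : act 6 n76447 = n43454 := (sb E15957 (iv6 D92872))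
theorem F161623 : act 4 n104702 = n105375 := d18_3 (iv1 F114599) F161621 (iv1 F160413) (iv5 D105375) F114627 (iv0 D25576) F20109 D16940 D34930
theorem F161624 : act 0 n103242 = n76465 := d20_10 (iv4 D76465) (iv1 F114599) F161621 F160407 (iv1 F159341) (iv3 D103365) (iv4 F139782) F139781 (iv4 F75127) (iv3 F158489)
theorem F161625 : act 0 n52655 = n94037 := d18_0 (iv4 F158490) F161624 (iv4 D76465) (iv5 D34930) (iv4 F136441) F43582 (iv4 F76692) F76697 D52655
theorem F161626 : act 1 n103242 = n76448 := d15_1 (iv0 F161624) (iv7 F158483) F158482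
theorem F161627 : act 1 n103234 = n76465 := d15_0 (iv0 F161624) (iv7 D103242) (iv2 F158479)
theorem F161628 : act 1 n76448 = n103234 := d15_0 F161627 F158485 (iv2 F158484)
theorem F161629 : act 0 n90310 = n76437 := d20_4 (iv4 F69236) (iv1 F73733) F73732 (iv3 F138924) F114590 D76448 (iv1 F161626) F158490 F144876 F69097
theorem F161630 : act 4 n104716 = n52655 := d20_0 F161625 (iv4 F158490) F158489 F75129 F36649 F17901 D11041 D23556 D48419 D104716
theorem F161631 : act 5 n95581 = n104716 := d17_3 (iv1 D44642) D44643 D95581 F161630 (iv5 D52655) (iv0 D25556) D25558 D52663 F83204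
theorem E15958 : n92879 = n76316 := ((c18_10 (iv1 D92879) (iv4 F76132) D104716 F161630 (iv5 D52655) (iv4 F83209) (iv0 D17397) (iv4 F27688) D34864 D76316)).symm
theorem F161632 : act 0 n76316 = n43457 := (sb E15958 (iv1 D92879))
theorem E15959 : n104706 = n103654 := (c20_5 F76127 (iv1 F76113) (iv4 D48413) D48412 D104706 F159062 (iv4 F158481) F161632 (iv4 F76132) (iv3 D48419) D48418)
theorem F161633 : act 0 n103654 = n104695 := (sb E15959 (iv1 F160389))
theorem F161634 : act 1 n103654 = n48412 := (sb E15959 (iv0 D104706))
theorem E15960 : n92878 = n76311 := ((c15_4 (iv0 D92878) (iv0 F161632) F153439 (iv2 F153452))).symm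
theorem F161635 : act 1 n76311 = n43457 := (sb E15960 (iv0 D92878))
theorem F161636 : act 5 n93858 = n92875 := d21_6 (iv5 D76311) (iv1 F55139) (iv5 F55293) D76483 (iv1 F114637) D93858 (iv1 D92875) (iv5 D43456) D43457 (iv1 F161635)
theorem F161637 : act 7 n104707 = n104622 := d15_2 F161634 D104707 F160317
theorem F161638 : act 0 n90344 = n105375 := d20_10 (iv4 F161623) (iv1 D104702) (iv4 F161617) F161616 (iv1 D41307) (iv3 F36550) F36551 (iv1 F66494) (iv4 F65232) (iv3 F139017)
theorem F161639 : act 3 n55275 = n87036 := d8_1 F161619 F133597 (iv3 F143259)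
theorem F161640 : act 6 n87036 = n55272 := d7_2 D55275 F161639 (iv3 D55272)
theorem F161641 : act 2 n55272 = n94344 := d3_1 F161640 F145477 (iv2 F133611)
theorem F161642 : act 5 n55272 = n94159 := d12_1 F161640 (iv6 D94159) F135482 (iv6 D88499) (iv5 F133598)
theorem F161643 : act 3 n94159 = n55274 := d6_1 F161642 (iv5 D55274) D55272
theorem F161644 : act 6 n55274 = n94157 := d7_2 D94159 F161643 (iv3 D94157)
theorem F161645 : act 0 n76498 = n94157 := d21_4 (iv5 D24055) D24054 (iv5 F77702) (iv6 F114664) (iv6 F161644) (iv5 D55274) (iv1 D26709) (iv5 F38888) (iv6 D24842) (iv1 F37646)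
theorem F161646 : act 3 n104693 = n76448 := d20_5 (iv4 D41242) D41240 F62466 D48406 D104693 (iv4 D76448) D76446 F161617 (iv3 D48410) (iv1 F63083)
theorem F161647 : act 7 n103654 = n104693 := d8_0 F161646 (iv7 F158483) (iv3 F159062)
theorem F161648 : act 2 n104693 = n104707 := d4_1 F161647 F161637 F160317
theorem E15961 : n104694 = n104622 := ((c15_4 F160395 F160393 (iv7 F161647) (iv2 F160317))).symm
theorem F161649 : act 0 n104622 = n48406 := (sb E15961 (iv1 D104694))
theorem F161650 : act 1 n104622 = n104708 := (sb E15961 F160395)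
theorem E15962 : n99647 = n91351 := (c20_5 (iv4 F160391) (iv1 F161650) F160318 F153385 D99647 F140450 F66981 D42754 D91357 (iv3 F157484) (iv1 F157485))
theorem E15963 : n102520 = n46568 := ((F157450).symm.trans (sb E15962 (iv0 D99647)))
theorem F161651 : act 0 n46568 = n91351 := (sb E15963 (iv1 F157450))
theorem E15964 : n99648 = n47553 := ((D99648).symm.trans (sb E15963 (iv0 D102520)))
theorem F161652 : act 0 n47553 = n46568 := (sb E15964 (iv1 D99648))
theorem F161653 : act 7 n102521 = n99579 := d15_2 (iv0 F161652) D102521 F153430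
theorem F161654 : act 2 n99650 = n102521 := d4_3 F161653 F153430 D99650
theorem F161655 : act 6 n99664 = n102521 := d14_5 F161653 (iv6 D99579) F153423 D46573 D99664
theorem E15965 : n102400 = n100553 := (c20_7 (iv4 F69229) F69228 F63631 (iv3 F161616) (iv1 F114602) (iv3 F114606) (iv4 F157327) (iv1 D100553) F74121 F68397 D43524)
theorem F161656 : act 4 n100553 = n76460 := (sb E15965 F157327)
theorem F161657 : act 5 n100553 = n98315 := (sb E15965 F157328)
theorem F161658 : act 6 n100553 = n47513 := (sb E15965 (iv6 D102400))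
theorem F161659 : act 7 n104702 = n104587 := d15_2 F161614 D104702 F160278
theorem F161660 : act 7 n52660 = n105375 := d11_2 F161659 F160238 (iv4 F161623)
theorem E15966 : n105377 = n25557 := (c13_3 F161660 (iv5 D105375) D105377 D52660)
theorem E15967 : n52657 = n48716 := (((iv2 F83201)).symm.trans (sb E15966 F161607))
theorem E15968 : n52696 = n17398 := ((((iv4 F83205)).symm.trans (sb E15966 F161608))).symm
theorem E15969 : n52652 = n48715 := ((F83199).symm.trans (sb E15966 (iv7 D105377)))
theorem F161661 : act 2 n48716 = n25557 := (sb E15967 F83201)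
theorem E15970 : n35938 = n25577 := (((F114619).symm.trans (sb E15967 F83206))).symm
theorem E15971 : n105374 = n25556 := ((F161604).symm.trans (sb E15967 (iv7 D52657)))
theorem E15972 : n35933 = n25576 := ((F56623).symm.trans (sb E15968 (iv7 D52696)))
theorem F161662 : act 7 n48715 = n25557 := (sb E15969 (iv7 F83199))
theorem F161663 : act 2 n25577 = n17398 := (sb E15970 F56624)
theorem E15975 : n78944 = n52697 := (((D52697).symm.trans (sb E15970 (iv3 F120131)))).symm
theorem E15976 : n78949 = n52699 := (((D52699).symm.trans (sb E15970 (iv5 F120135)))).symm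
theorem E15977 : n78953 = n52700 := (((D52700).symm.trans (sb E15970 D78953))).symm
theorem E15978 : n52691 = n17397 := ((F83268).symm.trans (sb E15970 (iv7 D35938)))
theorem F161664 : act 2 n25556 = n48715 := (sb E15971 (iv2 D105374))
theorem F161665 : act 7 n25556 = n48716 := (sb E15971 (iv7 F161604))
theorem E15979 : n78935 = n52692 := (((D52692).symm.trans (sb E15972 D78935))).symm
theorem E15980 : n78936 = n52694 := (((D52694).symm.trans (sb E15972 D78936))).symm
theorem E15981 : n78937 = n52695 := (((D52695).symm.trans (sb E15972 D78937))).symm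
theorem F161666 : act 7 n25576 = n17398 := (sb E15972 (iv7 F56623))
theorem F161667 : act 7 n52697 = n35934 := (sb E15975 (iv7 D78944))
theorem F161668 : act 2 n52699 = n35941 := (sb E15976 F120134)
theorem F161669 : act 7 n52699 = n35936 := (sb E15976 (iv7 D78949))
theorem F161670 : act 2 n52700 = n35942 := (sb E15977 F120137)
theorem F161671 : act 2 n17397 = n25576 := (sb E15978 (iv2 D52691))
theorem F161672 : act 7 n17397 = n25577 := (sb E15978 (iv7 F83268))
theorem F161673 : act 7 n52692 = n35939 := (sb E15979 F120125)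
theorem F161674 : act 2 n52694 = n35936 := (sb E15980 F120126)
theorem F161675 : act 7 n52694 = n35941 := (sb E15980 F120127)
theorem F161676 : act 2 n52695 = n35937 := (sb E15981 F120128)
theorem F161677 : act 2 n52656 = n105376 := d1_3 F161605 F161676 (iv4 F83210)
theorem F161678 : act 2 n52762 = n60010 := d2_3 (iv5 F94474) F161676 F83353
theorem F161679 : act 7 n60009 = n52762 := d15_2 F94473 F94479 F161678
theorem F161680 : act 7 n52761 = n60010 := d15_2 F94480 F94482 (iv2 F161678)
theorem F161681 : act 2 n60009 = n52761 := d4_3 F161680 (iv2 F161678) (iv7 F161679)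
theorem F161682 : act 5 n78952 = n60009 := d13_3 F161679 (iv5 F83353) D78952
theorem F161683 : act 2 n52136 = n52178 := d2_3 (iv5 F83200) F161677 F161606
theorem F161684 : act 7 n52177 = n52136 := d15_2 F82496 F82499 F161683
theorem F161685 : act 7 n52135 = n52178 := d15_2 F82500 F82501 (iv2 F161683)
theorem F161686 : act 2 n52177 = n52135 := d4_3 F161685 (iv2 F161683) (iv7 F161684)
theorem F161687 : act 7 n105378 = n52653 := d8_2 F161665 D105378 (iv3 D52653)
theorem F161688 : act 7 n105379 = n52655 := d13_2 F161665 D105379 (iv5 D52655)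
theorem F161689 : act 2 n52655 = n105375 := d4_1 F161688 (iv7 F161660) F161611
theorem F161690 : act 7 n104716 = n96232 := d11_2 F161688 (iv4 F161630) F161612
theorem F161691 : act 1 n52660 = n94037 := d15_0 (iv0 F161625) (iv7 F161688) (iv2 F161611)
theorem E15982 : n104717 = n104587 := ((c20_1 (iv4 F160238) (iv1 D104717) F76132 F68314 F63331 D41311 F63637 (iv1 F66515) (iv4 F69095) (iv3 F144876) (iv1 F161691))).symm
theorem F161692 : act 0 n104587 = n48419 := (sb E15982 (iv1 D104717))
theorem F161693 : act 1 n104587 = n104703 := (sb E15982 F160412)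
theorem F161694 : act 0 n92425 = n94036 := d21_7 (iv5 D52660) (iv1 D25557) D25558 F40428 (iv1 F32391) D43229 D92425 (iv5 D94036) D94037 (iv1 F161691)
theorem F161695 : act 0 n88501 = n92697 := d20_4 (iv4 D19441) D19439 D41309 D88501 F142873 (iv4 F160238) F161692 F76132 F68314 F63331
theorem F161696 : act 2 n104702 = n104716 := d15_3 (iv0 D104716) (iv0 F161692) (iv7 F161659)
theorem F161697 : act 7 n52658 = n92439 := d8_2 F161662 D52658 F142186
theorem F161698 : act 2 n92439 = n78994 := d15_3 (iv0 D78994) (iv0 F142196) F161697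
theorem F161699 : act 2 n52658 = n92440 := d15_3 F142187 F142194 (iv7 F161697)
theorem F161700 : act 7 n92440 = n78994 := d4_2 (iv7 F161697) F161699 (iv2 F161698)
def n105380 : Q := act 6 n48716
theorem D105380 : act 6 n48716 = n105380 := rfl
theorem F161701 : act 2 n105380 = n52661 := d3_1 D105380 (iv6 D52661) (iv2 F161661)
theorem F161702 : act 4 n105380 = n52700 := d10_1 D105380 (iv6 D52700) (iv4 F114619)
def n105381 : Q := act 5 n48719
theorem D105381 : act 5 n48719 = n105381 := rfl
theorem F161703 : act 2 n105381 = n52729 := d2_1 D105381 (iv5 D52729) (iv2 F76703)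
theorem F161704 : act 3 n105381 = n54642 := d6_1 D105381 (iv5 D54642) (iv3 F76704)
theorem F161705 : act 6 n105381 = n90819 := d12_2 D48719 D105381 (iv5 F161593) (iv6 D105371) F76675
theorem F161706 : act 0 n105381 = n92814 := d17_2 F76705 D105381 (iv5 D92814) (iv4 D43427) D43428 D92816 (iv5 F143179) (iv0 F76726) (iv4 F40684)
theorem F161707 : act 1 n105381 = n76290 := d17_6 (iv1 F139477) D90595 F139490 (iv5 D52745) F77182 D105381 F114336 F138569 (iv4 F139475)
def n105382 : Q := act 6 n48720
theorem D105382 : act 6 n48720 = n105382 := rfl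
theorem F161708 : act 2 n105382 = n48722 := d3_1 D105382 (iv6 D48722) (iv2 F76706)
theorem F161709 : act 3 n105382 = n52712 := d7_1 D105382 (iv6 D52712) (iv3 F76707)
def n105383 : Q := act 0 n48721
theorem D105383 : act 0 n48721 = n105383 := rfl
theorem F161710 : act 5 n105383 = n58265 := d17_1 D105383 (iv1 F92122) (iv5 F108974) F108973 (iv5 D43276) (iv0 F32466) D25564 (iv0 F55471) D48721
theorem F161711 : act 4 n105383 = n92813 := d18_1 D105383 F143172 (iv4 F107030) (iv5 F90765) F109150 (iv0 F109152) F108790 F90060 F90057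
theorem F161712 : act 3 n105383 = n72959 := d20_5 (iv4 D34906) (iv1 F27842) D26443 (iv3 F76712) D105383 F109465 (iv1 F55726) D70186 (iv3 F107805) F107806
theorem F161713 : act 2 n52739 = n105383 := d15_3 (iv0 D105383) (iv0 F76714) (iv7 F87744)
theorem F161714 : act 1 n52730 = n105383 := d15_0 (iv0 D105383) F76713 (iv2 F83316)
theorem F161715 : act 7 n105383 = n52738 := d15_2 (iv0 F83317) F161714 (iv2 F87745)
def n105384 : Q := act 6 n48721
theorem D105384 : act 6 n48721 = n105384 := rfl
theorem F161716 : act 3 n105384 = n54672 := d7_1 D105384 (iv6 D54672) (iv3 F76712)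
theorem F161717 : act 4 n105384 = n48722 := d10_1 D105384 (iv6 D48722) D48721
def n105385 : Q := act 0 n48722
theorem D105385 : act 0 n48722 = n105385 := rfl
def n105386 : Q := act 1 n48722
theorem D105386 : act 1 n48722 = n105386 := rfl
def n105387 : Q := act 7 n48722
theorem D105387 : act 7 n48722 = n105387 := rfl
theorem F161718 : act 3 n105387 = n48725 := d8_1 D105387 (iv7 D48725) (iv3 F76715)
theorem F161719 : act 6 n105387 = n52744 := d14_1 D105387 (iv7 D52744) (iv6 D25604) (iv7 F37034) D48722
def n105388 : Q := act 2 n48723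
theorem D105388 : act 2 n48723 = n105388 := rfl
theorem F161720 : act 4 n105388 = n52751 := d1_2 (iv4 F94481) D105388 (iv2 D52751)
theorem F161721 : act 7 n48724 = n105388 := d15_2 (iv0 D48723) D48724 (iv2 D105388)
theorem E15983 : n52758 = n48724 := (c11_4 F161721 F161720 (iv7 F83350) D52758)
theorem F161722 : act 4 n48724 = n25610 := (sb E15983 (iv4 D52758))
def n105389 : Q := act 3 n48723
theorem D105389 : act 3 n48723 = n105389 := rfl
def n105390 : Q := act 5 n48723
theorem D105390 : act 5 n48723 = n105390 := rfl
def n105391 : Q := act 7 n48723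
theorem D105391 : act 7 n48723 = n105391 := rfl
theorem F161724 : act 4 n105391 = n52756 := d11_1 D105391 (iv7 D52756) (iv4 F94481)
def n105392 : Q := act 3 n48724
theorem D105392 : act 3 n48724 = n105392 := rfl
def n105393 : Q := act 5 n48724
theorem D105393 : act 5 n48724 = n105393 := rfl
def n105394 : Q := act 6 n48724
theorem D105394 : act 6 n48724 = n105394 := rfl
theorem F161725 : act 4 n105394 = n52760 := d10_1 D105394 (iv6 D52760) (iv4 F161722)
def n105395 : Q := act 6 n48731
theorem D105395 : act 6 n48731 = n105395 := rfl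
theorem F161726 : act 2 n105395 = n52829 := d3_1 D105395 (iv6 D52829) (iv2 F106565)
theorem F161727 : act 0 n55272 = n105395 := d21_4 F68970 (iv1 F63629) (iv5 F133598) F161640 (iv6 D105395) F76733 (iv1 F37421) D34859 F55126 D43868
def n105396 : Q := act 4 n48732
theorem D105396 : act 4 n48732 = n105396 := rfl
theorem F161728 : act 2 n105396 = n52824 := d1_1 D105396 (iv4 D52824) (iv2 F106559)
theorem F161729 : act 5 n105396 = n60262 := d9_2 (iv5 F76735) D105396 F94815 (iv5 F161710) F161711 (iv5 D92813) (iv4 F68284) (iv5 F76733) (iv4 F109325) (iv5 D72824) F52877 D33599 (iv4 F83470) F83469 F55114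
theorem F161730 : act 7 n105396 = n52828 := d11_2 (iv7 F106560) D105396 (iv4 D52828)
theorem F161731 : act 0 n105396 = n54789 := d17_0 (iv5 F109151) (iv1 D72622) (iv5 F94825) F94824 (iv5 F76680) (iv0 D23764) D23766 D48732 D105396
def n105397 : Q := act 6 n48732
theorem D105397 : act 6 n48732 = n105397 := rfl
theorem F161732 : act 2 n105397 = n52825 := d3_1 D105397 (iv6 D52825) (iv2 F106559)
def n105398 : Q := act 0 n48733
theorem D105398 : act 0 n48733 = n105398 := rfl
def n105399 : Q := act 1 n48733
theorem D105399 : act 1 n48733 = n105399 := rfl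
def n105400 : Q := act 7 n48733
theorem D105400 : act 7 n48733 = n105400 := rfl
theorem F161733 : act 3 n105400 = n48737 := d8_1 D105400 (iv7 D48737) (iv3 F76736)
theorem F161734 : act 6 n105400 = n52837 := d14_1 D105400 (iv7 D52837) (iv6 D25645) (iv7 F37040) D48733
def n105401 : Q := act 3 n48734
theorem D105401 : act 3 n48734 = n105401 := rfl
theorem F161735 : act 7 n105401 = n52795 := d8_2 (iv7 F145372) D105401 (iv3 D52795)
def n105402 : Q := act 5 n48734
theorem D105402 : act 5 n48734 = n105402 := rfl
theorem F161736 : act 2 n105402 = n52792 := d2_1 D105402 (iv5 D52792) (iv2 F145371)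
theorem F161737 : act 7 n105402 = n52797 := d13_2 (iv7 F145372) D105402 (iv5 D52797)
def n105403 : Q := act 6 n48734
theorem D105403 : act 6 n48734 = n105403 := rfl
theorem F161738 : act 2 n105403 = n52793 := d3_1 D105403 (iv6 D52793) (iv2 F145371)
theorem F161739 : act 4 n105403 = n75148 := d10_1 D105403 (iv6 D75148) (iv4 F136453)
theorem F161740 : act 5 n105403 = n55982 := d21_6 (iv5 D5091) D5089 D11131 D23768 D48734 D105403 (iv1 D55982) (iv5 D26992) (iv6 D12921) F9526
theorem F161741 : act 2 n55982 = n53000 := d2_1 F161740 (iv5 F83720) (iv2 F161738)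
theorem F161742 : act 7 n52999 = n55982 := d15_2 F88594 F88595 F161741
theorem F161743 : act 7 n55981 = n53000 := d15_2 F88590 F88593 (iv2 F161741)
theorem F161744 : act 2 n52999 = n55981 := d4_3 F161743 (iv2 F161741) (iv7 F161742)
def n105404 : Q := act 3 n48735
theorem D105404 : act 3 n48735 = n105404 := rfl
theorem F161745 : act 7 n105404 = n52790 := d8_2 (iv7 F145382) D105404 (iv3 D52790)
def n105405 : Q := act 5 n48735
theorem D105405 : act 5 n48735 = n105405 := rfl
theorem F161746 : act 2 n105405 = n52797 := d2_1 D105405 (iv5 D52797) (iv2 F145380)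
theorem F161747 : act 7 n105405 = n52792 := d13_2 (iv7 F145382) D105405 (iv5 D52792)
theorem F161748 : act 1 n52797 = n53065 := d15_0 (iv0 F83766) (iv7 F161747) F161746
def n105406 : Q := act 6 n48735
theorem D105406 : act 6 n48735 = n105406 := rfl
theorem F161749 : act 2 n105406 = n52798 := d3_1 D105406 (iv6 D52798) (iv2 F145380)
theorem F161750 : act 4 n105406 = n75153 := d10_1 D105406 (iv6 D75153) (iv4 F145381)
def n105407 : Q := act 0 n48736
theorem D105407 : act 0 n48736 = n105407 := rfl
def n105408 : Q := act 4 n48736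
theorem D105408 : act 4 n48736 = n105408 := rfl
theorem F161751 : act 2 n105408 = n52801 := d1_1 D105408 (iv4 D52801) (iv2 F76738)
theorem F161752 : act 6 n105408 = n48738 := d10_2 (iv6 F76739) D105408 (iv4 D48738)
def n105409 : Q := act 7 n48736
theorem D105409 : act 7 n48736 = n105409 := rfl
theorem F161753 : act 2 n105409 = n52802 := d4_1 D105409 (iv7 D52802) (iv2 F76738)
theorem F161754 : act 5 n105409 = n48737 := d13_1 D105409 (iv7 D48737) D48736
theorem F161755 : act 1 n52802 = n105407 := d15_0 (iv0 D105407) D105409 F161753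
theorem F161756 : act 1 n52800 = n105409 := d15_1 D52800 (iv7 D105409) F76738
theorem F161757 : act 7 n105407 = n52800 := d15_2 (iv0 F114604) F161755 (iv2 F153456)
theorem F161758 : act 5 n53063 = n105407 := d21_0 (iv1 F161755) F83399 (iv6 F54601) (iv1 F54603) D52853 (iv5 F83756) (iv1 F83760) (iv5 D25741) D25742 D53063
theorem F161759 : act 7 n76312 = n53063 := d13_0 F161758 F161757 (iv5 F114417)
theorem F161760 : act 1 n78952 = n53060 := d17_8 D53063 F161758 (iv1 F161755) F83399 F40527 (iv5 F83355) F94479 (iv5 F161682) F83764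
theorem F161761 : act 2 n53063 = n76454 := d4_1 F161759 (iv7 D76454) (iv2 F153454)
theorem F161762 : act 6 n53063 = n76469 := d14_1 F161759 (iv7 D76469) (iv6 D34931) (iv7 F153446) D76312
theorem F161763 : act 1 n76452 = n53063 := d15_1 D76452 (iv7 F161759) F153454
theorem F161764 : act 2 n53066 = n76452 := d15_3 F161763 (iv0 D53063) D53066
theorem F161765 : act 7 n76452 = n53051 := d4_2 D53066 F161764 F83761
theorem F161766 : act 6 n53050 = n76452 := d14_5 F161765 (iv6 D53051) (iv7 D25738) D25737 D53050
theorem E15984 : n53064 = n34926 := (c15_1 D53064 D76452 F161765 F83761)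
theorem E15985 : n76451 = n25742 := ((D76451).symm.trans (sb E15984 (iv1 D53064)))
theorem F161767 : act 1 n25742 = n34926 := (sb E15985 (iv0 D76451))
theorem F161768 : act 5 n51070 = n53050 := d21_2 (iv5 F38888) D51070 F161766 (iv1 D76452) (iv6 D34926) D34925 D76446 F114598 (iv6 D55275) (iv1 D26709)
theorem F161769 : act 7 n49697 = n51070 := d13_0 F161768 (iv7 D53050) F78524
theorem F161770 : act 2 n51070 = n49696 := d15_3 (iv0 D49696) D49697 F161769
theorem F161771 : act 2 n49697 = n51071 := d15_3 F80536 F80540 (iv7 F161769)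
theorem E15986 : n53029 = n48763 := ((c2_3 F78524 F161771 (iv5 F80537) F83747)).symm
theorem F161772 : act 2 n48763 = n25737 := (sb E15986 F83747)
theorem E15987 : n25733 = n23781 := ((((iv6 D48763)).symm.trans (sb E15986 (iv6 D53029)))).symm
theorem E15988 : n53024 = n12219 := ((((iv1 F37058)).symm.trans (sb E15987 D53024))).symm
theorem E15990 : n48759 = n12217 := ((D48759).symm.trans (sb E15987 (iv2 D25733)))
theorem E15991 : n53026 = n48760 := (((D48760).symm.trans (sb E15987 D53026))).symm
theorem E15992 : n53027 = n48761 := (((D48761).symm.trans (sb E15987 D53027))).symm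
theorem E15993 : n53028 = n48762 := (((D48762).symm.trans (sb E15987 D53028))).symm
theorem E15994 : n48764 = n12218 := ((D48764).symm.trans (sb E15987 (iv7 F40658)))
theorem E15995 : n25738 = n23782 := ((((iv1 F37056)).symm.trans (sb E15988 (iv1 F83740)))).symm
theorem F161773 : act 2 n12217 = n23781 := (sb E15990 (iv2 D48759))
theorem F161774 : act 7 n48760 = n25739 := (sb E15991 F83742)
theorem F161775 : act 2 n48761 = n25735 := (sb E15992 F83743)
theorem F161776 : act 7 n48761 = n25740 := (sb E15992 F83744)
theorem F161777 : act 2 n48762 = n25736 := (sb E15993 F83745)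
theorem F161778 : act 7 n48762 = n25741 := (sb E15993 F83746)
theorem F161779 : act 7 n12218 = n23781 := (sb E15994 (iv7 D48764))
theorem F161780 : act 2 n23782 = n12218 := (sb E15995 F40659)
theorem E15996 : n53036 = n48765 := (((D48765).symm.trans (sb E15995 (iv3 F83750)))).symm
theorem E15997 : n53042 = n48766 := (((D48766).symm.trans (sb E15995 (iv4 F83754)))).symm
theorem E15998 : n53047 = n48767 := (((D48767).symm.trans (sb E15995 (iv5 F83759)))).symm
theorem E15999 : n53051 = n48768 := (((D48768).symm.trans (sb E15995 D53051))).symm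
theorem F161781 : act 7 n23782 = n12217 := (sb E15995 (iv7 D25738))
theorem F161782 : act 7 n48765 = n25734 := (sb E15996 (iv7 D53036))
theorem F161783 : act 2 n48766 = n25740 := (sb E15997 F83753)
theorem F161784 : act 7 n48766 = n25735 := (sb E15997 (iv7 D53042))
theorem F161785 : act 2 n48767 = n25741 := (sb E15998 F83758)
theorem F161786 : act 7 n48767 = n25736 := (sb E15998 (iv7 D53047))
theorem F161787 : act 2 n48768 = n25742 := (sb E15999 F83761)
theorem F161788 : act 7 n48768 = n76452 := (sb E15999 (iv7 F161765))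
theorem F161789 : act 7 n51071 = n49696 := d4_2 (iv7 F161769) F161771 (iv2 F161770)
theorem F161790 : act 2 n53062 = n67851 := d3_3 F103898 F161785 D53062
theorem F161791 : act 7 n67852 = n53062 := d15_2 (iv0 D67851) D67852 F161790
theorem F161792 : act 0 n76469 = n53072 := d21_10 F114490 (iv1 D76381) (iv5 D34897) (iv6 D16921) (iv1 F18073) D23768 D48736 D105407 (iv5 F161758) F161762
theorem F161793 : act 1 n76317 = n53072 := d15_0 (iv0 F161792) (iv7 D76469) (iv2 F153443)
theorem F161794 : act 2 n105407 = n52799 := d15_3 (iv0 D52799) D52800 (iv7 F161757)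
theorem F161795 : act 5 n52799 = n76454 := d2_2 F161758 F161794 (iv2 F161761)
theorem F161796 : act 7 n52799 = n76453 := d4_2 (iv7 F161757) F161794 F153456
theorem F161797 : act 1 n105409 = n52799 := d15_1 F161756 F161796 F153456
def n105410 : Q := act 3 n48738
theorem D105410 : act 3 n48738 = n105410 := rfl
theorem F161798 : act 5 n105410 = n52192 := d6_2 (iv5 F76747) D105410 F82518
theorem F161799 : act 7 n105410 = n52191 := d8_2 (iv7 F76748) D105410 F82517
def n105411 : Q := act 0 n48739
theorem D105411 : act 0 n48739 = n105411 := rfl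
def n105412 : Q := act 1 n48739
theorem D105412 : act 1 n48739 = n105412 := rfl
def n105413 : Q := act 5 n48739
theorem D105413 : act 5 n48739 = n105413 := rfl
theorem F161800 : act 3 n105413 = n49287 := d6_1 D105413 (iv5 F107026) F107024
theorem F161801 : act 6 n105413 = n48740 := d12_2 D48739 D105413 (iv5 D48740) (iv6 D23772) D23771
def n105414 : Q := act 7 n48739
theorem D105414 : act 7 n48739 = n105414 := rfl
def n105415 : Q := act 4 n48740
theorem D105415 : act 4 n48740 = n105415 := rfl
theorem F161802 : act 1 n105415 = n76603 := d18_6 F52363 (iv4 D33129) F50586 (iv4 F37051) D48740 D105415 (iv4 D76603) (iv0 F97906) (iv5 D62758)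
def n105416 : Q := act 4 n48742
theorem D105416 : act 4 n48742 = n105416 := rfl
theorem F161803 : act 2 n105416 = n57615 := d1_1 D105416 F107030 F107027
theorem F161804 : act 7 n105416 = n57614 := d11_2 F86645 D105416 F90762
theorem F161805 : act 5 n105416 = n57078 := d17_5 (iv1 F83452) (iv5 D52814) F42423 D48742 D105416 (iv0 D57078) (iv5 F44463) (iv0 F92115) F92116
theorem F161806 : act 0 n105416 = n52671 := d18_2 F114397 D105416 (iv4 D52671) (iv5 D25567) (iv4 F40387) (iv0 F40388) (iv4 F31858) (iv0 F55120) D76301
theorem F161807 : act 1 n105416 = n52668 := d18_6 D23759 D48718 F76701 F42421 D48742 D105416 (iv4 D52668) (iv0 F55471) (iv5 D23762)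
def n105417 : Q := act 6 n48742
theorem D105417 : act 6 n48742 = n105417 := rfl
theorem F161808 : act 3 n105417 = n48745 := d7_1 D105417 (iv6 D48745) (iv3 F76758)
theorem F161809 : act 5 n105417 = n92823 := d12_1 D105417 (iv6 D92823) F83441 (iv6 D48743) D48742
theorem F161810 : act 0 n105417 = n92521 := d21_4 (iv5 D52814) F42423 D48742 D105417 (iv6 D92521) (iv5 D43288) F63422 D20784 (iv6 F68287) (iv1 F83452)
def n105418 : Q := act 6 n48744
theorem D105418 : act 6 n48744 = n105418 := rfl
def n105419 : Q := act 0 n48745
theorem D105419 : act 0 n48745 = n105419 := rfl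
def n105420 : Q := act 1 n48745
theorem D105420 : act 1 n48745 = n105420 := rfl
def n105421 : Q := act 5 n48745
theorem D105421 : act 5 n48745 = n105421 := rfl
theorem F161813 : act 3 n105421 = n92823 := d6_1 D105421 (iv5 F161809) F161808
theorem F161814 : act 6 n105421 = n48746 := d12_2 D48745 D105421 (iv5 D48746) (iv6 D23775) D23774
def n105422 : Q := act 7 n48745
theorem D105422 : act 7 n48745 = n105422 := rfl
def n105423 : Q := act 4 n48746
theorem D105423 : act 4 n48746 = n105423 := rfl
def n105424 : Q := act 6 n48747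
theorem D105424 : act 6 n48747 = n105424 := rfl
theorem F161815 : act 2 n105424 = n48755 := d3_1 D105424 (iv6 D48755) (iv2 F76765)
theorem F161816 : act 4 n105424 = n48748 := d10_1 D105424 (iv6 D48748) D48747
def n105425 : Q := act 0 n48748
theorem D105425 : act 0 n48748 = n105425 := rfl
def n105426 : Q := act 1 n48748
theorem D105426 : act 1 n48748 = n105426 := rfl
theorem F161817 : act 1 n105426 = n48758 := d15_1 D105426 (iv7 D48758) (iv2 F76768)
def n105427 : Q := act 7 n48748
theorem D105427 : act 7 n48748 = n105427 := rfl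
theorem F161818 : act 2 n105427 = n48758 := d4_1 D105427 (iv7 D48758) (iv2 F76768)
theorem F161819 : act 3 n105427 = n52927 := d8_1 D105427 (iv7 D52927) (iv3 F76769)
theorem F161820 : act 1 n48758 = n105425 := d15_0 (iv0 D105425) D105427 F161818
theorem F161821 : act 1 n48757 = n105427 := d15_1 D48757 (iv7 D105427) F76768
theorem F161822 : act 1 n105427 = n48756 := d15_0 (iv0 D48756) D48758 (iv2 F161818)
def n105428 : Q := act 6 n48750
theorem D105428 : act 6 n48750 = n105428 := rfl
theorem F161823 : act 2 n105428 = n52987 := d3_1 D105428 F83715 F77543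
theorem F161824 : act 3 n105428 = n48752 := d7_1 D105428 (iv6 D48752) D48750
theorem F161825 : act 5 n105428 = n52980 := d12_1 D105428 (iv6 D52980) F40634 (iv6 F51466) (iv5 F76772)
theorem F161826 : act 7 n105428 = n94248 := d14_2 (iv7 F76773) D105428 (iv6 D94248) (iv7 D44057) (iv6 F65481)
def n105429 : Q := act 6 n48751
theorem D105429 : act 6 n48751 = n105429 := rfl
theorem F161827 : act 2 n105429 = n84408 := d3_1 D105429 (iv6 D84408) (iv2 F76774)
theorem F161828 : act 4 n105429 = n48752 := d10_1 D105429 (iv6 D48752) D48751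
def n105430 : Q := act 0 n48752
theorem D105430 : act 0 n48752 = n105430 := rfl
def n105431 : Q := act 1 n48752
theorem D105431 : act 1 n48752 = n105431 := rfl
theorem F161829 : act 5 n71467 = n105431 := d21_6 (iv5 D15941) (iv1 D7469) D7470 D15946 D33064 D71467 (iv1 D105431) (iv5 F88582) (iv6 D55966) (iv1 F43573)
def n105432 : Q := act 7 n48752
theorem D105432 : act 7 n48752 = n105432 := rfl
theorem F161830 : act 3 n105432 = n94248 := d8_1 D105432 (iv7 F161826) F161824
theorem F161831 : act 6 n105432 = n94241 := d14_1 D105432 (iv7 D94241) F69360 F40643 D48752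
def n105433 : Q := act 6 n48753
theorem D105433 : act 6 n48753 = n105433 := rfl
def n105434 : Q := act 6 n48754
theorem D105434 : act 6 n48754 = n105434 := rfl
theorem F161834 : act 2 n105434 = n86586 := d3_1 D105434 (iv6 D86586) (iv2 F76778)
theorem F161835 : act 3 n105434 = n96631 := d7_1 D105434 (iv6 D96631) (iv3 F76779)
theorem F161836 : act 4 n105434 = n86583 := d10_1 D105434 (iv6 D86583) (iv4 F76780)
def n105435 : Q := act 0 n48755
theorem D105435 : act 0 n48755 = n105435 := rfl
def n105436 : Q := act 1 n48755
theorem D105436 : act 1 n48755 = n105436 := rfl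
def n105437 : Q := act 5 n48755
theorem D105437 : act 5 n48755 = n105437 := rfl
def n105438 : Q := act 7 n48755
theorem D105438 : act 7 n48755 = n105438 := rfl
theorem F161837 : act 4 n105438 = n48758 := d11_1 D105438 (iv7 D48758) (iv4 F76782)
def n105439 : Q := act 2 n48756
theorem D105439 : act 2 n48756 = n105439 := rfl
theorem F161838 : act 7 n48757 = n105439 := d15_2 (iv0 D48756) D48757 (iv2 D105439)
def n105440 : Q := act 3 n48756
theorem D105440 : act 3 n48756 = n105440 := rfl
def n105441 : Q := act 4 n48756
theorem D105441 : act 4 n48756 = n105441 := rfl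
def n105442 : Q := act 5 n48756
theorem D105442 : act 5 n48756 = n105442 := rfl
def n105443 : Q := act 6 n48756
theorem D105443 : act 6 n48756 = n105443 := rfl
def n105444 : Q := act 7 n48756
theorem D105444 : act 7 n48756 = n105444 := rfl
theorem F161839 : act 2 n105444 = n48757 := d4_1 D105444 F161838 (iv2 D105439)
def n105445 : Q := act 3 n48757
theorem D105445 : act 3 n48757 = n105445 := rfl
def n105446 : Q := act 4 n48757
theorem D105446 : act 4 n48757 = n105446 := rfl
def n105447 : Q := act 5 n48757
theorem D105447 : act 5 n48757 = n105447 := rfl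
def n105448 : Q := act 6 n48757
theorem D105448 : act 6 n48757 = n105448 := rfl
def n105449 : Q := act 0 n48760
theorem D105449 : act 0 n48760 = n105449 := rfl
theorem F161840 : act 1 n53054 = n105449 := d15_0 (iv0 D105449) F161774 D53054
def n105450 : Q := act 1 n48760
theorem D105450 : act 1 n48760 = n105450 := rfl
def n105451 : Q := act 2 n48760
theorem D105451 : act 2 n48760 = n105451 := rfl
theorem F161841 : act 3 n105451 = n53032 := d0_2 D48760 D105451 (iv2 D53032) (iv3 D25734) F161773
theorem F161842 : act 7 n105451 = n53054 := d4_2 (iv7 F161774) D105451 (iv2 D53054)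
theorem F161843 : act 1 n105451 = n53052 := d15_0 (iv0 D53052) (iv7 F161774) D105451
theorem F161844 : act 1 n105450 = n53054 := d15_1 D105450 (iv7 F161842) (iv2 D105451)
theorem F161845 : act 1 n53053 = n105451 := d15_1 D53053 F161842 (iv2 D53054)
def n105452 : Q := act 4 n48760
theorem D105452 : act 4 n48760 = n105452 := rfl
theorem F161846 : act 7 n105452 = n53055 := d11_2 (iv7 F161774) D105452 (iv4 D53055)
def n105453 : Q := act 5 n48760
theorem D105453 : act 5 n48760 = n105453 := rfl
theorem F161847 : act 3 n105453 = n48762 := d6_1 D105453 (iv5 D48762) D48760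
theorem F161848 : act 7 n105453 = n53056 := d13_2 (iv7 F161774) D105453 (iv5 D53056)
def n105454 : Q := act 6 n48760
theorem D105454 : act 6 n48760 = n105454 := rfl
theorem F161849 : act 3 n105454 = n48763 := d7_1 D105454 (iv6 D48763) D48760
def n105455 : Q := act 0 n48761
theorem D105455 : act 0 n48761 = n105455 := rfl
theorem F161850 : act 1 n48766 = n105455 := d15_0 (iv0 D105455) F161776 (iv2 F161783)
def n105457 : Q := act 3 n48761
theorem D105457 : act 3 n48761 = n105457 := rfl
theorem F161852 : act 7 n105457 = n53058 := d8_2 (iv7 F161776) D105457 (iv3 D53058)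
def n105458 : Q := act 5 n48761
theorem D105458 : act 5 n48761 = n105458 := rfl
theorem F161853 : act 2 n105458 = n53040 := d2_1 D105458 (iv5 D53040) (iv2 F161775)
theorem F161854 : act 7 n105458 = n53059 := d13_2 (iv7 F161776) D105458 (iv5 D53059)
def n105459 : Q := act 6 n48761
theorem D105459 : act 6 n48761 = n105459 := rfl
theorem F161855 : act 2 n105459 = n53041 := d3_1 D105459 (iv6 D53041) (iv2 F161775)
theorem F161856 : act 4 n105459 = n48763 := d10_1 D105459 (iv6 D48763) D48761
def n105460 : Q := act 0 n48762
theorem D105460 : act 0 n48762 = n105460 := rfl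
theorem F161857 : act 5 n105460 = n75153 := d21_2 D48762 D105460 (iv6 D75153) (iv1 D34413) (iv6 D16684) (iv5 D7762) F5541 D5091 D11137 D23781
theorem F161858 : act 1 n48767 = n105460 := d15_0 (iv0 D105460) F161778 (iv2 F161785)
theorem F161859 : act 0 n48768 = n76454 := d21_10 (iv5 F161795) (iv1 F161797) F161754 F76742 (iv1 F54597) D75153 (iv5 F161857) (iv1 F161858) (iv5 D48767) D48768
theorem F161860 : act 1 n48768 = n76312 := d15_1 (iv0 F161859) F161759 F161761
theorem F161861 : act 1 n53066 = n76454 := d15_0 (iv0 F161859) F161788 (iv2 F161764)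
theorem F161862 : act 1 n76312 = n53066 := d15_0 F161861 (iv7 D76454) (iv2 F153454)
theorem F161863 : act 4 n53066 = n78951 := d17_9 (iv1 D78951) F83353 (iv1 D52762) (iv5 D25611) (iv4 F20182) D25626 D52800 (iv5 F114417) F161862
theorem F161864 : act 7 n78951 = n53060 := d11_2 D53066 F161863 F83764
theorem F161865 : act 2 n53060 = n78950 := d15_3 (iv0 D78950) D78951 F161864
theorem F161866 : act 4 n78950 = n48768 := d1_2 (iv4 F83764) F161865 F161787
theorem F161867 : act 6 n78950 = n48766 := d3_2 D53060 F161865 F161783
theorem F161868 : act 2 n53043 = n105460 := d2_3 F161857 F145379 (iv5 F83756)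
theorem F161869 : act 7 n53044 = n105460 := d15_2 (iv0 D53043) D53044 (iv2 F161868)
def n105461 : Q := act 1 n48762
theorem D105461 : act 1 n48762 = n105461 := rfl
theorem F161870 : act 1 n105461 = n48767 := d15_1 D105461 F161786 (iv2 F161777)
theorem F161871 : act 7 n105461 = n53043 := d15_2 (iv0 D105460) D105461 F161868
theorem F161872 : act 2 n53044 = n105461 := d4_3 F161871 F161868 (iv7 F161869)
def n105462 : Q := act 4 n48762
theorem D105462 : act 4 n48762 = n105462 := rfl
theorem F161873 : act 2 n105462 = n53045 := d1_1 D105462 (iv4 D53045) (iv2 F161777)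
theorem F161874 : act 7 n105462 = n53061 := d11_2 (iv7 F161778) D105462 (iv4 D53061)
def n105463 : Q := act 6 n48762
theorem D105463 : act 6 n48762 = n105463 := rfl
theorem F161875 : act 2 n105463 = n53046 := d3_1 D105463 (iv6 D53046) (iv2 F161777)
def n105464 : Q := act 0 n48763
theorem D105464 : act 0 n48763 = n105464 := rfl
def n105465 : Q := act 1 n48763
theorem D105465 : act 1 n48763 = n105465 := rfl
theorem F161876 : act 1 n105465 = n53050 := d15_1 D105465 (iv7 D53050) (iv2 F161772)
theorem F161877 : act 4 n105465 = n76469 := d17_9 F161792 F114490 (iv1 D76381) (iv5 D34897) F27744 (iv5 F38888) D51071 (iv5 F80537) D105465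
theorem F161878 : act 7 n52998 = n105465 := d11_0 F161877 (iv7 D76469) (iv4 F136443)
theorem E16000 : n105464 = n55980 := ((c15_4 (iv0 D105464) D105465 (iv7 F161878) (iv2 F153467))).symm
theorem F161879 : act 1 n55980 = n48763 := (sb E16000 (iv0 D105464))
def n105466 : Q := act 7 n48763
theorem D105466 : act 7 n48763 = n105466 := rfl
theorem F161880 : act 2 n105466 = n53050 := d4_1 D105466 (iv7 D53050) (iv2 F161772)
theorem F161881 : act 5 n105466 = n49696 := d13_1 D105466 (iv7 F161789) (iv5 F80537)
theorem F161882 : act 6 n105466 = n53066 := d14_1 D105466 (iv7 D53066) (iv6 D25742) F161779 D48763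
theorem F161883 : act 1 n53050 = n55980 := d15_0 F161879 D105466 F161880
theorem F161884 : act 1 n53049 = n105466 := d15_1 D53049 (iv7 D105466) F161772
theorem F161885 : act 0 n52998 = n105466 := d17_0 F161881 (iv1 F80542) F80539 (iv4 F55217) (iv5 F114494) F114497 (iv5 F114609) (iv0 D76466) (iv4 F136443)
theorem E16001 : n53048 = n52998 := ((c15_1 (iv0 F161885) (iv0 D53048) D53050 (iv2 F161880))).symm
theorem F161886 : act 1 n52998 = n25737 := (sb E16001 (iv0 D53048))
theorem F161887 : act 2 n105465 = n53049 := d15_3 F161884 (iv0 F161885) F161878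
theorem F161888 : act 7 n53049 = n55980 := d4_2 F161878 F161887 F153467
def n105467 : Q := act 0 n48765
theorem D105467 : act 0 n48765 = n105467 := rfl
theorem F161889 : act 1 n53032 = n105467 := d15_0 (iv0 D105467) F161782 D53032
def n105468 : Q := act 1 n48765
theorem D105468 : act 1 n48765 = n105468 := rfl
def n105469 : Q := act 2 n48765
theorem D105469 : act 2 n48765 = n105469 := rfl
theorem F161890 : act 3 n105469 = n53054 := d0_2 D48765 D105469 (iv2 D53054) (iv3 D25739) (iv2 F161780)
theorem F161891 : act 7 n105469 = n53032 := d4_2 (iv7 F161782) D105469 (iv2 D53032)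
theorem F161893 : act 1 n105468 = n53032 := d15_1 D105468 (iv7 F161891) (iv2 D105469)
theorem F161894 : act 1 n53031 = n105469 := d15_1 D53031 F161891 (iv2 D53032)
def n105470 : Q := act 4 n48765
theorem D105470 : act 4 n48765 = n105470 := rfl
theorem F161895 : act 7 n105470 = n53033 := d11_2 (iv7 F161782) D105470 (iv4 D53033)
def n105471 : Q := act 5 n48765
theorem D105471 : act 5 n48765 = n105471 := rfl
theorem F161896 : act 3 n105471 = n48767 := d6_1 D105471 (iv5 D48767) D48765
theorem F161897 : act 7 n105471 = n53034 := d13_2 (iv7 F161782) D105471 (iv5 D53034)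
def n105472 : Q := act 6 n48765
theorem D105472 : act 6 n48765 = n105472 := rfl
theorem F161898 : act 3 n105472 = n48768 := d7_1 D105472 (iv6 D48768) D48765
def n105473 : Q := act 3 n48766
theorem D105473 : act 3 n48766 = n105473 := rfl
theorem F161899 : act 7 n105473 = n53039 := d8_2 (iv7 F161784) D105473 (iv3 D53039)
def n105474 : Q := act 5 n48766
theorem D105474 : act 5 n48766 = n105474 := rfl
theorem F161900 : act 2 n105474 = n53059 := d2_1 D105474 (iv5 D53059) (iv2 F161783)
theorem F161901 : act 7 n105474 = n53040 := d13_2 (iv7 F161784) D105474 (iv5 D53040)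
def n105475 : Q := act 4 n48767
theorem D105475 : act 4 n48767 = n105475 := rfl
theorem F161902 : act 2 n105475 = n53061 := d1_1 D105475 (iv4 D53061) (iv2 F161785)
theorem F161903 : act 7 n105475 = n53045 := d11_2 (iv7 F161786) D105475 (iv4 D53045)
def n105476 : Q := act 5 n48768
theorem D105476 : act 5 n48768 = n105476 := rfl
theorem F161904 : act 2 n105476 = n53065 := d2_1 D105476 (iv5 D53065) (iv2 F161787)
theorem F161905 : act 0 n105402 = n105476 := d21_1 D105402 (iv5 D105476) (iv6 D48768) (iv1 D23782) (iv6 D11137) (iv5 D5091) D5089 D11131 D23768 D48734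
theorem F161906 : act 1 n105405 = n105476 := d15_0 (iv0 F161905) F161737 (iv2 F161746)
def n105477 : Q := act 3 n48769
theorem D105477 : act 3 n48769 = n105477 := rfl
theorem F161907 : act 4 n105477 = n62961 := d5_2 (iv4 F76786) D105477 (iv3 D62961) (iv4 D29784) F40703
theorem F161908 : act 7 n105477 = n63075 := d8_2 F76789 D105477 (iv3 D63075)
def n105478 : Q := act 5 n48769
theorem D105478 : act 5 n48769 = n105478 := rfl
theorem F161909 : act 2 n105478 = n64091 := d2_1 D105478 (iv5 D64091) F76788
theorem F161910 : act 7 n105478 = n63076 := d13_2 F76789 D105478 (iv5 D63076)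
theorem F161911 : act 4 n105478 = n63906 := d16_2 (iv4 F76786) D105478 (iv5 D63906) F48454 F48138 F40105 D25370 (iv7 F40706) (iv2 F40704)
theorem F161912 : act 0 n105478 = n62029 := d17_2 D48769 D105478 (iv5 D62029) (iv4 D29372) (iv5 F23902) F38748 F38747 F23339 D23785
theorem F161913 : act 1 n105478 = n62021 := d17_6 F46663 F46661 D50098 F79302 (iv4 F76786) D105478 (iv5 D62021) (iv0 F48588) (iv4 D30205)
theorem F161914 : act 0 n62030 = n63691 := d21_4 D105478 F161912 (iv5 D62029) D62030 (iv6 D63691) (iv5 F93636) (iv1 D59362) (iv5 D28192) (iv6 F37062) D48769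
def n105479 : Q := act 6 n48769
theorem D105479 : act 6 n48769 = n105479 := rfl
theorem F161915 : act 2 n105479 = n64092 := d3_1 D105479 (iv6 D64092) F76788
theorem F161916 : act 4 n105479 = n53108 := d10_1 D105479 (iv6 D53108) (iv4 F76786)
def n105480 : Q := act 3 n48770
theorem D105480 : act 3 n48770 = n105480 := rfl
theorem F161917 : act 4 n105480 = n60492 := d5_2 (iv4 F76792) D105480 (iv3 D60492) F46348 (iv3 F40115)
theorem F161918 : act 7 n105480 = n60631 := d8_2 (iv7 F76791) D105480 F95235
def n105481 : Q := act 5 n48770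
theorem D105481 : act 5 n48770 = n105481 := rfl
theorem F161919 : act 2 n105481 = n63076 := d2_1 D105481 (iv5 D63076) F76793
theorem F161920 : act 4 n105481 = n63903 := d9_1 D105481 (iv5 D63903) F48458 (iv5 F45686) (iv4 F79303) F79302 (iv4 F76786) D105478 F161911 (iv5 D63906) F48454 F48138 F40105 D25370 (iv4 F76792)
theorem F161921 : act 7 n105481 = n64091 := d13_2 (iv7 F76791) D105481 (iv5 D64091)
theorem F161922 : act 0 n105481 = n62021 := d17_2 (iv1 F76790) D105481 (iv5 D62021) (iv4 D29369) (iv5 F23894) (iv0 D11724) (iv5 F10615) (iv0 F23006) D28848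
theorem F161923 : act 1 n105481 = n62029 := d17_6 D29811 F47970 (iv1 D25369) D25370 (iv4 F76792) D105481 (iv5 D62029) F47977 (iv4 D29812)
def n105482 : Q := act 6 n48770
theorem D105482 : act 6 n48770 = n105482 := rfl
theorem F161924 : act 2 n105482 = n63077 := d3_1 D105482 (iv6 D63077) F76793
theorem F161925 : act 4 n105482 = n52229 := d10_1 D105482 F82586 (iv4 F76792)
def n105483 : Q := act 0 n48771
theorem D105483 : act 0 n48771 = n105483 := rfl
def n105484 : Q := act 1 n48771
theorem D105484 : act 1 n48771 = n105484 := rfl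
theorem F161926 : act 4 n63777 = n105484 := d20_6 (iv4 D14244) F22526 (iv4 F23838) F48304 D30094 D63777 (iv1 D105484) (iv4 F93655) (iv3 D59372) F45614
def n105485 : Q := act 2 n48771
theorem D105485 : act 2 n48771 = n105485 := rfl
theorem F161927 : act 6 n105485 = n59358 := d3_2 (iv6 F76794) D105485 (iv2 D59358)
def n105486 : Q := act 5 n48771
theorem D105486 : act 5 n48771 = n105486 := rfl
theorem F161928 : act 3 n105486 = n48772 := d6_1 D105486 (iv5 D48772) D48771
def n105487 : Q := act 0 n48772
theorem D105487 : act 0 n48772 = n105487 := rfl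
theorem F161929 : act 5 n105487 = n53105 := d17_1 D105487 F83816 D60827 (iv4 F99804) (iv5 D64117) F48611 D30226 F99811 F99810
theorem F161930 : act 4 n105487 = n63914 := d18_1 D105487 (iv1 D63914) (iv4 F96683) F96679 F47178 F40700 (iv4 F76786) (iv0 D48769) D48772
theorem F161931 : act 1 n60818 = n105487 := d15_0 (iv0 D105487) (iv7 F96598) F96597
theorem F161932 : act 2 n64086 = n105487 := d1_3 F161930 (iv2 F99412) (iv4 F99697)
theorem F161933 : act 7 n63022 = n105487 := d11_0 F161930 F99410 (iv4 F98333)
def n105488 : Q := act 1 n48772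
theorem D105488 : act 1 n48772 = n105488 := rfl
theorem F161934 : act 1 n105488 = n60818 := d15_1 D105488 F95382 F76796
theorem F161935 : act 7 n105488 = n64086 := d15_2 (iv0 D105487) D105488 F161932
theorem F161936 : act 5 n105488 = n53106 := d17_7 (iv1 D13754) (iv5 D6547) F19482 D11141 D23785 D48772 D105488 F83821 (iv4 D28855)
theorem F161937 : act 4 n105488 = n63913 := d17_9 (iv1 F99408) F48639 (iv1 F48453) D63906 (iv4 F161911) (iv5 D105478) (iv0 D48769) D48772 D105488
theorem F161938 : act 2 n63022 = n105488 := d1_3 F161937 (iv2 F99406) (iv4 F98333)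
def n105489 : Q := act 6 n48772
theorem D105489 : act 6 n48772 = n105489 := rfl
theorem F161939 : act 5 n105489 = n59364 := d12_1 D105489 (iv6 D59364) (iv5 D28192) (iv6 F37062) D48772
def n105490 : Q := act 0 n48773
theorem D105490 : act 0 n48773 = n105490 := rfl
def n105491 : Q := act 1 n48773
theorem D105491 : act 1 n48773 = n105491 := rfl
def n105492 : Q := act 2 n48773
theorem D105492 : act 2 n48773 = n105492 := rfl
theorem F161940 : act 3 n105492 = n105485 := d0_2 D48773 D105492 (iv2 D105485) (iv3 D48771) (iv2 F37063)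
theorem F161941 : act 6 n105492 = n59394 := d3_2 (iv6 F76795) D105492 (iv2 D59394)
def n105493 : Q := act 5 n48773
theorem D105493 : act 5 n48773 = n105493 := rfl
theorem F161942 : act 3 n105493 = n48774 := d6_1 D105493 (iv5 D48774) D48773
def n105494 : Q := act 4 n48774
theorem D105494 : act 4 n48774 = n105494 := rfl
theorem F161943 : act 2 n105494 = n64123 := d1_1 D105494 F99810 (iv2 F76796)
theorem F161944 : act 5 n105494 = n53233 := d9_2 D48774 D105494 F84079 (iv5 D29362) (iv4 D13967) D13968 D29363 D62009 F96599 (iv5 D58741) (iv4 D27929) (iv5 D13318) F9840 D11145 D23786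
theorem F161945 : act 7 n105494 = n64124 := d11_2 F95382 D105494 (iv4 F99816)
theorem F161946 : act 0 n105494 = n62041 := d17_0 F96685 (iv1 F96627) (iv5 F99870) F99871 (iv5 D62021) (iv0 F48588) D64086 F99699 D105494
theorem F161947 : act 1 n105494 = n62019 := d18_6 (iv1 F47180) (iv4 D28910) F23027 D23786 D48774 D105494 F96635 F96681 F96679
def n105495 : Q := act 6 n48774
theorem D105495 : act 6 n48774 = n105495 := rfl
theorem F161948 : act 2 n105495 = n105489 := d3_1 D105495 (iv6 D105489) (iv2 F76796)
theorem F161949 : act 5 n105495 = n59400 := d12_1 D105495 (iv6 D59400) (iv5 D28207) (iv6 F37064) D48774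
def n105496 : Q := act 3 n48775
theorem D105496 : act 3 n48775 = n105496 := rfl
theorem F161950 : act 4 n105496 = n50196 := d5_2 D48775 D105496 (iv3 D50196) (iv4 D24482) (iv3 F37066)
theorem F161951 : act 7 n105496 = n48806 := d8_2 (iv7 F76798) D105496 (iv3 D48806)
def n105497 : Q := act 5 n48775
theorem D105497 : act 5 n48775 = n105497 := rfl
theorem F161952 : act 2 n105497 = n48797 := d2_1 D105497 (iv5 D48797) (iv2 F76797)
theorem F161953 : act 7 n105497 = n48807 := d13_2 (iv7 F76798) D105497 (iv5 D48807)
theorem F161954 : act 4 n105497 = n64072 := d16_2 D48775 D105497 F99668 F81529 (iv5 D27975) F22217 D23788 F37072 (iv2 F37065)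
theorem F161955 : act 1 n105497 = n62943 := d17_6 (iv1 D23790) (iv5 D11149) D11147 D23787 D48775 D105497 (iv5 D62943) (iv0 F76819) (iv4 D48781)
def n105498 : Q := act 6 n48775
theorem D105498 : act 6 n48775 = n105498 := rfl
theorem F161956 : act 2 n105498 = n48798 := d3_1 D105498 (iv6 D48798) (iv2 F76797)
theorem F161957 : act 4 n105498 = n48776 := d10_1 D105498 (iv6 D48776) D48775
theorem F161958 : act 7 n67812 = n105498 := d11_0 F161957 F111392 D67812
def n105499 : Q := act 3 n48777
theorem D105499 : act 3 n48777 = n105499 := rfl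
theorem F161959 : act 4 n105499 = n59495 := d5_2 D48777 D105499 (iv3 D59495) (iv4 D28252) (iv3 F37071)
theorem F161960 : act 7 n105499 = n48796 := d8_2 (iv7 F76804) D105499 (iv3 D48796)
def n105500 : Q := act 5 n48777
theorem D105500 : act 5 n48777 = n105500 := rfl
theorem F161961 : act 2 n105500 = n48807 := d2_1 D105500 (iv5 D48807) (iv2 F76803)
theorem F161962 : act 4 n105500 = n64071 := d9_1 D105500 F99664 F81523 (iv5 D27940) F22160 D23787 D48775 D105497 F161954 F99668 F81529 (iv5 D27975) F22217 D23788 D48777
theorem F161963 : act 7 n105500 = n48797 := d13_2 (iv7 F76804) D105500 (iv5 D48797)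
theorem F161964 : act 0 n105500 = n62943 := d17_2 F79795 D105500 (iv5 D62943) (iv4 D29775) (iv5 D14148) F19318 D24152 F38576 D50424
def n105501 : Q := act 6 n48777
theorem D105501 : act 6 n48777 = n105501 := rfl
theorem F161965 : act 2 n105501 = n48808 := d3_1 D105501 (iv6 D48808) (iv2 F76803)
theorem F161966 : act 4 n105501 = n48778 := d10_1 D105501 (iv6 D48778) D48777
theorem F161967 : act 7 n68270 = n105501 := d11_0 F161966 (iv7 F76883) D68270
def n105502 : Q := act 3 n48779
theorem D105502 : act 3 n48779 = n105502 := rfl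
theorem F161968 : act 4 n105502 = n49386 := d5_2 D48779 D105502 (iv3 D49386) (iv4 F46300) (iv3 F46302)
theorem F161969 : act 7 n105502 = n48820 := d8_2 (iv7 F76812) D105502 (iv3 D48820)
def n105503 : Q := act 5 n48779
theorem D105503 : act 5 n48779 = n105503 := rfl
theorem F161970 : act 2 n105503 = n48814 := d2_1 D105503 (iv5 D48814) (iv2 F76811)
theorem F161971 : act 7 n105503 = n48821 := d13_2 (iv7 F76812) D105503 (iv5 D48821)
theorem F161972 : act 4 n105503 = n64065 := d16_2 D48779 D105503 (iv5 D64065) (iv4 F48578) F45265 F38024 F37078 (iv7 F37091) (iv2 F37090)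
def n105504 : Q := act 6 n48779
theorem D105504 : act 6 n48779 = n105504 := rfl
theorem F161973 : act 2 n105504 = n48815 := d3_1 D105504 (iv6 D48815) (iv2 F76811)
theorem F161974 : act 4 n105504 = n48780 := d10_1 D105504 (iv6 D48780) D48779
def n105505 : Q := act 0 n48780
theorem D105505 : act 0 n48780 = n105505 := rfl
def n105506 : Q := act 1 n48780
theorem D105506 : act 1 n48780 = n105506 := rfl
theorem F161975 : act 1 n105506 = n48818 := d15_1 D105506 (iv7 D48818) (iv2 F76814)
def n105507 : Q := act 7 n48780
theorem D105507 : act 7 n48780 = n105507 := rfl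
theorem F161976 : act 2 n105507 = n48818 := d4_1 D105507 (iv7 D48818) (iv2 F76814)
theorem F161977 : act 5 n105507 = n59378 := d13_1 D105507 F93679 (iv5 F76815)
theorem F161978 : act 6 n105507 = n48826 := d14_1 D105507 (iv7 D48826) (iv6 D23810) (iv7 F37089) D48780
theorem F161979 : act 1 n48818 = n105505 := d15_0 (iv0 D105505) D105507 F161976
theorem F161980 : act 1 n48817 = n105507 := d15_1 D48817 (iv7 D105507) F76814
theorem F161981 : act 1 n105507 = n48816 := d15_0 (iv0 D48816) D48818 (iv2 F161976)
def n105508 : Q := act 5 n48781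
theorem D105508 : act 5 n48781 = n105508 := rfl
theorem F161982 : act 2 n105508 = n48821 := d2_1 D105508 (iv5 D48821) (iv2 F76816)
theorem F161983 : act 3 n105508 = n64765 := d6_1 D105508 (iv5 D64765) (iv3 F76817)
theorem F161984 : act 4 n105508 = n64062 := d9_1 D105508 (iv5 D64062) F48573 (iv5 F49680) F49678 (iv5 F38769) D48779 D105503 F161972 (iv5 D64065) (iv4 F48578) F45265 F38024 F37078 D48781
theorem F161985 : act 7 n105508 = n48814 := d13_2 (iv7 F76818) D105508 (iv5 D48814)
def n105509 : Q := act 6 n48781
theorem D105509 : act 6 n48781 = n105509 := rfl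
theorem F161986 : act 2 n105509 = n48822 := d3_1 D105509 (iv6 D48822) (iv2 F76816)
theorem F161987 : act 3 n105509 = n64766 := d7_1 D105509 (iv6 D64766) (iv3 F76817)
theorem F161988 : act 4 n105509 = n48782 := d10_1 D105509 (iv6 D48782) D48781
def n105510 : Q := act 0 n48782
theorem D105510 : act 0 n48782 = n105510 := rfl
theorem F161989 : act 5 n105510 = n59422 := d21_0 (iv1 F93797) (iv5 F93991) F93992 (iv1 D31436) (iv6 D14818) (iv5 F19837) F37080 F37078 D48782 D105510
theorem F161990 : act 0 n105510 = n48826 := d21_1 (iv5 F161989) F112182 (iv6 F112183) (iv1 F78610) (iv6 D26030) F20486 F22606 F22605 D28217 D59422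
def n105511 : Q := act 1 n48782
theorem D105511 : act 1 n48782 = n105511 := rfl
theorem F161991 : act 1 n105511 = n48826 := d15_1 D105511 (iv7 D48826) (iv2 F76820)
theorem F161992 : act 5 n59423 = n105511 := d21_0 (iv1 D105511) F76822 (iv6 D24253) D24251 D49724 F78588 (iv1 F95309) F95307 F93784 (iv1 F93793)
def n105512 : Q := act 7 n48782
theorem D105512 : act 7 n48782 = n105512 := rfl
theorem F161993 : act 2 n105512 = n48826 := d4_1 D105512 (iv7 D48826) (iv2 F76820)
theorem F161994 : act 3 n105512 = n64777 := d8_1 D105512 (iv7 D64777) (iv3 F76821)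
theorem F161995 : act 5 n105512 = n49732 := d13_1 D105512 (iv7 D49732) (iv5 F76822)
theorem F161996 : act 6 n105512 = n48818 := d14_1 D105512 (iv7 D48818) (iv6 D23807) F37091 D48782
theorem F161997 : act 1 n48824 = n105512 := d15_1 D48824 (iv7 D105512) F76820
theorem F161998 : act 0 n48823 = n105512 := d21_1 (iv5 F103697) F161995 F112242 (iv1 F112239) (iv6 F78606) F41140 (iv1 F38823) F26054 D13500 D28274
def n105513 : Q := act 0 n48783
theorem D105513 : act 0 n48783 = n105513 := rfl
def n105514 : Q := act 1 n48783
theorem D105514 : act 1 n48783 = n105514 := rfl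
def n105515 : Q := act 2 n48783
theorem D105515 : act 2 n48783 = n105515 := rfl
theorem F161999 : act 3 n105515 = n48835 := d0_2 D48783 D105515 (iv2 D48835) (iv3 D23813) (iv2 F37083)
theorem F162000 : act 4 n105515 = n59430 := d1_2 (iv4 F76823) D105515 (iv2 D59430)
def n105516 : Q := act 5 n48783
theorem D105516 : act 5 n48783 = n105516 := rfl
theorem F162001 : act 3 n105516 = n48784 := d6_1 D105516 (iv5 D48784) D48783
def n105517 : Q := act 7 n48783
theorem D105517 : act 7 n48783 = n105517 := rfl
theorem F162002 : act 3 n105517 = n48785 := d8_1 D105517 (iv7 D48785) D48783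
theorem F162003 : act 4 n105517 = n59432 := d11_1 D105517 (iv7 D59432) (iv4 F76823)
def n105518 : Q := act 6 n48784
theorem D105518 : act 6 n48784 = n105518 := rfl
theorem F162004 : act 2 n105518 = n48840 := d3_1 D105518 (iv6 D48840) (iv2 F76824)
def n105519 : Q := act 6 n48785
theorem D105519 : act 6 n48785 = n105519 := rfl
theorem F162005 : act 2 n105519 = n48842 := d3_1 D105519 (iv6 D48842) (iv2 F76825)
theorem F162006 : act 4 n105519 = n48786 := d10_1 D105519 (iv6 D48786) (iv4 F76826)
def n105520 : Q := act 3 n48787
theorem D105520 : act 3 n48787 = n105520 := rfl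
theorem F162007 : act 4 n105520 = n48796 := d5_2 D48787 D105520 (iv3 D48796) (iv4 D23798) (iv3 F37096)
theorem F162008 : act 5 n105520 = n64042 := d6_2 (iv5 F76834) D105520 (iv3 D64042)
theorem F162009 : act 7 n105520 = n59495 := d8_2 (iv7 F76833) D105520 (iv3 D59495)
def n105521 : Q := act 6 n48787
theorem D105521 : act 6 n48787 = n105521 := rfl
theorem F162010 : act 2 n105521 = n59445 := d3_1 D105521 (iv6 D59445) (iv2 F76832)
theorem F162011 : act 4 n105521 = n48788 := d10_1 D105521 (iv6 D48788) D48787
theorem F162012 : act 0 n63942 = n105521 := d20_1 D63942 F162011 F76842 D48799 F111388 D59475 F111273 F100059 F48661 (iv1 F48492)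
theorem E16002 : n74307 = n74288 := ((c18_2 (iv1 F53497) D74288 (iv1 D74307) (iv4 F82419) F82420 (iv4 F162011) (iv0 F162012) (iv4 D63942) F48492 (iv5 F48758))).symm
theorem F162013 : act 0 n74288 = n34091 := (sb E16002 (iv1 D74307))
theorem F162014 : act 0 n105521 = n53436 := d20_7 (iv4 F24242) F49834 (iv4 D14837) D14836 (iv1 F111391) (iv3 F76842) (iv4 F162011) (iv4 D53436) (iv3 D25885) (iv1 F20374)
theorem E16003 : n74306 = n74286 := ((c15_4 (iv0 D74306) (iv0 F162013) F111496 (iv2 F111486))).symm
theorem F162015 : act 1 n74286 = n34091 := (sb E16003 (iv0 D74306))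
theorem E16004 : n67838 = n48801 := (c20_5 (iv4 F49044) F49830 (iv4 D31510) D31509 D67838 (iv3 F82418) F82419 (iv1 F162015) (iv4 D74286) F101989 (iv1 F26200))
theorem F162016 : act 1 n48801 = n31509 := (sb E16004 (iv0 D67838))
theorem E16005 : n67839 = n49755 := (c15_2 F162016 D67839 (iv7 D49755) (iv2 F76866))
theorem F162017 : act 0 n49755 = n31509 := (sb E16005 (iv1 D67839))
theorem E16006 : n105505 = n28302 := (c21_5 F37104 F38770 (iv5 F38769) D48780 D105505 (iv6 F78696) F78695 (iv1 F162016) (iv5 D48801) (iv6 D23799) D23797)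
theorem E16007 : n59642 = n48818 := ((D59642).symm.trans (sb E16006 (iv1 F161979)))
theorem E16008 : n59643 = n48780 := ((D59643).symm.trans (sb E16006 (iv0 D105505)))
theorem F162018 : act 1 n48818 = n28302 := (sb E16007 (iv0 D59642))
theorem F162019 : act 0 n48780 = n28302 := (sb E16008 (iv1 D59643))
theorem F162020 : act 7 n105506 = n48816 := d15_2 (iv0 F162019) D105506 F101891
theorem F162021 : act 2 n48817 = n105506 := d4_3 F162020 F101891 (iv7 F101895)
theorem F162022 : act 3 n59533 = n105506 := d8_3 F162020 F101892 D59533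
theorem F162023 : act 7 n64396 = n105521 := d15_2 F111426 F100322 F162010
def n105522 : Q := act 7 n48788
theorem D105522 : act 7 n48788 = n105522 := rfl
theorem F162024 : act 2 n105522 = n59449 := d4_1 D105522 (iv7 D59449) (iv2 F76841)
theorem F162025 : act 3 n105522 = n48802 := d8_1 D105522 (iv7 D48802) (iv3 F76842)
theorem F162026 : act 4 n105522 = n64396 := d11_1 D105522 F162023 F162011
theorem F162027 : act 6 n105522 = n59499 := d14_1 D105522 (iv7 D59499) (iv6 D28253) (iv7 F37097) D48788
theorem F162028 : act 1 n49642 = n105522 := d15_1 (iv0 F111429) (iv7 D105522) F76841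
theorem F162029 : act 1 n105522 = n59446 := d15_1 F162028 F111440 F111375
theorem F162030 : act 0 n67815 = n53191 := d20_1 D67815 F84016 F40773 D25809 F111207 D30324 D64396 (iv4 F162026) F162025 F101937
def n105523 : Q := act 3 n48789
theorem D105523 : act 3 n48789 = n105523 := rfl
def n105524 : Q := act 6 n48789
theorem D105524 : act 6 n48789 = n105524 := rfl
theorem F162031 : act 4 n105524 = n48790 := d10_1 D105524 (iv6 D48790) D48789
def n105525 : Q := act 0 n48790
theorem D105525 : act 0 n48790 = n105525 := rfl
def n105526 : Q := act 1 n48790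
theorem D105526 : act 1 n48790 = n105526 := rfl
def n105527 : Q := act 7 n48790
theorem D105527 : act 7 n48790 = n105527 := rfl
def n105528 : Q := act 3 n48792
theorem D105528 : act 3 n48792 = n105528 := rfl
theorem F162032 : act 4 n105528 = n59450 := d5_2 D48792 D105528 (iv3 D59450) (iv4 D28234) (iv3 F37108)
theorem F162033 : act 7 n105528 = n67669 := d8_2 (iv7 F76853) D105528 (iv3 D67669)
def n105529 : Q := act 5 n48792
theorem D105529 : act 5 n48792 = n105529 := rfl
theorem F162034 : act 2 n105529 = n52059 := d2_1 D105529 (iv5 D52059) (iv2 F76852)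
theorem F162035 : act 4 n105529 = n50439 := d9_1 D105529 (iv5 D50439) (iv4 D24585) (iv5 F20327) F20326 F19837 D14817 D31433 (iv4 F79809) (iv5 D50433) (iv4 D24583) (iv5 F20284) F20283 (iv5 F37104) D48792
theorem F162036 : act 7 n105529 = n67670 := d13_2 (iv7 F76853) D105529 (iv5 D67670)
theorem F162037 : act 0 n105529 = n51775 := d17_2 (iv1 F76855) D105529 F81773 (iv4 D25820) (iv5 F39440) (iv0 F39443) (iv5 F38575) (iv0 D24577) D24578
theorem F162038 : act 1 n105529 = n49545 := d17_6 (iv1 F37076) (iv5 F37078) (iv1 F37081) (iv5 F37104) D48792 D105529 (iv5 D49545) (iv0 F37897) F37130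
def n105530 : Q := act 6 n48792
theorem D105530 : act 6 n48792 = n105530 := rfl
theorem F162039 : act 2 n105530 = n52057 := d3_1 D105530 F82272 (iv2 F76852)
theorem F162040 : act 4 n105530 = n48793 := d10_1 D105530 (iv6 D48793) D48792
def n105531 : Q := act 0 n48793
theorem D105531 : act 0 n48793 = n105531 := rfl
theorem F162041 : act 5 n105531 = n58995 := d21_2 (iv5 F76858) D105531 (iv6 D58995) (iv1 D28032) (iv6 D13375) F9867 D11976 (iv5 F22592) D24807 F39820
theorem F162042 : act 6 n105531 = n67823 := d21_5 (iv5 F37078) (iv1 F37081) (iv5 F37104) D48793 D105531 (iv5 F111407) (iv1 D48844) F37132 (iv6 D23816) (iv1 F37076)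
theorem F162043 : act 0 n105531 = n52058 := d21_10 F82274 (iv1 F39870) F38826 (iv6 D24349) (iv1 F38130) D49895 F78908 (iv1 F78910) F111407 (iv6 F162042)
def n105532 : Q := act 1 n48793
theorem D105532 : act 1 n48793 = n105532 := rfl
theorem F162044 : act 1 n105532 = n52058 := d15_1 D105532 (iv7 D52058) (iv2 F76856)
theorem F162045 : act 5 n59026 = n105532 := d21_6 (iv5 F20281) (iv1 D12006) (iv5 F9868) D13381 D28048 D59026 (iv1 D105532) F76858 (iv6 D25254) (iv1 F19825)
theorem F162046 : act 6 n105532 = n68277 := d12_2 D59026 F162045 F104431 (iv6 D62264) F93704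
theorem F162047 : act 0 n59646 = n62264 := d21_1 D59646 (iv5 F104431) (iv6 F162046) (iv1 D105532) (iv6 D48793) F37104 F38770 (iv5 F38769) D48780 F162019
def n105533 : Q := act 7 n48793
theorem D105533 : act 7 n48793 = n105533 := rfl
theorem F162048 : act 2 n105533 = n52058 := d4_1 D105533 (iv7 D52058) (iv2 F76856)
theorem F162049 : act 3 n105533 = n59455 := d8_1 D105533 (iv7 D59455) (iv3 F76857)
theorem F162050 : act 5 n105533 = n51939 := d13_1 D105533 F82011 (iv5 F76858)
theorem F162051 : act 6 n105533 = n67673 := d14_1 D105533 (iv7 D67673) (iv6 D31430) (iv7 F37107) D48793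
theorem F162052 : act 1 n52056 = n105533 := d15_1 D52056 (iv7 D105533) F76856
theorem F162053 : act 1 n105533 = n52055 := d15_0 (iv0 D52055) D52058 (iv2 F162048)
def n105534 : Q := act 3 n48794
theorem D105534 : act 3 n48794 = n105534 := rfl
theorem F162054 : act 4 n105534 = n50282 := d5_2 (iv4 F76859) D105534 (iv3 D50282) (iv4 D24524) F37868
theorem F162055 : act 7 n105534 = n65426 := d8_2 F76861 D105534 (iv3 D65426)
def n105535 : Q := act 5 n48794
theorem D105535 : act 5 n48794 = n105535 := rfl
theorem F162056 : act 7 n105535 = n65427 := d13_2 F76861 D105535 (iv5 D65427)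
theorem F162057 : act 4 n105535 = n50607 := d16_2 (iv4 F76859) D105535 F79984 (iv4 F45232) (iv5 F78581) F78580 F45377 (iv7 F38578) (iv2 F38577)
theorem F162058 : act 0 n105535 = n105503 := d17_2 D48794 D105535 (iv5 D105503) (iv4 D48779) F38769 (iv0 F38770) (iv5 F37104) (iv0 D23797) D23798
theorem F162059 : act 1 n105535 = n105508 := d17_6 F38573 F37889 (iv1 F37869) (iv5 F37867) (iv4 F76859) D105535 (iv5 D105508) (iv0 F79788) (iv4 D50422)
def n105536 : Q := act 6 n48794
theorem D105536 : act 6 n48794 = n105536 := rfl
theorem F162060 : act 4 n105536 = n49489 := d10_1 D105536 (iv6 D49489) (iv4 F76859)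
def n105537 : Q := act 3 n48795
theorem D105537 : act 3 n48795 = n105537 := rfl
theorem F162061 : act 4 n105537 = n53918 := d5_2 (iv4 F76863) D105537 (iv3 D53918) F41239 (iv3 F40143)
theorem F162062 : act 7 n105537 = n67522 := d8_2 F79794 D105537 F103416
def n105538 : Q := act 5 n48795
theorem D105538 : act 5 n48795 = n105538 := rfl
theorem F162063 : act 2 n105538 = n65427 := d2_1 D105538 (iv5 D65427) F76864
theorem F162064 : act 4 n105538 = n50608 := d9_1 D105538 F79990 (iv4 F39669) F39667 F38471 (iv5 F37867) (iv4 F76859) D105535 F162057 F79984 (iv4 F45232) (iv5 F78581) F78580 F45377 (iv4 F76863)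
theorem F162065 : act 0 n105538 = n105508 := d17_2 (iv1 F76862) D105538 (iv5 D105508) (iv4 D48781) (iv5 F37078) (iv0 F37080) F19837 (iv0 F20328) D23803
theorem F162066 : act 1 n105538 = n105503 := d17_6 F37504 F37500 D28089 F45377 (iv4 F76863) D105538 (iv5 D105503) F76813 (iv4 D29775)
def n105539 : Q := act 6 n48795
theorem D105539 : act 6 n48795 = n105539 := rfl
theorem F162067 : act 2 n105539 = n65428 := d3_1 D105539 (iv6 D65428) F76864
theorem F162068 : act 4 n105539 = n49488 := d10_1 D105539 (iv6 D49488) (iv4 F76863)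
theorem F162069 : act 0 n67688 = n105539 := d20_7 (iv4 F47523) D62597 (iv4 F103407) F103350 (iv1 F103724) (iv3 D67687) D67688 F162068 F78234 (iv1 D29600)
theorem F162070 : act 0 n62199 = n64092 := d18_2 (iv1 F96941) D62199 F99705 (iv5 F78235) (iv4 F162068) (iv0 F162069) (iv4 D67688) F103700 F103699
theorem F162071 : act 1 n67686 = n105539 := d15_0 (iv0 F162069) F103725 (iv2 F103718)
def n105540 : Q := act 0 n48796
theorem D105540 : act 0 n48796 = n105540 := rfl
def n105541 : Q := act 1 n48796
theorem D105541 : act 1 n48796 = n105541 := rfl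
def n105542 : Q := act 2 n48796
theorem D105542 : act 2 n48796 = n105542 := rfl
def n105543 : Q := act 5 n48796
theorem D105543 : act 5 n48796 = n105543 := rfl
theorem F162072 : act 3 n105543 = n48797 := d6_1 D105543 (iv5 D48797) D48796
def n105544 : Q := act 6 n48796
theorem D105544 : act 6 n48796 = n105544 := rfl
theorem F162073 : act 3 n105544 = n48798 := d7_1 D105544 (iv6 D48798) D48796
def n105545 : Q := act 0 n48797
theorem D105545 : act 0 n48797 = n105545 := rfl
theorem F162074 : act 5 n105545 = n48812 := d17_1 D105545 (iv1 F76892) D48821 (iv4 F99671) (iv5 D64074) (iv0 D30201) D30203 (iv0 F93038) F93037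
theorem F162075 : act 4 n105545 = n51660 := d18_1 D105545 (iv1 F81569) F79775 (iv5 D49491) (iv4 D24156) D24155 (iv4 F76859) (iv0 D48794) D48797
theorem F162076 : act 1 n48807 = n105545 := d15_0 (iv0 D105545) (iv7 F161963) F161961
theorem F162077 : act 7 n105545 = n62943 := d15_2 F99695 F162076 (iv2 F99692)
def n105546 : Q := act 6 n48797
theorem D105546 : act 6 n48797 = n105546 := rfl
def n105547 : Q := act 0 n48798
theorem D105547 : act 0 n48798 = n105547 := rfl
theorem F162078 : act 4 n105547 = n53192 := d18_3 (iv1 F111391) (iv4 F76865) D105547 F84017 D64301 (iv0 F111382) F93870 (iv0 F111381) (iv5 F24494)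
theorem F162079 : act 7 n65518 = n105547 := d11_0 F162078 F111301 D65518
def n105548 : Q := act 1 n48798
theorem D105548 : act 1 n48798 = n105548 := rfl
theorem F162080 : act 1 n105548 = n67812 := d15_1 D105548 F161958 F161956
theorem F162081 : act 4 n53193 = n105548 := d20_0 (iv1 D105548) F76865 (iv3 F76842) F111394 (iv3 D51174) (iv4 F111251) (iv1 F93300) F93296 (iv3 F79807) (iv1 F84018)
theorem F162082 : act 2 n105548 = n65518 := d1_1 F162081 (iv4 D65518) (iv2 F111302)
theorem E16009 : n67579 = n50200 := (c20_5 (iv4 F100075) F111242 (iv4 D31394) D31393 D67579 F111396 D67812 (iv1 F162080) (iv4 F162081) (iv3 F111281) F78221)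
theorem F162083 : act 1 n50200 = n31393 := (sb E16009 (iv0 D67579))
theorem F162084 : act 1 n67812 = n105547 := d15_1 F162080 (iv7 F162079) (iv2 F162082)
def n105549 : Q := act 5 n48798
theorem D105549 : act 5 n48798 = n105549 := rfl
def n105550 : Q := act 7 n48798
theorem D105550 : act 7 n48798 = n105550 := rfl
theorem F162085 : act 2 n105550 = n67812 := d4_1 D105550 F161958 F161956
theorem F162086 : act 4 n105550 = n48802 := d11_1 D105550 (iv7 D48802) (iv4 F76865)
theorem F162087 : act 6 n105550 = n68270 := d14_1 D105550 F161967 (iv6 D105501) F76804 D48798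
theorem F162088 : act 1 n65518 = n105550 := d18_6 (iv1 F101929) (iv4 F45727) D59469 F111289 (iv5 F111290) D65518 F162086 F101938 (iv5 F41167)
theorem F162089 : act 1 n105498 = n65518 := d15_0 F162088 (iv7 D105550) (iv2 F161956)
def n105551 : Q := act 4 n48799
theorem D105551 : act 4 n48799 = n105551 := rfl
theorem F162090 : act 2 n105551 = n53868 := d1_1 D105551 (iv4 D53868) (iv2 F111387)
theorem F162091 : act 7 n105551 = n67815 := d11_2 (iv7 F111390) D105551 (iv4 D67815)
theorem F162092 : act 1 n105551 = n50427 := d18_6 (iv1 F48712) (iv4 F100123) (iv1 F100125) F111370 (iv5 F111389) D105551 F79801 F111291 F111290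
theorem F162093 : act 0 n105551 = n67818 := d20_1 D105551 (iv4 F111231) F84021 (iv1 F48754) (iv3 F111221) D63942 F162012 F162011 F76842 D48799
def n105552 : Q := act 0 n48801
theorem D105552 : act 0 n48801 = n105552 := rfl
theorem F162094 : act 5 n105552 = n59482 := d21_0 (iv1 F93883) (iv5 F101932) F101933 (iv1 F45766) F24610 (iv5 D14845) (iv1 F24502) D23800 (iv6 F76867) D105552
theorem F162095 : act 2 n49753 = n105552 := d15_3 (iv0 D105552) F162016 (iv7 F101921)
theorem F162096 : act 3 n105552 = n67833 := d0_2 (iv3 F101919) F162095 (iv2 D67833) (iv3 D31505) (iv2 F76951)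
theorem E16010 : n67833 = n59482 := ((c2_3 (iv5 F101920) F162095 F162094 (iv2 D67833))).symm
theorem F162097 : act 2 n59482 = n31505 := (sb E16010 (iv2 D67833))
theorem F162098 : act 3 n59482 = n105552 := (sb E16010 (iv3 F162096))
theorem F162099 : act 7 n59482 = n49936 := (sb E16010 F103854)
theorem F162100 : act 7 n105552 = n49754 := d4_2 (iv7 F101921) F162095 F101888
theorem F162101 : act 1 n49755 = n105552 := d15_1 (iv0 F162017) F162100 F101888
theorem E16011 : n59483 = n49786 := ((c15_4 F93877 F93883 F162099 (iv2 F101889))).symm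
theorem F162102 : act 0 n49786 = n28243 := (sb E16011 (iv1 D59483))
theorem F162103 : act 1 n49786 = n49937 := (sb E16011 F93877)
theorem E16012 : n59417 = n48851 := ((c21_4 F101932 (iv1 F162103) F78695 (iv6 F76925) (iv1 F93785) (iv6 F93796) F93795 (iv1 F93986) (iv5 F93987) F93873 F101939)).symm
theorem F162104 : act 0 n48851 = n28268 := (sb E16012 (iv1 F93785))
theorem F162105 : act 1 n48851 = n28215 := (sb E16012 (iv0 D59417))
theorem E16013 : n59533 = n59418 := ((c15_2 F162105 D59418 (iv7 D59533) (iv2 F101870))).symm
theorem F162106 : act 2 n59418 = n28266 := (sb E16013 F93956)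
theorem F162107 : act 3 n59418 = n105506 := (sb E16013 F162022)
theorem F162108 : act 4 n59418 = n64538 := (sb E16013 (iv4 F102083))
theorem F162109 : act 7 n59418 = n28265 := (sb E16013 (iv7 D59533))
theorem F162110 : act 4 n60844 = n63024 := d18_3 F46445 (iv4 F46497) D60844 (iv5 F100466) F100465 F100489 F102075 F162105 (iv5 F46444)
theorem F162111 : act 0 n66213 = n51118 := d20_1 D66213 F80638 (iv3 F45656) (iv1 F162105) (iv3 D48851) (iv4 F46742) (iv1 F40999) F24361 (iv3 F24343) (iv1 F49377)
theorem F162112 : act 1 n66209 = n51118 := d15_0 (iv0 F162111) F102120 (iv2 F102111)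
theorem F162113 : act 7 n62119 = n60844 := d11_0 F162110 F98732 F98726
theorem E16014 : n64209 = n64188 := (c20_8 (iv4 F53755) (iv1 F53758) F53687 D49786 F162102 (iv3 F92810) F92811 D64209 (iv4 D64188) (iv3 F101990) F26203)
theorem F162114 : act 1 n64188 = n30251 := (sb E16014 (iv0 D64209))
theorem F162115 : act 0 n62201 = n59646 := d21_1 (iv5 F104434) (iv5 D59646) (iv6 F78696) F162102 F45729 (iv5 D13483) (iv1 F22628) (iv5 F38149) D49904 (iv1 F104433)
def n105553 : Q := act 4 n48801
theorem D105553 : act 4 n48801 = n105553 := rfl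
theorem F162116 : act 2 n105553 = n49752 := d1_1 D105553 F78618 (iv2 F76866)
theorem F162117 : act 6 n105553 = n48803 := d10_2 (iv6 F76867) D105553 (iv4 D48803)
def n105554 : Q := act 7 n48801
theorem D105554 : act 7 n48801 = n105554 := rfl
theorem F162118 : act 2 n105554 = n49755 := d4_1 D105554 (iv7 D49755) (iv2 F76866)
theorem F162119 : act 5 n105554 = n48802 := d13_1 D105554 (iv7 D48802) D48801
theorem F162120 : act 6 n105554 = n49748 := d14_1 D105554 (iv7 D49748) (iv6 D24259) (iv7 F37110) (iv6 F76867)
theorem F162121 : act 1 n49754 = n105554 := d15_1 D49754 (iv7 D105554) F76866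
theorem F162122 : act 1 n105554 = n49753 := d15_1 F162121 F101921 (iv2 F101888)
def n105555 : Q := act 5 n48803
theorem D105555 : act 5 n48803 = n105555 := rfl
theorem F162123 : act 2 n105555 = n49751 := d2_1 D105555 (iv5 D49751) (iv2 F76868)
theorem F162124 : act 7 n105555 = n49744 := d13_2 (iv7 F76869) D105555 (iv5 D49744)
theorem F162125 : act 4 n105555 = n53123 := d16_2 D48803 D105555 (iv5 D53123) (iv4 F45557) (iv5 F49841) (iv4 D31511) (iv5 F38009) F38011 (iv2 F37109)
def n105556 : Q := act 3 n48804
theorem D105556 : act 3 n48804 = n105556 := rfl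
theorem F162126 : act 4 n105556 = n48806 := d5_2 D48804 D105556 (iv3 D48806) (iv4 D23803) (iv3 F37114)
theorem F162127 : act 7 n105556 = n50196 := d8_2 (iv7 F76872) D105556 (iv3 D50196)
def n105557 : Q := act 6 n48804
theorem D105557 : act 6 n48804 = n105557 := rfl
theorem F162128 : act 2 n105557 = n50260 := d3_1 D105557 (iv6 D50260) (iv2 F76871)
theorem F162129 : act 4 n105557 = n48805 := d10_1 D105557 (iv6 D48805) D48804
theorem F162130 : act 0 n50314 = n105557 := d21_4 D50125 (iv1 F100833) (iv5 D65033) (iv6 F79696) (iv6 D105557) (iv5 F98560) (iv1 D63322) (iv5 D29916) F23713 D24448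
theorem F162131 : act 1 n65890 = n105557 := d15_0 (iv0 F162130) F79697 (iv2 F101561)
theorem F162132 : act 7 n65997 = n105557 := d15_2 (iv0 F100431) F101684 F162128
def n105558 : Q := act 7 n48805
theorem D105558 : act 7 n48805 = n105558 := rfl
theorem F162133 : act 2 n105558 = n50264 := d4_1 D105558 (iv7 D50264) (iv2 F76875)
theorem F162134 : act 3 n105558 = n48810 := d8_1 D105558 (iv7 D48810) (iv3 F76876)
theorem F162135 : act 4 n105558 = n65997 := d11_1 D105558 F162132 F162129
theorem F162136 : act 5 n105558 = n65912 := d13_1 D105558 F101607 F82226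
theorem F162137 : act 6 n105558 = n50200 := d14_1 D105558 (iv7 D50200) (iv6 D24483) (iv7 F37115) D48805
theorem F162138 : act 1 n50262 = n105558 := d15_1 D50262 (iv7 D105558) F76875
theorem F162139 : act 1 n105558 = n50261 := d15_1 F162138 F101681 F93308
def n105559 : Q := act 0 n48806
theorem D105559 : act 0 n48806 = n105559 := rfl
def n105560 : Q := act 1 n48806
theorem D105560 : act 1 n48806 = n105560 := rfl
def n105561 : Q := act 2 n48806
theorem D105561 : act 2 n48806 = n105561 := rfl
def n105562 : Q := act 5 n48806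
theorem D105562 : act 5 n48806 = n105562 := rfl
theorem F162140 : act 3 n105562 = n48807 := d6_1 D105562 (iv5 D48807) D48806
def n105563 : Q := act 6 n48806
theorem D105563 : act 6 n48806 = n105563 := rfl
theorem F162141 : act 3 n105563 = n48808 := d7_1 D105563 (iv6 D48808) D48806
def n105564 : Q := act 6 n48807
theorem D105564 : act 6 n48807 = n105564 := rfl
def n105565 : Q := act 0 n48808
theorem D105565 : act 0 n48808 = n105565 := rfl
def n105566 : Q := act 1 n48808
theorem D105566 : act 1 n48808 = n105566 := rfl
theorem F162142 : act 1 n105566 = n68270 := d15_1 D105566 F161967 F161965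
theorem F162143 : act 4 n49494 = n105566 := d20_6 (iv4 D65988) (iv1 F101560) F101558 (iv3 F81176) (iv1 F81179) (iv3 F78246) (iv1 D105566) F76877 (iv3 F76876) (iv1 F101682)
theorem F162144 : act 6 n105566 = n64307 := d10_2 F78245 F162143 (iv4 D64307)
def n105567 : Q := act 5 n48808
theorem D105567 : act 5 n48808 = n105567 := rfl
def n105568 : Q := act 7 n48808
theorem D105568 : act 7 n48808 = n105568 := rfl
theorem F162145 : act 2 n105568 = n68270 := d4_1 D105568 F161967 F161965
theorem F162146 : act 4 n105568 = n48810 := d11_1 D105568 (iv7 D48810) (iv4 F76877)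
theorem F162147 : act 6 n105568 = n67812 := d14_1 D105568 F161958 (iv6 D105498) F76798 D48808
theorem F162148 : act 1 n68270 = n105565 := d15_0 (iv0 D105565) D105568 F162145
theorem F162149 : act 4 n49493 = n105565 := d20_0 (iv1 F162148) (iv4 D68270) (iv3 F93927) (iv1 F93928) (iv3 D31740) D31741 F82148 F37877 (iv3 F37872) D49493
theorem E16015 : n64447 = n49493 := (c20_6 (iv4 F99495) (iv1 D30363) F24064 (iv3 F24049) D30346 D64447 F162149 (iv1 F162148) (iv4 D68270) (iv3 F93927) (iv1 F93928))
theorem F162150 : act 3 n49493 = n30346 := (sb E16015 (iv3 D64447))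
theorem F162151 : act 5 n49493 = n105210 := (sb E16015 (iv5 F161147))
theorem F162152 : act 7 n49493 = n61249 := (sb E16015 F100372)
theorem F162153 : act 5 n51453 = n63079 := d21_0 (iv1 D63079) (iv5 F79432) (iv6 D50142) F38379 (iv6 F78248) (iv5 D49495) D49493 F162151 F161148 (iv1 F82725)
theorem F162154 : act 6 n52234 = n51453 := d21_5 (iv5 D24160) D24158 F38409 D25373 D52234 F162153 (iv1 D63079) (iv5 F79432) (iv6 D50142) F38379
theorem F162155 : act 6 n63706 = n63079 := d21_5 F48277 (iv1 F48318) (iv5 D30067) D30068 D63706 (iv5 F162153) (iv1 D51453) (iv5 F48287) (iv6 D30057) D30055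
def n105569 : Q := act 4 n48809
theorem D105569 : act 4 n48809 = n105569 := rfl
theorem F162156 : act 2 n105569 = n53962 := d1_1 D105569 (iv4 D53962) (iv2 F76880)
theorem F162157 : act 6 n105569 = n74215 := d10_2 (iv6 F78885) D105569 F111053
theorem F162158 : act 7 n105569 = n68271 := d11_2 (iv7 F76878) D105569 (iv4 D68271)
theorem F162159 : act 0 n68273 = n105569 := d20_7 (iv4 F45763) D59506 F93932 (iv3 D52008) (iv1 F39788) (iv3 F78249) (iv4 F104425) (iv4 D105569) F76881 (iv1 D28258)
theorem F162160 : act 1 n67675 = n105569 := d15_0 (iv0 F162159) (iv7 F104426) (iv2 F103704)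
def n105570 : Q := act 7 n48811
theorem D105570 : act 7 n48811 = n105570 := rfl
theorem F162161 : act 2 n105570 = n64737 := d4_1 D105570 (iv7 D64737) (iv2 F76888)
theorem F162162 : act 3 n105570 = n48818 := d8_1 D105570 (iv7 D48818) (iv3 F76889)
theorem F162163 : act 4 n105570 = n64011 := d11_1 D105570 (iv7 D64011) (iv4 F76890)
theorem F162164 : act 5 n105570 = n62130 := d13_1 D105570 F96849 F95171
theorem F162165 : act 6 n105570 = n64777 := d14_1 D105570 (iv7 D64777) (iv6 D30465) (iv7 F37119) D48811
theorem F162166 : act 1 n59637 = n105570 := d15_1 (iv0 F102039) (iv7 D105570) F76888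
theorem F162167 : act 1 n105570 = n64735 := d15_1 F162166 (iv7 F103592) (iv2 F103593)
def n105571 : Q := act 3 n48812
theorem D105571 : act 3 n48812 = n105571 := rfl
theorem F162168 : act 4 n105571 = n53448 := d5_2 (iv4 F76891) D105571 (iv3 D53448) (iv4 D25892) (iv3 F37855)
theorem F162169 : act 7 n105571 = n62942 := d8_2 (iv7 F76893) D105571 (iv3 D62942)
def n105572 : Q := act 6 n48812
theorem D105572 : act 6 n48812 = n105572 := rfl
theorem F162170 : act 4 n105572 = n49486 := d10_1 D105572 (iv6 D49486) (iv4 F76891)
def n105573 : Q := act 0 n48813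
theorem D105573 : act 0 n48813 = n105573 := rfl
theorem F162171 : act 1 n64760 = n105573 := d15_0 (iv0 D105573) F76895 (iv2 F100622)
def n105574 : Q := act 1 n48813
theorem D105574 : act 1 n48813 = n105574 := rfl
def n105575 : Q := act 2 n48813
theorem D105575 : act 2 n48813 = n105575 := rfl
theorem F162172 : act 4 n105575 = n64004 := d1_2 (iv4 F76894) D105575 (iv2 D64004)
theorem F162173 : act 7 n105575 = n64760 := d4_2 (iv7 F76895) D105575 F100622
theorem F162174 : act 1 n105575 = n64763 := d15_0 (iv0 D64763) (iv7 F76895) D105575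
theorem F162175 : act 1 n105574 = n64760 := d15_1 D105574 (iv7 F162173) (iv2 D105575)
theorem F162176 : act 1 n64764 = n105575 := d15_1 D64764 F162173 F100622
def n105576 : Q := act 5 n48813
theorem D105576 : act 5 n48813 = n105576 := rfl
theorem F162177 : act 3 n105576 = n48814 := d6_1 D105576 (iv5 D48814) D48813
theorem F162178 : act 7 n105576 = n64765 := d13_2 (iv7 F76895) D105576 (iv5 D64765)
def n105577 : Q := act 6 n48813
theorem D105577 : act 6 n48813 = n105577 := rfl
theorem F162179 : act 3 n105577 = n48815 := d7_1 D105577 (iv6 D48815) D48813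
theorem F162180 : act 4 n105577 = n64006 := d10_1 D105577 (iv6 D64006) (iv4 F76894)
def n105578 : Q := act 1 n48814
theorem D105578 : act 1 n48814 = n105578 := rfl
theorem F162181 : act 1 n105578 = n48821 := d15_1 D105578 (iv7 F161971) F161970
theorem F162182 : act 7 n105578 = n105538 := d15_2 F101146 D105578 F162063
theorem F162183 : act 5 n105578 = n50424 := d17_7 F37068 (iv5 D11998) D11996 (iv5 F37093) D23806 D48814 D105578 F79796 (iv4 D48775)
theorem F162184 : act 4 n105578 = n50447 := d17_9 F79823 (iv5 D25140) D25137 (iv5 F81568) (iv4 F162075) F162074 (iv0 D48812) D48814 D105578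
theorem F162185 : act 2 n105535 = n105578 := d1_3 F162184 F79985 (iv4 F162057)
def n105579 : Q := act 6 n48814
theorem D105579 : act 6 n48814 = n105579 := rfl
def n105580 : Q := act 0 n48815
theorem D105580 : act 0 n48815 = n105580 := rfl
theorem F162186 : act 4 n105580 = n53251 := d20_2 (iv4 F76896) D105580 F111140 (iv1 F49379) F24343 (iv4 F24361) (iv1 F40994) (iv4 F47154) (iv3 F101893) (iv1 D48817)
theorem F162187 : act 7 n66286 = n105580 := d11_0 F162186 F111142 D66286
def n105581 : Q := act 1 n48815
theorem D105581 : act 1 n48815 = n105581 := rfl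
def n105582 : Q := act 5 n48815
theorem D105582 : act 5 n48815 = n105582 := rfl
def n105583 : Q := act 7 n48815
theorem D105583 : act 7 n48815 = n105583 := rfl
theorem F162188 : act 4 n105583 = n48818 := d11_1 D105583 (iv7 D48818) (iv4 F76896)
theorem F162189 : act 0 n105583 = n66286 := d20_1 (iv4 F162188) (iv4 D66286) (iv3 D30967) (iv1 D14657) F11262 (iv4 F11269) D14670 F46741 D28302 (iv1 F162018)
theorem F162190 : act 1 n105504 = n66286 := d15_0 (iv0 F162189) (iv7 D105583) (iv2 F161973)
def n105584 : Q := act 4 n48816
theorem D105584 : act 4 n48816 = n105584 := rfl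
theorem F162191 : act 2 n105584 = n59645 := d1_1 D105584 (iv4 D59645) (iv2 F101891)
theorem F162192 : act 0 n48829 = n105584 := d20_1 F77648 (iv4 D105584) F101892 (iv1 F93787) F93783 F101866 (iv1 F101864) (iv4 D30968) D30967 (iv1 F102194)
def n105585 : Q := act 5 n48816
theorem D105585 : act 5 n48816 = n105585 := rfl
theorem F162193 : act 2 n105585 = n59646 := d2_1 D105585 (iv5 D59646) (iv2 F101891)
theorem F162194 : act 3 n105585 = n59532 := d6_1 D105585 (iv5 D59532) (iv3 F101892)
theorem F162195 : act 6 n105585 = n59532 := d12_2 (iv6 F93886) D105585 (iv5 D59532) F93887 (iv5 F93885)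
def n105586 : Q := act 4 n48817
theorem D105586 : act 4 n48817 = n105586 := rfl
theorem F162196 : act 7 n105586 = n59645 := d11_2 (iv7 F101895) D105586 (iv4 D59645)
theorem F162197 : act 0 n105586 = n48829 := d18_2 (iv1 F161980) D105586 (iv4 F77648) (iv5 F98330) F98329 F96848 F96846 F93676 (iv5 F161977)
def n105587 : Q := act 6 n48817
theorem D105587 : act 6 n48817 = n105587 := rfl
theorem F162198 : act 3 n105587 = n48855 := d7_1 D105587 (iv6 D48855) (iv3 F101893)
theorem F162199 : act 5 n105587 = n62065 := d12_1 D105587 F97376 (iv5 D62484) D62485 (iv5 F101894)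
theorem F162200 : act 7 n105587 = n67835 := d14_2 (iv7 F101895) D105587 (iv6 D67835) (iv7 F78697) F78696
theorem F162201 : act 0 n105587 = n62196 := d21_1 (iv5 F162199) (iv5 D62196) F93697 (iv1 D59384) (iv6 D28203) (iv5 F22422) (iv1 F23856) (iv5 F23311) D29408 (iv1 F101905)
def n105588 : Q := act 0 n48819
theorem D105588 : act 0 n48819 = n105588 := rfl
def n105589 : Q := act 1 n48819
theorem D105589 : act 1 n48819 = n105589 := rfl
def n105590 : Q := act 7 n48819
theorem D105590 : act 7 n48819 = n105590 := rfl
theorem F162202 : act 3 n105590 = n48826 := d8_1 D105590 (iv7 D48826) (iv3 F76897)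
theorem F162203 : act 5 n105590 = n62989 := d13_1 D105590 (iv7 D62989) (iv5 F76898)
def n105591 : Q := act 0 n48820
theorem D105591 : act 0 n48820 = n105591 := rfl
def n105592 : Q := act 1 n48820
theorem D105592 : act 1 n48820 = n105592 := rfl
def n105593 : Q := act 2 n48820
theorem D105593 : act 2 n48820 = n105593 := rfl
theorem F162204 : act 3 n105593 = n64760 := d0_2 D48820 D105593 F100622 (iv3 F76817) F76816
def n105594 : Q := act 5 n48820
theorem D105594 : act 5 n48820 = n105594 := rfl
theorem F162205 : act 3 n105594 = n48821 := d6_1 D105594 (iv5 D48821) D48820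
def n105595 : Q := act 6 n48820
theorem D105595 : act 6 n48820 = n105595 := rfl
theorem F162206 : act 3 n105595 = n48822 := d7_1 D105595 (iv6 D48822) D48820
def n105596 : Q := act 6 n48821
theorem D105596 : act 6 n48821 = n105596 := rfl
def n105597 : Q := act 0 n48822
theorem D105597 : act 0 n48822 = n105597 := rfl
def n105598 : Q := act 1 n48822
theorem D105598 : act 1 n48822 = n105598 := rfl
def n105599 : Q := act 5 n48822
theorem D105599 : act 5 n48822 = n105599 := rfl
def n105600 : Q := act 7 n48822
theorem D105600 : act 7 n48822 = n105600 := rfl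
theorem F162207 : act 4 n105600 = n48826 := d11_1 D105600 (iv7 D48826) (iv4 F76899)
def n105601 : Q := act 2 n48823
theorem D105601 : act 2 n48823 = n105601 := rfl
theorem F162209 : act 7 n48824 = n105601 := d15_2 (iv0 D48823) D48824 (iv2 D105601)
def n105602 : Q := act 3 n48823
theorem D105602 : act 3 n48823 = n105602 := rfl
theorem F162210 : act 5 n105602 = n59557 := d6_2 (iv5 F103697) D105602 (iv3 D59557)
def n105603 : Q := act 4 n48823
theorem D105603 : act 4 n48823 = n105603 := rfl
def n105604 : Q := act 6 n48823
theorem D105604 : act 6 n48823 = n105604 := rfl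
theorem F162211 : act 5 n105604 = n50899 := d21_6 (iv5 F39824) (iv1 F39826) F24295 D23810 D48823 D105604 (iv1 D50899) (iv5 F76808) (iv6 D48778) (iv1 F37074)
theorem F162212 : act 6 n51934 = n50899 := d12_4 (iv6 D105604) F103697 D59560 F93981 (iv5 F162211)
def n105605 : Q := act 7 n48823
theorem D105605 : act 7 n48823 = n105605 := rfl
theorem F162213 : act 2 n105605 = n48824 := d4_1 D105605 F162209 (iv2 D105601)
theorem F162214 : act 5 n105605 = n59561 := d13_1 D105605 (iv7 D59561) (iv5 F103697)
def n105606 : Q := act 3 n48824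
theorem D105606 : act 3 n48824 = n105606 := rfl
def n105607 : Q := act 4 n48824
theorem D105607 : act 4 n48824 = n105607 := rfl
def n105608 : Q := act 4 n48825
theorem D105608 : act 4 n48825 = n105608 := rfl
theorem F162216 : act 2 n105608 = n49729 := d1_1 D105608 F78593 (iv2 F76900)
theorem F162217 : act 6 n105608 = n49706 := d10_2 (iv6 F76902) D105608 (iv4 D49706)
def n105609 : Q := act 0 n48827
theorem D105609 : act 0 n48827 = n105609 := rfl
theorem F162218 : act 3 n105609 = n64757 := d20_5 (iv4 D29775) F37504 (iv4 F37502) D48827 D105609 (iv4 D64757) (iv1 D30460) D30462 (iv3 F76817) F76819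
def n105610 : Q := act 1 n48827
theorem D105610 : act 1 n48827 = n105610 := rfl
def n105611 : Q := act 2 n48827
theorem D105611 : act 2 n48827 = n105611 := rfl
def n105612 : Q := act 5 n48827
theorem D105612 : act 5 n48827 = n105612 := rfl
theorem F162219 : act 3 n105612 = n48828 := d6_1 D105612 (iv5 D48828) D48827
def n105613 : Q := act 6 n48827
theorem D105613 : act 6 n48827 = n105613 := rfl
theorem F162220 : act 3 n105613 = n48829 := d7_1 D105613 (iv6 D48829) D48827
def n105614 : Q := act 6 n48828
theorem D105614 : act 6 n48828 = n105614 := rfl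
def n105615 : Q := act 5 n48829
theorem D105615 : act 5 n48829 = n105615 := rfl
def n105616 : Q := act 7 n48829
theorem D105616 : act 7 n48829 = n105616 := rfl
def n105617 : Q := act 0 n48830
theorem D105617 : act 0 n48830 = n105617 := rfl
def n105618 : Q := act 1 n48830
theorem D105618 : act 1 n48830 = n105618 := rfl
def n105619 : Q := act 2 n48830
theorem D105619 : act 2 n48830 = n105619 := rfl
def n105620 : Q := act 5 n48830
theorem D105620 : act 5 n48830 = n105620 := rfl
theorem F162221 : act 3 n105620 = n48831 := d6_1 D105620 (iv5 D48831) D48830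
def n105621 : Q := act 6 n48830
theorem D105621 : act 6 n48830 = n105621 := rfl
theorem F162222 : act 3 n105621 = n48832 := d7_1 D105621 (iv6 D48832) D48830
def n105622 : Q := act 6 n48831
theorem D105622 : act 6 n48831 = n105622 := rfl
theorem F162223 : act 4 n105622 = n50609 := d10_1 D105622 (iv6 D50609) (iv4 F76903)
def n105623 : Q := act 0 n48832
theorem D105623 : act 0 n48832 = n105623 := rfl
theorem F162224 : act 4 n105623 = n48857 := d20_8 (iv4 F41080) F53798 (iv4 D14712) D14711 (iv1 F161275) (iv3 F78300) F78301 D105623 (iv3 D48857) (iv1 F37149)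
theorem F162225 : act 7 n59684 = n105623 := d11_0 F162224 F78680 D59684
def n105624 : Q := act 1 n48832
theorem D105624 : act 1 n48832 = n105624 := rfl
def n105625 : Q := act 5 n48832
theorem D105625 : act 5 n48832 = n105625 := rfl
def n105626 : Q := act 7 n48832
theorem D105626 : act 7 n48832 = n105626 := rfl
theorem F162226 : act 1 n59684 = n105626 := d15_1 (iv0 F104362) (iv7 D105626) (iv2 F78308)
def n105627 : Q := act 3 n48833
theorem D105627 : act 3 n48833 = n105627 := rfl
def n105628 : Q := act 5 n48833
theorem D105628 : act 5 n48833 = n105628 := rfl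
theorem F162227 : act 2 n105628 = n67034 := d2_1 D105628 (iv5 D67034) (iv2 F102942)
def n105629 : Q := act 6 n48833
theorem D105629 : act 6 n48833 = n105629 := rfl
theorem F162228 : act 2 n105629 = n67035 := d3_1 D105629 (iv6 D67035) (iv2 F102942)
theorem F162229 : act 4 n105629 = n67032 := d10_1 D105629 (iv6 D67032) F102936
def n105630 : Q := act 3 n48834
theorem D105630 : act 3 n48834 = n105630 := rfl
theorem F162230 : act 4 n105630 = n67055 := d5_2 F102984 D105630 F103037 F49546 (iv3 F49541)
theorem F162231 : act 7 n105630 = n67033 := d8_2 F102983 D105630 (iv3 D67033)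
def n105631 : Q := act 5 n48834
theorem D105631 : act 5 n48834 = n105631 := rfl
theorem F162232 : act 7 n105631 = n67034 := d13_2 F102983 D105631 (iv5 D67034)
def n105632 : Q := act 6 n48834
theorem D105632 : act 6 n48834 = n105632 := rfl
theorem F162233 : act 4 n105632 = n67045 := d10_1 D105632 (iv6 D67045) F102984
def n105633 : Q := act 5 n48835
theorem D105633 : act 5 n48835 = n105633 := rfl
theorem F162234 : act 2 n105633 = n48836 := d2_1 D105633 (iv5 D48836) D48835
def n105634 : Q := act 0 n48836
theorem D105634 : act 0 n48836 = n105634 := rfl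
def n105635 : Q := act 1 n48836
theorem D105635 : act 1 n48836 = n105635 := rfl
def n105636 : Q := act 4 n48836
theorem D105636 : act 4 n48836 = n105636 := rfl
def n105637 : Q := act 6 n48836
theorem D105637 : act 6 n48836 = n105637 := rfl
theorem F162235 : act 3 n105637 = n48840 := d7_1 D105637 (iv6 D48840) (iv3 F76907)
def n105638 : Q := act 3 n48837
theorem D105638 : act 3 n48837 = n105638 := rfl
theorem F162236 : act 5 n105638 = n50426 := d6_2 (iv5 F76908) D105638 (iv3 D50426)
def n105639 : Q := act 6 n48837
theorem D105639 : act 6 n48837 = n105639 := rfl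
def n105640 : Q := act 3 n48838
theorem D105640 : act 3 n48838 = n105640 := rfl
theorem F162237 : act 5 n105640 = n67674 := d6_2 (iv5 F76909) D105640 (iv3 D67674)
def n105641 : Q := act 6 n48838
theorem D105641 : act 6 n48838 = n105641 := rfl
theorem F162238 : act 4 n105641 = n50456 := d10_1 D105641 (iv6 D50456) F76910
def n105642 : Q := act 3 n48839
theorem D105642 : act 3 n48839 = n105642 := rfl
theorem F162239 : act 5 n105642 = n50412 := d6_2 (iv5 F76911) D105642 (iv3 D50412)
theorem F162240 : act 7 n105642 = n64070 := d8_2 F76912 D105642 F99663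
def n105643 : Q := act 6 n48839
theorem D105643 : act 6 n48839 = n105643 := rfl
theorem F162241 : act 4 n105643 = n48840 := d10_1 D105643 (iv6 D48840) D48839
def n105644 : Q := act 0 n48840
theorem D105644 : act 0 n48840 = n105644 := rfl
def n105645 : Q := act 1 n48840
theorem D105645 : act 1 n48840 = n105645 := rfl
def n105646 : Q := act 7 n48840
theorem D105646 : act 7 n48840 = n105646 := rfl
def n105647 : Q := act 6 n48841
theorem D105647 : act 6 n48841 = n105647 := rfl
theorem F162242 : act 4 n105647 = n64073 := d10_1 D105647 (iv6 D64073) (iv4 F76913)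
def n105648 : Q := act 0 n48842
theorem D105648 : act 0 n48842 = n105648 := rfl
def n105649 : Q := act 1 n48842
theorem D105649 : act 1 n48842 = n105649 := rfl
theorem F162243 : act 4 n74343 = n105649 := d20_6 (iv4 F101300) (iv1 F26236) F26233 (iv3 F26108) D34103 D74343 (iv1 D105649) F76915 F37131 D23830
def n105650 : Q := act 5 n48842
theorem D105650 : act 5 n48842 = n105650 := rfl
def n105651 : Q := act 2 n48843
theorem D105651 : act 2 n48843 = n105651 := rfl
theorem F162244 : act 7 n48844 = n105651 := d15_2 (iv0 D48843) D48844 (iv2 D105651)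
def n105652 : Q := act 3 n48843
theorem D105652 : act 3 n48843 = n105652 := rfl
theorem F162245 : act 4 n105652 = n64049 := d20_6 D26026 (iv1 F100812) F24347 (iv3 F37131) D48843 D105652 (iv1 F99639) F48640 F23972 (iv1 F20480)
theorem F162246 : act 0 n59442 = n105652 := d20_10 F162245 (iv1 F99639) F48640 F23972 (iv1 F20480) D26025 D53839 F111889 (iv4 F80594) (iv3 F93828)
theorem F162247 : act 1 n58742 = n105652 := d15_0 (iv0 F162246) (iv7 F96595) F96593
def n105653 : Q := act 4 n48843
theorem D105653 : act 4 n48843 = n105653 := rfl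
def n105654 : Q := act 6 n48843
theorem D105654 : act 6 n48843 = n105654 := rfl
theorem F162248 : act 5 n105654 = n62179 := d21_6 (iv5 D23787) F18094 (iv5 F18116) D23816 D48843 D105654 (iv1 D62179) (iv5 F49721) (iv6 D31430) (iv1 F37075)
theorem F162249 : act 0 n67835 = n105654 := d21_10 F162248 (iv1 D62179) (iv5 F49721) (iv6 D31430) (iv1 F37075) D48776 F76802 D49753 F101920 D67835
def n105655 : Q := act 7 n48843
theorem D105655 : act 7 n48843 = n105655 := rfl
theorem F162250 : act 2 n105655 = n48844 := d4_1 D105655 F162244 (iv2 D105651)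
def n105656 : Q := act 3 n48844
theorem D105656 : act 3 n48844 = n105656 := rfl
def n105657 : Q := act 4 n48844
theorem D105657 : act 4 n48844 = n105657 := rfl
def n105658 : Q := act 6 n48845
theorem D105658 : act 6 n48845 = n105658 := rfl
theorem F162251 : act 3 n105658 = n66806 := d7_1 D105658 (iv6 D66806) (iv3 F76916)
def n105659 : Q := act 0 n48846
theorem D105659 : act 0 n48846 = n105659 := rfl
def n105660 : Q := act 1 n48846
theorem D105660 : act 1 n48846 = n105660 := rfl
theorem F162252 : act 4 n63960 = n105660 := d20_6 (iv4 F46742) (iv1 F40999) F24361 (iv3 F24343) (iv1 F49377) (iv3 F111462) (iv1 D105660) F76919 F37135 D23819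
theorem F162253 : act 7 n105660 = n66271 := d11_2 (iv7 F111463) F162252 (iv4 D66271)
theorem F162254 : act 2 n66271 = n105659 := d15_3 (iv0 D105659) D105660 F162253
theorem F162255 : act 4 n105659 = n63959 := d1_2 D66271 F162254 F111461
def n105661 : Q := act 5 n48846
theorem D105661 : act 5 n48846 = n105661 := rfl
theorem F162256 : act 3 n105661 = n66809 := d6_1 D105661 (iv5 D66809) (iv3 F76918)
def n105662 : Q := act 7 n48846
theorem D105662 : act 7 n48846 = n105662 := rfl
theorem F162257 : act 3 n105662 = n66810 := d8_1 D105662 (iv7 D66810) (iv3 F76918)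
theorem F162258 : act 4 n105662 = n48849 := d11_1 D105662 (iv7 D48849) (iv4 F76919)
theorem F162259 : act 6 n105662 = n59668 := d14_1 D105662 (iv7 D59668) (iv6 D28315) (iv7 F37134) D48846
theorem F162260 : act 0 n66271 = n105662 := d18_2 F101881 D66271 F162258 (iv5 F77802) D61893 (iv0 F96479) F77693 D49199 (iv5 F82537)
def n105663 : Q := act 3 n48847
theorem D105663 : act 3 n48847 = n105663 := rfl
def n105664 : Q := act 4 n48847
theorem D105664 : act 4 n48847 = n105664 := rfl
def n105665 : Q := act 5 n48847
theorem D105665 : act 5 n48847 = n105665 := rfl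
theorem F162261 : act 6 n105665 = n59635 := d12_2 (iv6 F92827) D105665 (iv5 D59635) (iv6 F92828) (iv5 F92826)
theorem F162262 : act 7 n105665 = n60688 := d13_2 F103548 D105665 F95280
theorem F162263 : act 0 n60607 = n105665 := d21_1 F96489 (iv5 D105665) F92827 (iv1 D51181) F39043 (iv5 D11819) (iv1 F19052) D13954 (iv6 F46983) D61896
def n105666 : Q := act 3 n48848
theorem D105666 : act 3 n48848 = n105666 := rfl
def n105667 : Q := act 4 n48848
theorem D105667 : act 4 n48848 = n105667 := rfl
theorem F162264 : act 0 n105667 = n60469 := d18_2 (iv1 F80763) D105667 F95035 F82537 (iv4 F95150) F96477 F96476 F77804 (iv5 F80761)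
def n105668 : Q := act 6 n48848
theorem D105668 : act 6 n48848 = n105668 := rfl
theorem F162265 : act 5 n105668 = n61848 := d12_1 D105668 (iv6 F96591) (iv5 D62005) D62006 F96592
theorem F162266 : act 0 n67464 = n105668 := d21_1 (iv5 F103320) F162265 (iv6 F96591) F96590 (iv6 D61875) (iv5 F92889) (iv1 F92895) (iv5 F93017) F93018 (iv1 F95072)
def n105669 : Q := act 5 n48851
theorem D105669 : act 5 n48851 = n105669 := rfl
theorem F162267 : act 2 n105669 = n59532 := d2_1 D105669 (iv5 D59532) (iv2 F101870)
theorem F162268 : act 3 n105669 = n48852 := d6_1 D105669 (iv5 D48852) D48851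
theorem F162269 : act 6 n105669 = n59646 := d12_2 (iv6 F76925) D105669 (iv5 D59646) (iv6 F78696) F78695
theorem F162270 : act 7 n105669 = n59536 := d13_2 (iv7 F101871) D105669 (iv5 D59536)
theorem F162271 : act 0 n105669 = n60996 := d21_4 (iv5 F76815) F162019 D59646 (iv6 F162269) (iv6 D60996) F93678 (iv1 F93477) (iv5 F93613) (iv6 F93675) (iv1 F93677)
def n105670 : Q := act 4 n48852
theorem D105670 : act 4 n48852 = n105670 := rfl
theorem F162272 : act 2 n105670 = n59647 := d1_1 D105670 (iv4 D59647) (iv2 F76955)
theorem F162273 : act 6 n105670 = n59647 := d10_2 (iv6 F76926) D105670 (iv4 D59647)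
theorem F162274 : act 7 n105670 = n59654 := d11_2 F76954 D105670 (iv4 D59654)
theorem F162275 : act 0 n105670 = n61025 := d17_0 F96901 (iv1 D62162) (iv5 D29424) F23322 D13996 D29429 (iv5 F47168) (iv0 F76927) D105670
theorem F162276 : act 1 n105670 = n60951 := d18_6 (iv1 D12306) (iv4 F20419) D25933 F46742 D48852 D105670 F95492 (iv0 F48219) (iv5 D25944)
def n105671 : Q := act 0 n48857
theorem D105671 : act 0 n48857 = n105671 := rfl
theorem F162277 : act 1 n59683 = n105671 := d15_0 (iv0 D105671) F78680 D59683
def n105673 : Q := act 2 n48857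
theorem D105673 : act 2 n48857 = n105673 := rfl
theorem F162278 : act 3 n105673 = n59678 := d0_2 D48857 D105673 (iv2 D59678) (iv3 D28320) (iv2 F78651)
theorem F162279 : act 5 n105673 = n59678 := d2_2 (iv5 F76970) D105673 (iv2 D59678)
theorem F162280 : act 7 n105673 = n59683 := d4_2 (iv7 F78680) D105673 (iv2 D59683)
theorem F162283 : act 1 n59682 = n105673 := d15_1 D59682 F162280 (iv2 D59683)
def n105674 : Q := act 6 n48857
theorem D105674 : act 6 n48857 = n105674 := rfl
theorem F162284 : act 3 n105674 = n48858 := d7_1 D105674 (iv6 D48858) D48857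
theorem F162285 : act 5 n105674 = n50951 := d12_1 D105674 F80390 F94080 (iv6 D59680) (iv5 F76970)
theorem F162286 : act 7 n105674 = n68299 := d14_2 (iv7 F78680) D105674 F104470 F79074 F78640
def n105677 : Q := act 2 n48860
theorem D105677 : act 2 n48860 = n105677 := rfl
theorem F162288 : act 3 n105677 = n59683 := d0_2 D48860 D105677 (iv2 D59683) (iv3 D28324) F78655
theorem F162289 : act 5 n105677 = n59683 := d2_2 (iv5 F76976) D105677 (iv2 D59683)
theorem F162290 : act 7 n105677 = n59678 := d4_2 (iv7 F78681) D105677 (iv2 D59678)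
def n105678 : Q := act 4 n48860
theorem D105678 : act 4 n48860 = n105678 := rfl
theorem F162294 : act 7 n105678 = n59588 := d11_2 (iv7 F78681) D105678 F161384
theorem F162295 : act 0 n59591 = n105678 := d20_7 F18122 (iv1 F53796) (iv4 D14707) F161293 (iv1 F48548) (iv3 F99551) F99552 (iv4 D105678) (iv3 D48860) (iv1 D23823)
theorem F162296 : act 1 n59427 = n105678 := d15_0 (iv0 F162295) (iv7 D59591) (iv2 F93805)
def n105680 : Q := act 1 n48861
theorem D105680 : act 1 n48861 = n105680 := rfl
theorem F162298 : act 1 n105680 = n48866 := d15_1 D105680 (iv7 D48866) D48861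
def n105681 : Q := act 3 n48861
theorem D105681 : act 3 n48861 = n105681 := rfl
theorem F162299 : act 7 n105681 = n48867 := d8_2 F76977 D105681 (iv3 D48867)
def n105682 : Q := act 4 n48861
theorem D105682 : act 4 n48861 = n105682 := rfl
theorem F162300 : act 2 n105682 = n48863 := d1_1 D105682 (iv4 D48863) D48861
theorem F162301 : act 7 n105682 = n48868 := d11_2 F76977 D105682 (iv4 D48868)
def n105683 : Q := act 5 n48861
theorem D105683 : act 5 n48861 = n105683 := rfl
theorem F162302 : act 2 n105683 = n48864 := d2_1 D105683 (iv5 D48864) D48861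
theorem F162303 : act 7 n105683 = n48869 := d13_2 F76977 D105683 (iv5 D48869)
def n105684 : Q := act 6 n48861
theorem D105684 : act 6 n48861 = n105684 := rfl
theorem F162304 : act 2 n105684 = n48865 := d3_1 D105684 (iv6 D48865) D48861
def n105685 : Q := act 0 n48862
theorem D105685 : act 0 n48862 = n105685 := rfl
def n105686 : Q := act 2 n48862
theorem D105686 : act 2 n48862 = n105686 := rfl
def n105687 : Q := act 5 n48862
theorem D105687 : act 5 n48862 = n105687 := rfl
theorem F162305 : act 3 n105687 = n48864 := d6_1 D105687 (iv5 D48864) D48862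
def n105688 : Q := act 6 n48862
theorem D105688 : act 6 n48862 = n105688 := rfl
theorem F162306 : act 3 n105688 = n48865 := d7_1 D105688 (iv6 D48865) D48862
def n105689 : Q := act 7 n48862
theorem D105689 : act 7 n48862 = n105689 := rfl
theorem F162307 : act 3 n105689 = n48866 := d8_1 D105689 (iv7 D48866) D48862
def n105690 : Q := act 1 n48863
theorem D105690 : act 1 n48863 = n105690 := rfl
theorem F162308 : act 1 n105690 = n48868 := d15_1 D105690 (iv7 F162301) F162300
def n105691 : Q := act 3 n48863
theorem D105691 : act 3 n48863 = n105691 := rfl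
def n105692 : Q := act 5 n48863
theorem D105692 : act 5 n48863 = n105692 := rfl
def n105693 : Q := act 6 n48863
theorem D105693 : act 6 n48863 = n105693 := rfl
theorem F162309 : act 4 n105693 = n48865 := d10_1 D105693 (iv6 D48865) D48863
def n105694 : Q := act 7 n48863
theorem D105694 : act 7 n48863 = n105694 := rfl
theorem F162310 : act 2 n105694 = n48868 := d4_1 D105694 (iv7 F162301) F162300
theorem F162311 : act 4 n105694 = n48866 := d11_1 D105694 (iv7 D48866) D48863
theorem F162312 : act 1 n48868 = n66914 := d15_0 (iv0 F102872) D105694 F162310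
theorem F162313 : act 0 n48867 = n66591 := d20_4 D66914 (iv1 F162312) (iv4 D48868) D48867 (iv3 F102514) F102542 (iv1 D31219) (iv4 D14740) D14739 (iv1 F102754)
theorem F162314 : act 1 n48867 = n53526 := d15_1 (iv0 F162313) F102520 D66591
def n105695 : Q := act 0 n48864
theorem D105695 : act 0 n48864 = n105695 := rfl
def n105696 : Q := act 1 n48864
theorem D105696 : act 1 n48864 = n105696 := rfl
theorem F162315 : act 1 n105696 = n48869 := d15_1 D105696 (iv7 F162303) F162302
def n105697 : Q := act 4 n48864
theorem D105697 : act 4 n48864 = n105697 := rfl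
theorem F162316 : act 3 n105697 = n50546 := d19_3 D23825 D48864 D105697 (iv1 D50546) (iv5 D24625) (iv4 D11659) F8230 (iv1 F8221) (iv5 F8660) (iv4 D5646) D5645 (iv1 F9894) (iv5 D5184) (iv4 F9937) (iv3 D1446) F5056 D2093 D5102 D11167
theorem E16016 : n65639 = n48864 := (c20_8 D50547 F79921 (iv4 F53379) (iv3 F53380) F50983 (iv3 F101375) (iv4 D65641) D65639 D105697 F162316 (iv1 D50546))
theorem E16017 : n105695 = n66399 := ((D105695).symm.trans (sb E16016 (iv1 F102287)))
theorem E16018 : n105696 = n30751 := ((D105696).symm.trans (sb E16016 (iv0 D65639)))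
theorem F162317 : act 1 n66399 = n48864 := (sb E16017 (iv0 D105695))
theorem F162318 : act 0 n30751 = n48864 := (sb E16018 (iv1 D105696))
theorem E16019 : n65640 = n48869 := ((D65640).symm.trans (sb E16018 F162315))
theorem F162319 : act 0 n48869 = n30751 := (sb E16019 (iv1 D65640))
theorem F162320 : act 1 n48869 = n66399 := (sb E16019 F102289)
theorem F162321 : act 1 n65637 = n105631 := d17_6 (iv1 F49404) D48869 F162319 (iv5 D30751) D30750 D65637 (iv5 D105631) (iv0 F102214) (iv4 D66308)
theorem F162322 : act 1 n105628 = n65637 := d15_0 F162321 F162232 (iv2 F162227)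
theorem F162323 : act 5 n50673 = n105697 := d6_0 F162316 F79917 D50673
def n105698 : Q := act 6 n48864
theorem D105698 : act 6 n48864 = n105698 := rfl
def n105699 : Q := act 7 n48864
theorem D105699 : act 7 n48864 = n105699 := rfl
theorem F162324 : act 2 n105699 = n48869 := d4_1 D105699 (iv7 F162303) F162302
theorem F162325 : act 5 n105699 = n48866 := d13_1 D105699 (iv7 D48866) D48864
def n105700 : Q := act 0 n48865
theorem D105700 : act 0 n48865 = n105700 := rfl
def n105701 : Q := act 1 n48865
theorem D105701 : act 1 n48865 = n105701 := rfl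
def n105702 : Q := act 5 n48865
theorem D105702 : act 5 n48865 = n105702 := rfl
def n105704 : Q := act 6 n48866
theorem D105704 : act 6 n48866 = n105704 := rfl
theorem F162326 : act 2 n105704 = n48870 := d3_1 D105704 (iv6 D48870) (iv2 F76978)
def n105705 : Q := act 2 n48867
theorem D105705 : act 2 n48867 = n105705 := rfl
def n105706 : Q := act 5 n48867
theorem D105706 : act 5 n48867 = n105706 := rfl
theorem F162327 : act 3 n105706 = n48869 := d6_1 D105706 (iv5 D48869) D48867
def n105707 : Q := act 6 n48867
theorem D105707 : act 6 n48867 = n105707 := rfl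
theorem F162328 : act 3 n105707 = n48870 := d7_1 D105707 (iv6 D48870) D48867
def n105708 : Q := act 3 n48868
theorem D105708 : act 3 n48868 = n105708 := rfl
def n105709 : Q := act 5 n48868
theorem D105709 : act 5 n48868 = n105709 := rfl
def n105710 : Q := act 6 n48868
theorem D105710 : act 6 n48868 = n105710 := rfl
theorem F162329 : act 4 n105710 = n48870 := d10_1 D105710 (iv6 D48870) D48868
def n105711 : Q := act 4 n48869
theorem D105711 : act 4 n48869 = n105711 := rfl
def n105712 : Q := act 6 n48869
theorem D105712 : act 6 n48869 = n105712 := rfl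
def n105713 : Q := act 0 n48870
theorem D105713 : act 0 n48870 = n105713 := rfl
def n105714 : Q := act 1 n48870
theorem D105714 : act 1 n48870 = n105714 := rfl
def n105715 : Q := act 5 n48870
theorem D105715 : act 5 n48870 = n105715 := rfl
def n105716 : Q := act 7 n48870
theorem D105716 : act 7 n48870 = n105716 := rfl
def n105717 : Q := act 4 n48871
theorem D105717 : act 4 n48871 = n105717 := rfl
theorem F162330 : act 2 n105717 = n48874 := d1_1 D105717 (iv4 D48874) (iv2 F76979)
theorem F162331 : act 7 n105717 = n59921 := d11_2 (iv7 F76981) D105717 F94396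
theorem F162332 : act 0 n105717 = n59920 := d18_2 (iv1 F76983) D105717 (iv4 F94395) (iv5 F103145) F101371 F103712 F103708 F49738 F94441
theorem F162333 : act 1 n105717 = n59919 := d15_0 (iv0 D59919) (iv7 F76987) (iv2 F162330)
def n105718 : Q := act 6 n48871
theorem D105718 : act 6 n48871 = n105718 := rfl
theorem F162334 : act 2 n105718 = n48875 := d3_1 D105718 (iv6 D48875) (iv2 F76979)
def n105719 : Q := act 4 n48872
theorem D105719 : act 4 n48872 = n105719 := rfl
theorem F162336 : act 2 n105719 = n59958 := d1_1 D105719 (iv4 D59958) (iv2 F105490)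
theorem F162337 : act 3 n105719 = n50681 := d5_1 D105719 (iv4 F81993) F81994 D69201 (iv3 F105489)
theorem F162338 : act 7 n105719 = n59954 := d11_2 (iv7 F105492) D105719 (iv4 D59954)
theorem E16020 : n67692 = n48872 := (c19_2 D31438 D67692 D105719 F162337 (iv1 D50681) (iv5 D24678) (iv4 D11685) (iv3 D5424) (iv1 D2231) (iv5 D1086) F1262 (iv3 F1246) D1064 D2155 D5265 (iv3 F10300) (iv1 F8720) F8717 D7061 D14819)
theorem E16021 : n65628 = n31438 := ((F105491).symm.trans (sb E16020 (iv5 D67692)))
theorem E16022 : n67689 = n30748 := ((D67689).symm.trans (sb E16021 F101365))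
theorem F162339 : act 5 n31438 = n48872 := (sb E16021 (iv5 F105491))
theorem E16023 : n67694 = n30747 := ((D67694).symm.trans (sb E16021 (iv7 D65628)))
theorem F162340 : act 2 n30748 = n31438 := (sb E16022 (iv2 D67689))
theorem E16024 : n65624 = n31439 := ((F101362).symm.trans (sb E16022 (iv7 F103726)))
theorem F162341 : act 7 n30747 = n31438 := (sb E16023 (iv7 D67694))
theorem F162342 : act 2 n31439 = n30747 := (sb E16024 (iv2 D65624))
theorem E16025 : n67697 = n48873 := ((D67697).symm.trans (sb E16024 (iv5 F105494)))
theorem F162343 : act 7 n31439 = n30748 := (sb E16024 (iv7 F101362))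
theorem F162344 : act 5 n48873 = n31439 := (sb E16025 (iv5 D67697))
theorem F162345 : act 5 n67677 = n105635 := d17_1 (iv1 F103711) (iv1 D105635) (iv5 D48836) F37129 D23828 D48873 F162344 F49739 D65632
theorem F162346 : act 7 n65629 = n67695 := d8_2 F162343 D65629 (iv3 D67695)
theorem F162347 : act 7 n65630 = n67696 := d11_2 F162343 D65630 (iv4 D67696)
theorem F162348 : act 2 n65626 = n67696 := d1_3 (iv4 D67696) F162342 D65626
theorem F162349 : act 2 n65627 = n67698 := d3_3 (iv6 D67698) F162342 D65627
theorem F162350 : act 7 n67690 = n65625 := d8_2 F162341 D67690 (iv3 D65625)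
theorem F162351 : act 7 n67691 = n65626 := d11_2 F162341 D67691 (iv4 D65626)
theorem F162352 : act 2 n65630 = n67691 := d4_3 F162351 F162348 (iv7 F162347)
theorem F162353 : act 1 n67696 = n68231 := d15_0 (iv0 F104393) F162351 F162348
theorem F162354 : act 5 n69201 = n67690 := d13_3 F162350 F101364 (iv7 F105488)
theorem F162356 : act 5 n51564 = n105719 := d13_3 F162338 (iv5 F94442) (iv7 F81386)
def n105721 : Q := act 3 n48873
theorem D105721 : act 3 n48873 = n105721 := rfl
theorem F162358 : act 5 n105721 = n67695 := d6_2 (iv5 F162344) D105721 (iv3 D67695)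
theorem F162359 : act 7 n105721 = n59957 := d8_2 (iv7 F105495) D105721 (iv3 D59957)
def n105722 : Q := act 4 n48873
theorem D105722 : act 4 n48873 = n105722 := rfl
theorem F162360 : act 2 n105722 = n59954 := d1_1 D105722 (iv4 D59954) (iv2 F105493)
theorem F162361 : act 7 n105722 = n59958 := d11_2 (iv7 F105495) D105722 (iv4 D59958)
def n105723 : Q := act 6 n48873
theorem D105723 : act 6 n48873 = n105723 := rfl
theorem F162362 : act 2 n105723 = n59955 := d3_1 D105723 (iv6 D59955) (iv2 F105493)
def n105724 : Q := act 0 n48874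
theorem D105724 : act 0 n48874 = n105724 := rfl
theorem F162363 : act 1 n59921 = n105724 := d15_0 (iv0 D105724) F76987 D59921
def n105725 : Q := act 1 n48874
theorem D105725 : act 1 n48874 = n105725 := rfl
theorem F162364 : act 1 n105725 = n59921 := d15_1 D105725 (iv7 F162331) F162330
theorem F162365 : act 4 n54254 = n105725 := d20_6 F20365 (iv1 D5914) D5915 D12440 D26234 D54254 (iv1 D105725) (iv4 D48874) F37154 (iv1 F20367)
def n105726 : Q := act 5 n48874
theorem D105726 : act 5 n48874 = n105726 := rfl
theorem F162366 : act 3 n105726 = n59927 := d6_1 D105726 F94411 (iv3 F76986)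
theorem F162367 : act 7 n105726 = n59922 := d13_2 (iv7 F76987) D105726 (iv5 D59922)
def n105727 : Q := act 6 n48874
theorem D105727 : act 6 n48874 = n105727 := rfl
theorem F162368 : act 3 n105727 = n59932 := d7_1 D105727 (iv6 D59932) (iv3 F76986)
theorem F162369 : act 4 n105727 = n48875 := d10_1 D105727 (iv6 D48875) D48874
def n105728 : Q := act 0 n48875
theorem D105728 : act 0 n48875 = n105728 := rfl
def n105729 : Q := act 1 n48875
theorem D105729 : act 1 n48875 = n105729 := rfl
def n105730 : Q := act 7 n48875
theorem D105730 : act 7 n48875 = n105730 := rfl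
theorem F162370 : act 3 n105730 = n48878 := d8_1 D105730 (iv7 D48878) (iv3 F76988)
theorem F162371 : act 6 n105730 = n59965 := d14_1 D105730 (iv7 D59965) (iv6 D28475) (iv7 F37155) D48875
def n105741 : Q := act 0 n48879
theorem D105741 : act 0 n48879 = n105741 := rfl
def n105742 : Q := act 1 n48879
theorem D105742 : act 1 n48879 = n105742 := rfl
def n105743 : Q := act 4 n48879
theorem D105743 : act 4 n48879 = n105743 := rfl
theorem F162376 : act 3 n105743 = n67352 := d5_1 D105743 (iv4 D67352) (iv3 D31310) F101300 D48879
theorem F162377 : act 7 n105743 = n59798 := d11_2 (iv7 F76996) D105743 (iv4 D59798)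
def n105744 : Q := act 4 n48883
theorem D105744 : act 4 n48883 = n105744 := rfl
theorem F162378 : act 2 n105744 = n72103 := d1_1 D105744 (iv4 D72103) F77004
theorem F162379 : act 3 n105744 = n76426 := d5_1 D105744 F114576 (iv3 F110876) F110877 (iv3 F97545)
theorem F162380 : act 7 n105744 = n72111 := d11_2 (iv7 F77003) D105744 (iv4 D72111)
theorem F162381 : act 0 n105744 = n76489 := d17_0 (iv5 F114656) (iv1 D52977) (iv5 D25715) F20209 D12715 D26606 (iv5 F42604) D48883 D105744
theorem F162382 : act 0 n61288 = n105744 := d20_1 (iv4 F95772) (iv4 D105744) F97545 (iv1 F97543) D70333 F106798 (iv1 F104028) (iv4 D31649) D31648 (iv1 F115250)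
def n105745 : Q := act 5 n48884
theorem D105745 : act 5 n48884 = n105745 := rfl
theorem F162383 : act 2 n105745 = n59812 := d2_1 D105745 (iv5 D59812) (iv2 F77006)
theorem F162384 : act 3 n105745 = n52516 := d6_1 D105745 F82932 (iv3 F77008)
theorem F162385 : act 7 n105745 = n59814 := d13_2 (iv7 F77007) D105745 (iv5 D59814)
theorem F162386 : act 0 n105745 = n68614 := d17_2 F77009 D105745 (iv5 D68614) (iv4 F77039) F77037 F94343 F94340 (iv0 F55371) D34967
theorem F162387 : act 1 n105745 = n59871 := d17_6 (iv1 F20671) D26159 (iv1 F41490) (iv5 F50553) D48884 D105745 (iv5 D59871) (iv0 F45968) (iv4 D15061)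
theorem F162388 : act 4 n68663 = n105745 := d18_7 F45967 (iv4 D15066) (iv1 D7167) D7169 D15074 D31949 D68663 F162387 (iv5 D59871)
def n105746 : Q := act 4 n48885
theorem D105746 : act 4 n48885 = n105746 := rfl
theorem F162389 : act 2 n105746 = n48921 := d1_1 D105746 F77133 (iv2 F77011)
theorem F162390 : act 7 n105746 = n48908 := d11_2 (iv7 F77013) D105746 (iv4 D48908)
theorem F162391 : act 0 n105746 = n48917 := d18_2 F77015 D105746 (iv4 F85459) F85457 F50522 F55242 F55240 F39936 (iv5 F77016)
def n105747 : Q := act 6 n48885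
theorem D105747 : act 6 n48885 = n105747 := rfl
theorem F162393 : act 2 n105747 = n48925 := d3_1 D105747 (iv6 D48925) (iv2 F77011)
theorem F162394 : act 3 n105747 = n59845 := d7_1 D105747 (iv6 D59845) (iv3 F77012)
def n105748 : Q := act 5 n48889
theorem D105748 : act 5 n48889 = n105748 := rfl
theorem F162395 : act 2 n105748 = n68717 := d2_1 D105748 (iv5 D68717) F77043
theorem F162396 : act 3 n105748 = n92732 := d6_1 D105748 (iv5 D92732) F77044
theorem F162397 : act 7 n105748 = n68629 := d13_2 F77046 D105748 (iv5 D68629)
theorem F162398 : act 0 n105748 = n67897 := d17_2 D48889 D105748 (iv5 D67897) (iv4 D31569) (iv5 F50935) F77020 (iv5 D48885) (iv0 D23837) D23840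
theorem F162399 : act 1 n105748 = n67895 := d17_6 D16984 F50654 F85304 (iv5 D54067) (iv4 F77042) D105748 (iv5 D67895) (iv0 F50655) F27857
theorem F162400 : act 4 n67897 = n105329 := d18_1 F162398 (iv1 D105329) (iv4 D48697) (iv5 D23748) F18046 D11176 D23845 (iv0 F77047) D105748
def n105749 : Q := act 5 n48890
theorem D105749 : act 5 n48890 = n105749 := rfl
theorem F162401 : act 2 n105749 = n68629 := d2_1 D105749 (iv5 D68629) (iv2 F77051)
theorem F162402 : act 3 n105749 = n52454 := d6_1 D105749 F82814 (iv3 F77052)
theorem F162403 : act 7 n105749 = n68717 := d13_2 (iv7 F77049) D105749 (iv5 D68717)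
theorem F162404 : act 0 n105749 = n67895 := d17_2 (iv1 F77048) D105749 (iv5 D67895) (iv4 D31564) (iv5 F77016) (iv0 D23851) (iv5 D11178) D11176 D23845
theorem F162405 : act 1 n105749 = n67897 := d17_6 (iv1 F50650) D32371 F85409 (iv5 D54107) F77050 D105749 (iv5 D67897) F88623 F88621
def n105750 : Q := act 5 n48891
theorem D105750 : act 5 n48891 = n105750 := rfl
theorem F162406 : act 2 n105750 = n68614 := d2_1 D105750 (iv5 D68614) F77059
theorem F162407 : act 3 n105750 = n48892 := d6_1 D105750 (iv5 D48892) D48891
theorem F162408 : act 7 n105750 = n59871 := d13_2 F77061 D105750 (iv5 D59871)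
theorem F162409 : act 0 n105750 = n59814 := d17_2 F77056 D105750 (iv5 D59814) (iv4 D28370) (iv5 F50532) F41513 (iv5 D15070) F20668 D26152
theorem F162410 : act 1 n105750 = n59812 := d17_6 (iv1 F55369) (iv5 F50186) F77072 (iv5 D48896) (iv4 F77054) D105750 (iv5 D59812) D59811 (iv4 F94194)
def n105751 : Q := act 4 n48892
theorem D105751 : act 4 n48892 = n105751 := rfl
theorem F162411 : act 0 n105751 = n76393 := d18_2 (iv1 F114808) D105751 (iv4 D76393) (iv5 D34904) F27758 (iv0 F54267) (iv4 F78799) F78801 (iv5 F114807)
def n105752 : Q := act 6 n48892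
theorem D105752 : act 6 n48892 = n105752 := rfl
def n105753 : Q := act 3 n48894
theorem D105753 : act 3 n48894 = n105753 := rfl
def n105754 : Q := act 5 n48894
theorem D105754 : act 5 n48894 = n105754 := rfl
def n105755 : Q := act 6 n48894
theorem D105755 : act 6 n48894 = n105755 := rfl
theorem F162412 : act 4 n105755 = n48895 := d10_1 D105755 (iv6 D48895) D48894
def n105756 : Q := act 0 n48895
theorem D105756 : act 0 n48895 = n105756 := rfl
def n105757 : Q := act 1 n48895
theorem D105757 : act 1 n48895 = n105757 := rfl
def n105758 : Q := act 5 n48895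
theorem D105758 : act 5 n48895 = n105758 := rfl
theorem F162413 : act 2 n105758 = n76539 := d2_1 D105758 F114765 F103994
theorem F162414 : act 3 n105758 = n59848 := d6_1 D105758 (iv5 F106190) F106189
theorem F162415 : act 6 n105758 = n48896 := d12_2 D48895 D105758 (iv5 D48896) (iv6 D23842) D23841
def n105759 : Q := act 7 n48895
theorem D105759 : act 7 n48895 = n105759 := rfl
def n105760 : Q := act 4 n48896
theorem D105760 : act 4 n48896 = n105760 := rfl
theorem F162416 : act 2 n105760 = n68673 := d1_1 D105760 F104886 (iv2 F77068)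
theorem F162417 : act 7 n105760 = n59874 := d11_2 (iv7 F77070) D105760 (iv4 D59874)
theorem F162418 : act 0 n105760 = n54082 := d18_2 F77072 D105760 (iv4 D54082) F50532 D28370 F94188 F94186 F55358 (iv5 F50186)
theorem F162419 : act 1 n105760 = n54080 := d18_6 D12407 D26152 F77056 F77054 D48896 D105760 (iv4 D54080) (iv0 D26165) (iv5 D12411)
def n105761 : Q := act 6 n48899
theorem D105761 : act 6 n48899 = n105761 := rfl
theorem F162420 : act 3 n105761 = n48905 := d7_1 D105761 (iv6 D48905) (iv3 F77082)
def n105762 : Q := act 5 n48901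
theorem D105762 : act 5 n48901 = n105762 := rfl
theorem F162421 : act 2 n105762 = n49096 := d2_1 D105762 (iv5 D49096) (iv2 F77487)
theorem F162422 : act 3 n105762 = n48902 := d6_1 D105762 (iv5 D48902) D48901
theorem F162423 : act 7 n105762 = n49093 := d13_2 (iv7 F77084) D105762 (iv5 D49093)
theorem F162424 : act 0 n52503 = n105762 := d21_7 (iv5 F82388) F69253 F69250 (iv6 D34882) (iv1 F40369) (iv6 F45853) (iv5 F82902) (iv5 D105762) (iv6 F138857) F138855
def n105763 : Q := act 4 n48902
theorem D105763 : act 4 n48902 = n105763 := rfl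
theorem F162425 : act 1 n105763 = n76393 := d18_6 D31951 F50291 (iv1 F37176) D23845 D48902 D105763 (iv4 D76393) F55237 (iv5 D31952)
def n105764 : Q := act 6 n48902
theorem D105764 : act 6 n48902 = n105764 := rfl
theorem F162426 : act 2 n105764 = n100345 := d3_1 D105764 F154326 (iv2 F114798)
theorem F162427 : act 5 n105764 = n92675 := d12_1 D105764 (iv6 D92675) F77090 (iv6 D48903) D48902
def n105765 : Q := act 3 n48904
theorem D105765 : act 3 n48904 = n105765 := rfl
def n105766 : Q := act 5 n48904
theorem D105766 : act 5 n48904 = n105766 := rfl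
def n105767 : Q := act 6 n48904
theorem D105767 : act 6 n48904 = n105767 := rfl
def n105769 : Q := act 1 n48905
theorem D105769 : act 1 n48905 = n105769 := rfl
def n105770 : Q := act 7 n48905
theorem D105770 : act 7 n48905 = n105770 := rfl
def n105771 : Q := act 3 n48906
theorem D105771 : act 3 n48906 = n105771 := rfl
theorem F162429 : act 2 n105771 = n67926 := d0_1 D105771 F104003 (iv2 F77123) (iv3 D48910) (iv2 F77096)
theorem F162430 : act 5 n105771 = n52084 := d6_2 F77095 D105771 (iv3 D52084)
theorem F162431 : act 7 n105771 = n48913 := d8_2 (iv7 F77097) D105771 (iv3 D48913)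
theorem F162432 : act 4 n105771 = n68815 := d20_6 (iv4 F94363) (iv1 D59889) (iv4 D28447) (iv3 F37184) D48906 D105771 (iv1 F105008) (iv4 D32014) (iv3 F50380) (iv1 F54555)
theorem F162433 : act 0 n53969 = n105771 := d18_0 F162432 (iv1 F105008) (iv4 D32014) (iv5 D15103) D15102 (iv0 F56679) (iv4 F77023) (iv0 F77025) (iv5 F85143)
theorem F162434 : act 1 n67964 = n105771 := d15_0 (iv0 F162433) F85144 D67964
def n105772 : Q := act 4 n48906
theorem D105772 : act 4 n48906 = n105772 := rfl
theorem F162435 : act 2 n105772 = n48911 := d1_1 D105772 (iv4 D48911) (iv2 F77096)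
theorem F162436 : act 7 n105772 = n48914 := d11_2 (iv7 F77097) D105772 (iv4 D48914)
theorem F162437 : act 0 n105772 = n68718 := d18_2 D48906 D105772 (iv4 D68718) (iv5 D31972) D31971 (iv0 F77031) (iv4 D48887) F54335 D23850
theorem F162438 : act 1 n105772 = n68630 := d18_6 (iv1 D27010) (iv4 F43631) F82325 (iv4 D52085) F77095 D105772 (iv4 D68630) F85461 F85457
def n105773 : Q := act 6 n48906
theorem D105773 : act 6 n48906 = n105773 := rfl
theorem F162439 : act 2 n105773 = n48912 := d3_1 D105773 (iv6 D48912) (iv2 F77096)
theorem F162440 : act 5 n105773 = n71090 := d12_1 D105773 (iv6 D71090) (iv5 F77101) (iv6 F77098) F77095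
def n105774 : Q := act 4 n48907
theorem D105774 : act 4 n48907 = n105774 := rfl
theorem F162441 : act 2 n105774 = n48914 := d1_1 D105774 (iv4 D48914) (iv2 F77113)
theorem F162442 : act 3 n105774 = n69189 := d5_1 D105774 (iv4 D69189) (iv3 D32178) D32179 F77111
theorem F162443 : act 7 n105774 = n48911 := d11_2 (iv7 F77110) D105774 (iv4 D48911)
theorem F162444 : act 0 n105774 = n68630 := d18_2 (iv1 F77109) D105774 (iv4 D68630) (iv5 D31934) D31933 F77065 F77064 F54295 (iv5 F37188)
theorem F162445 : act 1 n105774 = n68718 := d18_6 F50524 (iv4 F55425) (iv1 F78801) F78799 F77112 D105774 (iv4 D68718) (iv0 F54567) (iv5 D34402)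
def n105775 : Q := act 6 n48907
theorem D105775 : act 6 n48907 = n105775 := rfl
theorem F162446 : act 2 n105775 = n48915 := d3_1 D105775 (iv6 D48915) (iv2 F77113)
theorem F162447 : act 3 n105775 = n69191 := d7_1 D105775 (iv6 D69191) F77111
theorem F162448 : act 5 n105775 = n49840 := d12_1 D105775 (iv6 D49840) (iv5 D24302) D24303 F77112
def n105776 : Q := act 3 n48908
theorem D105776 : act 3 n48908 = n105776 := rfl
theorem F162449 : act 4 n105776 = n59890 := d5_2 D48908 D105776 (iv3 D59890) (iv4 D28447) (iv3 F37184)
def n105777 : Q := act 5 n48908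
theorem D105777 : act 5 n48908 = n105777 := rfl
theorem F162450 : act 2 n105777 = n48919 := d2_1 D105777 (iv5 D48919) (iv2 F77114)
def n105778 : Q := act 6 n48908
theorem D105778 : act 6 n48908 = n105778 := rfl
theorem F162451 : act 2 n105778 = n48920 := d3_1 D105778 (iv6 D48920) (iv2 F77114)
theorem F162452 : act 4 n105778 = n48909 := d10_1 D105778 (iv6 D48909) D48908
def n105779 : Q := act 0 n48909
theorem D105779 : act 0 n48909 = n105779 := rfl
def n105780 : Q := act 1 n48909
theorem D105780 : act 1 n48909 = n105780 := rfl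
theorem F162453 : act 1 n105780 = n48924 := d15_1 D105780 (iv7 D48924) (iv2 F77115)
theorem F162454 : act 5 n70772 = n105780 := d21_6 F30276 (iv1 D7921) (iv5 F11678) D15705 D32804 D70772 (iv1 D105780) F77117 (iv6 D23899) (iv1 F18158)
theorem F162455 : act 3 n105780 = n69229 := d20_5 D15227 D32301 F51212 (iv3 F77134) (iv1 F162453) (iv4 D69229) (iv1 D32193) F24810 F11526 D7215
theorem F162456 : act 0 n59892 = n69249 := d20_7 (iv4 F105397) (iv1 F105399) D69229 (iv3 F162455) (iv1 D105780) F77116 (iv4 F94370) (iv4 D69249) (iv3 D32198) (iv1 F51108)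
def n105781 : Q := act 7 n48909
theorem D105781 : act 7 n48909 = n105781 := rfl
theorem F162457 : act 2 n105781 = n48924 := d4_1 D105781 (iv7 D48924) (iv2 F77115)
theorem F162458 : act 3 n105781 = n59895 := d8_1 D105781 (iv7 D59895) (iv3 F77116)
theorem F162459 : act 5 n105781 = n48984 := d13_1 D105781 (iv7 D48984) (iv5 F77117)
theorem F162460 : act 1 n48924 = n105779 := d15_0 (iv0 D105779) D105781 F162457
theorem F162461 : act 1 n48923 = n105781 := d15_1 D48923 (iv7 D105781) F77115
theorem F162462 : act 1 n105781 = n48922 := d15_0 (iv0 D48922) D48924 (iv2 F162457)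
def n105782 : Q := act 6 n48910
theorem D105782 : act 6 n48910 = n105782 := rfl
theorem F162463 : act 2 n105782 = n69179 := d3_1 D105782 (iv6 D69179) (iv2 F77123)
theorem F162464 : act 3 n105782 = n48912 := d7_1 D105782 (iv6 D48912) D48910
theorem F162465 : act 4 n105782 = n69083 := d10_1 D105782 (iv6 D69083) (iv4 F77120)
theorem F162466 : act 5 n105782 = n60357 := d12_1 D105782 (iv6 D60357) (iv5 F79155) (iv6 F79152) (iv5 F77118)
def n105783 : Q := act 0 n48911
theorem D105783 : act 0 n48911 = n105783 := rfl
theorem F162467 : act 4 n105783 = n54067 := d18_3 D23851 D48911 D105783 (iv5 D54067) (iv4 F77042) (iv0 D48889) (iv4 D23840) (iv0 D11175) D11178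
theorem F162468 : act 1 n48914 = n105783 := d15_0 (iv0 D105783) (iv7 F162443) F162441
theorem F162469 : act 2 n68718 = n105783 := d1_3 F162467 F85300 D68718
theorem F162470 : act 7 n68630 = n105783 := d11_0 F162467 F85302 D68630
def n105784 : Q := act 1 n48911
theorem D105784 : act 1 n48911 = n105784 := rfl
theorem F162471 : act 1 n105784 = n48914 := d15_1 D105784 (iv7 F162436) F162435
theorem F162472 : act 7 n105784 = n68718 := d15_2 (iv0 D105783) D105784 F162469
theorem F162473 : act 4 n105784 = n54107 := d18_7 F50649 (iv4 F27857) F50655 (iv4 D31564) (iv5 F77016) D48911 D105784 (iv0 F85409) (iv5 D32371)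
theorem F162474 : act 2 n68630 = n105784 := d1_3 F162473 F85406 D68630
def n105785 : Q := act 3 n48911
theorem D105785 : act 3 n48911 = n105785 := rfl
theorem F162475 : act 4 n105785 = n69081 := d5_2 D48911 D105785 (iv3 D69081) (iv4 F77120) (iv3 D48910)
theorem F162476 : act 7 n105785 = n69189 := d8_2 F162443 D105785 (iv3 F162442)
def n105786 : Q := act 5 n48911
theorem D105786 : act 5 n48911 = n105786 := rfl
theorem F162477 : act 1 n105786 = n76584 := d17_6 (iv1 D31577) (iv5 D14867) D14863 (iv5 F77016) D48911 D105786 (iv5 D76584) (iv0 F103993) (iv4 D67908)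
def n105787 : Q := act 6 n48911
theorem D105787 : act 6 n48911 = n105787 := rfl
theorem F162478 : act 4 n105787 = n48912 := d10_1 D105787 (iv6 D48912) D48911
def n105788 : Q := act 0 n48912
theorem D105788 : act 0 n48912 = n105788 := rfl
def n105789 : Q := act 1 n48912
theorem D105789 : act 1 n48912 = n105789 := rfl
def n105790 : Q := act 5 n48912
theorem D105790 : act 5 n48912 = n105790 := rfl
theorem F162479 : act 2 n105790 = n71090 := d2_1 D105790 (iv5 F162440) F162439
theorem F162480 : act 3 n105790 = n60357 := d6_1 D105790 (iv5 F162466) F162464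
theorem F162481 : act 6 n105790 = n54498 := d12_2 D48912 D105790 F86079 (iv6 D31566) (iv5 F77016)
def n105791 : Q := act 7 n48912
theorem D105791 : act 7 n48912 = n105791 := rfl
def n105792 : Q := act 2 n48913
theorem D105792 : act 2 n48913 = n105792 := rfl
theorem F162482 : act 3 n105792 = n67883 := d0_2 D48913 D105792 F103934 F77111 F77113
theorem F162483 : act 5 n105792 = n53963 := d2_2 (iv5 F77127) D105792 F85117
theorem F162484 : act 7 n105792 = n67926 := d4_2 F162431 D105792 (iv2 F162429)
theorem F162485 : act 1 n105792 = n67964 := d15_0 F162434 F162431 D105792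
theorem F162486 : act 1 n53969 = n105792 := d15_0 F162485 (iv7 F105032) F105030
theorem F162487 : act 4 n68816 = n105792 := d18_7 (iv1 F77075) F77077 F77057 (iv4 D15097) D15098 D32010 D68816 F162485 F104078
def n105793 : Q := act 4 n48913
theorem D105793 : act 4 n48913 = n105793 := rfl
theorem F162488 : act 2 n105793 = n68816 := d1_1 D105793 F162487 (iv2 D105792)
theorem F162489 : act 7 n105793 = n68815 := d11_2 F162431 D105793 (iv4 F162432)
theorem F162490 : act 0 n105793 = n54034 := d18_2 (iv1 F105036) D105793 (iv4 D54034) (iv5 D26141) D26140 (iv0 F77080) (iv4 D48898) F77028 (iv5 F50444)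
theorem F162491 : act 1 n105793 = n54031 := d18_6 F26894 (iv4 F51374) (iv1 F97651) F97649 (iv5 F77127) D105793 (iv4 D54031) (iv0 F41424) F20702
def n105794 : Q := act 6 n48913
theorem D105794 : act 6 n48913 = n105794 := rfl
theorem F162492 : act 3 n105794 = n48915 := d7_1 D105794 (iv6 D48915) D48913
def n105795 : Q := act 3 n48914
theorem D105795 : act 3 n48914 = n105795 := rfl
def n105796 : Q := act 5 n48914
theorem D105796 : act 5 n48914 = n105796 := rfl
theorem F162493 : act 0 n105796 = n76584 := d17_2 (iv1 F162468) D105796 (iv5 D76584) (iv4 D34996) (iv5 D16986) (iv0 F50649) D32371 (iv0 F85303) (iv4 F162467)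
def n105797 : Q := act 6 n48914
theorem D105797 : act 6 n48914 = n105797 := rfl
theorem F162494 : act 4 n105797 = n48915 := d10_1 D105797 (iv6 D48915) D48914
def n105798 : Q := act 0 n48915
theorem D105798 : act 0 n48915 = n105798 := rfl
def n105799 : Q := act 1 n48915
theorem D105799 : act 1 n48915 = n105799 := rfl
def n105800 : Q := act 5 n48915
theorem D105800 : act 5 n48915 = n105800 := rfl
theorem F162495 : act 2 n105800 = n49840 := d2_1 D105800 (iv5 F162448) F162446
theorem F162496 : act 6 n105800 = n49831 := d12_2 D48915 D105800 (iv5 D49831) F55539 (iv5 F50935)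
def n105801 : Q := act 7 n48915
theorem D105801 : act 7 n48915 = n105801 := rfl
def n105802 : Q := act 3 n48916
theorem D105802 : act 3 n48916 = n105802 := rfl
def n105803 : Q := act 5 n48916
theorem D105803 : act 5 n48916 = n105803 := rfl
theorem F162498 : act 1 n105803 = n67911 := d17_6 F43635 (iv5 D27011) (iv1 F50525) D34402 (iv4 F77128) D105803 (iv5 D67911) (iv0 F85416) (iv4 D54109)
def n105804 : Q := act 6 n48916
theorem D105804 : act 6 n48916 = n105804 := rfl
theorem F162499 : act 4 n105804 = n75125 := d10_1 D105804 (iv6 D75125) (iv4 F77128)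
def n105805 : Q := act 3 n48917
theorem D105805 : act 3 n48917 = n105805 := rfl
def n105806 : Q := act 5 n48917
theorem D105806 : act 5 n48917 = n105806 := rfl
def n105808 : Q := act 0 n48918
theorem D105808 : act 0 n48918 = n105808 := rfl
theorem F162501 : act 1 n59738 = n105808 := d15_0 (iv0 D105808) (iv7 F77130) (iv2 F94112)
def n105809 : Q := act 1 n48918
theorem D105809 : act 1 n48918 = n105809 := rfl
theorem F162502 : act 4 n53764 = n105809 := d20_6 F20396 (iv1 F9161) (iv4 F9007) (iv3 F20461) D26006 D53764 (iv1 D105809) F77129 (iv3 D23856) (iv1 F20399)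
def n105810 : Q := act 2 n48918
theorem D105810 : act 2 n48918 = n105810 := rfl
theorem F162504 : act 4 n105810 = n48928 := d1_2 (iv4 F77129) D105810 (iv2 D48928)
theorem F162505 : act 7 n105810 = n59738 := d4_2 F77130 D105810 F94112
theorem F162507 : act 1 n59751 = n105810 := d15_1 D59751 F162505 F94112
theorem E16026 : n59743 = n30757 := (c18_10 (iv1 F49694) (iv4 F103644) (iv1 F103648) (iv4 F101394) F105787 F94117 F162507 F162504 F77141 D59743)
theorem E16027 : n65657 = n28340 := ((D65657).symm.trans (sb E16026 (iv5 D59743)))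
theorem F162508 : act 5 n28340 = n30757 := (sb E16027 (iv5 D65657))
theorem F162509 : act 5 n65654 = n59740 := d2_2 F162508 D65654 (iv2 D59740)
theorem F162510 : act 5 n65655 = n59741 := d6_2 F162508 D65655 (iv3 D59741)
theorem F162511 : act 5 n65659 = n59745 := d13_3 (iv7 D59745) F162508 D65659
theorem E16028 : n59748 = n30758 := (c2_3 F162511 F94116 D59748 (iv2 F101390))
theorem E16029 : n65662 = n28341 := ((D65662).symm.trans (sb E16028 (iv5 D59748)))
theorem F162512 : act 5 n28341 = n30758 := (sb E16029 (iv5 D65662))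
theorem F162513 : act 5 n65660 = n59746 := d6_2 F162512 D65660 (iv3 D59746)
theorem F162514 : act 5 n65668 = n59605 := d17_1 (iv1 F103648) (iv1 D59605) (iv5 D28287) F22650 D13521 D28341 F162512 F49696 (iv4 F103644)
def n105811 : Q := act 5 n48918
theorem D105811 : act 5 n48918 = n105811 := rfl
theorem F162515 : act 3 n105811 = n48919 := d6_1 D105811 (iv5 D48919) D48918
theorem F162516 : act 7 n105811 = n59752 := d13_2 F77130 D105811 (iv5 D59752)
def n105812 : Q := act 6 n48918
theorem D105812 : act 6 n48918 = n105812 := rfl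
theorem F162518 : act 4 n105812 = n48929 := d10_1 D105812 (iv6 D48929) (iv4 F77129)
def n105813 : Q := act 1 n48919
theorem D105813 : act 1 n48919 = n105813 := rfl
theorem F162519 : act 5 n105813 = n68474 := d17_7 (iv1 F50328) (iv5 D23846) (iv1 D11176) D11178 D23853 D48919 D105813 F104672 (iv4 D67898)
def n105814 : Q := act 4 n48919
theorem D105814 : act 4 n48919 = n105814 := rfl
def n105815 : Q := act 6 n48919
theorem D105815 : act 6 n48919 = n105815 := rfl
def n105816 : Q := act 7 n48919
theorem D105816 : act 7 n48919 = n105816 := rfl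
theorem F162520 : act 3 n105816 = n59752 := d8_1 D105816 (iv7 F162516) F162515
theorem F162521 : act 5 n105816 = n48921 := d13_1 D105816 (iv7 D48921) D48919
def n105817 : Q := act 0 n48920
theorem D105817 : act 0 n48920 = n105817 := rfl
def n105818 : Q := act 1 n48920
theorem D105818 : act 1 n48920 = n105818 := rfl
def n105819 : Q := act 5 n48920
theorem D105819 : act 5 n48920 = n105819 := rfl
def n105820 : Q := act 7 n48920
theorem D105820 : act 7 n48920 = n105820 := rfl
theorem F162522 : act 4 n105820 = n48924 := d11_1 D105820 (iv7 D48924) (iv4 F77131)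
def n105821 : Q := act 6 n48921
theorem D105821 : act 6 n48921 = n105821 := rfl
theorem F162524 : act 4 n105821 = n48925 := d10_1 D105821 (iv6 D48925) (iv4 F77133)
def n105822 : Q := act 2 n48922
theorem D105822 : act 2 n48922 = n105822 := rfl
theorem F162525 : act 7 n48923 = n105822 := d15_2 (iv0 D48922) D48923 (iv2 D105822)
def n105823 : Q := act 3 n48922
theorem D105823 : act 3 n48922 = n105823 := rfl
theorem F162526 : act 4 n105823 = n69095 := d20_6 D26249 (iv1 F41675) F37192 (iv3 F37185) D48922 D105823 (iv1 F105398) F51141 F24812 (iv1 F20712)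
def n105824 : Q := act 4 n48922
theorem D105824 : act 4 n48922 = n105824 := rfl
def n105825 : Q := act 5 n48922
theorem D105825 : act 5 n48922 = n105825 := rfl
def n105826 : Q := act 6 n48922
theorem D105826 : act 6 n48922 = n105826 := rfl
def n105827 : Q := act 7 n48922
theorem D105827 : act 7 n48922 = n105827 := rfl
theorem F162527 : act 2 n105827 = n48923 := d4_1 D105827 F162525 (iv2 D105822)
def n105828 : Q := act 3 n48923
theorem D105828 : act 3 n48923 = n105828 := rfl
def n105829 : Q := act 4 n48923
theorem D105829 : act 4 n48923 = n105829 := rfl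
def n105830 : Q := act 5 n48923
theorem D105830 : act 5 n48923 = n105830 := rfl
theorem F162528 : act 6 n105830 = n70756 := d21_9 (iv5 F107258) (iv1 F133093) (iv5 D86788) (iv6 D40235) (iv1 F60453) (iv6 F77292) (iv5 F162459) (iv1 F162461) D105830 (iv1 F107236)
def n105831 : Q := act 6 n48923
theorem D105831 : act 6 n48923 = n105831 := rfl
def n105832 : Q := act 6 n48924
theorem D105832 : act 6 n48924 = n105832 := rfl
theorem F162529 : act 3 n105832 = n48935 := d7_1 D105832 (iv6 D48935) (iv3 F77134)
theorem F162530 : act 5 n105832 = n85675 := d12_1 D105832 (iv6 D85675) (iv5 D39588) (iv6 F37324) (iv5 F77135)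
theorem F162531 : act 7 n105832 = n48925 := d14_2 D48924 D105832 (iv6 D48925) (iv7 D23855) D23854
def n105833 : Q := act 0 n48925
theorem D105833 : act 0 n48925 = n105833 := rfl
def n105834 : Q := act 1 n48925
theorem D105834 : act 1 n48925 = n105834 := rfl
def n105835 : Q := act 2 n48926
theorem D105835 : act 2 n48926 = n105835 := rfl
theorem F162532 : act 7 n48927 = n105835 := d15_2 (iv0 D48926) D48927 (iv2 D105835)
def n105837 : Q := act 5 n48926
theorem D105837 : act 5 n48926 = n105837 := rfl
def n105839 : Q := act 7 n48926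
theorem D105839 : act 7 n48926 = n105839 := rfl
theorem F162533 : act 2 n105839 = n48927 := d4_1 D105839 F162532 (iv2 D105835)
def n105840 : Q := act 3 n48927
theorem D105840 : act 3 n48927 = n105840 := rfl
def n105842 : Q := act 5 n48927
theorem D105842 : act 5 n48927 = n105842 := rfl
def n105844 : Q := act 6 n48928
theorem D105844 : act 6 n48928 = n105844 := rfl
theorem F162534 : act 2 n105844 = n48929 := d3_1 D105844 (iv6 D48929) D48928
theorem F162535 : act 3 n105844 = n59961 := d7_1 D105844 (iv6 D59961) (iv3 F77138)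
def n105845 : Q := act 0 n48929
theorem D105845 : act 0 n48929 = n105845 := rfl
def n105846 : Q := act 1 n48929
theorem D105846 : act 1 n48929 = n105846 := rfl
def n105847 : Q := act 5 n48929
theorem D105847 : act 5 n48929 = n105847 := rfl
theorem F162537 : act 6 n105847 = n59759 := d12_2 D48929 D105847 (iv5 D59759) (iv6 D28344) (iv5 F37189)
def n105848 : Q := act 0 n48931
theorem D105848 : act 0 n48931 = n105848 := rfl
theorem F162538 : act 5 n105848 = n54393 := d21_8 D39757 (iv1 F92478) F155265 F107181 (iv1 F107169) F155260 F123944 D105848 F155130 (iv1 F44967)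
theorem F162539 : act 2 n59978 = n105848 := d15_3 (iv0 D105848) F155256 (iv7 F155382)
theorem F162540 : act 1 n59979 = n105848 := d15_0 (iv0 D105848) F77147 D59979
theorem F162541 : act 7 n105848 = n53971 := d15_2 (iv0 F155348) F162540 F85147
theorem F162542 : act 6 n67972 = n105848 := d14_5 F162541 (iv6 D53971) F50445 D31633 D67972
def n105849 : Q := act 4 n48931
theorem D105849 : act 4 n48931 = n105849 := rfl
theorem F162543 : act 3 n105849 = n69521 := d5_1 D105849 (iv4 D69521) (iv3 D32278) F41661 D48931
theorem F162544 : act 7 n105849 = n59980 := d11_2 (iv7 F77147) D105849 (iv4 D59980)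
def n105850 : Q := act 4 n48933
theorem D105850 : act 4 n48933 = n105850 := rfl
theorem F162545 : act 3 n105850 = n69534 := d5_1 D105850 (iv4 D69534) (iv3 D32281) F37328 D48933
theorem F162546 : act 7 n105850 = n59971 := d11_2 (iv7 F77152) D105850 (iv4 D59971)
def n105851 : Q := act 0 n48934
theorem D105851 : act 0 n48934 = n105851 := rfl
theorem F162548 : act 5 n105851 = n53993 := d21_0 (iv1 F85179) F50185 (iv6 F41408) (iv1 F41410) (iv6 F52090) (iv5 F52087) (iv1 F52089) F37194 D48934 D105851
theorem F162549 : act 2 n68055 = n105851 := d15_3 (iv0 D105851) F106512 D68055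
theorem F162550 : act 1 n59984 = n105851 := d15_0 (iv0 D105851) (iv7 F131061) (iv2 F131060)
theorem F162551 : act 7 n105851 = n68034 := d15_2 (iv0 F106513) F162550 F104161
theorem F162552 : act 6 n68069 = n105851 := d14_5 F162551 (iv6 D68034) (iv7 F49952) D31670 D68069
theorem F162553 : act 0 n61758 = n68069 := d21_4 D31909 (iv1 F104790) (iv5 F104792) (iv6 F104562) F162552 F162548 (iv1 F85179) F50185 (iv6 F41408) (iv1 F41410)
theorem F162554 : act 0 n68069 = n61763 := d21_10 (iv5 D61763) (iv1 D29275) (iv5 F24519) (iv6 D14862) F11329 D12383 (iv5 F41312) D53993 (iv5 F162548) (iv6 F162552)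
theorem F162555 : act 1 n68056 = n61763 := d15_0 (iv0 F162554) (iv7 D68069) (iv2 F104176)
def n105852 : Q := act 2 n48936
theorem D105852 : act 2 n48936 = n105852 := rfl
theorem F162556 : act 4 n105852 = n53801 := d1_2 (iv4 F114314) D105852 (iv2 D53801)
theorem F162557 : act 7 n48937 = n105852 := d15_2 (iv0 D48936) D48937 (iv2 D105852)
def n105853 : Q := act 3 n48936
theorem D105853 : act 3 n48936 = n105853 := rfl
def n105854 : Q := act 5 n48936
theorem D105854 : act 5 n48936 = n105854 := rfl
theorem F162558 : act 6 n105854 = n85760 := d12_2 F96347 D105854 F131497 (iv6 D61764) D61763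
theorem F162559 : act 0 n105854 = n85781 := d21_1 D105854 F131503 (iv6 D54005) (iv1 D26116) (iv6 D12383) (iv5 D5892) (iv1 F7639) (iv5 F18149) D23861 D48936
theorem F162560 : act 0 n74162 = n105854 := d21_10 (iv5 D105854) (iv1 F77163) (iv5 F92466) (iv6 D58530) F44964 D40247 (iv5 F107208) F107209 F104571 D74162
theorem F162561 : act 0 n62928 = n61764 := d21_1 (iv5 F110892) (iv5 F131497) (iv6 F162558) F162559 (iv6 D85781) (iv5 F112679) F112680 (iv5 F110910) F110911 (iv1 F110891)
def n105855 : Q := act 7 n48936
theorem D105855 : act 7 n48936 = n105855 := rfl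
def n105856 : Q := act 3 n48937
theorem D105856 : act 3 n48937 = n105856 := rfl
def n105857 : Q := act 5 n48937
theorem D105857 : act 5 n48937 = n105857 := rfl
theorem F162564 : act 0 n105857 = n74162 := d21_1 D105857 F110874 F104716 F104569 (iv6 D49029) (iv5 D23916) (iv1 F18169) (iv5 F22739) D28484 (iv1 F77164)
theorem F162565 : act 6 n105857 = n70983 := d21_9 F106678 (iv1 F55776) (iv5 F61217) (iv6 D40245) (iv1 F44965) D58530 F92466 (iv1 F77164) D105857 (iv1 F107541)
theorem F162566 : act 0 n85781 = n105857 := d21_10 (iv5 D105857) (iv1 D48937) (iv5 F55096) (iv6 D34838) (iv1 F27656) D28702 (iv5 F54596) D75141 F112679 D85781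
def n105858 : Q := act 6 n48937
theorem D105858 : act 6 n48937 = n105858 := rfl
theorem F162567 : act 4 n105858 = n53810 := d10_1 D105858 (iv6 D53810) (iv4 F114322)
theorem F162568 : act 0 n105858 = n68386 := d21_10 F131077 (iv1 F85239) F85236 F41408 (iv1 F41313) D54005 (iv5 F131503) F162566 (iv5 D105857) D105858
theorem F162569 : act 0 n53986 = n105858 := d21_4 (iv5 F79224) F104261 (iv5 D53985) D53986 (iv6 D105858) D105857 F162564 F110874 F104716 F104569
def n105859 : Q := act 0 n48938
theorem D105859 : act 0 n48938 = n105859 := rfl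
def n105860 : Q := act 1 n48938
theorem D105860 : act 1 n48938 = n105860 := rfl
theorem F162570 : act 1 n105860 = n60059 := d15_1 D105860 (iv7 D60059) (iv2 F77165)
def n105861 : Q := act 5 n48938
theorem D105861 : act 5 n48938 = n105861 := rfl
theorem F162571 : act 2 n105861 = n50027 := d2_1 D105861 F79172 (iv2 F77165)
theorem F162572 : act 3 n105861 = n48955 := d6_1 D105861 (iv5 D48955) (iv3 F77166)
theorem F162573 : act 6 n105861 = n48939 := d12_2 D48938 D105861 (iv5 D48939) (iv6 D23870) D23869
def n105862 : Q := act 7 n48938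
theorem D105862 : act 7 n48938 = n105862 := rfl
theorem F162574 : act 2 n105862 = n60059 := d4_1 D105862 (iv7 D60059) (iv2 F77165)
theorem F162575 : act 3 n105862 = n48956 := d8_1 D105862 (iv7 D48956) (iv3 F77166)
theorem F162576 : act 4 n105862 = n75012 := d11_1 D105862 (iv7 D75012) (iv4 F77167)
theorem F162577 : act 6 n105862 = n60129 := d14_1 D105862 (iv7 D60129) (iv6 D28575) F37268 D48938
theorem F162578 : act 1 n60059 = n105859 := d15_0 (iv0 D105859) D105862 F162574
def n105863 : Q := act 6 n48940
theorem D105863 : act 6 n48940 = n105863 := rfl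
theorem F162581 : act 2 n105863 = n71886 := d3_1 D105863 (iv6 D71886) (iv2 F77173)
def n105864 : Q := act 5 n48941
theorem D105864 : act 5 n48941 = n105864 := rfl
theorem F162582 : act 2 n105864 = n54706 := d2_1 D105864 (iv5 D54706) (iv2 F77177)
theorem F162583 : act 3 n105864 = n52745 := d6_1 D105864 (iv5 D52745) F77181
theorem F162584 : act 7 n105864 = n54710 := d13_2 (iv7 F77179) D105864 (iv5 D54710)
def n105865 : Q := act 6 n48942
theorem D105865 : act 6 n48942 = n105865 := rfl
theorem F162585 : act 2 n105865 = n71357 := d3_1 D105865 (iv6 D71357) (iv2 F77184)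
theorem F162586 : act 3 n105865 = n52643 := d7_1 D105865 (iv6 D52643) (iv3 F77185)
def n105866 : Q := act 5 n48943
theorem D105866 : act 5 n48943 = n105866 := rfl
theorem F162587 : act 2 n105866 = n71316 := d2_1 D105866 (iv5 D71316) (iv2 F77189)
theorem F162588 : act 3 n105866 = n48948 := d6_1 D105866 (iv5 D48948) (iv3 F77190)
theorem F162589 : act 7 n105866 = n71637 := d13_2 (iv7 F77192) D105866 (iv5 D71637)
def n105867 : Q := act 6 n48944
theorem D105867 : act 6 n48944 = n105867 := rfl
theorem F162591 : act 4 n105867 = n48945 := d10_1 D105867 (iv6 D48945) D48944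
def n105868 : Q := act 0 n48945
theorem D105868 : act 0 n48945 = n105868 := rfl
def n105869 : Q := act 1 n48945
theorem D105869 : act 1 n48945 = n105869 := rfl
def n105870 : Q := act 5 n48945
theorem D105870 : act 5 n48945 = n105870 := rfl
theorem F162592 : act 6 n105870 = n48948 := d12_2 D48945 D105870 (iv5 D48948) (iv6 D23876) D23875
def n105871 : Q := act 7 n48945
theorem D105871 : act 7 n48945 = n105871 := rfl
def n105872 : Q := act 5 n48946
theorem D105872 : act 5 n48946 = n105872 := rfl
theorem F162593 : act 3 n105872 = n89019 := d6_1 D105872 (iv5 D89019) (iv3 F77198)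
theorem F162594 : act 6 n105872 = n89018 := d12_2 (iv6 F77199) D105872 (iv5 D89018) (iv6 D41564) D41563
theorem F162595 : act 7 n105872 = n71650 := d13_2 F77201 D105872 (iv5 D71650)
theorem F162596 : act 0 n105872 = n76601 := d17_2 D48946 D105872 (iv5 D76601) (iv4 F55489) F54349 F47726 (iv5 D29694) (iv0 F54044) (iv4 F37282)
theorem F162597 : act 1 n105872 = n76602 := d17_6 (iv1 F50505) D35015 (iv1 F55568) (iv5 F54409) (iv4 F77197) D105872 (iv5 D76602) F55484 (iv4 D34284)
def n105873 : Q := act 5 n48947
theorem D105873 : act 5 n48947 = n105873 := rfl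
theorem F162598 : act 2 n105873 = n71650 := d2_1 D105873 (iv5 D71650) (iv2 F77204)
theorem F162599 : act 3 n105873 = n52124 := d6_1 D105873 (iv5 D52124) (iv3 F77205)
theorem F162600 : act 0 n105873 = n76602 := d17_2 (iv1 F77202) D105873 (iv5 D76602) (iv4 F55485) F54344 (iv0 D29197) (iv5 D13890) D13887 D29189
theorem F162601 : act 1 n105873 = n76601 := d17_6 F50509 D16601 D34290 F54406 F77203 D105873 (iv5 D76601) (iv0 D35004) F27861
def n105874 : Q := act 4 n48948
theorem D105874 : act 4 n48948 = n105874 := rfl
theorem F162602 : act 1 n105874 = n76400 := d18_6 (iv1 D29195) (iv4 D13889) F54068 (iv4 F37282) D48948 D105874 (iv4 D76400) (iv0 F96182) (iv5 D61618)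
def n105875 : Q := act 6 n48949
theorem D105875 : act 6 n48949 = n105875 := rfl
theorem F162604 : act 3 n105875 = n86400 := d7_1 D105875 (iv6 D86400) F77211
theorem F162605 : act 4 n105875 = n54774 := d10_1 D105875 (iv6 D54774) (iv4 F77209)
def n105876 : Q := act 6 n48950
theorem D105876 : act 6 n48950 = n105876 := rfl
theorem F162606 : act 2 n105876 = n71556 := d3_1 D105876 (iv6 D71556) (iv2 F77216)
theorem F162607 : act 3 n105876 = n48952 := d7_1 D105876 (iv6 D48952) D48950
def n105877 : Q := act 6 n48951
theorem D105877 : act 6 n48951 = n105877 := rfl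
def n105878 : Q := act 0 n48952
theorem D105878 : act 0 n48952 = n105878 := rfl
def n105879 : Q := act 1 n48952
theorem D105879 : act 1 n48952 = n105879 := rfl
def n105880 : Q := act 5 n48952
theorem D105880 : act 5 n48952 = n105880 := rfl
def n105881 : Q := act 7 n48952
theorem D105881 : act 7 n48952 = n105881 := rfl
theorem F162611 : act 4 n105881 = n48956 := d11_1 D105881 (iv7 D48956) (iv4 F77221)
def n105885 : Q := act 5 n48953
theorem D105885 : act 5 n48953 = n105885 := rfl
def n105886 : Q := act 6 n48953
theorem D105886 : act 6 n48953 = n105886 := rfl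
def n105892 : Q := act 0 n48955
theorem D105892 : act 0 n48955 = n105892 := rfl
def n105893 : Q := act 1 n48955
theorem D105893 : act 1 n48955 = n105893 := rfl
theorem F162614 : act 5 n86755 = n105893 := d21_6 (iv5 D15314) (iv1 F12540) (iv5 F30276) D18996 D40226 D86755 (iv1 D105893) (iv5 D48955) (iv6 D23880) (iv1 F43059)
def n105894 : Q := act 4 n48955
theorem D105894 : act 4 n48955 = n105894 := rfl
theorem F162615 : act 6 n105894 = n48957 := d10_2 (iv6 F77222) D105894 (iv4 D48957)
def n105895 : Q := act 7 n48955
theorem D105895 : act 7 n48955 = n105895 := rfl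
theorem F162616 : act 5 n105895 = n48956 := d13_1 D105895 (iv7 D48956) D48955
def n105898 : Q := act 5 n48958
theorem D105898 : act 5 n48958 = n105898 := rfl
theorem F162617 : act 2 n105898 = n48962 := d2_1 D105898 (iv5 D48962) (iv2 F77223)
theorem F162618 : act 3 n105898 = n59947 := d6_1 D105898 (iv5 D59947) (iv3 F77224)
theorem F162619 : act 7 n105898 = n60350 := d13_2 F77227 D105898 (iv5 D60350)
theorem F162620 : act 0 n105898 = n54467 := d17_2 F108292 D105898 (iv5 F104067) F104070 (iv5 F108297) (iv0 D71845) (iv5 D33204) D33203 D71843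
theorem F162621 : act 4 n105898 = n72099 := d18_5 F26865 D16075 (iv1 F50919) (iv4 F77225) D105898 F108556 (iv4 D33294) F42600 (iv5 D26604)
def n105899 : Q := act 6 n48959
theorem D105899 : act 6 n48959 = n105899 := rfl
theorem F162622 : act 2 n105899 = n49128 := d3_1 D105899 (iv6 D49128) (iv2 F77228)
theorem F162623 : act 3 n105899 = n48960 := d7_1 D105899 (iv6 D48960) D48959
theorem F162624 : act 4 n105899 = n48964 := d10_1 D105899 (iv6 D48964) (iv4 F77229)
theorem F162625 : act 7 n105899 = n52973 := d14_2 (iv7 F77230) D105899 F144555 F144553 (iv6 D49123)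
theorem F162626 : act 0 n105899 = n52813 := d21_4 (iv5 F83475) (iv1 F106788) F106785 D105899 (iv6 D52813) D52812 (iv1 F105279) F105276 F83116 F55122
theorem F162627 : act 0 n52839 = n105899 := d20_10 F162624 F77248 F37460 F37459 (iv1 F27630) D34819 F55038 F83494 (iv4 D52840) D52839
def n105900 : Q := act 5 n48960
theorem D105900 : act 5 n48960 = n105900 := rfl
theorem F162628 : act 2 n105900 = n52902 := d2_1 D105900 (iv5 D52902) (iv2 F77233)
theorem F162629 : act 7 n105900 = n52974 := d13_2 F77238 D105900 (iv5 D52974)
theorem F162630 : act 1 n105900 = n76490 := d17_6 F104006 D68012 F104122 (iv5 D48962) (iv4 F77234) D105900 (iv5 D76490) D76489 (iv4 F114652)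
def n105901 : Q := act 0 n48961
theorem D105901 : act 0 n48961 = n105901 := rfl
def n105902 : Q := act 1 n48961
theorem D105902 : act 1 n48961 = n105902 := rfl
def n105903 : Q := act 5 n48961
theorem D105903 : act 5 n48961 = n105903 := rfl
theorem F162631 : act 3 n105903 = n48974 := d6_1 D105903 (iv5 D48974) (iv3 F77239)
theorem F162632 : act 6 n105903 = n48962 := d12_2 D48961 D105903 (iv5 D48962) (iv6 D23888) D23887
def n105904 : Q := act 7 n48961
theorem D105904 : act 7 n48961 = n105904 := rfl
theorem F162633 : act 3 n105904 = n48975 := d8_1 D105904 (iv7 D48975) (iv3 F77239)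
def n105905 : Q := act 4 n48962
theorem D105905 : act 4 n48962 = n105905 := rfl
theorem F162634 : act 2 n105905 = n72099 := d1_1 D105905 (iv4 F162621) F162617
theorem F162635 : act 0 n105905 = n71868 := d18_2 F104122 D105905 (iv4 D71868) F77005 D105744 (iv0 F162382) F95772 F115250 D68012
theorem F162636 : act 1 n105905 = n71870 := d18_6 (iv1 F27015) (iv4 F40355) (iv1 F77236) F77234 D48962 D105905 (iv4 D71870) F52442 F25597
theorem F162637 : act 7 n72098 = n105905 := d15_2 F108556 F108555 F162634
def n105906 : Q := act 7 n48962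
theorem D105906 : act 7 n48962 = n105906 := rfl
theorem F162638 : act 2 n105906 = n60350 := d4_1 D105906 (iv7 F162619) F162617
theorem F162639 : act 3 n105906 = n48979 := d8_1 D105906 (iv7 D48979) (iv3 F77240)
theorem F162640 : act 4 n105906 = n72098 := d11_1 D105906 F162637 (iv4 D105905)
theorem F162641 : act 5 n105906 = n48963 := d13_1 D105906 (iv7 D48963) D48962
theorem F162642 : act 1 n60350 = n72116 := d15_0 F108574 D105906 F162638
theorem F162643 : act 0 n54467 = n105906 := d21_1 F104067 F162641 F77244 F94565 (iv6 F94566) D60048 F97993 F97988 (iv6 F115246) F115248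
def n105907 : Q := act 5 n48964
theorem D105907 : act 5 n48964 = n105907 := rfl
theorem F162644 : act 2 n105907 = n49130 := d2_1 D105907 (iv5 D49130) (iv2 F77246)
theorem F162645 : act 3 n105907 = n48967 := d6_1 D105907 (iv5 D48967) (iv3 F77247)
theorem F162646 : act 0 n52773 = n105907 := d21_7 D23974 D49132 F77582 D52622 F83124 (iv6 F82830) (iv5 F83365) (iv5 D105907) (iv6 D48964) F37297
def n105910 : Q := act 5 n48965
theorem D105910 : act 5 n48965 = n105910 := rfl
theorem F162647 : act 6 n105910 = n48967 := d12_2 D48965 D105910 (iv5 D48967) (iv6 D23891) D23890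
def n105911 : Q := act 7 n48965
theorem D105911 : act 7 n48965 = n105911 := rfl
def n105912 : Q := act 5 n48966
theorem D105912 : act 5 n48966 = n105912 := rfl
theorem F162648 : act 2 n105912 = n68619 := d2_1 D105912 (iv5 D68619) (iv2 F77253)
theorem F162649 : act 7 n105912 = n54642 := d13_2 (iv7 F77251) D105912 (iv5 D54642)
theorem F162650 : act 0 n105912 = n71328 := d17_2 (iv1 F77250) D105912 (iv5 F115175) (iv4 D76764) F77101 (iv0 F77267) (iv5 D48976) F50894 D32914
theorem F162651 : act 1 n105912 = n71327 := d17_6 (iv1 F94976) F94973 (iv1 F85317) (iv5 D54071) F77252 D105912 (iv5 F115156) F115158 F114924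
def n105913 : Q := act 0 n48967
theorem D105913 : act 0 n48967 = n105913 := rfl
def n105914 : Q := act 4 n48967
theorem D105914 : act 4 n48967 = n105914 := rfl
def n105915 : Q := act 7 n48967
theorem D105915 : act 7 n48967 = n105915 := rfl
theorem F162652 : act 2 n105915 = n71078 := d4_1 D105915 (iv7 F114244) F114242
theorem F162653 : act 5 n105915 = n48968 := d13_1 D105915 (iv7 D48968) D48967
theorem F162654 : act 1 n71078 = n105913 := d15_0 (iv0 D105913) D105915 F162652
theorem F162655 : act 1 n71950 = n105915 := d15_1 (iv0 F114926) (iv7 D105915) (iv2 F114242)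
theorem F162656 : act 7 n105913 = n71950 := d15_2 F114976 F162654 (iv2 F114974)
theorem F162657 : act 3 n71845 = n105913 := d8_3 F162656 (iv3 D71950) F108298
def n105916 : Q := act 5 n48969
theorem D105916 : act 5 n48969 = n105916 := rfl
theorem F162658 : act 2 n105916 = n55105 := d2_1 D105916 (iv5 F123334) F123333
theorem F162659 : act 3 n105916 = n48970 := d6_1 D105916 (iv5 D48970) D48969
theorem F162660 : act 7 n105916 = n57471 := d13_2 F106237 D105916 (iv5 F106242)
theorem F162661 : act 0 n105916 = n73417 := d17_2 F77260 D105916 (iv5 F116534) (iv4 D77634) (iv5 F72441) (iv0 D45874) (iv5 F59162) (iv0 F59164) (iv4 F60857)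
theorem F162662 : act 4 n57213 = n105916 := d17_9 F162661 (iv5 F116534) (iv1 F116533) F110131 F86497 D57107 F94774 (iv5 D57476) F90249
def n105917 : Q := act 6 n48969
theorem D105917 : act 6 n48969 = n105917 := rfl
theorem F162664 : act 3 n105917 = n48971 := d7_1 D105917 (iv6 D48971) D48969
def n105918 : Q := act 6 n48970
theorem D105918 : act 6 n48970 = n105918 := rfl
def n105919 : Q := act 0 n48971
theorem D105919 : act 0 n48971 = n105919 := rfl
def n105920 : Q := act 1 n48971
theorem D105920 : act 1 n48971 = n105920 := rfl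
def n105921 : Q := act 5 n48971
theorem D105921 : act 5 n48971 = n105921 := rfl
def n105922 : Q := act 7 n48971
theorem D105922 : act 7 n48971 = n105922 := rfl
theorem F162666 : act 4 n105922 = n48975 := d11_1 D105922 (iv7 D48975) (iv4 F77262)
def n105927 : Q := act 6 n48972
theorem D105927 : act 6 n48972 = n105927 := rfl
def n105932 : Q := act 6 n48973
theorem D105932 : act 6 n48973 = n105932 := rfl
def n105933 : Q := act 0 n48974
theorem D105933 : act 0 n48974 = n105933 := rfl
def n105934 : Q := act 1 n48974
theorem D105934 : act 1 n48974 = n105934 := rfl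
theorem F162669 : act 5 n86734 = n105934 := d21_6 F11678 D7920 F25996 D18992 D40219 D86734 (iv1 D105934) (iv5 D48974) (iv6 D23893) F43061
def n105935 : Q := act 4 n48974
theorem D105935 : act 4 n48974 = n105935 := rfl
theorem F162670 : act 6 n105935 = n48978 := d10_2 (iv6 F77263) D105935 (iv4 D48978)
def n105936 : Q := act 7 n48974
theorem D105936 : act 7 n48974 = n105936 := rfl
theorem F162671 : act 5 n105936 = n48975 := d13_1 D105936 (iv7 D48975) D48974
def n105937 : Q := act 6 n48976
theorem D105937 : act 6 n48976 = n105937 := rfl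
theorem F162672 : act 2 n105937 = n54500 := d3_1 D105937 (iv6 D54500) (iv2 F77264)
theorem F162673 : act 3 n105937 = n60156 := d7_1 D105937 (iv6 D60156) (iv3 F77265)
def n105938 : Q := act 6 n48977
theorem D105938 : act 6 n48977 = n105938 := rfl
theorem F162676 : act 5 n105938 = n76754 := d12_1 D105938 (iv6 D76754) (iv5 D35079) D35080 F77271
def n105939 : Q := act 0 n48978
theorem D105939 : act 0 n48978 = n105939 := rfl
theorem F162677 : act 4 n105939 = n55221 := d20_2 D48978 D105939 F87373 (iv1 F105549) F105546 D69297 F105552 (iv4 D60157) (iv3 F77273) (iv1 D48977)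
theorem F162678 : act 2 n74020 = n105939 := d15_3 (iv0 D105939) (iv0 F114986) F114985
theorem F162679 : act 7 n105939 = n74018 := d4_2 F114985 F162678 (iv2 F114984)
theorem F162680 : act 1 n71079 = n105939 := d15_1 F114987 F162679 (iv2 F114984)
def n105940 : Q := act 3 n48978
theorem D105940 : act 3 n48978 = n105940 := rfl
def n105941 : Q := act 5 n48978
theorem D105941 : act 5 n48978 = n105941 := rfl
theorem F162681 : act 0 n105941 = n71355 := d17_2 F114986 D105941 (iv5 D71355) (iv4 D33016) (iv5 D15911) (iv0 F27203) D26684 (iv0 F55653) D76657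
def n105942 : Q := act 7 n48978
theorem D105942 : act 7 n48978 = n105942 := rfl
theorem F162683 : act 4 n105942 = n48979 := d11_1 D105942 (iv7 D48979) D48978
theorem F162684 : act 1 n74018 = n105942 := d15_1 F114247 (iv7 D105942) (iv2 F114245)
def n105943 : Q := act 6 n48979
theorem D105943 : act 6 n48979 = n105943 := rfl
theorem F162686 : act 2 n105943 = n71080 := d3_1 D105943 (iv6 D71080) (iv2 F77275)
theorem F162687 : act 5 n105943 = n61614 := d12_1 D105943 (iv6 D61614) (iv5 D29190) (iv6 F54220) (iv5 F77276)
def n105944 : Q := act 6 n48980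
theorem D105944 : act 6 n48980 = n105944 := rfl
theorem F162688 : act 2 n105944 = n86364 := d3_1 D105944 (iv6 D86364) (iv2 F77279)
theorem F162689 : act 3 n105944 = n48981 := d7_1 D105944 (iv6 D48981) D48980
theorem F162690 : act 4 n105944 = n60179 := d10_1 D105944 (iv6 D60179) (iv4 F77280)
def n105945 : Q := act 1 n48981
theorem D105945 : act 1 n48981 = n105945 := rfl
theorem F162691 : act 1 n105945 = n49010 := d15_1 D105945 (iv7 D49010) (iv2 F77285)
def n105946 : Q := act 5 n48981
theorem D105946 : act 5 n48981 = n105946 := rfl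
theorem F162692 : act 2 n105946 = n49009 := d2_1 D105946 (iv5 D49009) (iv2 F77285)
def n105947 : Q := act 7 n48981
theorem D105947 : act 7 n48981 = n105947 := rfl
theorem F162693 : act 2 n105947 = n49010 := d4_1 D105947 (iv7 D49010) (iv2 F77285)
theorem F162694 : act 4 n105947 = n48984 := d11_1 D105947 (iv7 D48984) (iv4 F77286)
theorem F162695 : act 6 n105947 = n85668 := d14_1 D105947 F131384 (iv6 D40140) (iv7 F37301) D48981
theorem F162696 : act 1 n49008 = n105947 := d15_1 D49008 (iv7 D105947) F77285
theorem F162697 : act 1 n105947 = n49007 := d15_0 (iv0 D49007) D49010 (iv2 F162693)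
theorem F162698 : act 4 n55000 = n49007 := d20_0 (iv1 F162697) F162694 F77291 (iv1 F46179) D28653 D60325 (iv1 F110465) (iv4 D33886) D33885 (iv1 F131200)
theorem F162699 : act 2 n49007 = n55001 := d1_1 F162698 (iv4 D55001) D55000
theorem F162700 : act 7 n105945 = n49007 := d15_2 (iv0 F87010) D105945 F162699
theorem F162701 : act 7 n49008 = n55001 := d15_2 (iv0 D49007) D49008 (iv2 F162699)
theorem F162702 : act 2 n105945 = n49008 := d4_3 F162701 (iv2 F162699) (iv7 F162700)
theorem E16030 : n55004 = n54906 := (c11_3 F162701 (iv4 D55001) D55004 F86850)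
theorem F162703 : act 0 n54906 = n33885 := (sb E16030 F131201)
theorem E16031 : n26598 = n26558 := ((((iv3 D54906)).symm.trans (sb E16030 F87013))).symm
theorem F162704 : act 7 n54906 = n26594 := (sb E16030 (iv7 D55004))
theorem E16032 : n54993 = n12695 := ((((iv1 D26558)).symm.trans (sb E16031 (iv1 F87002)))).symm
theorem E16034 : n54905 = n12711 := (((iv2 F86849)).symm.trans (sb E16031 F42593))
theorem E16035 : n55010 = n54907 := (((D54907).symm.trans (sb E16031 (iv4 F87017)))).symm
theorem E16036 : n55015 = n54908 := (((D54908).symm.trans (sb E16031 (iv5 F87022)))).symm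
theorem E16037 : n55020 = n54909 := (((D54909).symm.trans (sb E16031 D55020))).symm
theorem E16038 : n54900 = n12710 := ((F86848).symm.trans (sb E16031 (iv7 D26598)))
theorem E16039 : n26593 = n26557 := (((D26557).symm.trans (sb E16032 (iv1 D54993)))).symm
theorem F162705 : act 2 n12711 = n26558 := (sb E16034 F86849)
theorem F162706 : act 2 n54907 = n26600 := (sb E16035 F87016)
theorem F162707 : act 7 n54907 = n26595 := (sb E16035 (iv7 D55010))
theorem F162708 : act 2 n54908 = n26601 := (sb E16036 F87021)
theorem F162709 : act 7 n54908 = n26596 := (sb E16036 (iv7 D55015))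
theorem F162710 : act 2 n54909 = n26602 := (sb E16037 F87025)
theorem F162711 : act 7 n12710 = n26558 := (sb E16038 (iv7 F86848))
theorem F162712 : act 2 n26557 = n12710 := (sb E16039 (iv2 D26593))
theorem E16040 : n54994 = n54901 := (((D54901).symm.trans (sb E16039 D54994))).symm
theorem E16041 : n54995 = n54902 := (((D54902).symm.trans (sb E16039 D54995))).symm
theorem E16042 : n54996 = n54903 := (((D54903).symm.trans (sb E16039 D54996))).symm
theorem E16043 : n54997 = n54904 := (((D54904).symm.trans (sb E16039 D54997))).symm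
theorem F162713 : act 7 n26557 = n12711 := (sb E16039 (iv7 F42592))
theorem F162714 : act 2 n54901 = n35977 := (sb E16040 F131168)
theorem F162715 : act 7 n54901 = n26599 := (sb E16040 F87003)
theorem F162716 : act 2 n54902 = n26595 := (sb E16041 F87004)
theorem F162717 : act 7 n54902 = n26600 := (sb E16041 F87005)
theorem F162718 : act 2 n54903 = n26596 := (sb E16042 F87006)
theorem F162719 : act 7 n54903 = n26601 := (sb E16042 F87007)
theorem F162720 : act 2 n54904 = n26597 := (sb E16043 F87008)
theorem F162721 : act 2 n55018 = n55292 := d2_3 (iv5 F87501) F162720 D55018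
theorem F162722 : act 7 n55027 = n98110 := d8_2 F162717 D55027 F151268
theorem F162723 : act 7 n55024 = n70396 := d11_2 F162715 D55024 F109939
theorem F162725 : act 2 n55024 = n70397 := d15_3 F120284 F120285 (iv7 F162723)
theorem F162726 : act 4 n70397 = n55023 := d1_2 D55024 F162725 (iv2 D55023)
theorem F162728 : act 2 n55034 = n71696 := d2_3 F108178 F162710 D55034
theorem F162729 : act 7 n71697 = n55034 := d15_2 (iv0 D71696) D71697 F162728
theorem F162730 : act 5 n55035 = n71697 := d13_3 F162729 (iv5 D55034) D55035
theorem F162731 : act 2 n55031 = n67862 := d3_3 F103916 F162708 D55031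
theorem F162732 : act 7 n67863 = n55031 := d15_2 (iv0 D67862) D67863 F162731
def n105948 : Q := act 2 n48982
theorem D105948 : act 2 n48982 = n105948 := rfl
theorem F162733 : act 7 n48983 = n105948 := d15_2 (iv0 D48982) D48983 (iv2 D105948)
theorem F162734 : act 3 n105948 = n73141 := d8_1 F162733 F109628 (iv3 F77288)
def n105949 : Q := act 3 n48982
theorem D105949 : act 3 n48982 = n105949 := rfl
theorem F162735 : act 2 n105949 = n73153 := d0_1 D105949 (iv3 D73153) (iv2 F109627) (iv3 F162734) (iv2 D105948)
theorem F162736 : act 4 n105949 = n71790 := d20_6 F130771 (iv1 D60180) F46175 (iv3 F37305) D48982 D105949 F130780 (iv4 D33937) F110590 (iv1 F130768)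
def n105950 : Q := act 4 n48982
theorem D105950 : act 4 n48982 = n105950 := rfl
def n105951 : Q := act 5 n48982
theorem D105951 : act 5 n48982 = n105951 := rfl
def n105952 : Q := act 6 n48982
theorem D105952 : act 6 n48982 = n105952 := rfl
theorem F162737 : act 5 n105952 = n49865 := d21_6 F43048 (iv1 F12432) D11193 D23899 D48982 D105952 (iv1 D49865) F38100 (iv6 D15321) D15318
def n105953 : Q := act 7 n48982
theorem D105953 : act 7 n48982 = n105953 := rfl
def n105954 : Q := act 4 n48983
theorem D105954 : act 4 n48983 = n105954 := rfl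
theorem F162739 : act 3 n105954 = n73170 := d5_1 D105954 (iv4 D73170) (iv3 D33691) D33692 (iv3 F77288)
theorem F162740 : act 0 n105954 = n73753 := d20_1 D105954 (iv4 D73753) (iv3 D33885) (iv1 D16384) (iv3 D7605) D7606 (iv1 F28956) (iv4 F18167) (iv3 F37323) (iv1 F77287)
def n105955 : Q := act 5 n48983
theorem D105955 : act 5 n48983 = n105955 := rfl
theorem F162741 : act 3 n105955 = n73173 := d6_1 D105955 (iv5 D73173) (iv3 F77288)
theorem F162742 : act 6 n68477 = n105955 := d21_5 (iv5 F77095) (iv1 D25288) (iv5 F24635) D31865 D68477 (iv5 D105955) (iv1 D48983) (iv5 F77117) (iv6 D48909) D48906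
def n105956 : Q := act 6 n48983
theorem D105956 : act 6 n48983 = n105956 := rfl
theorem F162743 : act 3 n105956 = n73174 := d7_1 D105956 (iv6 D73174) (iv3 F77288)
def n105957 : Q := act 0 n48985
theorem D105957 : act 0 n48985 = n105957 := rfl
def n105958 : Q := act 1 n48985
theorem D105958 : act 1 n48985 = n105958 := rfl
theorem F162744 : act 1 n105958 = n73057 := d15_1 D105958 (iv7 D73057) (iv2 F77296)
def n105959 : Q := act 7 n48985
theorem D105959 : act 7 n48985 = n105959 := rfl
theorem F162745 : act 2 n105959 = n73057 := d4_1 D105959 (iv7 D73057) (iv2 F77296)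
theorem F162748 : act 6 n105959 = n60249 := d14_1 D105959 (iv7 D60249) F50858 F42909 D48985
theorem F162749 : act 1 n73057 = n105957 := d15_0 (iv0 D105957) D105959 F162745
theorem F162750 : act 1 n73056 = n105959 := d15_1 D73056 (iv7 D105959) F77296
theorem F162751 : act 1 n105959 = n73055 := d15_0 (iv0 D73055) D73057 (iv2 F162745)
def n105960 : Q := act 3 n48986
theorem D105960 : act 3 n48986 = n105960 := rfl
theorem F162752 : act 2 n105960 = n86513 := d0_1 D105960 (iv3 D86513) (iv2 F106381) F106382 F77301
theorem F162753 : act 4 n105960 = n54643 := d5_2 (iv4 F77299) D105960 (iv3 D54643) (iv4 D26428) (iv3 F42222)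
theorem F162754 : act 7 n105960 = n71358 := d8_2 F77302 D105960 (iv3 D71358)
def n105961 : Q := act 6 n48986
theorem D105961 : act 6 n48986 = n105961 := rfl
theorem F162755 : act 2 n105961 = n84881 := d3_1 D105961 (iv6 D84881) F77301
def n105962 : Q := act 6 n48987
theorem D105962 : act 6 n48987 = n105962 := rfl
theorem F162757 : act 2 n105962 = n71360 := d3_1 D105962 (iv6 D71360) F77307
theorem F162758 : act 3 n105962 = n86515 := d7_1 D105962 (iv6 D86515) F77306
theorem F162759 : act 4 n105962 = n54768 := d10_1 D105962 (iv6 D54768) (iv4 F77305)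
def n105963 : Q := act 0 n48988
theorem D105963 : act 0 n48988 = n105963 := rfl
def n105964 : Q := act 1 n48988
theorem D105964 : act 1 n48988 = n105964 := rfl
theorem F162760 : act 1 n105964 = n86750 := d15_1 D105964 (iv7 D86750) (iv2 F77308)
def n105965 : Q := act 5 n48988
theorem D105965 : act 5 n48988 = n105965 := rfl
theorem F162761 : act 2 n105965 = n86749 := d2_1 D105965 (iv5 D86749) (iv2 F77308)
def n105966 : Q := act 7 n48988
theorem D105966 : act 7 n48988 = n105966 := rfl
theorem F162762 : act 2 n105966 = n86750 := d4_1 D105966 (iv7 D86750) (iv2 F77308)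
theorem F162764 : act 6 n105966 = n86729 := d14_1 D105966 (iv7 D86729) (iv6 D40218) (iv7 F42927) D48988
theorem F162765 : act 1 n86750 = n105963 := d15_0 (iv0 D105963) D105966 F162762
theorem F162766 : act 1 n86748 = n105966 := d15_1 D86748 (iv7 D105966) F77308
theorem F162767 : act 1 n105966 = n86747 := d15_0 (iv0 D86747) D86750 (iv2 F162762)
def n105977 : Q := act 0 n48991
theorem D105977 : act 0 n48991 = n105977 := rfl
def n105978 : Q := act 1 n48991
theorem D105978 : act 1 n48991 = n105978 := rfl
theorem F162770 : act 1 n105978 = n86763 := d15_1 D105978 (iv7 D86763) (iv2 F77311)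
theorem F162771 : act 5 n105927 = n105978 := d21_6 F13868 (iv1 F12437) D11191 D23893 D48972 D105927 (iv1 D105978) (iv5 D48991) (iv6 D23903) (iv1 F18160)
def n105979 : Q := act 4 n48991
theorem D105979 : act 4 n48991 = n105979 := rfl
theorem F162772 : act 2 n105979 = n72648 := d1_1 D105979 F109179 (iv2 F77311)
theorem F162773 : act 6 n105979 = n69789 := d10_2 (iv6 F77312) D105979 (iv4 D69789)
def n105980 : Q := act 7 n48991
theorem D105980 : act 7 n48991 = n105980 := rfl
theorem F162774 : act 2 n105980 = n86763 := d4_1 D105980 (iv7 D86763) (iv2 F77311)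
theorem F162775 : act 5 n105980 = n48992 := d13_1 D105980 (iv7 D48992) D48991
theorem F162776 : act 1 n86763 = n105977 := d15_0 (iv0 D105977) D105980 F162774
theorem F162777 : act 1 n86762 = n105980 := d15_1 D86762 (iv7 D105980) F77311
def n105981 : Q := act 6 n48993
theorem D105981 : act 6 n48993 = n105981 := rfl
theorem F162779 : act 2 n105981 = n48995 := d3_1 D105981 (iv6 D48995) D48993
theorem F162780 : act 3 n105981 = n57643 := d7_1 D105981 (iv6 D57643) (iv3 F77318)
theorem F162781 : act 4 n105981 = n71787 := d10_1 D105981 (iv6 D71787) F77323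
theorem F162782 : act 5 n105981 = n54964 := d12_1 D105981 (iv6 D54964) F42572 (iv6 F50914) (iv5 F77319)
def n105982 : Q := act 6 n48994
theorem D105982 : act 6 n48994 = n105982 := rfl
theorem F162783 : act 2 n105982 = n71787 := d3_1 D105982 (iv6 D71787) (iv2 F77324)
theorem F162784 : act 4 n105982 = n48995 := d10_1 D105982 (iv6 D48995) D48994
def n105983 : Q := act 0 n48995
theorem D105983 : act 0 n48995 = n105983 := rfl
def n105984 : Q := act 1 n48995
theorem D105984 : act 1 n48995 = n105984 := rfl
def n105985 : Q := act 7 n48995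
theorem D105985 : act 7 n48995 = n105985 := rfl
theorem F162785 : act 3 n105985 = n49002 := d8_1 D105985 (iv7 D49002) (iv3 F77328)
theorem F162786 : act 5 n105985 = n83603 := d13_1 D105985 (iv7 D83603) (iv5 F77329)
theorem F162787 : act 6 n105985 = n86743 := d14_1 D105985 (iv7 D86743) (iv6 D40222) F42918 D48995
def n105986 : Q := act 6 n48996
theorem D105986 : act 6 n48996 = n105986 := rfl
theorem F162788 : act 3 n105986 = n48998 := d7_1 D105986 (iv6 D48998) D48996
def n105987 : Q := act 6 n48997
theorem D105987 : act 6 n48997 = n105987 := rfl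
theorem F162789 : act 2 n105987 = n86725 := d3_1 D105987 (iv6 D86725) (iv2 F77332)
def n105988 : Q := act 0 n48998
theorem D105988 : act 0 n48998 = n105988 := rfl
def n105989 : Q := act 1 n48998
theorem D105989 : act 1 n48998 = n105989 := rfl
theorem F162790 : act 1 n105989 = n86729 := d15_1 D105989 (iv7 D86729) (iv2 F77334)
def n105990 : Q := act 5 n48998
theorem D105990 : act 5 n48998 = n105990 := rfl
def n105991 : Q := act 7 n48998
theorem D105991 : act 7 n48998 = n105991 := rfl
theorem F162792 : act 2 n105991 = n86729 := d4_1 D105991 (iv7 D86729) (iv2 F77334)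
theorem F162793 : act 4 n105991 = n49002 := d11_1 D105991 (iv7 D49002) (iv4 F77335)
theorem F162794 : act 6 n105991 = n86750 := d14_1 D105991 (iv7 D86750) (iv6 D40225) F42924 D48998
theorem F162795 : act 1 n86729 = n105988 := d15_0 (iv0 D105988) D105991 F162792
def n106002 : Q := act 0 n49001
theorem D106002 : act 0 n49001 = n106002 := rfl
def n106003 : Q := act 1 n49001
theorem D106003 : act 1 n49001 = n106003 := rfl
theorem F162801 : act 5 n105886 = n106003 := d21_6 (iv5 D5124) D5121 D11186 D23880 D48953 D105886 (iv1 D106003) (iv5 D49001) (iv6 D23907) (iv1 D11195)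
def n106004 : Q := act 4 n49001
theorem D106004 : act 4 n49001 = n106004 := rfl
theorem F162802 : act 2 n106004 = n60224 := d1_1 D106004 F94784 (iv2 F77337)
theorem F162803 : act 3 n106004 = n79327 := d5_1 D106004 F121917 F59373 (iv4 F59374) (iv3 F77338)
theorem F162804 : act 6 n106004 = n54634 := d10_2 (iv6 F77339) D106004 F86370
def n106005 : Q := act 7 n49001
theorem D106005 : act 7 n49001 = n106005 := rfl
theorem F162805 : act 2 n106005 = n60227 := d4_1 D106005 (iv7 D60227) (iv2 F77337)
theorem F162806 : act 3 n106005 = n83603 := d8_1 D106005 (iv7 D83603) (iv3 F77338)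
theorem F162807 : act 5 n106005 = n49002 := d13_1 D106005 (iv7 D49002) D49001
theorem F162808 : act 1 n60227 = n106002 := d15_0 (iv0 D106002) D106005 F162805
theorem F162810 : act 1 n106005 = n60225 := d15_0 (iv0 D60225) D60227 (iv2 F162805)
def n106006 : Q := act 6 n49003
theorem D106006 : act 6 n49003 = n106006 := rfl
theorem F162811 : act 2 n106006 = n80710 := d3_1 D106006 (iv6 D80710) (iv2 F77345)
theorem F162812 : act 3 n106006 = n49004 := d7_1 D106006 (iv6 D49004) D49003
theorem F162813 : act 4 n106006 = n81525 := d10_1 D106006 (iv6 D81525) (iv4 F77346)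
def n106007 : Q := act 5 n49004
theorem D106007 : act 5 n49004 = n106007 := rfl
theorem F162814 : act 2 n106007 = n86582 := d2_1 D106007 (iv5 D86582) (iv2 F77349)
def n106008 : Q := act 6 n49005
theorem D106008 : act 6 n49005 = n106008 := rfl
def n106013 : Q := act 3 n49007
theorem D106013 : act 3 n49007 = n106013 := rfl
def n106014 : Q := act 5 n49007
theorem D106014 : act 5 n49007 = n106014 := rfl
def n106015 : Q := act 6 n49007
theorem D106015 : act 6 n49007 = n106015 := rfl
def n106016 : Q := act 3 n49008
theorem D106016 : act 3 n49008 = n106016 := rfl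
def n106017 : Q := act 5 n49008
theorem D106017 : act 5 n49008 = n106017 := rfl
def n106018 : Q := act 6 n49008
theorem D106018 : act 6 n49008 = n106018 := rfl
def n106019 : Q := act 0 n49009
theorem D106019 : act 0 n49009 = n106019 := rfl
def n106020 : Q := act 1 n49009
theorem D106020 : act 1 n49009 = n106020 := rfl
def n106021 : Q := act 4 n49009
theorem D106021 : act 4 n49009 = n106021 := rfl
def n106022 : Q := act 7 n49009
theorem D106022 : act 7 n49009 = n106022 := rfl
theorem F162822 : act 5 n106022 = n49010 := d13_1 D106022 (iv7 D49010) D49009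
def n106023 : Q := act 0 n49011
theorem D106023 : act 0 n49011 = n106023 := rfl
theorem F162823 : act 1 n49016 = n106023 := d15_0 (iv0 D106023) (iv7 F77358) (iv2 F77360)
def n106025 : Q := act 3 n49011
theorem D106025 : act 3 n49011 = n106025 := rfl
theorem F162825 : act 7 n106025 = n49017 := d8_2 F77358 D106025 (iv3 D49017)
def n106026 : Q := act 4 n49011
theorem D106026 : act 4 n49011 = n106026 := rfl
theorem F162826 : act 2 n106026 = n49013 := d1_1 D106026 (iv4 D49013) D49011
theorem F162827 : act 7 n106026 = n49018 := d11_2 F77358 D106026 (iv4 D49018)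
def n106027 : Q := act 5 n49011
theorem D106027 : act 5 n49011 = n106027 := rfl
theorem F162828 : act 2 n106027 = n49014 := d2_1 D106027 (iv5 D49014) D49011
theorem F162829 : act 7 n106027 = n49019 := d13_2 F77358 D106027 (iv5 D49019)
def n106028 : Q := act 6 n49011
theorem D106028 : act 6 n49011 = n106028 := rfl
theorem F162830 : act 2 n106028 = n49015 := d3_1 D106028 (iv6 D49015) D49011
def n106029 : Q := act 2 n49012
theorem D106029 : act 2 n49012 = n106029 := rfl
theorem F162831 : act 4 n106029 = n72767 := d1_2 (iv4 F77359) D106029 (iv2 D72767)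
theorem F162832 : act 7 n72773 = n106029 := d15_2 (iv0 F110596) F120287 (iv2 D106029)
def n106030 : Q := act 5 n49012
theorem D106030 : act 5 n49012 = n106030 := rfl
theorem F162833 : act 3 n106030 = n49014 := d6_1 D106030 (iv5 D49014) D49012
def n106031 : Q := act 6 n49012
theorem D106031 : act 6 n49012 = n106031 := rfl
theorem F162834 : act 3 n106031 = n49015 := d7_1 D106031 (iv6 D49015) D49012
theorem F162835 : act 4 n106031 = n72770 := d10_1 D106031 (iv6 D72770) (iv4 F77359)
theorem F162836 : act 5 n106031 = n62865 := d21_6 F46097 F37240 D33405 D72365 F110596 D106031 (iv1 D62865) (iv5 F52007) (iv6 D32843) F46098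
def n106032 : Q := act 7 n49012
theorem D106032 : act 7 n49012 = n106032 := rfl
theorem F162837 : act 2 n106032 = n72773 := d4_1 D106032 F162832 (iv2 D106029)
theorem F162838 : act 3 n106032 = n49016 := d8_1 D106032 (iv7 D49016) D49012
theorem F162839 : act 4 n106032 = n72771 := d11_1 D106032 (iv7 D72771) (iv4 F77359)
def n106033 : Q := act 0 n49013
theorem D106033 : act 0 n49013 = n106033 := rfl
theorem F162840 : act 4 n106033 = n55189 := d20_2 D49013 D106033 (iv3 D55189) (iv1 D26670) (iv3 D12740) F41672 (iv1 D8917) (iv4 F7644) (iv3 F18164) D23911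
def n106034 : Q := act 1 n49013
theorem D106034 : act 1 n49013 = n106034 := rfl
theorem F162841 : act 1 n106034 = n49018 := d15_1 D106034 (iv7 F162827) F162826
theorem F162842 : act 4 n73305 = n106034 := d20_6 (iv4 D73257) (iv1 F52971) (iv4 D16293) D16292 D33728 D73305 (iv1 D106034) (iv4 D49013) D49012 (iv1 F110597)
theorem F162843 : act 2 n106034 = n73753 := d1_1 F162842 (iv4 D73753) F110029
def n106035 : Q := act 3 n49013
theorem D106035 : act 3 n49013 = n106035 := rfl
theorem F162844 : act 4 n106035 = n72768 := d5_2 D49013 D106035 (iv3 D72768) (iv4 F77359) (iv3 D49012)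
def n106036 : Q := act 5 n49013
theorem D106036 : act 5 n49013 = n106036 := rfl
def n106037 : Q := act 6 n49013
theorem D106037 : act 6 n49013 = n106037 := rfl
theorem F162845 : act 4 n106037 = n49015 := d10_1 D106037 (iv6 D49015) D49013
def n106038 : Q := act 7 n49013
theorem D106038 : act 7 n49013 = n106038 := rfl
theorem F162846 : act 2 n106038 = n49018 := d4_1 D106038 (iv7 F162827) F162826
theorem F162847 : act 4 n106038 = n49016 := d11_1 D106038 (iv7 D49016) D49013
theorem F162848 : act 1 n49018 = n106033 := d15_0 (iv0 D106033) D106038 F162846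
theorem F162849 : act 7 n106033 = n73753 := d15_2 F162841 F162848 (iv2 F162843)
theorem F162850 : act 0 n49017 = n73929 := d20_10 (iv4 D73929) (iv1 F87246) (iv4 D55155) (iv3 F53136) (iv1 F53123) D55189 (iv4 F162840) (iv1 F162848) (iv4 D49018) D49017
theorem E16044 : n73732 = n55189 := (c11_3 F162849 (iv4 D73753) (iv7 F110455) (iv4 F162840))
theorem E16045 : n33879 = n26670 := ((((iv3 D55189)).symm.trans (sb E16044 (iv3 D73732)))).symm
theorem E16046 : n73730 = n12740 := ((((iv1 D26670)).symm.trans (sb E16045 D73730))).symm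
theorem E16048 : n55188 = n16383 := (((iv2 F87315)).symm.trans (sb E16045 (iv2 D33879)))
theorem E16049 : n73733 = n55190 := (((D55190).symm.trans (sb E16045 D73733))).symm
theorem E16050 : n73734 = n55191 := (((D55191).symm.trans (sb E16045 D73734))).symm
theorem E16052 : n55183 = n16384 := ((F87314).symm.trans (sb E16045 (iv7 F53241)))
theorem E16053 : n33884 = n26669 := (((D26669).symm.trans (sb E16046 (iv1 F110453)))).symm
theorem F162852 : act 2 n16383 = n26670 := (sb E16048 F87315)
theorem F162853 : act 2 n55190 = n33881 := (sb E16049 F110456)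
theorem F162854 : act 7 n55190 = n33886 := (sb E16049 F110457)
theorem F162855 : act 2 n55191 = n33882 := (sb E16050 F110458)
theorem F162856 : act 7 n55191 = n33887 := (sb E16050 F110459)
theorem F162858 : act 7 n16384 = n26670 := (sb E16052 (iv7 F87314))
theorem E16054 : n73304 = n55184 := (((D55184).symm.trans (sb E16053 (iv3 F110028)))).symm
theorem E16055 : n73740 = n55185 := (((D55185).symm.trans (sb E16053 (iv4 F110464)))).symm
theorem E16056 : n73745 = n55186 := (((D55186).symm.trans (sb E16053 (iv5 F110468)))).symm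
theorem F162860 : act 7 n26669 = n16383 := (sb E16053 (iv7 D33884))
theorem F162861 : act 2 n55184 = n33728 := (sb E16054 (iv2 D73304))
theorem F162862 : act 7 n55184 = n33729 := (sb E16054 (iv7 F109807))
theorem F162863 : act 2 n55185 = n33886 := (sb E16055 F110463)
theorem F162864 : act 7 n55185 = n33881 := (sb E16055 (iv7 D73740))
theorem F162865 : act 2 n55186 = n33887 := (sb E16056 F110467)
theorem F162866 : act 7 n55186 = n33882 := (sb E16056 (iv7 D73745))
def n106039 : Q := act 0 n49014
theorem D106039 : act 0 n49014 = n106039 := rfl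
theorem F162868 : act 5 n106039 = n105932 := d21_2 D49014 D106039 (iv6 D105932) (iv1 D48973) (iv6 D23893) (iv5 D11191) (iv1 D5122) D5124 D11197 D23911
def n106040 : Q := act 1 n49014
theorem D106040 : act 1 n49014 = n106040 := rfl
theorem F162869 : act 1 n106040 = n49019 := d15_1 D106040 (iv7 F162829) F162828
def n106041 : Q := act 4 n49014
theorem D106041 : act 4 n49014 = n106041 := rfl
def n106042 : Q := act 6 n49014
theorem D106042 : act 6 n49014 = n106042 := rfl
def n106043 : Q := act 7 n49014
theorem D106043 : act 7 n49014 = n106043 := rfl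
theorem F162870 : act 2 n106043 = n49019 := d4_1 D106043 (iv7 F162829) F162828
theorem F162871 : act 5 n106043 = n49016 := d13_1 D106043 (iv7 D49016) D49014
theorem F162872 : act 1 n49019 = n106039 := d15_0 (iv0 D106039) D106043 F162870
def n106044 : Q := act 0 n49015
theorem D106044 : act 0 n49015 = n106044 := rfl
def n106045 : Q := act 1 n49015
theorem D106045 : act 1 n49015 = n106045 := rfl
def n106046 : Q := act 5 n49015
theorem D106046 : act 5 n49015 = n106046 := rfl
theorem F162873 : act 3 n106046 = n62865 := d6_1 D106046 (iv5 F162836) F162834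
theorem F162874 : act 0 n106046 = n49853 := d21_7 (iv5 D11191) (iv1 D5122) D5124 D11197 D23911 D49015 D106046 F78847 (iv6 D32413) (iv1 F43062)
theorem F162875 : act 0 n49866 = n106046 := d21_1 (iv5 F78859) (iv5 D106046) (iv6 D49015) (iv1 F77295) F77292 D85669 (iv1 F131389) D86811 F133100 (iv1 F106210)
theorem F162876 : act 4 n62865 = n74907 := d20_6 D34352 (iv1 F78867) F78865 (iv3 F78858) F162875 F162873 (iv1 D74907) F54481 F27110 D16631
def n106047 : Q := act 7 n49015
theorem D106047 : act 7 n49015 = n106047 := rfl
def n106048 : Q := act 6 n49016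
theorem D106048 : act 6 n49016 = n106048 := rfl
theorem F162877 : act 2 n106048 = n49020 := d3_1 D106048 (iv6 D49020) (iv2 F77360)
def n106049 : Q := act 1 n49017
theorem D106049 : act 1 n49017 = n106049 := rfl
def n106050 : Q := act 2 n49017
theorem D106050 : act 2 n49017 = n106050 := rfl
theorem F162878 : act 3 n106050 = n72773 := d0_2 D49017 D106050 (iv2 F162837) F162838 F77360
theorem F162879 : act 4 n71791 = n106050 := d20_2 D33937 (iv1 F130781) F162878 (iv1 F120287) F108836 F94673 F110582 (iv4 D33889) F53136 (iv1 F53133)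
theorem F162880 : act 0 n106050 = n60396 := d20_4 (iv4 F25832) (iv1 F52865) D72773 (iv3 F162878) (iv3 D60396) D60397 F109275 (iv4 D72789) (iv3 D33576) (iv1 F25772)
theorem E16058 : n55997 = n54901 := (c20_11 (iv4 F109939) (iv1 F120285) F120281 (iv3 F109717) F120286 (iv3 F162878) (iv4 F162879) (iv1 D71791) F52412 (iv3 F43650) D55997)
theorem F162881 : act 0 n54901 = n35979 := (sb E16058 (iv1 F88639))
theorem F162882 : act 1 n54901 = n27015 := (sb E16058 (iv0 D55997))
theorem F162883 : act 6 n54901 = n61504 := (sb E16058 F96015)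
theorem F162884 : act 2 n61504 = n62706 := d3_1 F162883 (iv6 F97818) (iv2 F162714)
theorem F162885 : act 3 n61504 = n54904 := d7_1 F162883 (iv6 D54904) D54901
theorem E16059 : n61502 = n55292 := ((c6_3 D61504 F162885 F87501 (iv3 D61502))).symm
theorem F162886 : act 3 n55292 = n29113 := (sb E16059 (iv3 D61502))
theorem E16060 : n62091 = n61503 := (c20_2 (iv4 F95368) (iv1 F96758) (iv4 D61503) (iv3 F162886) (iv1 D55292) F42832 (iv4 F42837) (iv1 F79214) (iv4 D50049) F109841 (iv1 F47838))
theorem F162887 : act 0 n61503 = n29395 := (sb E16060 (iv1 D62091))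
theorem F162888 : act 1 n61503 = n60793 := (sb E16060 F96758)
theorem E16061 : n55320 = n32730 := (c18_8 (iv1 F47630) D61503 F162887 F47090 F26884 (iv4 F52011) D70881 F109930 F85941 F85938)
theorem E16062 : n70560 = n26733 := ((D70560).symm.trans (sb E16061 (iv3 D55320)))
theorem E16063 : n70881 = n70561 := (((D70561).symm.trans (sb E16061 (iv4 F109930)))).symm
theorem F162889 : act 3 n26733 = n32730 := (sb E16062 (iv3 D70560))
theorem F162891 : act 1 n70561 = n70363 := (sb E16063 F107390)
theorem F162892 : act 3 n61549 = n55322 := d6_3 (iv5 D55322) F162889 (iv5 F96088)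
theorem F162894 : act 3 n70554 = n55314 := d8_3 (iv7 F87545) F162889 F107019
theorem F162895 : act 2 n55315 = n70555 := d0_3 F162894 (iv2 D55314) D55315 (iv3 D70555) D70554
theorem F162896 : act 6 n55322 = n61546 := d7_2 D61549 F162892 (iv3 D61546)
theorem E16064 : n62703 = n29113 := (c2_4 D61504 F162884 (iv5 D62706) (iv2 F97816))
theorem E16065 : n61501 = n29645 := (((iv2 F96013)).symm.trans (sb E16064 F97816))
theorem E16066 : n61496 = n29644 := ((F96011).symm.trans (sb E16064 (iv7 D62703)))
theorem F162897 : act 2 n29645 = n29113 := (sb E16065 F96013)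
theorem E16067 : n62698 = n29112 := ((F97813).symm.trans (sb E16065 (iv7 D61501)))
theorem F162898 : act 7 n29644 = n29113 := (sb E16066 (iv7 F96011))
theorem F162899 : act 2 n29112 = n29644 := (sb E16067 (iv2 D62698))
theorem F162900 : act 7 n29112 = n29645 := (sb E16067 (iv7 F97813))
theorem F162901 : act 7 n61499 = n62706 := d15_2 F110419 (iv0 F110420) (iv2 F162884)
theorem F162902 : act 2 n61499 = n62701 := d15_3 (iv0 F97814) (iv0 F97817) (iv7 F162901)
theorem F162903 : act 7 n62701 = n61504 := d4_2 (iv7 F162901) F162902 F162884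
theorem F162904 : act 7 n62704 = n61497 := d8_2 F162900 D62704 (iv3 D61497)
theorem F162905 : act 7 n62705 = n61498 := d11_2 F162900 D62705 (iv4 D61498)
theorem F162906 : act 2 n62700 = n61498 := d1_3 (iv4 D61498) F162899 D62700
theorem F162907 : act 2 n62702 = n61500 := d3_3 (iv6 D61500) F162899 D62702
theorem F162908 : act 2 n62756 = n61578 := d2_3 (iv5 F97815) F162907 F97897
theorem F162909 : act 7 n61577 = n62756 := d15_2 F97902 F97903 F162908
theorem F162910 : act 7 n62755 = n61578 := d15_2 F97896 F97901 (iv2 F162908)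
theorem F162911 : act 2 n61577 = n62755 := d4_3 F162910 (iv2 F162908) (iv7 F162909)
theorem F162912 : act 7 n55292 = n62699 := d8_2 F162898 (iv3 F162886) (iv3 D62699)
theorem F162913 : act 7 n61503 = n62700 := d11_2 F162898 D61503 (iv4 D62700)
theorem F162914 : act 2 n62705 = n61503 := d4_3 F162913 F162906 (iv7 F162905)
theorem E16068 : n62090 = n61498 := ((c15_4 (iv0 D62090) (iv0 F162887) F162913 F162906)).symm
theorem F162915 : act 0 n61498 = n60793 := (sb E16068 (iv1 F96764))
theorem F162916 : act 1 n61498 = n29395 := (sb E16068 (iv0 D62090))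
theorem E16069 : n70880 = n70556 := (c18_7 D29112 D61498 F162915 F95368 (iv5 F51741) (iv4 F106848) F107396 (iv4 D70556) (iv0 D32729) F25134)
theorem F162917 : act 0 n70556 = n70363 := (sb E16069 (iv1 F107396))
theorem F162918 : act 1 n70556 = n32845 := (sb E16069 (iv0 D70880))
theorem F162919 : act 2 n62699 = n55291 := d15_3 (iv0 D55291) D55292 F162912
theorem F162920 : act 7 n55018 = n55291 := d4_2 (iv7 F162912) (iv2 F162721) (iv2 F162919)
theorem F162921 : act 1 n55293 = n62699 := d15_1 F87504 (iv7 F162912) (iv2 F162721)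
theorem E16070 : n62700 = n60790 := ((c20_2 (iv4 F46479) D60790 (iv4 D62700) D62699 (iv1 F162921) F87502 (iv4 F87516) (iv1 F87518) F54503 F110513 (iv1 D29283))).symm
theorem F162922 : act 2 n60790 = n61498 := (sb E16070 F162906)
theorem F162923 : act 4 n60790 = n29644 := (sb E16070 (iv4 D62700))
theorem F162924 : act 7 n60790 = n61503 := (sb E16070 (iv7 F162913))
theorem E16071 : n62705 = n60791 := (c15_4 F96765 F96766 F162924 (iv2 F162914))
theorem F162925 : act 2 n60791 = n61503 := (sb E16071 F162914)
theorem F162926 : act 4 n60791 = n29645 := (sb E16071 (iv4 D62705))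
theorem F162927 : act 7 n60791 = n61498 := (sb E16071 F162905)
theorem F162928 : act 4 n54423 = n70361 := d18_1 (iv1 F85935) (iv1 D70361) F51740 F26484 (iv4 F46479) D60791 F162926 F47626 (iv5 F51809)
theorem F162929 : act 3 n70361 = n81619 := d20_3 F107018 (iv1 F85935) F162928 (iv1 D81619) F58257 F29093 F116746 D34788 (iv3 F107201) F130985
theorem F162930 : act 4 n54422 = n70360 := d18_1 D54422 (iv1 F107398) F107394 F52014 (iv4 F96762) F96766 F162923 (iv0 D29644) (iv5 F41973)
theorem F162931 : act 3 n54422 = n54813 := d20_3 (iv4 F51740) D70360 (iv4 F162930) F86737 F42949 F21231 (iv1 F12754) (iv4 F43174) D32431 F109883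
theorem E16072 : n85177 = n71272 := (c7_4 F107765 F162931 F86736 (iv3 F130519))
theorem F162932 : act 3 n71272 = n39380 := (sb E16072 F130519)
theorem E16073 : n39378 = n32983 := ((((iv5 D71272)).symm.trans (sb E16072 (iv5 D85177)))).symm
theorem E16077 : n71270 = n18664 := ((D71270).symm.trans (sb E16073 (iv3 D39378)))
theorem E16078 : n85176 = n71271 := (((D71271).symm.trans (sb E16073 D85176))).symm
theorem E16079 : n85178 = n71273 := (((D71273).symm.trans (sb E16073 D85178))).symm
theorem E16080 : n85148 = n71265 := (((F107762).symm.trans (sb E16073 (iv7 F130485)))).symm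
theorem F162933 : act 3 n18664 = n32983 := (sb E16077 (iv3 D71270))
theorem F162934 : act 0 n71271 = n54494 := (sb E16078 (iv1 F130518))
theorem F162936 : act 3 n71273 = n39381 := (sb E16079 F130520)
theorem F162937 : act 3 n71265 = n39372 := (sb E16080 (iv3 D85148))
theorem E16081 : n85154 = n71266 := (c0_4 F162937 (iv2 D39372) D39373 D85154 (iv3 D71266) D71265)
theorem F162938 : act 2 n71266 = n39373 := (sb E16081 (iv2 D85154))
theorem F162939 : act 4 n70414 = n56001 := d18_7 (iv1 F86164) D71271 F162934 F86071 F42042 (iv4 F51760) D70414 F88642 (iv5 F86161)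
theorem E16082 : n71261 = n71110 := (c20_2 (iv4 F52162) D71261 (iv4 D71110) (iv3 F155104) F155102 (iv3 F131890) F131891 (iv1 F130498) (iv4 D39379) F162933 (iv1 D32983))
theorem F162940 : act 1 n71110 = n32981 := (sb E16082 (iv0 D71261))
theorem F162941 : act 5 n55291 = n55019 := d13_1 F162920 (iv7 D55019) D55018
theorem F162942 : act 1 n62699 = n54595 := d15_0 (iv0 F87024) F162920 (iv2 F162919)
theorem F162943 : act 2 n61505 = n62707 := d3_3 (iv6 D62707) F162897 D61505
theorem F162944 : act 7 n71738 = n62707 := d15_2 (iv0 F96016) D71738 (iv2 F162943)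
theorem E16083 : n55998 = n55023 := (c15_2 F162882 D55998 F131166 (iv2 F162714))
theorem F162945 : act 0 n55023 = n27015 := (sb E16083 (iv1 D55998))
theorem F162946 : act 1 n55023 = n35979 := (sb E16083 F88635)
def n106051 : Q := act 4 n49017
theorem D106051 : act 4 n49017 = n106051 := rfl
theorem F162947 : act 2 n106051 = n71791 := d1_1 D106051 F162879 (iv2 D106050)
theorem F162948 : act 0 n55147 = n106051 := d20_1 D55147 (iv4 D106051) (iv3 D49017) (iv1 D23912) F18164 F7644 D8916 (iv4 F41667) D12735 D26653
theorem F162949 : act 1 n54553 = n106051 := d15_0 (iv0 F162948) F130746 (iv2 F86212)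
theorem E16084 : n72369 = n33707 := (c20_11 (iv4 F110020) (iv1 F94743) F94741 (iv3 F77291) (iv1 F77294) D49017 D106051 (iv1 F162949) F86213 (iv3 F52665) D72369)
theorem E16085 : n72809 = n72327 := ((F109990).symm.trans (sb E16084 (iv1 F108851)))
theorem E16086 : n72808 = n33407 := ((F109991).symm.trans (sb E16084 (iv0 D72369)))
theorem E16087 : n72370 = n33581 := (((iv1 F108847)).symm.trans (sb E16085 (iv1 D72809)))
theorem F162950 : act 1 n72327 = n33707 := (sb E16085 (iv0 F109990))
theorem F162951 : act 0 n33407 = n33707 := (sb E16086 (iv1 F109991))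
theorem F162952 : act 0 n33581 = n33407 := (sb E16087 (iv1 D72370))
theorem F162953 : act 1 n33581 = n72327 := (sb E16087 F108847)
theorem E16088 : n70433 = n60375 := ((c20_2 D28675 D60375 F106893 (iv3 F108782) (iv1 F162953) (iv3 D33581) D33582 (iv1 F110511) F92105 F85729 F110501)).symm
theorem F162954 : act 4 n60375 = n35979 := (sb E16088 F106893)
theorem F162955 : act 7 n60375 = n32687 := (sb E16088 (iv7 D70433))
theorem F162957 : act 5 n73240 = n61494 := d21_6 (iv5 D7554) (iv1 F11771) D16131 D33407 F162951 D73240 (iv1 D61494) (iv5 F51792) (iv6 D32722) F26836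
theorem F162958 : act 2 n61494 = n73252 := d2_1 F162957 (iv5 D73252) (iv2 F109705)
theorem F162959 : act 7 n71790 = n106051 := d15_2 F130781 (iv0 F130780) F162947
theorem E16089 : n106025 = n105949 := (c11_3 F162959 (iv4 D106051) (iv7 F162825) F162736)
theorem E16090 : n49011 = n48982 := ((((iv3 D105949)).symm.trans (sb E16089 (iv3 D106025)))).symm
theorem F162960 : act 7 n105949 = n49017 := (sb E16089 F162825)
theorem E16091 : n106023 = n23913 := ((((iv1 F77293)).symm.trans (sb E16090 D106023))).symm
theorem E16093 : n105948 = n23911 := ((D105948).symm.trans (sb E16090 (iv2 D49011)))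
theorem E16094 : n106026 = n105950 := (((D105950).symm.trans (sb E16090 D106026))).symm
theorem E16095 : n106027 = n105951 := (((D105951).symm.trans (sb E16090 D106027))).symm
theorem E16096 : n106028 = n105952 := (((D105952).symm.trans (sb E16090 D106028))).symm
theorem E16097 : n105953 = n23912 := ((D105953).symm.trans (sb E16090 (iv7 F77358)))
theorem E16098 : n49016 = n48983 := ((((iv1 F77287)).symm.trans (sb E16091 (iv1 F162823)))).symm
theorem F162961 : act 2 n23911 = n48982 := (sb E16093 (iv2 D105948))
theorem E16099 : n73141 = n49012 := (((D49012).symm.trans (sb E16093 F162734))).symm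
theorem F162962 : act 2 n105950 = n49013 := (sb E16094 F162826)
theorem F162963 : act 7 n105950 = n49018 := (sb E16094 F162827)
theorem F162964 : act 2 n105951 = n49014 := (sb E16095 F162828)
theorem F162965 : act 7 n105951 = n49019 := (sb E16095 F162829)
theorem F162966 : act 2 n105952 = n49015 := (sb E16096 F162830)
theorem F162967 : act 7 n23912 = n48982 := (sb E16097 (iv7 D105953))
theorem F162968 : act 2 n48983 = n23912 := (sb E16098 F77360)
theorem E16100 : n106032 = n33692 := (((F77288).symm.trans (sb E16098 (iv3 F162838)))).symm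
theorem E16101 : n106038 = n105954 := (((D105954).symm.trans (sb E16098 (iv4 F162847)))).symm
theorem E16102 : n106043 = n105955 := (((D105955).symm.trans (sb E16098 (iv5 F162871)))).symm
theorem E16103 : n106048 = n105956 := (((D105956).symm.trans (sb E16098 D106048))).symm
theorem F162969 : act 7 n48983 = n23911 := (sb E16098 (iv7 D49016))
theorem E16104 : n106029 = n33687 := ((D106029).symm.trans (sb E16099 F109627))
theorem E16105 : n33685 = n33571 := (((F77359).symm.trans (sb E16099 (iv4 D73141)))).symm
theorem E16106 : n73156 = n72773 := (((iv2 F109637)).symm.trans (sb E16100 F162837))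
theorem E16107 : n72771 = n16283 := ((((iv4 D33692)).symm.trans (sb E16100 F162839))).symm
theorem F162970 : act 7 n33692 = n49012 := (sb E16100 (iv7 D106032))
theorem F162971 : act 2 n105954 = n49018 := (sb E16101 F162846)
theorem F162972 : act 7 n105954 = n49013 := (sb E16101 (iv7 D106038))
theorem F162973 : act 2 n105955 = n49019 := (sb E16102 F162870)
theorem F162974 : act 7 n105955 = n49014 := (sb E16102 (iv7 D106043))
theorem F162975 : act 2 n105956 = n49020 := (sb E16103 F162877)
theorem F162976 : act 2 n33687 = n49012 := (sb E16104 (iv2 D106029))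
theorem E16108 : n72767 = n16282 := ((((iv4 D33687)).symm.trans (sb E16104 F162831))).symm
theorem E16111 : n73140 = n72768 := (((D72768).symm.trans (sb E16105 D73140))).symm
theorem E16112 : n73142 = n72769 := (((D72769).symm.trans (sb E16105 D73142))).symm
theorem E16113 : n73143 = n72770 := (((D72770).symm.trans (sb E16105 D73143))).symm
theorem F162977 : act 2 n72773 = n33692 := (sb E16106 F109637)
theorem E16114 : n33690 = n33572 := ((((iv4 D72773)).symm.trans (sb E16106 F109638))).symm
theorem F162978 : act 7 n72773 = n33687 := (sb E16106 (iv7 D73156))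
theorem F162979 : act 7 n16283 = n33571 := (sb E16107 (iv7 D72771))
theorem F162980 : act 2 n16282 = n33571 := (sb E16108 (iv2 D72767))
theorem F162981 : act 7 n72768 = n33691 := (sb E16111 F109626)
theorem F162982 : act 2 n72769 = n33688 := (sb E16112 F109629)
theorem F162983 : act 7 n72769 = n33693 := (sb E16112 F109630)
theorem F162984 : act 2 n72770 = n33689 := (sb E16113 F109631)
theorem E16115 : n73150 = n72772 := (((D72772).symm.trans (sb E16114 (iv3 F109634)))).symm
theorem E16116 : n73161 = n72774 := (((D72774).symm.trans (sb E16114 (iv5 F109647)))).symm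
theorem E16117 : n73166 = n72775 := (((D72775).symm.trans (sb E16114 D73166))).symm
theorem F162986 : act 7 n33572 = n16282 := (sb E16114 (iv7 D33690))
theorem F162987 : act 7 n72772 = n33686 := (sb E16115 (iv7 D73150))
theorem F162988 : act 2 n72774 = n33693 := (sb E16116 F109646)
theorem F162989 : act 7 n72774 = n33688 := (sb E16116 (iv7 D73161))
theorem F162990 : act 2 n72775 = n33694 := (sb E16117 F109651)
theorem F162991 : act 2 n73155 = n106031 := d1_3 F162835 F162984 (iv4 F109636)
theorem F162992 : act 2 n73164 = n75029 := d2_3 (iv5 F112554) F162984 D73164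
theorem F162993 : act 7 n73170 = n106035 := d11_2 F162981 D73170 F162844
theorem F162994 : act 7 n73153 = n106050 := d8_2 F162978 D73153 F162878
theorem E16118 : n106049 = n73934 := (c15_1 D106049 (iv0 F110727) F162994 (iv2 D106050))
theorem F162995 : act 0 n73934 = n49017 := (sb E16118 (iv1 D106049))
theorem F162996 : act 1 n105949 = n60396 := d15_0 (iv0 F162880) (iv7 F162994) (iv2 F162735)
theorem F162997 : act 0 n73314 = n60397 := d20_7 F162736 F130780 (iv4 D33937) F110590 (iv1 F130768) F130770 D73314 (iv4 D60397) D60396 (iv1 F162996)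
theorem F162998 : act 2 n106030 = n73154 := d2_3 (iv5 D73154) F162976 D106030
theorem F162999 : act 7 n106030 = n73173 := d8_2 F162974 (iv3 F162833) (iv3 F162741)
theorem F163000 : act 1 n105950 = n73753 := d15_0 (iv0 F162740) F162972 (iv2 F162962)
theorem F163001 : act 2 n106046 = n49865 := d2_3 (iv5 F162737) F162966 D106046
theorem F163002 : act 1 n73153 = n73929 := d15_0 (iv0 F162850) (iv7 F162960) F162735
theorem F163003 : act 4 n55006 = n60301 := d20_2 D26600 (iv1 F87014) (iv3 F110725) (iv1 F163002) (iv3 D73153) (iv4 D33687) (iv1 F52871) F52868 (iv3 F42524) (iv1 F42527)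
theorem E16119 : n55189 = n54998 := ((c20_11 (iv4 F162840) (iv1 F162848) (iv4 D49018) D49017 F162850 F110725 (iv4 F163003) (iv1 D55006) (iv4 D26595) D26594 D54998)).symm
theorem F163004 : act 3 n54998 = n26670 := (sb E16119 (iv3 D55189))
theorem F163005 : act 4 n54998 = n106033 := (sb E16119 (iv4 F162840))
def n106052 : Q := act 5 n49017
theorem D106052 : act 5 n49017 = n106052 := rfl
theorem F163007 : act 3 n106052 = n49019 := d6_1 D106052 (iv5 D49019) D49017
def n106053 : Q := act 6 n49017
theorem D106053 : act 6 n49017 = n106053 := rfl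
theorem F163008 : act 3 n106053 = n49020 := d7_1 D106053 (iv6 D49020) D49017
def n106054 : Q := act 3 n49018
theorem D106054 : act 3 n49018 = n106054 := rfl
def n106055 : Q := act 5 n49018
theorem D106055 : act 5 n49018 = n106055 := rfl
def n106056 : Q := act 6 n49018
theorem D106056 : act 6 n49018 = n106056 := rfl
theorem F163009 : act 4 n106056 = n49020 := d10_1 D106056 (iv6 D49020) D49018
def n106057 : Q := act 4 n49019
theorem D106057 : act 4 n49019 = n106057 := rfl
def n106058 : Q := act 6 n49019
theorem D106058 : act 6 n49019 = n106058 := rfl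
theorem F163010 : act 2 n106058 = n68477 := d3_1 D106058 F162742 F162973
theorem F163011 : act 0 n68473 = n106058 := d21_4 F77016 (iv1 F39936) (iv5 F50164) D68473 (iv6 D106058) (iv5 D49019) (iv1 D23912) (iv5 F37186) (iv6 D23854) D23851
theorem F163012 : act 7 n68478 = n106058 := d15_2 (iv0 D68477) D68478 F163010
def n106059 : Q := act 0 n49020
theorem D106059 : act 0 n49020 = n106059 := rfl
def n106060 : Q := act 1 n49020
theorem D106060 : act 1 n49020 = n106060 := rfl
def n106061 : Q := act 5 n49020
theorem D106061 : act 5 n49020 = n106061 := rfl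
theorem F163013 : act 0 n105885 = n106061 := d21_1 D105885 (iv5 D106061) (iv6 D49020) (iv1 D23912) (iv6 D11197) (iv5 D5124) D5121 D11186 D23880 D48953
def n106062 : Q := act 7 n49020
theorem D106062 : act 7 n49020 = n106062 := rfl
def n106063 : Q := act 2 n49021
theorem D106063 : act 2 n49021 = n106063 := rfl
def n106064 : Q := act 5 n49021
theorem D106064 : act 5 n49021 = n106064 := rfl
def n106065 : Q := act 6 n49021
theorem D106065 : act 6 n49021 = n106065 := rfl
def n106066 : Q := act 7 n49021
theorem D106066 : act 7 n49021 = n106066 := rfl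
def n106071 : Q := act 4 n49023
theorem D106071 : act 4 n49023 = n106071 := rfl
theorem F163016 : act 2 n106071 = n49024 := d1_1 D106071 (iv4 D49024) D49023
theorem F163017 : act 7 n106071 = n60405 := d11_2 (iv7 F77363) D106071 (iv4 D60405)
theorem F163018 : act 0 n106071 = n60409 := d20_1 D106071 F110024 (iv3 F110023) (iv1 F53122) (iv3 F53135) D33940 (iv1 F87255) (iv4 F94915) (iv3 D60396) (iv1 F77364)
theorem F163019 : act 0 n73306 = n106071 := d20_1 D73306 (iv4 D106071) F77362 (iv1 F77392) (iv3 F109717) (iv4 D73257) (iv1 F52971) (iv4 D16293) D16292 D33728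
theorem E16120 : n73306 = n60408 := (c15_1 (iv0 F163019) (iv0 D60408) (iv7 F77368) (iv2 F163016))
theorem F163020 : act 0 n60408 = n106071 := (sb E16120 F163019)
theorem F163021 : act 4 n60408 = n33728 := (sb E16120 (iv4 D73306))
theorem E16121 : n73305 = n54999 := (c20_4 D28688 D60408 F163021 D73305 (iv1 D54999) (iv3 D26594) D26595 D55005 (iv4 F131203) F131202 (iv1 D28686))
theorem F163022 : act 2 n54999 = n33885 := (sb E16121 (iv2 F110029))
theorem F163024 : act 4 n54999 = n106034 := (sb E16121 F162842)
def n106072 : Q := act 5 n49023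
theorem D106072 : act 5 n49023 = n106072 := rfl
theorem F163025 : act 2 n106072 = n49025 := d2_1 D106072 (iv5 D49025) D49023
theorem F163026 : act 3 n106072 = n60373 := d6_1 D106072 (iv5 D60373) (iv3 F77362)
theorem F163027 : act 7 n106072 = n60406 := d13_2 (iv7 F77363) D106072 (iv5 D60406)
theorem F163028 : act 1 n60413 = n106072 := d15_1 D60413 F163027 F94919
theorem F163029 : act 1 n106072 = n60412 := d15_0 (iv0 D60412) (iv7 F77370) (iv2 F163025)
def n106073 : Q := act 6 n49023
theorem D106073 : act 6 n49023 = n106073 := rfl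
theorem F163030 : act 2 n106073 = n49026 := d3_1 D106073 (iv6 D49026) D49023
theorem F163031 : act 3 n106073 = n60374 := d7_1 D106073 (iv6 D60374) (iv3 F77362)
theorem F163032 : act 5 n62873 = n106073 := d6_0 F163031 F109835 D62873
def n106074 : Q := act 0 n49024
theorem D106074 : act 0 n49024 = n106074 := rfl
theorem F163033 : act 1 n60405 = n106074 := d15_0 (iv0 D106074) F77368 (iv2 F94918)
theorem F163034 : act 4 n72786 = n106074 := d20_0 (iv1 F163033) (iv4 D60405) (iv3 F77389) (iv1 F110502) (iv3 F85729) (iv4 F92105) F110510 (iv4 D33577) D33576 D72786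
theorem F163035 : act 3 n73314 = n81868 := d20_3 (iv4 F163034) F109996 D73314 (iv1 D81868) F58373 F29157 (iv1 F124341) D27889 (iv3 F77367) D106074
def n106075 : Q := act 1 n49024
theorem D106075 : act 1 n49024 = n106075 := rfl
theorem F163037 : act 4 n72787 = n106075 := d20_0 (iv1 D106075) (iv4 D49024) (iv3 D23915) (iv1 F18169) (iv3 F22814) (iv4 F46212) (iv1 F94738) (iv4 F130771) F130770 (iv1 F109997)
theorem E16122 : n72787 = n55184 := ((c20_6 (iv4 F12876) (iv1 F13881) (iv4 F41672) D12740 D26669 D55184 F163037 (iv1 D106075) (iv4 D49024) (iv3 D23915) (iv1 F18169))).symm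
theorem F163038 : act 0 n55184 = n33576 := (sb E16122 (iv1 D72787))
theorem F163040 : act 4 n55184 = n106075 := (sb E16122 F163037)
theorem F163041 : act 2 n106075 = n60408 := d1_1 F163040 F163021 (iv2 F162861)
theorem F163042 : act 7 n106075 = n60409 := d11_2 (iv7 F162862) F163040 F110024
theorem F163043 : act 2 n60409 = n106074 := d15_3 (iv0 D106074) D106075 F163042
theorem F163044 : act 7 n60408 = n106074 := d4_2 (iv7 F163042) F163041 (iv2 F163043)
theorem E16123 : n73309 = n72786 := ((c11_2 F163044 (iv4 F163034) (iv7 D73309) (iv4 F163021))).symm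
theorem F163045 : act 2 n72786 = n33729 := (sb E16123 F109808)
theorem F163046 : act 7 n72786 = n33728 := (sb E16123 (iv7 D73309))
def n106076 : Q := act 5 n49024
theorem D106076 : act 5 n49024 = n106076 := rfl
theorem F163048 : act 7 n106076 = n60410 := d13_2 (iv7 F77368) D106076 (iv5 D60410)
def n106077 : Q := act 6 n49024
theorem D106077 : act 6 n49024 = n106077 := rfl
theorem F163049 : act 3 n106077 = n58643 := d7_1 D106077 (iv6 D58643) (iv3 F77367)
theorem F163050 : act 4 n106077 = n49026 := d10_1 D106077 (iv6 D49026) D49024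
def n106078 : Q := act 0 n49025
theorem D106078 : act 0 n49025 = n106078 := rfl
theorem F163051 : act 1 n60406 = n106078 := d15_0 (iv0 D106078) F77370 (iv2 F94919)
def n106079 : Q := act 1 n49025
theorem D106079 : act 1 n49025 = n106079 := rfl
theorem F163052 : act 1 n106079 = n60406 := d15_1 D106079 (iv7 F163027) F163025
def n106080 : Q := act 4 n49025
theorem D106080 : act 4 n49025 = n106080 := rfl
theorem F163053 : act 7 n106080 = n60414 := d11_2 (iv7 F77370) D106080 (iv4 D60414)
def n106081 : Q := act 6 n49025
theorem D106081 : act 6 n49025 = n106081 := rfl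
def n106082 : Q := act 0 n49026
theorem D106082 : act 0 n49026 = n106082 := rfl
def n106083 : Q := act 1 n49026
theorem D106083 : act 1 n49026 = n106083 := rfl
def n106084 : Q := act 3 n49027
theorem D106084 : act 3 n49027 = n106084 := rfl
theorem F163055 : act 5 n106084 = n80608 := d6_2 (iv5 F77374) D106084 F123940
theorem F163056 : act 6 n106084 = n54024 := d7_2 (iv6 F77376) D106084 (iv3 D54024)
theorem F163057 : act 7 n106084 = n60386 := d8_2 (iv7 F77373) D106084 (iv3 D60386)
def n106085 : Q := act 3 n49028
theorem D106085 : act 3 n49028 = n106085 := rfl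
theorem F163059 : act 7 n106085 = n60420 := d8_2 (iv7 F77382) D106085 (iv3 D60420)
def n106086 : Q := act 6 n49028
theorem D106086 : act 6 n49028 = n106086 := rfl
theorem F163060 : act 2 n106086 = n60390 := d3_1 D106086 (iv6 D60390) (iv2 F77381)
theorem F163061 : act 4 n106086 = n49029 := d10_1 D106086 (iv6 D49029) D49028
theorem F163062 : act 0 n106086 = n66979 := d21_4 D15223 D32284 (iv5 F77383) D106086 (iv6 D66979) D66978 (iv1 F105830) (iv5 D69540) (iv6 D32283) (iv1 D15222)
theorem E16124 : n69463 = n65269 := (c18_6 F104569 (iv4 F163061) F163062 F104981 F51187 D69463 F112035 F112032 F54377 D68403)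
theorem F163063 : act 2 n65269 = n74848 := (sb E16124 (iv2 F112341))
theorem F163064 : act 4 n65269 = n32261 := (sb E16124 (iv4 D69463))
theorem F163065 : act 7 n65269 = n74845 := (sb E16124 (iv7 F112330))
theorem E16125 : n69459 = n65268 := (c15_4 (iv0 D65268) D65269 F163065 F112329)
theorem F163066 : act 2 n65268 = n74845 := (sb E16125 (iv2 F112329))
theorem F163067 : act 4 n65268 = n32260 := (sb E16125 (iv4 D69459))
theorem F163068 : act 7 n65268 = n74848 := (sb E16125 (iv7 F112342))
theorem E16126 : n69434 = n53791 := (c18_3 D15213 D32252 D69434 F84811 (iv5 F54373) (iv4 F112032) F112036 F163067 (iv0 D32260) (iv5 D15215))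
theorem E16127 : n32257 = n31287 := ((((iv1 F84814)).symm.trans (sb E16126 (iv1 F105710)))).symm
theorem E16128 : n32252 = n31286 := (((F84815).symm.trans (sb E16126 (iv0 D69434)))).symm
theorem E16130 : n67262 = n54250 := (((iv2 F103171)).symm.trans (sb E16127 (iv2 F105736)))
theorem E16132 : n67264 = n15214 := ((D67264).symm.trans (sb E16127 (iv4 D32257)))
theorem E16134 : n69454 = n67266 := (((D67266).symm.trans (sb E16127 D69454))).symm
theorem E16135 : n67257 = n54245 := ((F103170).symm.trans (sb E16127 (iv7 F105729)))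
theorem E16137 : n67259 = n15213 := ((D67259).symm.trans (sb E16128 (iv4 D32252)))
theorem E16139 : n67346 = n67261 := (((D67261).symm.trans (sb E16128 (iv6 F105102)))).symm
theorem F163069 : act 2 n54250 = n31287 := (sb E16130 F103171)
theorem F163070 : act 7 n54250 = n31286 := (sb E16130 (iv7 D67262))
theorem F163071 : act 4 n15214 = n31287 := (sb E16132 (iv4 D67264))
theorem F163072 : act 0 n67266 = n76040 := (sb E16134 F131069)
theorem F163074 : act 4 n67266 = n32259 := (sb E16134 F105750)
theorem F163075 : act 2 n54245 = n31286 := (sb E16135 (iv2 D67257))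
theorem F163077 : act 4 n15213 = n31286 := (sb E16137 (iv4 D67259))
theorem F163078 : act 0 n67261 = n31308 := (sb E16139 (iv1 D67346))
theorem F163079 : act 4 n67261 = n32254 := (sb E16139 (iv4 F105101))
theorem F163080 : act 0 n74965 = n69440 := d18_2 F94901 (iv4 F112484) (iv4 D69440) (iv5 D32253) F163077 (iv0 D31286) F24405 D14974 D31820
def n106087 : Q := act 4 n49032
theorem D106087 : act 4 n49032 = n106087 := rfl
theorem F163082 : act 2 n106087 = n49033 := d1_1 D106087 (iv4 D49033) D49032
theorem F163083 : act 7 n106087 = n60372 := d11_2 (iv7 F77390) D106087 (iv4 D60372)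
theorem F163084 : act 0 n106087 = n54331 := d20_1 D106087 F85741 F43650 F130761 (iv3 F53136) D33889 (iv1 F87328) (iv4 F110587) F110586 (iv1 F77391)
theorem F163085 : act 1 n106087 = n60375 := d15_1 (iv0 F163084) F162955 (iv2 F85740)
def n106088 : Q := act 5 n49032
theorem D106088 : act 5 n49032 = n106088 := rfl
theorem F163086 : act 2 n106088 = n49034 := d2_1 D106088 (iv5 D49034) D49032
theorem F163087 : act 3 n106088 = n60406 := d6_1 D106088 (iv5 D60406) (iv3 F77389)
theorem F163088 : act 7 n106088 = n60373 := d13_2 (iv7 F77390) D106088 (iv5 D60373)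
theorem F163089 : act 0 n106088 = n60380 := d21_1 D106088 F110547 F107508 (iv1 F107498) (iv6 F109871) (iv5 F109874) (iv1 F86076) (iv5 F85724) F110499 (iv1 F77391)
theorem F163090 : act 6 n106088 = n68537 := d21_3 F130833 (iv1 F77391) D106088 (iv1 F104738) F104511 F51453 (iv1 F30440) D26843 (iv6 F130825) D59968
theorem F163091 : act 0 n60379 = n106088 := d21_10 (iv5 D106088) (iv1 F110502) (iv5 F84962) (iv6 D53882) (iv1 D26054) D26056 (iv5 F53357) D74169 (iv5 F131551) F131550
def n106089 : Q := act 6 n49032
theorem D106089 : act 6 n49032 = n106089 := rfl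
theorem F163092 : act 2 n106089 = n49035 := d3_1 D106089 (iv6 D49035) D49032
theorem F163095 : act 0 n54340 = n106089 := d21_4 (iv5 F115223) F115225 (iv5 D54339) D54340 (iv6 D106089) D106088 F163089 F110547 F107508 (iv1 F107498)
def n106090 : Q := act 1 n49033
theorem D106090 : act 1 n49033 = n106090 := rfl
theorem F163096 : act 1 n106090 = n60372 := d15_1 D106090 (iv7 F163083) F163082
theorem F163097 : act 7 n106090 = n54331 := d15_2 (iv0 F131157) D106090 F85740
theorem F163098 : act 4 n55022 = n106090 := d20_0 (iv1 D106090) (iv4 D49033) (iv3 D23919) (iv1 D11199) (iv3 F18164) (iv4 F37322) D49007 (iv4 F162698) F131171 (iv1 F131160)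
def n106091 : Q := act 5 n49033
theorem D106091 : act 5 n49033 = n106091 := rfl
theorem F163102 : act 7 n106091 = n60377 := d13_2 (iv7 F77395) D106091 (iv5 D60377)
def n106092 : Q := act 6 n49033
theorem D106092 : act 6 n49033 = n106092 := rfl
theorem F163103 : act 3 n106092 = n58672 := d7_1 D106092 (iv6 D58672) (iv3 F77394)
def n106093 : Q := act 0 n49034
theorem D106093 : act 0 n49034 = n106093 := rfl
theorem F163106 : act 1 n60373 = n106093 := d15_0 (iv0 D106093) F77397 (iv2 F94889)
theorem F163107 : act 7 n106093 = n60379 := d15_2 (iv0 F109833) F163106 (iv2 F110550)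
theorem F163108 : act 6 n68546 = n106093 := d14_5 F163107 (iv6 F131550) (iv7 F131552) (iv6 D68563) (iv7 F131559)
def n106094 : Q := act 4 n49034
theorem D106094 : act 4 n49034 = n106094 := rfl
theorem F163109 : act 6 n106094 = n85560 := d10_2 F103949 D106094 F130731
theorem F163110 : act 7 n106094 = n60381 := d11_2 (iv7 F77397) D106094 (iv4 D60381)
def n106095 : Q := act 3 n49036
theorem D106095 : act 3 n49036 = n106095 := rfl
theorem F163111 : act 5 n106095 = n69544 := d6_2 F77403 D106095 (iv3 D69544)
theorem F163112 : act 7 n106095 = n60389 := d8_2 (iv7 F77400) D106095 (iv3 D60389)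
def n106096 : Q := act 3 n49039
theorem D106096 : act 3 n49039 = n106096 := rfl
theorem F163113 : act 6 n106096 = n69678 := d7_2 F82957 D106096 (iv3 F106028)
theorem F163114 : act 0 n106096 = n69687 := d20_4 F51390 F82960 (iv4 F82958) D106096 (iv3 D69687) (iv4 F82319) (iv1 F82321) (iv4 F50627) D52448 F82804
theorem F163115 : act 0 n67843 = n106096 := d20_4 F56604 F55392 F55379 D67843 (iv3 D106096) F82958 D76297 (iv4 F114693) F114692 (iv1 F83160)
def n106097 : Q := act 4 n49042
theorem D106097 : act 4 n49042 = n106097 := rfl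
theorem F163116 : act 2 n106097 = n59808 := d1_1 D106097 (iv4 D59808) (iv2 F77414)
theorem F163117 : act 7 n106097 = n71279 := d11_2 (iv7 F77415) D106097 (iv4 D71279)
theorem F163118 : act 5 n106097 = n59808 := d16_1 D106097 (iv4 D59808) (iv5 D28362) F22680 (iv5 F18350) (iv4 F37547) D49212 F77716 (iv2 F77414)
theorem F163119 : act 0 n106097 = n60015 := d17_0 F94494 (iv1 D52863) D52865 F83513 F54611 F27331 D25621 (iv0 F77416) D106097
theorem F163120 : act 1 n106097 = n60017 := d18_6 (iv1 F40254) F40256 F25250 (iv4 F37340) D49042 D106097 (iv4 D60017) (iv0 F77740) (iv5 D49222)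
def n106098 : Q := act 4 n49044
theorem D106098 : act 4 n49044 = n106098 := rfl
theorem F163121 : act 2 n106098 = n49045 := d1_1 D106098 (iv4 D49045) (iv2 F77424)
theorem F163122 : act 5 n106098 = n49045 := d16_1 D106098 (iv4 D49045) (iv5 D23927) (iv4 F22293) (iv5 F26388) (iv4 F37350) (iv5 F77430) (iv7 D49047) (iv2 F77424)
theorem F163123 : act 0 n106098 = n69707 := d17_0 (iv5 F106082) F106083 (iv5 F114445) F114444 F55152 (iv0 F27808) D34955 (iv0 F77425) D106098
theorem F163124 : act 1 n106098 = n69711 := d18_6 (iv1 F55168) (iv4 D34879) F27710 (iv4 F37346) D49044 D106098 (iv4 D69711) (iv0 F82914) (iv5 D52512)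
def n106099 : Q := act 3 n49045
theorem D106099 : act 3 n49045 = n106099 := rfl
theorem F163125 : act 4 n106099 = n49048 := d5_2 D49045 D106099 (iv3 D49048) (iv4 D23929) (iv3 F37348)
def n106100 : Q := act 6 n49045
theorem D106100 : act 6 n49045 = n106100 := rfl
theorem F163126 : act 4 n106100 = n49046 := d10_1 D106100 (iv6 D49046) D49045
def n106101 : Q := act 7 n49045
theorem D106101 : act 7 n49045 = n106101 := rfl
theorem F163127 : act 4 n106101 = n49047 := d11_1 D106101 (iv7 D49047) D49045
theorem F163128 : act 1 n69711 = n106101 := d15_1 F163124 (iv7 D106101) (iv2 F163121)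
theorem F163129 : act 1 n106101 = n69707 := d15_1 F163128 (iv7 F114460) F114458
def n106102 : Q := act 0 n49046
theorem D106102 : act 0 n49046 = n106102 := rfl
def n106103 : Q := act 1 n49046
theorem D106103 : act 1 n49046 = n106103 := rfl
def n106104 : Q := act 7 n49046
theorem D106104 : act 7 n49046 = n106104 := rfl
theorem F163130 : act 3 n106104 = n49052 := d8_1 D106104 (iv7 D49052) (iv3 F77427)
theorem F163131 : act 5 n106104 = n49060 := d13_1 D106104 (iv7 D49060) (iv5 F77428)
def n106105 : Q := act 6 n49047
theorem D106105 : act 6 n49047 = n106105 := rfl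
theorem F163132 : act 3 n106105 = n49053 := d7_1 D106105 (iv6 D49053) (iv3 F77429)
theorem F163133 : act 5 n106105 = n60018 := d12_1 D106105 (iv6 D60018) (iv5 D28495) (iv6 F37351) (iv5 F77430)
def n106106 : Q := act 0 n49048
theorem D106106 : act 0 n49048 = n106106 := rfl
def n106107 : Q := act 1 n49048
theorem D106107 : act 1 n49048 = n106107 := rfl
def n106108 : Q := act 2 n49048
theorem D106108 : act 2 n49048 = n106108 := rfl
def n106109 : Q := act 6 n49048
theorem D106109 : act 6 n49048 = n106109 := rfl
theorem F163134 : act 3 n106109 = n49049 := d7_1 D106109 (iv6 D49049) D49048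
def n106110 : Q := act 0 n49049
theorem D106110 : act 0 n49049 = n106110 := rfl
def n106111 : Q := act 1 n49049
theorem D106111 : act 1 n49049 = n106111 := rfl
def n106112 : Q := act 5 n49049
theorem D106112 : act 5 n49049 = n106112 := rfl
def n106113 : Q := act 7 n49049
theorem D106113 : act 7 n49049 = n106113 := rfl
theorem F163135 : act 4 n106113 = n49052 := d11_1 D106113 (iv7 D49052) (iv4 F77433)
def n106114 : Q := act 2 n49050
theorem D106114 : act 2 n49050 = n106114 := rfl
theorem F163136 : act 7 n49051 = n106114 := d15_2 (iv0 D49050) D49051 (iv2 D106114)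
def n106115 : Q := act 3 n49050
theorem D106115 : act 3 n49050 = n106115 := rfl
def n106116 : Q := act 4 n49050
theorem D106116 : act 4 n49050 = n106116 := rfl
def n106117 : Q := act 5 n49050
theorem D106117 : act 5 n49050 = n106117 := rfl
def n106118 : Q := act 6 n49050
theorem D106118 : act 6 n49050 = n106118 := rfl
def n106119 : Q := act 7 n49050
theorem D106119 : act 7 n49050 = n106119 := rfl
theorem F163137 : act 2 n106119 = n49051 := d4_1 D106119 F163136 (iv2 D106114)
def n106120 : Q := act 3 n49051
theorem D106120 : act 3 n49051 = n106120 := rfl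
def n106121 : Q := act 4 n49051
theorem D106121 : act 4 n49051 = n106121 := rfl
def n106122 : Q := act 5 n49051
theorem D106122 : act 5 n49051 = n106122 := rfl
theorem F163138 : act 6 n106122 = n52626 := d21_3 (iv5 F77530) (iv1 F77532) D106122 (iv1 F83143) (iv6 F83154) F83153 (iv1 F78000) (iv5 F78001) (iv6 D49065) (iv1 F37467)
def n106123 : Q := act 6 n49051
theorem D106123 : act 6 n49051 = n106123 := rfl
def n106124 : Q := act 6 n49052
theorem D106124 : act 6 n49052 = n106124 := rfl
theorem F163139 : act 7 n106124 = n49053 := d14_2 D49052 D106124 (iv6 D49053) (iv7 D23931) D23930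
def n106125 : Q := act 0 n49053
theorem D106125 : act 0 n49053 = n106125 := rfl
def n106126 : Q := act 1 n49053
theorem D106126 : act 1 n49053 = n106126 := rfl
def n106127 : Q := act 0 n49054
theorem D106127 : act 0 n49054 = n106127 := rfl
theorem F163140 : act 6 n106127 = n52699 := d21_5 (iv5 D11215) D11212 D23932 D49054 D106127 (iv5 D52699) (iv1 D25577) D25578 F40461 F27057
theorem F163141 : act 2 n78961 = n106127 := d3_3 F163140 F161668 D78961
def n106128 : Q := act 1 n49054
theorem D106128 : act 1 n49054 = n106128 := rfl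
theorem F163142 : act 7 n106128 = n78961 := d15_2 (iv0 D106127) D106128 F163141
def n106129 : Q := act 7 n49054
theorem D106129 : act 7 n49054 = n106129 := rfl
theorem F163143 : act 4 n106129 = n97212 := d11_1 D106129 (iv7 D97212) (iv4 F77435)
def n106130 : Q := act 4 n49055
theorem D106130 : act 4 n49055 = n106130 := rfl
theorem F163144 : act 3 n106130 = n97185 := d5_1 D106130 (iv4 D97185) F71661 F70344 (iv3 F77436)
theorem F163145 : act 5 n106130 = n72621 := d9_2 D49055 D106130 F109148 (iv5 F90761) F90762 (iv5 D54770) F42382 D26502 D54789 (iv5 F109151) (iv4 F109150) F90765 F107030 F107028 F76753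
theorem F163146 : act 0 n106130 = n105396 := d18_2 F77437 D106130 (iv4 D105396) F76735 (iv4 F55114) (iv0 F55115) F32636 (iv0 F37010) D35910
theorem F163147 : act 1 n106130 = n72824 := d18_6 D23764 D48727 (iv1 F76755) F76753 D49055 D106130 F109325 (iv0 D48731) (iv5 D23766)
def n106131 : Q := act 6 n49055
theorem D106131 : act 6 n49055 = n106131 := rfl
theorem F163148 : act 3 n106131 = n49056 := d7_1 D106131 (iv6 D49056) (iv3 F77436)
theorem F163149 : act 0 n106131 = n89558 := d21_4 F83172 F40483 D49055 D106131 (iv6 D89558) (iv5 D41819) F35822 D19912 (iv6 F65115) F83174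
def n106132 : Q := act 0 n49056
theorem D106132 : act 0 n49056 = n106132 := rfl
def n106133 : Q := act 1 n49056
theorem D106133 : act 1 n49056 = n106133 := rfl
def n106134 : Q := act 7 n49056
theorem D106134 : act 7 n49056 = n106134 := rfl
def n106135 : Q := act 0 n49057
theorem D106135 : act 0 n49057 = n106135 := rfl
def n106136 : Q := act 1 n49057
theorem D106136 : act 1 n49057 = n106136 := rfl
def n106137 : Q := act 5 n49057
theorem D106137 : act 5 n49057 = n106137 := rfl
theorem F163150 : act 6 n106137 = n95299 := d12_2 D49057 D106137 (iv5 D95299) (iv6 D44517) (iv5 F37361)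
def n106138 : Q := act 7 n49057
theorem D106138 : act 7 n49057 = n106138 := rfl
theorem F163151 : act 4 n106138 = n49060 := d11_1 D106138 (iv7 D49060) (iv4 F77438)
def n106139 : Q := act 2 n49058
theorem D106139 : act 2 n49058 = n106139 := rfl
theorem F163152 : act 7 n49059 = n106139 := d15_2 (iv0 D49058) D49059 (iv2 D106139)
def n106140 : Q := act 3 n49058
theorem D106140 : act 3 n49058 = n106140 := rfl
def n106141 : Q := act 4 n49058
theorem D106141 : act 4 n49058 = n106141 := rfl
def n106142 : Q := act 5 n49058
theorem D106142 : act 5 n49058 = n106142 := rfl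
def n106143 : Q := act 6 n49058
theorem D106143 : act 6 n49058 = n106143 := rfl
def n106144 : Q := act 7 n49058
theorem D106144 : act 7 n49058 = n106144 := rfl
def n106145 : Q := act 3 n49059
theorem D106145 : act 3 n49059 = n106145 := rfl
def n106146 : Q := act 4 n49059
theorem D106146 : act 4 n49059 = n106146 := rfl
def n106147 : Q := act 5 n49059
theorem D106147 : act 5 n49059 = n106147 := rfl
def n106148 : Q := act 6 n49059
theorem D106148 : act 6 n49059 = n106148 := rfl
def n106151 : Q := act 3 n49061
theorem D106151 : act 3 n49061 = n106151 := rfl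
theorem F163156 : act 7 n106151 = n49067 := d8_2 F77440 D106151 (iv3 D49067)
def n106152 : Q := act 4 n49061
theorem D106152 : act 4 n49061 = n106152 := rfl
theorem F163157 : act 2 n106152 = n49063 := d1_1 D106152 (iv4 D49063) D49061
theorem F163158 : act 7 n106152 = n49068 := d11_2 F77440 D106152 (iv4 D49068)
def n106153 : Q := act 5 n49061
theorem D106153 : act 5 n49061 = n106153 := rfl
theorem F163159 : act 2 n106153 = n49064 := d2_1 D106153 (iv5 D49064) D49061
theorem F163160 : act 7 n106153 = n49069 := d13_2 F77440 D106153 (iv5 D49069)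
def n106155 : Q := act 0 n49062
theorem D106155 : act 0 n49062 = n106155 := rfl
def n106156 : Q := act 1 n49062
theorem D106156 : act 1 n49062 = n106156 := rfl
def n106157 : Q := act 2 n49062
theorem D106157 : act 2 n49062 = n106157 := rfl
def n106158 : Q := act 4 n49062
theorem D106158 : act 4 n49062 = n106158 := rfl
def n106159 : Q := act 5 n49062
theorem D106159 : act 5 n49062 = n106159 := rfl
theorem F163162 : act 3 n106159 = n49064 := d6_1 D106159 (iv5 D49064) D49062
def n106160 : Q := act 6 n49062
theorem D106160 : act 6 n49062 = n106160 := rfl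
theorem F163163 : act 3 n106160 = n49065 := d7_1 D106160 (iv6 D49065) D49062
def n106161 : Q := act 7 n49062
theorem D106161 : act 7 n49062 = n106161 := rfl
theorem F163164 : act 3 n106161 = n49066 := d8_1 D106161 (iv7 D49066) D49062
def n106162 : Q := act 0 n49063
theorem D106162 : act 0 n49063 = n106162 := rfl
def n106164 : Q := act 3 n49063
theorem D106164 : act 3 n49063 = n106164 := rfl
def n106165 : Q := act 5 n49063
theorem D106165 : act 5 n49063 = n106165 := rfl
def n106166 : Q := act 6 n49063
theorem D106166 : act 6 n49063 = n106166 := rfl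
theorem F163166 : act 4 n106166 = n49065 := d10_1 D106166 (iv6 D49065) D49063
def n106167 : Q := act 7 n49063
theorem D106167 : act 7 n49063 = n106167 := rfl
theorem F163167 : act 2 n106167 = n49068 := d4_1 D106167 (iv7 F163158) F163157
theorem F163168 : act 4 n106167 = n49066 := d11_1 D106167 (iv7 D49066) D49063
theorem F163169 : act 1 n49068 = n106162 := d15_0 (iv0 D106162) D106167 F163167
def n106168 : Q := act 0 n49064
theorem D106168 : act 0 n49064 = n106168 := rfl
theorem F163170 : act 5 n106168 = n52760 := d21_2 D49064 D106168 (iv6 D52760) (iv1 D25610) (iv6 D12175) (iv5 D5771) F3801 D5145 D11216 D23937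
def n106169 : Q := act 1 n49064
theorem D106169 : act 1 n49064 = n106169 := rfl
theorem F163171 : act 1 n106169 = n49069 := d15_1 D106169 (iv7 F163160) F163159
def n106170 : Q := act 4 n49064
theorem D106170 : act 4 n49064 = n106170 := rfl
def n106171 : Q := act 6 n49064
theorem D106171 : act 6 n49064 = n106171 := rfl
def n106172 : Q := act 7 n49064
theorem D106172 : act 7 n49064 = n106172 := rfl
theorem F163172 : act 2 n106172 = n49069 := d4_1 D106172 (iv7 F163160) F163159
theorem F163173 : act 5 n106172 = n49066 := d13_1 D106172 (iv7 D49066) D49064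
theorem F163174 : act 1 n49069 = n106168 := d15_0 (iv0 D106168) D106172 F163172
def n106173 : Q := act 0 n49065
theorem D106173 : act 0 n49065 = n106173 := rfl
def n106174 : Q := act 1 n49065
theorem D106174 : act 1 n49065 = n106174 := rfl
def n106175 : Q := act 7 n49065
theorem D106175 : act 7 n49065 = n106175 := rfl
def n106176 : Q := act 6 n49066
theorem D106176 : act 6 n49066 = n106176 := rfl
theorem F163175 : act 2 n106176 = n49070 := d3_1 D106176 (iv6 D49070) (iv2 F77441)
def n106177 : Q := act 0 n49067
theorem D106177 : act 0 n49067 = n106177 := rfl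
def n106178 : Q := act 1 n49067
theorem D106178 : act 1 n49067 = n106178 := rfl
def n106179 : Q := act 2 n49067
theorem D106179 : act 2 n49067 = n106179 := rfl
def n106180 : Q := act 4 n49067
theorem D106180 : act 4 n49067 = n106180 := rfl
def n106181 : Q := act 5 n49067
theorem D106181 : act 5 n49067 = n106181 := rfl
theorem F163176 : act 3 n106181 = n49069 := d6_1 D106181 (iv5 D49069) D49067
def n106182 : Q := act 6 n49067
theorem D106182 : act 6 n49067 = n106182 := rfl
theorem F163177 : act 3 n106182 = n49070 := d7_1 D106182 (iv6 D49070) D49067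
def n106183 : Q := act 3 n49068
theorem D106183 : act 3 n49068 = n106183 := rfl
def n106184 : Q := act 5 n49068
theorem D106184 : act 5 n49068 = n106184 := rfl
def n106185 : Q := act 6 n49068
theorem D106185 : act 6 n49068 = n106185 := rfl
theorem F163178 : act 4 n106185 = n49070 := d10_1 D106185 (iv6 D49070) D49068
def n106186 : Q := act 4 n49069
theorem D106186 : act 4 n49069 = n106186 := rfl
def n106187 : Q := act 6 n49069
theorem D106187 : act 6 n49069 = n106187 := rfl
theorem F163179 : act 0 n49681 = n106187 := d21_4 (iv5 D12101) (iv1 F18619) D24227 D49681 (iv6 D106187) (iv5 D49069) (iv1 D23938) (iv5 F37353) (iv6 D23930) (iv1 F20022)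
def n106188 : Q := act 0 n49070
theorem D106188 : act 0 n49070 = n106188 := rfl
theorem F163180 : act 5 n106188 = n52177 := d21_0 (iv1 F82499) F82415 (iv6 F46016) (iv1 F46018) D52760 (iv5 F163170) (iv1 F163174) (iv5 D49069) D49070 D106188
theorem F163181 : act 7 n105376 = n106188 := d13_0 F163180 F161684 (iv5 F161606)
def n106189 : Q := act 1 n49070
theorem D106189 : act 1 n49070 = n106189 := rfl
def n106190 : Q := act 5 n49070
theorem D106190 : act 5 n49070 = n106190 := rfl
theorem F163182 : act 0 n52721 = n106190 := d21_1 D52721 (iv5 D106190) (iv6 D49070) (iv1 D23938) (iv6 D11216) (iv5 D5145) (iv1 F3800) D5769 D12169 D25590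
def n106191 : Q := act 7 n49070
theorem D106191 : act 7 n49070 = n106191 := rfl
def n106192 : Q := act 6 n49071
theorem D106192 : act 6 n49071 = n106192 := rfl
theorem F163183 : act 2 n106192 = n49072 := d3_1 D106192 (iv6 D49072) D49071
theorem F163184 : act 3 n106192 = n50351 := d7_1 D106192 (iv6 D50351) (iv3 F77442)
theorem F163185 : act 4 n106192 = n74180 := d10_1 D106192 (iv6 D74180) (iv4 F77443)
def n106193 : Q := act 0 n49072
theorem D106193 : act 0 n49072 = n106193 := rfl
def n106194 : Q := act 1 n49072
theorem D106194 : act 1 n49072 = n106194 := rfl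
def n106195 : Q := act 7 n49072
theorem D106195 : act 7 n49072 = n106195 := rfl
theorem F163186 : act 3 n106195 = n49075 := d8_1 D106195 (iv7 D49075) (iv3 F77448)
theorem F163187 : act 6 n106195 = n59153 := d14_1 D106195 (iv7 D59153) (iv6 D28099) (iv7 F37364) D49072
def n106197 : Q := act 4 n49073
theorem D106197 : act 4 n49073 = n106197 := rfl
theorem F163189 : act 2 n106197 = n59140 := d1_1 D106197 (iv4 D59140) (iv2 F103363)
theorem F163190 : act 7 n106197 = n59144 := d11_2 (iv7 F103364) D106197 (iv4 D59144)
theorem E16140 : n59168 = n59140 := ((c15_4 (iv0 D59168) (iv0 F95726) (iv7 F163190) F163189)).symm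
theorem F163191 : act 0 n59140 = n52321 := (sb E16140 (iv1 F93369))
theorem F163192 : act 1 n59140 = n28105 := (sb E16140 (iv0 D59168))
def n106198 : Q := act 5 n49073
theorem D106198 : act 5 n49073 = n106198 := rfl
theorem F163193 : act 2 n106198 = n59141 := d2_1 D106198 (iv5 D59141) (iv2 F103363)
theorem F163195 : act 0 n106198 = n59672 := d21_1 D106198 F94074 (iv6 F94075) (iv1 D49670) F37966 (iv5 D11383) D11382 F18596 D23941 D49073
def n106199 : Q := act 3 n49074
theorem D106199 : act 3 n49074 = n106199 := rfl
theorem F163196 : act 7 n106199 = n59139 := d8_2 (iv7 F103362) D106199 (iv3 D59139)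
def n106200 : Q := act 4 n49074
theorem D106200 : act 4 n49074 = n106200 := rfl
theorem F163197 : act 2 n106200 = n59144 := d1_1 D106200 (iv4 D59144) (iv2 F103361)
theorem F163198 : act 7 n106200 = n59140 := d11_2 (iv7 F103362) D106200 (iv4 D59140)
def n106201 : Q := act 5 n49074
theorem D106201 : act 5 n49074 = n106201 := rfl
theorem F163199 : act 2 n106201 = n59145 := d2_1 D106201 (iv5 D59145) (iv2 F103361)
theorem F163200 : act 6 n106201 = n52108 := d12_2 F103359 D106201 (iv5 F103385) (iv6 D67501) D67500
theorem F163201 : act 7 n106201 = n59141 := d13_2 (iv7 F103362) D106201 (iv5 D59141)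
theorem F163202 : act 0 n59672 = n106201 := d21_10 (iv5 D106201) (iv1 D49074) F41252 (iv6 F41251) F37940 D24360 F38179 D24914 (iv5 F82339) D59672
def n106202 : Q := act 0 n49076
theorem D106202 : act 0 n49076 = n106202 := rfl
def n106203 : Q := act 1 n49076
theorem D106203 : act 1 n49076 = n106203 := rfl
def n106204 : Q := act 7 n49076
theorem D106204 : act 7 n49076 = n106204 := rfl
theorem F163203 : act 3 n106204 = n49079 := d8_1 D106204 (iv7 D49079) (iv3 F77455)
theorem F163204 : act 4 n106204 = n50368 := d11_1 D106204 (iv7 D50368) (iv4 F77456)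
theorem F163205 : act 5 n106204 = n61844 := d13_1 D106204 (iv7 D61844) (iv5 F77457)
theorem F163206 : act 6 n106204 = n59137 := d14_1 D106204 (iv7 D59137) (iv6 D28092) (iv7 F37367) D49076
theorem F163207 : act 0 n50368 = n51817 := d20_7 (iv4 F19701) D25149 F79883 F100174 (iv1 F77464) (iv3 F163203) F163204 (iv4 D51817) (iv3 D25156) (iv1 D11944)
theorem F163208 : act 1 n50175 = n51817 := d15_0 (iv0 F163207) (iv7 D50368) (iv2 F79513)
def n106205 : Q := act 4 n49077
theorem D106205 : act 4 n49077 = n106205 := rfl
theorem F163209 : act 2 n106205 = n59156 := d1_1 D106205 (iv4 D59156) (iv2 F100255)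
theorem F163210 : act 7 n106205 = n59160 := d11_2 (iv7 F100257) D106205 (iv4 D59160)
def n106206 : Q := act 0 n49080
theorem D106206 : act 0 n49080 = n106206 := rfl
theorem F163211 : act 2 n49084 = n106206 := d15_3 (iv0 D106206) (iv0 D49080) D49084
theorem F163212 : act 3 n106206 = n59094 := d0_2 (iv3 F77468) F163211 F93263 F45340 (iv2 F37376)
theorem F163213 : act 5 n106206 = n106108 := d2_2 (iv5 F77469) F163211 (iv2 D106108)
theorem F163214 : act 7 n106206 = n49082 := d4_2 D49084 F163211 (iv2 D49082)
theorem F163215 : act 1 n49081 = n106206 := d15_1 D49081 F163214 (iv2 D49082)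
def n106207 : Q := act 2 n49080
theorem D106207 : act 2 n49080 = n106207 := rfl
theorem F163216 : act 7 n49081 = n106207 := d15_2 (iv0 D49080) D49081 (iv2 D106207)
def n106208 : Q := act 3 n49080
theorem D106208 : act 3 n49080 = n106208 := rfl
def n106209 : Q := act 4 n49080
theorem D106209 : act 4 n49080 = n106209 := rfl
def n106210 : Q := act 5 n49080
theorem D106210 : act 5 n49080 = n106210 := rfl
def n106211 : Q := act 6 n49080
theorem D106211 : act 6 n49080 = n106211 := rfl
def n106212 : Q := act 7 n49080
theorem D106212 : act 7 n49080 = n106212 := rfl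
theorem F163217 : act 2 n106212 = n49081 := d4_1 D106212 F163216 (iv2 D106207)
def n106213 : Q := act 3 n49081
theorem D106213 : act 3 n49081 = n106213 := rfl
def n106214 : Q := act 4 n49081
theorem D106214 : act 4 n49081 = n106214 := rfl
def n106215 : Q := act 5 n49081
theorem D106215 : act 5 n49081 = n106215 := rfl
def n106216 : Q := act 6 n49081
theorem D106216 : act 6 n49081 = n106216 := rfl
def n106217 : Q := act 0 n49082
theorem D106217 : act 0 n49082 = n106217 := rfl
theorem F163218 : act 1 n49084 = n106217 := d15_0 (iv0 D106217) (iv7 F163214) (iv2 F163211)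
def n106218 : Q := act 1 n49082
theorem D106218 : act 1 n49082 = n106218 := rfl
theorem F163219 : act 1 n106218 = n49084 := d15_1 D106218 (iv7 D49084) D49082
def n106219 : Q := act 5 n49082
theorem D106219 : act 5 n49082 = n106219 := rfl
theorem F163220 : act 2 n106219 = n49083 := d2_1 D106219 (iv5 D49083) D49082
theorem F163221 : act 3 n106219 = n59191 := d6_1 D106219 (iv5 D59191) (iv3 F77465)
theorem F163222 : act 7 n106219 = n106108 := d13_2 F163214 D106219 (iv5 F163213)
theorem F163223 : act 1 n106107 = n106219 := d15_1 D106107 F163222 (iv2 D106108)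
theorem F163224 : act 1 n106219 = n106106 := d15_0 (iv0 D106106) F77467 (iv2 F163220)
def n106220 : Q := act 0 n49083
theorem D106220 : act 0 n49083 = n106220 := rfl
theorem F163225 : act 1 n106108 = n106220 := d15_0 (iv0 D106220) (iv7 F77467) D106108
def n106221 : Q := act 1 n49083
theorem D106221 : act 1 n49083 = n106221 := rfl
theorem F163226 : act 1 n106221 = n106108 := d15_1 D106221 (iv7 F163222) F163220
def n106222 : Q := act 4 n49083
theorem D106222 : act 4 n49083 = n106222 := rfl
theorem F163227 : act 3 n106222 = n106101 := d5_1 D106222 F163127 F77429 (iv4 F37374) (iv3 F77466)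
theorem F163228 : act 7 n106222 = n106099 := d11_2 F77467 D106222 F163125
def n106223 : Q := act 6 n49083
theorem D106223 : act 6 n49083 = n106223 := rfl
theorem F163229 : act 3 n106223 = n49085 := d7_1 D106223 (iv6 D49085) (iv3 F77466)
def n106224 : Q := act 6 n49084
theorem D106224 : act 6 n49084 = n106224 := rfl
theorem F163230 : act 3 n106224 = n49086 := d7_1 D106224 (iv6 D49086) (iv3 F77468)
def n106225 : Q := act 0 n49085
theorem D106225 : act 0 n49085 = n106225 := rfl
def n106226 : Q := act 1 n49085
theorem D106226 : act 1 n49085 = n106226 := rfl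
theorem F163231 : act 1 n106226 = n59202 := d15_1 D106226 (iv7 D59202) (iv2 F77470)
def n106227 : Q := act 7 n49085
theorem D106227 : act 7 n49085 = n106227 := rfl
theorem F163232 : act 2 n106227 = n59202 := d4_1 D106227 (iv7 D59202) (iv2 F77470)
theorem F163233 : act 4 n106227 = n106124 := d11_1 D106227 F163139 (iv4 F77471)
theorem F163234 : act 6 n106227 = n106113 := d14_1 D106227 (iv7 D106113) (iv6 D49049) F37375 D49085
theorem F163235 : act 1 n59202 = n106225 := d15_0 (iv0 D106225) D106227 F163232
theorem F163236 : act 1 n59201 = n106227 := d15_1 D59201 (iv7 D106227) F77470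
theorem F163237 : act 1 n106227 = n59200 := d15_0 (iv0 D59200) D59202 (iv2 F163232)
def n106228 : Q := act 5 n49086
theorem D106228 : act 5 n49086 = n106228 := rfl
theorem F163238 : act 2 n106228 = n59205 := d2_1 D106228 (iv5 D59205) (iv2 F77472)
theorem F163239 : act 6 n106228 = n106112 := d12_2 D49086 D106228 (iv5 D106112) (iv6 D49049) (iv5 F37378)
def n106229 : Q := act 3 n49088
theorem D106229 : act 3 n49088 = n106229 := rfl
theorem F163240 : act 7 n106229 = n106096 := d8_2 (iv7 F106577) D106229 (iv3 D106096)
def n106230 : Q := act 5 n49090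
theorem D106230 : act 5 n49090 = n106230 := rfl
theorem F163241 : act 2 n106230 = n49103 := d2_1 D106230 F77518 F77482
theorem F163242 : act 3 n106230 = n52510 := d6_1 D106230 (iv5 D52510) (iv3 F77481)
theorem F163243 : act 7 n106230 = n49098 := d13_2 (iv7 F77484) D106230 (iv5 D49098)
theorem F163244 : act 0 n49099 = n106230 := d21_1 (iv5 F115177) (iv5 D106230) (iv6 F77485) (iv1 F77249) (iv6 D48964) (iv5 F51621) (iv1 F83130) (iv5 D52623) (iv6 F45853) D59803
theorem F163245 : act 1 n49100 = n106230 := d15_1 D49100 F163243 F77513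
def n106231 : Q := act 5 n49091
theorem D106231 : act 5 n49091 = n106231 := rfl
theorem F163246 : act 2 n106231 = n49093 := d2_1 D106231 (iv5 D49093) D49091
theorem F163247 : act 3 n106231 = n68614 := d6_1 D106231 (iv5 D68614) (iv3 F77488)
theorem F163248 : act 7 n106231 = n49096 := d13_2 (iv7 F77489) D106231 (iv5 D49096)
theorem F163249 : act 0 n106231 = n52503 := d21_1 D106231 F82902 F45853 (iv1 F40370) (iv6 F50912) (iv5 F51649) (iv1 F51664) (iv5 D23974) (iv6 F37402) (iv1 F77490)
theorem F163250 : act 1 n49679 = n49096 := d15_1 F83136 (iv7 F163248) F163246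
def n106232 : Q := act 5 n49092
theorem D106232 : act 5 n49092 = n106232 := rfl
theorem F163251 : act 2 n106232 = n52545 := d2_1 D106232 (iv5 D52545) (iv2 F77494)
theorem F163252 : act 3 n106232 = n52552 := d6_1 D106232 (iv5 D52552) (iv3 F77495)
def n106233 : Q := act 4 n49093
theorem D106233 : act 4 n49093 = n106233 := rfl
def n106234 : Q := act 6 n49093
theorem D106234 : act 6 n49093 = n106234 := rfl
def n106235 : Q := act 5 n49094
theorem D106235 : act 5 n49094 = n106235 := rfl
theorem F163253 : act 2 n106235 = n59871 := d2_1 D106235 (iv5 D59871) (iv2 F77497)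
theorem F163254 : act 3 n106235 = n49096 := d6_1 D106235 (iv5 D49096) D49094
theorem F163255 : act 6 n106235 = n100341 := d12_2 F77500 D106235 (iv5 D100341) (iv6 D46821) (iv5 F72750)
theorem F163256 : act 7 n106235 = n68614 := d13_2 (iv7 F77498) D106235 (iv5 D68614)
theorem F163257 : act 0 n106235 = n59812 := d17_2 F77501 D106235 (iv5 D59812) (iv4 D28365) (iv5 F50546) (iv0 D26165) (iv5 D12411) D12408 D26155
theorem F163258 : act 1 n106235 = n59814 := d17_6 (iv1 D34963) D34964 F94332 (iv5 D59870) (iv4 F77499) D106235 (iv5 D59814) F94188 F94186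
def n106236 : Q := act 5 n49095
theorem D106236 : act 5 n49095 = n106236 := rfl
theorem F163259 : act 3 n106236 = n52551 := d6_1 D106236 F83047 (iv3 F77504)
theorem F163260 : act 6 n106236 = n92575 := d12_2 F77508 D106236 (iv5 D92575) (iv6 D43312) D43311
theorem F163261 : act 7 n106236 = n52545 := d13_2 (iv7 F77503) D106236 (iv5 D52545)
def n106237 : Q := act 4 n49096
theorem D106237 : act 4 n49096 = n106237 := rfl
def n106238 : Q := act 6 n49096
theorem D106238 : act 6 n49096 = n106238 := rfl
theorem F163262 : act 3 n106238 = n100341 := d7_1 D106238 (iv6 F163255) F163254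
theorem F163263 : act 5 n106238 = n90269 := d12_1 D106238 (iv6 D90269) F77506 (iv6 D49097) D49096
def n106239 : Q := act 0 n49098
theorem D106239 : act 0 n49098 = n106239 := rfl
theorem F163264 : act 1 n49103 = n106239 := d15_0 (iv0 D106239) (iv7 F163243) F163241
theorem F163265 : act 5 n49678 = n106239 := d21_0 (iv1 F163264) F77518 D49104 (iv1 F77523) (iv6 D23973) D23972 F54167 (iv5 D25538) D25539 (iv1 F78482)
theorem F163266 : act 2 n106239 = n49099 := d2_1 F163265 F115177 F94161
theorem F163267 : act 3 n106239 = n68616 := d6_1 F163265 F104820 F94196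
theorem F163268 : act 7 n106239 = n49100 := d13_2 F94163 F163265 (iv5 F94167)
def n106240 : Q := act 1 n49098
theorem D106240 : act 1 n49098 = n106240 := rfl
theorem F163269 : act 1 n106240 = n49103 := d15_1 D106240 (iv7 D49103) (iv2 F77513)
theorem F163270 : act 7 n106240 = n49099 := d15_2 (iv0 D106239) D106240 (iv2 F163266)
theorem F163271 : act 5 n49312 = n106240 := d21_0 (iv1 D106240) (iv5 D49098) F37402 (iv1 F37440) D49120 (iv5 F77977) (iv1 F82412) F82408 F77406 F77960
theorem F163272 : act 2 n106240 = n49100 := d2_1 F163271 (iv5 F94167) (iv2 F94166)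
theorem F163273 : act 3 n106240 = n67897 := d6_1 F163271 (iv5 D67897) (iv3 F77959)
def n106241 : Q := act 4 n49098
theorem D106241 : act 4 n49098 = n106241 := rfl
theorem F163274 : act 2 n106241 = n49101 := d1_1 D106241 (iv4 D49101) (iv2 F77513)
def n106242 : Q := act 6 n49098
theorem D106242 : act 6 n49098 = n106242 := rfl
theorem F163275 : act 2 n106242 = n49102 := d3_1 D106242 (iv6 D49102) (iv2 F77513)
theorem F163276 : act 3 n106242 = n78989 := d7_1 D106242 F120164 (iv3 F77514)
theorem F163277 : act 5 n106242 = n49133 := d12_1 D106242 (iv6 D49133) (iv5 D23974) (iv6 F37402) D49098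
def n106243 : Q := act 3 n49099
theorem D106243 : act 3 n49099 = n106243 := rfl
theorem F163278 : act 2 n106243 = n67895 := d0_1 D106243 (iv3 F114734) F114733 (iv3 F163267) F163266
theorem F163279 : act 5 n106243 = n52085 := d6_2 (iv5 F115177) D106243 (iv3 F94158)
theorem F163280 : act 7 n106243 = n67897 := d8_2 F163270 D106243 (iv3 F163273)
theorem F163281 : act 0 n68629 = n106243 := d17_2 (iv1 F77065) D68629 F163279 (iv4 D52085) F77095 (iv0 D48906) (iv5 D23850) (iv0 F54294) (iv4 F77064)
theorem F163282 : act 1 n68717 = n106243 := d17_6 (iv1 F50525) D34402 F54567 (iv5 D31972) D31971 D68717 F163279 (iv0 F82325) F43631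
def n106244 : Q := act 4 n49099
theorem D106244 : act 4 n49099 = n106244 := rfl
def n106245 : Q := act 6 n49099
theorem D106245 : act 6 n49099 = n106245 := rfl
def n106246 : Q := act 4 n49100
theorem D106246 : act 4 n49100 = n106246 := rfl
def n106247 : Q := act 6 n49100
theorem D106247 : act 6 n49100 = n106247 := rfl
def n106248 : Q := act 0 n49101
theorem D106248 : act 0 n49101 = n106248 := rfl
def n106249 : Q := act 1 n49101
theorem D106249 : act 1 n49101 = n106249 := rfl
def n106250 : Q := act 3 n49101
theorem D106250 : act 3 n49101 = n106250 := rfl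
theorem F163283 : act 4 n106250 = n49105 := d5_2 D49101 D106250 (iv3 D49105) (iv4 D23956) (iv3 F37403)
theorem F163284 : act 7 n59194 = n106250 := d11_0 F163283 F77525 D59194
def n106251 : Q := act 5 n49101
theorem D106251 : act 5 n49101 = n106251 := rfl
def n106252 : Q := act 6 n49101
theorem D106252 : act 6 n49101 = n106252 := rfl
theorem F163285 : act 4 n106252 = n49102 := d10_1 D106252 (iv6 D49102) D49101
def n106253 : Q := act 7 n49101
theorem D106253 : act 7 n49101 = n106253 := rfl
theorem F163286 : act 3 n106253 = n59194 := d8_1 D106253 F163284 (iv3 D106250)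
theorem F163287 : act 4 n106253 = n49103 := d11_1 D106253 (iv7 D49103) D49101
def n106254 : Q := act 0 n49102
theorem D106254 : act 0 n49102 = n106254 := rfl
def n106255 : Q := act 1 n49102
theorem D106255 : act 1 n49102 = n106255 := rfl
def n106256 : Q := act 7 n49102
theorem D106256 : act 7 n49102 = n106256 := rfl
theorem F163288 : act 3 n106256 = n49109 := d8_1 D106256 (iv7 D49109) (iv3 F77515)
theorem F163289 : act 5 n106256 = n49139 := d13_1 D106256 (iv7 D49139) (iv5 F77516)
def n106257 : Q := act 6 n49103
theorem D106257 : act 6 n49103 = n106257 := rfl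
theorem F163290 : act 3 n106257 = n49110 := d7_1 D106257 (iv6 D49110) (iv3 F77517)
def n106258 : Q := act 5 n49104
theorem D106258 : act 5 n49104 = n106258 := rfl
theorem F163291 : act 2 n106258 = n52767 := d2_1 D106258 (iv5 D52767) (iv2 F77519)
theorem F163292 : act 3 n106258 = n49111 := d6_1 D106258 (iv5 D49111) (iv3 F77520)
theorem F163293 : act 7 n106258 = n49141 := d13_2 (iv7 F77522) D106258 (iv5 D49141)
def n106259 : Q := act 0 n49105
theorem D106259 : act 0 n49105 = n106259 := rfl
theorem F163294 : act 1 n59191 = n106259 := d15_0 (iv0 D106259) F77525 (iv2 F93393)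
def n106260 : Q := act 1 n49105
theorem D106260 : act 1 n49105 = n106260 := rfl
def n106261 : Q := act 2 n49105
theorem D106261 : act 2 n49105 = n106261 := rfl
theorem F163295 : act 3 n106261 = n106108 := d0_2 D49105 D106261 (iv2 D106108) (iv3 D49048) (iv2 F37406)
theorem F163296 : act 5 n106261 = n59094 := d2_2 (iv5 F77524) D106261 F93263
theorem F163297 : act 7 n106261 = n59191 := d4_2 (iv7 F77525) D106261 F93393
theorem F163298 : act 1 n106261 = n59192 := d15_0 (iv0 D59192) (iv7 F77525) D106261
theorem F163299 : act 1 n106260 = n59191 := d15_1 D106260 (iv7 F163297) (iv2 D106261)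
theorem F163300 : act 1 n59193 = n106261 := d15_1 D59193 F163297 F93393
def n106262 : Q := act 6 n49105
theorem D106262 : act 6 n49105 = n106262 := rfl
theorem F163301 : act 3 n106262 = n49106 := d7_1 D106262 (iv6 D49106) D49105
def n106263 : Q := act 0 n49106
theorem D106263 : act 0 n49106 = n106263 := rfl
def n106264 : Q := act 1 n49106
theorem D106264 : act 1 n49106 = n106264 := rfl
theorem F163302 : act 1 n106264 = n106113 := d15_1 D106264 (iv7 D106113) (iv2 F77526)
def n106265 : Q := act 5 n49106
theorem D106265 : act 5 n49106 = n106265 := rfl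
theorem F163303 : act 2 n106265 = n106112 := d2_1 D106265 (iv5 D106112) (iv2 F77526)
theorem F163304 : act 6 n106265 = n59205 := d12_2 D49106 D106265 (iv5 D59205) (iv6 D28116) (iv5 F37407)
def n106266 : Q := act 7 n49106
theorem D106266 : act 7 n49106 = n106266 := rfl
theorem F163305 : act 2 n106266 = n106113 := d4_1 D106266 (iv7 D106113) (iv2 F77526)
theorem F163306 : act 4 n106266 = n49109 := d11_1 D106266 (iv7 D49109) (iv4 F77527)
theorem F163307 : act 6 n106266 = n59202 := d14_1 D106266 (iv7 D59202) (iv6 D28115) F37408 D49106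
theorem F163308 : act 1 n106113 = n106263 := d15_0 (iv0 D106263) D106266 F163305
theorem F163309 : act 1 n106111 = n106266 := d15_1 D106111 (iv7 D106266) F77526
theorem F163310 : act 1 n106266 = n106110 := d15_0 (iv0 D106110) D106113 (iv2 F163305)
def n106267 : Q := act 2 n49107
theorem D106267 : act 2 n49107 = n106267 := rfl
theorem F163311 : act 7 n49108 = n106267 := d15_2 (iv0 D49107) D49108 (iv2 D106267)
def n106268 : Q := act 3 n49107
theorem D106268 : act 3 n49107 = n106268 := rfl
def n106269 : Q := act 4 n49107
theorem D106269 : act 4 n49107 = n106269 := rfl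
def n106270 : Q := act 5 n49107
theorem D106270 : act 5 n49107 = n106270 := rfl
def n106271 : Q := act 6 n49107
theorem D106271 : act 6 n49107 = n106271 := rfl
theorem F163312 : act 5 n106271 = n76320 := d21_6 (iv5 D13550) F10519 D11224 D23957 D49107 D106271 (iv1 D76320) (iv5 F82802) (iv6 D52447) F40244
def n106272 : Q := act 7 n49107
theorem D106272 : act 7 n49107 = n106272 := rfl
theorem F163313 : act 2 n106272 = n49108 := d4_1 D106272 F163311 (iv2 D106267)
def n106273 : Q := act 3 n49108
theorem D106273 : act 3 n49108 = n106273 := rfl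
def n106274 : Q := act 4 n49108
theorem D106274 : act 4 n49108 = n106274 := rfl
def n106275 : Q := act 6 n49108
theorem D106275 : act 6 n49108 = n106275 := rfl
def n106276 : Q := act 6 n49109
theorem D106276 : act 6 n49109 = n106276 := rfl
theorem F163314 : act 2 n106276 = n106124 := d3_1 D106276 (iv6 D106124) (iv2 F77529)
theorem F163315 : act 4 n106276 = n59202 := d10_1 D106276 (iv6 F163307) F163306
theorem F163316 : act 7 n106276 = n49110 := d14_2 D49109 D106276 (iv6 D49110) (iv7 D23958) D23957
theorem F163317 : act 1 n106126 = n106276 := d15_1 D106126 F163316 F77534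
theorem F163318 : act 1 n106276 = n106125 := d15_0 (iv0 D106125) (iv7 F163139) (iv2 F163314)
def n106277 : Q := act 0 n49110
theorem D106277 : act 0 n49110 = n106277 := rfl
theorem F163319 : act 1 n106124 = n106277 := d15_0 (iv0 D106277) (iv7 F163316) F163314
def n106278 : Q := act 1 n49110
theorem D106278 : act 1 n49110 = n106278 := rfl
theorem F163320 : act 1 n106278 = n106124 := d15_1 D106278 F163139 (iv2 F77534)
def n106279 : Q := act 5 n49110
theorem D106279 : act 5 n49110 = n106279 := rfl
theorem F163321 : act 2 n106279 = n76295 := d2_1 D106279 F114347 (iv2 F77534)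
theorem F163322 : act 6 n106279 = n49111 := d12_2 D49110 D106279 (iv5 D49111) (iv6 D23959) (iv5 F37413)
def n106280 : Q := act 5 n49113
theorem D106280 : act 5 n49113 = n106280 := rfl
theorem F163323 : act 2 n106280 = n76302 := d2_1 D106280 (iv5 D76302) F106606
theorem F163324 : act 7 n106280 = n94264 := d13_2 (iv7 F114367) D106280 (iv5 F145399)
theorem F163325 : act 0 n106280 = n93870 := d17_2 (iv1 F114359) D106280 (iv5 D93870) F68990 D54792 (iv0 F86697) (iv5 D52670) (iv0 F50510) (iv4 F37656)
theorem F163326 : act 1 n106280 = n49293 := d17_6 D20788 D43885 D93874 F144710 (iv4 F114361) D106280 (iv5 D49293) (iv0 F65523) F32956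
def n106281 : Q := act 6 n49115
theorem D106281 : act 6 n49115 = n106281 := rfl
theorem F163327 : act 2 n106281 = n106096 := d3_1 D106281 F163113 (iv2 F106572)
theorem F163328 : act 3 n106281 = n49116 := d7_1 D106281 (iv6 D49116) D49115
theorem F163329 : act 4 n106281 = n106096 := d10_1 D106281 F163113 F106026
def n106282 : Q := act 4 n49117
theorem D106282 : act 4 n49117 = n106282 := rfl
theorem F163330 : act 2 n106282 = n57602 := d1_1 D106282 F90745 (iv2 F77543)
theorem F163331 : act 3 n106282 = n73040 := d5_1 D106282 F109562 (iv3 F71422) F71423 (iv3 F77544)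
theorem F163332 : act 5 n106282 = n57257 := d9_2 D49117 D106282 F109320 (iv5 F138813) (iv4 D90248) (iv5 D42182) (iv4 F31858) D42400 D90580 F139425 F109316 F94807 (iv4 D52690) (iv5 D25575) (iv4 F37429)
theorem F163333 : act 7 n106282 = n57607 := d11_2 (iv7 F77545) D106282 F92116
theorem F163334 : act 0 n106282 = n52678 := d17_0 (iv5 F83250) D55433 (iv5 F90761) F90762 (iv5 D54770) (iv0 F42384) D52808 F83436 D106282
theorem F163335 : act 1 n106282 = n52681 := d18_6 (iv1 F32467) (iv4 F40387) F40386 (iv4 F37429) D49117 D106282 (iv4 D52681) F67865 (iv5 D43276)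
def n106283 : Q := act 6 n49118
theorem D106283 : act 6 n49118 = n106283 := rfl
theorem F163336 : act 2 n106283 = n55985 := d3_1 D106283 (iv6 D55985) F77550
theorem F163337 : act 3 n106283 = n54671 := d7_1 D106283 (iv6 D54671) (iv3 F77551)
theorem F163338 : act 4 n106283 = n95792 := d10_1 D106283 (iv6 D95792) (iv4 F77549)
theorem F163339 : act 5 n106283 = n60027 := d12_1 D106283 (iv6 D60027) (iv5 D28500) (iv6 F42277) (iv5 F77548)
def n106284 : Q := act 6 n49119
theorem D106284 : act 6 n49119 = n106284 := rfl
theorem F163340 : act 2 n106284 = n49140 := d3_1 D106284 (iv6 D49140) (iv2 F77552)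
theorem F163341 : act 3 n106284 = n52706 := d7_1 D106284 (iv6 D52706) (iv3 F77553)
theorem F163342 : act 4 n106284 = n70325 := d10_1 D106284 (iv6 D70325) (iv4 F77555)
def n106285 : Q := act 6 n49121
theorem D106285 : act 6 n49121 = n106285 := rfl
theorem F163343 : act 2 n106285 = n52813 := d3_1 D106285 (iv6 D52813) F83420
theorem F163344 : act 3 n106285 = n52820 := d7_1 D106285 (iv6 F83459) (iv3 F77563)
theorem F163345 : act 4 n106285 = n52813 := d10_1 D106285 (iv6 D52813) (iv4 F77562)
theorem F163346 : act 7 n106285 = n52839 := d14_2 (iv7 F83421) D106285 (iv6 F139392) F139393 F83032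
theorem F163347 : act 0 n49128 = n106285 := d21_4 (iv5 F106610) F106612 F51703 D49128 (iv6 D106285) (iv5 F106162) F106163 F55674 (iv6 F83116) (iv1 F87463)
theorem F163348 : act 0 n106285 = n52973 := d20_1 (iv4 F163345) (iv4 F94483) F94484 (iv1 F77258) F50250 D33240 F52478 (iv4 F77234) (iv3 F162623) F162626
def n106286 : Q := act 6 n49122
theorem D106286 : act 6 n49122 = n106286 := rfl
theorem F163349 : act 2 n106286 = n52877 := d3_1 D106286 (iv6 D52877) (iv2 F77565)
theorem F163350 : act 3 n106286 = n71776 := d7_1 D106286 (iv6 D71776) (iv3 F77566)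
def n106287 : Q := act 5 n49123
theorem D106287 : act 5 n49123 = n106287 := rfl
theorem F163352 : act 2 n106287 = n52879 := d2_1 D106287 (iv5 D52879) (iv2 F77568)
theorem F163353 : act 3 n106287 = n51063 := d6_1 D106287 F80527 (iv3 F77569)
def n106288 : Q := act 0 n49124
theorem D106288 : act 0 n49124 = n106288 := rfl
def n106289 : Q := act 1 n49124
theorem D106289 : act 1 n49124 = n106289 := rfl
def n106290 : Q := act 5 n49124
theorem D106290 : act 5 n49124 = n106290 := rfl
theorem F163354 : act 6 n106290 = n49126 := d12_2 D49124 D106290 (iv5 D49126) (iv6 D23969) D23968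
def n106291 : Q := act 7 n49124
theorem D106291 : act 7 n49124 = n106291 := rfl
theorem F163355 : act 4 n106291 = n76786 := d11_1 D106291 (iv7 D76786) (iv4 F77572)
def n106292 : Q := act 5 n49125
theorem D106292 : act 5 n49125 = n106292 := rfl
theorem F163356 : act 2 n106292 = n52118 := d2_1 D106292 (iv5 D52118) F77575
theorem F163357 : act 3 n106292 = n49192 := d6_1 D106292 (iv5 D49192) (iv3 F77573)
theorem F163358 : act 0 n106292 = n49311 := d21_1 D106292 (iv5 D49311) D49312 F77961 (iv6 D25539) D25538 F51706 (iv5 D23968) D23969 D49125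
theorem F163359 : act 0 n49316 = n106292 := d21_1 D49316 (iv5 D106292) (iv6 F94271) F94273 (iv6 D49097) D49096 (iv1 F163250) (iv5 D49679) (iv6 F77406) (iv1 F77408)
theorem F163360 : act 1 n49316 = n52164 := d15_1 (iv0 F163359) F82477 (iv2 F163356)
def n106293 : Q := act 4 n49126
theorem D106293 : act 4 n49126 = n106293 := rfl
def n106294 : Q := act 1 n49128
theorem D106294 : act 1 n49128 = n106294 := rfl
theorem F163361 : act 1 n106294 = n52973 := d15_1 D106294 (iv7 F162625) F162622
theorem F163362 : act 7 n106294 = n52813 := d15_2 (iv0 F163347) D106294 (iv2 F163343)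
theorem F163363 : act 3 n52534 = n106294 := d20_3 (iv4 F40546) (iv1 F83462) (iv4 F83464) (iv1 D106294) F77578 (iv4 F55083) (iv1 F55085) F51827 (iv3 F83285) F83289
theorem F163364 : act 4 n52839 = n106294 := d20_6 (iv4 D26457) (iv1 F42269) (iv4 F86425) F86424 (iv1 F69006) D52839 (iv1 D106294) F77579 F55090 F55088
theorem F163365 : act 6 n106294 = n52532 := d10_2 F139392 F163364 (iv4 F139391)
theorem F163366 : act 2 n52839 = n106294 := d3_3 F163365 (iv2 F139390) F139392
def n106295 : Q := act 5 n49128
theorem D106295 : act 5 n49128 = n106295 := rfl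
theorem F163367 : act 3 n106295 = n52899 := d6_1 D106295 (iv5 D52899) (iv3 F77578)
theorem F163368 : act 1 n106295 = n90583 := d17_6 (iv1 D76512) D76513 F114677 (iv5 D49130) (iv4 F77579) D106295 (iv5 D90583) D90582 (iv4 F139435)
def n106296 : Q := act 7 n49128
theorem D106296 : act 7 n49128 = n106296 := rfl
theorem F163369 : act 2 n106296 = n52973 := d4_1 D106296 (iv7 F162625) F162622
theorem F163370 : act 3 n106296 = n52782 := d8_1 D106296 F83381 (iv3 F77578)
theorem F163371 : act 4 n106296 = n49131 := d11_1 D106296 (iv7 D49131) (iv4 F77579)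
theorem F163372 : act 6 n106296 = n52880 := d14_1 D106296 (iv7 D52880) (iv6 D25666) (iv7 F37451) D49128
theorem F163373 : act 1 n52839 = n106296 := d15_1 (iv0 F162627) (iv7 D106296) (iv2 F162622)
theorem F163374 : act 1 n106296 = n52813 := d15_1 F163373 (iv7 F163362) (iv2 F163366)
def n106297 : Q := act 0 n49129
theorem D106297 : act 0 n49129 = n106297 := rfl
def n106298 : Q := act 1 n49129
theorem D106298 : act 1 n49129 = n106298 := rfl
def n106299 : Q := act 5 n49129
theorem D106299 : act 5 n49129 = n106299 := rfl
theorem F163375 : act 6 n106299 = n49130 := d12_2 D49129 D106299 (iv5 D49130) (iv6 D23973) D23972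
def n106300 : Q := act 7 n49129
theorem D106300 : act 7 n49129 = n106300 := rfl
def n106301 : Q := act 0 n49130
theorem D106301 : act 0 n49130 = n106301 := rfl
def n106302 : Q := act 4 n49130
theorem D106302 : act 4 n49130 = n106302 := rfl
def n106303 : Q := act 7 n49130
theorem D106303 : act 7 n49130 = n106303 := rfl
theorem F163376 : act 5 n106303 = n49131 := d13_1 D106303 (iv7 D49131) D49130
theorem F163377 : act 1 n52773 = n106303 := d15_1 (iv0 F162646) (iv7 D106303) (iv2 F162644)
def n106304 : Q := act 6 n49132
theorem D106304 : act 6 n49132 = n106304 := rfl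
theorem F163378 : act 2 n106304 = n49134 := d3_1 D106304 (iv6 D49134) F77583
theorem F163379 : act 3 n106304 = n71320 := d7_1 D106304 (iv6 D71320) F77586
theorem F163380 : act 5 n106304 = n93774 := d12_1 D106304 (iv6 D93774) F83123 (iv6 D52622) (iv5 F77582)
def n106305 : Q := act 0 n49133
theorem D106305 : act 0 n49133 = n106305 := rfl
def n106306 : Q := act 1 n49133
theorem D106306 : act 1 n49133 = n106306 := rfl
theorem F163381 : act 1 n106306 = n49139 := d15_1 D106306 (iv7 D49139) (iv2 F77587)
def n106307 : Q := act 7 n49133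
theorem D106307 : act 7 n49133 = n106307 := rfl
theorem F163382 : act 2 n106307 = n49139 := d4_1 D106307 (iv7 D49139) (iv2 F77587)
theorem F163383 : act 3 n106307 = n78990 := d8_1 D106307 (iv7 D78990) (iv3 F77588)
theorem F163384 : act 4 n106307 = n58309 := d11_1 D106307 (iv7 D58309) (iv4 F77589)
theorem F163385 : act 1 n49139 = n106305 := d15_0 (iv0 D106305) D106307 F163382
theorem F163386 : act 1 n49138 = n106307 := d15_1 D49138 (iv7 D106307) F77587
theorem F163387 : act 1 n106307 = n49137 := d15_0 (iv0 D49137) D49139 (iv2 F163382)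
def n106308 : Q := act 0 n49134
theorem D106308 : act 0 n49134 = n106308 := rfl
def n106309 : Q := act 1 n49134
theorem D106309 : act 1 n49134 = n106309 := rfl
def n106310 : Q := act 7 n49134
theorem D106310 : act 7 n49134 = n106310 := rfl
def n106311 : Q := act 6 n49135
theorem D106311 : act 6 n49135 = n106311 := rfl
theorem F163388 : act 2 n106311 = n71318 := d3_1 D106311 (iv6 D71318) (iv2 F77590)
theorem F163389 : act 3 n106311 = n49136 := d7_1 D106311 (iv6 D49136) D49135
theorem F163390 : act 5 n106311 = n69790 := d12_1 D106311 (iv6 D69790) (iv5 D32410) (iv6 F50910) (iv5 F77591)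
def n106312 : Q := act 0 n49136
theorem D106312 : act 0 n49136 = n106312 := rfl
def n106313 : Q := act 1 n49136
theorem D106313 : act 1 n49136 = n106313 := rfl
def n106314 : Q := act 7 n49136
theorem D106314 : act 7 n49136 = n106314 := rfl
def n106315 : Q := act 2 n49137
theorem D106315 : act 2 n49137 = n106315 := rfl
theorem F163391 : act 7 n49138 = n106315 := d15_2 (iv0 D49137) D49138 (iv2 D106315)
def n106316 : Q := act 3 n49137
theorem D106316 : act 3 n49137 = n106316 := rfl
def n106317 : Q := act 4 n49137
theorem D106317 : act 4 n49137 = n106317 := rfl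
def n106318 : Q := act 5 n49137
theorem D106318 : act 5 n49137 = n106318 := rfl
def n106319 : Q := act 6 n49137
theorem D106319 : act 6 n49137 = n106319 := rfl
def n106320 : Q := act 7 n49137
theorem D106320 : act 7 n49137 = n106320 := rfl
theorem F163392 : act 2 n106320 = n49138 := d4_1 D106320 F163391 (iv2 D106315)
def n106321 : Q := act 3 n49138
theorem D106321 : act 3 n49138 = n106321 := rfl
def n106322 : Q := act 4 n49138
theorem D106322 : act 4 n49138 = n106322 := rfl
def n106323 : Q := act 5 n49138
theorem D106323 : act 5 n49138 = n106323 := rfl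
def n106324 : Q := act 6 n49138
theorem D106324 : act 6 n49138 = n106324 := rfl
def n106325 : Q := act 6 n49139
theorem D106325 : act 6 n49139 = n106325 := rfl
theorem F163393 : act 3 n106325 = n49145 := d7_1 D106325 F77605 (iv3 F77595)
theorem F163394 : act 4 n106325 = n72843 := d10_1 D106325 F109345 (iv4 F77596)
theorem F163395 : act 7 n106325 = n49140 := d14_2 D49139 D106325 (iv6 D49140) (iv7 D23979) D23978
def n106326 : Q := act 0 n49140
theorem D106326 : act 0 n49140 = n106326 := rfl
def n106327 : Q := act 1 n49140
theorem D106327 : act 1 n49140 = n106327 := rfl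
def n106328 : Q := act 5 n49140
theorem D106328 : act 5 n49140 = n106328 := rfl
theorem F163396 : act 3 n106328 = n49144 := d6_1 D106328 (iv5 D49144) (iv3 F77597)
theorem F163397 : act 6 n106328 = n49141 := d12_2 D49140 D106328 (iv5 D49141) (iv6 D23980) (iv5 F37458)
def n106329 : Q := act 0 n49141
theorem D106329 : act 0 n49141 = n106329 := rfl
theorem F163398 : act 5 n106329 = n49317 := d21_2 D49141 D106329 (iv6 D49317) (iv1 D24069) F18442 D16915 F54194 F51621 D48964 F77248
theorem F163399 : act 1 n52767 = n106329 := d15_0 (iv0 D106329) (iv7 F163293) F163291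
def n106330 : Q := act 1 n49141
theorem D106330 : act 1 n49141 = n106330 := rfl
theorem F163400 : act 1 n106330 = n52767 := d15_1 D106330 (iv7 F94491) F94489
theorem F163401 : act 5 n76512 = n106330 := d21_6 (iv5 F51621) (iv1 F83130) (iv5 D52623) (iv6 F45853) D59803 (iv6 F115176) (iv1 D106330) (iv5 D49141) (iv6 D23980) F37298
theorem F163402 : act 3 n106330 = n71328 := d6_1 F163401 (iv5 F115175) F115173
def n106331 : Q := act 4 n49141
theorem D106331 : act 4 n49141 = n106331 := rfl
def n106336 : Q := act 6 n49142
theorem D106336 : act 6 n49142 = n106336 := rfl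
theorem F163404 : act 5 n106336 = n76333 := d21_6 (iv5 D5769) (iv1 F7695) (iv5 F18271) D23981 D49142 D106336 (iv1 D76333) (iv5 D34870) (iv6 D16905) F12488
def n106342 : Q := act 0 n49144
theorem D106342 : act 0 n49144 = n106342 := rfl
def n106343 : Q := act 1 n49144
theorem D106343 : act 1 n49144 = n106343 := rfl
theorem F163406 : act 1 n106343 = n76288 := d15_1 D106343 (iv7 D76288) (iv2 F77601)
def n106344 : Q := act 4 n49144
theorem D106344 : act 4 n49144 = n106344 := rfl
theorem F163407 : act 2 n106344 = n76287 := d1_1 D106344 (iv4 D76287) (iv2 F77601)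
theorem F163408 : act 6 n106344 = n49158 := d10_2 (iv6 F77602) D106344 (iv4 D49158)
def n106345 : Q := act 7 n49144
theorem D106345 : act 7 n49144 = n106345 := rfl
theorem F163409 : act 2 n106345 = n76288 := d4_1 D106345 (iv7 D76288) (iv2 F77601)
theorem F163410 : act 5 n106345 = n49145 := d13_1 D106345 (iv7 D49145) D49144
theorem F163411 : act 1 n76288 = n106342 := d15_0 (iv0 D106342) D106345 F163409
theorem F163412 : act 1 n76286 = n106345 := d15_1 D76286 (iv7 D106345) F77601
theorem F163413 : act 1 n106345 = n76285 := d15_0 (iv0 D76285) D76288 (iv2 F163409)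
def n106348 : Q := act 3 n49146
theorem D106348 : act 3 n49146 = n106348 := rfl
theorem F163416 : act 7 n106348 = n49152 := d8_2 F77609 D106348 (iv3 D49152)
def n106349 : Q := act 4 n49146
theorem D106349 : act 4 n49146 = n106349 := rfl
theorem F163417 : act 2 n106349 = n49148 := d1_1 D106349 (iv4 D49148) D49146
theorem F163418 : act 7 n106349 = n49153 := d11_2 F77609 D106349 (iv4 D49153)
def n106350 : Q := act 5 n49146
theorem D106350 : act 5 n49146 = n106350 := rfl
theorem F163419 : act 2 n106350 = n49149 := d2_1 D106350 (iv5 D49149) D49146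
theorem F163420 : act 7 n106350 = n49154 := d13_2 F77609 D106350 (iv5 D49154)
def n106351 : Q := act 6 n49146
theorem D106351 : act 6 n49146 = n106351 := rfl
theorem F163421 : act 2 n106351 = n49150 := d3_1 D106351 (iv6 D49150) D49146
def n106352 : Q := act 0 n49147
theorem D106352 : act 0 n49147 = n106352 := rfl
def n106353 : Q := act 1 n49147
theorem D106353 : act 1 n49147 = n106353 := rfl
def n106354 : Q := act 2 n49147
theorem D106354 : act 2 n49147 = n106354 := rfl
def n106355 : Q := act 4 n49147
theorem D106355 : act 4 n49147 = n106355 := rfl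
def n106356 : Q := act 5 n49147
theorem D106356 : act 5 n49147 = n106356 := rfl
theorem F163422 : act 3 n106356 = n49149 := d6_1 D106356 (iv5 D49149) D49147
def n106357 : Q := act 6 n49147
theorem D106357 : act 6 n49147 = n106357 := rfl
theorem F163423 : act 3 n106357 = n49150 := d7_1 D106357 (iv6 D49150) D49147
def n106358 : Q := act 7 n49147
theorem D106358 : act 7 n49147 = n106358 := rfl
theorem F163424 : act 3 n106358 = n49151 := d8_1 D106358 (iv7 D49151) D49147
def n106359 : Q := act 0 n49148
theorem D106359 : act 0 n49148 = n106359 := rfl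
def n106361 : Q := act 3 n49148
theorem D106361 : act 3 n49148 = n106361 := rfl
def n106362 : Q := act 5 n49148
theorem D106362 : act 5 n49148 = n106362 := rfl
def n106363 : Q := act 6 n49148
theorem D106363 : act 6 n49148 = n106363 := rfl
theorem F163426 : act 4 n106363 = n49150 := d10_1 D106363 (iv6 D49150) D49148
def n106364 : Q := act 7 n49148
theorem D106364 : act 7 n49148 = n106364 := rfl
theorem F163427 : act 2 n106364 = n49153 := d4_1 D106364 (iv7 F163418) F163417
theorem F163428 : act 4 n106364 = n49151 := d11_1 D106364 (iv7 D49151) D49148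
theorem F163429 : act 1 n49153 = n106359 := d15_0 (iv0 D106359) D106364 F163427
def n106365 : Q := act 0 n49149
theorem D106365 : act 0 n49149 = n106365 := rfl
theorem F163430 : act 5 n106365 = n60008 := d21_2 D49149 D106365 (iv6 D60008) (iv1 D28490) (iv6 D13580) (iv5 D6463) F4476 D5168 D11239 D23982
def n106366 : Q := act 1 n49149
theorem D106366 : act 1 n49149 = n106366 := rfl
theorem F163431 : act 1 n106366 = n49154 := d15_1 D106366 (iv7 F163420) F163419
def n106367 : Q := act 4 n49149
theorem D106367 : act 4 n49149 = n106367 := rfl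
def n106368 : Q := act 6 n49149
theorem D106368 : act 6 n49149 = n106368 := rfl
def n106369 : Q := act 7 n49149
theorem D106369 : act 7 n49149 = n106369 := rfl
theorem F163432 : act 2 n106369 = n49154 := d4_1 D106369 (iv7 F163420) F163419
theorem F163433 : act 5 n106369 = n49151 := d13_1 D106369 (iv7 D49151) D49149
theorem F163434 : act 1 n49154 = n106365 := d15_0 (iv0 D106365) D106369 F163432
def n106370 : Q := act 0 n49150
theorem D106370 : act 0 n49150 = n106370 := rfl
def n106371 : Q := act 1 n49150
theorem D106371 : act 1 n49150 = n106371 := rfl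
theorem F163435 : act 6 n78952 = n106371 := d21_3 D28491 D60009 (iv5 F161682) (iv1 D106371) (iv6 D49150) D49149 D106365 F163430 (iv6 D60008) (iv1 D28490)
theorem F163436 : act 7 n106371 = n52700 := d14_2 D78952 F163435 (iv6 D52700) (iv7 F161672) D35937
theorem F163437 : act 2 n78965 = n106371 := d4_3 F163436 F161670 D78965
theorem E16141 : n78963 = n49150 := (c15_1 D78963 D106371 F163436 F161670)
theorem E16142 : n106370 = n35942 := ((D106370).symm.trans (sb E16141 (iv1 D78963)))
theorem F163438 : act 1 n35942 = n49150 := (sb E16142 (iv0 D106370))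
theorem F163439 : act 1 n106371 = n78962 := d15_0 (iv0 D78962) D78965 F163437
theorem F163440 : act 7 n78962 = n106351 := d15_2 D106371 F163439 F163421
def n106372 : Q := act 7 n49150
theorem D106372 : act 7 n49150 = n106372 := rfl
theorem F163441 : act 2 n106372 = n78962 := d4_1 D106372 F163440 F163421
def n106373 : Q := act 6 n49151
theorem D106373 : act 6 n49151 = n106373 := rfl
theorem F163442 : act 2 n106373 = n49155 := d3_1 D106373 (iv6 D49155) (iv2 F77610)
def n106374 : Q := act 0 n49152
theorem D106374 : act 0 n49152 = n106374 := rfl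
def n106375 : Q := act 1 n49152
theorem D106375 : act 1 n49152 = n106375 := rfl
def n106376 : Q := act 2 n49152
theorem D106376 : act 2 n49152 = n106376 := rfl
def n106377 : Q := act 4 n49152
theorem D106377 : act 4 n49152 = n106377 := rfl
def n106378 : Q := act 5 n49152
theorem D106378 : act 5 n49152 = n106378 := rfl
theorem F163443 : act 3 n106378 = n49154 := d6_1 D106378 (iv5 D49154) D49152
def n106379 : Q := act 6 n49152
theorem D106379 : act 6 n49152 = n106379 := rfl
theorem F163444 : act 3 n106379 = n49155 := d7_1 D106379 (iv6 D49155) D49152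
def n106380 : Q := act 3 n49153
theorem D106380 : act 3 n49153 = n106380 := rfl
def n106381 : Q := act 5 n49153
theorem D106381 : act 5 n49153 = n106381 := rfl
def n106382 : Q := act 6 n49153
theorem D106382 : act 6 n49153 = n106382 := rfl
theorem F163445 : act 4 n106382 = n49155 := d10_1 D106382 (iv6 D49155) D49153
def n106383 : Q := act 4 n49154
theorem D106383 : act 4 n49154 = n106383 := rfl
def n106384 : Q := act 6 n49154
theorem D106384 : act 6 n49154 = n106384 := rfl
theorem F163446 : act 0 n52505 = n106384 := d21_4 (iv5 D23736) (iv1 F22673) (iv5 F40291) D52505 (iv6 D106384) (iv5 D49154) (iv1 D23983) (iv5 F37410) (iv6 D23957) (iv1 F36955)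
def n106385 : Q := act 0 n49155
theorem D106385 : act 0 n49155 = n106385 := rfl
theorem F163447 : act 5 n106385 = n52135 := d21_0 (iv1 F82501) F82498 F76719 (iv1 F46012) D60008 (iv5 F163430) (iv1 F163434) (iv5 D49154) D49155 D106385
theorem F163448 : act 2 n106188 = n106385 := d2_3 F163447 (iv2 F161686) (iv5 F163180)
theorem F163449 : act 7 n52656 = n106385 := d13_0 F163447 F161685 (iv5 F83200)
theorem F163450 : act 4 n78952 = n106385 := d17_4 (iv1 D28490) D28491 D60009 (iv5 F161682) F163447 (iv0 D52135) F39978 D25591 (iv4 F114632)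
theorem E16143 : n106189 = n52656 := (c15_2 (iv0 D106188) D106189 F163449 (iv2 F163448))
theorem F163451 : act 0 n52656 = n49070 := (sb E16143 (iv1 D106189))
theorem F163452 : act 1 n49155 = n105376 := d15_1 (iv0 D106385) F163181 F163448
def n106386 : Q := act 5 n49155
theorem D106386 : act 5 n49155 = n106386 := rfl
theorem F163453 : act 0 n105390 = n106386 := d21_1 D105390 (iv5 D106386) (iv6 D49155) (iv1 D23983) (iv6 D11239) (iv5 D5168) (iv1 F7571) D11129 D23763 D48723
def n106387 : Q := act 7 n49155
theorem D106387 : act 7 n49155 = n106387 := rfl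
theorem F163454 : act 6 n106387 = n78962 := d14_1 D106387 F163440 (iv6 D106351) (iv7 F77609) D49155
theorem F163455 : act 0 n106387 = n52656 := d21_10 F83200 (iv1 D52178) F40048 (iv6 D23763) (iv1 F20083) D25543 F40384 D49231 (iv5 F120141) (iv6 F163454)
theorem F163456 : act 1 n106387 = n106188 := d15_1 (iv0 F163455) (iv7 F163181) (iv2 F161677)
theorem E16144 : n106373 = n49070 := (c15_4 (iv0 F163451) (iv0 F163455) (iv7 D106387) (iv2 F163442))
theorem E16145 : n106176 = n49155 := (((iv2 F163175)).symm.trans (sb E16144 F163442))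
theorem E16146 : n49151 = n23938 := ((((iv6 D49070)).symm.trans (sb E16144 (iv6 D106373)))).symm
theorem F163457 : act 2 n49155 = n49070 := (sb E16145 F163175)
theorem E16147 : n49066 = n23983 := ((((iv6 D49155)).symm.trans (sb E16145 (iv6 D106176)))).symm
theorem E16150 : n106358 = n49067 := (((D49067).symm.trans (sb E16146 (iv3 F163424)))).symm
theorem E16151 : n106364 = n49068 := (((D49068).symm.trans (sb E16146 (iv4 F163428)))).symm
theorem E16152 : n106369 = n49069 := (((D49069).symm.trans (sb E16146 (iv5 F163433)))).symm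
theorem E16153 : n49061 = n23982 := ((F77440).symm.trans (sb E16146 (iv7 D49151)))
theorem F163458 : act 2 n23983 = n23938 := (sb E16147 F77441)
theorem E16156 : n106161 = n49152 := (((D49152).symm.trans (sb E16147 (iv3 F163164)))).symm
theorem E16157 : n106167 = n49153 := (((D49153).symm.trans (sb E16147 (iv4 F163168)))).symm
theorem E16158 : n106172 = n49154 := (((D49154).symm.trans (sb E16147 (iv5 F163173)))).symm
theorem E16159 : n49146 = n23937 := ((F77609).symm.trans (sb E16147 (iv7 D49066)))
theorem E16160 : n106151 = n49147 := (((iv7 F163156)).symm.trans (sb E16150 (iv7 D106358)))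
theorem E16161 : n106152 = n49148 := (((iv7 F163158)).symm.trans (sb E16151 (iv7 D106364)))
theorem E16162 : n106153 = n49149 := (((iv7 F163160)).symm.trans (sb E16152 (iv7 D106369)))
theorem F163459 : act 7 n23982 = n23938 := (sb E16153 (iv7 F77440))
theorem E16164 : n106348 = n49062 := (((iv7 F163416)).symm.trans (sb E16156 (iv7 D106161)))
theorem F163460 : act 2 n49153 = n49068 := (sb E16157 F163167)
theorem E16165 : n106349 = n49063 := (((iv7 F163418)).symm.trans (sb E16157 (iv7 D106167)))
theorem F163461 : act 2 n49154 = n49069 := (sb E16158 F163172)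
theorem E16166 : n106350 = n49064 := (((iv7 F163420)).symm.trans (sb E16158 (iv7 D106172)))
theorem F163462 : act 2 n23937 = n23982 := (sb E16159 (iv2 D49146))
theorem E16167 : n106351 = n49065 := (((D49065).symm.trans (sb E16159 D106351))).symm
theorem F163463 : act 7 n23937 = n23983 := (sb E16159 (iv7 F77609))
theorem F163464 : act 7 n49147 = n49067 := (sb E16160 F163156)
theorem F163465 : act 7 n49148 = n49068 := (sb E16161 F163158)
theorem F163466 : act 7 n49149 = n49069 := (sb E16162 F163160)
theorem F163467 : act 7 n49062 = n49152 := (sb E16164 F163416)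
theorem F163468 : act 2 n49063 = n49148 := (sb E16165 F163417)
theorem F163469 : act 7 n49063 = n49153 := (sb E16165 F163418)
theorem F163470 : act 2 n49064 = n49149 := (sb E16166 F163419)
theorem F163471 : act 7 n49064 = n49154 := (sb E16166 F163420)
theorem F163472 : act 2 n49065 = n49150 := (sb E16167 F163421)
theorem E16168 : n106175 = n78962 := ((D106175).symm.trans (sb E16167 (iv7 F163440)))
theorem F163473 : act 7 n78962 = n49065 := (sb E16168 (iv7 D106175))
theorem F163474 : act 7 n49332 = n49231 := d13_2 F163473 F78001 (iv5 F120141)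
theorem F163475 : act 1 n106372 = n106173 := d15_0 (iv0 D106173) (iv7 F163473) (iv2 F163441)
theorem F163476 : act 2 n49231 = n49331 := d15_3 (iv0 D49331) D49332 F163474
theorem F163477 : act 2 n49332 = n49232 := d15_3 F78005 F78006 (iv7 F163474)
theorem F163478 : act 7 n49232 = n49331 := d4_2 (iv7 F163474) F163477 (iv2 F163476)
theorem F163479 : act 5 n49331 = n106372 := d13_1 F163478 (iv7 D106372) F77751
theorem F163480 : act 2 n106363 = n106166 := d1_3 F163166 F163472 (iv4 F163426)
theorem F163481 : act 1 n106174 = n106372 := d15_1 D106174 (iv7 D106372) (iv2 F163472)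
theorem F163482 : act 7 n106378 = n106159 := d8_2 F163471 (iv3 F163443) F163162
theorem F163483 : act 7 n106383 = n106170 := d11_2 F163471 D106383 (iv4 D106170)
theorem F163484 : act 2 n106367 = n106170 := d1_3 (iv4 D106170) F163470 D106367
theorem F163485 : act 2 n106368 = n106171 := d3_3 (iv6 D106171) F163470 D106368
theorem F163486 : act 7 n106380 = n106164 := d8_2 F163469 D106380 (iv3 D106164)
theorem F163487 : act 7 n106381 = n106165 := d13_2 F163469 D106381 (iv5 D106165)
theorem F163488 : act 2 n106362 = n106165 := d2_3 (iv5 D106165) F163468 D106362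
theorem F163489 : act 7 n106376 = n106157 := d4_2 F163467 D106376 (iv2 D106157)
theorem F163490 : act 7 n106377 = n106158 := d11_2 F163467 D106377 (iv4 D106158)
theorem F163491 : act 1 n106376 = n106155 := d15_0 (iv0 D106155) F163467 D106376
theorem F163492 : act 1 n106157 = n106374 := d15_0 (iv0 D106374) (iv7 F163467) D106157
theorem F163494 : act 1 n106375 = n106157 := d15_1 D106375 (iv7 F163489) (iv2 D106376)
theorem F163495 : act 7 n106181 = n106356 := d8_2 F163466 (iv3 F163176) F163422
theorem F163496 : act 7 n106186 = n106367 := d11_2 F163466 D106186 (iv4 D106367)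
theorem F163497 : act 2 n106383 = n106186 := d4_3 F163496 F163484 (iv7 F163483)
theorem F163498 : act 7 n106183 = n106361 := d8_2 F163465 D106183 (iv3 D106361)
theorem F163499 : act 7 n106184 = n106362 := d13_2 F163465 D106184 (iv5 D106362)
theorem F163500 : act 2 n106381 = n106184 := d4_3 F163499 F163488 (iv7 F163487)
theorem F163501 : act 7 n106179 = n106354 := d4_2 F163464 D106179 (iv2 D106354)
theorem F163502 : act 7 n106180 = n106355 := d11_2 F163464 D106180 (iv4 D106355)
theorem F163503 : act 1 n106179 = n106352 := d15_0 (iv0 D106352) F163464 D106179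
theorem F163504 : act 1 n106354 = n106177 := d15_0 (iv0 D106177) (iv7 F163464) D106354
theorem F163505 : act 1 n106353 = n106179 := d15_1 D106353 F163501 (iv2 D106354)
theorem F163506 : act 1 n106178 = n106354 := d15_1 D106178 (iv7 F163501) (iv2 D106179)
theorem F163507 : act 3 n106354 = n106157 := d0_4 (iv3 D49062) F163462 D49147 D106354 (iv2 D106157)
theorem F163508 : act 3 n106376 = n106179 := d8_3 F163501 F163507 (iv7 F163489)
theorem F163509 : act 2 n106187 = n106384 := d3_3 (iv6 D106384) F163461 D106187
theorem F163510 : act 2 n106185 = n106382 := d3_3 (iv6 D106382) F163460 D106185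
theorem F163511 : act 6 n106191 = n106372 := d14_3 F163459 D49070 D106191 (iv7 D106372) (iv6 D49150)
theorem F163512 : act 2 n106387 = n106191 := d3_3 F163511 F163441 (iv6 F163454)
theorem F163513 : act 0 n106191 = n105376 := d21_10 F161606 (iv1 D52136) F39978 (iv6 D12169) (iv1 F12498) D16916 (iv5 F37693) D49331 F163479 (iv6 F163511)
theorem F163514 : act 1 n106191 = n106385 := d15_1 (iv0 F163513) (iv7 F163449) F161677
theorem F163515 : act 2 n106190 = n106386 := d2_3 (iv5 D106386) F163457 D106190
def n106388 : Q := act 3 n49156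
theorem D106388 : act 3 n49156 = n106388 := rfl
theorem F163516 : act 5 n106388 = n62611 := d6_2 (iv5 F77611) D106388 F97638
theorem F163517 : act 7 n106388 = n76290 := d8_2 F77614 D106388 (iv3 D76290)
theorem F163518 : act 2 n106388 = n92814 := d15_3 (iv0 F161706) F161707 (iv7 F163517)
theorem F163519 : act 0 n52729 = n106388 := d17_2 (iv1 D52728) D52729 F163516 F97639 (iv5 F114196) (iv0 F114398) (iv5 D52817) F76762 F83312
def n106389 : Q := act 6 n49156
theorem D106389 : act 6 n49156 = n106389 := rfl
theorem F163520 : act 2 n106389 = n76289 := d3_1 D106389 (iv6 D76289) F77613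
theorem F163521 : act 5 n106389 = n62612 := d12_1 D106389 (iv6 D62612) (iv5 D29606) D29607 (iv5 F77611)
def n106390 : Q := act 3 n49157
theorem D106390 : act 3 n49157 = n106390 := rfl
theorem F163522 : act 5 n106390 = n60450 := d6_2 F77617 D106390 (iv3 D60450)
theorem F163523 : act 7 n106390 = n71894 := d8_2 (iv7 F77616) D106390 (iv3 F108388)
theorem F163524 : act 0 n54859 = n106390 := d17_2 (iv1 F83292) D54859 F163522 F94989 F46293 (iv0 F46297) (iv5 D26549) F42073 (iv4 F83290)
theorem F163525 : act 1 n52710 = n106390 := d17_6 (iv1 F106662) (iv5 F114296) (iv1 F114299) (iv5 D70580) F51827 D52710 F163522 (iv0 F104135) (iv4 D68019)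
def n106391 : Q := act 6 n49157
theorem D106391 : act 6 n49157 = n106391 := rfl
theorem F163526 : act 2 n106391 = n76291 := d3_1 D106391 (iv6 D76291) (iv2 F77618)
theorem F163527 : act 5 n106391 = n69725 := d12_1 D106391 (iv6 D69725) (iv5 D32362) (iv6 F46290) F77617
def n106392 : Q := act 3 n49158
theorem D106392 : act 3 n49158 = n106392 := rfl
def n106393 : Q := act 0 n49159
theorem D106393 : act 0 n49159 = n106393 := rfl
def n106394 : Q := act 1 n49159
theorem D106394 : act 1 n49159 = n106394 := rfl
theorem F163528 : act 1 n106394 = n63984 := d15_1 D106394 (iv7 D63984) (iv2 F77620)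
theorem F163529 : act 5 n106394 = n49548 := d21_0 (iv1 D49548) (iv5 F46619) (iv6 D28993) D28990 D61236 F95697 (iv1 F98733) F97745 (iv6 F99553) (iv1 F163528)
theorem F163530 : act 6 n64149 = n106394 := d21_5 F46612 (iv1 F40783) F40781 D30231 D64149 F163529 (iv1 D49548) (iv5 F46619) (iv6 D28993) D28990
theorem F163531 : act 6 n74256 = n49548 := d21_5 F47503 F23989 (iv5 F26094) D34070 D74256 (iv5 F163529) (iv1 D106394) F77622 (iv6 D34049) F47505
def n106395 : Q := act 7 n49159
theorem D106395 : act 7 n49159 = n106395 := rfl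
theorem F163532 : act 2 n106395 = n63984 := d4_1 D106395 (iv7 D63984) (iv2 F77620)
theorem F163533 : act 3 n106395 = n64624 := d8_1 D106395 (iv7 D64624) (iv3 F77621)
theorem F163534 : act 5 n106395 = n74225 := d13_1 D106395 (iv7 D74225) (iv5 F77622)
theorem F163535 : act 6 n106395 = n64530 := d14_1 D106395 (iv7 D64530) (iv6 D30377) (iv7 F37470) D49159
theorem F163536 : act 1 n63984 = n106393 := d15_0 (iv0 D106393) D106395 F163532
theorem F163537 : act 1 n49564 = n106395 := d15_1 (iv0 F161385) (iv7 D106395) F77620
theorem F163538 : act 1 n106395 = n66500 := d15_1 F163537 F102436 (iv2 F104361)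
theorem E16169 : n66500 = n63982 := (c15_1 F163538 (iv0 D63982) D63984 (iv2 F163532))
theorem F163539 : act 0 n63982 = n106395 := (sb E16169 (iv1 F163538))
theorem F163540 : act 3 n63982 = n31043 := (sb E16169 (iv3 D66500))
theorem F163541 : act 7 n63982 = n31067 := (sb E16169 F102436)
theorem F163542 : act 3 n49558 = n106393 := d20_3 (iv4 F39062) D51213 (iv4 F104345) (iv1 F163536) F99551 (iv4 F99569) (iv1 F99572) (iv4 F161378) (iv3 D51223) (iv1 D24915)
theorem F163543 : act 5 n49547 = n106393 := d21_0 (iv1 F163536) (iv5 F111066) F111067 (iv1 D65429) (iv6 D30679) (iv5 F38483) (iv1 F38484) F19220 D24179 D49547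
theorem F163544 : act 2 n106393 = n63982 := d0_1 F163542 F163540 (iv2 F102435) F104346 D49558
theorem F163545 : act 7 n106393 = n49564 := d8_2 F78315 F163542 (iv3 D49564)
theorem F163546 : act 0 n59675 = n60458 := d20_1 D59675 F95010 (iv3 F77621) D106393 (iv3 F163542) F104345 (iv1 F80809) (iv4 F78477) (iv3 F94061) (iv1 F94064)
theorem F163547 : act 1 n59675 = n64634 := d15_1 (iv0 F163546) (iv7 D64634) (iv2 F95009)
theorem E16170 : n66575 = n63984 := (c15_1 D66575 F163536 F163545 F104361)
theorem E16171 : n106394 = n31067 := (((iv1 F163528)).symm.trans (sb E16170 (iv1 D66575)))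
theorem E16172 : n66574 = n49159 := ((D66574).symm.trans (sb E16171 (iv1 D106394)))
theorem F163548 : act 1 n31067 = n63984 := (sb E16171 F163528)
theorem E16173 : n53596 = n49548 := (((iv5 F84557)).symm.trans (sb E16171 F163529))
theorem E16174 : n66578 = n64149 := ((D66578).symm.trans (sb E16171 (iv6 F163530)))
theorem F163549 : act 1 n49159 = n31067 := (sb E16172 (iv0 D66574))
theorem F163550 : act 3 n49548 = n25952 := (sb E16173 (iv3 D53596))
theorem F163551 : act 5 n49548 = n31067 := (sb E16173 F84557)
theorem F163552 : act 3 n64149 = n31070 := (sb E16174 F102489)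
theorem F163553 : act 6 n64149 = n31067 := (sb E16174 (iv6 D66578))
theorem F163554 : act 7 n64149 = n74464 := (sb E16174 (iv7 F111780))
theorem F163555 : act 3 n51268 = n74256 := d7_3 F163531 F163550 F84549
theorem F163556 : act 7 n74256 = n65101 := d8_2 (iv7 F102480) F163555 (iv3 D65101)
def n106396 : Q := act 0 n49160
theorem D106396 : act 0 n49160 = n106396 := rfl
theorem F163557 : act 3 n106396 = n59689 := d20_5 F45663 (iv1 D23986) D23987 D49160 D106396 (iv4 D59689) (iv1 F102765) (iv4 F45788) F45787 (iv1 F45661)
theorem F163558 : act 7 n59720 = n106396 := d8_0 F163557 F94086 D59720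
def n106397 : Q := act 1 n49160
theorem D106397 : act 1 n49160 = n106397 := rfl
def n106398 : Q := act 2 n49160
theorem D106398 : act 2 n49160 = n106398 := rfl
theorem F163559 : act 4 n106398 = n49183 := d1_2 (iv4 F77623) D106398 (iv2 D49183)
theorem F163560 : act 1 n106398 = n59720 := d15_0 (iv0 F94108) F78345 D106398
def n106399 : Q := act 5 n49160
theorem D106399 : act 5 n49160 = n106399 := rfl
theorem F163561 : act 3 n106399 = n49161 := d6_1 D106399 (iv5 D49161) D49160
def n106400 : Q := act 6 n49161
theorem D106400 : act 6 n49161 = n106400 := rfl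
def n106401 : Q := act 3 n49162
theorem D106401 : act 3 n49162 = n106401 := rfl
theorem F163562 : act 4 n106401 = n74221 := d5_2 D49162 D106401 (iv3 D74221) (iv4 D34048) (iv3 F37476)
theorem F163563 : act 7 n106401 = n49415 := d8_2 (iv7 F77627) D106401 (iv3 D49415)
def n106402 : Q := act 6 n49162
theorem D106402 : act 6 n49162 = n106402 := rfl
theorem F163564 : act 2 n106402 = n49409 := d3_1 D106402 (iv6 D49409) (iv2 F77626)
theorem F163565 : act 4 n106402 = n49163 := d10_1 D106402 (iv6 D49163) D49162
theorem F163566 : act 0 n74731 = n106402 := d18_2 (iv1 F80693) D74731 F163565 F77632 (iv4 F95010) (iv0 F163546) (iv4 D59675) F94064 F94062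
def n106403 : Q := act 1 n49163
theorem D106403 : act 1 n49163 = n106403 := rfl
theorem F163567 : act 1 n106403 = n49412 := d15_1 D106403 (iv7 D49412) (iv2 F77630)
theorem F163568 : act 7 n106403 = n49410 := d15_2 (iv0 F93304) D106403 (iv2 F111337)
theorem F163569 : act 5 n52112 = n106403 := d21_0 (iv1 D106403) F77632 (iv6 D30413) F37484 F19921 (iv5 D5700) (iv1 F10051) D12013 D25301 D52112
theorem F163570 : act 2 n106403 = n49411 := d2_1 F163569 (iv5 F78141) (iv2 F111322)
theorem F163571 : act 3 n106403 = n64104 := d6_1 F163569 (iv5 F111071) (iv3 F111323)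
def n106404 : Q := act 7 n49163
theorem D106404 : act 7 n49163 = n106404 := rfl
theorem F163572 : act 2 n106404 = n49412 := d4_1 D106404 (iv7 D49412) (iv2 F77630)
theorem F163573 : act 3 n106404 = n74225 := d8_1 D106404 (iv7 D74225) (iv3 F77631)
theorem F163574 : act 5 n106404 = n64624 := d13_1 D106404 (iv7 D64624) (iv5 F77632)
theorem F163575 : act 6 n106404 = n49420 := d14_1 D106404 (iv7 D49420) (iv6 D24120) (iv7 F37477) D49163
theorem F163576 : act 1 n49411 = n106404 := d15_1 D49411 (iv7 D106404) F77630
theorem F163577 : act 1 n106404 = n49410 := d15_1 F163576 (iv7 F163568) F163570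
theorem E16175 : n64641 = n59666 := (c18_2 (iv1 F100545) D64641 (iv1 D59666) F45827 (iv5 F26238) (iv4 F53883) D74725 (iv4 F112143) F163576 F163574)
theorem F163578 : act 4 n59666 = n30418 := (sb E16175 (iv4 D64641))
theorem E16176 : n64640 = n53579 := ((c20_5 F53697 (iv1 F41035) F41031 (iv3 F41015) (iv1 F84525) (iv3 D64640) (iv4 F163578) (iv1 D59666) F45827 F22663 D13515)).symm
theorem F163579 : act 3 n53579 = n30418 := (sb E16176 (iv3 D64640))
theorem E16177 : n64642 = n49563 := (c6_3 F95818 F163579 D64642 F104352)
theorem F163580 : act 5 n49563 = n30418 := (sb E16177 (iv5 D64642))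
theorem E16178 : n64643 = n52204 := (c7_3 (iv6 F95819) F163579 D64643 F161366)
theorem F163581 : act 6 n52204 = n30418 := (sb E16178 (iv6 D64643))
theorem E16179 : n64635 = n49561 := (c8_3 (iv7 F102448) F163579 F100552 F104351)
theorem F163582 : act 2 n49561 = n30417 := (sb E16179 (iv2 D64635))
theorem F163583 : act 7 n49561 = n30418 := (sb E16179 (iv7 F100552))
theorem E16180 : n64639 = n49566 := (c15_4 (iv0 F99519) (iv0 F82119) F163583 (iv2 F100554))
theorem F163584 : act 2 n49566 = n30418 := (sb E16180 F100554)
theorem F163585 : act 7 n49566 = n30417 := (sb E16180 (iv7 D64639))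
theorem E16181 : n49558 = n49178 := ((c13_2 F163585 F82456 (iv7 F78315) D49566)).symm
theorem F163586 : act 2 n49178 = n24182 := (sb E16181 (iv2 D49558))
theorem F163587 : act 3 n49178 = n106393 := (sb E16181 F163542)
theorem F163588 : act 4 n49178 = n51213 := (sb E16181 F104345)
theorem F163589 : act 7 n49178 = n24183 := (sb E16181 (iv7 F78315))
theorem E16182 : n49563 = n49179 := (c15_4 F77668 F77672 F163589 (iv2 F78316))
theorem F163590 : act 2 n49179 = n24183 := (sb E16182 F78316)
theorem F163591 : act 3 n49179 = n31044 := (sb E16182 F104352)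
theorem F163592 : act 4 n49179 = n51214 := (sb E16182 F104353)
theorem F163593 : act 5 n49179 = n30418 := (sb E16182 F163580)
theorem F163594 : act 6 n49179 = n74461 := (sb E16182 (iv6 F111769))
theorem F163595 : act 7 n49179 = n24182 := (sb E16182 (iv7 D49563))
theorem F163596 : act 0 n74461 = n49427 := d21_4 F163574 (iv1 F100545) (iv5 F163593) F163594 (iv6 F111467) F111466 (iv1 F99430) (iv5 D49475) F78140 (iv1 F163577)
theorem F163597 : act 0 n49164 = n74461 := d21_4 F37776 (iv1 F48687) F48684 D49164 (iv6 F163594) F163593 (iv1 D30418) (iv5 F37782) (iv6 D24113) D24110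
theorem E16183 : n64637 = n59665 := ((c18_3 (iv1 D28317) (iv4 F45827) D59665 (iv4 D64637) F82456 F163588 (iv0 D51213) F39062 D24915 F80801)).symm
theorem F163598 : act 4 n59665 = n30417 := (sb E16183 (iv4 D64637))
theorem F163599 : act 4 n59674 = n53287 := d20_6 F163588 (iv1 F80809) (iv4 F78477) (iv3 F94061) (iv1 F94064) D59674 (iv1 D53287) F40818 (iv3 F37517) D49178
theorem E16184 : n64636 = n49547 := ((c6_3 F82456 F163587 (iv5 F163543) (iv3 D64636))).symm
theorem F163600 : act 3 n49547 = n30417 := (sb E16184 (iv3 D64636))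
def n106405 : Q := act 1 n49164
theorem D106405 : act 1 n49164 = n106405 := rfl
theorem F163601 : act 1 n106405 = n49427 := d15_1 D106405 (iv7 D49427) (iv2 F77633)
theorem F163602 : act 7 n106405 = n49425 := d15_2 (iv0 F163597) D106405 F111770
theorem F163603 : act 5 n52419 = n106405 := d21_6 (iv5 D11572) F22453 (iv5 F36874) D48635 (iv1 F76490) D52419 (iv1 D106405) F77634 (iv6 F76514) (iv1 D24474)
theorem F163604 : act 2 n106405 = n49426 := d2_1 F163603 (iv5 F161233) F161346
theorem F163605 : act 0 n105223 = n52419 := d21_10 F163603 (iv1 D106405) F77634 (iv6 F76514) (iv1 D24474) D24476 (iv5 F48372) D63800 F99165 D105223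
def n106406 : Q := act 0 n49165
theorem D106406 : act 0 n49165 = n106406 := rfl
def n106407 : Q := act 1 n49165
theorem D106407 : act 1 n49165 = n106407 := rfl
def n106408 : Q := act 2 n49165
theorem D106408 : act 2 n49165 = n106408 := rfl
theorem F163606 : act 3 n106408 = n49441 := d0_2 D49165 D106408 (iv2 D49441) (iv3 D24131) (iv2 F37487)
theorem F163607 : act 6 n106408 = n49183 := d3_2 (iv6 F77635) D106408 (iv2 D49183)
def n106409 : Q := act 5 n49165
theorem D106409 : act 5 n49165 = n106409 := rfl
theorem F163608 : act 3 n106409 = n49166 := d6_1 D106409 (iv5 D49166) D49165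
def n106410 : Q := act 7 n49165
theorem D106410 : act 7 n49165 = n106410 := rfl
theorem F163609 : act 3 n106410 = n49167 := d8_1 D106410 (iv7 D49167) D49165
def n106411 : Q := act 0 n49169
theorem D106411 : act 0 n49169 = n106411 := rfl
theorem F163610 : act 2 n53251 = n106411 := d15_3 (iv0 D106411) F102194 (iv7 F111142)
theorem F163611 : act 3 n106411 = n63959 := d0_2 (iv3 F111140) F163610 F111461 (iv3 D30962) F102109
theorem F163612 : act 7 n106411 = n66285 := d4_2 (iv7 F111142) F163610 (iv2 D66285)
theorem E16185 : n66285 = n53252 := ((c15_2 (iv0 D53251) D53252 (iv7 F163612) (iv2 F163610))).symm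
theorem F163613 : act 2 n53252 = n30967 := (sb E16185 (iv2 D66285))
theorem F163614 : act 7 n53252 = n106411 := (sb E16185 (iv7 F163612))
theorem F163615 : act 1 n53254 = n106411 := d15_1 (iv0 F102195) (iv7 F163614) F163613
def n106412 : Q := act 7 n49169
theorem D106412 : act 7 n49169 = n106412 := rfl
theorem F163616 : act 2 n106412 = n53254 := d4_1 D106412 (iv7 D53254) (iv2 F77646)
theorem F163617 : act 3 n106412 = n49175 := d8_1 D106412 (iv7 D49175) (iv3 F77647)
theorem F163618 : act 4 n106412 = n105616 := d11_1 D106412 (iv7 D105616) (iv4 F77648)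
theorem F163619 : act 5 n106412 = n63416 := d13_1 D106412 F98738 F98330
theorem F163620 : act 6 n106412 = n49549 := d14_1 D106412 (iv7 D49549) (iv6 D24179) (iv7 F37501) D49169
theorem F163621 : act 1 n53252 = n106412 := d15_1 D53252 (iv7 D106412) F77646
theorem F163622 : act 1 n106412 = n53251 := d15_1 F163621 F111142 (iv2 F163613)
theorem F163623 : act 0 n59645 = n105616 := d20_7 D49537 F102056 F37903 F22655 D13508 D28302 D59645 (iv4 F163618) F163617 (iv1 F77661)
theorem F163624 : act 4 n63416 = n62127 := d18_5 F162019 D59645 F163623 (iv4 F163618) F163619 (iv0 D62127) F47131 (iv0 F47054) (iv5 F76815)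
theorem F163625 : act 7 n62127 = n60834 := d11_2 (iv7 F98738) F163624 (iv4 F98329)
def n106413 : Q := act 1 n49170
theorem D106413 : act 1 n49170 = n106413 := rfl
def n106414 : Q := act 2 n49170
theorem D106414 : act 2 n49170 = n106414 := rfl
theorem F163626 : act 3 n106414 = n49524 := d0_2 D49170 D106414 (iv2 D49524) (iv3 D24171) (iv2 F37505)
theorem F163627 : act 4 n106414 = n105611 := d1_2 (iv4 F77649) D106414 (iv2 D105611)
theorem F163628 : act 5 n106414 = n52002 := d2_2 (iv5 F77650) D106414 (iv2 D52002)
theorem F163629 : act 7 n106414 = n49552 := d4_2 (iv7 F77651) D106414 (iv2 D49552)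
theorem F163630 : act 1 n106414 = n49550 := d15_0 (iv0 D49550) (iv7 F77651) D106414
theorem F163631 : act 1 n106413 = n49552 := d15_1 D106413 (iv7 F163629) (iv2 D106414)
theorem F163632 : act 2 n49550 = n106413 := d15_3 F163631 F102877 F102875
theorem F163633 : act 7 n49551 = n106413 := d15_2 (iv0 D49550) D49551 (iv2 F163632)
theorem F163634 : act 2 n66917 = n49551 := d4_3 F163633 (iv2 F163632) (iv7 F102875)
theorem F163635 : act 1 n49551 = n106414 := d15_0 F163630 (iv7 F102875) F163634
def n106415 : Q := act 6 n49170
theorem D106415 : act 6 n49170 = n106415 := rfl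
theorem F163636 : act 3 n106415 = n49171 := d7_1 D106415 (iv6 D49171) D49170
theorem F163637 : act 4 n106415 = n105613 := d10_1 D106415 (iv6 D105613) (iv4 F77649)
def n106416 : Q := act 5 n49171
theorem D106416 : act 5 n49171 = n106416 := rfl
theorem F163638 : act 2 n106416 = n49528 := d2_1 D106416 (iv5 D49528) (iv2 F77652)
theorem F163639 : act 6 n106416 = n52006 := d12_2 D49171 D106416 (iv5 D52006) (iv6 D25241) (iv5 F37507)
def n106417 : Q := act 7 n49171
theorem D106417 : act 7 n49171 = n106417 := rfl
theorem F163640 : act 2 n106417 = n49529 := d4_1 D106417 (iv7 D49529) (iv2 F77652)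
theorem F163641 : act 4 n106417 = n49175 := d11_1 D106417 (iv7 D49175) (iv4 F77653)
theorem F163642 : act 6 n106417 = n49557 := d14_1 D106417 (iv7 D49557) (iv6 D24181) (iv7 F37506) D49171
theorem F163643 : act 1 n49527 = n106417 := d15_1 D49527 (iv7 D106417) F77652
theorem F163644 : act 1 n106417 = n49526 := d15_1 F163643 F103597 (iv2 F103600)
theorem F163645 : act 4 n53252 = n105581 := d20_0 (iv1 D105581) F76896 (iv3 F76889) (iv1 F103594) (iv3 D51201) (iv4 F103596) (iv1 F163644) F163641 (iv3 F163617) (iv1 F163621)
theorem F163646 : act 2 n105581 = n66286 := d1_1 F163645 (iv4 D66286) (iv2 F163613)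
def n106418 : Q := act 5 n49172
theorem D106418 : act 5 n49172 = n106418 := rfl
theorem F163647 : act 2 n106418 = n49533 := d2_1 D106418 (iv5 D49533) (iv2 F102098)
theorem F163648 : act 3 n106418 = n53518 := d6_1 D106418 (iv5 D53518) (iv3 F95185)
theorem F163649 : act 6 n106418 = n66272 := d12_2 F111174 D106418 (iv5 D66272) (iv6 F111171) F111169
theorem F163650 : act 7 n106418 = n49538 := d13_2 (iv7 F102099) D106418 (iv5 D49538)
def n106419 : Q := act 5 n49173
theorem D106419 : act 5 n49173 = n106419 := rfl
theorem F163651 : act 2 n106419 = n49538 := d2_1 D106419 (iv5 D49538) (iv2 F102167)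
theorem F163652 : act 3 n106419 = n64549 := d6_1 D106419 (iv5 D64549) (iv3 F102171)
theorem F163653 : act 7 n106419 = n49533 := d13_2 (iv7 F102168) D106419 (iv5 D49533)
theorem F163654 : act 6 n106419 = n49349 := d21_3 F78298 (iv1 F77654) D106419 (iv1 F78038) (iv6 D49357) F37723 (iv1 F22518) D13714 D28760 (iv1 F99522)
def n106420 : Q := act 6 n49173
theorem D106420 : act 6 n49173 = n106420 := rfl
theorem F163655 : act 2 n106420 = n49539 := d3_1 D106420 (iv6 D49539) (iv2 F102167)
theorem F163656 : act 3 n106420 = n64550 := d7_1 D106420 (iv6 D64550) (iv3 F102171)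
def n106421 : Q := act 1 n49174
theorem D106421 : act 1 n49174 = n106421 := rfl
theorem F163657 : act 1 n106421 = n49542 := d15_1 D106421 (iv7 D49542) (iv2 F77655)
theorem F163658 : act 7 n106421 = n49352 := d15_2 (iv0 F77657) D106421 F78020
theorem F163659 : act 6 n60516 = n106421 := d21_3 (iv5 F161077) (iv1 F161087) (iv5 F95133) (iv1 D106421) F77656 F37622 (iv1 D12076) F18454 D24080 D49339
theorem F163660 : act 5 n52010 = n106421 := d21_6 F7801 F9991 D5653 D11983 D25242 D52010 (iv1 D106421) (iv5 D49174) (iv6 D23995) (iv1 F18295)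
theorem F163661 : act 2 n106421 = n49540 := d2_1 F163660 (iv5 F78295) (iv2 F82161)
theorem F163662 : act 3 n64551 = n106421 := d0_0 F163661 F95958 (iv2 F95954) (iv3 F98340) F100498
def n106422 : Q := act 7 n49174
theorem D106422 : act 7 n49174 = n106422 := rfl
theorem F163663 : act 2 n106422 = n49542 := d4_1 D106422 (iv7 D49542) (iv2 F77655)
theorem F163664 : act 3 n106422 = n63416 := d8_1 D106422 F98738 F98328
theorem F163665 : act 5 n106422 = n49175 := d13_1 D106422 (iv7 D49175) D49174
theorem F163666 : act 6 n106422 = n62606 := d14_1 D106422 (iv7 D62606) F47525 (iv7 F37621) (iv6 F77656)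
theorem F163667 : act 1 n49540 = n106422 := d15_1 D49540 (iv7 D106422) F77655
theorem F163668 : act 1 n106422 = n49352 := d15_1 F163667 (iv7 F163658) F163661
theorem F163669 : act 4 n60568 = n106422 := d18_3 F39060 (iv4 F46403) D60568 F163665 (iv4 F163641) F163644 F103596 (iv0 D24909) D24911
theorem F163670 : act 7 n61858 = n60568 := d11_0 F163669 (iv7 D106422) (iv4 F96432)
def n106423 : Q := act 0 n49176
theorem D106423 : act 0 n49176 = n106423 := rfl
theorem F163671 : act 1 n49524 = n106423 := d15_0 (iv0 D106423) F77665 D49524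
def n106424 : Q := act 1 n49176
theorem D106424 : act 1 n49176 = n106424 := rfl
def n106425 : Q := act 2 n49176
theorem D106425 : act 2 n49176 = n106425 := rfl
theorem F163672 : act 3 n106425 = n49552 := d0_2 D49176 D106425 (iv2 D49552) (iv3 D24180) (iv2 F37511)
theorem F163673 : act 4 n106425 = n53282 := d1_2 (iv4 F77663) D106425 (iv2 D53282)
theorem F163674 : act 5 n106425 = n59118 := d2_2 (iv5 F77664) D106425 (iv2 D59118)
theorem F163675 : act 7 n106425 = n49524 := d4_2 (iv7 F77665) D106425 (iv2 D49524)
theorem F163676 : act 1 n106425 = n49522 := d15_0 (iv0 D49522) (iv7 F77665) D106425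
theorem F163677 : act 1 n106424 = n49524 := d15_1 D106424 (iv7 F163675) (iv2 D106425)
theorem F163678 : act 1 n49523 = n106425 := d15_1 D49523 F163675 (iv2 D49524)
def n106426 : Q := act 6 n49176
theorem D106426 : act 6 n49176 = n106426 := rfl
theorem F163679 : act 3 n106426 = n49177 := d7_1 D106426 (iv6 D49177) D49176
theorem F163680 : act 4 n106426 = n53284 := d10_1 D106426 (iv6 D53284) (iv4 F77663)
def n106427 : Q := act 0 n49177
theorem D106427 : act 0 n49177 = n106427 := rfl
def n106428 : Q := act 1 n49177
theorem D106428 : act 1 n49177 = n106428 := rfl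
theorem F163681 : act 1 n106428 = n49557 := d15_1 D106428 (iv7 D49557) (iv2 F77666)
theorem F163682 : act 4 n49676 = n106428 := d20_0 (iv1 D106428) F77667 F37517 D25834 (iv3 F161284) D25966 F53802 (iv4 F37147) (iv3 F39063) (iv1 F78475)
def n106429 : Q := act 5 n49177
theorem D106429 : act 5 n49177 = n106429 := rfl
theorem F163683 : act 2 n106429 = n49556 := d2_1 D106429 (iv5 D49556) (iv2 F77666)
theorem F163684 : act 6 n106429 = n59122 := d12_2 D49177 D106429 (iv5 D59122) (iv6 D28085) (iv5 F37512)
def n106430 : Q := act 7 n49177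
theorem D106430 : act 7 n49177 = n106430 := rfl
theorem F163685 : act 2 n106430 = n49557 := d4_1 D106430 (iv7 D49557) (iv2 F77666)
theorem F163686 : act 4 n106430 = n49180 := d11_1 D106430 (iv7 D49180) (iv4 F77667)
theorem F163687 : act 6 n106430 = n49529 := d14_1 D106430 (iv7 D49529) (iv6 D24172) (iv7 F37513) D49177
theorem F163688 : act 1 n49557 = n106427 := d15_0 (iv0 D106427) D106430 F163685
theorem F163689 : act 1 n49555 = n106430 := d15_1 D49555 (iv7 D106430) F77666
theorem E16186 : n51224 = n49555 := (c18_6 F82119 (iv4 F100551) (iv1 F163547) (iv4 D59675) (iv5 F80801) D51224 F163689 F163686 F77674 D49561)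
theorem F163690 : act 4 n49555 = n24915 := (sb E16186 (iv4 D51224))
theorem F163691 : act 4 n49960 = n61265 := d18_1 (iv1 F82338) (iv1 D61265) F46637 F23054 (iv4 F37900) D49555 F163690 F78480 (iv5 F82335)
theorem F163692 : act 0 n51219 = n106430 := d20_1 D51219 F163686 F77670 F161276 (iv3 D14711) D14712 F53797 (iv4 F18122) (iv3 F19210) D24914
theorem E16187 : n51219 = n49554 := (c15_1 (iv0 F163692) (iv0 D49554) D49557 (iv2 F163685))
theorem F163693 : act 0 n49554 = n106430 := (sb E16187 F163692)
theorem F163694 : act 4 n49554 = n24914 := (sb E16187 (iv4 D51219))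
theorem F163695 : act 1 n59671 = n60458 := d18_6 (iv1 D24183) (iv4 F37900) D49554 F163694 (iv5 F82339) D59671 F95010 F99521 (iv5 D49566)
def n106431 : Q := act 6 n49178
theorem D106431 : act 6 n49178 = n106431 := rfl
theorem F163696 : act 2 n106431 = n49562 := d3_1 D106431 (iv6 D49562) (iv2 F163586)
theorem F163697 : act 5 n106431 = n49510 := d21_6 (iv5 F19767) F19768 F18298 D23997 D49178 D106431 (iv1 D49510) (iv5 D24166) (iv6 D11350) (iv1 F18512)
theorem F163698 : act 0 n106431 = n49619 := d21_10 F79670 (iv1 D50288) F39783 F39785 (iv1 D24111) D24113 F37782 D30417 F82456 D106431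
def n106432 : Q := act 2 n49181
theorem D106432 : act 2 n49181 = n106432 := rfl
theorem F163699 : act 7 n49182 = n106432 := d15_2 (iv0 D49181) D49182 (iv2 D106432)
def n106433 : Q := act 3 n49181
theorem D106433 : act 3 n49181 = n106433 := rfl
def n106434 : Q := act 4 n49181
theorem D106434 : act 4 n49181 = n106434 := rfl
def n106435 : Q := act 5 n49181
theorem D106435 : act 5 n49181 = n106435 := rfl
def n106436 : Q := act 6 n49181
theorem D106436 : act 6 n49181 = n106436 := rfl
def n106437 : Q := act 7 n49181
theorem D106437 : act 7 n49181 = n106437 := rfl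
theorem F163700 : act 2 n106437 = n49182 := d4_1 D106437 F163699 (iv2 D106432)
def n106438 : Q := act 3 n49182
theorem D106438 : act 3 n49182 = n106438 := rfl
def n106439 : Q := act 4 n49182
theorem D106439 : act 4 n49182 = n106439 := rfl
def n106440 : Q := act 5 n49182
theorem D106440 : act 5 n49182 = n106440 := rfl
def n106441 : Q := act 6 n49182
theorem D106441 : act 6 n49182 = n106441 := rfl
def n106442 : Q := act 2 n49184
theorem D106442 : act 2 n49184 = n106442 := rfl
theorem F163701 : act 7 n49185 = n106442 := d15_2 (iv0 D49184) D49185 (iv2 D106442)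
def n106443 : Q := act 3 n49184
theorem D106443 : act 3 n49184 = n106443 := rfl
def n106444 : Q := act 4 n49184
theorem D106444 : act 4 n49184 = n106444 := rfl
def n106445 : Q := act 5 n49184
theorem D106445 : act 5 n49184 = n106445 := rfl
theorem F163702 : act 0 n59133 = n106445 := d21_10 (iv5 D106445) (iv1 F77676) F37815 (iv6 D24134) (iv1 F26101) D34079 F53493 F93306 (iv5 D59132) D59133
def n106446 : Q := act 6 n49184
theorem D106446 : act 6 n49184 = n106446 := rfl
theorem F163703 : act 5 n106446 = n49359 := d21_6 (iv5 D5236) (iv1 F7743) (iv5 F18302) D23999 D49184 D106446 (iv1 D49359) (iv5 F37850) (iv6 D24143) (iv1 D11338)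
def n106447 : Q := act 7 n49184
theorem D106447 : act 7 n49184 = n106447 := rfl
theorem F163704 : act 2 n106447 = n49185 := d4_1 D106447 F163701 (iv2 D106442)
def n106448 : Q := act 3 n49185
theorem D106448 : act 3 n49185 = n106448 := rfl
def n106449 : Q := act 4 n49185
theorem D106449 : act 4 n49185 = n106449 := rfl
def n106450 : Q := act 5 n49185
theorem D106450 : act 5 n49185 = n106450 := rfl
theorem F163705 : act 6 n106450 = n51997 := d21_3 F37815 (iv1 F77677) D106450 (iv1 F82129) (iv6 F82122) F82121 (iv1 F78039) (iv5 F163703) (iv6 D106446) (iv1 F77676)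
def n106451 : Q := act 6 n49185
theorem D106451 : act 6 n49185 = n106451 := rfl
theorem F163706 : act 5 n106451 = n105170 := d21_6 (iv5 D23988) (iv1 F18289) (iv5 F18501) D24134 (iv1 F77677) D106451 (iv1 D105170) F76478 (iv6 F53445) (iv1 F53442)
theorem F163707 : act 0 n49562 = n106451 := d21_10 F163706 (iv1 D105170) F76478 (iv6 F53445) (iv1 F53442) D49163 F77632 F82462 (iv5 D49561) D49562
def n106452 : Q := act 3 n49186
theorem D106452 : act 3 n49186 = n106452 := rfl
theorem F163708 : act 4 n106452 = n61304 := d5_2 D49186 D106452 (iv3 D61304) (iv4 D29023) F37522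
theorem F163709 : act 7 n106452 = n61853 := d8_2 (iv7 F77679) D106452 (iv3 D61853)
def n106453 : Q := act 0 n49187
theorem D106453 : act 0 n49187 = n106453 := rfl
def n106454 : Q := act 1 n49187
theorem D106454 : act 1 n49187 = n106454 := rfl
def n106455 : Q := act 2 n49187
theorem D106455 : act 2 n49187 = n106455 := rfl
def n106456 : Q := act 6 n49187
theorem D106456 : act 6 n49187 = n106456 := rfl
theorem F163710 : act 3 n106456 = n49188 := d7_1 D106456 (iv6 D49188) D49187
def n106457 : Q := act 0 n49188
theorem D106457 : act 0 n49188 = n106457 := rfl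
def n106458 : Q := act 1 n49188
theorem D106458 : act 1 n49188 = n106458 := rfl
def n106459 : Q := act 5 n49188
theorem D106459 : act 5 n49188 = n106459 := rfl
def n106460 : Q := act 7 n49188
theorem D106460 : act 7 n49188 = n106460 := rfl
theorem F163711 : act 4 n106460 = n49191 := d11_1 D106460 (iv7 D49191) (iv4 F77682)
def n106461 : Q := act 2 n49189
theorem D106461 : act 2 n49189 = n106461 := rfl
theorem F163712 : act 7 n49190 = n106461 := d15_2 (iv0 D49189) D49190 (iv2 D106461)
def n106462 : Q := act 3 n49189
theorem D106462 : act 3 n49189 = n106462 := rfl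
def n106463 : Q := act 4 n49189
theorem D106463 : act 4 n49189 = n106463 := rfl
def n106464 : Q := act 7 n49189
theorem D106464 : act 7 n49189 = n106464 := rfl
def n106465 : Q := act 3 n49190
theorem D106465 : act 3 n49190 = n106465 := rfl
def n106466 : Q := act 4 n49190
theorem D106466 : act 4 n49190 = n106466 := rfl
def n106467 : Q := act 6 n49190
theorem D106467 : act 6 n49190 = n106467 := rfl
def n106468 : Q := act 6 n49193
theorem D106468 : act 6 n49193 = n106468 := rfl
theorem F163714 : act 3 n106468 = n49652 := d7_1 D106468 (iv6 D49652) (iv3 F77686)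
theorem F163715 : act 5 n106468 = n49652 := d12_1 D106468 (iv6 D49652) (iv5 D24213) (iv6 F37527) D49193
def n106469 : Q := act 6 n49194
theorem D106469 : act 6 n49194 = n106469 := rfl
theorem F163716 : act 2 n106469 = n62736 := d3_1 D106469 F97863 (iv2 F77689)
theorem F163717 : act 3 n106469 = n71482 := d7_1 D106469 (iv6 D71482) (iv3 F77690)
theorem F163718 : act 5 n106469 = n50880 := d12_1 D106469 (iv6 D50880) (iv5 D24744) F37534 D49194
def n106470 : Q := act 0 n49195
theorem D106470 : act 0 n49195 = n106470 := rfl
def n106471 : Q := act 1 n49195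
theorem D106471 : act 1 n49195 = n106471 := rfl
def n106472 : Q := act 7 n49195
theorem D106472 : act 7 n49195 = n106472 := rfl
def n106473 : Q := act 0 n49196
theorem D106473 : act 0 n49196 = n106473 := rfl
def n106474 : Q := act 1 n49196
theorem D106474 : act 1 n49196 = n106474 := rfl
def n106475 : Q := act 2 n49196
theorem D106475 : act 2 n49196 = n106475 := rfl
def n106476 : Q := act 6 n49196
theorem D106476 : act 6 n49196 = n106476 := rfl
theorem F163719 : act 3 n106476 = n49197 := d7_1 D106476 (iv6 D49197) D49196
def n106477 : Q := act 5 n49197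
theorem D106477 : act 5 n49197 = n106477 := rfl
def n106478 : Q := act 7 n49197
theorem D106478 : act 7 n49197 = n106478 := rfl
theorem F163720 : act 4 n106478 = n49200 := d11_1 D106478 (iv7 D49200) (iv4 F77693)
theorem F163721 : act 1 n60525 = n106478 := d15_1 (iv0 F95145) (iv7 D106478) (iv2 F77900)
def n106479 : Q := act 4 n49198
theorem D106479 : act 4 n49198 = n106479 := rfl
theorem F163722 : act 7 n106479 = n61890 := d11_2 (iv7 F77913) D106479 F96475
theorem F163723 : act 0 n106479 = n61892 := d20_1 D106479 F96476 (iv3 F96467) (iv1 F96468) (iv3 F96391) (iv4 F98317) F98594 F98593 F48080 D49198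
theorem F163724 : act 0 n49247 = n106479 := d20_1 (iv4 F77797) (iv4 D106479) F83880 (iv1 F83881) F47589 (iv4 F47601) (iv1 F47603) F46467 (iv3 F46377) F46379
theorem F163725 : act 2 n106479 = n61889 := d15_3 (iv0 D61889) D61890 (iv7 F163722)
theorem F163726 : act 4 n61889 = n49290 := d1_2 D106479 F163725 F77912
theorem F163727 : act 7 n61889 = n60531 := d4_2 (iv7 F163722) F163725 (iv2 F96474)
def n106480 : Q := act 6 n49198
theorem D106480 : act 6 n49198 = n106480 := rfl
theorem F163728 : act 3 n106480 = n61422 := d7_1 D106480 F95922 (iv3 F83880)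
theorem F163729 : act 5 n106480 = n51995 := d12_1 D106480 (iv6 F82118) F78143 (iv6 F99518) F99517
theorem F163730 : act 7 n106480 = n61416 := d14_2 (iv7 F77913) D106480 (iv6 D61416) F46714 F77903
def n106481 : Q := act 4 n49201
theorem D106481 : act 4 n49201 = n106481 := rfl
theorem F163731 : act 7 n106481 = n105415 := d11_2 (iv7 F77696) D106481 (iv4 D105415)
def n106482 : Q := act 6 n49201
theorem D106482 : act 6 n49201 = n106482 := rfl
theorem F163732 : act 3 n106482 = n49202 := d7_1 D106482 (iv6 D49202) (iv3 F77695)
theorem F163733 : act 5 n106482 = n74017 := d12_1 D106482 (iv6 D74017) (iv5 D33969) (iv6 F37540) D49201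
def n106483 : Q := act 0 n49202
theorem D106483 : act 0 n49202 = n106483 := rfl
def n106484 : Q := act 1 n49202
theorem D106484 : act 1 n49202 = n106484 := rfl
def n106485 : Q := act 7 n49202
theorem D106485 : act 7 n49202 = n106485 := rfl
def n106486 : Q := act 4 n49206
theorem D106486 : act 4 n49206 = n106486 := rfl
theorem F163734 : act 2 n106486 = n94269 := d1_1 D106486 (iv4 D94269) (iv2 F82964)
theorem F163735 : act 7 n106486 = n94271 := d11_2 F82967 D106486 (iv4 D94271)
def n106487 : Q := act 6 n49206
theorem D106487 : act 6 n49206 = n106487 := rfl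
theorem F163736 : act 2 n106487 = n94270 := d3_1 D106487 (iv6 D94270) (iv2 F82964)
theorem F163737 : act 3 n106487 = n49208 := d7_1 D106487 (iv6 D49208) (iv3 F77699)
theorem F163738 : act 5 n106487 = n52594 := d12_1 D106487 (iv6 D52594) F40358 (iv6 F37544) D49206
def n106488 : Q := act 0 n49208
theorem D106488 : act 0 n49208 = n106488 := rfl
def n106489 : Q := act 1 n49208
theorem D106489 : act 1 n49208 = n106489 := rfl
def n106490 : Q := act 7 n49208
theorem D106490 : act 7 n49208 = n106490 := rfl
theorem F163739 : act 5 n106490 = n52597 := d13_1 D106490 (iv7 D52597) (iv5 F77704)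
def n106491 : Q := act 4 n49209
theorem D106491 : act 4 n49209 = n106491 := rfl
theorem F163740 : act 7 n106491 = n74833 := d11_2 (iv7 F77706) D106491 (iv4 D74833)
def n106492 : Q := act 6 n49209
theorem D106492 : act 6 n49209 = n106492 := rfl
theorem F163741 : act 3 n106492 = n49211 := d7_1 D106492 (iv6 D49211) (iv3 F77705)
def n106493 : Q := act 0 n49211
theorem D106493 : act 0 n49211 = n106493 := rfl
def n106494 : Q := act 1 n49211
theorem D106494 : act 1 n49211 = n106494 := rfl
def n106495 : Q := act 5 n49211
theorem D106495 : act 5 n49211 = n106495 := rfl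
theorem F163742 : act 2 n106495 = n71280 := d2_1 D106495 F107776 F77933
theorem F163743 : act 6 n106495 = n49212 := d12_2 D49211 D106495 (iv5 D49212) (iv6 D24017) D24016
def n106496 : Q := act 7 n49211
theorem D106496 : act 7 n49211 = n106496 := rfl
def n106497 : Q := act 4 n49212
theorem D106497 : act 4 n49212 = n106497 := rfl
theorem F163744 : act 2 n106497 = n71279 := d1_1 D106497 (iv4 D71279) (iv2 F77715)
theorem F163745 : act 5 n106497 = n71279 := d9_2 D49212 D106497 (iv4 D71279) F52165 F37661 F18429 (iv4 F37340) D49042 D106097 F163118 (iv4 D59808) (iv5 D28362) F22680 (iv5 F18350) (iv4 F37547)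
theorem F163746 : act 7 n106497 = n59808 := d11_2 (iv7 F77716) D106497 (iv4 D59808)
theorem F163747 : act 0 n106497 = n60017 := d17_0 F94498 (iv1 F83516) (iv5 D52865) (iv4 D25656) (iv5 D12191) (iv0 F20181) D25623 (iv0 F77717) D106497
theorem F163748 : act 1 n106497 = n60015 := d18_6 D25460 F40250 F27335 (iv4 F37547) D49212 D106497 (iv4 D60015) F46026 (iv5 D25462)
def n106498 : Q := act 4 n49213
theorem D106498 : act 4 n49213 = n106498 := rfl
theorem F163749 : act 7 n106498 = n74851 := d11_2 (iv7 F77720) D106498 (iv4 D74851)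
theorem F163750 : act 0 n106498 = n62729 := d18_2 F86718 D106498 (iv4 D62729) (iv5 D29670) F23551 (iv0 F26675) (iv4 F37984) F42437 D54805
def n106499 : Q := act 6 n49213
theorem D106499 : act 6 n49213 = n106499 := rfl
theorem F163751 : act 3 n106499 = n49216 := d7_1 D106499 (iv6 D49216) (iv3 F77719)
theorem F163752 : act 5 n106499 = n59831 := d12_1 D106499 (iv6 D59831) (iv5 D28387) (iv6 F37551) D49213
def n106500 : Q := act 3 n49214
theorem D106500 : act 3 n49214 = n106500 := rfl
theorem F163753 : act 2 n106500 = n52164 := d0_1 D106500 F82476 F40029 (iv3 F77686) F77723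
theorem F163754 : act 5 n106500 = n49286 := d6_2 (iv5 F77721) D106500 (iv3 D49286)
theorem F163755 : act 7 n106500 = n106292 := d8_2 F77724 D106500 F163357
def n106501 : Q := act 6 n49214
theorem D106501 : act 6 n49214 = n106501 := rfl
theorem F163756 : act 2 n106501 = n106468 := d3_1 D106501 (iv6 D106468) F77723
theorem F163757 : act 5 n106501 = n52165 := d12_1 D106501 (iv6 D52165) (iv5 D25334) (iv6 F37635) (iv5 F77721)
def n106502 : Q := act 0 n49216
theorem D106502 : act 0 n49216 = n106502 := rfl
def n106503 : Q := act 1 n49216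
theorem D106503 : act 1 n49216 = n106503 := rfl
def n106504 : Q := act 7 n49216
theorem D106504 : act 7 n49216 = n106504 := rfl
theorem F163758 : act 5 n106504 = n59836 := d13_1 D106504 (iv7 D59836) (iv5 F77730)
def n106505 : Q := act 5 n49217
theorem D106505 : act 5 n49217 = n106505 := rfl
theorem F163759 : act 3 n106505 = n52126 := d6_1 D106505 F94244 F82807
theorem F163760 : act 7 n106505 = n105370 := d13_2 (iv7 F77731) D106505 (iv5 D105370)
theorem F163761 : act 0 n106505 = n49227 := d21_1 D106505 F77749 (iv6 F55039) D76234 (iv6 F114226) D90495 F139274 (iv5 D52487) (iv6 F77940) (iv1 F77943)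
theorem F163762 : act 0 n54792 = n106505 := d21_1 D54792 (iv5 D106505) F82806 F82804 F51391 D61277 F108148 (iv5 D71653) F80511 (iv1 F80509)
def n106506 : Q := act 5 n49218
theorem D106506 : act 5 n49218 = n106506 := rfl
theorem F163763 : act 2 n106506 = n49219 := d2_1 D106506 (iv5 D49219) D49218
theorem F163764 : act 3 n106506 = n61396 := d6_1 D106506 (iv5 D61396) (iv3 F77732)
theorem F163765 : act 0 n106506 = n90426 := d21_1 D106506 (iv5 D90426) (iv6 D42283) (iv1 D19957) D19958 D42286 D90429 F139183 (iv6 F114691) (iv1 F77936)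
def n106507 : Q := act 1 n49219
theorem D106507 : act 1 n49219 = n106507 := rfl
theorem F163766 : act 7 n106507 = n90426 := d15_2 F136657 D106507 F139173
theorem F163767 : act 5 n106507 = n49682 := d17_7 (iv1 F68998) (iv5 F144703) (iv1 F144704) F82966 F37656 D49219 D106507 F78488 (iv4 D44067)
def n106508 : Q := act 4 n49219
theorem D106508 : act 4 n49219 = n106508 := rfl
theorem F163768 : act 7 n106508 = n93884 := d11_2 F77945 D106508 F144717
theorem F163769 : act 0 n106508 = n93796 := d18_2 (iv1 D106507) D106508 (iv4 D93796) (iv5 D43843) F32919 D20934 F65509 D49682 (iv5 F163767)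
theorem F163770 : act 1 n106508 = n93888 := d18_6 D61281 F95753 (iv1 D49297) F37656 D49219 D106508 F144719 (iv0 F143174) (iv5 D61284)
def n106509 : Q := act 6 n49219
theorem D106509 : act 6 n49219 = n106509 := rfl
theorem F163771 : act 3 n106509 = n49221 := d7_1 D106509 (iv6 D49221) (iv3 F77734)
def n106510 : Q := act 5 n49220
theorem D106510 : act 5 n49220 = n106510 := rfl
theorem F163772 : act 2 n106510 = n90591 := d2_1 D106510 (iv5 D90591) F82986
theorem F163773 : act 3 n106510 = n49222 := d6_1 D106510 (iv5 D49222) (iv3 F77735)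
theorem F163774 : act 7 n106510 = n90595 := d13_2 F82981 D106510 (iv5 D90595)
def n106511 : Q := act 0 n49221
theorem D106511 : act 0 n49221 = n106511 := rfl
def n106512 : Q := act 1 n49221
theorem D106512 : act 1 n49221 = n106512 := rfl
def n106513 : Q := act 5 n49221
theorem D106513 : act 5 n49221 = n106513 := rfl
theorem F163775 : act 6 n106513 = n49222 := d12_2 D49221 D106513 (iv5 D49222) (iv6 D24022) D24021
def n106514 : Q := act 7 n49221
theorem D106514 : act 7 n49221 = n106514 := rfl
def n106515 : Q := act 3 n49223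
theorem D106515 : act 3 n49223 = n106515 := rfl
theorem F163776 : act 4 n106515 = n49229 := d5_2 D49223 D106515 (iv3 D49229) (iv4 D24026) (iv3 F37555)
theorem F163777 : act 5 n106515 = n52086 := d6_2 (iv5 F77742) D106515 (iv3 D52086)
def n106516 : Q := act 6 n49223
theorem D106516 : act 6 n49223 = n106516 := rfl
theorem F163778 : act 4 n106516 = n49224 := d10_1 D106516 (iv6 D49224) D49223
def n106517 : Q := act 0 n49224
theorem D106517 : act 0 n49224 = n106517 := rfl
def n106518 : Q := act 1 n49224
theorem D106518 : act 1 n49224 = n106518 := rfl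
def n106519 : Q := act 7 n49224
theorem D106519 : act 7 n49224 = n106519 := rfl
theorem F163779 : act 3 n106519 = n49233 := d8_1 D106519 (iv7 D49233) (iv3 F77745)
def n106520 : Q := act 4 n49225
theorem D106520 : act 4 n49225 = n106520 := rfl
theorem F163780 : act 2 n106520 = n54808 := d1_1 D106520 (iv4 D54808) F77747
theorem F163781 : act 0 n106520 = n61290 := d18_2 F83166 D106520 (iv4 D61290) (iv5 D29017) F23069 (iv0 F26718) (iv4 F37550) F50517 D52637
def n106521 : Q := act 6 n49225
theorem D106521 : act 6 n49225 = n106521 := rfl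
theorem F163782 : act 2 n106521 = n54802 := d3_1 D106521 F86715 F77747
theorem F163783 : act 3 n106521 = n49226 := d7_1 D106521 (iv6 D49226) D49225
theorem F163784 : act 5 n106521 = n54764 := d12_1 D106521 (iv6 D54764) (iv5 D26482) (iv6 F38059) (iv5 F77746)
def n106522 : Q := act 0 n49226
theorem D106522 : act 0 n49226 = n106522 := rfl
def n106523 : Q := act 1 n49226
theorem D106523 : act 1 n49226 = n106523 := rfl
def n106524 : Q := act 7 n49226
theorem D106524 : act 7 n49226 = n106524 := rfl
theorem F163785 : act 5 n106524 = n106129 := d13_1 D106524 (iv7 D106129) (iv5 F77748)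
def n106525 : Q := act 4 n49227
theorem D106525 : act 4 n49227 = n106525 := rfl
def n106526 : Q := act 6 n49227
theorem D106526 : act 6 n49227 = n106526 := rfl
theorem F163786 : act 3 n106526 = n49228 := d7_1 D106526 (iv6 D49228) D49227
def n106527 : Q := act 0 n49228
theorem D106527 : act 0 n49228 = n106527 := rfl
def n106528 : Q := act 1 n49228
theorem D106528 : act 1 n49228 = n106528 := rfl
def n106529 : Q := act 7 n49228
theorem D106529 : act 7 n49228 = n106529 := rfl
def n106530 : Q := act 0 n49229
theorem D106530 : act 0 n49229 = n106530 := rfl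
def n106531 : Q := act 1 n49229
theorem D106531 : act 1 n49229 = n106531 := rfl
def n106532 : Q := act 2 n49229
theorem D106532 : act 2 n49229 = n106532 := rfl
def n106533 : Q := act 6 n49229
theorem D106533 : act 6 n49229 = n106533 := rfl
theorem F163787 : act 3 n106533 = n49230 := d7_1 D106533 (iv6 D49230) D49229
def n106534 : Q := act 0 n49230
theorem D106534 : act 0 n49230 = n106534 := rfl
def n106535 : Q := act 1 n49230
theorem D106535 : act 1 n49230 = n106535 := rfl
def n106536 : Q := act 5 n49230
theorem D106536 : act 5 n49230 = n106536 := rfl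
def n106537 : Q := act 7 n49230
theorem D106537 : act 7 n49230 = n106537 := rfl
theorem F163788 : act 4 n106537 = n49233 := d11_1 D106537 (iv7 D49233) (iv4 F77750)
def n106538 : Q := act 3 n49231
theorem D106538 : act 3 n49231 = n106538 := rfl
def n106539 : Q := act 4 n49231
theorem D106539 : act 4 n49231 = n106539 := rfl
def n106540 : Q := act 6 n49231
theorem D106540 : act 6 n49231 = n106540 := rfl
def n106541 : Q := act 3 n49232
theorem D106541 : act 3 n49232 = n106541 := rfl
theorem F163789 : act 5 n106541 = n106357 := d6_2 F77751 D106541 F163423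
def n106542 : Q := act 4 n49232
theorem D106542 : act 4 n49232 = n106542 := rfl
def n106543 : Q := act 6 n49232
theorem D106543 : act 6 n49232 = n106543 := rfl
theorem F163790 : act 5 n106543 = n106368 := d12_1 D106543 (iv6 D106368) (iv5 D49149) D49150 F77751
def n106544 : Q := act 6 n49233
theorem D106544 : act 6 n49233 = n106544 := rfl
theorem F163791 : act 7 n106544 = n49234 := d14_2 D49233 D106544 (iv6 D49234) (iv7 D24028) D24027
def n106545 : Q := act 0 n49234
theorem D106545 : act 0 n49234 = n106545 := rfl
def n106546 : Q := act 1 n49234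
theorem D106546 : act 1 n49234 = n106546 := rfl
def n106547 : Q := act 6 n49235
theorem D106547 : act 6 n49235 = n106547 := rfl
theorem F163792 : act 2 n106547 = n61877 := d3_1 D106547 (iv6 D61877) F77754
theorem F163793 : act 3 n106547 = n63030 := d7_1 D106547 F98347 F77757
theorem F163794 : act 4 n106547 = n62502 := d10_1 D106547 (iv6 D62502) (iv4 F77753)
theorem F163795 : act 5 n106547 = n63026 := d12_1 D106547 (iv6 D63026) (iv5 D29814) (iv6 F39704) (iv5 F77752)
def n106548 : Q := act 3 n49236
theorem D106548 : act 3 n49236 = n106548 := rfl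
theorem F163796 : act 4 n106548 = n49239 := d5_2 D49236 D106548 (iv3 D49239) (iv4 D24031) (iv3 F37560)
theorem F163797 : act 5 n106548 = n63777 := d6_2 (iv5 F77759) D106548 (iv3 D63777)
theorem F163798 : act 7 n106548 = n61878 := d8_2 (iv7 F77758) D106548 (iv3 D61878)
def n106549 : Q := act 6 n49236
theorem D106549 : act 6 n49236 = n106549 := rfl
theorem F163799 : act 4 n106549 = n49237 := d10_1 D106549 (iv6 D49237) D49236
def n106550 : Q := act 0 n49237
theorem D106550 : act 0 n49237 = n106550 := rfl
theorem F163800 : act 5 n106550 = n105526 := d21_0 (iv1 D105526) (iv5 F93585) (iv6 D59330) (iv1 D28177) (iv6 F22411) (iv5 D13460) F19478 D24029 D49237 D106550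
def n106551 : Q := act 1 n49237
theorem D106551 : act 1 n49237 = n106551 := rfl
theorem F163801 : act 5 n105525 = n106551 := d21_0 (iv1 D106551) F77767 (iv6 D28099) F38110 (iv6 F45093) (iv5 D27923) F22130 D23795 D48790 D105525
def n106552 : Q := act 7 n49237
theorem D106552 : act 7 n49237 = n106552 := rfl
theorem F163802 : act 3 n106552 = n49244 := d8_1 D106552 (iv7 D49244) (iv3 F77766)
theorem F163803 : act 5 n106552 = n59153 := d13_1 D106552 (iv7 D59153) (iv5 F77767)
theorem F163804 : act 6 n106552 = n61882 := d14_1 D106552 (iv7 D61882) (iv6 D29320) (iv7 F37561) D49237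
def n106553 : Q := act 3 n49238
theorem D106553 : act 3 n49238 = n106553 := rfl
theorem F163805 : act 7 n106553 = n61845 := d8_2 (iv7 F77769) D106553 (iv3 D61845)
def n106554 : Q := act 0 n49239
theorem D106554 : act 0 n49239 = n106554 := rfl
theorem F163806 : act 1 n61885 = n106554 := d15_0 (iv0 D106554) F77772 D61885
def n106555 : Q := act 1 n49239
theorem D106555 : act 1 n49239 = n106555 := rfl
def n106556 : Q := act 2 n49239
theorem D106556 : act 2 n49239 = n106556 := rfl
theorem F163807 : act 3 n106556 = n61861 := d0_2 D49239 D106556 (iv2 D61861) (iv3 D29311) (iv2 F37566)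
theorem F163808 : act 7 n106556 = n61885 := d4_2 (iv7 F77772) D106556 (iv2 D61885)
theorem F163809 : act 1 n106556 = n61883 := d15_0 (iv0 D61883) (iv7 F77772) D106556
theorem F163810 : act 1 n106555 = n61885 := d15_1 D106555 (iv7 F163808) (iv2 D106556)
theorem F163811 : act 1 n61884 = n106556 := d15_1 D61884 F163808 (iv2 D61885)
def n106557 : Q := act 5 n49239
theorem D106557 : act 5 n49239 = n106557 := rfl
theorem F163812 : act 3 n106557 = n49240 := d6_1 D106557 (iv5 D49240) D49239
theorem F163813 : act 7 n106557 = n61886 := d13_2 (iv7 F77772) D106557 (iv5 D61886)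
def n106558 : Q := act 6 n49239
theorem D106558 : act 6 n49239 = n106558 := rfl
theorem F163814 : act 3 n106558 = n49241 := d7_1 D106558 (iv6 D49241) D49239
def n106559 : Q := act 6 n49240
theorem D106559 : act 6 n49240 = n106559 := rfl
theorem F163815 : act 2 n106559 = n61864 := d3_1 D106559 (iv6 D61864) (iv2 F77773)
theorem F163816 : act 4 n106559 = n49328 := d10_1 D106559 (iv6 D49328) (iv4 F77775)
def n106560 : Q := act 0 n49241
theorem D106560 : act 0 n49241 = n106560 := rfl
def n106561 : Q := act 1 n49241
theorem D106561 : act 1 n49241 = n106561 := rfl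
theorem F163817 : act 1 n106561 = n61868 := d15_1 D106561 (iv7 D61868) (iv2 F77778)
def n106562 : Q := act 5 n49241
theorem D106562 : act 5 n49241 = n106562 := rfl
theorem F163818 : act 2 n106562 = n61867 := d2_1 D106562 (iv5 D61867) (iv2 F77778)
def n106563 : Q := act 7 n49241
theorem D106563 : act 7 n49241 = n106563 := rfl
theorem F163819 : act 2 n106563 = n61868 := d4_1 D106563 (iv7 D61868) (iv2 F77778)
theorem F163820 : act 4 n106563 = n49244 := d11_1 D106563 (iv7 D49244) (iv4 F77779)
theorem F163821 : act 6 n106563 = n61892 := d14_1 D106563 (iv7 D61892) (iv6 D29324) (iv7 F37567) D49241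
theorem F163822 : act 1 n61868 = n106560 := d15_0 (iv0 D106560) D106563 F163819
theorem F163823 : act 1 n61866 = n106563 := d15_1 D61866 (iv7 D106563) F77778
theorem F163824 : act 1 n106563 = n61865 := d15_0 (iv0 D61865) D61868 (iv2 F163819)
def n106564 : Q := act 3 n49242
theorem D106564 : act 3 n49242 = n106564 := rfl
theorem F163826 : act 7 n106564 = n61873 := d8_2 (iv7 F161433) D106564 (iv3 D61873)
def n106565 : Q := act 4 n49242
theorem D106565 : act 4 n49242 = n106565 := rfl
theorem F163827 : act 2 n106565 = n61871 := d1_1 D106565 (iv4 D61871) (iv2 F161432)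
theorem F163828 : act 7 n106565 = n61874 := d11_2 (iv7 F161433) D106565 (iv4 D61874)
def n106566 : Q := act 3 n49243
theorem D106566 : act 3 n49243 = n106566 := rfl
theorem F163829 : act 5 n106566 = n58827 := d6_2 F77782 D106566 (iv3 D58827)
def n106567 : Q := act 4 n49243
theorem D106567 : act 4 n49243 = n106567 := rfl
theorem F163831 : act 2 n106567 = n61874 := d1_1 D106567 (iv4 D61874) (iv2 F161440)
theorem F163832 : act 7 n106567 = n61871 := d11_2 (iv7 F161441) D106567 (iv4 D61871)
def n106568 : Q := act 6 n49243
theorem D106568 : act 6 n49243 = n106568 := rfl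
theorem F163833 : act 2 n106568 = n61875 := d3_1 D106568 (iv6 D61875) (iv2 F161440)
theorem F163834 : act 0 n106568 = n60692 := d21_4 (iv5 D27972) D27970 F77782 D106568 F95282 F95137 (iv1 F100264) (iv5 D60960) (iv6 F47268) (iv1 F100248)
theorem F163835 : act 1 n106568 = n60687 := d15_1 (iv0 F163834) F103558 (iv2 F103565)
def n106569 : Q := act 0 n49245
theorem D106569 : act 0 n49245 = n106569 := rfl
theorem F163836 : act 1 n61861 = n106569 := d15_0 (iv0 D106569) F77790 D61861
def n106570 : Q := act 1 n49245
theorem D106570 : act 1 n49245 = n106570 := rfl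
def n106571 : Q := act 2 n49245
theorem D106571 : act 2 n49245 = n106571 := rfl
theorem F163837 : act 3 n106571 = n61885 := d0_2 D49245 D106571 (iv2 D61885) (iv3 D29322) (iv2 F37570)
theorem F163838 : act 7 n106571 = n61861 := d4_2 (iv7 F77790) D106571 (iv2 D61861)
theorem F163839 : act 1 n106571 = n61859 := d15_0 (iv0 D61859) (iv7 F77790) D106571
theorem F163840 : act 1 n106570 = n61861 := d15_1 D106570 (iv7 F163838) (iv2 D106571)
theorem F163841 : act 1 n61860 = n106571 := d15_1 D61860 F163838 (iv2 D61861)
def n106572 : Q := act 5 n49245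
theorem D106572 : act 5 n49245 = n106572 := rfl
theorem F163842 : act 3 n106572 = n49246 := d6_1 D106572 (iv5 D49246) D49245
theorem F163843 : act 7 n106572 = n61862 := d13_2 (iv7 F77790) D106572 (iv5 D61862)
def n106573 : Q := act 6 n49245
theorem D106573 : act 6 n49245 = n106573 := rfl
theorem F163844 : act 3 n106573 = n49247 := d7_1 D106573 (iv6 D49247) D49245
def n106574 : Q := act 6 n49246
theorem D106574 : act 6 n49246 = n106574 := rfl
theorem F163845 : act 2 n106574 = n61888 := d3_1 D106574 (iv6 D61888) (iv2 F77791)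
theorem F163846 : act 4 n106574 = n49326 := d10_1 D106574 (iv6 D49326) (iv4 F77792)
def n106575 : Q := act 5 n49247
theorem D106575 : act 5 n49247 = n106575 := rfl
theorem F163847 : act 2 n106575 = n61891 := d2_1 D106575 (iv5 D61891) (iv2 F77796)
def n106576 : Q := act 7 n49247
theorem D106576 : act 7 n49247 = n106576 := rfl
theorem F163848 : act 2 n106576 = n61892 := d4_1 D106576 (iv7 D61892) (iv2 F77796)
theorem F163849 : act 4 n106576 = n49250 := d11_1 D106576 (iv7 D49250) (iv4 F77797)
theorem F163850 : act 6 n106576 = n61868 := d14_1 D106576 (iv7 D61868) (iv6 D29313) (iv7 F37571) D49247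
theorem F163851 : act 1 n61890 = n106576 := d15_1 D61890 (iv7 D106576) F77796
theorem F163852 : act 1 n106576 = n61889 := d15_1 F163851 F163727 (iv2 F96474)
def n106577 : Q := act 4 n49248
theorem D106577 : act 4 n49248 = n106577 := rfl
theorem F163853 : act 2 n106577 = n61893 := d1_1 D106577 (iv4 D61893) F77800
theorem F163854 : act 7 n106577 = n61895 := d11_2 (iv7 F77799) D106577 (iv4 D61895)
theorem F163855 : act 0 n106577 = n106478 := d20_1 D106577 F163720 (iv3 F97784) (iv1 F97781) F48171 D63043 F111645 F111644 F53566 D49248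
theorem F163856 : act 0 n49289 = n106577 := d20_7 (iv4 F95182) (iv1 F96434) F96432 (iv3 F98328) F98331 F48292 (iv4 F77901) (iv4 D106577) (iv3 F80797) (iv1 F80799)
def n106578 : Q := act 0 n49249
theorem D106578 : act 0 n49249 = n106578 := rfl
theorem F163857 : act 6 n106578 = n67463 := d21_5 (iv5 D11371) F18364 D24035 (iv6 F77806) D106578 (iv5 D67463) (iv1 F49613) F40004 (iv6 D25327) (iv1 F19892)
theorem F163858 : act 2 n61896 = n106578 := d15_3 (iv0 D106578) (iv0 F103391) (iv7 F103389)
theorem F163859 : act 1 n61899 = n106578 := d15_0 (iv0 D106578) (iv7 F85070) (iv2 F96494)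
theorem F163860 : act 7 n106578 = n61897 := d15_2 (iv0 F103390) F163859 (iv2 F103392)
def n106579 : Q := act 0 n49251
theorem D106579 : act 0 n49251 = n106579 := rfl
def n106580 : Q := act 1 n49251
theorem D106580 : act 1 n49251 = n106580 := rfl
def n106581 : Q := act 7 n49251
theorem D106581 : act 7 n49251 = n106581 := rfl
theorem F163861 : act 3 n106581 = n49257 := d8_1 D106581 (iv7 D49257) (iv3 F77812)
theorem F163862 : act 4 n106581 = n63762 := d11_1 D106581 (iv7 D63762) (iv4 F77813)
theorem F163863 : act 6 n106581 = n61930 := d14_1 D106581 (iv7 D61930) (iv6 D29338) (iv7 F37577) D49251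
theorem E16188 : n63706 = n63548 := (c20_5 D61925 F103751 F47001 (iv3 F48322) D63706 (iv3 D63548) D63549 F100303 (iv4 F163862) F163861 (iv1 F77825))
theorem F163864 : act 0 n63548 = n63695 := (sb E16188 (iv1 F99067))
theorem F163865 : act 1 n63548 = n30068 := (sb E16188 (iv0 D63706))
theorem F163866 : act 6 n63548 = n63079 := (sb E16188 F162155)
theorem F163867 : act 3 n63079 = n53146 := d7_1 F163866 (iv6 F83900) D63548
theorem F163868 : act 3 n50618 = n51453 := d6_3 F162153 F163867 (iv5 F83897)
theorem F163869 : act 7 n63577 = n63079 := d8_0 F163867 F99770 D63577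
theorem F163870 : act 4 n63079 = n60990 := d20_6 D28930 F79885 F47310 (iv3 F48232) (iv1 F83896) (iv3 F163867) (iv1 D60990) F46562 F23028 D13781
theorem F163871 : act 7 n51453 = n50689 := d13_2 F163869 (iv5 F162153) (iv5 F98912)
theorem F163872 : act 2 n63577 = n63078 := d15_3 (iv0 D63078) D63079 (iv7 F163869)
theorem F163873 : act 2 n51452 = n50689 := d2_3 (iv5 F98912) F163872 F99061
theorem E16189 : n52234 = n50615 := (c7_3 D50618 F163868 (iv6 F162154) (iv3 D50615))
theorem F163874 : act 0 n50615 = n64460 := (sb E16189 (iv1 F100403))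
theorem F163875 : act 1 n50615 = n25373 := (sb E16189 (iv0 D52234))
theorem F163876 : act 6 n50615 = n51453 := (sb E16189 F162154)
theorem F163877 : act 4 n51453 = n59255 := d20_6 (iv4 F79883) (iv1 F39575) F38679 (iv3 F38675) (iv1 F83899) F163868 (iv1 D59255) F45498 F22348 D13431
theorem E16190 : n63729 = n63688 := (c18_8 (iv1 F82725) F163877 (iv1 D59255) F45498 (iv5 F22981) (iv4 F46449) D60718 (iv4 F99095) F99060 F99057)
theorem F163878 : act 3 n63688 = n30076 := (sb E16190 (iv3 D63729))
theorem F163879 : act 4 n63688 = n60718 := (sb E16190 F99095)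
theorem E16191 : n52227 = n50462 := (((iv5 F99027)).symm.trans (sb E16190 F99094))
theorem F163880 : act 7 n63688 = n62517 := (sb E16190 F99984)
theorem F163881 : act 1 n50462 = n25368 := (sb E16191 (iv0 D52227))
theorem F163882 : act 5 n50462 = n63688 := (sb E16191 F99027)
theorem E16192 : n105182 = n51579 := ((((iv6 F81412)).symm.trans (sb E16191 (iv6 F161103)))).symm
theorem F163883 : act 1 n51579 = n48637 := (sb E16192 (iv0 D105182))
theorem E16193 : n59178 = n59156 := ((c20_7 F163877 (iv1 D59255) F45498 F22348 D13431 F100174 D59156 (iv1 F93388) F82730 (iv3 F82723) (iv1 F82725))).symm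
theorem F163884 : act 0 n59156 = n52349 := (sb E16193 (iv1 F93388))
theorem F163885 : act 1 n59156 = n28108 := (sb E16193 (iv0 D59178))
theorem E16194 : n59179 = n59160 := (c15_2 F163885 D59179 (iv7 F163210) F163209)
theorem F163886 : act 0 n59160 = n28108 := (sb E16194 (iv1 D59179))
theorem F163887 : act 1 n59160 = n52349 := (sb E16194 F93383)
theorem E16195 : n60647 = n60623 := (c18_3 (iv1 D63801) F48371 D60647 (iv4 D60623) F77811 D59156 F163885 F45417 D48655 F99166)
theorem F163888 : act 1 n60623 = n28790 := (sb E16195 (iv0 D60647))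
theorem E16196 : n50729 = n24963 := (c20_5 (iv4 F39619) (iv1 F80079) (iv4 D24697) D24696 D50729 F39162 (iv4 F45417) (iv1 F163885) (iv4 D59156) (iv3 F100174) (iv1 F22352))
theorem E16197 : n51808 = n51341 := (((D51341).symm.trans (sb E16196 (iv1 F81810)))).symm
theorem E16198 : n51342 = n24696 := ((D51342).symm.trans (sb E16196 (iv0 D50729)))
theorem E16199 : n50730 = n25015 := ((((iv1 F81034)).symm.trans (sb E16197 (iv1 F81812)))).symm
theorem E16200 : n25153 = n25012 := (((F101653).symm.trans (sb E16197 (iv2 D51808)))).symm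
theorem F163889 : act 3 n51341 = n50721 := (sb E16197 F81808)
theorem E16201 : n63202 = n50237 := (((F81028).symm.trans (sb E16197 (iv5 F98455)))).symm
theorem E16202 : n50731 = n25013 := (((F101654).symm.trans (sb E16197 F81809))).symm
theorem F163890 : act 0 n24696 = n24963 := (sb E16198 (iv1 D51342))
theorem E16203 : n50238 = n30025 := ((((iv5 F48244)).symm.trans (sb E16198 F81173))).symm
theorem E16204 : n50161 = n25127 := ((((iv6 F39502)).symm.trans (sb E16198 (iv6 F81174)))).symm
theorem F163891 : act 0 n25015 = n24696 := (sb E16199 (iv1 D50730))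
theorem E16207 : n51466 = n11943 := ((D51466).symm.trans (sb E16200 (iv3 D25153)))
theorem E16208 : n51809 = n51467 := (((D51467).symm.trans (sb E16200 D51809))).symm
theorem E16209 : n29879 = n29839 := (((F79597).symm.trans (sb E16200 (iv5 F48025)))).symm
theorem E16210 : n51810 = n51468 := (((D51468).symm.trans (sb E16200 D51810))).symm
theorem F163892 : act 7 n25012 = n24696 := (sb E16200 F39578)
theorem E16211 : n63589 = n29841 := ((((iv1 F79591)).symm.trans (sb E16201 (iv1 F98933)))).symm
theorem E16212 : n63588 = n24497 := ((((iv0 D50237)).symm.trans (sb E16201 F98927))).symm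
theorem F163893 : act 3 n50237 = n63585 := (sb E16201 (iv3 F98917))
theorem E16213 : n63590 = n29840 := (((F101652).symm.trans (sb E16201 (iv7 F98931)))).symm
theorem F163894 : act 2 n25013 = n24696 := (sb E16202 (iv2 D50731))
theorem E16214 : n51816 = n51470 := (((D51470).symm.trans (sb E16202 (iv3 F81828)))).symm
theorem E16215 : n51746 = n24535 := (((F79595).symm.trans (sb E16202 (iv6 F81694)))).symm
theorem E16216 : n63336 = n29867 := (((F48245).symm.trans (sb E16203 (iv6 F98602)))).symm
theorem E16217 : n51744 = n24538 := ((D51744).symm.trans (sb E16204 (iv1 F79483)))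
theorem E16218 : n51745 = n24465 := ((D51745).symm.trans (sb E16204 (iv0 D50161)))
theorem E16219 : n66571 = n51748 := (((D51748).symm.trans (sb E16204 F102426))).symm
theorem E16220 : n24669 = n24536 := (((iv7 F39536)).symm.trans (sb E16204 F101642))
theorem F163895 : act 3 n11943 = n25012 := (sb E16207 (iv3 D51466))
theorem E16221 : n63092 = n14193 := ((((iv5 F23701)).symm.trans (sb E16207 (iv5 F98396)))).symm
theorem F163896 : act 7 n51467 = n50732 := (sb E16208 F81813)
theorem E16224 : n63203 = n63093 := (((D63093).symm.trans (sb E16209 D63203))).symm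
theorem E16225 : n63204 = n63094 := (((D63094).symm.trans (sb E16209 D63204))).symm
theorem F163897 : act 7 n29839 = n30025 := (sb E16209 (iv7 F48246))
theorem F163898 : act 3 n51468 = n25155 := (sb E16210 F81814)
theorem E16226 : n53372 = n50584 := ((F84201).symm.trans (sb E16210 (iv5 F81816)))
theorem E16227 : n50660 = n50313 := (((F81242).symm.trans (sb E16210 F81815))).symm
theorem F163899 : act 0 n29841 = n30025 := (sb E16211 (iv1 D63589))
theorem F163900 : act 1 n24497 = n30025 := (sb E16212 (iv0 D63588))
theorem F163901 : act 2 n29840 = n30025 := (sb E16213 (iv2 D63590))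
theorem E16228 : n63207 = n63096 := (((D63096).symm.trans (sb E16213 F98928))).symm
theorem E16229 : n63177 = n29974 := ((((iv6 F79594)).symm.trans (sb E16213 F98930))).symm
theorem F163904 : act 2 n51470 = n25156 := (sb E16214 (iv2 D51816))
theorem E16230 : n50650 = n50306 := (((F81243).symm.trans (sb E16214 F81829))).symm
theorem F163905 : act 7 n51470 = n50721 := (sb E16214 F81830)
theorem F163906 : act 2 n24535 = n25127 := (sb E16215 (iv2 D51746))
theorem E16233 : n50658 = n50162 := ((((iv7 F101639)).symm.trans (sb E16215 F81695))).symm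
theorem E16234 : n63175 = n29976 := ((D63175).symm.trans (sb E16216 F98603))
theorem E16235 : n63176 = n29924 := ((D63176).symm.trans (sb E16216 (iv0 D63336)))
theorem E16236 : n30012 = n29975 := (((iv7 F48212)).symm.trans (sb E16216 F101648))
theorem F163907 : act 1 n24538 = n25127 := (sb E16217 (iv0 D51744))
theorem F163908 : act 0 n24465 = n25127 := (sb E16218 (iv1 D51745))
theorem F163909 : act 0 n51748 = n31065 := (sb E16219 (iv1 D66571))
theorem F163910 : act 1 n51748 = n74466 := (sb E16219 (iv0 F111787))
theorem F163911 : act 2 n51748 = n50308 := (sb E16219 F102427)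
theorem E16237 : n50312 = n31340 := (((F81702).symm.trans (sb E16219 F102425))).symm
theorem E16238 : n50310 = n11679 := ((D50310).symm.trans (sb E16220 (iv3 D24669)))
theorem E16239 : n50659 = n50311 := (((D50311).symm.trans (sb E16220 D50659))).symm
theorem F163912 : act 7 n24536 = n25127 := (sb E16220 F39536)
theorem F163913 : act 3 n14193 = n29839 := (sb E16221 (iv3 D63092))
theorem F163914 : act 7 n63093 = n63591 := (sb E16224 (iv7 F98936))
theorem F163915 : act 3 n63094 = n29881 := (sb E16225 F98456)
theorem E16240 : n65530 = n62685 := ((F101252).symm.trans (sb E16225 F98457))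
theorem E16241 : n63566 = n63458 := ((((iv7 F98793)).symm.trans (sb E16225 (iv7 F98896)))).symm
theorem F163916 : act 0 n50584 = n25861 := (sb E16226 (iv1 D53372))
theorem F163917 : act 1 n50584 = n30857 := (sb E16226 F84200)
theorem F163918 : act 2 n50584 = n30856 := (sb E16226 F84205)
theorem F163919 : act 5 n50584 = n51468 := (sb E16226 (iv5 F84201))
theorem E16242 : n30855 = n30735 := (((F79942).symm.trans (sb E16226 F84202))).symm
theorem F163920 : act 3 n50313 = n24671 := (sb E16227 F80015)
theorem E16243 : n63558 = n63451 := ((((iv6 F98788)).symm.trans (sb E16228 (iv6 F98873)))).symm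
theorem F163924 : act 7 n63096 = n63585 := (sb E16228 (iv7 F98919))
theorem F163925 : act 2 n29974 = n29867 := (sb E16229 (iv2 D63177))
theorem E16246 : n63564 = n63337 := ((((iv7 F101650)).symm.trans (sb E16229 (iv7 F98889)))).symm
theorem F163927 : act 1 n50306 = n51752 := (sb E16230 F81710)
theorem F163928 : act 2 n50306 = n24665 := (sb E16230 (iv2 D50650))
theorem F163930 : act 3 n50162 = n51754 := (sb E16233 (iv3 F81711))
theorem E16247 : n67427 = n65876 := ((((iv5 F101529)).symm.trans (sb E16233 F103289))).symm
theorem F163931 : act 1 n29976 = n29867 := (sb E16234 (iv0 D63175))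
theorem F163932 : act 0 n29924 = n29867 := (sb E16235 (iv1 D63176))
theorem E16248 : n63455 = n14247 := ((D63455).symm.trans (sb E16236 (iv3 D30012)))
theorem E16249 : n63565 = n63456 := (((D63456).symm.trans (sb E16236 D63565))).symm
theorem E16250 : n63457 = n53829 := ((D63457).symm.trans (sb E16236 F84854))
theorem F163933 : act 7 n29975 = n29867 := (sb E16236 F48212)
theorem E16251 : n67436 = n66006 := ((D67436).symm.trans (sb E16237 (iv1 F102428)))
theorem E16252 : n67437 = n66010 := ((D67437).symm.trans (sb E16237 F101695))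
theorem F163934 : act 5 n31340 = n24536 := (sb E16237 (iv5 D50312))
theorem E16253 : n49404 = n14772 := ((((iv6 D31340)).symm.trans (sb E16237 F79693))).symm
theorem F163935 : act 3 n11679 = n24536 := (sb E16238 (iv3 D50310))
theorem F163936 : act 7 n50311 = n51747 := (sb E16239 (iv7 F81700))
theorem F163937 : act 0 n62685 = n30712 := (sb E16240 (iv1 D65530))
theorem F163938 : act 1 n62685 = n63047 := (sb E16240 F101251)
theorem F163939 : act 2 n62685 = n63045 := (sb E16240 F101256)
theorem F163940 : act 5 n62685 = n63094 := (sb E16240 (iv5 F101252))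
theorem E16254 : n63044 = n61470 := (((F97794).symm.trans (sb E16240 F101254))).symm
theorem F163941 : act 3 n63458 = n30014 := (sb E16241 F98894)
theorem E16255 : n65584 = n53373 := ((D65584).symm.trans (sb E16242 (iv1 F84212)))
theorem E16256 : n65585 = n14616 := ((D65585).symm.trans (sb E16242 (iv0 D30855)))
theorem E16257 : n65586 = n53371 := ((D65586).symm.trans (sb E16242 F84203))
theorem F163942 : act 5 n30735 = n50313 := (sb E16242 F79694)
theorem E16260 : n65938 = n31339 := (((F49592).symm.trans (sb E16242 D65938))).symm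
theorem F163946 : act 7 n63451 = n63183 := (sb E16243 F98874)
theorem F163947 : act 3 n63337 = n63183 := (sb E16246 F98888)
theorem F163948 : act 2 n65876 = n31340 := (sb E16247 F103288)
theorem E16261 : n31337 = n30823 := ((((iv6 D65876)).symm.trans (sb E16247 (iv6 D67427)))).symm
theorem F163949 : act 3 n14247 = n29975 := (sb E16248 (iv3 D63455))
theorem F163950 : act 7 n63456 = n63178 := (sb E16249 F98893)
theorem F163951 : act 5 n53829 = n29975 := (sb E16250 (iv5 D63457))
theorem F163952 : act 1 n66006 = n31340 := (sb E16251 (iv0 D67436))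
theorem F163953 : act 0 n66010 = n31340 := (sb E16252 (iv1 D67437))
theorem E16263 : n31335 = n24109 := ((D31335).symm.trans (sb E16253 (iv1 D49404)))
theorem E16264 : n31336 = n24453 := ((D31336).symm.trans (sb E16253 F78131))
theorem F163954 : act 0 n61470 = n30880 := (sb E16254 (iv1 F98363))
theorem F163955 : act 1 n61470 = n29823 := (sb E16254 (iv0 D63044))
theorem F163956 : act 2 n61470 = n65529 := (sb E16254 F101255)
theorem F163957 : act 5 n61470 = n63458 := (sb E16254 (iv5 F98794))
theorem E16265 : n65871 = n53828 := (((F95967).symm.trans (sb E16254 (iv6 F101525)))).symm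
theorem F163958 : act 1 n53373 = n30735 := (sb E16255 (iv0 D65584))
theorem F163959 : act 0 n14616 = n30735 := (sb E16256 (iv1 D65585))
theorem F163960 : act 2 n53371 = n30735 := (sb E16257 (iv2 D65586))
theorem E16266 : n67426 = n65875 := ((((iv6 F101528)).symm.trans (sb E16257 F103287))).symm
theorem E16267 : n67433 = n65512 := ((D67433).symm.trans (sb E16260 (iv1 F111585)))
theorem E16268 : n74364 = n67434 := (((D67434).symm.trans (sb E16260 (iv0 F111583)))).symm
theorem E16269 : n53825 = n14595 := ((((iv1 D30823)).symm.trans (sb E16261 (iv1 F84848)))).symm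
theorem E16270 : n53824 = n24429 := (((F49245).symm.trans (sb E16261 F84844))).symm
theorem F163961 : act 2 n30823 = n14772 := (sb E16261 (iv2 D31337))
theorem E16271 : n65873 = n53838 := ((D65873).symm.trans (sb E16261 (iv3 F84865)))
theorem E16272 : n67425 = n65874 := (((D65874).symm.trans (sb E16261 D67425))).symm
theorem E16273 : n53826 = n49403 := ((((iv7 F101636)).symm.trans (sb E16261 (iv7 F84846)))).symm
theorem F163962 : act 1 n24109 = n14772 := (sb E16263 (iv0 D31335))
theorem F163963 : act 0 n24453 = n14772 := (sb E16264 (iv1 D31336))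
theorem F163964 : act 1 n53828 = n53399 := (sb E16265 (iv0 F101526))
theorem F163965 : act 2 n65875 = n31339 := (sb E16266 F103286)
theorem F163966 : act 1 n65512 = n31339 := (sb E16267 (iv0 D67433))
theorem F163967 : act 5 n67434 = n53399 := (sb E16268 F111581)
theorem F163968 : act 6 n67434 = n34111 := (sb E16268 (iv6 D74364))
theorem F163969 : act 7 n67434 = n53399 := (sb E16268 F111582)
theorem F163970 : act 0 n14595 = n26021 := (sb E16269 (iv1 D53825))
theorem F163971 : act 1 n24429 = n26021 := (sb E16270 (iv0 D53824))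
theorem F163972 : act 3 n53838 = n30823 := (sb E16271 (iv3 D65873))
theorem F163973 : act 2 n65874 = n31338 := (sb E16272 F103285)
theorem F163974 : act 2 n49403 = n26021 := (sb E16273 (iv2 D53826))
theorem F163975 : act 3 n49403 = n31324 := (sb E16273 F84845)
theorem E16286 : n68115 = n49608 := (c20_1 D68115 (iv1 D49608) F37910 (iv3 F37774) D49403 F163975 (iv4 F111893) (iv1 F111894) F111877 F80603 (iv1 F50019))
theorem F163976 : act 2 n49608 = n51256 := (sb E16286 F104266)
theorem F163977 : act 4 n49608 = n31714 := (sb E16286 (iv4 D68115))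
theorem F163978 : act 7 n49608 = n51251 := (sb E16286 F104267)
theorem E16287 : n59786 = n49607 := (c15_4 (iv0 D49607) D49608 F163978 (iv2 F100240))
theorem F163979 : act 2 n49607 = n51251 := (sb E16287 F100240)
theorem F163980 : act 4 n49607 = n28351 := (sb E16287 (iv4 D59786))
theorem F163981 : act 7 n49607 = n51256 := (sb E16287 (iv7 F100280))
theorem E16288 : n64245 = n64057 := (c20_5 (iv4 F163980) (iv1 F78353) F78350 (iv3 F82567) (iv1 F100043) (iv3 D64057) D64058 F100219 (iv4 F50016) F50015 F100218)
theorem F163982 : act 0 n64057 = n30263 := (sb E16288 (iv1 D64245))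
theorem F163983 : act 1 n64057 = n52219 := (sb E16288 F100043)
theorem E16289 : n64931 = n64244 := (c15_4 (iv0 D64244) (iv0 F163982) (iv7 F99747) D64931)
theorem F163984 : act 2 n64244 = n30507 := (sb E16289 (iv2 D64931))
theorem F163985 : act 4 n64244 = n59620 := (sb E16289 (iv4 F100717))
theorem E16290 : n51256 = n49605 := ((c20_8 (iv4 F24347) (iv1 F100815) (iv4 D26022) D26021 (iv1 F163971) F38306 (iv4 F78177) (iv1 F78348) (iv4 D51256) (iv3 F100181) (iv1 D23831))).symm
theorem F163986 : act 2 n49605 = n49608 := (sb E16290 (iv2 F163976))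
theorem F163987 : act 3 n49605 = n67363 := (sb E16290 (iv3 F103231))
theorem F163988 : act 4 n49605 = n24925 := (sb E16290 (iv4 D51256))
theorem F163989 : act 7 n49605 = n49607 := (sb E16290 (iv7 F163981))
theorem F163990 : act 4 n65866 = n105656 := d20_2 (iv4 F79291) (iv1 F101523) (iv3 D105656) (iv1 D48844) F37131 (iv4 F24347) (iv1 F100815) (iv4 D26022) D26021 (iv1 F163971)
theorem F163991 : act 4 n105648 = n106443 := d20_2 (iv4 F76915) D105648 (iv3 D106443) (iv1 F77676) (iv3 F38306) (iv4 F79291) (iv1 F101523) F163990 (iv3 D105656) (iv1 D48844)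
theorem E16291 : n51251 = n49604 := (c15_4 (iv0 D49604) D49605 F163989 F163979)
theorem F163992 : act 2 n49604 = n49607 := (sb E16291 (iv2 F163979))
theorem F163993 : act 4 n49604 = n24924 := (sb E16291 (iv4 D51251))
theorem F163994 : act 7 n49604 = n49608 := (sb E16291 (iv7 F163978))
theorem E16292 : n64274 = n30507 := (c20_5 (iv4 F163988) (iv1 D49605) F37908 (iv3 F48667) D64274 (iv3 D30507) D30508 (iv1 F101318) F99865 F92815 (iv1 F45139))
theorem E16293 : n64929 = n50103 := ((D64929).symm.trans (sb E16292 (iv1 F100071)))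
theorem E16294 : n64930 = n30275 := ((D64930).symm.trans (sb E16292 (iv0 D64274)))
theorem F163995 : act 1 n50103 = n30507 := (sb E16293 (iv0 D64929))
theorem F163996 : act 0 n30275 = n30507 := (sb E16294 (iv1 D64930))
theorem E16295 : n63747 = n63694 := (c21_7 (iv5 D6874) D6871 D14369 D30275 F163996 D64934 (iv5 F100720) (iv1 D63694) (iv5 F48701) (iv6 D30283) (iv1 D14373))
theorem F163997 : act 3 n63694 = n30082 := (sb E16295 (iv3 D63747))
theorem F163998 : act 4 n63694 = n60908 := (sb E16295 F99114)
theorem F163999 : act 5 n63694 = n64934 := (sb E16295 F100720)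
theorem F164000 : act 7 n63694 = n63548 := (sb E16295 F99786)
theorem F164001 : act 7 n64275 = n64244 := d15_2 (iv0 F163996) D64275 F163984
theorem F164002 : act 2 n64057 = n64275 := d4_3 F164001 F163984 F99747
theorem F164003 : act 3 n64275 = n64944 := d0_2 D64057 F164002 (iv2 D64944) (iv3 D30512) (iv2 F99745)
theorem F164004 : act 2 n63548 = n63693 := d15_3 (iv0 D63693) D63694 F164000
theorem F164005 : act 2 n63694 = n63707 := d15_3 F99063 (iv0 F163864) (iv7 F164000)
theorem F164006 : act 7 n63707 = n63693 := d4_2 (iv7 F164000) F164005 (iv2 F164004)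
theorem F164007 : act 0 n60959 = n61958 := d20_7 F163998 (iv1 D60908) F46530 F23022 D13772 D28903 D60959 F96557 (iv3 F99065) (iv1 F99068)
theorem F164008 : act 1 n68144 = n49973 := d18_6 (iv1 F100247) D60959 F164007 F96557 (iv5 F82121) (iv4 F104299) F79050 (iv0 F38202) F37925
theorem F164009 : act 0 n64268 = n64933 := d21_10 (iv5 D64933) (iv1 F163995) F79317 (iv6 D50103) (iv1 F38590) (iv6 F79805) (iv5 D50430) D50428 F79802 D64268
theorem F164010 : act 2 n63178 = n63486 := d15_3 (iv0 D63486) (iv0 F100852) F163950
theorem E16296 : n63486 = n63452 := (c1_2 D63178 F164010 (iv4 D63452) F163925)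
theorem F164011 : act 1 n63452 = n29986 := (sb E16296 (iv0 D63486))
theorem F164012 : act 2 n63452 = n63178 := (sb E16296 (iv2 F164010))
theorem F164013 : act 2 n63097 = n63591 := d3_3 F98935 (iv2 F164012) F98789
theorem F164014 : act 0 n49267 = n60959 := d20_7 (iv4 F47202) (iv1 F47205) F48979 F163949 (iv1 D29975) (iv3 F37727) (iv4 F77851) (iv4 D60959) (iv3 D28903) (iv1 F23355)
theorem F164015 : act 2 n51747 = n50355 := d15_3 (iv0 D50355) (iv0 F100841) F163936
theorem E16297 : n50355 = n50307 := (c1_2 D51747 F164015 (iv4 D50307) F163906)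
theorem F164016 : act 1 n50307 = n24553 := (sb E16297 (iv0 D50355))
theorem F164017 : act 2 n50307 = n51747 := (sb E16297 (iv2 F164015))
theorem F164018 : act 2 n51471 = n50732 := d3_3 (iv6 F81699) (iv2 F164017) (iv6 F81244)
theorem F164019 : act 0 n50286 = n59237 := d20_7 (iv4 F39602) (iv1 F48932) (iv4 D24670) F163935 (iv1 D24536) (iv3 F38512) (iv4 F79669) (iv4 D59237) (iv3 D28126) (iv1 F22331)
theorem F164020 : act 0 n63179 = n65167 := d21_1 D63179 F100943 F102143 (iv1 D63388) (iv6 D29949) F23753 D24942 F39100 D29924 F163932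
theorem F164021 : act 2 n63179 = n63453 := d2_3 (iv5 D63453) F163925 D63179
theorem E16298 : n65939 = n65592 := (c0_3 D50584 F163918 D65939 (iv2 D65592) (iv3 D30737) F39511)
theorem F164022 : act 3 n65592 = n30856 := (sb E16298 (iv3 D65939))
theorem E16299 : n68149 = n67664 := (c20_8 (iv4 F49214) (iv1 F49698) F49699 D50584 F163916 F40848 (iv4 F50033) D68149 (iv4 D67664) (iv3 D31425) (iv1 F39913))
theorem F164023 : act 1 n67664 = n31728 := (sb E16299 (iv0 D68149))
theorem F164024 : act 0 n60650 = n62302 := d20_7 (iv4 F23364) D29470 F80112 F163913 (iv1 F79596) (iv3 F99168) F99169 (iv4 D62302) (iv3 D29477) (iv1 D14014)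
theorem E16300 : n59040 = n52347 := (c18_6 F99173 F99169 F164024 (iv4 D62302) F47267 D59040 F93389 F93386 F76539 D52353)
theorem F164025 : act 2 n52347 = n59160 := (sb E16300 F100281)
theorem F164026 : act 4 n52347 = n28056 := (sb E16300 (iv4 D59040))
theorem F164027 : act 6 n52347 = n59237 := (sb E16300 (iv6 F93441))
theorem F164028 : act 7 n52347 = n59156 := (sb E16300 (iv7 F100175))
theorem F164029 : act 1 n60494 = n62302 := d15_0 (iv0 F164024) (iv7 D60650) (iv2 F95089)
theorem F164030 : act 0 n58831 = n58799 := d18_2 (iv1 F92896) D58831 F92955 (iv5 F78023) (iv4 F95090) F164029 (iv4 D62302) (iv0 F100249) (iv5 F92893)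
theorem E16301 : n106205 = n52346 := (c15_4 (iv0 D52346) D52347 F164028 (iv2 F163209))
theorem F164031 : act 2 n52346 = n59156 := (sb E16301 F163209)
theorem F164032 : act 4 n52346 = n49077 := (sb E16301 (iv4 D106205))
theorem F164033 : act 7 n52346 = n59160 := (sb E16301 F163210)
theorem F164034 : act 4 n51470 = n50366 := d20_6 (iv4 F164032) (iv1 F93390) F93386 (iv3 F81031) (iv1 F81035) D51470 (iv1 D50366) (iv4 F77456) F77455 D49077
theorem F164035 : act 2 n50366 = n51817 := d1_1 F164034 (iv4 D51817) (iv2 F163904)
theorem E16302 : n106458 = n61874 := ((c18_2 (iv1 F77788) D61874 (iv1 D106458) F77682 F37523 (iv4 F40202) D52347 F164026 (iv0 F100254) (iv5 F77785))).symm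
theorem F164036 : act 0 n61874 = n49188 := (sb E16302 (iv1 D106458))
theorem F164037 : act 4 n59018 = n52351 := d20_8 (iv4 F93386) (iv1 F93389) F164026 (iv3 D28056) (iv1 D13383) (iv3 F22250) (iv4 F45320) D59018 (iv3 D52351) (iv1 F76539)
theorem E16303 : n106457 = n61871 := ((c15_4 (iv0 D106457) (iv0 F164036) (iv7 F163828) F163827)).symm
theorem F164038 : act 1 n61871 = n49188 := (sb E16303 (iv0 D106457))
theorem F164039 : act 0 n53523 = n63179 := d21_1 F98302 (iv5 D63179) (iv6 F48245) (iv1 F163900) F38453 (iv5 D11587) (iv1 F19495) (iv5 F23679) D29802 D62993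
theorem F164040 : act 1 n49282 = n106567 := d18_6 (iv1 F77463) D59160 F163886 F45417 (iv5 F37628) (iv4 F77883) (iv4 D106567) F77781 (iv5 F77460)
theorem F164041 : act 1 n106567 = n106460 := d15_1 F164040 (iv7 D106460) (iv2 F77882)
theorem F164042 : act 1 n106565 = n49282 := d15_0 F164040 F163832 (iv2 F163827)
theorem F164043 : act 1 n106460 = n106565 := d15_1 F164041 F163828 (iv2 F163831)
theorem F164044 : act 0 n58799 = n58828 := d18_2 (iv1 D58801) (iv4 F92955) (iv4 D58828) F77782 D106567 F164041 F163711 F77889 F92959
theorem F164045 : act 0 n63730 = n106549 := d20_7 D106565 (iv1 F164043) F163711 (iv3 F99056) (iv1 F99060) F163878 D63730 F163799 F77766 D49242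
theorem E16304 : n106565 = n60806 := ((c20_7 F163879 (iv1 D60718) F46449 F22980 D13747 D28843 D60806 (iv1 F164043) F163711 (iv3 F99056) (iv1 F99060))).symm
theorem F164046 : act 0 n60806 = n106460 := (sb E16304 (iv1 F164043))
theorem F164047 : act 1 n60806 = n49282 := (sb E16304 F164042)
theorem F164048 : act 2 n60806 = n61871 := (sb E16304 F163827)
theorem E16305 : n49242 = n28843 := ((((iv4 D60806)).symm.trans (sb E16304 (iv4 D106565)))).symm
theorem E16306 : n62106 = n61874 := (((iv7 F96799)).symm.trans (sb E16304 F163828))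
theorem E16307 : n60803 = n29316 := ((D60803).symm.trans (sb E16305 (iv1 F77787)))
theorem E16308 : n60804 = n24032 := ((D60804).symm.trans (sb E16305 (iv0 D49242)))
theorem E16309 : n60805 = n29314 := ((D60805).symm.trans (sb E16305 F161432))
theorem E16310 : n106564 = n13747 := ((((iv3 D28843)).symm.trans (sb E16305 D106564))).symm
theorem E16311 : n27971 = n25230 := (((F46481).symm.trans (sb E16305 F77780))).symm
theorem E16312 : n52441 = n29400 := ((((iv6 F47100)).symm.trans (sb E16305 (iv6 F82780)))).symm
theorem E16313 : n29402 = n29315 := (((iv7 F47106)).symm.trans (sb E16305 F161433))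
theorem F164049 : act 7 n61874 = n60806 := (sb E16306 F96799)
theorem E16314 : n62105 = n49243 := ((((iv1 F77781)).symm.trans (sb E16307 (iv1 F96796)))).symm
theorem F164050 : act 1 n29316 = n28843 := (sb E16307 (iv0 D60803))
theorem F164051 : act 0 n24032 = n28843 := (sb E16308 (iv1 D60804))
theorem F164052 : act 2 n29314 = n28843 := (sb E16309 (iv2 D60805))
theorem E16317 : n62100 = n61870 := (((D61870).symm.trans (sb E16309 (iv3 F96781)))).symm
theorem E16318 : n58769 = n51992 := ((F92891).symm.trans (sb E16309 F95375))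
theorem E16319 : n61870 = n28750 := (((F76592).symm.trans (sb E16309 (tr (iv6 F96783) E16317)))).symm
theorem E16321 : n61873 = n13983 := (((F45359).symm.trans (sb E16310 F163826))).symm
theorem E16322 : n51990 = n13343 := ((D51990).symm.trans (sb E16311 (iv1 D27971)))
theorem E16323 : n58770 = n51991 := (((D51991).symm.trans (sb E16311 F92896))).symm
theorem E16324 : n58831 = n51993 := (((D51993).symm.trans (sb E16311 D58831))).symm
theorem E16325 : n58832 = n51994 := (((D51994).symm.trans (sb E16311 D58832))).symm
theorem E16326 : n58768 = n24790 := (((F45357).symm.trans (sb E16311 (iv7 F161435)))).symm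
theorem E16327 : n62098 = n28752 := ((D62098).symm.trans (sb E16312 (iv1 F93127)))
theorem E16328 : n62099 = n28004 := ((D62099).symm.trans (sb E16312 (iv0 F82781)))
theorem E16329 : n62100 = n28750 := (E16317).trans E16319
theorem E16330 : n25449 = n24793 := (((F47099).symm.trans (sb E16312 (iv5 D52441)))).symm
theorem E16331 : n28845 = n28751 := ((F47101).symm.trans (sb E16312 F161428))
theorem E16332 : n62107 = n61875 := (((D61875).symm.trans (sb E16313 D62107))).symm
theorem F164053 : act 7 n29315 = n28843 := (sb E16313 F47106)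
theorem E16333 : n106566 = n60811 := ((D106566).symm.trans (sb E16314 F96793))
theorem E16334 : n50978 = n27970 := ((((iv5 F77782)).symm.trans (sb E16314 F96794))).symm
theorem F164054 : act 2 n28750 = n29400 := (sb E16329 (iv2 D62100))
theorem E16337 : n50983 = n48679 := (((F76591).symm.trans (sb E16329 F96782))).symm
theorem E16338 : n60811 = n52437 := ((((iv7 F161437)).symm.trans (sb E16329 F96784))).symm
theorem E16339 : n50977 = n27943 := (((iv1 F82109)).symm.trans (sb E16318 (iv1 D58769)))
theorem E16340 : n50976 = n27973 := ((F82107).symm.trans (sb E16318 F92890))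
theorem F164055 : act 5 n51992 = n29314 := (sb E16318 (iv5 F92891))
theorem E16341 : n60544 = n29314 := ((D60544).symm.trans (sb E16319 (iv3 D61870)))
theorem E16342 : n106566 = n52437 := (E16333).trans E16338
theorem F164056 : act 3 n13983 = n29315 := (sb E16321 (iv3 D61873))
theorem F164057 : act 1 n13343 = n25230 := (sb E16322 (iv0 D51990))
theorem F164058 : act 2 n51991 = n27973 := (sb E16323 F92892)
theorem F164059 : act 5 n51991 = n28784 := (sb E16323 F92893)
theorem F164060 : act 6 n51991 = n27987 := (sb E16323 F92894)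
theorem F164061 : act 7 n51991 = n27943 := (sb E16323 (iv7 D58770))
theorem F164062 : act 0 n51993 = n58799 := (sb E16324 F164030)
theorem F164063 : act 0 n51994 = n58966 := (sb E16325 F93170)
theorem F164064 : act 1 n51994 = n58971 := (sb E16325 (iv0 F93173))
theorem E16343 : n52442 = n50985 := (((F82112).symm.trans (sb E16325 F93006))).symm
theorem F164065 : act 5 n24790 = n29315 := (sb E16326 F92889)
theorem E16344 : n48678 = n25227 := ((((iv6 F39741)).symm.trans (sb E16326 F92888))).symm
theorem F164066 : act 1 n28752 = n29400 := (sb E16327 (iv0 D62098))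
theorem F164067 : act 0 n28004 = n29400 := (sb E16328 (iv1 D62099))
theorem E16345 : n50981 = n12096 := ((D50981).symm.trans (sb E16330 (iv1 D25449)))
theorem E16346 : n50982 = n48680 := ((D50982).symm.trans (sb E16330 F76597))
theorem E16348 : n52440 = n50984 := (((D50984).symm.trans (sb E16330 D52440))).symm
theorem E16349 : n60547 = n13748 := ((D60547).symm.trans (sb E16331 (iv3 D28845)))
theorem E16350 : n60812 = n60548 := (((D60548).symm.trans (sb E16331 D60812))).symm
theorem E16351 : n60813 = n60549 := (((D60549).symm.trans (sb E16331 D60813))).symm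
theorem F164068 : act 7 n28751 = n29400 := (sb E16331 (iv7 F47101))
theorem F164069 : act 3 n61875 = n29404 := (sb E16332 F96800)
theorem F164070 : act 3 n52437 = n49243 := (sb E16342 (iv3 D106566))
theorem E16352 : n58827 = n25448 := ((((iv5 D52437)).symm.trans (sb E16342 F163829))).symm
theorem F164071 : act 0 n27970 = n51991 := (sb E16334 (iv1 F82108))
theorem F164072 : act 2 n27970 = n24790 := (sb E16334 (iv2 D50978))
theorem E16353 : n51988 = n25448 := (((E16352).symm.trans ((D58827).symm.trans (sb E16334 (iv3 F82096))))).symm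
theorem F164073 : act 7 n27970 = n51992 := (sb E16334 (iv7 F82106))
theorem E16354 : n51987 = n23733 := ((((iv1 D48679)).symm.trans (sb E16337 (iv1 F82100)))).symm
theorem E16355 : n51986 = n25450 := (((F76590).symm.trans (sb E16337 F82095))).symm
theorem F164074 : act 2 n48679 = n24793 := (sb E16337 (iv2 D50983))
theorem E16356 : n105296 = n51992 := ((D105296).symm.trans (sb E16337 (iv3 F82105)))
theorem F164075 : act 0 n27943 = n24790 := (sb E16339 (iv1 D50977))
theorem F164076 : act 1 n27943 = n51992 := (sb E16339 F82109)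
theorem F164077 : act 0 n27973 = n51992 := (sb E16340 (iv1 F82107))
theorem F164078 : act 1 n27973 = n24790 := (sb E16340 (iv0 D50976))
theorem F164079 : act 3 n29314 = n28750 := (sb E16341 (iv3 D60544))
theorem F164080 : act 0 n50985 = n59209 := (sb E16343 F93412)
theorem F164081 : act 1 n50985 = n59214 := (sb E16343 (iv0 F93416))
theorem F164082 : act 2 n50985 = n105298 := (sb E16343 F161425)
theorem E16358 : n105294 = n51989 := (((D51989).symm.trans (sb E16344 D105294))).symm
theorem F164083 : act 5 n25227 = n28751 := (sb E16344 F76589)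
theorem F164084 : act 1 n12096 = n24793 := (sb E16345 (iv0 D50981))
theorem F164085 : act 0 n48680 = n24793 := (sb E16346 (iv1 D50982))
theorem F164086 : act 2 n50984 = n105297 := (sb E16348 (iv2 F161447))
theorem F164087 : act 3 n13748 = n28751 := (sb E16349 (iv3 D60547))
theorem F164088 : act 7 n60548 = n62101 := (sb E16350 (iv7 F96789))
theorem F164089 : act 3 n60549 = n28847 := (sb E16351 F95378)
theorem E16359 : n52435 = n27970 := ((D52435).symm.trans (sb E16352 (iv3 D58827)))
theorem F164090 : act 2 n25448 = n25227 := (sb E16353 (iv2 D51988))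
theorem F164091 : act 0 n23733 = n25227 := (sb E16354 (iv1 D51987))
theorem F164092 : act 1 n25450 = n25227 := (sb E16355 (iv0 D51986))
theorem F164093 : act 3 n51992 = n48679 := (sb E16356 (iv3 D105296))
theorem F164094 : act 2 n51989 = n52436 := (sb E16358 F161444)
theorem F164095 : act 3 n27970 = n25448 := (sb E16359 (iv3 D52435))
theorem F164096 : act 2 n58828 = n50979 := d3_3 (iv6 F82102) F164094 (iv6 F93004)
theorem F164097 : act 4 n105289 = n50465 := d20_2 (iv4 F82775) (iv1 F161409) (iv3 D50465) (iv1 D24593) F18971 (iv4 F18984) D24603 (iv4 F79865) D25227 (iv1 F164092)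
theorem F164098 : act 4 n63726 = n60539 := d18_5 (iv1 F164092) (iv4 F82775) (iv1 F161409) F164097 (iv5 F99091) (iv0 D60539) F46382 D28751 (iv5 F164083)
theorem F164099 : act 0 n60510 = n61373 := d20_7 (iv4 F47425) (iv1 F79877) (iv4 D28846) F164087 (iv1 D28751) (iv3 F46369) (iv4 F95130) (iv4 D61373) (iv3 D29051) (iv1 F23435)
theorem F164100 : act 0 n52422 = n51625 := d20_7 (iv4 F38609) (iv1 F79860) (iv4 D24794) D24793 (iv1 F164084) (iv3 F40223) (iv4 F82771) (iv4 D51625) (iv3 D25076) (iv1 F19624)
theorem F164101 : act 0 n58793 = n50510 := d20_7 (iv4 F39365) (iv1 F39368) (iv4 F79869) D25230 (iv1 F164057) (iv3 F45190) (iv4 F92944) (iv4 D50510) (iv3 D24608) (iv1 F19626)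
theorem F164102 : act 0 n61841 = n62550 := d20_7 (iv4 F46691) (iv1 F79858) (iv4 D29403) F164056 (iv1 D29315) (iv3 F46944) (iv4 F96400) (iv4 D62550) (iv3 D29562) (iv1 F23433)
theorem F164103 : act 2 n62101 = n60545 := d1_3 (iv4 D60545) F164054 D62101
theorem F164104 : act 4 n106561 = n61328 := d20_2 (iv4 F96440) (iv1 F163817) (iv3 D61328) (iv1 D29031) F23074 (iv4 F23088) (iv1 F79875) (iv4 D28844) D28843 (iv1 F164050)
theorem F164105 : act 4 n106550 = n62512 := d20_0 (iv1 F99088) F99084 (iv3 F83842) (iv1 F83845) D61328 (iv4 F164104) (iv1 D106561) F77779 (iv3 F77766) D106550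
theorem E16360 : n62551 = n14226 := (c20_5 (iv4 F47094) (iv1 F47097) F80084 D29564 D62551 (iv3 F37627) (iv4 F77883) (iv1 F164047) (iv4 D60806) (iv3 D28843) (iv1 F23308))
theorem E16361 : n61372 = n29955 := (((D29955).symm.trans (sb E16360 (iv1 F97525)))).symm
theorem E16362 : n29956 = n29564 := ((D29956).symm.trans (sb E16360 (iv0 D62551)))
theorem E16363 : n62552 = n51473 := (((F81252).symm.trans (sb E16361 (iv1 F97530)))).symm
theorem E16364 : n63406 = n29051 := ((D63406).symm.trans (sb E16361 (iv2 D61372)))
theorem E16365 : n63407 = n62549 := ((D63407).symm.trans (sb E16361 (iv3 F97516)))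
theorem E16366 : n50517 = n50150 := (((F79450).symm.trans (sb E16361 F95865))).symm
theorem E16367 : n62549 = n29808 := ((((iv6 F79451)).symm.trans (sb E16361 (iv6 F97518)))).symm
theorem E16368 : n63409 = n62553 := ((D63409).symm.trans (sb E16361 (iv7 F97528)))
theorem F164106 : act 0 n29564 = n14226 := (sb E16362 (iv1 D29956))
theorem E16372 : n63412 = n62555 := (((D62555).symm.trans (sb E16362 D63412))).symm
theorem F164107 : act 0 n51473 = n29564 := (sb E16363 (iv1 D62552))
theorem F164108 : act 2 n29051 = n29955 := (sb E16364 (iv2 D63406))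
theorem E16373 : n63013 = n29562 := ((((iv6 F47431)).symm.trans (sb E16364 F98716))).symm
theorem E16374 : n63407 = n29808 := (E16365).trans E16367
theorem E16375 : n63014 = n29955 := ((D63014).symm.trans (sb E16374 (iv3 D63407)))
theorem E16376 : n51623 = n24460 := ((((iv1 D50150)).symm.trans (sb E16366 (iv1 F81482)))).symm
theorem E16377 : n51622 = n24498 := (((F79449).symm.trans (sb E16366 F81477))).symm
theorem F164110 : act 3 n50150 = n51629 := (sb E16366 (iv3 F81489))
theorem F164111 : act 7 n50150 = n51624 := (sb E16366 (iv7 F81480))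
theorem E16380 : n51629 = n51323 := (((F80977).symm.trans (sb E16367 F97517))).symm
theorem E16381 : n63016 = n61377 := ((D63016).symm.trans (sb E16367 F97519))
theorem F164112 : act 7 n62553 = n29955 := (sb E16368 (iv7 D63409))
theorem F164113 : act 0 n62555 = n63534 := (sb E16372 F98850)
theorem F164114 : act 1 n62555 = n63539 := (sb E16372 (iv0 F98855))
theorem E16383 : n63019 = n61379 := (((F97534).symm.trans (sb E16372 F98721))).symm
theorem F164115 : act 2 n29562 = n29808 := (sb E16373 (iv2 D63013))
theorem E16384 : n29809 = n29053 := (((F47432).symm.trans (sb E16373 (iv7 F98325)))).symm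
theorem F164116 : act 3 n29955 = n29808 := (sb E16375 (iv3 D63014))
theorem F164117 : act 0 n24460 = n25076 := (sb E16376 (iv1 D51623))
theorem F164118 : act 1 n24498 = n25076 := (sb E16377 (iv0 D51622))
theorem E16385 : n50508 = n24956 := ((((iv1 D51323)).symm.trans (sb E16380 (iv1 F81493)))).symm
theorem E16386 : n50507 = n24982 := (((F80976).symm.trans (sb E16380 F81491))).symm
theorem F164120 : act 3 n51323 = n50150 := (sb E16380 (iv3 F164110))
theorem F164121 : act 7 n51323 = n50509 := (sb E16380 F81490)
theorem F164122 : act 7 n61377 = n29808 := (sb E16381 (iv7 D63016))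
theorem F164123 : act 0 n61379 = n63153 := (sb E16383 F98426)
theorem F164124 : act 1 n61379 = n63158 := (sb E16383 (iv0 F98723))
theorem F164125 : act 0 n29053 = n14164 := (sb E16384 (iv1 D29809))
theorem F164126 : act 1 n29053 = n50344 := (sb E16384 F79724)
theorem F164127 : act 0 n24956 = n24608 := (sb E16385 (iv1 D50508))
theorem F164128 : act 1 n24982 = n24608 := (sb E16386 (iv0 D50507))
theorem E16389 : n105190 = n50984 := (c20_8 (iv4 F19089) F80096 (iv4 D24609) D24608 (iv1 F164128) (iv3 F40171) (iv4 F82661) (iv1 F161115) (iv4 D50984) (iv3 D24793) (iv1 D11736))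
theorem F164129 : act 0 n50984 = n48640 := (sb E16389 (iv1 D105190))
theorem F164130 : act 1 n50984 = n52284 := (sb E16389 F161115)
theorem E16390 : n105189 = n52436 := (c15_2 F164130 F161120 (iv7 F161443) (iv2 F164086))
theorem F164131 : act 0 n52436 = n52284 := (sb E16390 (iv1 F161120))
theorem F164132 : act 1 n52436 = n48640 := (sb E16390 (iv0 D105189))
theorem F164133 : act 0 n62979 = n62101 := d18_2 (iv1 D62981) (iv4 F98278) (iv4 D62101) F47099 D50984 F164130 F82661 F76507 F98282
theorem F164134 : act 4 n50923 = n105194 := d20_8 (iv4 F82661) (iv1 F164130) (iv4 D50984) (iv3 D24793) (iv1 D11736) (iv3 F19066) (iv4 F38756) D50923 (iv3 D105194) (iv1 F76507)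
theorem F164135 : act 2 n63015 = n62550 := d1_3 (iv4 D62550) F164115 D63015
theorem F164136 : act 2 n61373 = n63408 := d3_3 F98719 F164135 F97523
theorem F164137 : act 1 n63727 = n106549 := d15_0 (iv0 F164045) F99985 (iv2 F99986)
theorem F164138 : act 2 n62517 = n63687 := d15_3 (iv0 D63687) D63688 F163880
def n106582 : Q := act 0 n49252
theorem D106582 : act 0 n49252 = n106582 := rfl
theorem F164139 : act 1 n61933 = n106582 := d15_0 (iv0 D106582) F77815 D61933
def n106583 : Q := act 1 n49252
theorem D106583 : act 1 n49252 = n106583 := rfl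
def n106584 : Q := act 2 n49252
theorem D106584 : act 2 n49252 = n106584 := rfl
theorem F164140 : act 3 n106584 = n61909 := d0_2 D49252 D106584 (iv2 D61909) (iv3 D29332) (iv2 F37584)
theorem F164141 : act 4 n106584 = n63755 := d1_2 (iv4 F77814) D106584 (iv2 D63755)
theorem F164142 : act 7 n106584 = n61933 := d4_2 (iv7 F77815) D106584 (iv2 D61933)
theorem F164143 : act 1 n106584 = n61931 := d15_0 (iv0 D61931) (iv7 F77815) D106584
theorem F164144 : act 1 n106583 = n61933 := d15_1 D106583 (iv7 F164142) (iv2 D106584)
theorem F164145 : act 1 n61932 = n106584 := d15_1 D61932 F164142 (iv2 D61933)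
def n106585 : Q := act 5 n49252
theorem D106585 : act 5 n49252 = n106585 := rfl
theorem F164146 : act 3 n106585 = n49253 := d6_1 D106585 (iv5 D49253) D49252
theorem F164147 : act 7 n106585 = n61934 := d13_2 (iv7 F77815) D106585 (iv5 D61934)
def n106586 : Q := act 6 n49252
theorem D106586 : act 6 n49252 = n106586 := rfl
theorem F164148 : act 3 n106586 = n49254 := d7_1 D106586 (iv6 D49254) D49252
theorem F164149 : act 4 n106586 = n63757 := d10_1 D106586 (iv6 D63757) (iv4 F77814)
def n106587 : Q := act 6 n49253
theorem D106587 : act 6 n49253 = n106587 := rfl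
theorem F164150 : act 2 n106587 = n61914 := d3_1 D106587 (iv6 D61914) (iv2 F77816)
theorem F164151 : act 4 n106587 = n49306 := d10_1 D106587 (iv6 D49306) (iv4 F77818)
def n106588 : Q := act 0 n49254
theorem D106588 : act 0 n49254 = n106588 := rfl
def n106589 : Q := act 1 n49254
theorem D106589 : act 1 n49254 = n106589 := rfl
theorem F164152 : act 1 n106589 = n61918 := d15_1 D106589 (iv7 D61918) (iv2 F77819)
theorem F164153 : act 4 n106589 = n63171 := d20_2 (iv4 F96521) (iv1 F164152) (iv3 D63171) (iv1 D29865) F23698 (iv4 F23036) (iv1 F53622) (iv4 D28904) D28903 F100246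
theorem F164154 : act 4 n106579 = n63543 := d20_0 (iv1 F99108) F99104 (iv3 F83855) (iv1 F83856) D63171 (iv4 F164153) (iv1 D106589) F77820 (iv3 F77812) D106579
def n106590 : Q := act 5 n49254
theorem D106590 : act 5 n49254 = n106590 := rfl
theorem F164155 : act 2 n106590 = n61917 := d2_1 D106590 (iv5 D61917) (iv2 F77819)
def n106591 : Q := act 7 n49254
theorem D106591 : act 7 n49254 = n106591 := rfl
theorem F164156 : act 2 n106591 = n61918 := d4_1 D106591 (iv7 D61918) (iv2 F77819)
theorem F164157 : act 4 n106591 = n49257 := d11_1 D106591 (iv7 D49257) (iv4 F77820)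
theorem F164158 : act 6 n106591 = n61940 := d14_1 D106591 (iv7 D61940) (iv6 D29341) (iv7 F37585) D49254
theorem F164159 : act 1 n61918 = n106588 := d15_0 (iv0 D106588) D106591 F164156
theorem F164160 : act 1 n61916 = n106591 := d15_1 D61916 (iv7 D106591) F77819
theorem F164161 : act 1 n106591 = n61915 := d15_0 (iv0 D61915) D61918 (iv2 F164156)
def n106592 : Q := act 4 n49256
theorem D106592 : act 4 n49256 = n106592 := rfl
theorem F164162 : act 2 n106592 = n61925 := d1_1 D106592 (iv4 D61925) (iv2 F100243)
theorem F164163 : act 7 n106592 = n61921 := d11_2 (iv7 F100245) D106592 (iv4 D61921)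
theorem F164164 : act 1 n49267 = n106592 := d15_1 (iv0 F164014) F164163 (iv2 F100235)
theorem F164165 : act 1 n106592 = n61958 := d15_1 F164164 (iv7 D61958) (iv2 F77850)
def n106593 : Q := act 6 n49256
theorem D106593 : act 6 n49256 = n106593 := rfl
theorem F164166 : act 2 n106593 = n61927 := d3_1 D106593 (iv6 D61927) (iv2 F100243)
theorem F164167 : act 5 n106593 = n67618 := d12_1 D106593 F103629 (iv5 D51252) D51253 F80845
theorem F164168 : act 0 n106593 = n51203 := d21_10 (iv5 D51203) (iv1 F45813) (iv5 F80788) D60573 (iv1 F96409) (iv6 F103528) (iv5 F103525) F103526 F80845 D106593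
theorem F164169 : act 0 n51208 = n106593 := d21_4 (iv5 F96446) F96588 (iv5 D62001) F80786 (iv6 D106593) (iv5 F80845) F96449 (iv5 F95137) (iv6 F95282) F96448
def n106594 : Q := act 0 n49258
theorem D106594 : act 0 n49258 = n106594 := rfl
def n106595 : Q := act 1 n49258
theorem D106595 : act 1 n49258 = n106595 := rfl
def n106596 : Q := act 7 n49258
theorem D106596 : act 7 n49258 = n106596 := rfl
theorem F164170 : act 3 n106596 = n49264 := d8_1 D106596 (iv7 D49264) (iv3 F77827)
theorem F164171 : act 4 n106596 = n63118 := d11_1 D106596 (iv7 D63118) (iv4 F77828)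
theorem F164172 : act 5 n106596 = n52425 := d13_1 D106596 (iv7 D52425) (iv5 F77829)
theorem F164173 : act 6 n106596 = n61906 := d14_1 D106596 (iv7 D61906) (iv6 D29331) (iv7 F37589) D49258
def n106597 : Q := act 0 n49259
theorem D106597 : act 0 n49259 = n106597 := rfl
theorem F164174 : act 1 n61909 = n106597 := d15_0 (iv0 D106597) F77831 D61909
def n106598 : Q := act 1 n49259
theorem D106598 : act 1 n49259 = n106598 := rfl
def n106599 : Q := act 2 n49259
theorem D106599 : act 2 n49259 = n106599 := rfl
theorem F164175 : act 3 n106599 = n61933 := d0_2 D49259 D106599 (iv2 D61933) (iv3 D29339) (iv2 F37592)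
theorem F164176 : act 4 n106599 = n63111 := d1_2 (iv4 F77830) D106599 (iv2 D63111)
theorem F164177 : act 7 n106599 = n61909 := d4_2 (iv7 F77831) D106599 (iv2 D61909)
theorem F164178 : act 1 n106599 = n61907 := d15_0 (iv0 D61907) (iv7 F77831) D106599
theorem F164179 : act 1 n106598 = n61909 := d15_1 D106598 (iv7 F164177) (iv2 D106599)
theorem F164180 : act 1 n61908 = n106599 := d15_1 D61908 F164177 (iv2 D61909)
def n106600 : Q := act 5 n49259
theorem D106600 : act 5 n49259 = n106600 := rfl
theorem F164181 : act 3 n106600 = n49260 := d6_1 D106600 (iv5 D49260) D49259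
theorem F164182 : act 7 n106600 = n61910 := d13_2 (iv7 F77831) D106600 (iv5 D61910)
def n106601 : Q := act 6 n49259
theorem D106601 : act 6 n49259 = n106601 := rfl
theorem F164183 : act 3 n106601 = n49261 := d7_1 D106601 (iv6 D49261) D49259
theorem F164184 : act 4 n106601 = n63113 := d10_1 D106601 (iv6 D63113) (iv4 F77830)
def n106602 : Q := act 6 n49260
theorem D106602 : act 6 n49260 = n106602 := rfl
theorem F164185 : act 2 n106602 = n61936 := d3_1 D106602 (iv6 D61936) (iv2 F77832)
theorem F164186 : act 4 n106602 = n49305 := d10_1 D106602 (iv6 D49305) (iv4 F77833)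
def n106603 : Q := act 0 n49261
theorem D106603 : act 0 n49261 = n106603 := rfl
def n106604 : Q := act 1 n49261
theorem D106604 : act 1 n49261 = n106604 := rfl
theorem F164187 : act 1 n106604 = n61940 := d15_1 D106604 (iv7 D61940) (iv2 F77835)
def n106605 : Q := act 5 n49261
theorem D106605 : act 5 n49261 = n106605 := rfl
theorem F164188 : act 2 n106605 = n61939 := d2_1 D106605 (iv5 D61939) (iv2 F77835)
def n106606 : Q := act 7 n49261
theorem D106606 : act 7 n49261 = n106606 := rfl
theorem F164189 : act 2 n106606 = n61940 := d4_1 D106606 (iv7 D61940) (iv2 F77835)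
theorem F164190 : act 4 n106606 = n49264 := d11_1 D106606 (iv7 D49264) (iv4 F77836)
theorem F164191 : act 6 n106606 = n61918 := d14_1 D106606 (iv7 D61918) (iv6 D29334) (iv7 F37593) D49261
theorem F164192 : act 1 n61940 = n106603 := d15_0 (iv0 D106603) D106606 F164189
theorem F164193 : act 1 n61938 = n106606 := d15_1 D61938 (iv7 D106606) F77835
theorem F164194 : act 1 n106606 = n61937 := d15_0 (iv0 D61937) D61940 (iv2 F164189)
def n106607 : Q := act 3 n49262
theorem D106607 : act 3 n49262 = n106607 := rfl
def n106608 : Q := act 4 n49262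
theorem D106608 : act 4 n49262 = n106608 := rfl
theorem F164196 : act 2 n106608 = n61943 := d1_1 D106608 (iv4 D61943) (iv2 F103379)
theorem F164198 : act 0 n106608 = n61968 := d18_2 D49262 D106608 F96561 F78013 (iv4 F82661) (iv0 F164131) (iv4 D52436) (iv0 D25448) (iv5 F37596)
theorem F164199 : act 4 n63477 = n63116 := d20_6 D106608 F164198 F96561 (iv3 F81128) (iv1 F81131) D63477 (iv1 D63116) (iv4 F77828) F77827 D49262
def n106609 : Q := act 6 n49262
theorem D106609 : act 6 n49262 = n106609 := rfl
theorem F164200 : act 2 n106609 = n61944 := d3_1 D106609 (iv6 D61944) (iv2 F103379)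
theorem F164201 : act 0 n106609 = n62006 := d21_4 (iv5 F45172) D58782 F92922 D106609 (iv6 D62006) D62005 F96590 F96446 (iv6 D60549) (iv1 D28751)
theorem F164202 : act 5 n106609 = n61897 := d21_6 (iv5 F23233) F18578 F18366 D24041 D49262 D106609 (iv1 D61897) (iv5 D29327) (iv6 D13953) (iv1 F23231)
theorem F164203 : act 0 n105665 = n106609 := d21_4 (iv5 D28299) D28297 D59635 (iv6 F162261) (iv6 D106609) (iv5 F92922) (iv1 F92929) (iv5 F93125) F93126 (iv1 F46405)
def n106611 : Q := act 4 n49263
theorem D106611 : act 4 n49263 = n106611 := rfl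
theorem F164205 : act 2 n106611 = n61947 := d1_1 D106611 (iv4 D61947) (iv2 F103367)
theorem F164206 : act 7 n106611 = n61943 := d11_2 (iv7 F103368) D106611 (iv4 D61943)
theorem F164207 : act 0 n106611 = n49270 := d18_2 (iv1 F77837) D106611 F77857 F37729 (iv4 F76503) (iv0 F164129) (iv4 D50984) (iv0 F164085) F76594
theorem F164208 : act 1 n106611 = n61968 := d15_1 (iv0 F164207) (iv7 D61968) (iv2 F77856)
theorem F164209 : act 1 n106608 = n49270 := d15_0 (iv0 F164207) F164206 (iv2 F164196)
def n106612 : Q := act 0 n49265
theorem D106612 : act 0 n49265 = n106612 := rfl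
theorem F164210 : act 1 n61961 = n106612 := d15_0 (iv0 D106612) F77846 D61961
def n106613 : Q := act 1 n49265
theorem D106613 : act 1 n49265 = n106613 := rfl
def n106614 : Q := act 2 n49265
theorem D106614 : act 2 n49265 = n106614 := rfl
theorem F164211 : act 3 n106614 = n61950 := d0_2 D49265 D106614 (iv2 D61950) (iv3 D29345) F37598
theorem F164212 : act 4 n106614 = n63440 := d1_2 (iv4 F77845) D106614 (iv2 D63440)
theorem F164213 : act 7 n106614 = n61961 := d4_2 (iv7 F77846) D106614 (iv2 D61961)
theorem F164214 : act 1 n106614 = n61959 := d15_0 (iv0 D61959) (iv7 F77846) D106614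
theorem F164215 : act 1 n106613 = n61961 := d15_1 D106613 (iv7 F164213) (iv2 D106614)
theorem F164216 : act 1 n61960 = n106614 := d15_1 D61960 F164213 (iv2 D61961)
def n106615 : Q := act 5 n49265
theorem D106615 : act 5 n49265 = n106615 := rfl
theorem F164217 : act 3 n106615 = n49266 := d6_1 D106615 (iv5 D49266) D49265
theorem F164218 : act 7 n106615 = n61962 := d13_2 (iv7 F77846) D106615 (iv5 D61962)
def n106616 : Q := act 6 n49265
theorem D106616 : act 6 n49265 = n106616 := rfl
theorem F164219 : act 3 n106616 = n49267 := d7_1 D106616 (iv6 D49267) D49265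
theorem F164220 : act 4 n106616 = n63442 := d10_1 D106616 (iv6 D63442) (iv4 F77845)
def n106617 : Q := act 6 n49266
theorem D106617 : act 6 n49266 = n106617 := rfl
theorem F164221 : act 2 n106617 = n61954 := d3_1 D106617 (iv6 D61954) (iv2 F77847)
theorem F164222 : act 4 n106617 = n49301 := d10_1 D106617 (iv6 D49301) (iv4 F77849)
def n106618 : Q := act 5 n49267
theorem D106618 : act 5 n49267 = n106618 := rfl
theorem F164223 : act 2 n106618 = n61957 := d2_1 D106618 (iv5 D61957) (iv2 F77850)
def n106619 : Q := act 7 n49267
theorem D106619 : act 7 n49267 = n106619 := rfl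
theorem F164224 : act 2 n106619 = n61958 := d4_1 D106619 (iv7 D61958) (iv2 F77850)
theorem F164225 : act 4 n106619 = n49360 := d11_1 D106619 (iv7 D49360) (iv4 F77851)
theorem F164226 : act 6 n106619 = n61968 := d14_1 D106619 (iv7 D61968) (iv6 D29350) F37599 D49267
theorem F164227 : act 1 n61925 = n106619 := d15_1 (iv0 F103751) (iv7 D106619) F77850
theorem F164228 : act 1 n106619 = n61921 := d15_1 F164227 (iv7 F164163) F164162
def n106620 : Q := act 0 n49268
theorem D106620 : act 0 n49268 = n106620 := rfl
theorem F164229 : act 1 n61950 = n106620 := d15_0 (iv0 D106620) F77852 D61950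
def n106621 : Q := act 1 n49268
theorem D106621 : act 1 n49268 = n106621 := rfl
def n106622 : Q := act 2 n49268
theorem D106622 : act 2 n49268 = n106622 := rfl
theorem F164230 : act 3 n106622 = n61961 := d0_2 D49268 D106622 (iv2 D61961) (iv3 D29348) F37604
theorem F164231 : act 7 n106622 = n61950 := d4_2 (iv7 F77852) D106622 (iv2 D61950)
theorem F164232 : act 1 n106622 = n61948 := d15_0 (iv0 D61948) (iv7 F77852) D106622
theorem F164233 : act 1 n106621 = n61950 := d15_1 D106621 (iv7 F164231) (iv2 D106622)
theorem F164234 : act 1 n61949 = n106622 := d15_1 D61949 F164231 (iv2 D61950)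
def n106623 : Q := act 5 n49268
theorem D106623 : act 5 n49268 = n106623 := rfl
theorem F164235 : act 3 n106623 = n49269 := d6_1 D106623 (iv5 D49269) D49268
theorem F164236 : act 7 n106623 = n61951 := d13_2 (iv7 F77852) D106623 (iv5 D61951)
def n106624 : Q := act 6 n49268
theorem D106624 : act 6 n49268 = n106624 := rfl
theorem F164237 : act 3 n106624 = n49270 := d7_1 D106624 (iv6 D49270) D49268
def n106625 : Q := act 6 n49269
theorem D106625 : act 6 n49269 = n106625 := rfl
theorem F164238 : act 2 n106625 = n61964 := d3_1 D106625 (iv6 D61964) (iv2 F77853)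
theorem F164239 : act 4 n106625 = n49295 := d10_1 D106625 (iv6 D49295) (iv4 F77854)
def n106626 : Q := act 5 n49270
theorem D106626 : act 5 n49270 = n106626 := rfl
theorem F164240 : act 2 n106626 = n61967 := d2_1 D106626 (iv5 D61967) (iv2 F77856)
def n106627 : Q := act 7 n49270
theorem D106627 : act 7 n49270 = n106627 := rfl
theorem F164241 : act 2 n106627 = n61968 := d4_1 D106627 (iv7 D61968) (iv2 F77856)
theorem F164242 : act 4 n106627 = n49363 := d11_1 D106627 (iv7 D49363) (iv4 F77857)
theorem F164243 : act 6 n106627 = n61958 := d14_1 D106627 (iv7 D61958) (iv6 D29347) (iv7 F37602) D49270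
theorem F164244 : act 1 n61966 = n106627 := d15_1 D61966 (iv7 D106627) F77856
theorem F164245 : act 1 n106627 = n61965 := d15_0 (iv0 D61965) D61968 (iv2 F164241)
def n106628 : Q := act 0 n49271
theorem D106628 : act 0 n49271 = n106628 := rfl
theorem F164246 : act 2 n49275 = n106628 := d15_3 (iv0 D106628) (iv0 D49271) D49275
theorem F164247 : act 3 n106628 = n61969 := d0_2 (iv3 F77861) F164246 (iv2 F96562) F47007 (iv2 F37608)
theorem F164248 : act 5 n106628 = n106532 := d2_2 (iv5 F77862) F164246 (iv2 D106532)
theorem F164249 : act 7 n106628 = n49273 := d4_2 D49275 F164246 (iv2 D49273)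
theorem F164250 : act 1 n49272 = n106628 := d15_1 D49272 F164249 (iv2 D49273)
def n106629 : Q := act 2 n49271
theorem D106629 : act 2 n49271 = n106629 := rfl
theorem F164251 : act 7 n49272 = n106629 := d15_2 (iv0 D49271) D49272 (iv2 D106629)
def n106630 : Q := act 3 n49271
theorem D106630 : act 3 n49271 = n106630 := rfl
def n106631 : Q := act 4 n49271
theorem D106631 : act 4 n49271 = n106631 := rfl
def n106632 : Q := act 5 n49271
theorem D106632 : act 5 n49271 = n106632 := rfl
def n106633 : Q := act 6 n49271
theorem D106633 : act 6 n49271 = n106633 := rfl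
def n106634 : Q := act 7 n49271
theorem D106634 : act 7 n49271 = n106634 := rfl
theorem F164252 : act 2 n106634 = n49272 := d4_1 D106634 F164251 (iv2 D106629)
def n106635 : Q := act 3 n49272
theorem D106635 : act 3 n49272 = n106635 := rfl
def n106636 : Q := act 4 n49272
theorem D106636 : act 4 n49272 = n106636 := rfl
def n106637 : Q := act 5 n49272
theorem D106637 : act 5 n49272 = n106637 := rfl
def n106638 : Q := act 6 n49272
theorem D106638 : act 6 n49272 = n106638 := rfl
def n106639 : Q := act 0 n49273
theorem D106639 : act 0 n49273 = n106639 := rfl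
theorem F164253 : act 1 n49275 = n106639 := d15_0 (iv0 D106639) (iv7 F164249) (iv2 F164246)
def n106640 : Q := act 1 n49273
theorem D106640 : act 1 n49273 = n106640 := rfl
theorem F164254 : act 1 n106640 = n49275 := d15_1 D106640 (iv7 D49275) D49273
def n106641 : Q := act 5 n49273
theorem D106641 : act 5 n49273 = n106641 := rfl
theorem F164255 : act 2 n106641 = n49274 := d2_1 D106641 (iv5 D49274) D49273
theorem F164256 : act 3 n106641 = n61982 := d6_1 D106641 (iv5 D61982) (iv3 F77858)
theorem F164257 : act 7 n106641 = n106532 := d13_2 F164249 D106641 (iv5 F164248)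
theorem F164258 : act 1 n106531 = n106641 := d15_1 D106531 F164257 (iv2 D106532)
theorem F164259 : act 1 n106641 = n106530 := d15_0 (iv0 D106530) F77860 (iv2 F164255)
def n106642 : Q := act 0 n49274
theorem D106642 : act 0 n49274 = n106642 := rfl
theorem F164260 : act 1 n106532 = n106642 := d15_0 (iv0 D106642) (iv7 F77860) D106532
def n106643 : Q := act 1 n49274
theorem D106643 : act 1 n49274 = n106643 := rfl
theorem F164261 : act 1 n106643 = n106532 := d15_1 D106643 (iv7 F164257) F164255
def n106644 : Q := act 4 n49274
theorem D106644 : act 4 n49274 = n106644 := rfl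
theorem F164262 : act 3 n106644 = n52145 := d5_1 D106644 F82427 (iv3 F40037) (iv4 F37606) (iv3 F77859)
theorem F164263 : act 7 n106644 = n106515 := d11_2 F77860 D106644 F163776
theorem F164264 : act 5 n52144 = n106644 := d13_3 F164263 F163777 (iv7 F82425)
def n106645 : Q := act 6 n49274
theorem D106645 : act 6 n49274 = n106645 := rfl
theorem F164265 : act 3 n106645 = n49278 := d7_1 D106645 (iv6 D49278) (iv3 F77859)
def n106646 : Q := act 6 n49275
theorem D106646 : act 6 n49275 = n106646 := rfl
theorem F164266 : act 3 n106646 = n49279 := d7_1 D106646 (iv6 D49279) (iv3 F77861)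
def n106647 : Q := act 3 n49276
theorem D106647 : act 3 n49276 = n106647 := rfl
theorem F164267 : act 5 n106647 = n49281 := d6_2 (iv5 F77863) D106647 (iv3 D49281)
theorem F164268 : act 7 n106647 = n61990 := d8_2 F77867 D106647 (iv3 D61990)
def n106648 : Q := act 6 n49276
theorem D106648 : act 6 n49276 = n106648 := rfl
theorem F164269 : act 2 n106648 = n61989 := d3_1 D106648 (iv6 D61989) F77866
theorem F164270 : act 4 n106648 = n49294 := d10_1 D106648 (iv6 D49294) (iv4 F77864)
def n106649 : Q := act 3 n49277
theorem D106649 : act 3 n49277 = n106649 := rfl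
theorem F164271 : act 5 n106649 = n49288 := d6_2 (iv5 F77870) D106649 (iv3 D49288)
theorem F164272 : act 7 n106649 = n61988 := d8_2 (iv7 F77869) D106649 (iv3 D61988)
def n106650 : Q := act 6 n49277
theorem D106650 : act 6 n49277 = n106650 := rfl
theorem F164273 : act 2 n106650 = n61991 := d3_1 D106650 (iv6 D61991) F77872
theorem F164274 : act 4 n106650 = n49287 := d10_1 D106650 (iv6 D49287) (iv4 F77871)
def n106651 : Q := act 0 n49278
theorem D106651 : act 0 n49278 = n106651 := rfl
def n106652 : Q := act 1 n49278
theorem D106652 : act 1 n49278 = n106652 := rfl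
theorem F164275 : act 1 n106652 = n61994 := d15_1 D106652 (iv7 D61994) (iv2 F77873)
def n106653 : Q := act 7 n49278
theorem D106653 : act 7 n49278 = n106653 := rfl
theorem F164276 : act 2 n106653 = n61994 := d4_1 D106653 (iv7 D61994) (iv2 F77873)
theorem F164277 : act 4 n106653 = n106544 := d11_1 D106653 F163791 (iv4 F77874)
theorem F164278 : act 6 n106653 = n106537 := d14_1 D106653 (iv7 D106537) (iv6 D49230) F37607 D49278
theorem F164279 : act 1 n61994 = n106651 := d15_0 (iv0 D106651) D106653 F164276
theorem F164280 : act 1 n61993 = n106653 := d15_1 D61993 (iv7 D106653) F77873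
theorem F164281 : act 1 n106653 = n61992 := d15_0 (iv0 D61992) D61994 (iv2 F164276)
def n106654 : Q := act 5 n49279
theorem D106654 : act 5 n49279 = n106654 := rfl
theorem F164282 : act 2 n106654 = n61997 := d2_1 D106654 (iv5 D61997) (iv2 F77875)
theorem F164283 : act 6 n106654 = n106536 := d12_2 D49279 D106654 (iv5 D106536) (iv6 D49230) (iv5 F37610)
def n106655 : Q := act 0 n49280
theorem D106655 : act 0 n49280 = n106655 := rfl
def n106656 : Q := act 1 n49280
theorem D106656 : act 1 n49280 = n106656 := rfl
theorem F164284 : act 1 n106656 = n62606 := d15_1 D106656 (iv7 D62606) (iv2 F77877)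
def n106657 : Q := act 7 n49280
theorem D106657 : act 7 n49280 = n106657 := rfl
theorem F164285 : act 2 n106657 = n62606 := d4_1 D106657 (iv7 D62606) (iv2 F77877)
theorem F164286 : act 3 n106657 = n62635 := d8_1 D106657 (iv7 D62635) (iv3 F77878)
theorem F164287 : act 5 n106657 = n52160 := d13_1 D106657 (iv7 D52160) (iv5 F77879)
theorem F164288 : act 6 n106657 = n49542 := d14_1 D106657 (iv7 D49542) F37887 F37619 D49280
theorem F164289 : act 1 n62606 = n106655 := d15_0 (iv0 D106655) D106657 F164285
theorem F164290 : act 1 n62604 = n106657 := d15_1 D62604 (iv7 D106657) F77877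
theorem F164291 : act 1 n106657 = n62603 := d15_0 (iv0 D62603) D62606 (iv2 F164285)
def n106658 : Q := act 0 n49281
theorem D106658 : act 0 n49281 = n106658 := rfl
theorem F164292 : act 1 n106475 = n106658 := d15_0 (iv0 D106658) F77881 D106475
def n106659 : Q := act 1 n49281
theorem D106659 : act 1 n49281 = n106659 := rfl
def n106660 : Q := act 2 n49281
theorem D106660 : act 2 n49281 = n106660 := rfl
theorem F164293 : act 3 n106660 = n106455 := d0_2 D49281 D106660 (iv2 D106455) (iv3 D49187) (iv2 F37624)
theorem F164294 : act 4 n106660 = n63398 := d1_2 (iv4 F77880) D106660 (iv2 D63398)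
theorem F164295 : act 7 n106660 = n106475 := d4_2 (iv7 F77881) D106660 (iv2 D106475)
theorem F164296 : act 1 n106660 = n106473 := d15_0 (iv0 D106473) (iv7 F77881) D106660
theorem F164297 : act 1 n106659 = n106475 := d15_1 D106659 (iv7 F164295) (iv2 D106660)
theorem F164298 : act 1 n106474 = n106660 := d15_1 D106474 F164295 (iv2 D106475)
def n106661 : Q := act 6 n49281
theorem D106661 : act 6 n49281 = n106661 := rfl
theorem F164299 : act 3 n106661 = n49282 := d7_1 D106661 (iv6 D49282) D49281
theorem F164300 : act 4 n106661 = n63400 := d10_1 D106661 (iv6 D63400) (iv4 F77880)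
def n106662 : Q := act 5 n49282
theorem D106662 : act 5 n49282 = n106662 := rfl
theorem F164301 : act 2 n106662 = n106459 := d2_1 D106662 (iv5 D106459) (iv2 F77882)
def n106663 : Q := act 7 n49282
theorem D106663 : act 7 n49282 = n106663 := rfl
theorem F164302 : act 2 n106663 = n106460 := d4_1 D106663 (iv7 D106460) (iv2 F77882)
theorem F164303 : act 4 n106663 = n49285 := d11_1 D106663 (iv7 D49285) (iv4 F77883)
theorem F164304 : act 6 n106663 = n106478 := d14_1 D106663 (iv7 D106478) (iv6 D49197) (iv7 F37625) D49282
theorem F164305 : act 1 n61874 = n106663 := d15_1 (iv0 F164036) (iv7 D106663) F77882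
theorem F164306 : act 1 n106663 = n61871 := d15_1 F164305 (iv7 F163832) F163831
theorem F164307 : act 0 n50188 = n50979 := d18_2 (iv1 D50190) (iv4 F79539) (iv4 D50979) F164065 D61874 F164305 F164303 F77891 F79542
theorem F164308 : act 4 n62043 = n106462 := d20_8 (iv4 F164303) (iv1 F164305) (iv4 D61874) (iv3 F164056) (iv1 D13983) (iv3 F23273) (iv4 F47060) D62043 (iv3 D106462) (iv1 F77891)
theorem E16391 : n61370 = n29957 := (c20_5 (iv4 F23297) (iv1 F80100) (iv4 D29052) D29051 D61370 (iv3 F77886) (iv4 F164303) (iv1 F164305) (iv4 D61874) (iv3 F164056) (iv1 D13983))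
theorem E16392 : n62553 = n50231 := ((((iv1 F79582)).symm.trans (sb E16391 (iv1 F97529)))).symm
theorem E16393 : n50235 = n29051 := ((F81250).symm.trans (sb E16391 (iv0 D61370)))
theorem E16394 : n61371 = n25014 := (((F79580).symm.trans (sb E16392 (iv1 F97531)))).symm
theorem F164309 : act 2 n50231 = n29564 := (sb E16392 (iv2 D62553))
theorem F164310 : act 3 n50231 = n61377 := (sb E16392 F97526)
theorem E16395 : n51624 = n24495 := ((((iv5 D50231)).symm.trans (sb E16392 F97527))).symm
theorem F164311 : act 7 n50231 = n29955 := (sb E16392 F164112)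
theorem F164312 : act 0 n29051 = n29957 := (sb E16393 (iv1 F81250))
theorem E16396 : n24611 = n24496 := ((F46692).symm.trans (sb E16393 (iv5 D50235)))
theorem E16397 : n50341 = n29562 := ((((iv6 F47431)).symm.trans (sb E16393 (iv6 F79714)))).symm
theorem F164313 : act 0 n25014 = n29051 := (sb E16394 (iv1 D61371))
theorem E16400 : n50228 = n25076 := ((D50228).symm.trans (sb E16395 (iv2 D51624)))
theorem E16401 : n50509 = n50229 := (((D50229).symm.trans (sb E16395 F81478))).symm
theorem E16402 : n50229 = n24979 := ((((iv6 F79581)).symm.trans (sb E16395 (tr F81479 E16401)))).symm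
theorem E16403 : n50232 = n50150 := ((D50232).symm.trans (sb E16395 (iv7 F164111)))
theorem E16404 : n50233 = n11642 := ((D50233).symm.trans (sb E16396 (iv3 D24611)))
theorem E16405 : n50518 = n50234 := (((D50234).symm.trans (sb E16396 D50518))).symm
theorem F164314 : act 5 n24496 = n29051 := (sb E16396 (iv5 F46692))
theorem E16406 : n50519 = n50236 := (((D50236).symm.trans (sb E16396 D50519))).symm
theorem E16407 : n62547 = n29810 := ((D62547).symm.trans (sb E16397 (iv1 F79723)))
theorem E16408 : n62548 = n24548 := ((D62548).symm.trans (sb E16397 (iv0 D50341)))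
theorem E16409 : n25079 = n24980 := ((F47430).symm.trans (sb E16397 F79715))
theorem F164315 : act 2 n25076 = n24495 := (sb E16400 (iv2 D50228))
theorem E16410 : n51386 = n24608 := (((F39372).symm.trans (sb E16400 (iv6 F81112)))).symm
theorem F164316 : act 7 n25076 = n24496 := (sb E16400 (iv7 F79579))
theorem E16411 : n50509 = n24979 := (E16401).trans E16402
theorem E16414 : n61377 = n50342 := (((F79717).symm.trans (sb E16411 (iv5 F95868)))).symm
theorem E16415 : n51389 = n51323 := ((D51389).symm.trans (sb E16411 (iv7 F164121)))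
theorem E16416 : n51387 = n24495 := ((D51387).symm.trans (sb E16402 (iv3 D50229)))
theorem F164317 : act 2 n50150 = n24496 := (sb E16403 F79583)
theorem F164318 : act 7 n50150 = n24495 := (sb E16403 (iv7 D50232))
theorem F164319 : act 3 n11642 = n24496 := (sb E16404 (iv3 D50233))
theorem F164320 : act 7 n50234 = n51625 := (sb E16405 (iv7 F81485))
theorem F164321 : act 3 n50236 = n24613 := (sb E16406 F79893)
theorem E16417 : n51631 = n51392 := ((((iv5 F81117)).symm.trans (sb E16406 (iv5 F81496)))).symm
theorem F164322 : act 1 n29810 = n29562 := (sb E16407 (iv0 D62547))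
theorem F164323 : act 0 n24548 = n29562 := (sb E16408 (iv1 D62548))
theorem E16418 : n51390 = n11912 := ((D51390).symm.trans (sb E16409 (iv3 D25079)))
theorem E16419 : n51630 = n51391 := (((D51391).symm.trans (sb E16409 D51630))).symm
theorem F164324 : act 5 n24980 = n29562 := (sb E16409 (iv5 F47430))
theorem F164325 : act 2 n24608 = n24979 := (sb E16410 (iv2 D51386))
theorem F164326 : act 7 n24608 = n24980 := (sb E16410 (iv7 F81113))
theorem F164327 : act 2 n50342 = n29053 := (sb E16414 (iv2 D61377))
theorem F164328 : act 3 n50342 = n50231 := (sb E16414 (iv3 F164310))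
theorem F164329 : act 7 n50342 = n29808 := (sb E16414 F164122)
theorem F164330 : act 2 n51323 = n24980 := (sb E16415 F81116)
theorem F164331 : act 7 n51323 = n24979 := (sb E16415 (iv7 D51389))
theorem F164332 : act 3 n24495 = n24979 := (sb E16416 (iv3 D51387))
theorem F164333 : act 3 n51392 = n25081 := (sb E16417 F81495)
theorem F164334 : act 3 n11912 = n24980 := (sb E16418 (iv3 D51390))
theorem F164335 : act 7 n51391 = n50510 := (sb E16419 F81494)
theorem E16420 : n52281 = n51989 := (c20_8 (iv4 F38799) (iv1 F80091) (iv4 D25080) F164334 (iv1 D24980) (iv3 F19982) (iv4 F40170) D52281 (iv4 D51989) (iv3 D25227) (iv1 F19759))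
theorem F164336 : act 0 n51989 = n105192 := (sb E16420 (iv1 F161122))
theorem F164337 : act 1 n51989 = n25395 := (sb E16420 (iv0 D52281))
theorem E16421 : n105297 = n52282 := ((c15_2 F164337 D52282 F161443 (iv2 F164094))).symm
theorem F164338 : act 2 n52282 = n50984 := (sb E16421 (iv2 F164086))
theorem F164339 : act 4 n52282 = n48679 := (sb E16421 (iv4 D105297))
theorem F164340 : act 7 n52282 = n52436 := (sb E16421 F161443)
theorem F164341 : act 1 n60545 = n60515 := d18_6 (iv1 F76509) (iv4 F161118) (iv1 F161121) F164339 (iv5 F76591) D60545 F95132 (iv0 F82663) (iv5 D52288)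
theorem E16422 : n61966 = n61947 := ((c18_2 (iv1 F77842) D61947 (iv1 D61966) F47003 F37705 (iv4 F40170) D52282 F164339 F76590 (iv5 F77839))).symm
theorem F164342 : act 0 n61947 = n29350 := (sb E16422 (iv1 D61966))
theorem F164343 : act 1 n61947 = n106627 := (sb E16422 F164244)
theorem E16423 : n61965 = n61943 := (c15_2 F164343 F164245 (iv7 F164206) F164205)
theorem F164344 : act 0 n61943 = n106627 := (sb E16423 (iv1 F164245))
theorem F164345 : act 1 n61943 = n29350 := (sb E16423 (iv0 D61965))
theorem E16424 : n58928 = n58905 := (c18_3 (iv1 D105172) F76481 D58928 (iv4 D58905) F77844 D61943 F164345 F47003 D49340 F161079)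
theorem F164346 : act 1 n58905 = n28011 := (sb E16424 (iv0 D58928))
theorem F164347 : act 1 n60515 = n60548 := d15_1 F164341 F164088 F164103
theorem F164348 : act 2 n51388 = n50510 := d1_3 (iv4 D50510) F164325 D51388
theorem F164349 : act 2 n51625 = n50230 := d3_3 (iv6 F81115) F164348 (iv6 F81484)
def n106664 : Q := act 2 n49283
theorem D106664 : act 2 n49283 = n106664 := rfl
theorem F164350 : act 7 n49284 = n106664 := d15_2 (iv0 D49283) D49284 (iv2 D106664)
def n106665 : Q := act 3 n49283
theorem D106665 : act 3 n49283 = n106665 := rfl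
def n106666 : Q := act 4 n49283
theorem D106666 : act 4 n49283 = n106666 := rfl
def n106667 : Q := act 7 n49283
theorem D106667 : act 7 n49283 = n106667 := rfl
theorem F164351 : act 2 n106667 = n49284 := d4_1 D106667 F164350 (iv2 D106664)
def n106668 : Q := act 3 n49284
theorem D106668 : act 3 n49284 = n106668 := rfl
def n106669 : Q := act 4 n49284
theorem D106669 : act 4 n49284 = n106669 := rfl
def n106670 : Q := act 6 n49284
theorem D106670 : act 6 n49284 = n106670 := rfl
def n106671 : Q := act 0 n49287
theorem D106671 : act 0 n49287 = n106671 := rfl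
def n106672 : Q := act 1 n49287
theorem D106672 : act 1 n49287 = n106672 := rfl
theorem F164352 : act 1 n106672 = n106472 := d15_1 D106672 (iv7 D106472) (iv2 F77898)
def n106673 : Q := act 7 n49287
theorem D106673 : act 7 n49287 = n106673 := rfl
theorem F164353 : act 2 n106673 = n106472 := d4_1 D106673 (iv7 D106472) (iv2 F77898)
theorem F164354 : act 6 n106673 = n106485 := d14_1 D106673 (iv7 D106485) (iv6 D49202) (iv7 F37645) D49287
theorem F164355 : act 1 n106472 = n106671 := d15_0 (iv0 D106671) D106673 F164353
theorem F164356 : act 1 n106471 = n106673 := d15_1 D106471 (iv7 D106673) F77898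
theorem F164357 : act 1 n106673 = n106470 := d15_0 (iv0 D106470) D106472 (iv2 F164353)
def n106674 : Q := act 0 n49288
theorem D106674 : act 0 n49288 = n106674 := rfl
theorem F164358 : act 1 n106455 = n106674 := d15_0 (iv0 D106674) F77899 D106455
def n106675 : Q := act 1 n49288
theorem D106675 : act 1 n49288 = n106675 := rfl
def n106676 : Q := act 2 n49288
theorem D106676 : act 2 n49288 = n106676 := rfl
theorem F164359 : act 3 n106676 = n106475 := d0_2 D49288 D106676 (iv2 D106475) (iv3 D49196) (iv2 F37647)
theorem F164360 : act 7 n106676 = n106455 := d4_2 (iv7 F77899) D106676 (iv2 D106455)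
theorem F164361 : act 1 n106676 = n106453 := d15_0 (iv0 D106453) (iv7 F77899) D106676
theorem F164362 : act 1 n106675 = n106455 := d15_1 D106675 (iv7 F164360) (iv2 D106676)
theorem F164363 : act 1 n106454 = n106676 := d15_1 D106454 F164360 (iv2 D106455)
def n106677 : Q := act 6 n49288
theorem D106677 : act 6 n49288 = n106677 := rfl
theorem F164364 : act 3 n106677 = n49289 := d7_1 D106677 (iv6 D49289) D49288
def n106678 : Q := act 5 n49289
theorem D106678 : act 5 n49289 = n106678 := rfl
theorem F164365 : act 2 n106678 = n106477 := d2_1 D106678 (iv5 D106477) (iv2 F77900)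
def n106679 : Q := act 7 n49289
theorem D106679 : act 7 n49289 = n106679 := rfl
theorem F164366 : act 2 n106679 = n106478 := d4_1 D106679 (iv7 D106478) (iv2 F77900)
theorem F164367 : act 4 n106679 = n49292 := d11_1 D106679 (iv7 D49292) (iv4 F77901)
theorem F164368 : act 6 n106679 = n106460 := d14_1 D106679 (iv7 D106460) (iv6 D49188) (iv7 F37648) D49289
theorem F164369 : act 1 n61895 = n106679 := d15_1 (iv0 F96488) (iv7 D106679) F77900
theorem F164370 : act 1 n106679 = n61893 := d15_1 F164369 F96478 (iv2 F96486)
def n106680 : Q := act 5 n49290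
theorem D106680 : act 5 n49290 = n106680 := rfl
theorem F164371 : act 2 n106680 = n63961 := d2_1 D106680 F99517 (iv2 F77912)
theorem F164372 : act 3 n106680 = n64530 := d6_1 D106680 F100466 F98339
theorem F164373 : act 7 n106680 = n52201 := d13_2 (iv7 F77911) D106680 F82537
theorem F164374 : act 0 n106680 = n63960 := d18_0 F162252 (iv1 D105660) F76919 (iv5 F46378) (iv4 F95144) F163721 F163720 F77909 D106680
theorem F164375 : act 6 n106680 = n64624 := d21_9 (iv5 F163593) (iv1 D49179) (iv5 F39958) (iv6 D25301) (iv1 F23458) D29594 F47512 D49290 D106680 (iv1 F100545)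
theorem F164376 : act 0 n63959 = n106680 := d21_10 (iv5 D106680) (iv1 F77909) (iv5 F95712) F95713 (iv1 F82713) (iv6 F99429) (iv5 F111466) (iv1 F111468) F93060 (iv6 F99515)
def n106681 : Q := act 6 n49290
theorem D106681 : act 6 n49290 = n106681 := rfl
theorem F164377 : act 2 n106681 = n106480 := d3_1 D106681 (iv6 D106480) (iv2 F77912)
theorem F164378 : act 5 n106681 = n49420 := d12_1 D106681 (iv6 F163575) F163574 (iv6 F164375) (iv5 D106680)
theorem F164379 : act 7 n106681 = n49419 := d14_2 (iv7 F77911) D106681 F78152 (iv7 F47932) F77694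
def n106682 : Q := act 1 n49293
theorem D106682 : act 1 n49293 = n106682 := rfl
theorem F164380 : act 1 n106682 = n93870 := d15_1 D106682 F144699 (iv2 F77915)
theorem F164381 : act 7 n106682 = n76302 := d15_2 F163326 D106682 (iv2 F163323)
theorem F164382 : act 5 n106682 = n49297 := d17_7 (iv1 F77943) D106505 F163761 F77749 F38876 D49293 D106682 F77926 (iv4 F77939)
theorem F164383 : act 2 n94264 = n106682 := d2_3 F164382 F114372 F145399
theorem F164384 : act 6 n106682 = n94331 := d21_3 F82956 (iv1 F77926) (iv5 F164382) (iv1 D94331) (iv6 D44093) (iv5 D20945) (iv1 D9950) D9951 (iv6 F33124) D44072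
def n106683 : Q := act 4 n49293
theorem D106683 : act 4 n49293 = n106683 := rfl
theorem F164385 : act 2 n106683 = n94265 := d1_1 D106683 (iv4 D94265) (iv2 F77915)
theorem F164386 : act 7 n106683 = n94267 := d11_2 (iv7 F77917) D106683 (iv4 D94267)
def n106684 : Q := act 6 n49293
theorem D106684 : act 6 n49293 = n106684 := rfl
theorem F164387 : act 2 n106684 = n94266 := d3_1 D106684 (iv6 D94266) (iv2 F77915)
theorem F164388 : act 3 n106684 = n49294 := d7_1 D106684 (iv6 D49294) (iv3 F77916)
theorem F164389 : act 5 n106684 = n92825 := d12_1 D106684 (iv6 D92825) (iv5 F68290) F55019 D49293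
def n106685 : Q := act 0 n49294
theorem D106685 : act 0 n49294 = n106685 := rfl
def n106686 : Q := act 1 n49294
theorem D106686 : act 1 n49294 = n106686 := rfl
theorem F164390 : act 1 n106686 = n106485 := d15_1 D106686 (iv7 D106485) (iv2 F77918)
def n106687 : Q := act 7 n49294
theorem D106687 : act 7 n49294 = n106687 := rfl
theorem F164391 : act 2 n106687 = n106485 := d4_1 D106687 (iv7 D106485) (iv2 F77918)
theorem F164392 : act 6 n106687 = n106472 := d14_1 D106687 (iv7 D106472) (iv6 D49195) (iv7 F37652) D49294
theorem F164393 : act 1 n106485 = n106685 := d15_0 (iv0 D106685) D106687 F164391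
theorem F164394 : act 1 n106484 = n106687 := d15_1 D106484 (iv7 D106687) F77918
theorem F164395 : act 1 n106687 = n106483 := d15_0 (iv0 D106483) D106485 (iv2 F164391)
def n106688 : Q := act 0 n49295
theorem D106688 : act 0 n49295 = n106688 := rfl
def n106689 : Q := act 1 n49295
theorem D106689 : act 1 n49295 = n106689 := rfl
theorem F164396 : act 1 n106689 = n106490 := d15_1 D106689 (iv7 D106490) (iv2 F77919)
def n106690 : Q := act 7 n49295
theorem D106690 : act 7 n49295 = n106690 := rfl
theorem F164397 : act 2 n106690 = n106490 := d4_1 D106690 (iv7 D106490) (iv2 F77919)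
theorem F164398 : act 5 n106690 = n105349 := d13_1 D106690 (iv7 D105349) (iv5 F77920)
theorem F164399 : act 6 n106690 = n106496 := d14_1 D106690 (iv7 D106496) (iv6 D49211) (iv7 F37655) D49295
theorem F164400 : act 1 n106490 = n106688 := d15_0 (iv0 D106688) D106690 F164397
theorem F164401 : act 1 n106489 = n106690 := d15_1 D106489 (iv7 D106690) F77919
theorem F164402 : act 1 n106690 = n106488 := d15_0 (iv0 D106488) D106490 (iv2 F164397)
def n106691 : Q := act 3 n49297
theorem D106691 : act 3 n49297 = n106691 := rfl
theorem F164403 : act 7 n106691 = n76300 := d8_2 F114368 D106691 F114391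
theorem F164404 : act 0 n106691 = n61286 := d20_4 (iv4 F46649) D61281 F95753 D106691 (iv3 D61286) F46652 (iv1 F56577) F56575 (iv3 F56572) F56578
theorem F164405 : act 0 n51057 = n106691 := d20_4 F51516 D32451 (iv4 F55492) D51057 (iv3 D106691) (iv4 F95753) (iv1 F95754) (iv4 F97629) F97628 (iv1 F87485)
def n106692 : Q := act 0 n49301
theorem D106692 : act 0 n49301 = n106692 := rfl
def n106693 : Q := act 1 n49301
theorem D106693 : act 1 n49301 = n106693 := rfl
theorem F164406 : act 1 n106693 = n106496 := d15_1 D106693 (iv7 D106496) (iv2 F77933)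
def n106694 : Q := act 7 n49301
theorem D106694 : act 7 n49301 = n106694 := rfl
theorem F164407 : act 2 n106694 = n106496 := d4_1 D106694 (iv7 D106496) (iv2 F77933)
theorem F164408 : act 6 n106694 = n106490 := d14_1 D106694 (iv7 D106490) (iv6 D49208) (iv7 F37659) D49301
theorem F164409 : act 1 n106496 = n106692 := d15_0 (iv0 D106692) D106694 F164407
theorem F164410 : act 1 n106494 = n106694 := d15_1 D106494 (iv7 D106694) F77933
theorem F164411 : act 1 n106694 = n106493 := d15_0 (iv0 D106493) D106496 (iv2 F164407)
def n106695 : Q := act 5 n49302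
theorem D106695 : act 5 n49302 = n106695 := rfl
theorem F164412 : act 2 n106695 = n106505 := d2_1 D106695 (iv5 D106505) F77935
theorem F164413 : act 3 n106695 = n76604 := d6_1 D106695 F114874 (iv3 F77934)
theorem F164414 : act 7 n106695 = n52670 := d13_2 (iv7 F77937) D106695 (iv5 D52670)
theorem F164415 : act 0 n106695 = n94263 := d17_2 D49302 D106695 (iv5 D94263) (iv4 D44067) D44068 D94264 (iv5 F145399) (iv0 D49203) (iv4 F37664)
theorem F164416 : act 1 n106695 = n49325 := d17_6 (iv1 D25336) D25338 D52168 F139270 F95742 D106695 F77989 D49682 (iv4 F78490)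
theorem F164417 : act 6 n106695 = n94053 := d21_3 (iv5 D49304) D49302 D106695 (iv1 D94053) (iv6 D43964) (iv5 D20841) (iv1 F65890) D43225 (iv6 F139175) F139176
def n106696 : Q := act 5 n49303
theorem D106696 : act 5 n49303 = n106696 := rfl
theorem F164418 : act 2 n106696 = n49304 := d2_1 D106696 (iv5 D49304) D49303
theorem F164419 : act 3 n106696 = n62690 := d6_1 D106696 (iv5 D62690) (iv3 F77938)
theorem F164420 : act 7 n106696 = n106506 := d13_2 (iv7 F77941) D106696 (iv5 D106506)
theorem F164421 : act 0 n106696 = n106507 := d17_2 (iv1 F77942) D106696 F163767 (iv4 F78490) D52166 F152166 F152164 (iv0 F87480) F83226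
theorem F164422 : act 1 n106696 = n89019 := d17_6 (iv1 D20934) D20935 D44072 F82956 (iv4 F77939) D106696 (iv5 D89019) (iv0 F69002) (iv4 F65509)
def n106697 : Q := act 0 n49304
theorem D106697 : act 0 n49304 = n106697 := rfl
theorem F164423 : act 5 n106697 = n51055 := d17_3 F76664 D49304 D106697 F80506 D71653 (iv0 F108148) (iv5 D61277) (iv0 F56578) (iv4 F76662)
theorem F164424 : act 2 n106507 = n106697 := d15_3 (iv0 D106697) (iv0 F139176) (iv7 F163766)
theorem F164425 : act 1 n106506 = n106697 := d15_0 (iv0 D106697) F77945 (iv2 F163763)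
theorem F164426 : act 7 n106697 = n89019 := d15_2 (iv0 F163765) F164425 (iv2 F139173)
theorem F164427 : act 4 n93885 = n106506 := d18_7 (iv1 F80509) (iv4 F68990) (iv1 D43881) F32956 D20790 D43890 D93885 F164425 F164423
theorem F164428 : act 2 n106508 = n93885 := d1_3 F164427 F163763 D106508
theorem F164429 : act 3 n71650 = n106697 := d8_3 F164426 (iv3 F162593) F162595
def n106698 : Q := act 6 n49304
theorem D106698 : act 6 n49304 = n106698 := rfl
theorem F164430 : act 3 n106698 = n49305 := d7_1 D106698 (iv6 D49305) (iv3 F77944)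
theorem F164431 : act 5 n106698 = n52491 := d12_1 D106698 (iv6 D52491) (iv5 D25475) (iv6 F37665) D49304
def n106699 : Q := act 0 n49305
theorem D106699 : act 0 n49305 = n106699 := rfl
def n106700 : Q := act 1 n49305
theorem D106700 : act 1 n49305 = n106700 := rfl
theorem F164432 : act 1 n106700 = n106504 := d15_1 D106700 (iv7 D106504) (iv2 F77946)
def n106701 : Q := act 7 n49305
theorem D106701 : act 7 n49305 = n106701 := rfl
theorem F164433 : act 2 n106701 = n106504 := d4_1 D106701 (iv7 D106504) (iv2 F77946)
theorem F164434 : act 5 n106701 = n52494 := d13_1 D106701 (iv7 D52494) (iv5 F77947)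
theorem F164435 : act 6 n106701 = n106514 := d14_1 D106701 (iv7 D106514) (iv6 D49221) (iv7 F37668) D49305
theorem F164436 : act 1 n106504 = n106699 := d15_0 (iv0 D106699) D106701 F164433
theorem F164437 : act 1 n106503 = n106701 := d15_1 D106503 (iv7 D106701) F77946
theorem F164438 : act 1 n106701 = n106502 := d15_0 (iv0 D106502) D106504 (iv2 F164433)
def n106702 : Q := act 0 n49306
theorem D106702 : act 0 n49306 = n106702 := rfl
def n106703 : Q := act 1 n49306
theorem D106703 : act 1 n49306 = n106703 := rfl
theorem F164439 : act 1 n106703 = n106514 := d15_1 D106703 (iv7 D106514) (iv2 F77948)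
def n106704 : Q := act 5 n49306
theorem D106704 : act 5 n49306 = n106704 := rfl
theorem F164440 : act 2 n106704 = n106513 := d2_1 D106704 (iv5 D106513) (iv2 F77948)
theorem F164441 : act 6 n106704 = n49307 := d12_2 D49306 D106704 (iv5 D49307) (iv6 D24067) D24066
def n106705 : Q := act 7 n49306
theorem D106705 : act 7 n49306 = n106705 := rfl
theorem F164442 : act 2 n106705 = n106514 := d4_1 D106705 (iv7 D106514) (iv2 F77948)
theorem F164443 : act 6 n106705 = n106504 := d14_1 D106705 (iv7 D106504) (iv6 D49216) (iv7 F37670) D49306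
theorem F164444 : act 1 n106514 = n106702 := d15_0 (iv0 D106702) D106705 F164442
theorem F164445 : act 1 n106512 = n106705 := d15_1 D106512 (iv7 D106705) F77948
theorem F164446 : act 1 n106705 = n106511 := d15_0 (iv0 D106511) D106514 (iv2 F164442)
def n106706 : Q := act 4 n49307
theorem D106706 : act 4 n49307 = n106706 := rfl
theorem F164447 : act 2 n106706 = n71281 := d1_1 D106706 F107778 (iv2 F77949)
theorem F164448 : act 5 n106706 = n71281 := d9_2 D49307 D106706 F107778 (iv5 D49222) F37553 F19124 (iv4 F36957) D48687 D105306 F161471 (iv4 D52466) (iv5 D25462) F20023 (iv5 F18629) (iv4 F37672)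
theorem F164449 : act 7 n106706 = n52466 := d11_2 (iv7 F77950) D106706 (iv4 D52466)
theorem F164450 : act 0 n106706 = n52787 := d17_0 F83394 F83374 (iv5 D52779) (iv4 D25618) (iv5 D12178) D12177 D25615 (iv0 F77951) D106706
theorem F164451 : act 1 n106706 = n52784 := d18_6 F37341 (iv4 D14898) F18631 (iv4 F37672) D49307 D106706 (iv4 D52784) (iv0 F77416) (iv5 D49042)
def n106707 : Q := act 5 n49308
theorem D106707 : act 5 n49308 = n106707 := rfl
theorem F164452 : act 2 n106707 = n49311 := d2_1 D106707 (iv5 D49311) D49308
theorem F164453 : act 3 n106707 = n76601 := d6_1 D106707 (iv5 D76601) (iv3 F77968)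
theorem F164454 : act 7 n106707 = n49316 := d13_2 F77953 D106707 (iv5 D49316)
theorem F164455 : act 0 n106707 = n106500 := d21_1 D106707 F163754 F77894 F54247 (iv6 D23969) D23968 (iv1 F54188) F54193 (iv6 F37677) (iv1 F77967)
theorem F164456 : act 0 n52118 = n106707 := d21_1 D52118 (iv5 D106707) (iv6 F94165) (iv1 D59804) F45853 D52623 F83131 (iv5 F55177) D49120 F77561
def n106708 : Q := act 5 n49309
theorem D106708 : act 5 n49309 = n106708 := rfl
theorem F164457 : act 2 n106708 = n49835 := d2_1 D106708 (iv5 D49835) F77955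
theorem F164458 : act 3 n106708 = n49311 := d6_1 D106708 (iv5 D49311) D49309
theorem F164459 : act 7 n106708 = n49845 := d13_2 F77957 D106708 (iv5 D49845)
theorem F164460 : act 0 n106708 = n71419 := d17_2 (iv1 F78807) D106708 (iv5 D71419) (iv4 D33045) D33046 (iv0 F52254) (iv5 D29062) (iv0 F47451) (iv4 F55459)
theorem F164461 : act 1 n106708 = n71416 := d17_6 F54046 D62817 F98035 (iv5 D49831) (iv4 F77954) D106708 (iv5 D71416) (iv0 F77193) F77191
def n106709 : Q := act 0 n49310
theorem D106709 : act 0 n49310 = n106709 := rfl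
theorem F164462 : act 4 n106709 = n106691 := d20_2 D49310 D106709 (iv3 D106691) (iv1 D49297) (iv3 D24061) (iv4 D11295) (iv1 D5215) D5216 D11299 D24068
theorem F164463 : act 3 n106709 = n62614 := d20_5 (iv4 F41872) F78777 F78770 (iv3 F77958) D106709 (iv4 F97647) (iv1 F82989) F82992 F77732 F50516
theorem F164464 : act 2 n106691 = n106709 := d15_3 (iv0 D106709) (iv0 F114393) (iv7 F164403)
theorem F164465 : act 1 n49315 = n106709 := d15_0 (iv0 D106709) (iv7 F95768) F95766
theorem F164466 : act 6 n106229 = n106709 := d7_0 F164463 F114370 D106229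
def n106710 : Q := act 5 n49310
theorem D106710 : act 5 n49310 = n106710 := rfl
theorem F164467 : act 3 n106710 = n61512 := d6_1 D106710 F96028 (iv3 F77958)
theorem F164468 : act 1 n106710 = n93869 := d17_6 D49125 D106292 F163358 (iv5 D49311) D49310 D106710 (iv5 D93869) (iv0 F77571) F77570
def n106711 : Q := act 6 n49310
theorem D106711 : act 6 n49310 = n106711 := rfl
theorem F164469 : act 2 n106711 = n67843 := d3_1 D106711 F103880 F80518
theorem F164470 : act 3 n106711 = n62615 := d7_1 D106711 (iv6 D62615) (iv3 F77958)
theorem F164471 : act 4 n106711 = n49312 := d10_1 D106711 (iv6 D49312) D49310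
theorem F164472 : act 7 n106711 = n69687 := d14_2 F95768 D106711 (iv6 F139437) (iv7 F139451) F139450
theorem F164473 : act 0 n106711 = n106281 := d21_4 D93869 (iv1 F164468) (iv5 D106710) D106711 (iv6 D106281) (iv5 F106555) F106556 (iv5 D49122) D49123 F77571
theorem F164474 : act 1 n106711 = n106229 := d15_1 (iv0 F164473) F163240 (iv2 F163327)
def n106712 : Q := act 4 n49311
theorem D106712 : act 4 n49311 = n106712 := rfl
def n106713 : Q := act 6 n49311
theorem D106713 : act 6 n49311 = n106713 := rfl
def n106714 : Q := act 7 n49311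
theorem D106714 : act 7 n49311 = n106714 := rfl
theorem F164475 : act 2 n106714 = n49316 := d4_1 D106714 (iv7 F164454) F164452
theorem F164476 : act 3 n106714 = n49845 := d8_1 D106714 (iv7 F164459) F164458
theorem F164477 : act 5 n106714 = n49313 := d13_1 D106714 (iv7 D49313) D49311
theorem F164478 : act 1 n52118 = n106714 := d15_1 (iv0 F164456) (iv7 D106714) (iv2 F164452)
theorem F164479 : act 1 n106714 = n106500 := d15_1 F164478 F163755 F163356
def n106715 : Q := act 6 n49313
theorem D106715 : act 6 n49313 = n106715 := rfl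
theorem F164480 : act 2 n106715 = n49317 := d3_1 D106715 (iv6 D49317) (iv2 F77962)
theorem F164481 : act 3 n106715 = n49846 := d7_1 D106715 (iv6 D49846) (iv3 F77963)
theorem F164482 : act 4 n106715 = n90276 := d10_1 D106715 F139450 F95767
theorem F164483 : act 7 n106715 = n76512 := d14_2 D49313 D106715 F115176 (iv7 F94160) (iv6 D49312)
theorem F164484 : act 0 n52464 = n106715 := d21_4 F138854 (iv1 F68103) F68100 (iv6 F82830) (iv6 D106715) (iv5 F164477) (iv1 F164478) (iv5 D52118) D52119 (iv1 F138856)
theorem F164485 : act 1 n76514 = n106715 := d15_0 (iv0 F164484) (iv7 F94185) (iv2 F114678)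
def n106716 : Q := act 5 n49314
theorem D106716 : act 5 n49314 = n106716 := rfl
theorem F164486 : act 2 n106716 = n76602 := d2_1 D106716 (iv5 D76602) F77971
theorem F164487 : act 3 n106716 = n49316 := d6_1 D106716 (iv5 D49316) D49314
theorem F164488 : act 7 n106716 = n76601 := d13_2 (iv7 F77969) D106716 (iv5 D76601)
theorem F164489 : act 1 n106716 = n71650 := d17_6 (iv1 F23573) D29193 (iv1 F47737) (iv5 F54343) (iv4 F77970) D106716 (iv5 D71650) (iv0 F52363) (iv4 D29685)
def n106717 : Q := act 5 n49315
theorem D106717 : act 5 n49315 = n106717 := rfl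
theorem F164490 : act 0 n106717 = n93869 := d21_7 (iv5 D43311) (iv1 F32500) (iv5 F31861) D42402 D90581 F139430 D106717 (iv5 D93869) (iv6 D43880) (iv1 F77510)
def n106718 : Q := act 4 n49316
theorem D106718 : act 4 n49316 = n106718 := rfl
def n106719 : Q := act 6 n49316
theorem D106719 : act 6 n49316 = n106719 := rfl
def n106720 : Q := act 7 n49317
theorem D106720 : act 7 n49317 = n106720 := rfl
theorem F164491 : act 2 n106720 = n76512 := d4_1 D106720 (iv7 F164483) F164480
theorem F164492 : act 3 n106720 = n70201 := d8_1 D106720 (iv7 F154334) F154330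
theorem F164493 : act 4 n106720 = n90277 := d11_1 D106720 (iv7 F139453) (iv4 F139433)
theorem F164494 : act 6 n106720 = n49678 := d14_1 D106720 (iv7 F94163) F94165 (iv7 F77953) D49317
theorem F164495 : act 1 n52464 = n106720 := d15_1 (iv0 F164484) (iv7 D106720) (iv2 F164480)
theorem F164496 : act 1 n106720 = n76514 := d15_1 F164495 (iv7 D76514) (iv2 F82828)
theorem E16425 : n106301 = n60019 := (c21_2 D49130 D106301 F94501 (iv6 F114681) (iv1 F164496) F164494 F163265 (iv1 F163264) F77518 D49104 (iv1 F77523))
theorem F164497 : act 1 n60019 = n49130 := (sb E16425 (iv0 D106301))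
def n106721 : Q := act 1 n49318
theorem D106721 : act 1 n49318 = n106721 := rfl
theorem F164498 : act 1 n106721 = n49323 := d15_1 D106721 (iv7 D49323) (iv2 F77974)
theorem F164499 : act 7 n106721 = n49319 := d15_2 (iv0 F77976) D106721 (iv2 F77978)
theorem F164500 : act 5 n52163 = n106721 := d21_0 (iv1 D106721) (iv5 D49318) F37677 F40365 D52622 (iv5 F83123) F68903 (iv5 F94270) F94271 (iv1 F82472)
theorem F164501 : act 2 n106721 = n49320 := d2_1 F164500 (iv5 F77980) F82474
def n106722 : Q := act 4 n49318
theorem D106722 : act 4 n49318 = n106722 := rfl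
theorem F164502 : act 2 n106722 = n49321 := d1_1 D106722 (iv4 D49321) (iv2 F77974)
def n106723 : Q := act 6 n49318
theorem D106723 : act 6 n49318 = n106723 := rfl
theorem F164503 : act 2 n106723 = n49322 := d3_1 D106723 (iv6 D49322) (iv2 F77974)
theorem F164504 : act 3 n106723 = n52174 := d7_1 D106723 (iv6 D52174) (iv3 F77975)
theorem F164505 : act 5 n106723 = n69059 := d12_1 D106723 F105272 F54193 (iv6 F37677) D49318
def n106724 : Q := act 4 n49319
theorem D106724 : act 4 n49319 = n106724 := rfl
theorem F164506 : act 2 n106724 = n106293 := d1_1 D106724 (iv4 D106293) F77978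
def n106725 : Q := act 6 n49319
theorem D106725 : act 6 n49319 = n106725 := rfl
theorem F164507 : act 2 n106725 = n106290 := d3_1 D106725 F163354 F77978
theorem F164508 : act 5 n106725 = n76349 := d12_1 D106725 (iv6 D76349) (iv5 F55177) D49120 (iv5 F77977)
def n106726 : Q := act 4 n49320
theorem D106726 : act 4 n49320 = n106726 := rfl
theorem F164509 : act 7 n106726 = n106293 := d11_2 (iv7 F77979) D106726 (iv4 D106293)
def n106727 : Q := act 6 n49320
theorem D106727 : act 6 n49320 = n106727 := rfl
def n106728 : Q := act 0 n49321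
theorem D106728 : act 0 n49321 = n106728 := rfl
theorem F164510 : act 4 n106728 = n52879 := d18_3 (iv1 D49320) D49321 D106728 (iv5 D52879) (iv4 F77560) (iv0 F77896) F77893 (iv0 F77897) F77980
def n106729 : Q := act 1 n49321
theorem D106729 : act 1 n49321 = n106729 := rfl
def n106730 : Q := act 3 n49321
theorem D106730 : act 3 n49321 = n106730 := rfl
theorem F164511 : act 4 n106730 = n49329 := d5_2 D49321 D106730 (iv3 D49329) (iv4 D24075) (iv3 F37678)
theorem F164512 : act 7 n61985 = n106730 := d11_0 F164511 F77997 D61985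
def n106731 : Q := act 5 n49321
theorem D106731 : act 5 n49321 = n106731 := rfl
def n106732 : Q := act 6 n49321
theorem D106732 : act 6 n49321 = n106732 := rfl
theorem F164513 : act 4 n106732 = n49322 := d10_1 D106732 (iv6 D49322) D49321
def n106733 : Q := act 7 n49321
theorem D106733 : act 7 n49321 = n106733 := rfl
theorem F164514 : act 3 n106733 = n61985 := d8_1 D106733 F164512 (iv3 D106730)
theorem F164515 : act 4 n106733 = n49323 := d11_1 D106733 (iv7 D49323) D49321
def n106734 : Q := act 0 n49322
theorem D106734 : act 0 n49322 = n106734 := rfl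
def n106735 : Q := act 1 n49322
theorem D106735 : act 1 n49322 = n106735 := rfl
def n106736 : Q := act 7 n49322
theorem D106736 : act 7 n49322 = n106736 := rfl
theorem F164516 : act 3 n106736 = n49333 := d8_1 D106736 (iv7 D49333) (iv3 F77981)
theorem F164517 : act 5 n106736 = n76352 := d13_1 D106736 (iv7 D76352) (iv5 F77982)
def n106737 : Q := act 6 n49323
theorem D106737 : act 6 n49323 = n106737 := rfl
theorem F164518 : act 3 n106737 = n49334 := d7_1 D106737 (iv6 D49334) (iv3 F77983)
def n106738 : Q := act 5 n49324
theorem D106738 : act 5 n49324 = n106738 := rfl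
theorem F164519 : act 2 n106738 = n49679 := d2_1 D106738 (iv5 D49679) (iv2 F77985)
theorem F164520 : act 3 n106738 = n49335 := d6_1 D106738 (iv5 D49335) (iv3 F77986)
theorem F164521 : act 7 n106738 = n52625 := d13_2 (iv7 F77988) D106738 (iv5 D52625)
theorem F164522 : act 0 n106738 = n106231 := d21_1 D106738 (iv5 D106231) (iv6 F77493) D49090 (iv6 F77485) D52767 (iv1 F163400) (iv5 F163401) F115176 (iv1 F94159)
theorem F164523 : act 0 n105762 = n106738 := d21_7 (iv5 F164477) (iv1 F164478) (iv5 D52118) D52119 (iv1 F138856) F138857 D105762 (iv5 D106738) (iv6 D49324) F77964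
def n106739 : Q := act 4 n49325
theorem D106739 : act 4 n49325 = n106739 := rfl
theorem F164524 : act 7 n106739 = n106525 := d11_2 (iv7 F77990) D106739 (iv4 D106525)
def n106740 : Q := act 6 n49325
theorem D106740 : act 6 n49325 = n106740 := rfl
theorem F164525 : act 3 n106740 = n49326 := d7_1 D106740 (iv6 D49326) D49325
theorem F164526 : act 0 n94023 = n106740 := d21_4 F136658 (iv1 F68946) (iv5 F69077) D94023 (iv6 D106740) F77989 F69002 D89019 F136656 D89020
def n106741 : Q := act 0 n49326
theorem D106741 : act 0 n49326 = n106741 := rfl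
def n106742 : Q := act 1 n49326
theorem D106742 : act 1 n49326 = n106742 := rfl
theorem F164527 : act 1 n106742 = n106524 := d15_1 D106742 (iv7 D106524) (iv2 F77991)
def n106743 : Q := act 7 n49326
theorem D106743 : act 7 n49326 = n106743 := rfl
theorem F164528 : act 2 n106743 = n106524 := d4_1 D106743 (iv7 D106524) (iv2 F77991)
theorem F164529 : act 6 n106743 = n106529 := d14_1 D106743 (iv7 D106529) (iv6 D49228) F37683 D49326
theorem F164530 : act 1 n106524 = n106741 := d15_0 (iv0 D106741) D106743 F164528
theorem F164531 : act 1 n106523 = n106743 := d15_1 D106523 (iv7 D106743) F77991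
theorem F164532 : act 1 n106743 = n106522 := d15_0 (iv0 D106522) D106524 (iv2 F164528)
def n106744 : Q := act 4 n49327
theorem D106744 : act 4 n49327 = n106744 := rfl
theorem F164533 : act 7 n106744 = n106520 := d11_2 (iv7 F77993) D106744 (iv4 D106520)
theorem F164534 : act 0 n106744 = n62618 := d18_2 (iv1 F86723) D106744 (iv4 D62618) (iv5 D29612) F23485 (iv0 F26824) D16603 D34298 (iv5 F86726)
def n106745 : Q := act 6 n49327
theorem D106745 : act 6 n49327 = n106745 := rfl
theorem F164535 : act 3 n106745 = n49328 := d7_1 D106745 (iv6 D49328) D49327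
def n106746 : Q := act 0 n49328
theorem D106746 : act 0 n49328 = n106746 := rfl
def n106747 : Q := act 1 n49328
theorem D106747 : act 1 n49328 = n106747 := rfl
theorem F164536 : act 1 n106747 = n106529 := d15_1 D106747 (iv7 D106529) (iv2 F77995)
def n106748 : Q := act 7 n49328
theorem D106748 : act 7 n49328 = n106748 := rfl
theorem F164537 : act 2 n106748 = n106529 := d4_1 D106748 (iv7 D106529) (iv2 F77995)
theorem F164538 : act 6 n106748 = n106524 := d14_1 D106748 (iv7 D106524) (iv6 D49226) (iv7 F37686) D49328
theorem F164539 : act 1 n106529 = n106746 := d15_0 (iv0 D106746) D106748 F164537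
theorem F164540 : act 1 n106528 = n106748 := d15_1 D106528 (iv7 D106748) F77995
theorem F164541 : act 1 n106748 = n106527 := d15_0 (iv0 D106527) D106529 (iv2 F164537)
def n106749 : Q := act 0 n49329
theorem D106749 : act 0 n49329 = n106749 := rfl
theorem F164542 : act 1 n61982 = n106749 := d15_0 (iv0 D106749) F77997 (iv2 F96573)
def n106750 : Q := act 1 n49329
theorem D106750 : act 1 n49329 = n106750 := rfl
def n106751 : Q := act 2 n49329
theorem D106751 : act 2 n49329 = n106751 := rfl
theorem F164543 : act 3 n106751 = n106532 := d0_2 D49329 D106751 (iv2 D106532) (iv3 D49229) (iv2 F37689)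
theorem F164544 : act 5 n106751 = n61969 := d2_2 (iv5 F77996) D106751 (iv2 F96562)
theorem F164545 : act 7 n106751 = n61982 := d4_2 (iv7 F77997) D106751 F96573
theorem F164546 : act 1 n106751 = n61983 := d15_0 (iv0 D61983) (iv7 F77997) D106751
theorem F164547 : act 1 n106750 = n61982 := d15_1 D106750 (iv7 F164545) (iv2 D106751)
theorem F164548 : act 1 n61984 = n106751 := d15_1 D61984 F164545 F96573
def n106752 : Q := act 6 n49329
theorem D106752 : act 6 n49329 = n106752 := rfl
theorem F164549 : act 3 n106752 = n49330 := d7_1 D106752 (iv6 D49330) D49329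
def n106753 : Q := act 0 n49330
theorem D106753 : act 0 n49330 = n106753 := rfl
def n106754 : Q := act 1 n49330
theorem D106754 : act 1 n49330 = n106754 := rfl
theorem F164550 : act 1 n106754 = n106537 := d15_1 D106754 (iv7 D106537) (iv2 F77998)
def n106755 : Q := act 5 n49330
theorem D106755 : act 5 n49330 = n106755 := rfl
theorem F164551 : act 2 n106755 = n106536 := d2_1 D106755 (iv5 D106536) (iv2 F77998)
theorem F164552 : act 6 n106755 = n61997 := d12_2 D49330 D106755 (iv5 D61997) (iv6 D29359) (iv5 F37690)
def n106756 : Q := act 7 n49330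
theorem D106756 : act 7 n49330 = n106756 := rfl
theorem F164553 : act 2 n106756 = n106537 := d4_1 D106756 (iv7 D106537) (iv2 F77998)
theorem F164554 : act 4 n106756 = n49333 := d11_1 D106756 (iv7 D49333) (iv4 F77999)
theorem F164555 : act 6 n106756 = n61994 := d14_1 D106756 (iv7 D61994) (iv6 D29358) F37691 D49330
theorem F164556 : act 1 n106537 = n106753 := d15_0 (iv0 D106753) D106756 F164553
theorem F164557 : act 1 n106535 = n106756 := d15_1 D106535 (iv7 D106756) F77998
theorem F164558 : act 1 n106756 = n106534 := d15_0 (iv0 D106534) D106537 (iv2 F164553)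
def n106757 : Q := act 3 n49331
theorem D106757 : act 3 n49331 = n106757 := rfl
theorem F164559 : act 7 n106757 = n106541 := d8_2 F163478 D106757 (iv3 D106541)
def n106758 : Q := act 4 n49331
theorem D106758 : act 4 n49331 = n106758 := rfl
theorem F164560 : act 2 n106758 = n106539 := d1_1 D106758 (iv4 D106539) F163476
theorem F164561 : act 7 n106758 = n106542 := d11_2 F163478 D106758 (iv4 D106542)
def n106759 : Q := act 6 n49331
theorem D106759 : act 6 n49331 = n106759 := rfl
theorem F164562 : act 2 n106759 = n106540 := d3_1 D106759 (iv6 D106540) F163476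
def n106760 : Q := act 3 n49332
theorem D106760 : act 3 n49332 = n106760 := rfl
theorem F164563 : act 5 n106760 = n106160 := d6_2 F78001 D106760 F163163
theorem F164564 : act 7 n106760 = n106538 := d8_2 (iv7 F163474) D106760 (iv3 D106538)
def n106761 : Q := act 4 n49332
theorem D106761 : act 4 n49332 = n106761 := rfl
theorem F164565 : act 2 n106761 = n106542 := d1_1 D106761 (iv4 D106542) (iv2 F163477)
theorem F164566 : act 7 n106761 = n106539 := d11_2 (iv7 F163474) D106761 (iv4 D106539)
def n106762 : Q := act 6 n49332
theorem D106762 : act 6 n49332 = n106762 := rfl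
theorem F164567 : act 2 n106762 = n106543 := d3_1 D106762 (iv6 D106543) (iv2 F163477)
theorem F164568 : act 5 n106762 = n106171 := d12_1 D106762 (iv6 D106171) (iv5 D49064) D49065 F78001
def n106763 : Q := act 6 n49333
theorem D106763 : act 6 n49333 = n106763 := rfl
theorem F164569 : act 2 n106763 = n106544 := d3_1 D106763 (iv6 D106544) (iv2 F78002)
theorem F164570 : act 4 n106763 = n61994 := d10_1 D106763 (iv6 F164555) F164554
theorem F164571 : act 7 n106763 = n49334 := d14_2 D49333 D106763 (iv6 D49334) (iv7 D24077) D24076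
theorem F164572 : act 1 n106546 = n106763 := d15_1 D106546 F164571 F78007
theorem F164573 : act 1 n106763 = n106545 := d15_0 (iv0 D106545) (iv7 F163791) (iv2 F164569)
def n106764 : Q := act 0 n49334
theorem D106764 : act 0 n49334 = n106764 := rfl
theorem F164574 : act 1 n106544 = n106764 := d15_0 (iv0 D106764) (iv7 F164571) F164569
def n106765 : Q := act 1 n49334
theorem D106765 : act 1 n49334 = n106765 := rfl
theorem F164575 : act 1 n106765 = n106544 := d15_1 D106765 F163791 (iv2 F78007)
def n106766 : Q := act 5 n49334
theorem D106766 : act 5 n49334 = n106766 := rfl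
theorem F164576 : act 2 n106766 = n76343 := d2_1 D106766 F114449 (iv2 F78007)
theorem F164577 : act 6 n106766 = n49335 := d12_2 D49334 D106766 (iv5 D49335) (iv6 D24078) (iv5 F37696)
def n106767 : Q := act 2 n49336
theorem D106767 : act 2 n49336 = n106767 := rfl
theorem F164578 : act 7 n49337 = n106767 := d15_2 (iv0 D49336) D49337 (iv2 D106767)
def n106768 : Q := act 3 n49336
theorem D106768 : act 3 n49336 = n106768 := rfl
theorem F164579 : act 4 n62189 = n106768 := d20_8 (iv4 F164225) (iv1 F164227) (iv4 D61925) (iv3 F100214) (iv1 D14006) (iv3 F23342) (iv4 F47185) D62189 (iv3 D106768) (iv1 F78045)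
def n106769 : Q := act 4 n49336
theorem D106769 : act 4 n49336 = n106769 := rfl
def n106770 : Q := act 5 n49336
theorem D106770 : act 5 n49336 = n106770 := rfl
def n106771 : Q := act 7 n49336
theorem D106771 : act 7 n49336 = n106771 := rfl
theorem F164580 : act 2 n106771 = n49337 := d4_1 D106771 F164578 (iv2 D106767)
def n106772 : Q := act 3 n49337
theorem D106772 : act 3 n49337 = n106772 := rfl
def n106773 : Q := act 4 n49337
theorem D106773 : act 4 n49337 = n106773 := rfl
def n106774 : Q := act 6 n49337
theorem D106774 : act 6 n49337 = n106774 := rfl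
def n106775 : Q := act 2 n49339
theorem D106775 : act 2 n49339 = n106775 := rfl
theorem F164581 : act 7 n49340 = n106775 := d15_2 (iv0 D49339) D49340 (iv2 D106775)
def n106776 : Q := act 3 n49339
theorem D106776 : act 3 n49339 = n106776 := rfl
def n106777 : Q := act 4 n49339
theorem D106777 : act 4 n49339 = n106777 := rfl
def n106778 : Q := act 6 n49339
theorem D106778 : act 6 n49339 = n106778 := rfl
theorem F164582 : act 5 n106778 = n62588 := d21_6 F37622 (iv1 D12076) F18454 D24080 D49339 D106778 (iv1 D62588) F47512 (iv6 D24057) (iv1 F37620)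
theorem F164583 : act 0 n66272 = n106778 := d21_4 (iv5 D49174) D49172 D106418 F163649 (iv6 D106778) (iv5 F161077) (iv1 F161087) (iv5 F95133) F163659 (iv1 D106421)
def n106779 : Q := act 7 n49339
theorem D106779 : act 7 n49339 = n106779 := rfl
theorem F164584 : act 2 n106779 = n49340 := d4_1 D106779 F164581 (iv2 D106775)
def n106780 : Q := act 3 n49340
theorem D106780 : act 3 n49340 = n106780 := rfl
def n106781 : Q := act 4 n49340
theorem D106781 : act 4 n49340 = n106781 := rfl
def n106782 : Q := act 0 n49342
theorem D106782 : act 0 n49342 = n106782 := rfl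
theorem F164585 : act 2 n49346 = n106782 := d15_3 (iv0 D106782) (iv0 D49342) D49346
theorem F164586 : act 7 n106782 = n49344 := d4_2 D49346 F164585 (iv2 D49344)
theorem F164587 : act 1 n49343 = n106782 := d15_1 D49343 F164586 (iv2 D49344)
def n106783 : Q := act 2 n49342
theorem D106783 : act 2 n49342 = n106783 := rfl
theorem F164588 : act 7 n49343 = n106783 := d15_2 (iv0 D49342) D49343 (iv2 D106783)
def n106784 : Q := act 3 n49342
theorem D106784 : act 3 n49342 = n106784 := rfl
def n106785 : Q := act 4 n49342
theorem D106785 : act 4 n49342 = n106785 := rfl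
def n106786 : Q := act 5 n49342
theorem D106786 : act 5 n49342 = n106786 := rfl
def n106787 : Q := act 6 n49342
theorem D106787 : act 6 n49342 = n106787 := rfl
def n106788 : Q := act 7 n49342
theorem D106788 : act 7 n49342 = n106788 := rfl
theorem F164589 : act 2 n106788 = n49343 := d4_1 D106788 F164588 (iv2 D106783)
def n106789 : Q := act 3 n49343
theorem D106789 : act 3 n49343 = n106789 := rfl
def n106790 : Q := act 4 n49343
theorem D106790 : act 4 n49343 = n106790 := rfl
def n106791 : Q := act 5 n49343
theorem D106791 : act 5 n49343 = n106791 := rfl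
def n106792 : Q := act 6 n49343
theorem D106792 : act 6 n49343 = n106792 := rfl
def n106793 : Q := act 0 n49344
theorem D106793 : act 0 n49344 = n106793 := rfl
theorem F164590 : act 1 n49346 = n106793 := d15_0 (iv0 D106793) (iv7 F164586) (iv2 F164585)
def n106794 : Q := act 1 n49344
theorem D106794 : act 1 n49344 = n106794 := rfl
theorem F164591 : act 1 n106794 = n49346 := d15_1 D106794 (iv7 D49346) D49344
def n106795 : Q := act 5 n49344
theorem D106795 : act 5 n49344 = n106795 := rfl
theorem F164592 : act 2 n106795 = n49345 := d2_1 D106795 (iv5 D49345) D49344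
def n106796 : Q := act 0 n49345
theorem D106796 : act 0 n49345 = n106796 := rfl
def n106797 : Q := act 1 n49345
theorem D106797 : act 1 n49345 = n106797 := rfl
def n106798 : Q := act 4 n49345
theorem D106798 : act 4 n49345 = n106798 := rfl
def n106799 : Q := act 6 n49345
theorem D106799 : act 6 n49345 = n106799 := rfl
theorem F164593 : act 3 n106799 = n49347 := d7_1 D106799 (iv6 D49347) (iv3 F78014)
def n106800 : Q := act 6 n49346
theorem D106800 : act 6 n49346 = n106800 := rfl
theorem F164594 : act 3 n106800 = n49348 := d7_1 D106800 (iv6 D49348) (iv3 F78015)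
def n106801 : Q := act 0 n49347
theorem D106801 : act 0 n49347 = n106801 := rfl
def n106802 : Q := act 1 n49347
theorem D106802 : act 1 n49347 = n106802 := rfl
def n106803 : Q := act 7 n49347
theorem D106803 : act 7 n49347 = n106803 := rfl
def n106804 : Q := act 5 n49348
theorem D106804 : act 5 n49348 = n106804 := rfl
def n106805 : Q := act 5 n49349
theorem D106805 : act 5 n49349 = n106805 := rfl
theorem F164595 : act 0 n106467 = n106805 := d21_10 (iv5 D106805) (iv1 F78038) F78035 (iv6 D49357) (iv1 F37724) D30102 F48372 D50189 F79540 D106467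
def n106806 : Q := act 5 n49350
theorem D106806 : act 5 n49350 = n106806 := rfl
theorem F164596 : act 3 n106806 = n63153 := d6_1 D106806 (iv5 D63153) (iv3 F102071)
theorem F164597 : act 6 n106806 = n62603 := d21_3 F78035 (iv1 F78037) D106806 (iv1 F164291) F164288 F78298 (iv1 F77654) D106419 F163654 (iv1 F78038)
theorem F164598 : act 3 n62603 = n61334 := d7_1 F164597 F98427 (iv3 F164596)
def n106807 : Q := act 6 n49350
theorem D106807 : act 6 n49350 = n106807 := rfl
theorem F164599 : act 3 n106807 = n63154 := d7_1 D106807 (iv6 D63154) (iv3 F102071)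
theorem F164600 : act 7 n106807 = n66272 := d14_2 (iv7 F102146) D106807 (iv6 F163649) F163650 (iv6 F78293)
theorem F164601 : act 5 n106807 = n63960 := d21_6 (iv5 D13706) F22498 (iv5 F37723) D49357 (iv1 F78037) D106807 (iv1 D63960) F77904 (iv6 F77903) (iv1 D28738)
def n106808 : Q := act 3 n49351
theorem D106808 : act 3 n49351 = n106808 := rfl
theorem F164602 : act 7 n106808 = n60514 := d8_2 (iv7 F78018) D106808 (iv3 D60514)
def n106809 : Q := act 6 n49351
theorem D106809 : act 6 n49351 = n106809 := rfl
theorem F164603 : act 2 n106809 = n60559 := d3_1 D106809 (iv6 D60559) (iv2 F78017)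
theorem F164604 : act 4 n106809 = n49352 := d10_1 D106809 (iv6 D49352) D49351
theorem F164605 : act 0 n59641 = n106809 := d21_4 D49266 (iv1 F96422) (iv5 D61852) (iv6 F94040) (iv6 D106809) (iv5 F95104) (iv1 D60501) (iv5 D28730) F22861 D24042
def n106810 : Q := act 7 n49353
theorem D106810 : act 7 n49353 = n106810 := rfl
theorem F164606 : act 2 n106810 = n63802 := d4_1 D106810 (iv7 D63802) (iv2 F78022)
theorem F164607 : act 5 n106810 = n58802 := d13_1 D106810 (iv7 D58802) (iv5 F78023)
theorem F164608 : act 6 n106810 = n63799 := d14_1 D106810 (iv7 D63799) (iv6 D30101) F37715 D49353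
theorem F164609 : act 1 n63801 = n106810 := d15_1 D63801 (iv7 D106810) F78022
theorem F164610 : act 0 n63800 = n106810 := d21_1 (iv5 F99165) F164607 F92962 (iv1 F82626) (iv6 D25391) F19981 (iv1 F18536) F18383 D23722 D48654
def n106811 : Q := act 0 n49354
theorem D106811 : act 0 n49354 = n106811 := rfl
theorem F164611 : act 3 n106811 = n61162 := d20_5 F46348 (iv1 D24087) D24088 D49354 D106811 (iv4 D61162) (iv1 F46597) (iv4 F46425) F46424 (iv1 F46346)
def n106812 : Q := act 1 n49354
theorem D106812 : act 1 n49354 = n106812 := rfl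
def n106813 : Q := act 2 n49354
theorem D106813 : act 2 n49354 = n106813 := rfl
theorem F164612 : act 3 n106813 = n63805 := d0_2 D49354 D106813 (iv2 D63805) (iv3 D30103) (iv2 F37718)
theorem F164613 : act 4 n106813 = n63711 := d1_2 (iv4 F78024) D106813 (iv2 D63711)
theorem F164614 : act 6 n106813 = n49366 := d3_2 (iv6 F78025) D106813 (iv2 D49366)
theorem F164615 : act 0 n61151 = n106813 := d20_4 F95252 (iv1 F46594) D28966 D61151 F164612 F99174 D63872 (iv4 F99334) (iv3 D60653) D60651
def n106814 : Q := act 5 n49354
theorem D106814 : act 5 n49354 = n106814 := rfl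
theorem F164616 : act 3 n106814 = n49355 := d6_1 D106814 (iv5 D49355) D49354
def n106815 : Q := act 7 n49354
theorem D106815 : act 7 n49354 = n106815 := rfl
theorem F164617 : act 3 n106815 = n49356 := d8_1 D106815 (iv7 D49356) D49354
theorem F164618 : act 4 n106815 = n60898 := d11_1 D106815 F95443 (iv4 F78024)
theorem F164619 : act 1 n61151 = n106815 := d15_1 (iv0 F164615) (iv7 D106815) D106813
def n106816 : Q := act 4 n49355
theorem D106816 : act 4 n49355 = n106816 := rfl
theorem F164620 : act 2 n106816 = n60537 := d1_1 D106816 F95155 (iv2 F78026)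
theorem F164621 : act 5 n106816 = n49356 := d9_2 D49355 D106816 F78030 F37723 F18462 (iv5 F23847) (iv4 F46414) (iv5 F95154) F95155 (iv5 D30104) (iv4 D14289) (iv5 D6813) (iv4 F7783) D11309 D24088
theorem F164622 : act 0 n106816 = n60481 := d17_0 (iv5 D60481) (iv1 F95050) (iv5 F95209) F95210 (iv5 D60527) (iv0 D28745) D28748 (iv0 F78027) D106816
theorem F164623 : act 1 n106816 = n60479 := d18_6 (iv1 F46346) F46348 (iv1 D24087) D24088 D49355 D106816 (iv4 F95105) F95102 F46436
theorem F164624 : act 7 n106816 = n49355 := d15_2 (iv0 F95061) (iv0 F164622) F78026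
def n106817 : Q := act 6 n49355
theorem D106817 : act 6 n49355 = n106817 := rfl
theorem F164625 : act 2 n106817 = n63807 := d3_1 D106817 (iv6 D63807) (iv2 F78026)
theorem F164626 : act 5 n106817 = n49369 := d12_1 D106817 (iv6 D49369) (iv5 D24093) (iv6 F37719) D49355
def n106818 : Q := act 6 n49356
theorem D106818 : act 6 n49356 = n106818 := rfl
theorem F164627 : act 2 n106818 = n60586 := d3_1 D106818 (iv6 D60586) (iv2 F78029)
theorem F164628 : act 4 n106818 = n49357 := d10_1 D106818 (iv6 D49357) (iv4 F78030)
theorem F164629 : act 7 n106818 = n49370 := d14_2 D49356 D106818 (iv6 D49370) (iv7 D24094) (iv6 F37719)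
theorem F164630 : act 1 n60686 = n106818 := d15_1 (iv0 F102058) F164629 F78057
theorem F164631 : act 1 n106818 = n60691 := d15_1 F164630 (iv7 F103574) (iv2 F103566)
def n106819 : Q := act 2 n49358
theorem D106819 : act 2 n49358 = n106819 := rfl
theorem F164632 : act 7 n49359 = n106819 := d15_2 (iv0 D49358) D49359 (iv2 D106819)
def n106820 : Q := act 3 n49358
theorem D106820 : act 3 n49358 = n106820 := rfl
def n106821 : Q := act 4 n49358
theorem D106821 : act 4 n49358 = n106821 := rfl
def n106822 : Q := act 5 n49358
theorem D106822 : act 5 n49358 = n106822 := rfl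
def n106823 : Q := act 7 n49358
theorem D106823 : act 7 n49358 = n106823 := rfl
theorem F164633 : act 2 n106823 = n49359 := d4_1 D106823 F164632 (iv2 D106819)
def n106824 : Q := act 3 n49359
theorem D106824 : act 3 n49359 = n106824 := rfl
def n106825 : Q := act 6 n49359
theorem D106825 : act 6 n49359 = n106825 := rfl
def n106826 : Q := act 2 n49361
theorem D106826 : act 2 n49361 = n106826 := rfl
theorem F164634 : act 7 n49362 = n106826 := d15_2 (iv0 D49361) D49362 (iv2 D106826)
def n106827 : Q := act 3 n49361
theorem D106827 : act 3 n49361 = n106827 := rfl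
def n106828 : Q := act 4 n49361
theorem D106828 : act 4 n49361 = n106828 := rfl
def n106829 : Q := act 6 n49361
theorem D106829 : act 6 n49361 = n106829 := rfl
theorem F164635 : act 5 n106829 = n61247 := d21_6 F37521 F19045 F18468 D24091 D49361 D106829 (iv1 D61247) F46622 (iv6 D24010) (iv1 F37520)
theorem F164636 : act 0 n106829 = n106807 := d21_10 F164601 (iv1 D63960) F77904 (iv6 F77903) (iv1 D28738) D28740 F46373 D52259 F82633 D106829
def n106830 : Q := act 7 n49361
theorem D106830 : act 7 n49361 = n106830 := rfl
theorem F164637 : act 2 n106830 = n49362 := d4_1 D106830 F164634 (iv2 D106826)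
def n106831 : Q := act 3 n49362
theorem D106831 : act 3 n49362 = n106831 := rfl
def n106832 : Q := act 4 n49362
theorem D106832 : act 4 n49362 = n106832 := rfl
def n106833 : Q := act 0 n49364
theorem D106833 : act 0 n49364 = n106833 := rfl
theorem F164638 : act 2 n49368 = n106833 := d15_3 (iv0 D106833) (iv0 D49364) D49368
theorem F164639 : act 3 n106833 = n106782 := d0_2 (iv3 F78055) F164638 (iv2 F164585) F78015 (iv2 F37731)
theorem F164640 : act 7 n106833 = n49366 := d4_2 D49368 F164638 (iv2 D49366)
theorem F164641 : act 1 n49365 = n106833 := d15_1 D49365 F164640 (iv2 D49366)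
def n106834 : Q := act 2 n49364
theorem D106834 : act 2 n49364 = n106834 := rfl
theorem F164642 : act 7 n49365 = n106834 := d15_2 (iv0 D49364) D49365 (iv2 D106834)
def n106835 : Q := act 4 n49364
theorem D106835 : act 4 n49364 = n106835 := rfl
def n106836 : Q := act 5 n49364
theorem D106836 : act 5 n49364 = n106836 := rfl
def n106837 : Q := act 6 n49364
theorem D106837 : act 6 n49364 = n106837 := rfl
def n106838 : Q := act 7 n49364
theorem D106838 : act 7 n49364 = n106838 := rfl
theorem F164643 : act 2 n106838 = n49365 := d4_1 D106838 F164642 (iv2 D106834)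
def n106839 : Q := act 3 n49365
theorem D106839 : act 3 n49365 = n106839 := rfl
def n106840 : Q := act 4 n49365
theorem D106840 : act 4 n49365 = n106840 := rfl
def n106841 : Q := act 5 n49365
theorem D106841 : act 5 n49365 = n106841 := rfl
def n106842 : Q := act 6 n49365
theorem D106842 : act 6 n49365 = n106842 := rfl
def n106843 : Q := act 0 n49366
theorem D106843 : act 0 n49366 = n106843 := rfl
theorem F164644 : act 1 n49368 = n106843 := d15_0 (iv0 D106843) (iv7 F164640) (iv2 F164638)
def n106844 : Q := act 5 n49366
theorem D106844 : act 5 n49366 = n106844 := rfl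
theorem F164645 : act 2 n106844 = n49367 := d2_1 D106844 (iv5 D49367) D49366
theorem F164646 : act 3 n106844 = n106795 := d6_1 D106844 (iv5 D106795) (iv3 F78053)
def n106845 : Q := act 0 n49367
theorem D106845 : act 0 n49367 = n106845 := rfl
def n106846 : Q := act 1 n49367
theorem D106846 : act 1 n49367 = n106846 := rfl
def n106847 : Q := act 4 n49367
theorem D106847 : act 4 n49367 = n106847 := rfl
def n106848 : Q := act 6 n49367
theorem D106848 : act 6 n49367 = n106848 := rfl
theorem F164647 : act 3 n106848 = n49369 := d7_1 D106848 (iv6 D49369) (iv3 F78054)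
def n106849 : Q := act 6 n49368
theorem D106849 : act 6 n49368 = n106849 := rfl
theorem F164648 : act 3 n106849 = n49370 := d7_1 D106849 (iv6 D49370) (iv3 F78055)
def n106850 : Q := act 0 n49369
theorem D106850 : act 0 n49369 = n106850 := rfl
def n106851 : Q := act 1 n49369
theorem D106851 : act 1 n49369 = n106851 := rfl
theorem F164649 : act 1 n106851 = n106803 := d15_1 D106851 (iv7 D106803) (iv2 F78056)
def n106852 : Q := act 7 n49369
theorem D106852 : act 7 n49369 = n106852 := rfl
theorem F164650 : act 2 n106852 = n106803 := d4_1 D106852 (iv7 D106803) (iv2 F78056)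
theorem F164651 : act 1 n106803 = n106850 := d15_0 (iv0 D106850) D106852 F164650
theorem F164652 : act 1 n106802 = n106852 := d15_1 D106802 (iv7 D106852) F78056
theorem F164653 : act 1 n106852 = n106801 := d15_0 (iv0 D106801) D106803 (iv2 F164650)
def n106853 : Q := act 5 n49370
theorem D106853 : act 5 n49370 = n106853 := rfl
def n106854 : Q := act 5 n49371
theorem D106854 : act 5 n49371 = n106854 := rfl
theorem F164655 : act 2 n106854 = n106805 := d2_1 D106854 (iv5 D106805) (iv2 F102152)
theorem F164656 : act 3 n106854 = n63534 := d6_1 D106854 (iv5 D63534) (iv3 F102052)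
theorem F164657 : act 7 n106854 = n106806 := d13_2 F102146 D106854 (iv5 D106806)
theorem F164658 : act 0 n106670 = n106854 := d21_10 (iv5 D106854) (iv1 F78059) F48376 (iv6 D30105) (iv1 F37712) D49353 F78023 D58800 F92956 D106670
theorem F164659 : act 1 n106467 = n106806 := d15_1 (iv0 F164595) (iv7 F164657) F164655
def n106855 : Q := act 5 n49372
theorem D106855 : act 5 n49372 = n106855 := rfl
theorem F164660 : act 2 n106855 = n106806 := d2_1 D106855 (iv5 D106806) F102153
theorem F164661 : act 7 n106855 = n106805 := d13_2 (iv7 F102156) D106855 (iv5 D106805)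
theorem F164662 : act 6 n106855 = n106655 := d21_3 F48376 (iv1 F78060) D106855 (iv1 F164289) (iv6 F163666) F163665 (iv1 F77661) D49538 (iv6 F78293) (iv1 F78059)
theorem F164663 : act 2 n106655 = n62603 := d3_1 F164662 (iv6 F164597) (iv2 F164660)
theorem F164664 : act 7 n62604 = n106655 := d15_2 (iv0 D62603) D62604 F164663
theorem F164665 : act 7 n106656 = n62603 := d15_2 (iv0 D106655) D106656 (iv2 F164663)
theorem F164666 : act 2 n62604 = n106656 := d4_3 F164665 (iv2 F164663) (iv7 F164664)
theorem F164667 : act 3 n63388 = n106656 := d8_3 F164665 F164598 (iv7 F102135)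
theorem F164668 : act 1 n106670 = n106855 := d15_1 (iv0 F164658) F164661 (iv2 F164655)
def n106856 : Q := act 6 n49372
theorem D106856 : act 6 n49372 = n106856 := rfl
theorem F164669 : act 2 n106856 = n106807 := d3_1 D106856 (iv6 D106807) F102153
theorem F164670 : act 1 n106856 = n106778 := d15_0 (iv0 F164583) (iv7 F164600) (iv2 F164669)
def n106857 : Q := act 3 n49373
theorem D106857 : act 3 n49373 = n106857 := rfl
theorem F164671 : act 5 n106857 = n50389 := d6_2 F78065 D106857 (iv3 D50389)
theorem F164672 : act 7 n106857 = n65877 := d8_2 (iv7 F78062) D106857 (iv3 D65877)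
def n106858 : Q := act 6 n49373
theorem D106858 : act 6 n49373 = n106858 := rfl
theorem F164673 : act 2 n106858 = n52422 := d3_1 D106858 (iv6 D52422) (iv2 F78061)
theorem F164674 : act 4 n106858 = n49374 := d10_1 D106858 (iv6 D49374) D49373
def n106859 : Q := act 0 n49374
theorem D106859 : act 0 n49374 = n106859 := rfl
theorem F164675 : act 5 n106859 = n60512 := d21_0 (iv1 D60512) (iv5 F81277) (iv6 D51494) (iv1 F39260) (iv6 F23739) (iv5 D14213) F19390 D24096 D49374 D106859
def n106860 : Q := act 1 n49374
theorem D106860 : act 1 n49374 = n106860 := rfl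
theorem F164676 : act 1 n106860 = n52425 := d15_1 D106860 (iv7 D52425) (iv2 F78068)
theorem F164677 : act 5 n60511 = n106860 := d21_0 (iv1 D106860) (iv5 F80575) (iv6 D51084) (iv1 D24855) F19146 (iv5 D11535) (iv1 F22507) D13704 D28737 D60511
theorem F164678 : act 6 n61842 = n60511 := d21_5 (iv5 D11783) (iv1 F19514) D13944 D29305 D61842 F164677 (iv1 D106860) (iv5 F80575) (iv6 D51084) (iv1 D24855)
def n106861 : Q := act 7 n49374
theorem D106861 : act 7 n49374 = n106861 := rfl
theorem F164679 : act 2 n106861 = n52425 := d4_1 D106861 (iv7 D52425) (iv2 F78068)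
theorem F164680 : act 6 n106861 = n65880 := d14_1 D106861 (iv7 D65880) (iv6 D30825) (iv7 F37738) D49374
theorem F164681 : act 1 n52425 = n106859 := d15_0 (iv0 D106859) D106861 F164679
theorem F164682 : act 1 n52424 = n106861 := d15_1 D52424 (iv7 D106861) F78068
theorem F164683 : act 1 n106861 = n52423 := d15_0 (iv0 D52423) D52425 (iv2 F164679)
def n106862 : Q := act 0 n49376
theorem D106862 : act 0 n49376 = n106862 := rfl
theorem F164684 : act 1 n65883 = n106862 := d15_0 (iv0 D106862) F78076 D65883
def n106863 : Q := act 1 n49376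
theorem D106863 : act 1 n49376 = n106863 := rfl
def n106864 : Q := act 2 n49376
theorem D106864 : act 2 n49376 = n106864 := rfl
theorem F164685 : act 3 n106864 = n53383 := d0_2 D49376 D106864 (iv2 D53383) (iv3 D25866) (iv2 F37745)
theorem F164686 : act 4 n106864 = n65393 := d1_2 (iv4 F78075) D106864 (iv2 D65393)
theorem F164687 : act 7 n106864 = n65883 := d4_2 (iv7 F78076) D106864 (iv2 D65883)
theorem F164688 : act 1 n106864 = n65881 := d15_0 (iv0 D65881) (iv7 F78076) D106864
theorem F164689 : act 1 n106863 = n65883 := d15_1 D106863 (iv7 F164687) (iv2 D106864)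
theorem F164690 : act 1 n65882 = n106864 := d15_1 D65882 F164687 (iv2 D65883)
def n106865 : Q := act 5 n49376
theorem D106865 : act 5 n49376 = n106865 := rfl
theorem F164691 : act 3 n106865 = n49377 := d6_1 D106865 (iv5 D49377) D49376
theorem F164692 : act 7 n106865 = n65884 := d13_2 (iv7 F78076) D106865 (iv5 D65884)
def n106866 : Q := act 6 n49376
theorem D106866 : act 6 n49376 = n106866 := rfl
theorem F164693 : act 3 n106866 = n49378 := d7_1 D106866 (iv6 D49378) D49376
theorem F164694 : act 4 n106866 = n65395 := d10_1 D106866 (iv6 D65395) (iv4 F78075)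
def n106867 : Q := act 6 n49377
theorem D106867 : act 6 n49377 = n106867 := rfl
theorem F164695 : act 2 n106867 = n53388 := d3_1 D106867 (iv6 D53388) (iv2 F78077)
theorem F164696 : act 4 n106867 = n50392 := d10_1 D106867 (iv6 D50392) (iv4 F78078)
def n106868 : Q := act 1 n49378
theorem D106868 : act 1 n49378 = n106868 := rfl
theorem F164697 : act 1 n106868 = n53392 := d15_1 D106868 (iv7 D53392) (iv2 F78082)
theorem F164698 : act 7 n106868 = n53389 := d15_2 F103461 D106868 (iv2 F103522)
theorem F164699 : act 2 n53390 = n106868 := d4_3 F164698 (iv2 F103522) F103521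
def n106869 : Q := act 5 n49378
theorem D106869 : act 5 n49378 = n106869 := rfl
theorem F164700 : act 2 n106869 = n53391 := d2_1 D106869 (iv5 D53391) (iv2 F78082)
def n106870 : Q := act 7 n49378
theorem D106870 : act 7 n49378 = n106870 := rfl
theorem F164701 : act 2 n106870 = n53392 := d4_1 D106870 (iv7 D53392) (iv2 F78082)
theorem F164702 : act 4 n106870 = n49379 := d11_1 D106870 (iv7 D49379) (iv4 F78083)
theorem F164703 : act 6 n106870 = n65889 := d14_1 D106870 (iv7 D65889) (iv6 D30830) (iv7 F37746) D49378
theorem F164704 : act 1 n53390 = n106870 := d15_1 D53390 (iv7 D106870) F78082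
theorem F164705 : act 1 n106870 = n53389 := d15_1 F164704 (iv7 F164698) (iv2 F164699)
def n106871 : Q := act 0 n49380
theorem D106871 : act 0 n49380 = n106871 := rfl
theorem F164706 : act 1 n66491 = n106871 := d15_0 (iv0 D106871) F78091 D66491
def n106872 : Q := act 1 n49380
theorem D106872 : act 1 n49380 = n106872 := rfl
def n106873 : Q := act 2 n49380
theorem D106873 : act 2 n49380 = n106873 := rfl
theorem F164707 : act 3 n106873 = n53507 := d0_2 D49380 D106873 (iv2 D53507) (iv3 D25920) (iv2 F37757)
theorem F164708 : act 4 n106873 = n66199 := d1_2 (iv4 F78090) D106873 (iv2 D66199)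
theorem F164709 : act 7 n106873 = n66491 := d4_2 (iv7 F78091) D106873 (iv2 D66491)
theorem F164710 : act 1 n106873 = n66489 := d15_0 (iv0 D66489) (iv7 F78091) D106873
theorem F164711 : act 1 n106872 = n66491 := d15_1 D106872 (iv7 F164709) (iv2 D106873)
theorem F164712 : act 1 n66490 = n106873 := d15_1 D66490 F164709 (iv2 D66491)
def n106874 : Q := act 5 n49380
theorem D106874 : act 5 n49380 = n106874 := rfl
theorem F164713 : act 3 n106874 = n49381 := d6_1 D106874 (iv5 D49381) D49380
theorem F164714 : act 7 n106874 = n66492 := d13_2 (iv7 F78091) D106874 (iv5 D66492)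
def n106875 : Q := act 6 n49380
theorem D106875 : act 6 n49380 = n106875 := rfl
theorem F164715 : act 3 n106875 = n49382 := d7_1 D106875 (iv6 D49382) D49380
theorem F164716 : act 4 n106875 = n66201 := d10_1 D106875 (iv6 D66201) (iv4 F78090)
def n106876 : Q := act 6 n49381
theorem D106876 : act 6 n49381 = n106876 := rfl
theorem F164717 : act 2 n106876 = n53510 := d3_1 D106876 (iv6 D53510) (iv2 F78092)
theorem F164718 : act 4 n106876 = n50364 := d10_1 D106876 (iv6 D50364) (iv4 F78093)
def n106877 : Q := act 0 n49382
theorem D106877 : act 0 n49382 = n106877 := rfl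
theorem F164719 : act 4 n106877 = n105663 := d20_2 (iv4 F78098) D106877 (iv3 D105663) (iv1 F80764) F80760 (iv4 F80777) (iv1 F102057) (iv4 D49537) (iv3 F102055) (iv1 D49384)
theorem F164720 : act 0 n106877 = n53514 := d20_7 D14681 F47605 (iv4 F18120) (iv3 F37135) D48847 D105663 (iv4 F164719) F84431 F40981 (iv1 F20427)
theorem F164721 : act 0 n64734 = n105663 := d18_0 (iv4 F164719) F164720 F84431 (iv5 F46733) D61467 (iv0 F111646) F111644 (iv0 F95119) (iv5 F100605)
def n106878 : Q := act 1 n49382
theorem D106878 : act 1 n49382 = n106878 := rfl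
theorem F164722 : act 1 n106878 = n53514 := d15_1 D106878 (iv7 D53514) (iv2 F78097)
def n106879 : Q := act 5 n49382
theorem D106879 : act 5 n49382 = n106879 := rfl
theorem F164723 : act 2 n106879 = n53513 := d2_1 D106879 (iv5 D53513) (iv2 F78097)
def n106880 : Q := act 7 n49382
theorem D106880 : act 7 n49382 = n106880 := rfl
theorem F164724 : act 2 n106880 = n53514 := d4_1 D106880 (iv7 D53514) (iv2 F78097)
theorem F164725 : act 4 n106880 = n49385 := d11_1 D106880 (iv7 D49385) (iv4 F78098)
theorem F164726 : act 6 n106880 = n66498 := d14_1 D106880 (iv7 D66498) (iv6 D31042) (iv7 F37758) D49382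
theorem F164727 : act 1 n53512 = n106880 := d15_1 D53512 (iv7 D106880) F78097
theorem F164728 : act 1 n106880 = n53511 := d15_0 (iv0 D53511) D53514 (iv2 F164724)
def n106881 : Q := act 4 n49383
theorem D106881 : act 4 n49383 = n106881 := rfl
theorem F164729 : act 2 n106881 = n53517 := d1_1 D106881 (iv4 D53517) (iv2 F102100)
theorem F164730 : act 6 n106881 = n65170 := d10_2 F80931 D106881 (iv4 D65170)
theorem F164731 : act 7 n106881 = n53521 := d11_2 (iv7 F102101) D106881 (iv4 D53521)
theorem F164732 : act 0 n49388 = n106881 := d20_7 F100465 (iv1 F100484) (iv4 F162108) F162107 (iv1 D105506) (iv3 F94992) F94993 (iv4 D106881) F102187 (iv1 F100469)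
def n106882 : Q := act 5 n49383
theorem D106882 : act 5 n49383 = n106882 := rfl
theorem F164733 : act 2 n106882 = n53518 := d2_1 D106882 (iv5 D53518) (iv2 F102100)
theorem F164734 : act 3 n106882 = n64544 := d6_1 D106882 (iv5 D64544) (iv3 F102187)
theorem F164735 : act 6 n106882 = n66210 := d12_2 F80931 D106882 (iv5 D66210) F80932 F80930
theorem F164736 : act 7 n106882 = n53522 := d13_2 (iv7 F102101) D106882 (iv5 D53522)
theorem F164737 : act 0 n106882 = n63094 := d21_1 D106882 (iv5 F163940) F97793 F163916 (iv6 D25861) F20335 (iv1 F37764) (iv5 D24102) D24103 D49383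
theorem F164738 : act 1 n63458 = n53522 := d15_1 (iv0 F98795) (iv7 F164736) F164733
def n106883 : Q := act 4 n49384
theorem D106883 : act 4 n49384 = n106883 := rfl
theorem F164739 : act 2 n106883 = n53521 := d1_1 D106883 (iv4 D53521) (iv2 F102096)
theorem F164740 : act 7 n106883 = n53517 := d11_2 (iv7 F102097) D106883 (iv4 D53517)
theorem F164741 : act 0 n106883 = n49388 := d20_1 D106883 (iv4 F94993) F94992 F162019 (iv3 D28302) (iv4 F46741) (iv1 F41001) F40997 (iv3 F40981) (iv1 F78099)
def n106884 : Q := act 6 n49384
theorem D106884 : act 6 n49384 = n106884 := rfl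
theorem F164742 : act 2 n106884 = n53523 := d3_1 D106884 (iv6 D53523) (iv2 F102096)
theorem F164743 : act 3 n106884 = n49539 := d7_1 D106884 (iv6 D49539) (iv3 F102055)
theorem F164744 : act 5 n106884 = n62525 := d12_1 D106884 (iv6 F98849) (iv5 D63534) D63535 F98851
theorem F164745 : act 7 n106884 = n65167 := d14_2 (iv7 F102097) D106884 (iv6 D65167) (iv7 F102103) (iv6 F79384)
theorem F164746 : act 0 n106884 = n63453 := d21_4 F163940 F98852 F98851 D106884 F98790 (iv5 D50308) (iv1 F79485) F79481 (iv6 F98362) (iv1 F163938)
theorem F164747 : act 1 n106884 = n53829 := d15_1 (iv0 F164746) (iv7 F98439) F164021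
def n106885 : Q := act 0 n49386
theorem D106885 : act 0 n49386 = n106885 := rfl
def n106886 : Q := act 1 n49386
theorem D106886 : act 1 n49386 = n106886 := rfl
def n106887 : Q := act 2 n49386
theorem D106887 : act 2 n49386 = n106887 := rfl
theorem F164748 : act 3 n106887 = n64719 := d0_2 D49386 D106887 F100591 F48865 (iv2 F48056)
def n106888 : Q := act 5 n49386
theorem D106888 : act 5 n49386 = n106888 := rfl
theorem F164749 : act 3 n106888 = n49387 := d6_1 D106888 (iv5 D49387) D49386
def n106889 : Q := act 6 n49386
theorem D106889 : act 6 n49386 = n106889 := rfl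
theorem F164750 : act 3 n106889 = n49388 := d7_1 D106889 (iv6 D49388) D49386
def n106890 : Q := act 6 n49387
theorem D106890 : act 6 n49387 = n106890 := rfl
theorem F164751 : act 4 n106890 = n50328 := d10_1 D106890 (iv6 D50328) (iv4 F78106)
def n106891 : Q := act 5 n49388
theorem D106891 : act 5 n49388 = n106891 := rfl
def n106892 : Q := act 7 n49388
theorem D106892 : act 7 n49388 = n106892 := rfl
theorem F164752 : act 1 n53521 = n106892 := d15_1 (iv0 F100606) (iv7 D106892) (iv2 F98539)
theorem F164753 : act 1 n106892 = n53517 := d15_1 F164752 (iv7 F164740) F164739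
def n106893 : Q := act 0 n49389
theorem D106893 : act 0 n49389 = n106893 := rfl
theorem F164754 : act 3 n106893 = n53532 := d20_5 F40966 (iv1 F46304) (iv4 F46307) D49389 D106893 (iv4 D53532) (iv1 D25928) (iv4 F40975) (iv3 D25920) D25918
theorem F164755 : act 1 n64719 = n106893 := d15_0 (iv0 D106893) F78108 (iv2 F100591)
theorem F164756 : act 7 n64722 = n106893 := d8_0 F164754 F102530 (iv3 F100594)
def n106894 : Q := act 1 n49389
theorem D106894 : act 1 n49389 = n106894 := rfl
def n106895 : Q := act 2 n49389
theorem D106895 : act 2 n49389 = n106895 := rfl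
theorem F164757 : act 4 n106895 = n64014 := d1_2 (iv4 F78107) D106895 (iv2 D64014)
theorem F164758 : act 7 n106895 = n64719 := d4_2 (iv7 F78108) D106895 F100591
theorem F164759 : act 1 n106895 = n64722 := d15_0 (iv0 D64722) (iv7 F78108) D106895
theorem F164760 : act 1 n106894 = n64719 := d15_1 D106894 (iv7 F164758) (iv2 D106895)
theorem F164761 : act 2 n64722 = n106894 := d15_3 F164760 F164755 (iv7 F164756)
theorem F164762 : act 7 n64723 = n106894 := d15_2 (iv0 D64722) D64723 (iv2 F164761)
theorem F164763 : act 2 n106893 = n64723 := d4_3 F164762 (iv2 F164761) F164756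
theorem F164764 : act 1 n64723 = n106895 := d15_0 F164759 F164756 F164763
def n106896 : Q := act 5 n49389
theorem D106896 : act 5 n49389 = n106896 := rfl
theorem F164765 : act 3 n106896 = n49390 := d6_1 D106896 (iv5 D49390) D49389
theorem F164766 : act 7 n106896 = n64724 := d13_2 (iv7 F78108) D106896 (iv5 D64724)
def n106897 : Q := act 6 n49389
theorem D106897 : act 6 n49389 = n106897 := rfl
theorem F164767 : act 3 n106897 = n49391 := d7_1 D106897 (iv6 D49391) D49389
theorem F164768 : act 4 n106897 = n64016 := d10_1 D106897 (iv6 D64016) (iv4 F78107)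
def n106898 : Q := act 6 n49390
theorem D106898 : act 6 n49390 = n106898 := rfl
theorem F164769 : act 4 n106898 = n50299 := d10_1 D106898 (iv6 D50299) (iv4 F78109)
def n106899 : Q := act 0 n49391
theorem D106899 : act 0 n49391 = n106899 := rfl
def n106900 : Q := act 1 n49391
theorem D106900 : act 1 n49391 = n106900 := rfl
def n106901 : Q := act 5 n49391
theorem D106901 : act 5 n49391 = n106901 := rfl
def n106902 : Q := act 7 n49391
theorem D106902 : act 7 n49391 = n106902 := rfl
def n106903 : Q := act 0 n49392
theorem D106903 : act 0 n49392 = n106903 := rfl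
theorem F164770 : act 2 n49396 = n106903 := d15_3 (iv0 D106903) (iv0 D49392) D49396
theorem F164771 : act 3 n106903 = n65863 := d0_2 (iv3 F78112) F164770 (iv2 D65863) (iv3 D30820) (iv2 F37770)
theorem F164772 : act 4 n106903 = n49585 := d1_2 (iv4 F78113) F164770 (iv2 F78329)
theorem F164773 : act 7 n106903 = n49394 := d4_2 D49396 F164770 (iv2 D49394)
theorem F164774 : act 1 n49393 = n106903 := d15_1 D49393 F164773 (iv2 D49394)
def n106904 : Q := act 2 n49392
theorem D106904 : act 2 n49392 = n106904 := rfl
theorem F164775 : act 7 n49393 = n106904 := d15_2 (iv0 D49392) D49393 (iv2 D106904)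
def n106905 : Q := act 3 n49392
theorem D106905 : act 3 n49392 = n106905 := rfl
theorem F164776 : act 4 n106905 = n67452 := d20_6 (iv4 D7012) F11195 D11319 D24106 D49392 D106905 (iv1 D67452) F49608 (iv3 D31047) (iv1 D14688)
theorem F164777 : act 0 n66597 = n106905 := d20_10 F164776 (iv1 D67452) F49608 (iv3 D31047) (iv1 D14688) D14689 F24368 D14695 D31073 D66597
def n106906 : Q := act 4 n49392
theorem D106906 : act 4 n49392 = n106906 := rfl
def n106907 : Q := act 5 n49392
theorem D106907 : act 5 n49392 = n106907 := rfl
def n106908 : Q := act 6 n49392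
theorem D106908 : act 6 n49392 = n106908 := rfl
def n106909 : Q := act 7 n49392
theorem D106909 : act 7 n49392 = n106909 := rfl
theorem F164778 : act 2 n106909 = n49393 := d4_1 D106909 F164775 (iv2 D106904)
def n106910 : Q := act 3 n49393
theorem D106910 : act 3 n49393 = n106910 := rfl
def n106911 : Q := act 4 n49393
theorem D106911 : act 4 n49393 = n106911 := rfl
theorem F164779 : act 3 n51237 = n106911 := d20_5 F18542 (iv1 F10469) (iv4 F19216) (iv3 F39066) (iv1 F80823) (iv4 D106911) (iv1 D49393) F37769 (iv3 D11362) D11360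
def n106912 : Q := act 5 n49393
theorem D106912 : act 5 n49393 = n106912 := rfl
def n106913 : Q := act 6 n49393
theorem D106913 : act 6 n49393 = n106913 := rfl
def n106914 : Q := act 0 n49394
theorem D106914 : act 0 n49394 = n106914 := rfl
theorem F164780 : act 1 n49396 = n106914 := d15_0 (iv0 D106914) (iv7 F164773) (iv2 F164770)
theorem F164781 : act 4 n51227 = n106914 := d20_0 (iv1 F164780) F78113 F37906 (iv1 F19205) (iv3 F24390) (iv4 D14729) D14726 D31164 D66898 F102891
def n106915 : Q := act 1 n49394
theorem D106915 : act 1 n49394 = n106915 := rfl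
theorem F164782 : act 1 n106915 = n49396 := d15_1 D106915 (iv7 D49396) D49394
def n106916 : Q := act 5 n49394
theorem D106916 : act 5 n49394 = n106916 := rfl
theorem F164783 : act 2 n106916 = n49395 := d2_1 D106916 (iv5 D49395) D49394
def n106917 : Q := act 0 n49395
theorem D106917 : act 0 n49395 = n106917 := rfl
def n106918 : Q := act 1 n49395
theorem D106918 : act 1 n49395 = n106918 := rfl
def n106919 : Q := act 4 n49395
theorem D106919 : act 4 n49395 = n106919 := rfl
def n106920 : Q := act 6 n49395
theorem D106920 : act 6 n49395 = n106920 := rfl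
theorem F164784 : act 3 n106920 = n49400 := d7_1 D106920 (iv6 D49400) (iv3 F78111)
def n106921 : Q := act 7 n49395
theorem D106921 : act 7 n49395 = n106921 := rfl
theorem F164785 : act 3 n106921 = n49401 := d8_1 D106921 (iv7 D49401) (iv3 F78111)
theorem F164786 : act 5 n106921 = n49396 := d13_1 D106921 (iv7 D49396) D49395
def n106922 : Q := act 6 n49396
theorem D106922 : act 6 n49396 = n106922 := rfl
theorem F164787 : act 3 n106922 = n49402 := d7_1 D106922 (iv6 D49402) (iv3 F78112)
theorem F164788 : act 4 n106922 = n49603 := d10_1 D106922 (iv6 D49603) (iv4 F78113)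
def n106923 : Q := act 3 n49397
theorem D106923 : act 3 n49397 = n106923 := rfl
theorem F164789 : act 5 n106923 = n50196 := d6_2 (iv5 F78114) D106923 (iv3 D50196)
def n106924 : Q := act 6 n49397
theorem D106924 : act 6 n49397 = n106924 := rfl
theorem F164790 : act 4 n106924 = n50271 := d10_1 D106924 (iv6 D50271) F78115
def n106925 : Q := act 3 n49398
theorem D106925 : act 3 n49398 = n106925 := rfl
theorem F164791 : act 5 n106925 = n50259 := d6_2 (iv5 F78118) D106925 (iv3 D50259)
def n106926 : Q := act 6 n49398
theorem D106926 : act 6 n49398 = n106926 := rfl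
theorem F164792 : act 4 n106926 = n50223 := d10_1 D106926 (iv6 D50223) F78119
def n106927 : Q := act 3 n49399
theorem D106927 : act 3 n49399 = n106927 := rfl
theorem F164793 : act 5 n106927 = n50180 := d6_2 (iv5 F78121) D106927 F79516
theorem F164794 : act 7 n106927 = n50179 := d8_2 (iv7 F78124) D106927 F79515
def n106928 : Q := act 6 n49399
theorem D106928 : act 6 n49399 = n106928 := rfl
theorem F164795 : act 2 n106928 = n50398 := d3_1 D106928 (iv6 D50398) (iv2 F78120)
theorem F164796 : act 4 n106928 = n49400 := d10_1 D106928 (iv6 D49400) D49399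
def n106929 : Q := act 0 n49400
theorem D106929 : act 0 n49400 = n106929 := rfl
def n106930 : Q := act 1 n49400
theorem D106930 : act 1 n49400 = n106930 := rfl
def n106931 : Q := act 7 n49400
theorem D106931 : act 7 n49400 = n106931 := rfl
def n106932 : Q := act 6 n49401
theorem D106932 : act 6 n49401 = n106932 := rfl
theorem F164797 : act 2 n106932 = n50394 := d3_1 D106932 (iv6 D50394) (iv2 F78125)
theorem F164798 : act 4 n106932 = n50183 := d10_1 D106932 (iv6 D50183) (iv4 F78126)
def n106933 : Q := act 0 n49402
theorem D106933 : act 0 n49402 = n106933 := rfl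
theorem F164799 : act 1 n50140 = n106933 := d15_0 (iv0 D106933) (iv7 F79292) (iv2 F79423)
def n106934 : Q := act 1 n49402
theorem D106934 : act 1 n49402 = n106934 := rfl
theorem F164800 : act 1 n106934 = n50140 := d15_1 D106934 F79425 (iv2 F78128)
def n106935 : Q := act 5 n49402
theorem D106935 : act 5 n49402 = n106935 := rfl
theorem F164801 : act 2 n106935 = n65867 := d2_1 D106935 (iv5 D65867) (iv2 F78128)
def n106936 : Q := act 4 n49403
theorem D106936 : act 4 n49403 = n106936 := rfl
theorem F164802 : act 2 n106936 = n53827 := d1_1 D106936 (iv4 D53827) (iv2 F163974)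
theorem F164803 : act 7 n106936 = n65874 := d11_2 (iv7 F101636) D106936 (iv4 D65874)
theorem F164804 : act 1 n67429 = n106936 := d15_1 D67429 F164803 F163973
theorem F164805 : act 1 n106936 = n67428 := d15_0 (iv0 D67428) (iv7 F84850) (iv2 F164802)
def n106937 : Q := act 5 n49403
theorem D106937 : act 5 n49403 = n106937 := rfl
theorem F164806 : act 2 n106937 = n53828 := d2_1 D106937 (iv5 D53828) (iv2 F163974)
theorem F164807 : act 3 n106937 = n67390 := d6_1 D106937 (iv5 D67390) (iv3 F163975)
theorem F164808 : act 7 n106937 = n65875 := d13_2 (iv7 F101636) D106937 (iv5 D65875)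
theorem F164809 : act 0 n106937 = n67434 := d21_1 D106937 F163967 (iv6 D53399) (iv1 D25870) (iv6 D12277) (iv5 D5823) (iv1 F10169) (iv5 F18497) D24109 D49403
theorem F164810 : act 6 n106937 = n65529 := d21_3 F37775 D49403 D106937 (iv1 F101250) F98362 (iv5 F79481) (iv1 F79484) (iv5 F163934) (iv6 D31340) (iv1 F163962)
theorem F164811 : act 0 n65512 = n106937 := d21_10 (iv5 D106937) (iv1 F78130) F38374 (iv6 D24453) (iv1 F19437) D14510 F24154 D14550 D30704 D65512
def n106938 : Q := act 6 n49403
theorem D106938 : act 6 n49403 = n106938 := rfl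
theorem F164812 : act 2 n106938 = n53829 := d3_1 D106938 (iv6 D53829) (iv2 F163974)
theorem F164813 : act 3 n106938 = n67391 := d7_1 D106938 (iv6 D67391) (iv3 F163975)
theorem F164814 : act 7 n106938 = n63453 := d14_2 (iv7 F101636) D106938 F98790 F101640 (iv6 D65876)
theorem F164815 : act 5 n106938 = n63337 := d21_6 (iv5 D5823) (iv1 F10169) (iv5 F18497) D24109 D49403 D106938 (iv1 D63337) F48086 (iv6 D25863) (iv1 D12275)
theorem F164816 : act 0 n65167 = n106938 := d21_4 (iv5 F26185) D34175 (iv5 F80934) D65167 (iv6 D106938) D106937 F164809 F163967 (iv6 D53399) (iv1 D25870)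
theorem F164817 : act 1 n53523 = n106938 := d15_0 (iv0 F164816) (iv7 F164745) F164742
def n106939 : Q := act 0 n49405
theorem D106939 : act 0 n49405 = n106939 := rfl
theorem F164818 : act 5 n106939 = n106825 := d21_2 (iv5 F78132) D106939 (iv6 D106825) (iv1 D49359) (iv6 D24090) (iv5 F19989) (iv1 F19991) (iv5 F37521) (iv6 F37887) F78021
theorem F164819 : act 6 n106939 = n106445 := d21_5 F26099 (iv1 F24461) (iv5 F37776) D49405 D106939 (iv5 D106445) (iv1 F77676) F37815 (iv6 D24134) (iv1 F26101)
theorem F164820 : act 0 n106825 = n106418 := d21_1 F164818 (iv5 D106418) (iv6 F111174) (iv1 D74274) (iv6 D34079) F26099 (iv1 F24461) (iv5 F37776) D49405 D106939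
theorem F164821 : act 1 n49507 = n106939 := d15_0 (iv0 D106939) (iv7 F82162) F82161
theorem F164822 : act 1 n106825 = n106419 := d15_1 (iv0 F164820) F163653 (iv2 F163647)
def n106940 : Q := act 1 n49405
theorem D106940 : act 1 n49405 = n106940 := rfl
theorem F164823 : act 1 n106940 = n49507 := d15_1 D106940 (iv7 F95179) F95176
def n106941 : Q := act 3 n49406
theorem D106941 : act 3 n49406 = n106941 := rfl
theorem F164824 : act 4 n106941 = n64962 := d5_2 (iv4 F78135) D106941 (iv3 D64962) F48915 F47956
theorem F164825 : act 7 n106941 = n67615 := d8_2 (iv7 F78134) D106941 (iv3 D67615)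
def n106942 : Q := act 5 n49406
theorem D106942 : act 5 n49406 = n106942 := rfl
theorem F164826 : act 2 n106942 = n67620 := d2_1 D106942 (iv5 D67620) F78136
theorem F164827 : act 7 n106942 = n67616 := d13_2 (iv7 F78134) D106942 (iv5 D67616)
theorem F164828 : act 0 n106942 = n58752 := d17_2 (iv1 F78133) D106942 (iv5 D58752) F45128 F26099 (iv0 F24459) F37779 F37778 D24119
theorem F164829 : act 1 n106942 = n58749 := d17_6 (iv1 F22151) F18666 (iv1 F24425) (iv5 F38191) (iv4 F78135) D106942 (iv5 D58749) (iv0 D27934) (iv4 D13324)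
def n106943 : Q := act 0 n49407
theorem D106943 : act 0 n49407 = n106943 := rfl
def n106944 : Q := act 1 n49407
theorem D106944 : act 1 n49407 = n106944 := rfl
def n106945 : Q := act 2 n49407
theorem D106945 : act 2 n49407 = n106945 := rfl
def n106946 : Q := act 5 n49407
theorem D106946 : act 5 n49407 = n106946 := rfl
theorem F164830 : act 3 n106946 = n49408 := d6_1 D106946 (iv5 D49408) D49407
def n106947 : Q := act 6 n49407
theorem D106947 : act 6 n49407 = n106947 := rfl
theorem F164831 : act 3 n106947 = n49409 := d7_1 D106947 (iv6 D49409) D49407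
theorem F164832 : act 4 n106947 = n64706 := d10_1 D106947 (iv6 F110969) F110968
def n106948 : Q := act 6 n49408
theorem D106948 : act 6 n49408 = n106948 := rfl
def n106949 : Q := act 0 n49409
theorem D106949 : act 0 n49409 = n106949 := rfl
def n106950 : Q := act 1 n49409
theorem D106950 : act 1 n49409 = n106950 := rfl
theorem F164833 : act 4 n106950 = n51150 := d18_7 (iv1 F94056) F161379 (iv1 D64632) F48848 (iv5 F37782) (iv4 F78138) D106950 F80688 F53886
theorem F164834 : act 2 n74731 = n106950 := d1_3 F164833 F103508 D74731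
theorem F164835 : act 7 n74729 = n106950 := d11_0 F164833 F103506 D74729
theorem F164836 : act 2 n74729 = n106949 := d15_3 (iv0 D106949) D106950 (iv7 F164835)
theorem F164837 : act 4 n106949 = n51149 := d1_2 D74729 F164836 (iv2 F103507)
theorem F164838 : act 6 n106949 = n49468 := d3_2 (iv6 F112158) F164836 F111250
theorem F164839 : act 7 n106949 = n74731 := d4_2 (iv7 F164835) F164836 F164834
theorem F164840 : act 1 n74729 = n106402 := d15_0 (iv0 F163566) (iv7 F164839) (iv2 F164836)
def n106951 : Q := act 5 n49409
theorem D106951 : act 5 n49409 = n106951 := rfl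
def n106952 : Q := act 7 n49409
theorem D106952 : act 7 n49409 = n106952 := rfl
theorem F164841 : act 4 n106952 = n49412 := d11_1 D106952 (iv7 D49412) (iv4 F78138)
theorem F164842 : act 1 n74731 = n106952 := d15_1 (iv0 F163566) (iv7 D106952) (iv2 F163564)
theorem F164843 : act 1 n106952 = n74729 := d15_1 F164842 F164835 (iv2 F164834)
def n106953 : Q := act 4 n49410
theorem D106953 : act 4 n49410 = n106953 := rfl
theorem F164844 : act 6 n106953 = n49474 := d10_2 F78140 D106953 (iv4 D49474)
def n106954 : Q := act 6 n49411
theorem D106954 : act 6 n49411 = n106954 := rfl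
theorem F164845 : act 5 n106954 = n49480 := d12_1 D106954 (iv6 D49480) F111256 (iv6 F111257) F78141
theorem F164846 : act 7 n106954 = n49480 := d14_2 (iv7 F111336) D106954 (iv6 D49480) (iv7 F111264) D59128
theorem F164847 : act 0 n106954 = n106450 := d21_10 (iv5 D106450) (iv1 D49185) F37519 (iv6 D23999) (iv1 F18303) D11359 (iv5 F23054) D29004 F78141 D106954
theorem F164848 : act 0 n49618 = n49480 := d21_1 D49618 (iv5 F164845) (iv6 D106954) (iv1 D49411) (iv6 D24113) (iv5 D11324) (iv1 F18291) (iv5 F37491) D49168 (iv1 F77644)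
theorem F164849 : act 0 n106445 = n106954 := d21_4 D106419 (iv1 F164822) (iv5 F164818) F164819 (iv6 D106954) (iv5 F78141) (iv1 F82377) F82374 F77671 (iv1 F77654)
theorem F164850 : act 0 n49614 = n106420 := d21_4 F164845 F78358 (iv5 D49613) D49614 (iv6 D106420) D106419 (iv1 F164822) (iv5 F164818) F164819 F164849
theorem F164851 : act 1 n59133 = n106450 := d15_0 (iv0 F164847) F164846 (iv2 F111377)
def n106955 : Q := act 3 n49413
theorem D106955 : act 3 n49413 = n106955 := rfl
theorem F164852 : act 4 n106955 = n49415 := d5_2 D49413 D106955 (iv3 D49415) (iv4 D24119) (iv3 F37791)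
theorem F164853 : act 7 n106955 = n74221 := d8_2 (iv7 F78145) D106955 (iv3 D74221)
def n106956 : Q := act 5 n49413
theorem D106956 : act 5 n49413 = n106956 := rfl
theorem F164854 : act 2 n106956 = n49950 := d2_1 D106956 F78992 (iv2 F78144)
theorem F164855 : act 4 n106956 = n74190 := d9_1 D106956 (iv5 D74190) (iv4 D34035) (iv5 D16488) (iv4 F11894) D16493 D34046 D74216 F111058 (iv5 F110977) (iv4 D34036) (iv5 D16489) F19519 D24117 D49413
theorem F164856 : act 7 n106956 = n49949 := d13_2 (iv7 F78145) D106956 F78988
theorem F164857 : act 0 n106956 = n49893 := d17_2 (iv1 F78146) D106956 (iv5 D49893) (iv4 D24330) (iv5 D11463) D11462 D24328 F38120 D29417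
theorem F164858 : act 1 n106956 = n49953 := d17_6 (iv1 F39094) F39092 F19522 D24117 D49413 D106956 F79004 (iv0 F53474) (iv4 D34069)
def n106957 : Q := act 0 n49414
theorem D106957 : act 0 n49414 = n106957 := rfl
theorem F164859 : act 3 n106957 = n52158 := d20_5 (iv4 F78385) F78386 F78151 (iv3 F78148) D106957 (iv4 F112212) (iv1 F112215) (iv4 D67518) F78390 (iv1 D49628)
theorem F164860 : act 2 n65430 = n106957 := d15_3 (iv0 D106957) (iv0 F78149) D65430
theorem F164861 : act 7 n106957 = n49488 := d4_2 D65430 F164860 F78233
theorem E16426 : n74244 = n65430 := ((c15_4 (iv0 D74244) (iv0 F78236) (iv7 F164861) (iv2 F164860))).symm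
theorem F164862 : act 1 n65430 = n34062 := (sb E16426 (iv0 D74244))
theorem F164863 : act 5 n64095 = n106957 := d13_3 F164861 F78235 D64095
theorem F164864 : act 1 n65429 = n106957 := d15_1 D65429 F164861 F78233
def n106958 : Q := act 7 n49414
theorem D106958 : act 7 n49414 = n106958 := rfl
theorem F164865 : act 2 n106958 = n65429 := d4_1 D106958 F101149 (iv2 F78147)
theorem F164866 : act 3 n106958 = n49420 := d8_1 D106958 (iv7 D49420) (iv3 F78148)
theorem F164867 : act 6 n106958 = n74225 := d14_1 D106958 (iv7 D74225) (iv6 D34049) (iv7 F37792) D49414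
theorem F164868 : act 1 n49488 = n106958 := d15_1 (iv0 F78236) (iv7 D106958) F78147
theorem F164869 : act 1 n106958 = n65430 := d15_1 F164868 (iv7 D65430) (iv2 F78233)
def n106959 : Q := act 0 n49415
theorem D106959 : act 0 n49415 = n106959 := rfl
theorem F164870 : act 3 n106959 = n74740 := d20_5 F53876 (iv1 F37777) D24119 D49415 D106959 (iv4 D74740) (iv1 D34245) (iv4 F53881) (iv3 D34238) D34236
def n106960 : Q := act 1 n49415
theorem D106960 : act 1 n49415 = n106960 := rfl
def n106961 : Q := act 2 n49415
theorem D106961 : act 2 n49415 = n106961 := rfl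
def n106962 : Q := act 5 n49415
theorem D106962 : act 5 n49415 = n106962 := rfl
theorem F164871 : act 3 n106962 = n49416 := d6_1 D106962 (iv5 D49416) D49415
def n106963 : Q := act 6 n49415
theorem D106963 : act 6 n49415 = n106963 := rfl
theorem F164872 : act 3 n106963 = n49417 := d7_1 D106963 (iv6 D49417) D49415
def n106964 : Q := act 6 n49416
theorem D106964 : act 6 n49416 = n106964 := rfl
def n106965 : Q := act 0 n49417
theorem D106965 : act 0 n49417 = n106965 := rfl
def n106966 : Q := act 5 n49417
theorem D106966 : act 5 n49417 = n106966 := rfl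
def n106967 : Q := act 4 n49418
theorem D106967 : act 4 n49418 = n106967 := rfl
theorem F164873 : act 2 n106967 = n68144 := d1_1 D106967 F104299 F82120
theorem F164874 : act 6 n106967 = n68151 := d10_2 F82128 D106967 F104301
theorem F164875 : act 7 n106967 = n49462 := d11_2 (iv7 F78362) D106967 F78215
theorem F164876 : act 1 n106967 = n58744 := d18_6 D29335 D61921 (iv1 F164228) F164225 (iv5 F78361) D106967 F92821 (iv0 F45118) F24580
theorem F164877 : act 0 n106967 = n67709 := d20_1 D106967 (iv4 D67709) (iv3 D31445) (iv1 D14821) (iv3 F24479) (iv4 F49728) D67682 F111121 F78148 D49418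
def n106968 : Q := act 0 n49419
theorem D106968 : act 0 n49419 = n106968 := rfl
theorem F164878 : act 5 n106968 = n49539 := d21_2 D49419 D106968 (iv6 D49539) (iv1 D24174) (iv6 D11356) (iv5 F10139) (iv1 F18570) (iv5 F19784) D25238 F39773
theorem F164879 : act 6 n106968 = n106854 := d21_5 (iv5 F37713) F26089 D24122 (iv6 F78152) D106968 (iv5 D106854) (iv1 F78059) F48376 (iv6 D30105) (iv1 F37712)
theorem F164880 : act 0 n49539 = n106822 := d21_1 F164878 (iv5 D106822) (iv6 F82735) F92950 (iv6 D49353) (iv5 F37713) F26089 D24122 (iv6 F78152) D106968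
theorem F164881 : act 1 n106480 = n106968 := d15_0 (iv0 D106968) (iv7 F164379) F164377
theorem F164882 : act 3 n62525 = n106968 := d7_3 F164879 F164656 F98849
def n106969 : Q := act 1 n49419
theorem D106969 : act 1 n49419 = n106969 := rfl
theorem F164883 : act 1 n106969 = n106480 := d15_1 D106969 F163730 F95911
def n106970 : Q := act 4 n49419
theorem D106970 : act 4 n49419 = n106970 := rfl
theorem F164884 : act 2 n106970 = n60528 := d1_1 D106970 (iv4 F95913) F95911
theorem F164885 : act 6 n106970 = n49421 := d10_2 (iv6 F78152) D106970 (iv4 D49421)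
def n106971 : Q := act 3 n49421
theorem D106971 : act 3 n49421 = n106971 := rfl
theorem F164886 : act 4 n106971 = n60705 := d5_2 D49421 D106971 (iv3 D60705) (iv4 F48278) (iv3 F48282)
theorem F164887 : act 7 n106971 = n60529 := d8_2 (iv7 F78155) D106971 (iv3 D60529)
def n106972 : Q := act 0 n49422
theorem D106972 : act 0 n49422 = n106972 := rfl
def n106973 : Q := act 1 n49422
theorem D106973 : act 1 n49422 = n106973 := rfl
def n106974 : Q := act 2 n49422
theorem D106974 : act 2 n49422 = n106974 := rfl
theorem F164888 : act 4 n106974 = n74279 := d1_2 F110996 D106974 F111472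
def n106975 : Q := act 5 n49422
theorem D106975 : act 5 n49422 = n106975 := rfl
theorem F164889 : act 3 n106975 = n49423 := d6_1 D106975 (iv5 D49423) D49422
def n106976 : Q := act 6 n49422
theorem D106976 : act 6 n49422 = n106976 := rfl
theorem F164890 : act 3 n106976 = n49424 := d7_1 D106976 (iv6 D49424) D49422
def n106977 : Q := act 6 n49423
theorem D106977 : act 6 n49423 = n106977 := rfl
def n106978 : Q := act 0 n49424
theorem D106978 : act 0 n49424 = n106978 := rfl
def n106979 : Q := act 1 n49424
theorem D106979 : act 1 n49424 = n106979 := rfl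
theorem F164891 : act 4 n106979 = n51156 := d18_7 (iv1 F45889) (iv4 F94234) (iv1 F94236) (iv4 D52311) (iv5 F40187) (iv4 F78158) D106979 F80701 F78636
def n106980 : Q := act 5 n49424
theorem D106980 : act 5 n49424 = n106980 := rfl
theorem F164892 : act 0 n106980 = n68135 := d17_2 (iv1 D106979) D106980 (iv5 D68135) F50030 F24585 D25470 (iv5 F40268) D51156 (iv4 F164891)
def n106981 : Q := act 7 n49424
theorem D106981 : act 7 n49424 = n106981 := rfl
theorem F164893 : act 4 n106981 = n49427 := d11_1 D106981 (iv7 D49427) (iv4 F78158)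
def n106982 : Q := act 3 n49425
theorem D106982 : act 3 n49425 = n106982 := rfl
theorem F164894 : act 2 n106982 = n64149 := d0_1 D106982 F163552 (iv2 F102449) D74461 (iv2 F111770)
theorem F164895 : act 6 n106982 = n49564 := d7_2 (iv6 F99520) D106982 (iv3 D49564)
theorem F164896 : act 7 n64150 = n106982 := d15_2 (iv0 D64149) D64150 F164894
theorem F164897 : act 2 n64150 = n74464 := d4_3 (iv7 F163554) (iv2 F164894) (iv7 F164896)
theorem F164898 : act 3 n106405 = n64150 := d0_0 F164897 (iv3 D74464) (iv2 F102451) F111772 (iv2 F163604)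
def n106983 : Q := act 4 n49425
theorem D106983 : act 4 n49425 = n106983 := rfl
theorem F164899 : act 6 n106983 = n49565 := d10_2 (iv6 F99520) D106983 (iv4 D49565)
def n106984 : Q := act 5 n49425
theorem D106984 : act 5 n49425 = n106984 := rfl
theorem F164900 : act 7 n106984 = n52419 := d13_2 F163602 D106984 F163603
theorem F164901 : act 1 n52354 = n106984 := d15_1 (iv0 F161235) F164900 (iv2 F161346)
def n106985 : Q := act 4 n49426
theorem D106985 : act 4 n49426 = n106985 := rfl
theorem F164902 : act 0 n106985 = n49435 := d18_2 (iv1 F82690) D106985 F78162 (iv5 F39719) (iv4 F82077) F161136 F161134 F76523 D52309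
def n106986 : Q := act 6 n49426
theorem D106986 : act 6 n49426 = n106986 := rfl
theorem F164903 : act 3 n106986 = n66006 := d7_1 D106986 F101689 F111772
theorem F164904 : act 5 n106986 = n49509 := d12_1 D106986 (iv6 F161232) (iv5 D105277) D105278 F161233
theorem F164905 : act 7 n106986 = n49562 := d14_2 (iv7 F111771) D106986 (iv6 D49562) (iv7 F163595) F163594
theorem F164906 : act 0 n49619 = n106986 := d21_1 (iv5 F79670) F164904 (iv6 F161232) (iv1 F161356) (iv6 D105199) (iv5 F98280) (iv1 F98286) F95133 F82636 F82159
def n106987 : Q := act 0 n49428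
theorem D106987 : act 0 n49428 = n106987 := rfl
theorem F164907 : act 3 n106987 = n74564 := d20_5 F77638 (iv1 F37493) D24127 D49428 D106987 (iv4 D74564) (iv1 D34193) D34195 F53814 (iv1 F77640)
def n106988 : Q := act 1 n49428
theorem D106988 : act 1 n49428 = n106988 := rfl
def n106989 : Q := act 2 n49428
theorem D106989 : act 2 n49428 = n106989 := rfl
def n106990 : Q := act 5 n49428
theorem D106990 : act 5 n49428 = n106990 := rfl
theorem F164908 : act 3 n106990 = n49429 := d6_1 D106990 (iv5 D49429) D49428
def n106991 : Q := act 6 n49428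
theorem D106991 : act 6 n49428 = n106991 := rfl
theorem F164909 : act 3 n106991 = n49430 := d7_1 D106991 (iv6 D49430) D49428
def n106992 : Q := act 6 n49429
theorem D106992 : act 6 n49429 = n106992 := rfl
def n106993 : Q := act 0 n49430
theorem D106993 : act 0 n49430 = n106993 := rfl
def n106994 : Q := act 5 n49430
theorem D106994 : act 5 n49430 = n106994 := rfl
def n106995 : Q := act 7 n49430
theorem D106995 : act 7 n49430 = n106995 := rfl
theorem F164910 : act 4 n106995 = n49433 := d11_1 D106995 (iv7 D49433) (iv4 F78160)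
def n106996 : Q := act 4 n49431
theorem D106996 : act 4 n49431 = n106996 := rfl
theorem F164911 : act 7 n106996 = n67611 := d11_2 (iv7 F111457) D106996 (iv4 F111176)
theorem F164912 : act 0 n106996 = n67613 := d18_2 D49431 D106996 F103620 F49663 (iv4 F49657) (iv0 F101183) (iv4 D65503) (iv0 F111255) F48674
theorem F164913 : act 2 n106996 = n67610 := d15_3 (iv0 D67610) D67611 (iv7 F164911)
theorem F164914 : act 4 n67610 = n74273 := d1_2 D106996 F164913 (iv2 F111455)
def n106997 : Q := act 6 n49431
theorem D106997 : act 6 n49431 = n106997 := rfl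
theorem F164915 : act 3 n106997 = n65167 := d7_1 D106997 (iv6 D65167) (iv3 F111456)
theorem F164916 : act 7 n106997 = n49539 := d14_2 (iv7 F111457) D106997 (iv6 D49539) (iv7 F102099) (iv6 F111174)
theorem F164917 : act 0 n106997 = n49614 := d21_10 F78359 (iv1 D49337) (iv5 F39772) (iv6 D25238) (iv1 F19785) D13394 (iv5 F40057) D52185 (iv5 F82514) D106997
def n106998 : Q := act 3 n49432
theorem D106998 : act 3 n49432 = n106998 := rfl
theorem F164918 : act 2 n106998 = n64545 := d0_1 D106998 F102188 (iv2 F102102) F111173 (iv2 F111451)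
theorem F164919 : act 6 n106998 = n49531 := d7_2 (iv6 F93061) D106998 (iv3 D49531)
theorem F164920 : act 5 n64270 = n106998 := d21_2 (iv5 F100134) (iv1 F100136) F164919 F102178 (iv6 F99553) (iv5 F111066) (iv1 F111317) F111319 F99715 (iv1 F48712)
theorem F164921 : act 2 n64304 = n64270 := d2_3 F164920 F164918 F100493
theorem F164922 : act 3 n52186 = n64270 := d6_3 F164920 (iv3 D106998) F93060
theorem F164923 : act 6 n64270 = n106411 := d7_2 F99515 F164922 F163611
theorem F164924 : act 0 n106998 = n50100 := d21_7 F37867 F38287 (iv5 F37500) D49169 D106411 (iv6 F164923) F164920 F79314 (iv6 D25797) (iv1 F37866)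
theorem F164925 : act 7 n64269 = n64304 := d15_2 F100136 F100137 F164921
theorem F164926 : act 7 n64303 = n64270 := d15_2 F100129 F100135 (iv2 F164921)
theorem F164927 : act 2 n64269 = n64303 := d4_3 F164926 (iv2 F164921) (iv7 F164925)
theorem F164928 : act 3 n49481 = n64303 := d8_3 F164926 (iv3 F164922) F111454
theorem F164929 : act 3 n64269 = n51300 := d0_2 F164928 (iv2 F164927) F102165 (iv3 F111460) F111459
def n106999 : Q := act 4 n49432
theorem D106999 : act 4 n49432 = n106999 := rfl
theorem F164930 : act 2 n106999 = n67611 := d1_1 D106999 (iv4 F111176) (iv2 F111451)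
theorem F164931 : act 6 n106999 = n49532 := d10_2 (iv6 F93061) D106999 (iv4 D49532)
theorem F164932 : act 7 n106999 = n67610 := d11_2 F111453 D106999 F164914
theorem F164933 : act 0 n106999 = n49438 := d18_2 (iv1 F111468) D106999 F78166 F45121 (iv4 F49619) D67475 F111278 F99430 (iv5 F111466)
theorem F164934 : act 1 n106999 = n67613 := d15_1 (iv0 F164933) (iv7 D67613) (iv2 F78165)
theorem F164935 : act 1 n106996 = n49438 := d15_0 (iv0 F164933) F164932 (iv2 F164913)
def n107000 : Q := act 0 n49434
theorem D107000 : act 0 n49434 = n107000 := rfl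
theorem F164936 : act 5 n107000 = n49969 := d17_3 D24129 D49434 D107000 F79035 F53440 F48675 (iv5 D24125) (iv0 D11331) D11333
theorem F164937 : act 4 n107000 = n60578 := d18_1 D107000 F95193 F92839 (iv5 D49429) (iv4 D24127) F37493 (iv4 F77638) F77640 D49434
theorem F164938 : act 0 n107000 = n49437 := d18_0 F78164 D107000 F164937 (iv5 D60578) (iv4 D28768) (iv0 F22970) D24890 F79036 (iv5 F164936)
theorem F164939 : act 2 n67622 = n107000 := d1_3 F164937 (iv2 F103624) (iv4 F103642)
theorem F164940 : act 7 n67621 = n107000 := d11_0 F164937 (iv7 F103634) (iv4 F103638)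
def n107001 : Q := act 1 n49434
theorem D107001 : act 1 n49434 = n107001 := rfl
theorem F164941 : act 1 n107001 = n49437 := d15_1 D107001 (iv7 F80697) F80696
theorem F164942 : act 7 n107001 = n67622 := d15_2 (iv0 D107000) D107001 F164939
theorem F164943 : act 5 n107001 = n49970 := d17_7 F22970 (iv5 D13719) F22957 (iv5 F18666) (iv4 F37808) D49434 D107001 F79040 (iv4 D24890)
theorem F164944 : act 4 n107001 = n106942 := d17_9 F164828 (iv5 D58752) (iv1 D27935) D27937 D58761 F92864 F77640 D49434 D107001
theorem F164945 : act 2 n67621 = n107001 := d1_3 F164944 F164826 (iv4 F103638)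
def n107002 : Q := act 6 n49434
theorem D107002 : act 6 n49434 = n107002 := rfl
def n107003 : Q := act 0 n49435
theorem D107003 : act 0 n49435 = n107003 := rfl
def n107004 : Q := act 5 n49435
theorem D107004 : act 5 n49435 = n107004 := rfl
def n107005 : Q := act 7 n49435
theorem D107005 : act 7 n49435 = n107005 := rfl
theorem F164946 : act 4 n107005 = n49777 := d11_1 D107005 (iv7 D49777) (iv4 F78162)
theorem F164947 : act 6 n107005 = n67613 := d14_1 D107005 (iv7 D67613) F49661 F37809 D49435
def n107006 : Q := act 0 n49436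
theorem D107006 : act 0 n49436 = n107006 := rfl
def n107007 : Q := act 1 n49436
theorem D107007 : act 1 n49436 = n107007 := rfl
def n107008 : Q := act 2 n49436
theorem D107008 : act 2 n49436 = n107008 := rfl
theorem F164948 : act 3 n107008 = n65254 := d0_2 D49436 D107008 F100994 F49090 F37811
def n107009 : Q := act 5 n49436
theorem D107009 : act 5 n49436 = n107009 := rfl
theorem F164949 : act 3 n107009 = n49437 := d6_1 D107009 (iv5 D49437) D49436
def n107010 : Q := act 6 n49436
theorem D107010 : act 6 n49436 = n107010 := rfl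
theorem F164950 : act 3 n107010 = n49438 := d7_1 D107010 (iv6 D49438) D49436
def n107011 : Q := act 6 n49437
theorem D107011 : act 6 n49437 = n107011 := rfl
theorem F164951 : act 2 n107011 = n67623 := d3_1 D107011 (iv6 D67623) (iv2 F78163)
theorem F164952 : act 4 n107011 = n107002 := d10_1 D107011 (iv6 D107002) (iv4 F78164)
def n107012 : Q := act 5 n49438
theorem D107012 : act 5 n49438 = n107012 := rfl
theorem F164953 : act 2 n107012 = n67612 := d2_1 D107012 (iv5 D67612) (iv2 F78165)
def n107013 : Q := act 7 n49438
theorem D107013 : act 7 n49438 = n107013 := rfl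
theorem F164954 : act 2 n107013 = n67613 := d4_1 D107013 (iv7 D67613) (iv2 F78165)
theorem F164955 : act 4 n107013 = n58747 := d11_1 D107013 (iv7 D58747) (iv4 F78166)
theorem F164956 : act 1 n67611 = n107013 := d15_1 D67611 (iv7 D107013) F78165
theorem F164957 : act 1 n107013 = n67610 := d15_1 F164956 (iv7 F164932) F164930
def n107014 : Q := act 0 n49439
theorem D107014 : act 0 n49439 = n107014 := rfl
theorem F164958 : act 2 n49443 = n107014 := d15_3 (iv0 D107014) (iv0 D49439) D49443
theorem F164959 : act 7 n107014 = n49441 := d4_2 D49443 F164958 (iv2 D49441)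
theorem F164960 : act 1 n49440 = n107014 := d15_1 D49440 F164959 (iv2 D49441)
def n107015 : Q := act 2 n49439
theorem D107015 : act 2 n49439 = n107015 := rfl
theorem F164961 : act 7 n49440 = n107015 := d15_2 (iv0 D49439) D49440 (iv2 D107015)
def n107016 : Q := act 3 n49439
theorem D107016 : act 3 n49439 = n107016 := rfl
def n107017 : Q := act 4 n49439
theorem D107017 : act 4 n49439 = n107017 := rfl
def n107018 : Q := act 5 n49439
theorem D107018 : act 5 n49439 = n107018 := rfl
def n107019 : Q := act 6 n49439
theorem D107019 : act 6 n49439 = n107019 := rfl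
def n107020 : Q := act 7 n49439
theorem D107020 : act 7 n49439 = n107020 := rfl
theorem F164962 : act 2 n107020 = n49440 := d4_1 D107020 F164961 (iv2 D107015)
def n107021 : Q := act 3 n49440
theorem D107021 : act 3 n49440 = n107021 := rfl
def n107022 : Q := act 4 n49440
theorem D107022 : act 4 n49440 = n107022 := rfl
def n107023 : Q := act 5 n49440
theorem D107023 : act 5 n49440 = n107023 := rfl
def n107024 : Q := act 6 n49440
theorem D107024 : act 6 n49440 = n107024 := rfl
def n107025 : Q := act 0 n49441
theorem D107025 : act 0 n49441 = n107025 := rfl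
theorem F164963 : act 1 n49443 = n107025 := d15_0 (iv0 D107025) (iv7 F164959) (iv2 F164958)
def n107026 : Q := act 1 n49441
theorem D107026 : act 1 n49441 = n107026 := rfl
theorem F164964 : act 1 n107026 = n49443 := d15_1 D107026 (iv7 D49443) D49441
def n107027 : Q := act 5 n49441
theorem D107027 : act 5 n49441 = n107027 := rfl
theorem F164965 : act 2 n107027 = n49442 := d2_1 D107027 (iv5 D49442) D49441
def n107028 : Q := act 0 n49442
theorem D107028 : act 0 n49442 = n107028 := rfl
def n107029 : Q := act 1 n49442
theorem D107029 : act 1 n49442 = n107029 := rfl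
def n107030 : Q := act 4 n49442
theorem D107030 : act 4 n49442 = n107030 := rfl
def n107031 : Q := act 6 n49442
theorem D107031 : act 6 n49442 = n107031 := rfl
theorem F164966 : act 3 n107031 = n49446 := d7_1 D107031 (iv6 D49446) (iv3 F78168)
theorem F164967 : act 5 n107031 = n49602 := d12_1 D107031 (iv6 D49602) (iv5 D24192) (iv6 F37812) D49442
def n107032 : Q := act 7 n49442
theorem D107032 : act 7 n49442 = n107032 := rfl
theorem F164968 : act 3 n107032 = n49447 := d8_1 D107032 (iv7 D49447) (iv3 F78168)
theorem F164969 : act 5 n107032 = n49443 := d13_1 D107032 (iv7 D49443) D49442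
def n107033 : Q := act 6 n49443
theorem D107033 : act 6 n49443 = n107033 := rfl
theorem F164970 : act 3 n107033 = n49448 := d7_1 D107033 (iv6 D49448) (iv3 F78169)
theorem F164971 : act 7 n107033 = n49603 := d14_2 D49443 D107033 (iv6 D49603) (iv7 D24193) (iv6 F37812)
def n107034 : Q := act 3 n49444
theorem D107034 : act 3 n49444 = n107034 := rfl
theorem F164972 : act 5 n107034 = n58743 := d6_2 (iv5 F78170) D107034 (iv3 D58743)
def n107035 : Q := act 6 n49444
theorem D107035 : act 6 n49444 = n107035 := rfl
theorem F164973 : act 4 n107035 = n74723 := d10_1 D107035 (iv6 D74723) F78171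
def n107036 : Q := act 3 n49445
theorem D107036 : act 3 n49445 = n107036 := rfl
theorem F164974 : act 5 n107036 = n51162 := d6_2 (iv5 F78172) D107036 F80709
theorem F164975 : act 7 n107036 = n51161 := d8_2 F78173 D107036 F80708
def n107037 : Q := act 6 n49445
theorem D107037 : act 6 n49445 = n107037 := rfl
theorem F164976 : act 4 n107037 = n49446 := d10_1 D107037 (iv6 D49446) D49445
def n107038 : Q := act 0 n49446
theorem D107038 : act 0 n49446 = n107038 := rfl
def n107039 : Q := act 1 n49446
theorem D107039 : act 1 n49446 = n107039 := rfl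
def n107040 : Q := act 7 n49446
theorem D107040 : act 7 n49446 = n107040 := rfl
theorem F164977 : act 5 n107040 = n49606 := d13_1 D107040 (iv7 D49606) (iv5 F78174)
def n107041 : Q := act 6 n49447
theorem D107041 : act 6 n49447 = n107041 := rfl
theorem F164978 : act 4 n107041 = n51163 := d10_1 D107041 (iv6 D51163) (iv4 F78175)
def n107042 : Q := act 5 n49448
theorem D107042 : act 5 n49448 = n107042 := rfl
theorem F164979 : act 2 n107042 = n107040 := d2_1 D107042 F164977 F78349
theorem F164980 : act 7 n107042 = n49609 := d13_2 (iv7 F78178) D107042 (iv5 D49609)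
theorem F164981 : act 1 n107039 = n107042 := d15_1 D107039 F164980 F78355
theorem F164982 : act 1 n107042 = n107038 := d15_0 (iv0 D107038) D107040 (iv2 F164979)
def n107043 : Q := act 3 n49449
theorem D107043 : act 3 n49449 = n107043 := rfl
theorem F164983 : act 4 n107043 = n63921 := d5_2 D49449 D107043 (iv3 D63921) (iv4 D30148) F37820
theorem F164984 : act 7 n107043 = n53195 := d8_2 (iv7 F78180) D107043 (iv3 D53195)
def n107044 : Q := act 3 n49450
theorem D107044 : act 3 n49450 = n107044 := rfl
theorem F164985 : act 4 n107044 = n53377 := d5_2 F79550 D107044 (iv3 D53377) F40855 D50193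
theorem F164986 : act 7 n107044 = n53207 := d8_2 (iv7 F78185) D107044 (iv3 D53207)
def n107045 : Q := act 6 n49450
theorem D107045 : act 6 n49450 = n107045 := rfl
theorem F164987 : act 2 n107045 = n53206 := d3_1 D107045 (iv6 D53206) F78183
def n107046 : Q := act 0 n49451
theorem D107046 : act 0 n49451 = n107046 := rfl
theorem F164988 : act 1 n53238 = n107046 := d15_0 (iv0 D107046) F78187 D53238
def n107047 : Q := act 1 n49451
theorem D107047 : act 1 n49451 = n107047 := rfl
theorem F164989 : act 4 n68153 = n107047 := d20_6 (iv4 D14923) (iv1 D7109) D7110 D14927 D31729 D68153 (iv1 D107047) F78186 (iv3 D24144) (iv1 F24584)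
theorem F164990 : act 0 n53238 = n107047 := d20_7 F78397 (iv1 F41154) D31755 (iv3 F93285) (iv1 F93286) (iv3 F82133) (iv4 F84086) (iv4 F164989) (iv3 D68153) (iv1 F78400)
def n107048 : Q := act 2 n49451
theorem D107048 : act 2 n49451 = n107048 := rfl
theorem F164991 : act 3 n107048 = n53212 := d0_2 D49451 D107048 (iv2 D53212) (iv3 D25806) (iv2 F37821)
theorem F164992 : act 4 n107048 = n49466 := d1_2 (iv4 F78186) D107048 (iv2 D49466)
theorem F164993 : act 7 n107048 = n53238 := d4_2 (iv7 F78187) D107048 (iv2 D53238)
theorem F164994 : act 1 n107048 = n53236 := d15_0 (iv0 D53236) (iv7 F78187) D107048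
theorem F164995 : act 1 n53237 = n107048 := d15_1 D53237 F164993 (iv2 D53238)
def n107049 : Q := act 5 n49451
theorem D107049 : act 5 n49451 = n107049 := rfl
theorem F164996 : act 3 n107049 = n49452 := d6_1 D107049 (iv5 D49452) D49451
theorem F164997 : act 7 n107049 = n53239 := d13_2 (iv7 F78187) D107049 (iv5 D53239)
def n107050 : Q := act 6 n49451
theorem D107050 : act 6 n49451 = n107050 := rfl
theorem F164998 : act 3 n107050 = n49453 := d7_1 D107050 (iv6 D49453) D49451
theorem F164999 : act 4 n107050 = n49467 := d10_1 D107050 (iv6 D49467) (iv4 F78186)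
def n107051 : Q := act 0 n49452
theorem D107051 : act 0 n49452 = n107051 := rfl
theorem F165000 : act 5 n107051 = n49515 := d17_1 D107051 (iv1 F78271) D53170 F83974 (iv5 D28120) (iv0 F40096) (iv5 F80333) (iv0 F82204) F82202
theorem F165001 : act 4 n107051 = n49705 := d18_1 D107051 (iv1 F82582) F82580 F79619 (iv4 D50247) (iv0 F79549) F79550 (iv0 D49450) D49452
theorem F165002 : act 2 n53215 = n107051 := d15_3 (iv0 D107051) (iv0 F95027) F95025
theorem F165003 : act 1 n50921 = n107051 := d15_0 (iv0 D107051) F78189 (iv2 F80336)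
theorem F165004 : act 7 n107051 = n53216 := d15_2 F95028 F165003 (iv2 F95024)
def n107052 : Q := act 6 n49452
theorem D107052 : act 6 n49452 = n107052 := rfl
theorem F165005 : act 2 n107052 = n53217 := d3_1 D107052 (iv6 D53217) (iv2 F78188)
def n107053 : Q := act 0 n49453
theorem D107053 : act 0 n49453 = n107053 := rfl
theorem F165006 : act 2 n53218 = n107053 := d15_3 (iv0 D107053) (iv0 F111355) F111435
theorem F165007 : act 7 n53219 = n107053 := d15_2 (iv0 D53218) D53219 (iv2 F165006)
theorem F165008 : act 2 n67596 = n53219 := d4_3 F165007 (iv2 F165006) (iv7 F111435)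
theorem F165009 : act 1 n53221 = n107053 := d15_1 (iv0 F111232) (iv7 F165007) (iv2 F165008)
theorem F165010 : act 4 n53219 = n59440 := d1_2 D67596 F165008 F111439
def n107054 : Q := act 5 n49453
theorem D107054 : act 5 n49453 = n107054 := rfl
theorem F165011 : act 2 n107054 = n53220 := d2_1 D107054 (iv5 D53220) (iv2 F78190)
def n107055 : Q := act 7 n49453
theorem D107055 : act 7 n49453 = n107055 := rfl
theorem F165012 : act 2 n107055 = n53221 := d4_1 D107055 (iv7 D53221) (iv2 F78190)
theorem F165013 : act 4 n107055 = n49454 := d11_1 D107055 (iv7 D49454) (iv4 F78191)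
theorem F165014 : act 6 n107055 = n53245 := d14_1 D107055 (iv7 D53245) (iv6 D25816) (iv7 F37822) D49453
theorem F165015 : act 1 n53219 = n107055 := d15_1 D53219 (iv7 D107055) F78190
theorem F165016 : act 1 n107055 = n53218 := d15_1 F165015 (iv7 F111435) F165008
def n107056 : Q := act 0 n49456
theorem D107056 : act 0 n49456 = n107056 := rfl
theorem F165017 : act 1 n68141 = n107056 := d15_0 (iv0 D107056) F78207 D68141
def n107057 : Q := act 1 n49456
theorem D107057 : act 1 n49456 = n107057 := rfl
def n107058 : Q := act 2 n49456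
theorem D107058 : act 2 n49456 = n107058 := rfl
theorem F165018 : act 3 n107058 = n68147 := d0_2 D49456 D107058 (iv2 D68147) (iv3 D31727) (iv2 F37838)
theorem F165019 : act 5 n107058 = n68147 := d2_2 (iv5 F78206) D107058 (iv2 D68147)
theorem F165020 : act 7 n107058 = n68141 := d4_2 (iv7 F78207) D107058 (iv2 D68141)
theorem F165021 : act 1 n107058 = n68139 := d15_0 (iv0 D68139) (iv7 F78207) D107058
theorem F165022 : act 1 n107057 = n68141 := d15_1 D107057 (iv7 F165020) (iv2 D107058)
theorem F165023 : act 1 n68140 = n107058 := d15_1 D68140 F165020 (iv2 D68141)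
def n107059 : Q := act 6 n49456
theorem D107059 : act 6 n49456 = n107059 := rfl
theorem F165024 : act 3 n107059 = n49457 := d7_1 D107059 (iv6 D49457) D49456
def n107060 : Q := act 0 n49457
theorem D107060 : act 0 n49457 = n107060 := rfl
def n107061 : Q := act 1 n49457
theorem D107061 : act 1 n49457 = n107061 := rfl
theorem F165025 : act 1 n107061 = n68151 := d15_1 D107061 (iv7 D68151) (iv2 F78208)
theorem F165026 : act 4 n107061 = n49623 := d18_7 (iv1 F40270) (iv4 F82077) F82078 F40185 (iv5 F37843) (iv4 F78209) D107061 F78369 F50031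
theorem F165027 : act 2 n68137 = n107061 := d1_3 F165026 F93346 D68137
theorem F165028 : act 7 n67664 = n107061 := d11_0 F165026 F100159 D67664
theorem F165029 : act 2 n67664 = n107060 := d15_3 (iv0 D107060) D107061 (iv7 F165028)
theorem F165030 : act 4 n107060 = n49622 := d1_2 D67664 F165029 (iv2 F100153)
theorem F165031 : act 7 n107060 = n68137 := d4_2 (iv7 F165028) F165029 F165027
theorem F165032 : act 1 n68151 = n107060 := d15_1 F165025 F165031 F165027
def n107062 : Q := act 5 n49457
theorem D107062 : act 5 n49457 = n107062 := rfl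
theorem F165033 : act 2 n107062 = n68150 := d2_1 D107062 (iv5 D68150) (iv2 F78208)
theorem F165034 : act 6 n107062 = n68150 := d12_2 D49457 D107062 (iv5 D68150) (iv6 D31728) (iv5 F37840)
theorem F165035 : act 1 n107062 = n107004 := d17_6 (iv1 D49426) F40187 (iv1 D25406) (iv5 F37843) (iv4 F78209) D107062 (iv5 D107004) (iv0 F164902) (iv4 D106985)
def n107063 : Q := act 7 n49457
theorem D107063 : act 7 n49457 = n107063 := rfl
theorem F165036 : act 2 n107063 = n68151 := d4_1 D107063 (iv7 D68151) (iv2 F78208)
theorem F165037 : act 4 n107063 = n49460 := d11_1 D107063 (iv7 D49460) (iv4 F78209)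
theorem F165038 : act 6 n107063 = n68144 := d14_1 D107063 (iv7 D68144) (iv6 D31726) (iv7 F37839) D49457
theorem F165039 : act 1 n68137 = n107063 := d15_1 (iv0 F104294) (iv7 D107063) F78208
theorem F165040 : act 1 n107063 = n67664 := d15_1 F165039 F165028 (iv2 F165027)
def n107064 : Q := act 2 n49458
theorem D107064 : act 2 n49458 = n107064 := rfl
theorem F165041 : act 7 n49459 = n107064 := d15_2 (iv0 D49458) D49459 (iv2 D107064)
def n107065 : Q := act 3 n49458
theorem D107065 : act 3 n49458 = n107065 := rfl
def n107066 : Q := act 4 n49458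
theorem D107066 : act 4 n49458 = n107066 := rfl
def n107067 : Q := act 5 n49458
theorem D107067 : act 5 n49458 = n107067 := rfl
theorem F165042 : act 6 n107067 = n50288 := d12_2 (iv6 F78364) D107067 (iv5 F79670) (iv6 D49619) D49618
theorem F165043 : act 0 n52419 = n107067 := d21_1 (iv5 F163603) (iv5 D107067) F78364 F164848 (iv6 D49480) F111256 (iv1 F111254) (iv5 F111466) F111467 (iv1 F163601)
def n107068 : Q := act 7 n49458
theorem D107068 : act 7 n49458 = n107068 := rfl
theorem F165044 : act 2 n107068 = n49459 := d4_1 D107068 F165041 (iv2 D107064)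
def n107069 : Q := act 3 n49459
theorem D107069 : act 3 n49459 = n107069 := rfl
def n107070 : Q := act 6 n49459
theorem D107070 : act 6 n49459 = n107070 := rfl
def n107071 : Q := act 0 n49461
theorem D107071 : act 0 n49461 = n107071 := rfl
theorem F165045 : act 1 n68147 = n107071 := d15_0 (iv0 D107071) F78213 D68147
def n107072 : Q := act 1 n49461
theorem D107072 : act 1 n49461 = n107072 := rfl
def n107073 : Q := act 2 n49461
theorem D107073 : act 2 n49461 = n107073 := rfl
theorem F165046 : act 3 n107073 = n68141 := d0_2 D49461 D107073 (iv2 D68141) (iv3 D31725) (iv2 F37844)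
theorem F165047 : act 4 n107073 = n65919 := d1_2 (iv4 F78211) D107073 (iv2 D65919)
theorem F165048 : act 5 n107073 = n68141 := d2_2 (iv5 F78212) D107073 (iv2 D68141)
theorem F165049 : act 7 n107073 = n68147 := d4_2 (iv7 F78213) D107073 (iv2 D68147)
theorem F165050 : act 1 n107073 = n68145 := d15_0 (iv0 D68145) (iv7 F78213) D107073
theorem F165051 : act 1 n107072 = n68147 := d15_1 D107072 (iv7 F165049) (iv2 D107073)
theorem F165052 : act 1 n68146 = n107073 := d15_1 D68146 F165049 (iv2 D68147)
def n107074 : Q := act 6 n49461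
theorem D107074 : act 6 n49461 = n107074 := rfl
theorem F165053 : act 3 n107074 = n49462 := d7_1 D107074 (iv6 D49462) D49461
theorem F165054 : act 4 n107074 = n65921 := d10_1 D107074 (iv6 D65921) (iv4 F78211)
def n107075 : Q := act 1 n49462
theorem D107075 : act 1 n49462 = n107075 := rfl
theorem F165055 : act 1 n107075 = n68144 := d15_1 D107075 (iv7 D68144) (iv2 F78214)
theorem F165056 : act 7 n107075 = n58744 := d15_2 (iv0 F79051) D107075 F92820
theorem F165057 : act 4 n107075 = n49628 := d18_7 (iv1 F77821) D106592 (iv1 F164164) F77851 (iv5 F37850) (iv4 F78215) D107075 F78387 F50025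
theorem F165058 : act 2 n67709 = n107075 := d1_3 F165057 (iv2 F78389) D67709
def n107076 : Q := act 5 n49462
theorem D107076 : act 5 n49462 = n107076 := rfl
theorem F165059 : act 2 n107076 = n68143 := d2_1 D107076 (iv5 D68143) (iv2 F78214)
theorem F165060 : act 6 n107076 = n68143 := d12_2 D49462 D107076 (iv5 D68143) (iv6 D31726) (iv5 F37845)
def n107077 : Q := act 2 n49464
theorem D107077 : act 2 n49464 = n107077 := rfl
theorem F165061 : act 7 n49465 = n107077 := d15_2 (iv0 D49464) D49465 (iv2 D107077)
def n107078 : Q := act 3 n49464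
theorem D107078 : act 3 n49464 = n107078 := rfl
def n107079 : Q := act 4 n49464
theorem D107079 : act 4 n49464 = n107079 := rfl
def n107080 : Q := act 5 n49464
theorem D107080 : act 5 n49464 = n107080 := rfl
def n107081 : Q := act 6 n49464
theorem D107081 : act 6 n49464 = n107081 := rfl
def n107082 : Q := act 7 n49464
theorem D107082 : act 7 n49464 = n107082 := rfl
def n107083 : Q := act 3 n49465
theorem D107083 : act 3 n49465 = n107083 := rfl
def n107084 : Q := act 4 n49465
theorem D107084 : act 4 n49465 = n107084 := rfl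
def n107085 : Q := act 5 n49465
theorem D107085 : act 5 n49465 = n107085 := rfl
def n107086 : Q := act 6 n49465
theorem D107086 : act 6 n49465 = n107086 := rfl
def n107087 : Q := act 6 n49466
theorem D107087 : act 6 n49466 = n107087 := rfl
theorem F165063 : act 2 n107087 = n49467 := d3_1 D107087 (iv6 D49467) D49466
def n107088 : Q := act 0 n49467
theorem D107088 : act 0 n49467 = n107088 := rfl
def n107089 : Q := act 1 n49467
theorem D107089 : act 1 n49467 = n107089 := rfl
def n107090 : Q := act 5 n49467
theorem D107090 : act 5 n49467 = n107090 := rfl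
theorem F165064 : act 3 n107090 = n49470 := d6_1 D107090 (iv5 D49470) (iv3 F78218)
def n107091 : Q := act 7 n49467
theorem D107091 : act 7 n49467 = n107091 := rfl
theorem F165065 : act 3 n107091 = n49471 := d8_1 D107091 (iv7 D49471) (iv3 F78218)
def n107092 : Q := act 3 n49468
theorem D107092 : act 3 n49468 = n107092 := rfl
theorem F165066 : act 4 n107092 = n64379 := d5_2 (iv4 F111251) D107092 (iv3 D64379) (iv4 F111282) (iv3 D51174)
def n107093 : Q := act 5 n49468
theorem D107093 : act 5 n49468 = n107093 := rfl
theorem F165067 : act 0 n107093 = n106994 := d17_2 D49468 D107093 (iv5 D106994) F78160 (iv5 F48674) (iv0 F78221) (iv5 D49475) (iv0 D24146) (iv4 F37851)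
def n107094 : Q := act 3 n49469
theorem D107094 : act 3 n49469 = n107094 := rfl
theorem F165068 : act 4 n107094 = n65488 := d5_2 (iv4 F111248) D107094 (iv3 D65488) (iv4 F111413) F111412
def n107095 : Q := act 5 n49469
theorem D107095 : act 5 n49469 = n107095 := rfl
theorem F165069 : act 1 n107095 = n106994 := d17_6 (iv1 D31401) (iv5 D14798) D14796 F39044 (iv4 F111248) D107095 (iv5 D106994) (iv0 F111245) (iv4 D67609)
def n107096 : Q := act 6 n49469
theorem D107096 : act 6 n49469 = n107096 := rfl
theorem F165070 : act 4 n107096 = n51179 := d10_1 D107096 (iv6 D51179) (iv4 F111248)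
def n107097 : Q := act 0 n49470
theorem D107097 : act 0 n49470 = n107097 := rfl
def n107098 : Q := act 1 n49470
theorem D107098 : act 1 n49470 = n107098 := rfl
def n107099 : Q := act 4 n49470
theorem D107099 : act 4 n49470 = n107099 := rfl
def n107100 : Q := act 7 n49470
theorem D107100 : act 7 n49470 = n107100 := rfl
theorem F165071 : act 5 n107100 = n49471 := d13_1 D107100 (iv7 D49471) D49470
def n107101 : Q := act 3 n49474
theorem D107101 : act 3 n49474 = n107101 := rfl
def n107102 : Q := act 5 n49474
theorem D107102 : act 5 n49474 = n107102 := rfl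
theorem F165072 : act 0 n107102 = n107012 := d17_2 (iv1 F111270) D107102 (iv5 D107012) F78166 F45121 D31357 (iv5 F49622) (iv0 D24205) (iv4 F37929)
theorem E16427 : n106953 = n74724 := ((c21_5 D24132 (iv1 F53882) (iv5 D34239) D34240 D74724 F164844 D107102 F165072 (iv5 D107012) (iv6 D49438) (iv1 D24130))).symm
theorem F165073 : act 4 n74724 = n49410 := (sb E16427 (iv4 D106953))
theorem F165074 : act 6 n74724 = n49474 := (sb E16427 F164844)
def n107103 : Q := act 6 n49475
theorem D107103 : act 6 n49475 = n107103 := rfl
theorem F165075 : act 5 n107103 = n61274 := d12_1 D107103 (iv6 D61274) (iv5 F78139) (iv6 F78140) D49475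
theorem F165076 : act 7 n107103 = n61274 := d14_2 (iv7 F111280) D107103 (iv6 D61274) (iv7 F111324) F93307
def n107104 : Q := act 3 n49478
theorem D107104 : act 3 n49478 = n107104 := rfl
def n107105 : Q := act 5 n49478
theorem D107105 : act 5 n49478 = n107105 := rfl
theorem F165077 : act 1 n107105 = n107012 := d17_6 (iv1 D49432) (iv5 F48674) F111255 (iv5 F111256) D49478 D107105 (iv5 D107012) (iv0 F164933) (iv4 D106999)
def n107106 : Q := act 6 n49478
theorem D107106 : act 6 n49478 = n107106 := rfl
theorem F165078 : act 4 n107106 = n49480 := d10_1 D107106 (iv6 D49480) D49478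
def n107107 : Q := act 4 n49481
theorem D107107 : act 4 n49481 = n107107 := rfl
theorem F165079 : act 5 n107107 = n67570 := d17_5 F93302 (iv5 F53493) D74273 F111166 D107107 (iv0 D67570) (iv5 D31390) D31389 (iv4 F111179)
theorem F165080 : act 1 n107107 = n49647 := d18_6 (iv1 D31401) D31402 D67610 F164914 F111166 D107107 (iv4 D49647) D49646 (iv5 F82353)
def n107108 : Q := act 6 n49481
theorem D107108 : act 6 n49481 = n107108 := rfl
theorem F165081 : act 5 n107108 = n62604 := d21_6 F23454 (iv1 D11341) D11342 (iv6 F37853) D49481 D107108 (iv1 D62604) (iv5 D29601) (iv6 D14058) D14055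
def n107109 : Q := act 4 n49482
theorem D107109 : act 4 n49482 = n107109 := rfl
theorem F165082 : act 6 n107109 = n66271 := d10_2 (iv6 F111171) D107109 (iv4 D66271)
theorem F165083 : act 0 n107109 = n49647 := d18_2 (iv1 F82513) D107109 (iv4 D49647) (iv5 D24207) (iv4 F37929) (iv0 F111260) (iv4 D49478) F45375 (iv5 F82511)
theorem F165084 : act 5 n107109 = n67571 := d21_6 D31374 (iv1 F80754) (iv5 D51187) D51188 F101857 (iv6 F165082) (iv1 D67571) (iv5 D31390) (iv6 D14795) D14791
def n107110 : Q := act 0 n49483
theorem D107110 : act 0 n49483 = n107110 := rfl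
def n107111 : Q := act 1 n49483
theorem D107111 : act 1 n49483 = n107111 := rfl
theorem F165085 : act 4 n107111 = n51181 := d18_7 (iv1 F39041) (iv4 F111248) (iv1 D49469) F37851 D24148 D49483 D107111 F80736 F78412
theorem F165086 : act 6 n105664 = n107111 := d10_0 F165085 (iv6 F92827) D105664
def n107112 : Q := act 3 n49483
theorem D107112 : act 3 n49483 = n107112 := rfl
theorem F165087 : act 4 n107112 = n64180 := d5_2 D49483 D107112 F99920 F48630 (iv3 F37852)
theorem F165088 : act 6 n107112 = n49485 := d7_2 (iv6 F78225) D107112 (iv3 D49485)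
def n107113 : Q := act 5 n49483
theorem D107113 : act 5 n49483 = n107113 := rfl
theorem F165090 : act 1 n107113 = n67588 := d17_6 F111255 (iv5 F111256) (iv1 D24147) D24148 D49483 D107113 (iv5 D67588) (iv0 F111242) F100075
theorem E16428 : n67589 = n61264 := ((c21_5 D25325 (iv1 F46636) (iv5 D29002) D29003 D61264 (iv6 D67589) D67588 (iv1 F165090) (iv5 D107113) F78225 F37854)).symm
theorem F165091 : act 4 n61264 = n31395 := (sb E16428 F103467)
theorem F165092 : act 6 n61264 = n31394 := (sb E16428 (iv6 D67589))
def n107114 : Q := act 7 n49483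
theorem D107114 : act 7 n49483 = n107114 := rfl
theorem F165093 : act 4 n107114 = n49484 := d11_1 D107114 (iv7 D49484) D49483
def n107115 : Q := act 0 n49485
theorem D107115 : act 0 n49485 = n107115 := rfl
def n107116 : Q := act 1 n49485
theorem D107116 : act 1 n49485 = n107116 := rfl
def n107117 : Q := act 2 n49485
theorem D107117 : act 2 n49485 = n107117 := rfl
theorem F165094 : act 4 n107117 = n64178 := d1_2 (iv4 F78228) D107117 (iv2 D64178)
def n107118 : Q := act 0 n49486
theorem D107118 : act 0 n49486 = n107118 := rfl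
theorem F165095 : act 1 n52200 = n107118 := d15_0 (iv0 D107118) (iv7 F80909) (iv2 F82531)
def n107119 : Q := act 1 n49486
theorem D107119 : act 1 n49486 = n107119 := rfl
theorem F165096 : act 1 n107119 = n52200 := d15_1 D107119 F82534 F79790
def n107120 : Q := act 0 n49487
theorem D107120 : act 0 n49487 = n107120 := rfl
theorem F165097 : act 2 n49493 = n107120 := d15_3 (iv0 D107120) (iv0 F95717) (iv7 F162152)
theorem F165098 : act 3 n107120 = n51409 := d0_2 (iv3 F162150) F165097 (iv2 F81169) (iv3 F82711) F82710
theorem F165099 : act 7 n107120 = n49494 := d4_2 (iv7 F162152) F165097 (iv2 F95714)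
theorem F165100 : act 1 n49496 = n107120 := d15_1 F95718 F165099 (iv2 F95714)
def n107121 : Q := act 7 n49487
theorem D107121 : act 7 n49487 = n107121 := rfl
theorem F165101 : act 2 n107121 = n49496 := d4_1 D107121 (iv7 D49496) (iv2 F78231)
theorem F165102 : act 3 n107121 = n53168 := d8_1 D107121 (iv7 D53168) (iv3 F78232)
theorem F165103 : act 6 n107121 = n53194 := d14_1 D107121 (iv7 D53194) (iv6 D25797) (iv7 F37860) D49487
theorem F165104 : act 1 n49494 = n107121 := d15_1 D49494 (iv7 D107121) F78231
theorem F165105 : act 1 n107121 = n49493 := d15_1 F165104 F162152 F95714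
def n107122 : Q := act 0 n49489
theorem D107122 : act 0 n49489 = n107122 := rfl
def n107123 : Q := act 1 n49489
theorem D107123 : act 1 n49489 = n107123 := rfl
def n107124 : Q := act 7 n49489
theorem D107124 : act 7 n49489 = n107124 := rfl
theorem F165106 : act 3 n107124 = n50281 := d8_1 D107124 (iv7 D50281) (iv3 F78237)
theorem F165107 : act 5 n107124 = n50256 := d13_1 D107124 (iv7 D50256) (iv5 F78238)
theorem F165108 : act 6 n107124 = n65430 := d14_1 D107124 (iv7 D65430) (iv6 D30679) (iv7 F37870) D49489
def n107125 : Q := act 0 n49490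
theorem D107125 : act 0 n49490 = n107125 := rfl
def n107126 : Q := act 1 n49490
theorem D107126 : act 1 n49490 = n107126 := rfl
def n107127 : Q := act 2 n49490
theorem D107127 : act 2 n49490 = n107127 := rfl
theorem F165109 : act 4 n107127 = n49499 := d1_2 (iv4 F78239) D107127 (iv2 D49499)
def n107128 : Q := act 5 n49490
theorem D107128 : act 5 n49490 = n107128 := rfl
theorem F165110 : act 3 n107128 = n49491 := d6_1 D107128 (iv5 D49491) D49490
theorem F165111 : act 7 n107128 = n105638 := d13_2 F79800 D107128 F162236
def n107129 : Q := act 6 n49490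
theorem D107129 : act 6 n49490 = n107129 := rfl
theorem F165112 : act 3 n107129 = n49492 := d7_1 D107129 (iv6 D49492) D49490
theorem F165113 : act 4 n107129 = n49500 := d10_1 D107129 (iv6 D49500) (iv4 F78239)
def n107130 : Q := act 6 n49491
theorem D107130 : act 6 n49491 = n107130 := rfl
theorem F165114 : act 2 n107130 = n105641 := d3_1 D107130 (iv6 D105641) (iv2 F78240)
def n107131 : Q := act 5 n49492
theorem D107131 : act 5 n49492 = n107131 := rfl
def n107132 : Q := act 6 n49493
theorem D107132 : act 6 n49493 = n107132 := rfl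
theorem F165115 : act 3 n107132 = n62589 := d7_1 D107132 F97598 (iv3 F162150)
theorem F165116 : act 5 n107132 = n63692 := d12_1 D107132 (iv6 F99058) F99057 (iv6 F161148) (iv5 F162151)
theorem F165117 : act 7 n107132 = n62584 := d14_2 (iv7 F162152) D107132 (iv6 D62584) F47504 D61249
def n107133 : Q := act 0 n49495
theorem D107133 : act 0 n49495 = n107133 := rfl
def n107134 : Q := act 1 n49495
theorem D107134 : act 1 n49495 = n107134 := rfl
def n107135 : Q := act 7 n49495
theorem D107135 : act 7 n49495 = n107135 := rfl
theorem F165118 : act 3 n107135 = n49512 := d8_1 D107135 (iv7 D49512) (iv3 F78247)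
theorem F165119 : act 5 n107135 = n49496 := d13_1 D107135 (iv7 D49496) D49495
theorem F165120 : act 6 n107135 = n51404 := d14_1 D107135 F81160 (iv6 D50249) (iv7 F38476) (iv6 F78248)
def n107136 : Q := act 2 n49497
theorem D107136 : act 2 n49497 = n107136 := rfl
theorem F165121 : act 7 n49498 = n107136 := d15_2 (iv0 D49497) D49498 (iv2 D107136)
def n107137 : Q := act 4 n49497
theorem D107137 : act 4 n49497 = n107137 := rfl
def n107138 : Q := act 5 n49497
theorem D107138 : act 5 n49497 = n107138 := rfl
def n107139 : Q := act 6 n49497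
theorem D107139 : act 6 n49497 = n107139 := rfl
def n107140 : Q := act 7 n49497
theorem D107140 : act 7 n49497 = n107140 := rfl
theorem F165122 : act 2 n107140 = n49498 := d4_1 D107140 F165121 (iv2 D107136)
def n107141 : Q := act 3 n49498
theorem D107141 : act 3 n49498 = n107141 := rfl
def n107142 : Q := act 4 n49498
theorem D107142 : act 4 n49498 = n107142 := rfl
def n107143 : Q := act 5 n49498
theorem D107143 : act 5 n49498 = n107143 := rfl
def n107144 : Q := act 6 n49498
theorem D107144 : act 6 n49498 = n107144 := rfl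
def n107145 : Q := act 6 n49499
theorem D107145 : act 6 n49499 = n107145 := rfl
theorem F165123 : act 2 n107145 = n49500 := d3_1 D107145 (iv6 D49500) D49499
def n107146 : Q := act 0 n49500
theorem D107146 : act 0 n49500 = n107146 := rfl
def n107147 : Q := act 1 n49500
theorem D107147 : act 1 n49500 = n107147 := rfl
def n107148 : Q := act 5 n49500
theorem D107148 : act 5 n49500 = n107148 := rfl
theorem F165124 : act 3 n107148 = n49503 := d6_1 D107148 (iv5 D49503) (iv3 F78250)
def n107149 : Q := act 7 n49500
theorem D107149 : act 7 n49500 = n107149 := rfl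
theorem F165125 : act 3 n107149 = n49504 := d8_1 D107149 (iv7 D49504) (iv3 F78250)
def n107150 : Q := act 0 n49503
theorem D107150 : act 0 n49503 = n107150 := rfl
def n107151 : Q := act 1 n49503
theorem D107151 : act 1 n49503 = n107151 := rfl
def n107152 : Q := act 4 n49503
theorem D107152 : act 4 n49503 = n107152 := rfl
def n107153 : Q := act 7 n49503
theorem D107153 : act 7 n49503 = n107153 := rfl
theorem F165126 : act 5 n107153 = n49504 := d13_1 D107153 (iv7 D49504) D49503
def n107154 : Q := act 3 n49505
theorem D107154 : act 3 n49505 = n107154 := rfl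
theorem F165127 : act 4 n107154 = n65998 := d5_2 D49505 D107154 (iv3 D65998) (iv4 D30879) (iv3 F53450)
theorem F165128 : act 7 n107154 = n68169 := d8_2 (iv7 F78252) D107154 (iv3 D68169)
def n107155 : Q := act 5 n49505
theorem D107155 : act 5 n49505 = n107155 := rfl
theorem F165129 : act 2 n107155 = n68167 := d2_1 D107155 (iv5 D68167) (iv2 F78254)
theorem F165130 : act 7 n107155 = n68170 := d13_2 (iv7 F78252) D107155 (iv5 D68170)
def n107156 : Q := act 6 n49505
theorem D107156 : act 6 n49505 = n107156 := rfl
theorem F165131 : act 2 n107156 = n68168 := d3_1 D107156 (iv6 D68168) (iv2 F78254)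
theorem F165132 : act 4 n107156 = n49507 := d10_1 D107156 (iv6 D49507) D49505
def n107157 : Q := act 4 n49506
theorem D107157 : act 4 n49506 = n107157 := rfl
theorem F165133 : act 2 n107157 = n58921 := d1_1 D107157 F93138 F82157
theorem F165134 : act 6 n107157 = n58931 := d10_2 F161086 D107157 (iv4 F161084)
theorem F165135 : act 7 n107157 = n50286 := d11_2 (iv7 F78257) D107157 F79669
theorem F165136 : act 1 n107157 = n58879 := d18_6 (iv1 D24220) (iv4 F37963) (iv1 F78263) (iv4 D49505) D49506 D107157 (iv4 D58879) (iv0 D27993) F37967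
theorem F165137 : act 0 n107157 = n58883 := d20_7 (iv4 F19710) (iv1 F47801) (iv4 D25128) D25127 (iv1 F163907) (iv3 F78256) D107157 (iv4 D58883) (iv3 F100164) (iv1 D13377)
def n107158 : Q := act 3 n49508
theorem D107158 : act 3 n49508 = n107158 := rfl
theorem F165138 : act 7 n107158 = n68166 := d8_2 (iv7 F78260) D107158 (iv3 D68166)
def n107159 : Q := act 5 n49508
theorem D107159 : act 5 n49508 = n107159 := rfl
theorem F165139 : act 2 n107159 = n68170 := d2_1 D107159 (iv5 D68170) (iv2 F78259)
theorem F165140 : act 7 n107159 = n68167 := d13_2 (iv7 F78260) D107159 (iv5 D68167)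
def n107160 : Q := act 4 n49509
theorem D107160 : act 4 n49509 = n107160 := rfl
theorem F165141 : act 7 n107160 = n68191 := d11_2 (iv7 F161349) D107160 F104342
theorem F165142 : act 0 n107160 = n68194 := d18_2 D49509 D107160 F104365 F50045 (iv4 F50039) (iv0 F78253) (iv4 D49505) (iv0 D24164) D24166
theorem F165143 : act 2 n107160 = n68190 := d15_3 (iv0 D68190) D68191 (iv7 F165141)
theorem F165144 : act 4 n68190 = n52011 := d1_2 D107160 F165143 (iv2 F161347)
def n107161 : Q := act 3 n49510
theorem D107161 : act 3 n49510 = n107161 := rfl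
theorem F165145 : act 2 n107161 = n66008 := d0_1 D107161 (iv3 D66008) (iv2 F102432) F104343 F161350
def n107162 : Q := act 4 n49510
theorem D107162 : act 4 n49510 = n107162 := rfl
theorem F165146 : act 2 n107162 = n68191 := d1_1 D107162 F104342 F161350
theorem F165147 : act 7 n107162 = n68190 := d11_2 F161351 D107162 F165144
theorem F165148 : act 0 n107162 = n49671 := d18_2 (iv1 F82171) D107162 (iv4 D49671) (iv5 D24221) (iv4 F37963) F78262 (iv4 D49508) F39789 (iv5 F82169)
theorem F165149 : act 1 n107162 = n68194 := d15_1 (iv0 F165148) (iv7 D68194) (iv2 F78464)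
theorem F165150 : act 1 n107160 = n49671 := d15_0 (iv0 F165148) F165147 (iv2 F165143)
def n107163 : Q := act 6 n49510
theorem D107163 : act 6 n49510 = n107163 := rfl
theorem F165151 : act 5 n107163 = n64638 := d12_1 D107163 (iv6 D64638) F82456 D106431 F163697
theorem F165152 : act 7 n107163 = n64449 := d14_2 F161351 D107163 (iv6 F161228) F161344 F82765
theorem F165153 : act 0 n52325 = n64638 := d21_1 D52325 (iv5 F165151) (iv6 D107163) (iv1 D49510) F37878 (iv5 D11352) D11351 F18528 D12083 D25411
theorem F165154 : act 2 n107163 = n64450 := d15_3 F100374 F100379 (iv7 F165152)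
theorem F165155 : act 6 n64450 = n52012 := d3_2 D107163 F165154 F161350
theorem F165156 : act 3 n50205 = n64450 := d7_3 F165155 (iv3 F104343) F84554
theorem F165157 : act 0 n64451 = n107163 := d21_1 (iv5 F100377) F165151 (iv6 D64638) (iv1 F100546) (iv6 F164375) (iv5 D106680) (iv1 F77909) (iv5 F95712) F95713 (iv1 F82713)
theorem F165158 : act 0 n107163 = n58797 := d21_7 F40911 (iv1 D24115) (iv5 F19469) D14448 D30417 D64638 (iv5 F165151) F92948 (iv6 D30341) F40914
def n107164 : Q := act 0 n49511
theorem D107164 : act 0 n49511 = n107164 := rfl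
def n107165 : Q := act 3 n49511
theorem D107165 : act 3 n49511 = n107165 := rfl
theorem F165159 : act 6 n107165 = n49513 := d7_2 (iv6 F78264) D107165 (iv3 D49513)
def n107166 : Q := act 5 n49511
theorem D107166 : act 5 n49511 = n107166 := rfl
def n107167 : Q := act 7 n49511
theorem D107167 : act 7 n49511 = n107167 := rfl
theorem F165160 : act 4 n107167 = n49512 := d11_1 D107167 (iv7 D49512) D49511
theorem F165161 : act 6 n107167 = n58856 := d14_1 D107167 (iv7 F93070) (iv6 D52271) F40157 (iv6 F78264)
def n107168 : Q := act 0 n49513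
theorem D107168 : act 0 n49513 = n107168 := rfl
def n107169 : Q := act 1 n49513
theorem D107169 : act 1 n49513 = n107169 := rfl
def n107170 : Q := act 2 n49513
theorem D107170 : act 2 n49513 = n107170 := rfl
def n107171 : Q := act 5 n49513
theorem D107171 : act 5 n49513 = n107171 := rfl
theorem F165162 : act 3 n107171 = n49514 := d6_1 D107171 (iv5 D49514) D49513
def n107172 : Q := act 6 n49514
theorem D107172 : act 6 n49514 = n107172 := rfl
theorem F165163 : act 4 n107172 = n52523 := d10_1 D107172 (iv6 D52523) (iv4 F78266)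
def n107173 : Q := act 3 n49515
theorem D107173 : act 3 n49515 = n107173 := rfl
theorem F165164 : act 4 n107173 = n53502 := d5_2 (iv4 F78269) D107173 (iv3 D53502) F40966 (iv3 F38733)
theorem F165165 : act 7 n107173 = n53257 := d8_2 (iv7 F78272) D107173 (iv3 D53257)
theorem F165166 : act 0 n107173 = n53742 := d20_4 D25840 (iv1 F40831) (iv4 F78269) D107173 (iv3 D53742) (iv4 D26000) (iv1 D12325) (iv4 F20331) (iv3 D12270) D12268
def n107174 : Q := act 6 n49515
theorem D107174 : act 6 n49515 = n107174 := rfl
theorem F165167 : act 2 n107174 = n53256 := d3_1 D107174 (iv6 D53256) F78270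
theorem F165168 : act 4 n107174 = n50882 := d10_1 D107174 (iv6 D50882) (iv4 F78269)
theorem F165169 : act 7 n107174 = n64426 := d14_2 (iv7 F78272) D107174 (iv6 D64426) (iv7 F53482) (iv6 F53485)
def n107175 : Q := act 0 n49516
theorem D107175 : act 0 n49516 = n107175 := rfl
theorem F165170 : act 1 n53282 = n107175 := d15_0 (iv0 D107175) F78274 D53282
def n107176 : Q := act 1 n49516
theorem D107176 : act 1 n49516 = n107176 := rfl
theorem F165171 : act 4 n66933 = n107176 := d20_6 F19211 (iv1 F11419) D11824 (iv3 F24390) D31175 D66933 (iv1 D107176) F78273 (iv3 D24171) (iv1 F19214)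
theorem F165172 : act 3 n107176 = n53721 := d5_1 F165171 F102801 (iv3 F102798) F94104 D66933
theorem F165173 : act 0 n53282 = n107176 := d20_7 F78318 (iv1 F41050) D31169 D66917 (iv1 F102877) (iv3 F163672) F163673 (iv4 F165171) (iv3 D66933) (iv1 F78320)
def n107177 : Q := act 2 n49516
theorem D107177 : act 2 n49516 = n107177 := rfl
theorem F165174 : act 3 n107177 = n53260 := d0_2 D49516 D107177 (iv2 D53260) (iv3 D25824) (iv2 F37881)
theorem F165175 : act 4 n107177 = n49524 := d1_2 (iv4 F78273) D107177 (iv2 D49524)
theorem F165176 : act 7 n107177 = n53282 := d4_2 (iv7 F78274) D107177 (iv2 D53282)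
theorem F165177 : act 1 n107177 = n53280 := d15_0 (iv0 D53280) (iv7 F78274) D107177
theorem F165178 : act 1 n53281 = n107177 := d15_1 D53281 F165176 (iv2 D53282)
def n107178 : Q := act 5 n49516
theorem D107178 : act 5 n49516 = n107178 := rfl
theorem F165179 : act 3 n107178 = n49517 := d6_1 D107178 (iv5 D49517) D49516
theorem F165180 : act 7 n107178 = n53283 := d13_2 (iv7 F78274) D107178 (iv5 D53283)
def n107179 : Q := act 6 n49516
theorem D107179 : act 6 n49516 = n107179 := rfl
theorem F165181 : act 3 n107179 = n49518 := d7_1 D107179 (iv6 D49518) D49516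
theorem F165182 : act 4 n107179 = n49525 := d10_1 D107179 (iv6 D49525) (iv4 F78273)
def n107180 : Q := act 6 n49517
theorem D107180 : act 6 n49517 = n107180 := rfl
theorem F165183 : act 2 n107180 = n53265 := d3_1 D107180 (iv6 D53265) (iv2 F78275)
def n107181 : Q := act 0 n49518
theorem D107181 : act 0 n49518 = n107181 := rfl
def n107182 : Q := act 1 n49518
theorem D107182 : act 1 n49518 = n107182 := rfl
theorem F165184 : act 1 n107182 = n53269 := d15_1 D107182 (iv7 D53269) (iv2 F78277)
theorem F165185 : act 4 n105666 = n107182 := d20_6 D49532 F102174 F80777 (iv3 F80760) (iv1 F80763) D105666 (iv1 D107182) F78278 F37884 D24173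
def n107183 : Q := act 5 n49518
theorem D107183 : act 5 n49518 = n107183 := rfl
theorem F165186 : act 2 n107183 = n53268 := d2_1 D107183 (iv5 D53268) (iv2 F78277)
def n107184 : Q := act 7 n49518
theorem D107184 : act 7 n49518 = n107184 := rfl
theorem F165187 : act 2 n107184 = n53269 := d4_1 D107184 (iv7 D53269) (iv2 F78277)
theorem F165188 : act 4 n107184 = n49521 := d11_1 D107184 (iv7 D49521) (iv4 F78278)
theorem F165189 : act 6 n107184 = n53289 := d14_1 D107184 (iv7 D53289) (iv6 D25833) (iv7 F37882) D49518
theorem F165190 : act 1 n53269 = n107181 := d15_0 (iv0 D107181) D107184 F165187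
theorem F165191 : act 1 n53267 = n107184 := d15_1 D53267 (iv7 D107184) F78277
theorem F165192 : act 1 n107184 = n53266 := d15_0 (iv0 D53266) D53269 (iv2 F165187)
theorem F165193 : act 4 n53266 = n59511 := d18_7 F93937 (iv4 F96460) (iv1 F99203) (iv4 D63817) (iv5 F78282) (iv4 F165188) F165192 (iv0 D59511) D59513
theorem E16429 : n64548 = n59526 := (c20_7 (iv4 F165193) (iv1 F165192) F165188 F78281 (iv1 F77654) F102171 D64548 (iv1 D59526) F45771 (iv3 F45767) D59511)
theorem F165194 : act 4 n59526 = n30382 := (sb E16429 (iv4 D64548))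
theorem F165195 : act 3 n51189 = n59511 := d20_5 F102172 (iv1 D51197) F39058 (iv3 F39054) D51189 (iv4 F165193) (iv1 F165192) F165188 F78281 (iv1 F77654)
theorem F165196 : act 7 n59511 = n105666 := d8_2 F103549 F165195 (iv3 D105666)
theorem F165197 : act 7 n107182 = n53266 := d11_2 F165196 F165185 F165193
theorem F165198 : act 2 n53266 = n107181 := d15_3 (iv0 D107181) D107182 F165197
theorem F165199 : act 2 n107182 = n53267 := d15_3 F165191 F165192 (iv7 F165197)
theorem F165200 : act 7 n53267 = n107181 := d4_2 (iv7 F165197) F165199 (iv2 F165198)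
def n107185 : Q := act 4 n49520
theorem D107185 : act 4 n49520 = n107185 := rfl
theorem F165201 : act 2 n107185 = n53276 := d1_1 D107185 (iv4 D53276) (iv2 F99947)
theorem F165202 : act 7 n107185 = n53272 := d11_2 (iv7 F99948) D107185 (iv4 D53272)
theorem F165203 : act 0 n107185 = n53177 := d18_2 (iv1 F78279) D107185 F83991 D59513 (iv4 F95796) F99194 F99191 F48394 (iv5 F48393)
theorem F165204 : act 1 n107185 = n53313 := d15_1 (iv0 F165203) (iv7 D53313) (iv2 F83990)
theorem E16430 : n66457 = n53313 := ((c15_1 F165204 (iv0 D66457) (iv7 F102019) (iv2 F165201))).symm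
theorem F165205 : act 1 n53313 = n31023 := (sb E16430 (iv0 D66457))
def n107186 : Q := act 6 n49520
theorem D107186 : act 6 n49520 = n107186 := rfl
theorem F165206 : act 2 n107186 = n53278 := d3_1 D107186 (iv6 D53278) (iv2 F99947)
theorem F165207 : act 3 n107186 = n63981 := d7_1 D107186 (iv6 D63981) (iv3 F102017)
theorem F165208 : act 5 n107186 = n62494 := d12_1 D107186 (iv6 F99363) (iv5 D63892) D63893 F99364
theorem F165209 : act 7 n107186 = n64414 := d14_2 (iv7 F99948) D107186 (iv6 D64414) (iv7 F99942) (iv6 F81363)
theorem F165210 : act 0 n53363 = n107186 := d21_4 F111225 F84187 (iv5 D53362) D53363 (iv6 D107186) (iv5 F99364) (iv1 F102043) (iv5 F99204) (iv6 F111554) F111556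
def n107187 : Q := act 2 n49522
theorem D107187 : act 2 n49522 = n107187 := rfl
theorem F165211 : act 7 n49523 = n107187 := d15_2 (iv0 D49522) D49523 (iv2 D107187)
def n107188 : Q := act 3 n49522
theorem D107188 : act 3 n49522 = n107188 := rfl
def n107189 : Q := act 4 n49522
theorem D107189 : act 4 n49522 = n107189 := rfl
def n107190 : Q := act 5 n49522
theorem D107190 : act 5 n49522 = n107190 := rfl
def n107191 : Q := act 6 n49522
theorem D107191 : act 6 n49522 = n107191 := rfl
def n107192 : Q := act 7 n49522
theorem D107192 : act 7 n49522 = n107192 := rfl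
theorem F165212 : act 2 n107192 = n49523 := d4_1 D107192 F165211 (iv2 D107187)
def n107193 : Q := act 3 n49523
theorem D107193 : act 3 n49523 = n107193 := rfl
def n107194 : Q := act 4 n49523
theorem D107194 : act 4 n49523 = n107194 := rfl
theorem F165213 : act 3 n53314 = n107194 := d20_5 F78269 (iv1 F40834) (iv4 D25844) D25843 D53314 (iv4 D107194) (iv1 D49523) (iv4 F78273) (iv3 D49516) D49515
def n107195 : Q := act 5 n49523
theorem D107195 : act 5 n49523 = n107195 := rfl
def n107196 : Q := act 6 n49523
theorem D107196 : act 6 n49523 = n107196 := rfl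
def n107197 : Q := act 6 n49524
theorem D107197 : act 6 n49524 = n107197 := rfl
theorem F165214 : act 2 n107197 = n49525 := d3_1 D107197 (iv6 D49525) D49524
def n107198 : Q := act 0 n49525
theorem D107198 : act 0 n49525 = n107198 := rfl
def n107199 : Q := act 1 n49525
theorem D107199 : act 1 n49525 = n107199 := rfl
def n107200 : Q := act 5 n49525
theorem D107200 : act 5 n49525 = n107200 := rfl
theorem F165215 : act 3 n107200 = n49528 := d6_1 D107200 (iv5 D49528) (iv3 F78288)
theorem F165216 : act 6 n107200 = n107148 := d12_2 D49525 D107200 (iv5 D107148) (iv6 D49500) (iv5 F37885)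
def n107201 : Q := act 7 n49525
theorem D107201 : act 7 n49525 = n107201 := rfl
theorem F165217 : act 3 n107201 = n49529 := d8_1 D107201 (iv7 D49529) (iv3 F78288)
def n107202 : Q := act 3 n49526
theorem D107202 : act 3 n49526 = n107202 := rfl
theorem F165218 : act 4 n107202 = n64589 := d5_2 (iv4 F103596) D107202 (iv3 D64589) (iv4 F102076) (iv3 D51201)
def n107203 : Q := act 5 n49526
theorem D107203 : act 5 n49526 = n107203 := rfl
def n107204 : Q := act 3 n49527
theorem D107204 : act 3 n49527 = n107204 := rfl
theorem F165219 : act 4 n107204 = n66255 := d5_2 (iv4 F102059) D107204 (iv3 D66255) (iv4 F101844) F101843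
def n107205 : Q := act 5 n49527
theorem D107205 : act 5 n49527 = n107205 := rfl
def n107206 : Q := act 6 n49527
theorem D107206 : act 6 n49527 = n107206 := rfl
theorem F165220 : act 4 n107206 = n51209 := d10_1 D107206 (iv6 D51209) (iv4 F102059)
def n107207 : Q := act 0 n49528
theorem D107207 : act 0 n49528 = n107207 := rfl
theorem F165221 : act 5 n107207 = n60576 := d17_3 (iv1 D49527) D49528 D107207 (iv4 D60576) (iv5 D28766) (iv0 F39060) (iv5 D24911) D24910 (iv4 F102059)
def n107208 : Q := act 1 n49528
theorem D107208 : act 1 n49528 = n107208 := rfl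
theorem F165222 : act 5 n68179 = n107208 := d21_6 (iv5 D11827) (iv1 F18538) F18537 D24163 (iv1 F82147) D68179 (iv1 D107208) (iv5 D49528) (iv6 D24172) (iv1 F19214)
def n107209 : Q := act 4 n49528
theorem D107209 : act 4 n49528 = n107209 := rfl
theorem F165223 : act 6 n107209 = n107152 := d10_2 (iv6 F78289) D107209 (iv4 D107152)
def n107210 : Q := act 7 n49528
theorem D107210 : act 7 n49528 = n107210 := rfl
theorem F165224 : act 5 n107210 = n49529 := d13_1 D107210 (iv7 D49529) D49528
def n107211 : Q := act 4 n49531
theorem D107211 : act 4 n49531 = n107211 := rfl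
theorem F165225 : act 2 n107211 = n59525 := d1_1 D107211 F102189 (iv2 F102182)
theorem F165226 : act 7 n107211 = n59526 := d11_2 (iv7 F102183) D107211 F165194
theorem F165227 : act 0 n59416 = n107211 := d20_7 (iv4 F163641) (iv1 F163643) F102059 (iv3 F101843) (iv1 D51120) (iv3 F45656) (iv4 F93780) (iv4 D107211) (iv3 D49531) (iv1 F77662)
def n107212 : Q := act 5 n49531
theorem D107212 : act 5 n49531 = n107212 := rfl
theorem F165228 : act 2 n107212 = n64544 := d2_1 D107212 (iv5 D64544) (iv2 F102182)
theorem F165229 : act 3 n107212 = n49533 := d6_1 D107212 (iv5 D49533) D49531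
theorem F165230 : act 7 n107212 = n64549 := d13_2 (iv7 F102183) D107212 (iv5 D64549)
def n107213 : Q := act 3 n49532
theorem D107213 : act 3 n49532 = n107213 := rfl
def n107214 : Q := act 5 n49532
theorem D107214 : act 5 n49532 = n107214 := rfl
def n107215 : Q := act 0 n49533
theorem D107215 : act 0 n49533 = n107215 := rfl
theorem F165231 : act 1 n49538 = n107215 := d15_0 (iv0 D107215) (iv7 F163653) F163651
theorem F165232 : act 6 n52353 = n107215 := d21_9 (iv5 D49538) (iv1 D24174) D24175 F37887 (iv1 D24000) D24002 F37523 D25420 D52353 (iv1 F165231)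
def n107216 : Q := act 1 n49533
theorem D107216 : act 1 n49533 = n107216 := rfl
theorem F165233 : act 1 n107216 = n49538 := d15_1 D107216 (iv7 F163650) F163647
def n107217 : Q := act 4 n49533
theorem D107217 : act 4 n49533 = n107217 := rfl
def n107218 : Q := act 6 n49533
theorem D107218 : act 6 n49533 = n107218 := rfl
theorem F165234 : act 2 n107218 = n66272 := d3_1 D107218 (iv6 F163649) F163647
theorem F165235 : act 5 n107218 = n63959 := d12_1 D107218 F99515 (iv5 F93060) F93061 D49533
theorem F165236 : act 7 n107218 = n106856 := d14_2 F163653 D107218 (iv6 D106856) F102156 (iv6 F163654)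
theorem F165237 : act 0 n107218 = n106829 := d21_4 (iv5 D24175) D24173 D49533 D107218 (iv6 D106829) (iv5 F82633) F161089 F161085 F98285 (iv1 D49540)
theorem F165238 : act 6 n61247 = n64437 := d21_3 (iv5 F165235) F165237 F164635 (iv1 D64437) (iv6 D30342) (iv5 F24047) F37789 F37788 D30164 D63959
def n107219 : Q := act 3 n49537
theorem D107219 : act 3 n49537 = n107219 := rfl
def n107220 : Q := act 5 n49537
theorem D107220 : act 5 n49537 = n107220 := rfl
def n107221 : Q := act 6 n49537
theorem D107221 : act 6 n49537 = n107221 := rfl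
theorem F165239 : act 4 n107221 = n49539 := d10_1 D107221 (iv6 D49539) D49537
def n107222 : Q := act 4 n49538
theorem D107222 : act 4 n49538 = n107222 := rfl
theorem F165240 : act 6 n107222 = n60682 := d10_2 F78293 D107222 (iv4 F102053)
def n107223 : Q := act 1 n49539
theorem D107223 : act 1 n49539 = n107223 := rfl
def n107224 : Q := act 4 n49540
theorem D107224 : act 4 n49540 = n107224 := rfl
theorem F165241 : act 7 n107224 = n60559 := d11_2 (iv7 F78294) D107224 F95175
theorem F165242 : act 0 n107224 = n59641 := d18_2 (iv1 F163667) D107224 (iv4 D59641) (iv5 D28299) (iv4 F37903) (iv0 F102056) (iv4 D49537) F77661 (iv5 F163665)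
def n107225 : Q := act 1 n49541
theorem D107225 : act 1 n49541 = n107225 := rfl
theorem F165243 : act 1 n107225 = n60568 := d15_1 D107225 (iv7 F163670) F96431
theorem F165244 : act 7 n107225 = n60482 := d15_2 (iv0 F96511) D107225 F95062
theorem F165245 : act 4 n107225 = n51210 := d18_7 (iv1 F45812) (iv4 F102059) (iv1 D49527) F37886 D24175 D49541 D107225 F80790 F80788
theorem F165246 : act 2 n60571 = n107225 := d1_3 F165245 F80793 (iv4 F95182)
theorem F165247 : act 6 n60542 = n107225 := d10_0 F165245 (iv6 F80794) (iv4 F95158)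
def n107226 : Q := act 3 n49541
theorem D107226 : act 3 n49541 = n107226 := rfl
theorem F165248 : act 6 n107226 = n106452 := d7_2 (iv6 F78296) D107226 (iv3 D106452)
def n107227 : Q := act 5 n49541
theorem D107227 : act 5 n49541 = n107227 := rfl
def n107228 : Q := act 7 n49541
theorem D107228 : act 7 n49541 = n107228 := rfl
theorem F165249 : act 2 n107228 = n60568 := d4_1 D107228 (iv7 F163670) F96431
theorem F165250 : act 4 n107228 = n49542 := d11_1 D107228 (iv7 D49542) D49541
theorem F165251 : act 1 n60571 = n107228 := d15_1 F96434 (iv7 D107228) (iv2 F96431)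
theorem F165252 : act 1 n107228 = n60482 := d15_1 F165251 (iv7 F165244) (iv2 F165246)
def n107229 : Q := act 0 n49543
theorem D107229 : act 0 n49543 = n107229 := rfl
theorem F165253 : act 5 n107229 = n63982 := d21_0 F163539 F163534 (iv6 F164867) (iv1 F164868) (iv6 D49488) (iv5 F45377) (iv1 F45380) (iv5 F37889) D49543 D107229
theorem F165254 : act 2 n49547 = n107229 := d2_3 F165253 (iv2 F163544) (iv5 F163543)
theorem F165255 : act 3 n53578 = n107229 := d6_3 F165253 F163540 (iv5 F84523)
theorem F165256 : act 7 n49548 = n107229 := d13_0 F165253 F163541 (iv5 F163551)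
theorem F165257 : act 0 n107229 = n49549 := d21_1 (iv5 F165253) (iv5 F95706) (iv6 F97583) (iv1 F97584) (iv6 D30265) (iv5 F37943) F37945 F24105 D30172 D63982
def n107230 : Q := act 1 n49543
theorem D107230 : act 1 n49543 = n107230 := rfl
theorem F165258 : act 1 n107230 = n49549 := d15_1 D107230 (iv7 D49549) (iv2 F78299)
theorem F165259 : act 7 n107230 = n49547 := d15_2 (iv0 D107229) D107230 F165254
theorem F165260 : act 5 n107230 = n49564 := d18_9 F161385 F48536 D59588 F161384 (iv5 F76970) (iv4 F162224) (iv0 D105623) (iv4 F78301) D107230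
theorem F165261 : act 0 n50099 = n106982 := d21_4 F47484 F38984 F38597 D50099 F164895 (iv5 F165260) (iv1 D107230) F78302 (iv6 D30213) (iv1 F47482)
theorem F165262 : act 1 n50099 = n74464 := d15_1 (iv0 F165261) (iv7 F163554) (iv2 F164894)
theorem F165263 : act 1 n74464 = n64151 := d15_1 F165262 (iv7 D64151) (iv2 F79309)
theorem F165264 : act 1 n64151 = n106982 := d15_1 F165263 (iv7 F164896) F164897
theorem F165265 : act 2 n49548 = n107230 := d2_3 F165260 F104361 (iv5 F163551)
theorem F165266 : act 3 n49566 = n107230 := d6_3 F165260 (iv3 D49564) D49566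
def n107231 : Q := act 7 n49543
theorem D107231 : act 7 n49543 = n107231 := rfl
theorem F165267 : act 2 n107231 = n49549 := d4_1 D107231 (iv7 D49549) (iv2 F78299)
theorem F165268 : act 3 n107231 = n53174 := d8_1 D107231 (iv7 D53174) (iv3 F78300)
theorem F165269 : act 4 n107231 = n105626 := d11_1 D107231 (iv7 D105626) (iv4 F78301)
theorem F165270 : act 5 n107231 = n64105 := d13_1 D107231 (iv7 D64105) (iv5 F78302)
theorem F165271 : act 6 n107231 = n53254 := d14_1 D107231 (iv7 D53254) (iv6 D25821) (iv7 F37890) D49543
theorem F165272 : act 1 n49548 = n107231 := d15_1 D49548 (iv7 D107231) F78299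
theorem F165273 : act 1 n107231 = n49547 := d15_1 F165272 (iv7 F165259) (iv2 F165265)
def n107232 : Q := act 0 n49544
theorem D107232 : act 0 n49544 = n107232 := rfl
theorem F165274 : act 1 n105611 = n107232 := d15_0 (iv0 D107232) F78304 D105611
def n107233 : Q := act 1 n49544
theorem D107233 : act 1 n49544 = n107233 := rfl
def n107234 : Q := act 2 n49544
theorem D107234 : act 2 n49544 = n107234 := rfl
theorem F165275 : act 3 n107234 = n105619 := d0_2 D49544 D107234 (iv2 D105619) (iv3 D48830) (iv2 F37894)
theorem F165276 : act 4 n107234 = n49552 := d1_2 (iv4 F78303) D107234 (iv2 D49552)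
theorem F165277 : act 7 n107234 = n105611 := d4_2 (iv7 F78304) D107234 (iv2 D105611)
theorem F165278 : act 1 n107234 = n105609 := d15_0 (iv0 D105609) (iv7 F78304) D107234
theorem F165279 : act 1 n107233 = n105611 := d15_1 D107233 (iv7 F165277) (iv2 D107234)
theorem F165280 : act 1 n105610 = n107234 := d15_1 D105610 F165277 (iv2 D105611)
def n107235 : Q := act 5 n49544
theorem D107235 : act 5 n49544 = n107235 := rfl
theorem F165281 : act 3 n107235 = n49545 := d6_1 D107235 (iv5 D49545) D49544
theorem F165282 : act 7 n107235 = n105612 := d13_2 (iv7 F78304) D107235 (iv5 D105612)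
def n107236 : Q := act 6 n49544
theorem D107236 : act 6 n49544 = n107236 := rfl
theorem F165283 : act 3 n107236 = n49546 := d7_1 D107236 (iv6 D49546) D49544
theorem F165284 : act 4 n107236 = n49553 := d10_1 D107236 (iv6 D49553) (iv4 F78303)
def n107237 : Q := act 6 n49545
theorem D107237 : act 6 n49545 = n107237 := rfl
theorem F165285 : act 2 n107237 = n105622 := d3_1 D107237 (iv6 D105622) (iv2 F78305)
def n107238 : Q := act 0 n49546
theorem D107238 : act 0 n49546 = n107238 := rfl
theorem F165286 : act 2 n105623 = n107238 := d15_3 (iv0 D107238) (iv0 F104362) F162225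
theorem F165287 : act 4 n107238 = n105673 := d1_2 (iv4 F162224) F165286 (iv2 D105673)
theorem F165288 : act 7 n105624 = n107238 := d15_2 (iv0 D105623) D105624 (iv2 F165286)
theorem F165289 : act 2 n59684 = n105624 := d4_3 F165288 (iv2 F165286) (iv7 F162225)
theorem F165290 : act 4 n59683 = n105624 := d11_3 F165288 F165287 F162280
theorem F165291 : act 1 n105626 = n107238 := d15_1 F162226 (iv7 F165288) (iv2 F165289)
def n107239 : Q := act 5 n49546
theorem D107239 : act 5 n49546 = n107239 := rfl
theorem F165292 : act 2 n107239 = n105625 := d2_1 D107239 (iv5 D105625) (iv2 F78308)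
def n107240 : Q := act 7 n49546
theorem D107240 : act 7 n49546 = n107240 := rfl
theorem F165293 : act 2 n107240 = n105626 := d4_1 D107240 (iv7 D105626) (iv2 F78308)
theorem F165294 : act 4 n107240 = n49549 := d11_1 D107240 (iv7 D49549) (iv4 F78309)
theorem F165295 : act 6 n107240 = n105616 := d14_1 D107240 (iv7 D105616) (iv6 D48829) (iv7 F37895) D49546
theorem F165296 : act 1 n105624 = n107240 := d15_1 D105624 (iv7 D107240) F78308
theorem F165297 : act 1 n107240 = n105623 := d15_1 F165296 (iv7 F162225) F165289
def n107241 : Q := act 4 n49547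
theorem D107241 : act 4 n49547 = n107241 := rfl
def n107242 : Q := act 6 n49547
theorem D107242 : act 6 n49547 = n107242 := rfl
theorem F165298 : act 3 n107242 = n64638 := d7_1 D107242 (iv6 D64638) (iv3 F163600)
def n107243 : Q := act 4 n49548
theorem D107243 : act 4 n49548 = n107243 := rfl
def n107244 : Q := act 4 n49550
theorem D107244 : act 4 n49550 = n107244 := rfl
def n107245 : Q := act 5 n49550
theorem D107245 : act 5 n49550 = n107245 := rfl
def n107246 : Q := act 6 n49550
theorem D107246 : act 6 n49550 = n107246 := rfl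
def n107247 : Q := act 3 n49551
theorem D107247 : act 3 n49551 = n107247 := rfl
def n107248 : Q := act 4 n49551
theorem D107248 : act 4 n49551 = n107248 := rfl
def n107249 : Q := act 5 n49551
theorem D107249 : act 5 n49551 = n107249 := rfl
def n107250 : Q := act 6 n49551
theorem D107250 : act 6 n49551 = n107250 := rfl
def n107251 : Q := act 6 n49552
theorem D107251 : act 6 n49552 = n107251 := rfl
theorem F165299 : act 2 n107251 = n49553 := d3_1 D107251 (iv6 D49553) D49552
def n107252 : Q := act 0 n49553
theorem D107252 : act 0 n49553 = n107252 := rfl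
def n107253 : Q := act 1 n49553
theorem D107253 : act 1 n49553 = n107253 := rfl
def n107254 : Q := act 5 n49553
theorem D107254 : act 5 n49553 = n107254 := rfl
theorem F165300 : act 3 n107254 = n49556 := d6_1 D107254 (iv5 D49556) (iv3 F78312)
theorem F165301 : act 6 n107254 = n107090 := d12_2 D49553 D107254 (iv5 D107090) (iv6 D49467) (iv5 F37899)
def n107255 : Q := act 7 n49553
theorem D107255 : act 7 n49553 = n107255 := rfl
theorem F165302 : act 3 n107255 = n49557 := d8_1 D107255 (iv7 D49557) (iv3 F78312)
def n107256 : Q := act 2 n49554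
theorem D107256 : act 2 n49554 = n107256 := rfl
theorem F165303 : act 4 n107256 = n51217 := d1_2 (iv4 F163694) D107256 (iv2 D51217)
theorem F165304 : act 7 n49555 = n107256 := d15_2 (iv0 D49554) D49555 (iv2 D107256)
def n107257 : Q := act 3 n49554
theorem D107257 : act 3 n49554 = n107257 := rfl
def n107258 : Q := act 5 n49554
theorem D107258 : act 5 n49554 = n107258 := rfl
def n107259 : Q := act 6 n49554
theorem D107259 : act 6 n49554 = n107259 := rfl
theorem F165305 : act 4 n107259 = n51221 := d10_1 D107259 (iv6 D51221) (iv4 F163694)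
def n107260 : Q := act 7 n49554
theorem D107260 : act 7 n49554 = n107260 := rfl
theorem F165306 : act 2 n107260 = n49555 := d4_1 D107260 F165304 (iv2 D107256)
theorem F165307 : act 4 n107260 = n51222 := d11_1 D107260 (iv7 D51222) (iv4 F163694)
def n107261 : Q := act 3 n49555
theorem D107261 : act 3 n49555 = n107261 := rfl
theorem F165308 : act 4 n107261 = n64674 := d5_2 (iv4 F163690) D107261 (iv3 D64674) (iv4 F161378) (iv3 D51223)
def n107262 : Q := act 5 n49555
theorem D107262 : act 5 n49555 = n107262 := rfl
def n107263 : Q := act 6 n49555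
theorem D107263 : act 6 n49555 = n107263 := rfl
theorem F165309 : act 4 n107263 = n51155 := d10_1 D107263 F80802 (iv4 F163690)
def n107264 : Q := act 0 n49556
theorem D107264 : act 0 n49556 = n107264 := rfl
theorem F165310 : act 5 n107264 = n106950 := d17_3 (iv1 D49555) D49556 D107264 F164833 (iv5 F80689) (iv0 F49659) F38179 D24915 (iv4 F163690)
def n107265 : Q := act 1 n49556
theorem D107265 : act 1 n49556 = n107265 := rfl
theorem F165311 : act 5 n107265 = n106949 := d17_7 D49410 F78139 (iv1 D29005) F23054 (iv4 F37900) D49556 D107265 (iv0 D106949) F78138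
def n107266 : Q := act 4 n49556
theorem D107266 : act 4 n49556 = n107266 := rfl
theorem F165312 : act 6 n107266 = n107099 := d10_2 (iv6 F78313) D107266 (iv4 D107099)
def n107267 : Q := act 7 n49556
theorem D107267 : act 7 n49556 = n107267 := rfl
theorem F165313 : act 5 n107267 = n49557 := d13_1 D107267 (iv7 D49557) D49556
def n107268 : Q := act 3 n49560
theorem D107268 : act 3 n49560 = n107268 := rfl
theorem F165314 : act 4 n107268 = n66567 := d5_2 D49560 D107268 (iv3 D66567) (iv4 D31063) F104346
def n107269 : Q := act 5 n49560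
theorem D107269 : act 5 n49560 = n107269 := rfl
def n107270 : Q := act 6 n49560
theorem D107270 : act 6 n49560 = n107270 := rfl
theorem F165315 : act 4 n107270 = n49562 := d10_1 D107270 (iv6 D49562) D49560
theorem F165316 : act 5 n107270 = n68172 := d21_6 (iv5 F37845) F37847 F18617 D24188 (iv1 F104348) D107270 (iv1 D68172) (iv5 D31735) (iv6 D14928) D14925
def n107271 : Q := act 4 n49561
theorem D107271 : act 4 n49561 = n107271 := rfl
theorem F165317 : act 2 n107271 = n59665 := d1_1 D107271 F163598 (iv2 F163582)
theorem F165318 : act 7 n107271 = n59666 := d11_2 (iv7 F163583) D107271 F163578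
theorem F165319 : act 1 n107271 = n59658 := d18_6 (iv1 D49676) F37979 (iv1 F104348) (iv4 D49560) D49561 D107271 F94053 D59660 (iv5 F94057)
theorem F165320 : act 0 n107271 = n59668 := d20_1 D107271 F94070 F45828 (iv1 F37144) D48860 D105678 (iv1 F162296) F93806 F77621 F82462
def n107272 : Q := act 6 n49561
theorem D107272 : act 6 n49561 = n107272 := rfl
theorem F165321 : act 2 n107272 = n64638 := d3_1 D107272 (iv6 D64638) (iv2 F163582)
theorem F165322 : act 3 n107272 = n53594 := d7_1 D107272 (iv6 D53594) (iv3 F104351)
theorem F165323 : act 5 n107272 = n64450 := d12_1 D107272 F165155 (iv5 F82164) (iv6 D49562) D49561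
theorem F165324 : act 0 n107272 = n105218 := d21_10 (iv5 D105218) (iv1 D48652) (iv5 F46629) (iv6 D28998) (iv1 D13802) D13804 F23054 D24182 D49561 D107272
theorem F165325 : act 0 n105214 = n107272 := d21_1 D105214 F165323 F165155 (iv1 D52012) F39782 (iv5 D11985) D11984 F19795 D23721 D48651
def n107273 : Q := act 1 n49562
theorem D107273 : act 1 n49562 = n107273 := rfl
theorem F165326 : act 5 n105169 = n107273 := d21_0 (iv1 D107273) F82164 (iv6 F165155) (iv1 D64450) F48776 (iv5 D14403) D14401 F36865 D48631 D105169
theorem F165327 : act 6 n106770 = n107273 := d21_3 F39772 D49336 D106770 (iv1 D107273) (iv6 D49562) D49561 F82119 (iv5 F78143) F82118 (iv1 D51995)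
theorem F165328 : act 0 n106770 = n106997 := d21_4 (iv5 F76478) D105169 F165326 (iv6 F165327) (iv6 D106997) F82514 (iv1 F82512) F78227 (iv6 F39787) (iv1 F39789)
def n107274 : Q := act 4 n49564
theorem D107274 : act 4 n49564 = n107274 := rfl
theorem F165329 : act 2 n107274 = n66577 := d1_1 D107274 (iv4 D66577) (iv2 F104361)
def n107275 : Q := act 3 n49565
theorem D107275 : act 3 n49565 = n107275 := rfl
def n107276 : Q := act 5 n49565
theorem D107276 : act 5 n49565 = n107276 := rfl
def n107277 : Q := act 4 n49566
theorem D107277 : act 4 n49566 = n107277 := rfl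
theorem F165330 : act 2 n107277 = n59666 := d1_1 D107277 F163578 (iv2 F163584)
theorem F165331 : act 7 n107277 = n59665 := d11_2 (iv7 F163585) D107277 F163598
theorem F165332 : act 1 n107277 = n59668 := d18_6 (iv1 F78479) (iv4 F80807) (iv1 F104357) (iv4 D49565) D49566 D107277 F94070 (iv0 F94055) F94054
theorem F165333 : act 1 n59658 = n107277 := d15_0 F165332 (iv7 D59668) (iv2 F94052)
theorem F165334 : act 4 n49675 = n106427 := d20_0 (iv1 F163688) F78314 (iv3 F78310) (iv1 F165258) (iv3 F165266) D107277 (iv1 F165333) F94053 F45822 D49675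
theorem F165335 : act 4 n64631 = n59659 := d18_3 (iv1 D30418) (iv4 F48848) D64631 F94054 F165334 (iv0 D106427) F77667 D49179 F163593
def n107278 : Q := act 3 n49568
theorem D107278 : act 3 n49568 = n107278 := rfl
theorem F165336 : act 7 n107278 = n66933 := d8_2 F102827 D107278 (iv3 D66933)
theorem F165337 : act 4 n107278 = n53281 := d20_6 (iv4 D11769) F10468 (iv4 F18542) D24185 D49568 D107278 (iv1 D53281) (iv4 F77663) (iv3 D49176) F37514
theorem F165338 : act 7 n53281 = n107176 := d11_2 (iv7 F165336) F165337 (iv4 F165171)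
theorem F165339 : act 2 n107176 = n53280 := d15_3 (iv0 D53280) D53281 F165338
theorem F165340 : act 2 n53281 = n107175 := d15_3 (iv0 D107175) D107176 (iv7 F165338)
theorem F165341 : act 7 n107175 = n53280 := d4_2 (iv7 F165338) F165340 (iv2 F165339)
def n107279 : Q := act 5 n49568
theorem D107279 : act 5 n49568 = n107279 := rfl
theorem F165342 : act 2 n107279 = n66937 := d2_1 D107279 (iv5 D66937) F102826
theorem F165343 : act 7 n107279 = n66934 := d13_2 F102827 D107279 (iv5 D66934)
def n107280 : Q := act 6 n49568
theorem D107280 : act 6 n49568 = n107280 := rfl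
theorem F165344 : act 2 n107280 = n66938 := d3_1 D107280 (iv6 D66938) F102826
def n107281 : Q := act 3 n49569
theorem D107281 : act 3 n49569 = n107281 := rfl
theorem F165345 : act 7 n107281 = n66936 := d8_2 F102822 D107281 (iv3 D66936)
def n107282 : Q := act 5 n49569
theorem D107282 : act 5 n49569 = n107282 := rfl
theorem F165346 : act 2 n107282 = n66934 := d2_1 D107282 (iv5 D66934) (iv2 F102829)
theorem F165347 : act 7 n107282 = n66937 := d13_2 F102822 D107282 (iv5 D66937)
def n107283 : Q := act 6 n49569
theorem D107283 : act 6 n49569 = n107283 := rfl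
def n107284 : Q := act 6 n49570
theorem D107284 : act 6 n49570 = n107284 := rfl
theorem F165349 : act 2 n107284 = n49571 := d3_1 D107284 (iv6 D49571) D49570
theorem F165350 : act 4 n107284 = n53656 := d10_1 D107284 (iv6 D53656) (iv4 F78318)
def n107285 : Q := act 0 n49571
theorem D107285 : act 0 n49571 = n107285 := rfl
def n107286 : Q := act 1 n49571
theorem D107286 : act 1 n49571 = n107286 := rfl
def n107287 : Q := act 5 n49571
theorem D107287 : act 5 n49571 = n107287 := rfl
theorem F165351 : act 3 n107287 = n49574 := d6_1 D107287 (iv5 D49574) (iv3 F78323)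
def n107288 : Q := act 7 n49571
theorem D107288 : act 7 n49571 = n107288 := rfl
theorem F165352 : act 3 n107288 = n49575 := d8_1 D107288 (iv7 D49575) (iv3 F78323)
theorem F165353 : act 4 n107288 = n53664 := d11_1 D107288 (iv7 D53664) (iv4 F78324)
theorem F165354 : act 6 n107288 = n66942 := d14_1 D107288 (iv7 D66942) (iv6 D31177) (iv7 F37902) D49571
def n107289 : Q := act 0 n49574
theorem D107289 : act 0 n49574 = n107289 := rfl
theorem F165355 : act 5 n107289 = n74716 := d17_3 F102056 D49574 D107289 F112134 F78132 (iv0 F78021) (iv5 D24175) D24174 D49537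
def n107290 : Q := act 1 n49574
theorem D107290 : act 1 n49574 = n107290 := rfl
theorem F165356 : act 5 n107156 = n107290 := d21_6 (iv5 D11363) D11360 (iv5 F18594) D24218 (iv1 F78263) D107156 (iv1 D107290) (iv5 D49574) (iv6 D24186) F18546
def n107291 : Q := act 4 n49574
theorem D107291 : act 4 n49574 = n107291 := rfl
def n107292 : Q := act 7 n49574
theorem D107292 : act 7 n49574 = n107292 := rfl
theorem F165357 : act 5 n107292 = n49575 := d13_1 D107292 (iv7 D49575) D49574
def n107293 : Q := act 2 n49576
theorem D107293 : act 2 n49576 = n107293 := rfl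
theorem F165358 : act 7 n49577 = n107293 := d15_2 (iv0 D49576) D49577 (iv2 D107293)
def n107294 : Q := act 3 n49576
theorem D107294 : act 3 n49576 = n107294 := rfl
theorem F165359 : act 4 n107294 = n105610 := d20_6 F19216 (iv1 F18615) F18616 D24187 D49576 D107294 (iv1 D105610) (iv4 F77649) (iv3 D49170) F37508
def n107295 : Q := act 4 n49576
theorem D107295 : act 4 n49576 = n107295 := rfl
def n107296 : Q := act 5 n49576
theorem D107296 : act 5 n49576 = n107296 := rfl
def n107297 : Q := act 6 n49576
theorem D107297 : act 6 n49576 = n107297 := rfl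
def n107298 : Q := act 7 n49576
theorem D107298 : act 7 n49576 = n107298 := rfl
def n107299 : Q := act 3 n49577
theorem D107299 : act 3 n49577 = n107299 := rfl
def n107300 : Q := act 4 n49577
theorem D107300 : act 4 n49577 = n107300 := rfl
def n107301 : Q := act 5 n49577
theorem D107301 : act 5 n49577 = n107301 := rfl
def n107302 : Q := act 6 n49577
theorem D107302 : act 6 n49577 = n107302 := rfl
def n107303 : Q := act 4 n49578
theorem D107303 : act 4 n49578 = n107303 := rfl
theorem F165361 : act 2 n107303 = n49579 := d1_1 D107303 (iv4 D49579) D49578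
theorem F165362 : act 3 n107303 = n53683 := d5_1 D107303 (iv4 D53683) F41065 D31172 (iv3 F78326)
theorem F165363 : act 7 n107303 = n66788 := d11_2 F80768 D107303 F102644
def n107304 : Q := act 6 n49578
theorem D107304 : act 6 n49578 = n107304 := rfl
theorem F165364 : act 2 n107304 = n49580 := d3_1 D107304 (iv6 D49580) D49578
theorem F165365 : act 3 n107304 = n66926 := d7_1 D107304 (iv6 D66926) (iv3 F78326)
def n107305 : Q := act 0 n49579
theorem D107305 : act 0 n49579 = n107305 := rfl
theorem F165366 : act 1 n66788 = n107305 := d15_0 (iv0 D107305) (iv7 F80750) (iv2 F102643)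
def n107306 : Q := act 1 n49579
theorem D107306 : act 1 n49579 = n107306 := rfl
theorem F165367 : act 1 n107306 = n66788 := d15_1 D107306 (iv7 F165363) F165361
theorem F165368 : act 4 n107188 = n107306 := d20_6 (iv4 D5243) D5241 D11355 D24171 D49522 D107188 (iv1 D107306) (iv4 D49579) (iv3 D24187) (iv1 D11361)
def n107307 : Q := act 5 n49579
theorem D107307 : act 5 n49579 = n107307 := rfl
theorem F165369 : act 3 n107307 = n59657 := d6_1 D107307 (iv5 D59657) (iv3 F78327)
def n107308 : Q := act 6 n49579
theorem D107308 : act 6 n49579 = n107308 := rfl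
theorem F165370 : act 3 n107308 = n59658 := d7_1 D107308 (iv6 D59658) (iv3 F78327)
theorem F165371 : act 4 n107308 = n49580 := d10_1 D107308 (iv6 D49580) D49579
def n107309 : Q := act 0 n49580
theorem D107309 : act 0 n49580 = n107309 := rfl
def n107310 : Q := act 1 n49580
theorem D107310 : act 1 n49580 = n107310 := rfl
def n107311 : Q := act 5 n49580
theorem D107311 : act 5 n49580 = n107311 := rfl
theorem F165372 : act 3 n107311 = n49583 := d6_1 D107311 (iv5 D49583) (iv3 F78328)
def n107312 : Q := act 7 n49580
theorem D107312 : act 7 n49580 = n107312 := rfl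
theorem F165373 : act 3 n107312 = n49584 := d8_1 D107312 (iv7 D49584) (iv3 F78328)
def n107313 : Q := act 0 n49583
theorem D107313 : act 0 n49583 = n107313 := rfl
theorem F165374 : act 5 n107313 = n74725 := d17_3 F104356 D49583 D107313 (iv4 F112143) (iv5 F78141) (iv0 D29004) F23054 D24183 D49565
def n107314 : Q := act 1 n49583
theorem D107314 : act 1 n49583 = n107314 := rfl
theorem F165375 : act 5 n107314 = n74724 := d17_7 D34241 F82332 (iv1 D52089) F39942 F37979 D49583 D107314 (iv0 D74724) F53883
def n107315 : Q := act 4 n49583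
theorem D107315 : act 4 n49583 = n107315 := rfl
def n107316 : Q := act 7 n49583
theorem D107316 : act 7 n49583 = n107316 := rfl
theorem F165376 : act 5 n107316 = n49584 := d13_1 D107316 (iv7 D49584) D49583
def n107317 : Q := act 6 n49585
theorem D107317 : act 6 n49585 = n107317 := rfl
theorem F165377 : act 2 n107317 = n49603 := d3_1 D107317 (iv6 D49603) F78329
def n107318 : Q := act 0 n49586
theorem D107318 : act 0 n49586 = n107318 := rfl
def n107319 : Q := act 1 n49586
theorem D107319 : act 1 n49586 = n107319 := rfl
def n107320 : Q := act 3 n49586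
theorem D107320 : act 3 n49586 = n107320 := rfl
theorem F165380 : act 7 n107320 = n49592 := d8_2 F78333 D107320 (iv3 D49592)
def n107321 : Q := act 4 n49586
theorem D107321 : act 4 n49586 = n107321 := rfl
theorem F165381 : act 2 n107321 = n49588 := d1_1 D107321 (iv4 D49588) D49586
theorem F165382 : act 7 n107321 = n49593 := d11_2 F78333 D107321 (iv4 D49593)
def n107322 : Q := act 5 n49586
theorem D107322 : act 5 n49586 = n107322 := rfl
theorem F165383 : act 2 n107322 = n49589 := d2_1 D107322 (iv5 D49589) D49586
theorem F165384 : act 7 n107322 = n49594 := d13_2 F78333 D107322 (iv5 D49594)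
def n107323 : Q := act 6 n49586
theorem D107323 : act 6 n49586 = n107323 := rfl
theorem F165385 : act 2 n107323 = n49590 := d3_1 D107323 (iv6 D49590) D49586
def n107324 : Q := act 0 n49587
theorem D107324 : act 0 n49587 = n107324 := rfl
def n107325 : Q := act 1 n49587
theorem D107325 : act 1 n49587 = n107325 := rfl
def n107326 : Q := act 2 n49587
theorem D107326 : act 2 n49587 = n107326 := rfl
def n107327 : Q := act 5 n49587
theorem D107327 : act 5 n49587 = n107327 := rfl
theorem F165386 : act 3 n107327 = n49589 := d6_1 D107327 (iv5 D49589) D49587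
def n107328 : Q := act 6 n49587
theorem D107328 : act 6 n49587 = n107328 := rfl
theorem F165387 : act 3 n107328 = n49590 := d7_1 D107328 (iv6 D49590) D49587
def n107329 : Q := act 7 n49587
theorem D107329 : act 7 n49587 = n107329 := rfl
theorem F165388 : act 3 n107329 = n49591 := d8_1 D107329 (iv7 D49591) D49587
def n107330 : Q := act 0 n49588
theorem D107330 : act 0 n49588 = n107330 := rfl
theorem F165389 : act 4 n107330 = n107247 := d20_2 D49588 D107330 (iv3 D107247) (iv1 D49551) (iv3 D24180) (iv4 D11358) (iv1 D5242) D5243 D11362 D24189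
def n107331 : Q := act 1 n49588
theorem D107331 : act 1 n49588 = n107331 := rfl
theorem F165390 : act 1 n107331 = n49593 := d15_1 D107331 (iv7 F165382) F165381
def n107332 : Q := act 3 n49588
theorem D107332 : act 3 n49588 = n107332 := rfl
def n107333 : Q := act 5 n49588
theorem D107333 : act 5 n49588 = n107333 := rfl
def n107334 : Q := act 6 n49588
theorem D107334 : act 6 n49588 = n107334 := rfl
theorem F165391 : act 4 n107334 = n49590 := d10_1 D107334 (iv6 D49590) D49588
def n107335 : Q := act 7 n49588
theorem D107335 : act 7 n49588 = n107335 := rfl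
theorem F165392 : act 2 n107335 = n49593 := d4_1 D107335 (iv7 F165382) F165381
theorem F165393 : act 4 n107335 = n49591 := d11_1 D107335 (iv7 D49591) D49588
theorem F165394 : act 1 n49593 = n107330 := d15_0 (iv0 D107330) D107335 F165392
def n107336 : Q := act 0 n49589
theorem D107336 : act 0 n49589 = n107336 := rfl
def n107337 : Q := act 1 n49589
theorem D107337 : act 1 n49589 = n107337 := rfl
def n107338 : Q := act 4 n49589
theorem D107338 : act 4 n49589 = n107338 := rfl
def n107339 : Q := act 6 n49589
theorem D107339 : act 6 n49589 = n107339 := rfl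
def n107340 : Q := act 7 n49589
theorem D107340 : act 7 n49589 = n107340 := rfl
theorem F165396 : act 2 n107340 = n49594 := d4_1 D107340 (iv7 F165384) F165383
theorem F165398 : act 1 n49594 = n107336 := d15_0 (iv0 D107336) D107340 F165396
def n107341 : Q := act 0 n49590
theorem D107341 : act 0 n49590 = n107341 := rfl
def n107342 : Q := act 1 n49590
theorem D107342 : act 1 n49590 = n107342 := rfl
def n107343 : Q := act 5 n49590
theorem D107343 : act 5 n49590 = n107343 := rfl
def n107344 : Q := act 7 n49590
theorem D107344 : act 7 n49590 = n107344 := rfl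
def n107345 : Q := act 6 n49591
theorem D107345 : act 6 n49591 = n107345 := rfl
theorem F165399 : act 2 n107345 = n49595 := d3_1 D107345 (iv6 D49595) (iv2 F78334)
def n107346 : Q := act 0 n49592
theorem D107346 : act 0 n49592 = n107346 := rfl
theorem F165400 : act 4 n107346 = n53280 := d20_0 (iv1 F165177) F165175 (iv3 F163626) (iv1 F163635) D107247 (iv4 F165389) (iv1 F165394) (iv4 D49593) D49592 D107346
theorem F165401 : act 2 n66933 = n107346 := d1_3 F165400 (iv2 F165339) (iv4 F165171)
theorem F165402 : act 1 n49592 = n107278 := d15_1 (iv0 D107346) F165336 F165401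
theorem F165403 : act 4 n107331 = n66898 := d20_8 (iv4 F102764) (iv1 F102823) (iv4 F102825) D107278 (iv1 F165402) (iv3 D49592) D49593 (iv1 F165390) (iv3 D66898) D66896
theorem F165404 : act 3 n53506 = n107331 := d5_5 F165403 (iv3 D66898) (iv4 D31164) D31163 F84421
theorem F165405 : act 7 n107331 = n66520 := d8_2 (iv7 F102846) F165404 (iv3 D66520)
theorem F165406 : act 2 n66520 = n107330 := d15_3 (iv0 D107330) D107331 F165405
def n107347 : Q := act 2 n49592
theorem D107347 : act 2 n49592 = n107347 := rfl
def n107348 : Q := act 4 n49592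
theorem D107348 : act 4 n49592 = n107348 := rfl
theorem F165407 : act 0 n107189 = n107348 := d20_1 D107189 (iv4 D107348) (iv3 D49592) (iv1 D24190) (iv3 D11362) (iv4 D5243) D5241 D11355 D24171 D49522
def n107349 : Q := act 5 n49592
theorem D107349 : act 5 n49592 = n107349 := rfl
theorem F165408 : act 3 n107349 = n49594 := d6_1 D107349 (iv5 D49594) D49592
def n107350 : Q := act 6 n49592
theorem D107350 : act 6 n49592 = n107350 := rfl
theorem F165409 : act 3 n107350 = n49595 := d7_1 D107350 (iv6 D49595) D49592
def n107351 : Q := act 3 n49593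
theorem D107351 : act 3 n49593 = n107351 := rfl
theorem F165410 : act 0 n53502 = n107351 := d20_4 (iv4 F46300) (iv1 F46301) (iv4 F40966) D53502 (iv3 D107351) (iv4 D49593) (iv1 D24190) (iv4 F37769) (iv3 D24106) D24104
theorem F165411 : act 1 n66507 = n107351 := d15_0 (iv0 F165410) F84414 D66507
def n107352 : Q := act 5 n49593
theorem D107352 : act 5 n49593 = n107352 := rfl
def n107353 : Q := act 6 n49593
theorem D107353 : act 6 n49593 = n107353 := rfl
theorem F165412 : act 4 n107353 = n49595 := d10_1 D107353 (iv6 D49595) D49593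
def n107354 : Q := act 4 n49594
theorem D107354 : act 4 n49594 = n107354 := rfl
def n107355 : Q := act 6 n49594
theorem D107355 : act 6 n49594 = n107355 := rfl
def n107356 : Q := act 0 n49595
theorem D107356 : act 0 n49595 = n107356 := rfl
def n107357 : Q := act 1 n49595
theorem D107357 : act 1 n49595 = n107357 := rfl
def n107358 : Q := act 5 n49595
theorem D107358 : act 5 n49595 = n107358 := rfl
def n107359 : Q := act 7 n49595
theorem D107359 : act 7 n49595 = n107359 := rfl
def n107360 : Q := act 2 n49596
theorem D107360 : act 2 n49596 = n107360 := rfl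
theorem F165413 : act 7 n49597 = n107360 := d15_2 (iv0 D49596) D49597 (iv2 D107360)
def n107361 : Q := act 3 n49596
theorem D107361 : act 3 n49596 = n107361 := rfl
def n107362 : Q := act 4 n49596
theorem D107362 : act 4 n49596 = n107362 := rfl
theorem F165414 : act 3 n66505 = n107362 := d20_5 F48053 F38280 F38279 D31046 D66505 (iv4 D107362) (iv1 F78335) (iv4 F78113) F78112 (iv1 F48052)
def n107363 : Q := act 5 n49596
theorem D107363 : act 5 n49596 = n107363 := rfl
def n107365 : Q := act 7 n49596
theorem D107365 : act 7 n49596 = n107365 := rfl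
theorem F165415 : act 2 n107365 = n49597 := d4_1 D107365 F165413 (iv2 D107360)
def n107366 : Q := act 3 n49597
theorem D107366 : act 3 n49597 = n107366 := rfl
def n107367 : Q := act 4 n49597
theorem D107367 : act 4 n49597 = n107367 := rfl
def n107368 : Q := act 5 n49597
theorem D107368 : act 5 n49597 = n107368 := rfl
def n107370 : Q := act 4 n49598
theorem D107370 : act 4 n49598 = n107370 := rfl
theorem F165416 : act 2 n107370 = n49601 := d1_1 D107370 (iv4 D49601) (iv2 F78337)
theorem F165417 : act 7 n107370 = n106398 := d11_2 (iv7 F78339) D107370 F163559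
theorem F165418 : act 1 n106397 = n107370 := d15_1 D106397 F165417 (iv2 D106398)
theorem F165419 : act 1 n107370 = n106396 := d15_0 (iv0 D106396) (iv7 F78345) (iv2 F165416)
theorem F165420 : act 2 n59720 = n106397 := d15_3 F165418 F165419 (iv7 F163558)
def n107371 : Q := act 6 n49598
theorem D107371 : act 6 n49598 = n107371 := rfl
theorem F165421 : act 2 n107371 = n49602 := d3_1 D107371 (iv6 D49602) (iv2 F78337)
theorem F165422 : act 3 n107371 = n107317 := d7_1 D107371 (iv6 D107317) (iv3 F78338)
def n107372 : Q := act 2 n49599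
theorem D107372 : act 2 n49599 = n107372 := rfl
theorem F165423 : act 7 n49600 = n107372 := d15_2 (iv0 D49599) D49600 (iv2 D107372)
def n107373 : Q := act 3 n49599
theorem D107373 : act 3 n49599 = n107373 := rfl
theorem F165424 : act 4 n107373 = n51135 := d20_6 (iv4 D11355) (iv1 F18304) (iv4 F18543) (iv3 F37904) D49599 D107373 (iv1 D51135) F39017 (iv3 D11826) (iv1 F18538)
def n107374 : Q := act 4 n49599
theorem D107374 : act 4 n49599 = n107374 := rfl
def n107375 : Q := act 5 n49599
theorem D107375 : act 5 n49599 = n107375 := rfl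
def n107376 : Q := act 6 n49599
theorem D107376 : act 6 n49599 = n107376 := rfl
def n107377 : Q := act 7 n49599
theorem D107377 : act 7 n49599 = n107377 := rfl
theorem F165425 : act 2 n107377 = n49600 := d4_1 D107377 F165423 (iv2 D107372)
def n107378 : Q := act 3 n49600
theorem D107378 : act 3 n49600 = n107378 := rfl
def n107379 : Q := act 4 n49600
theorem D107379 : act 4 n49600 = n107379 := rfl
theorem F165426 : act 3 n59428 = n107379 := d20_5 (iv4 D28216) (iv1 D13472) D13473 D28219 D59428 (iv4 D107379) (iv1 D49600) D49601 F78344 F48664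
def n107380 : Q := act 5 n49600
theorem D107380 : act 5 n49600 = n107380 := rfl
def n107381 : Q := act 6 n49600
theorem D107381 : act 6 n49600 = n107381 := rfl
def n107382 : Q := act 1 n49601
theorem D107382 : act 1 n49601 = n107382 := rfl
theorem F165427 : act 1 n107382 = n106398 := d15_1 D107382 (iv7 F165417) F165416
theorem F165428 : act 7 n107382 = n106397 := d15_2 (iv0 F94108) D107382 (iv2 F165420)
theorem F165429 : act 2 n106396 = n107382 := d4_3 F165428 (iv2 F165420) F163558
def n107383 : Q := act 5 n49601
theorem D107383 : act 5 n49601 = n107383 := rfl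
theorem F165430 : act 3 n107383 = n64272 := d6_1 D107383 (iv5 D64272) (iv3 F78344)
theorem F165431 : act 7 n107383 = n106399 := d13_2 (iv7 F78345) D107383 (iv5 D106399)
def n107384 : Q := act 6 n49601
theorem D107384 : act 6 n49601 = n107384 := rfl
theorem F165432 : act 3 n107384 = n64273 := d7_1 D107384 (iv6 D64273) (iv3 F78344)
theorem F165433 : act 4 n107384 = n49602 := d10_1 D107384 (iv6 D49602) D49601
def n107385 : Q := act 0 n49602
theorem D107385 : act 0 n49602 = n107385 := rfl
def n107386 : Q := act 1 n49602
theorem D107386 : act 1 n49602 = n107386 := rfl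
def n107387 : Q := act 7 n49602
theorem D107387 : act 7 n49602 = n107387 := rfl
theorem F165434 : act 3 n107387 = n49606 := d8_1 D107387 (iv7 D49606) (iv3 F78346)
theorem F165435 : act 6 n107387 = n106410 := d14_1 D107387 (iv7 D106410) F77635 F37905 D49602
def n107388 : Q := act 0 n49603
theorem D107388 : act 0 n49603 = n107388 := rfl
def n107389 : Q := act 1 n49603
theorem D107389 : act 1 n49603 = n107389 := rfl
def n107390 : Q := act 5 n49603
theorem D107390 : act 5 n49603 = n107390 := rfl
theorem F165436 : act 3 n107390 = n49609 := d6_1 D107390 (iv5 D49609) (iv3 F78347)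
theorem F165437 : act 6 n107390 = n106409 := d12_2 D49603 D107390 (iv5 D106409) F77635 (iv5 F37907)
def n107391 : Q := act 3 n49604
theorem D107391 : act 3 n49604 = n107391 := rfl
def n107392 : Q := act 5 n49604
theorem D107392 : act 5 n49604 = n107392 := rfl
def n107393 : Q := act 6 n49604
theorem D107393 : act 6 n49604 = n107393 := rfl
theorem F165438 : act 4 n107393 = n51253 := d10_1 D107393 (iv6 D51253) (iv4 F163993)
def n107394 : Q := act 5 n49605
theorem D107394 : act 5 n49605 = n107394 := rfl
def n107395 : Q := act 6 n49605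
theorem D107395 : act 6 n49605 = n107395 := rfl
theorem F165439 : act 4 n107395 = n51258 := d10_1 D107395 (iv6 D51258) (iv4 F163988)
theorem F165440 : act 0 n107270 = n107395 := d18_2 (iv1 D107273) (iv4 F165315) F165439 F80848 D58883 (iv0 F165137) (iv4 D107157) F161075 F165326
def n107396 : Q := act 3 n49607
theorem D107396 : act 3 n49607 = n107396 := rfl
theorem F165441 : act 4 n107396 = n53812 := d5_2 (iv4 F163980) D107396 (iv3 D53812) F94145 D28351
theorem F165442 : act 7 n107396 = n67363 := d8_2 F163989 D107396 (iv3 F163987)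
def n107397 : Q := act 5 n49607
theorem D107397 : act 5 n49607 = n107397 := rfl
theorem F165443 : act 2 n107397 = n107392 := d2_1 D107397 (iv5 D107392) F163992
theorem F165444 : act 7 n107397 = n107394 := d13_2 F163989 D107397 (iv5 D107394)
def n107398 : Q := act 6 n49607
theorem D107398 : act 6 n49607 = n107398 := rfl
theorem F165445 : act 2 n107398 = n107393 := d3_1 D107398 (iv6 D107393) F163992
theorem F165446 : act 4 n107398 = n59788 := d10_1 D107398 (iv6 D59788) (iv4 F163980)
def n107399 : Q := act 3 n49608
theorem D107399 : act 3 n49608 = n107399 := rfl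
theorem F165447 : act 7 n107399 = n107391 := d8_2 F163994 D107399 (iv3 D107391)
def n107400 : Q := act 5 n49608
theorem D107400 : act 5 n49608 = n107400 := rfl
theorem F165448 : act 2 n107400 = n107394 := d2_1 D107400 (iv5 D107394) F163986
theorem F165449 : act 7 n107400 = n107392 := d13_2 F163994 D107400 (iv5 D107392)
def n107401 : Q := act 6 n49608
theorem D107401 : act 6 n49608 = n107401 := rfl
theorem F165450 : act 2 n107401 = n107395 := d3_1 D107401 (iv6 D107395) F163986
theorem F165451 : act 4 n107401 = n68117 := d10_1 D107401 (iv6 D68117) (iv4 F163977)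
def n107402 : Q := act 0 n49609
theorem D107402 : act 0 n49609 = n107402 := rfl
theorem F165452 : act 1 n107040 = n107402 := d15_0 (iv0 D107402) (iv7 F164980) F164979
def n107403 : Q := act 1 n49609
theorem D107403 : act 1 n49609 = n107403 := rfl
theorem F165453 : act 1 n107403 = n107040 := d15_1 D107403 (iv7 D107040) (iv2 F78355)
def n107404 : Q := act 4 n49609
theorem D107404 : act 4 n49609 = n107404 := rfl
theorem F165454 : act 2 n107404 = n107037 := d1_1 D107404 F164976 (iv2 F78355)
theorem F165455 : act 6 n107404 = n58762 := d10_2 (iv6 F78356) D107404 F92869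
def n107407 : Q := act 3 n49610
theorem D107407 : act 3 n49610 = n107407 := rfl
theorem F165458 : act 7 n107407 = n49616 := d8_2 F78357 D107407 (iv3 D49616)
def n107408 : Q := act 4 n49610
theorem D107408 : act 4 n49610 = n107408 := rfl
theorem F165459 : act 2 n107408 = n49612 := d1_1 D107408 (iv4 D49612) D49610
theorem F165460 : act 7 n107408 = n49617 := d11_2 F78357 D107408 (iv4 D49617)
def n107409 : Q := act 5 n49610
theorem D107409 : act 5 n49610 = n107409 := rfl
theorem F165461 : act 2 n107409 = n49613 := d2_1 D107409 (iv5 D49613) D49610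
theorem F165462 : act 7 n107409 = n49618 := d13_2 F78357 D107409 (iv5 D49618)
def n107410 : Q := act 6 n49610
theorem D107410 : act 6 n49610 = n107410 := rfl
theorem F165463 : act 2 n107410 = n49614 := d3_1 D107410 (iv6 D49614) D49610
theorem F165464 : act 5 n106771 = n107410 := d2_0 F165463 F78359 (iv2 F164580)
theorem F165465 : act 7 n106770 = n107410 := d15_2 (iv0 F164917) (iv0 F165328) F165463
theorem F165466 : act 7 n49619 = n107273 := d14_4 F165465 (iv6 D107410) (iv7 F78357) D49619 (iv6 F165327)
theorem F165467 : act 7 n105169 = n50288 := d13_2 F165466 (iv5 F165326) (iv5 F79670)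
theorem F165468 : act 2 n49619 = n106451 := d15_3 (iv0 F163707) D107273 (iv7 F165466)
theorem F165469 : act 2 n105170 = n50288 := d2_3 (iv5 F79670) F165468 F163706
theorem E16431 : n106447 = n24197 := (c3_4 D49619 F165468 (iv6 D106451) (iv2 F163704))
theorem E16432 : n49615 = n49185 := (((iv2 F78363)).symm.trans (sb E16431 F163704))
theorem E16433 : n49610 = n49184 := ((F78357).symm.trans (sb E16431 (iv7 D106447)))
theorem F165470 : act 2 n49185 = n24197 := (sb E16432 F78363)
theorem E16436 : n106442 = n24196 := ((F163701).symm.trans (sb E16432 (iv7 D49615)))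
theorem E16437 : n107407 = n106443 := (((D106443).symm.trans (sb E16433 D107407))).symm
theorem E16438 : n107408 = n106444 := (((D106444).symm.trans (sb E16433 D107408))).symm
theorem E16439 : n107409 = n106445 := (((D106445).symm.trans (sb E16433 D107409))).symm
theorem E16440 : n107410 = n106446 := (((D106446).symm.trans (sb E16433 D107410))).symm
theorem F165471 : act 7 n49184 = n24197 := (sb E16433 (iv7 F78357))
theorem F165472 : act 2 n24196 = n49184 := (sb E16436 (iv2 D106442))
theorem F165473 : act 7 n24196 = n49185 := (sb E16436 (iv7 F163701))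
theorem F165474 : act 7 n106443 = n49616 := (sb E16437 F165458)
theorem F165475 : act 2 n106444 = n49612 := (sb E16438 F165459)
theorem F165476 : act 7 n106444 = n49617 := (sb E16438 F165460)
theorem F165477 : act 2 n106445 = n49613 := (sb E16439 F165461)
theorem F165478 : act 7 n106445 = n49618 := (sb E16439 F165462)
theorem F165479 : act 2 n106446 = n49614 := (sb E16440 F165463)
theorem E16441 : n106771 = n49359 := (((F163703).symm.trans (sb E16440 (iv5 F165464)))).symm
theorem F165480 : act 7 n106446 = n106770 := (sb E16440 (iv7 F165465))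
theorem E16442 : n106823 = n49337 := (((iv2 F164633)).symm.trans (sb E16441 F164580))
theorem E16443 : n106819 = n49336 := ((F164632).symm.trans (sb E16441 (iv7 D106771)))
theorem F165481 : act 2 n49337 = n49359 := (sb E16442 F164633)
theorem E16444 : n106767 = n49358 := ((F164578).symm.trans (sb E16442 (iv7 D106823)))
theorem F165482 : act 7 n49336 = n49359 := (sb E16443 (iv7 F164632))
theorem F165483 : act 2 n49358 = n49336 := (sb E16444 (iv2 D106767))
theorem F165484 : act 7 n49358 = n49337 := (sb E16444 (iv7 F164578))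
theorem F165485 : act 7 n106772 = n106820 := d8_2 F165484 D106772 (iv3 D106820)
theorem F165486 : act 7 n106773 = n106821 := d11_2 F165484 D106773 (iv4 D106821)
theorem F165487 : act 7 n49614 = n106822 := d13_2 F165484 (iv5 F78359) (iv5 D106822)
theorem F165488 : act 2 n106822 = n106770 := d4_1 F165487 (iv7 F165480) F165479
theorem F165489 : act 1 n106770 = n106420 := d15_0 (iv0 F164850) F165487 F165488
theorem E16445 : n107223 = n106446 := (c15_2 (iv0 F164880) D107223 F165480 (iv2 F165488))
theorem F165490 : act 0 n106446 = n49539 := (sb E16445 (iv1 D107223))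
theorem F165491 : act 2 n106769 = n106821 := d1_3 (iv4 D106821) F165483 D106769
theorem F165492 : act 2 n63801 = n52358 := d3_3 F82735 F165483 (iv6 F99167)
theorem E16446 : n52355 = n48655 := (c2_4 F99166 F165492 (iv5 D52358) (iv2 F82734))
theorem E16447 : n105224 = n25421 := (((iv2 F161158)).symm.trans (sb E16446 F82734))
theorem E16448 : n105220 = n25420 := ((F161156).symm.trans (sb E16446 (iv7 D52355)))
theorem F165493 : act 2 n25421 = n48655 := (sb E16447 F161158)
theorem E16449 : n52350 = n48654 := ((F82731).symm.trans (sb E16447 (iv7 D105224)))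
theorem F165494 : act 7 n25420 = n48655 := (sb E16448 (iv7 F161156))
theorem F165495 : act 2 n48654 = n25420 := (sb E16449 (iv2 D52350))
theorem F165496 : act 7 n48654 = n25421 := (sb E16449 (iv7 F82731))
theorem F165497 : act 7 n52353 = n63801 := d15_2 F99172 (iv0 F99173) F165492
theorem F165498 : act 7 n63800 = n52358 := d15_2 F164609 (iv0 F164610) (iv2 F165492)
theorem F165499 : act 2 n52353 = n63800 := d4_3 F165498 (iv2 F165492) (iv7 F165497)
theorem F165500 : act 7 n106825 = n107215 := d14_4 F165497 F99167 F165482 D106825 (iv6 F165232)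
theorem F165501 : act 2 n106825 = n107216 := d15_3 F165233 F165231 (iv7 F165500)
theorem E16450 : n107216 = n106774 := (c3_2 D106825 F165501 (iv6 D106774) F165481)
theorem F165502 : act 0 n106774 = n49533 := (sb E16450 (iv1 D107216))
theorem F165503 : act 1 n106774 = n49538 := (sb E16450 F165233)
theorem F165504 : act 2 n106774 = n106825 := (sb E16450 (iv2 F165501))
theorem F165505 : act 7 n52356 = n105221 := d8_2 F165496 D52356 (iv3 D105221)
theorem F165506 : act 7 n52357 = n105222 := d11_2 F165496 D52357 (iv4 D105222)
theorem F165507 : act 2 n52352 = n105222 := d1_3 (iv4 D105222) F165495 D52352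
theorem F165508 : act 2 n52354 = n105223 := d3_3 (iv6 D105223) F165495 D52354
theorem E16451 : n107068 = n51998 := (c2_4 (iv5 F82733) F165508 F161157 (iv2 F165044))
theorem F165509 : act 2 n51998 = n49459 := (sb E16451 F165044)
theorem F165510 : act 7 n51998 = n49458 := (sb E16451 (iv7 D107068))
theorem F165511 : act 7 n107067 = n52354 := d13_2 F165510 D107067 F82733
theorem E16452 : n107064 = n51997 := (c15_4 (iv0 D51997) D51998 F165510 D107064)
theorem F165512 : act 2 n51997 = n49458 := (sb E16452 (iv2 D107064))
theorem F165513 : act 7 n51997 = n49459 := (sb E16452 (iv7 F165041))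
theorem F165514 : act 2 n49618 = n106450 := d3_3 F163705 F165512 F78364
theorem F165515 : act 7 n106450 = n49613 := d4_2 F165478 F165514 (iv2 F165477)
theorem F165516 : act 7 n105225 = n52351 := d8_2 F165494 D105225 (iv3 D52351)
theorem F165517 : act 7 n105226 = n52352 := d11_2 F165494 D105226 (iv4 D52352)
theorem F165518 : act 2 n52357 = n105226 := d4_3 F165517 F165507 (iv7 F165506)
theorem F165519 : act 2 n105169 = n50287 := d3_3 F92951 F165493 (iv6 F161074)
theorem F165520 : act 7 n50287 = n105170 := d4_2 (iv7 F165467) F165519 F165469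
theorem F165521 : act 7 n106824 = n106768 := d8_2 F165482 D106824 (iv3 D106768)
theorem F165522 : act 7 n61916 = n106769 := d11_2 F165482 (iv4 F104284) (iv4 D106769)
theorem F165523 : act 2 n106773 = n61916 := d4_3 F165522 F165491 (iv7 F165486)
theorem E16453 : n106821 = n61915 := (c15_4 (iv0 D61915) D61916 F165522 F165491)
theorem F165524 : act 2 n61915 = n106769 := (sb E16453 (iv2 F165491))
theorem F165525 : act 4 n61915 = n49358 := (sb E16453 (iv4 D106821))
theorem F165526 : act 7 n61915 = n106773 := (sb E16453 (iv7 F165486))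
theorem E16454 : n106820 = n53119 := (c20_4 (iv4 F46996) D61915 F165525 D106820 F83852 F48013 (iv4 F46586) (iv1 F49206) (iv4 D29455) F100214 (iv1 D29336))
theorem F165527 : act 3 n53119 = n49358 := (sb E16454 (iv3 D106820))
theorem E16455 : n106772 = n29865 := (((F99268).symm.trans (sb E16454 (iv7 F165485)))).symm
theorem E16456 : n63171 = n49337 := ((D63171).symm.trans (sb E16455 (iv3 D106772)))
theorem F165528 : act 3 n49337 = n29865 := (sb E16456 (iv3 D63171))
theorem E16457 : n106773 = n106589 := ((D106773).symm.trans (sb E16456 (iv4 F164153)))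
theorem F165529 : act 2 n106589 = n61916 := (sb E16457 F165523)
theorem F165530 : act 4 n106589 = n49337 := (sb E16457 (iv4 D106773))
theorem F165531 : act 7 n106589 = n61915 := (sb E16457 (iv7 F165526))
theorem E16458 : n106769 = n106588 := (c15_4 (iv0 D106588) D106589 F165531 F165524)
theorem F165532 : act 2 n106588 = n61915 := (sb E16458 (iv2 F165524))
theorem F165533 : act 4 n106588 = n49336 := (sb E16458 (iv4 D106769))
theorem F165534 : act 7 n106588 = n61916 := (sb E16458 (iv7 F165522))
theorem E16459 : n106965 = n68125 := (c18_3 F39773 (iv4 F78151) D106965 F104285 F50025 (iv4 F96521) F164159 F165533 (iv0 D49336) (iv5 F39772))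
theorem F165535 : act 1 n68125 = n49417 := (sb E16459 (iv0 D106965))
theorem F165536 : act 3 n63173 = n49614 := d6_3 F78359 F165528 D63173
theorem F165537 : act 3 n63174 = n106774 := d7_3 (iv6 D106774) F165528 D63174
theorem E16460 : n49611 = n34104 := (c7_4 F98436 F165536 (iv6 D49614) D49611)
theorem E16461 : n74346 = n24196 := ((D74346).symm.trans (sb E16460 (iv3 D49611)))
theorem F165538 : act 3 n24196 = n34104 := (sb E16461 (iv3 D74346))
theorem E16462 : n51246 = n49612 := (((D49612).symm.trans (sb E16461 (iv4 F111546)))).symm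
theorem E16463 : n53365 = n49185 := (((F165473).symm.trans (sb E16461 F111545))).symm
theorem F165539 : act 0 n49612 = n51245 := (sb E16462 (iv1 F80839))
theorem F165540 : act 1 n49612 = n24923 := (sb E16462 (iv0 D51246))
theorem E16464 : n106444 = n51243 := (((iv2 F165475)).symm.trans (sb E16462 F111548))
theorem F165541 : act 7 n49612 = n51244 := (sb E16462 (iv7 F111547))
theorem E16465 : n106448 = n25859 := ((D106448).symm.trans (sb E16463 (iv3 D53365)))
theorem E16466 : n106449 = n51244 := ((D106449).symm.trans (sb E16463 (iv4 F100228)))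
theorem F165542 : act 2 n51243 = n49612 := (sb E16464 F165475)
theorem F165543 : act 4 n51243 = n49184 := (sb E16464 (iv4 D106444))
theorem E16467 : n51247 = n49617 := (((iv7 F111550)).symm.trans (sb E16464 F165476))
theorem F165544 : act 3 n25859 = n49185 := (sb E16465 (iv3 D106448))
theorem F165545 : act 4 n51244 = n49185 := (sb E16466 (iv4 D106449))
theorem F165546 : act 0 n49617 = n24923 := (sb E16467 (iv1 D51247))
theorem F165547 : act 1 n49617 = n51245 := (sb E16467 F80840)
theorem F165548 : act 2 n49617 = n51244 := (sb E16467 (iv2 F111549))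
theorem F165549 : act 7 n49617 = n51243 := (sb E16467 F111550)
theorem F165550 : act 2 n49616 = n74343 := d0_3 F165544 F165470 D49616 (iv3 D74343) F99275
theorem F165551 : act 3 n106450 = n53367 := d6_3 (iv5 D53367) F165544 D106450
theorem F165552 : act 3 n106451 = n51719 := d7_3 (iv6 F81657) F165544 D106451
theorem E16468 : n105170 = n51717 := ((c6_4 (iv5 F163706) F165552 (iv5 D51719) D51717)).symm
theorem F165553 : act 0 n51717 = n48631 := (sb E16468 (iv1 D105170))
theorem F165554 : act 1 n51717 = n49506 := (sb E16468 F161076)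
theorem F165555 : act 2 n51717 = n50288 := (sb E16468 F165469)
theorem F165556 : act 5 n51717 = n106451 := (sb E16468 (iv5 F163706))
theorem F165557 : act 7 n51717 = n50287 := (sb E16468 (iv7 F165520))
theorem F165558 : act 3 n50287 = n51694 := d8_1 F165557 F99278 D51717
theorem E16469 : n51786 = n25421 := (c7_4 (iv6 F92951) F165558 F81751 D51786)
theorem E16470 : n52356 = n25143 := ((D52356).symm.trans (sb E16469 (iv3 D51786)))
theorem E16471 : n52378 = n52357 := (((D52357).symm.trans (sb E16469 (iv4 F161194)))).symm
theorem E16472 : n63198 = n52358 := (((D52358).symm.trans (sb E16469 (iv5 F98454)))).symm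
theorem F165559 : act 3 n25143 = n25421 := (sb E16470 (iv3 D52356))
theorem E16473 : n105221 = n51765 := ((((iv7 F99262)).symm.trans (sb E16470 F165505))).symm
theorem F165560 : act 0 n52357 = n25428 := (sb E16471 (iv1 D52378))
theorem F165561 : act 1 n52357 = n105243 := (sb E16471 F161193)
theorem F165562 : act 3 n52358 = n29877 := (sb E16472 (iv3 D63198))
theorem E16474 : n63836 = n63800 := ((((iv7 F165498)).symm.trans (sb E16472 (iv7 F99281)))).symm
theorem F165563 : act 3 n51765 = n48654 := (sb E16473 (iv3 D105221))
theorem F165564 : act 3 n63800 = n30117 := (sb E16474 (iv3 D63836))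
theorem F165565 : act 4 n58873 = n50287 := d20_2 (iv4 F45263) D58873 F165558 (iv1 F81624) F39481 (iv4 F39495) (iv1 F39498) F46777 F100164 (iv1 D27994)
theorem F165566 : act 6 n52357 = n58873 := d10_0 F165565 F92951 D52357
theorem F165567 : act 2 n52351 = n51782 := d0_3 F165563 F165495 D52351 (iv3 D51782) (iv2 F99261)
theorem F165568 : act 3 n105223 = n65551 := d7_3 F101281 F165563 D105223
theorem E16475 : n105240 = n105222 := (c20_2 (iv4 F76549) D105240 (iv4 D105222) (iv3 F165563) F81745 F39559 (iv4 F39573) (iv1 F39576) F79847 D28056 (iv1 F100253))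
theorem F165569 : act 0 n105222 = n52380 := (sb E16475 (iv1 F161192))
theorem F165570 : act 1 n105222 = n48661 := (sb E16475 (iv0 D105240))
theorem E16476 : n105241 = n105226 := (c15_2 F165570 D105241 F165517 F165507)
theorem F165571 : act 0 n105226 = n48661 := (sb E16476 (iv1 D105241))
theorem F165572 : act 1 n105226 = n52380 := (sb E16476 F161187)
theorem E16477 : n106669 = n61866 := ((c18_7 (iv1 F76534) D105226 F165571 F76549 F37372 (iv4 F46962) D61866 (iv4 D106669) F77884 F77683)).symm
theorem F165573 : act 4 n61866 = n49284 := (sb E16477 (iv4 D106669))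
theorem E16478 : n106668 = n64089 := (c20_4 (iv4 F163820) (iv1 F163823) F165573 D106668 (iv1 D64089) F48590 (iv4 F95132) (iv1 F164341) (iv4 D60545) (iv3 F164079) (iv1 F77789))
theorem F165574 : act 3 n64089 = n49284 := (sb E16478 (iv3 D106668))
theorem E16479 : n106666 = n61865 := ((c18_7 D48654 D105222 F165569 F82744 (iv5 F77785) (iv4 F163820) F163824 (iv4 D106666) (iv0 D49283) F37628)).symm
theorem F165575 : act 4 n61865 = n49283 := (sb E16479 (iv4 D106666))
theorem E16480 : n106665 = n51585 := (c20_4 (iv4 F46962) D61865 F165575 D106665 (iv1 F83844) F46674 (iv4 F46691) (iv1 F79858) (iv4 D29403) F164056 (iv1 D29315))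
theorem F165576 : act 3 n51585 = n49283 := (sb E16480 (iv3 D106665))
theorem E16481 : n58801 = n51583 := (c6_3 D51585 F165576 F92959 (iv3 D51583))
theorem F165577 : act 0 n51583 = n27961 := (sb E16481 (iv1 D58801))
theorem F165578 : act 1 n51583 = n50191 := (sb E16481 F92958)
theorem F165579 : act 5 n51583 = n49283 := (sb E16481 (iv5 F92959))
theorem E16482 : n63726 = n62980 := ((c7_3 F81418 F165576 (iv6 F98279) (iv3 D63726))).symm
theorem F165580 : act 3 n62980 = n30075 := (sb E16482 (iv3 D63726))
theorem F165581 : act 4 n62980 = n60539 := (sb E16482 F164098)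
theorem E16483 : n50465 = n48642 := (((F98280).symm.trans (sb E16482 F99091))).symm
theorem F165582 : act 7 n62980 = n62520 := (sb E16482 (iv7 F99987))
theorem E16484 : n105197 = n24593 := ((D105197).symm.trans (sb E16483 (iv3 D50465)))
theorem E16485 : n105289 = n105198 := (((D105198).symm.trans (sb E16483 (iv4 F164097)))).symm
theorem F165583 : act 3 n24593 = n48642 := (sb E16484 (iv3 D105197))
theorem F165584 : act 0 n105198 = n48677 := (sb E16485 (iv1 D105289))
theorem F165585 : act 1 n105198 = n52433 := (sb E16485 F161409)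
theorem E16486 : n106667 = n61328 := (c8_3 (iv7 F99977) F165576 D106667 (iv3 D61328))
theorem F165586 : act 2 n61328 = n49284 := (sb E16486 F164351)
theorem F165587 : act 7 n61328 = n49283 := (sb E16486 (iv7 D106667))
theorem F165588 : act 7 n61865 = n106561 := d11_2 F165587 (iv4 F165575) F164104
theorem F165589 : act 2 n106561 = n61866 := d15_3 F163823 F163824 F165588
theorem F165590 : act 2 n61865 = n106560 := d15_3 (iv0 D106560) D106561 (iv7 F165588)
theorem F165591 : act 4 n106560 = n106664 := d1_2 (iv4 F165575) F165590 (iv2 D106664)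
theorem F165592 : act 7 n106560 = n61866 := d4_2 (iv7 F165588) F165590 (iv2 F165589)
theorem E16487 : n106832 = n61938 := ((c18_7 (iv1 F76504) D105198 F165584 F76588 F36945 (iv4 F46999) D61938 (iv4 D106832) F78046 F78013)).symm
theorem F165593 : act 4 n61938 = n49362 := (sb E16487 (iv4 D106832))
theorem F165594 : act 3 n105199 = n50467 := d7_3 (iv6 D50467) F165583 D105199
theorem F165595 : act 3 n105193 = n50419 := d8_3 F99970 F165583 F161123
theorem F165596 : act 2 n50462 = n105194 := d0_3 F165595 F99969 D50462 (iv3 D105194) D105193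
theorem F165597 : act 5 n62520 = n105193 := d6_0 F165595 F79778 D62520
theorem F165598 : act 4 n52430 = n105193 := d20_2 (iv4 F40235) D52430 F165595 (iv1 F79783) F38603 (iv4 F38609) (iv1 F79860) (iv4 D24794) D24793 (iv1 F164084)
theorem F165599 : act 2 n105195 = n52430 := d1_3 F165598 (iv2 D105193) D105195
theorem F165600 : act 7 n105198 = n52430 := d11_0 F165598 (iv7 F161123) D105198
theorem E16488 : n105288 = n105195 := ((c15_4 (iv0 D105288) (iv0 F165584) F165600 (iv2 F165599))).symm
theorem F165601 : act 0 n105195 = n52433 := (sb E16488 (iv1 F161414))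
theorem F165602 : act 1 n105195 = n48677 := (sb E16488 (iv0 D105288))
theorem F165603 : act 2 n105198 = n52431 := d15_3 F161415 F161416 (iv7 F165600)
theorem F165604 : act 4 n52431 = n105196 := d1_2 D105198 F165603 F161124
theorem F165605 : act 7 n52431 = n105195 := d4_2 (iv7 F165600) F165603 F165599
theorem F165606 : act 3 n105196 = n52228 := d20_3 (iv4 F161412) (iv1 F161415) F165604 (iv1 D52228) (iv3 F45204) (iv4 F92955) F164044 (iv4 D58828) F164095 (iv1 F76598)
theorem F165607 : act 7 n52228 = n105194 := d8_2 D105196 F165606 (iv3 D105194)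
theorem E16489 : n106828 = n61937 := ((c18_7 D48641 D105195 F165601 F82775 (iv5 F77839) (iv4 F164190) F164194 (iv4 D106828) (iv0 D49361) F37729)).symm
theorem F165608 : act 4 n61937 = n49361 := (sb E16489 (iv4 D106828))
theorem F165609 : act 4 n52259 = n58899 := d18_5 (iv1 D29343) (iv4 F46999) D61937 F165608 (iv5 F82633) (iv0 D58899) F45270 D28003 (iv5 F78376)
theorem F165610 : act 2 n62981 = n62520 := d2_3 F165597 (iv2 D105193) F98282
theorem F165611 : act 6 n60539 = n61865 := d10_2 (iv6 F98279) F165581 F165575
theorem E16490 : n65549 = n49459 := (c6_4 (iv5 F161157) F165568 (iv5 D65551) D65549)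
theorem E16491 : n107069 = n30723 := ((D107069).symm.trans (sb E16490 (iv3 D65549)))
theorem F165612 : act 3 n30723 = n49459 := (sb E16491 (iv3 D107069))
theorem F165613 : act 3 n107070 = n61441 := d7_3 F99246 F165612 D107070
theorem F165614 : act 3 n51997 = n53198 := d8_3 F99257 F165612 (iv7 F165513)
theorem F165615 : act 2 n65545 = n107065 := d0_3 F165614 (iv2 F99258) D65545 (iv3 D107065) (iv2 F165512)
theorem E16492 : n52377 = n52352 := (c15_2 F165561 F161195 (iv7 F165517) (iv2 F165518))
theorem F165616 : act 0 n52352 = n105243 := (sb E16492 (iv1 F161195))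
theorem F165617 : act 1 n52352 = n25428 := (sb E16492 (iv0 D52377))
theorem F165618 : act 4 n60617 = n52353 := d18_3 (iv1 D28783) (iv4 F46419) D60617 (iv5 D52353) D52352 F165617 F40206 D28101 F78434
theorem E16493 : n106664 = n49189 := (c18_8 D25420 D52352 F165616 F161190 F77460 (iv4 F96440) F163822 F165591 (iv0 D49189) F37523)
theorem E16494 : n106461 = n49283 := ((D106461).symm.trans (sb E16493 (iv2 D106664)))
theorem E16495 : n106560 = n106463 := (((D106463).symm.trans (sb E16493 (iv4 F165591)))).symm
theorem E16496 : n106464 = n49284 := ((D106464).symm.trans (sb E16493 (iv7 F164350)))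
theorem F165619 : act 2 n49283 = n49189 := (sb E16494 (iv2 D106461))
theorem E16497 : n61328 = n49190 := (((iv7 F165587)).symm.trans (sb E16494 (iv7 F163712)))
theorem F165620 : act 0 n106463 = n61868 := (sb E16495 (iv1 F163822))
theorem F165621 : act 1 n106463 = n49241 := (sb E16495 (iv0 D106560))
theorem F165622 : act 2 n106463 = n61865 := (sb E16495 (iv2 F165590))
theorem F165623 : act 7 n106463 = n61866 := (sb E16495 F165592)
theorem F165624 : act 7 n49284 = n49189 := (sb E16496 (iv7 D106464))
theorem F165625 : act 2 n49190 = n49284 := (sb E16497 F165586)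
theorem E16498 : n106465 = n29031 := ((D106465).symm.trans (sb E16497 (iv3 D61328)))
theorem E16499 : n106561 = n106466 := (((D106466).symm.trans (sb E16497 (iv4 F164104)))).symm
theorem F165626 : act 7 n49190 = n49283 := (sb E16497 F165587)
theorem F165627 : act 3 n29031 = n49190 := (sb E16498 (iv3 D106465))
theorem F165628 : act 0 n106466 = n49241 := (sb E16499 (iv1 D106561))
theorem F165629 : act 1 n106466 = n61868 := (sb E16499 F163817)
theorem F165630 : act 2 n106466 = n61866 := (sb E16499 F165589)
theorem F165631 : act 7 n106466 = n61865 := (sb E16499 (iv7 F165588))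
theorem F165632 : act 4 n58822 = n50189 := d18_3 (iv1 F164057) (iv4 F45223) D58822 F79540 D106466 F165629 F96440 F164050 F46481
theorem F165633 : act 6 n52287 = n58822 := d10_0 F165632 (iv6 F79541) D52287
theorem F165634 : act 3 n50189 = n51546 := d20_3 (iv4 F45223) D58822 F165632 F81328 F39316 (iv4 F39365) (iv1 F39368) (iv4 F79869) D25230 (iv1 F164057)
theorem E16500 : n105193 = n25396 := (c7_4 F79541 F165634 F81326 (iv3 F165595))
theorem E16501 : n52285 = n48641 := ((D52285).symm.trans (sb E16500 (iv2 D105193)))
theorem E16502 : n52286 = n50419 := ((D52286).symm.trans (sb E16500 F165595))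
theorem E16503 : n52430 = n52287 := (((D52287).symm.trans (sb E16500 (iv4 F165598)))).symm
theorem E16504 : n62520 = n52288 := (((D52288).symm.trans (sb E16500 (iv5 F165597)))).symm
theorem E16505 : n52289 = n48642 := ((D52289).symm.trans (sb E16500 (iv7 F161123)))
theorem F165635 : act 2 n48641 = n25396 := (sb E16501 (iv2 D52285))
theorem E16506 : n105196 = n25397 := ((D105196).symm.trans (sb E16501 (iv7 F82662)))
theorem F165636 : act 3 n50419 = n25396 := (sb E16502 (iv3 D52286))
theorem F165637 : act 0 n52287 = n105291 := (sb E16503 (iv1 F161416))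
theorem F165638 : act 1 n52287 = n25447 := (sb E16503 (iv0 D52430))
theorem F165639 : act 2 n52287 = n105195 := (sb E16503 (iv2 F165599))
theorem F165640 : act 7 n52287 = n105198 := (sb E16503 (iv7 F165600))
theorem F165641 : act 2 n52288 = n62981 := (sb E16504 (iv2 F165610))
theorem F165642 : act 3 n52288 = n29545 := (sb E16504 (iv3 D62520))
theorem F165643 : act 7 n52288 = n62980 := (sb E16504 (iv7 F165582))
theorem F165644 : act 7 n48642 = n25396 := (sb E16505 (iv7 D52289))
theorem F165645 : act 2 n25397 = n48642 := (sb E16506 F161124)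
theorem E16507 : n52290 = n52228 := ((D52290).symm.trans (sb E16506 F165606))
theorem E16508 : n52431 = n52291 := (((D52291).symm.trans (sb E16506 (iv4 F165604)))).symm
theorem F165646 : act 7 n25397 = n48641 := (sb E16506 (iv7 D105196))
theorem F165647 : act 3 n52228 = n25397 := (sb E16507 (iv3 D52290))
theorem F165648 : act 0 n52291 = n25447 := (sb E16508 (iv1 D52431))
theorem F165649 : act 1 n52291 = n105291 := (sb E16508 F161415)
theorem F165650 : act 2 n52291 = n105198 := (sb E16508 (iv2 F165603))
theorem F165651 : act 7 n52291 = n105195 := (sb E16508 F165605)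
theorem F165652 : act 7 n51583 = n50189 := d8_0 F165634 F99975 D51583
theorem F165653 : act 2 n50189 = n58800 := d15_3 (iv0 D58800) (iv0 F165577) F165652
theorem F165654 : act 2 n51583 = n50190 := d15_3 F92964 F92965 (iv7 F165652)
theorem F165655 : act 7 n50190 = n58800 := d4_2 (iv7 F165652) F165654 (iv2 F165653)
theorem E16509 : n106781 = n106604 := ((c18_7 (iv1 F76508) D52291 F165648 F40235 (iv5 F37596) (iv4 F77836) D106604 (iv4 D106781) F78051 F78048)).symm
theorem F165656 : act 4 n106604 = n49340 := (sb E16509 (iv4 D106781))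
theorem F165657 : act 3 n52292 = n63687 := d6_3 F99026 F165647 D52292
theorem F165658 : act 2 n62980 = n52292 := d0_5 F165657 (iv2 F164138) (iv3 D62517) F99972 (iv3 F165580)
theorem F165659 : act 6 n63687 = n106462 := d7_2 F82666 F165657 (iv3 D106462)
theorem F165660 : act 2 n106462 = n61325 := d3_1 F165659 (iv6 F97484) F164138
theorem F165661 : act 5 n106462 = n105183 := d21_6 (iv5 D6791) D6789 D14262 D30057 D63687 F165659 (iv1 D105183) F76496 (iv6 D30062) (iv1 D14267)
theorem F165662 : act 0 n50321 = n106462 := d21_4 (iv5 D12231) D12229 D25761 (iv6 F79706) (iv6 F165659) F99026 (iv1 D52228) D52229 F82586 F40116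
theorem F165663 : act 3 n105183 = n50190 := d6_1 F165661 (iv5 F79542) D106462
theorem F165664 : act 7 n52292 = n62981 := d4_2 F165643 F165658 (iv2 F165641)
theorem F165665 : act 2 n105199 = n52293 := d3_3 (iv6 D52293) F165645 D105199
theorem E16510 : n106777 = n106603 := ((c18_7 D25396 D52287 F165637 F161412 F76594 (iv4 F96536) F164192 (iv4 D106777) (iv0 D49339) F37705)).symm
theorem F165666 : act 4 n106603 = n49339 := (sb E16510 (iv4 D106777))
theorem F165667 : act 3 n106467 = n61330 := d7_3 (iv6 D61330) F165627 D106467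
theorem F165668 : act 2 n106670 = n106467 := d3_3 (iv6 D106467) F165625 D106670
theorem F165669 : act 7 n106462 = n64089 := d8_2 F165624 D106462 F165574
theorem E16511 : n64088 = n61325 := ((c15_4 (iv0 D64088) D64089 (iv7 F165669) F165660)).symm
theorem F165670 : act 1 n61325 = n30206 := (sb E16511 (iv0 D64088))
theorem F165671 : act 3 n74348 = n49613 := d8_3 (iv7 F165515) F165551 (iv7 F111555)
theorem F165672 : act 2 n53360 = n106443 := d4_3 F165474 F165550 F111538
theorem F165673 : act 2 n106768 = n63167 := d0_3 F165527 F165483 D106768 (iv3 D63167) (iv2 F99267)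
def n107411 : Q := act 3 n49612
theorem D107411 : act 3 n49612 = n107411 := rfl
def n107412 : Q := act 5 n49612
theorem D107412 : act 5 n49612 = n107412 := rfl
def n107413 : Q := act 6 n49612
theorem D107413 : act 6 n49612 = n107413 := rfl
theorem F165674 : act 4 n107413 = n49614 := d10_1 D107413 (iv6 D49614) D49612
def n107414 : Q := act 0 n49613
theorem D107414 : act 0 n49613 = n107414 := rfl
theorem F165675 : act 5 n107414 = n59133 := d21_2 D49613 D107414 (iv6 D59133) (iv1 D28087) (iv6 D13394) (iv5 D6355) (iv1 F7707) (iv5 F7801) D11365 D24196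
theorem F165676 : act 2 n106954 = n107414 := d15_3 (iv0 D107414) (iv0 F78358) (iv7 F164846)
theorem F165677 : act 1 n49618 = n107414 := d15_0 (iv0 D107414) (iv7 F165515) (iv2 F165514)
theorem F165678 : act 7 n107414 = n59133 := d15_2 (iv0 F164848) F165677 F111377
theorem F165679 : act 6 n106403 = n107414 := d21_9 (iv5 D49618) (iv1 D24197) F18550 (iv6 D11365) (iv1 F18296) D23997 (iv5 F39958) D52112 F163569 (iv1 F165677)
def n107415 : Q := act 4 n49613
theorem D107415 : act 4 n49613 = n107415 := rfl
theorem F165680 : act 1 n107415 = n107096 := d18_6 (iv1 D24925) (iv4 F39070) (iv1 F165540) (iv4 D49612) D49613 D107415 F165070 F100275 (iv5 D51257)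
def n107416 : Q := act 6 n49613
theorem D107416 : act 6 n49613 = n107416 := rfl
theorem F165681 : act 2 n107416 = n106939 := d3_1 D107416 F164819 F165477
theorem F165682 : act 3 n107416 = n63818 := d7_1 D107416 (iv6 F111554) F165671
theorem F165683 : act 5 n107416 = n106774 := d12_1 D107416 (iv6 D106774) (iv5 F78359) (iv6 D49614) D49613
theorem F165684 : act 7 n107416 = n107070 := d14_2 F165515 D107416 (iv6 D107070) (iv7 F165513) (iv6 F163705)
theorem F165685 : act 0 n107416 = n52010 := d21_4 F18550 D24196 D49613 D107416 (iv6 D52010) D52009 F82159 (iv5 F79670) (iv6 D49619) (iv1 D24197)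
theorem F165686 : act 0 n60561 = n107416 := d21_4 (iv5 F24000) F24001 D28761 (iv6 F95178) (iv6 D107416) (iv5 D49613) (iv1 F77645) F77642 (iv6 D49168) (iv1 F37493)
theorem E16512 : n107070 = n106940 := ((c15_2 (iv0 D106939) D106940 (iv7 F165684) F165681)).symm
theorem F165687 : act 3 n106940 = n61441 := (sb E16512 F165613)
theorem F165688 : act 6 n106940 = n49459 := (sb E16512 (iv6 D107070))
theorem F165689 : act 7 n106940 = n107416 := (sb E16512 (iv7 F165684))
def n107417 : Q := act 0 n49616
theorem D107417 : act 0 n49616 = n107417 := rfl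
theorem F165690 : act 1 n53360 = n107417 := d15_0 (iv0 D107417) (iv7 F165474) (iv2 F165672)
def n107418 : Q := act 1 n49616
theorem D107418 : act 1 n49616 = n107418 := rfl
theorem F165691 : act 1 n107418 = n53360 := d15_1 D107418 (iv7 F111538) (iv2 F165550)
def n107419 : Q := act 4 n49616
theorem D107419 : act 4 n49616 = n107419 := rfl
theorem F165692 : act 2 n107419 = n105649 := d1_1 D107419 (iv4 F162243) (iv2 F165550)
theorem F165693 : act 7 n107419 = n105648 := d11_2 F165474 D107419 F163991
theorem F165694 : act 0 n49954 = n107419 := d20_7 (iv4 F37910) D49607 F163980 (iv3 D28351) (iv1 F22667) (iv3 F38174) (iv4 F79005) (iv4 D107419) (iv3 D49616) (iv1 D24197)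
theorem F165695 : act 1 n105519 = n107419 := d15_0 (iv0 F165694) F79006 (iv2 F162005)
def n107420 : Q := act 5 n49616
theorem D107420 : act 5 n49616 = n107420 := rfl
theorem F165697 : act 3 n107420 = n49618 := d6_1 D107420 (iv5 D49618) D49616
theorem F165698 : act 6 n107065 = n107420 := d7_0 F165697 (iv6 F78364) D107065
def n107421 : Q := act 6 n49616
theorem D107421 : act 6 n49616 = n107421 := rfl
theorem F165699 : act 3 n107421 = n49619 := d7_1 D107421 (iv6 D49619) D49616
def n107422 : Q := act 3 n49617
theorem D107422 : act 3 n49617 = n107422 := rfl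
def n107423 : Q := act 5 n49617
theorem D107423 : act 5 n49617 = n107423 := rfl
def n107424 : Q := act 6 n49617
theorem D107424 : act 6 n49617 = n107424 := rfl
theorem F165700 : act 4 n107424 = n49619 := d10_1 D107424 (iv6 D49619) D49617
def n107425 : Q := act 4 n49618
theorem D107425 : act 4 n49618 = n107425 := rfl
theorem F165701 : act 6 n107425 = n107066 := d10_2 F78364 D107425 (iv4 D107066)
def n107426 : Q := act 0 n49620
theorem D107426 : act 0 n49620 = n107426 := rfl
theorem F165702 : act 1 n68120 = n107426 := d15_0 (iv0 D107426) F78366 D68120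
def n107427 : Q := act 1 n49620
theorem D107427 : act 1 n49620 = n107427 := rfl
def n107428 : Q := act 2 n49620
theorem D107428 : act 2 n49620 = n107428 := rfl
theorem F165703 : act 3 n107428 = n68131 := d0_2 D49620 D107428 (iv2 D68131) (iv3 D31720) (iv2 F37911)
theorem F165704 : act 5 n107428 = n68131 := d2_2 (iv5 F78365) D107428 (iv2 D68131)
theorem F165705 : act 7 n107428 = n68120 := d4_2 (iv7 F78366) D107428 (iv2 D68120)
theorem F165706 : act 1 n107428 = n68118 := d15_0 (iv0 D68118) (iv7 F78366) D107428
theorem F165707 : act 1 n107427 = n68120 := d15_1 D107427 (iv7 F165705) (iv2 D107428)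
theorem F165708 : act 1 n68119 = n107428 := d15_1 D68119 F165705 (iv2 D68120)
def n107429 : Q := act 6 n49620
theorem D107429 : act 6 n49620 = n107429 := rfl
theorem F165709 : act 3 n107429 = n49621 := d7_1 D107429 (iv6 D49621) D49620
def n107430 : Q := act 0 n49621
theorem D107430 : act 0 n49621 = n107430 := rfl
theorem F165710 : act 4 n107430 = n51997 := d20_2 (iv4 F78368) D107430 F165614 F84033 F49191 (iv4 F49198) (iv1 F79943) F79944 (iv3 F100157) (iv1 D49623)
theorem F165711 : act 2 n107066 = n107430 := d1_3 F165710 F165512 D107066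
theorem F165712 : act 7 n68134 = n107430 := d11_0 F165710 F165513 (iv4 F104292)
theorem F165713 : act 1 n68136 = n107430 := d18_6 D48646 (iv4 F94225) (iv1 F94229) F82852 (iv5 F50031) (iv4 F104293) F165710 (iv0 D51997) F39775
theorem E16513 : n107066 = n68133 := (c15_4 (iv0 D68133) D68134 F165712 (iv2 F165711))
theorem F165714 : act 2 n68133 = n107430 := (sb E16513 F165711)
theorem F165715 : act 4 n68133 = n49458 := (sb E16513 (iv4 D107066))
theorem F165716 : act 6 n68133 = n107425 := (sb E16513 (iv6 F165701))
def n107431 : Q := act 1 n49621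
theorem D107431 : act 1 n49621 = n107431 := rfl
theorem F165717 : act 1 n107431 = n68136 := d15_1 D107431 (iv7 D68136) (iv2 F78367)
theorem F165718 : act 7 n107431 = n68133 := d15_2 (iv0 D107430) D107431 F165714
theorem F165719 : act 4 n107431 = n51998 := d18_7 (iv1 F76513) (iv4 F92989) F92990 F45881 (iv5 F37917) (iv4 F78368) D107431 F82125 F78210
theorem F165720 : act 2 n68134 = n107431 := d1_3 F165719 F165509 (iv4 F104292)
def n107432 : Q := act 5 n49621
theorem D107432 : act 5 n49621 = n107432 := rfl
theorem F165721 : act 2 n107432 = n68135 := d2_1 D107432 (iv5 D68135) (iv2 F78367)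
theorem F165722 : act 6 n107432 = n68135 := d12_2 D49621 D107432 (iv5 D68135) (iv6 D31721) (iv5 F37913)
def n107433 : Q := act 7 n49621
theorem D107433 : act 7 n49621 = n107433 := rfl
theorem F165723 : act 2 n107433 = n68136 := d4_1 D107433 (iv7 D68136) (iv2 F78367)
theorem F165724 : act 4 n107433 = n49624 := d11_1 D107433 (iv7 D49624) (iv4 F78368)
theorem F165725 : act 6 n107433 = n68125 := d14_1 D107433 (iv7 D68125) (iv6 D31717) (iv7 F37912) D49621
theorem F165726 : act 1 n68134 = n107433 := d15_1 D68134 (iv7 D107433) F78367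
theorem F165727 : act 1 n107433 = n68133 := d15_1 F165726 (iv7 F165718) (iv2 F165720)
theorem F165728 : act 0 n65916 = n67640 := d20_4 (iv4 F165715) (iv1 F165727) F165724 (iv3 F101613) (iv3 D67640) D67641 F103661 F100087 F48693 D49458
theorem F165729 : act 1 n51100 = n67640 := d15_0 (iv0 F165728) (iv7 D65916) (iv2 F80614)
def n107434 : Q := act 3 n49622
theorem D107434 : act 3 n49622 = n107434 := rfl
theorem F165730 : act 2 n107434 = n52082 := d0_1 D107434 (iv3 D52082) F45454 D31425 F100153
theorem F165733 : act 1 n107434 = n67665 := d15_0 (iv0 D67665) (iv7 F82315) (iv2 F165730)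
def n107435 : Q := act 5 n49622
theorem D107435 : act 5 n49622 = n107435 := rfl
theorem F165734 : act 2 n107435 = n58884 := d2_1 D107435 F100156 F100153
theorem F165735 : act 6 n107435 = n58779 := d12_2 F104270 D107435 (iv5 F104274) (iv6 D68117) D68116
theorem F165736 : act 7 n107435 = n68138 := d13_2 (iv7 F93348) D107435 (iv5 D68138)
theorem F165737 : act 0 n58967 = n107435 := d21_10 (iv5 D107435) (iv1 F78373) F50031 (iv6 F76595) F164085 D50985 (iv5 F82112) F164063 (iv5 D58966) D58967
def n107436 : Q := act 1 n49625
theorem D107436 : act 1 n49625 = n107436 := rfl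
theorem F165738 : act 7 n107436 = n58737 := d15_2 (iv0 F98666) D107436 (iv2 F98664)
theorem F165739 : act 3 n67672 = n107436 := d8_3 F165738 F92807 (iv7 F103693)
theorem F165740 : act 4 n107436 = n64331 := d20_6 (iv4 F26155) (iv1 F49763) F49760 (iv3 F49733) (iv1 F103692) F165739 (iv1 D64331) F48732 F24025 F11931
def n107437 : Q := act 7 n49625
theorem D107437 : act 7 n49625 = n107437 := rfl
theorem F165741 : act 3 n107437 = n49629 := d8_1 D107437 (iv7 D49629) (iv3 F78380)
theorem F165742 : act 5 n107437 = n106581 := d13_1 D107437 (iv7 D106581) (iv5 F78381)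
theorem F165743 : act 6 n107437 = n68128 := d14_1 D107437 (iv7 D68128) (iv6 D31719) (iv7 F37918) D49625
theorem F165744 : act 0 n58737 = n107437 := d21_4 (iv5 D29362) F23251 D27926 D58737 F165743 F104288 (iv1 F93032) F93030 (iv6 D58738) (iv1 F47023)
def n107438 : Q := act 0 n49626
theorem D107438 : act 0 n49626 = n107438 := rfl
theorem F165745 : act 1 n68131 = n107438 := d15_0 (iv0 D107438) F78383 D68131
def n107439 : Q := act 1 n49626
theorem D107439 : act 1 n49626 = n107439 := rfl
def n107440 : Q := act 2 n49626
theorem D107440 : act 2 n49626 = n107440 := rfl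
theorem F165746 : act 3 n107440 = n68120 := d0_2 D49626 D107440 (iv2 D68120) (iv3 D31716) (iv2 F37919)
theorem F165747 : act 5 n107440 = n68120 := d2_2 (iv5 F78382) D107440 (iv2 D68120)
theorem F165748 : act 7 n107440 = n68131 := d4_2 (iv7 F78383) D107440 (iv2 D68131)
theorem F165749 : act 1 n107440 = n68129 := d15_0 (iv0 D68129) (iv7 F78383) D107440
theorem F165750 : act 1 n107439 = n68131 := d15_1 D107439 (iv7 F165748) (iv2 D107440)
def n107441 : Q := act 6 n49626
theorem D107441 : act 6 n49626 = n107441 := rfl
theorem F165752 : act 3 n107441 = n49627 := d7_1 D107441 (iv6 D49627) D49626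
def n107442 : Q := act 1 n49627
theorem D107442 : act 1 n49627 = n107442 := rfl
theorem F165753 : act 1 n107442 = n68125 := d15_1 D107442 (iv7 D68125) (iv2 F78384)
theorem F165754 : act 7 n107442 = n68122 := d15_2 (iv0 F78386) D107442 (iv2 F104281)
theorem F165755 : act 4 n107442 = n51995 := d18_7 (iv1 F78044) (iv4 F165530) (iv1 D106589) F77820 (iv5 F37925) (iv4 F78385) D107442 F82114 F78361
theorem F165756 : act 2 n68123 = n107442 := d1_3 F165755 (iv2 F82116) F104283
theorem F165757 : act 6 n106952 = n107442 := d10_0 F165755 (iv6 F82118) (iv4 F164841)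
def n107443 : Q := act 5 n49627
theorem D107443 : act 5 n49627 = n107443 := rfl
theorem F165758 : act 2 n107443 = n68124 := d2_1 D107443 (iv5 D68124) (iv2 F78384)
theorem F165759 : act 6 n107443 = n68124 := d12_2 D49627 D107443 (iv5 D68124) (iv6 D31717) (iv5 F37920)
def n107444 : Q := act 7 n49627
theorem D107444 : act 7 n49627 = n107444 := rfl
theorem F165760 : act 2 n107444 = n68125 := d4_1 D107444 (iv7 D68125) (iv2 F78384)
theorem F165761 : act 4 n107444 = n49629 := d11_1 D107444 (iv7 D49629) (iv4 F78385)
theorem F165762 : act 6 n107444 = n68136 := d14_1 D107444 (iv7 D68136) (iv6 D31721) (iv7 F37921) D49627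
theorem F165763 : act 1 n68123 = n107444 := d15_1 D68123 (iv7 D107444) F78384
theorem F165764 : act 1 n107444 = n68122 := d15_1 F165763 (iv7 F165754) (iv2 F165756)
def n107445 : Q := act 2 n49630
theorem D107445 : act 2 n49630 = n107445 := rfl
theorem F165765 : act 7 n49631 = n107445 := d15_2 (iv0 D49630) D49631 (iv2 D107445)
def n107446 : Q := act 3 n49630
theorem D107446 : act 3 n49630 = n107446 := rfl
theorem F165766 : act 4 n107446 = n53237 := d20_6 (iv4 D24201) (iv1 D11367) D11368 D24203 D49630 D107446 (iv1 D53237) F40799 (iv3 D25240) (iv1 F37923)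
def n107447 : Q := act 4 n49630
theorem D107447 : act 4 n49630 = n107447 := rfl
def n107448 : Q := act 5 n49630
theorem D107448 : act 5 n49630 = n107448 := rfl
def n107449 : Q := act 6 n49630
theorem D107449 : act 6 n49630 = n107449 := rfl
def n107450 : Q := act 7 n49630
theorem D107450 : act 7 n49630 = n107450 := rfl
theorem F165767 : act 2 n107450 = n49631 := d4_1 D107450 F165765 (iv2 D107445)
def n107451 : Q := act 3 n49631
theorem D107451 : act 3 n49631 = n107451 := rfl
def n107452 : Q := act 5 n49631
theorem D107452 : act 5 n49631 = n107452 := rfl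
def n107453 : Q := act 6 n49631
theorem D107453 : act 6 n49631 = n107453 := rfl
def n107454 : Q := act 6 n49632
theorem D107454 : act 6 n49632 = n107454 := rfl
theorem F165768 : act 2 n107454 = n49633 := d3_1 D107454 (iv6 D49633) D49632
def n107455 : Q := act 0 n49633
theorem D107455 : act 0 n49633 = n107455 := rfl
def n107456 : Q := act 1 n49633
theorem D107456 : act 1 n49633 = n107456 := rfl
def n107457 : Q := act 5 n49633
theorem D107457 : act 5 n49633 = n107457 := rfl
theorem F165770 : act 3 n107457 = n49636 := d6_1 D107457 (iv5 D49636) (iv3 F78403)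
theorem F165771 : act 6 n107457 = n107311 := d12_2 D49633 D107457 (iv5 D107311) (iv6 D49580) (iv5 F37927)
def n107458 : Q := act 7 n49633
theorem D107458 : act 7 n49633 = n107458 := rfl
theorem F165774 : act 6 n107458 = n68165 := d14_1 D107458 (iv7 D68165) (iv6 D31732) (iv7 F37928) D49633
def n107459 : Q := act 0 n49636
theorem D107459 : act 0 n49636 = n107459 := rfl
theorem F165775 : act 5 n107459 = n67610 := d17_3 F111260 D49636 D107459 F164914 F111166 (iv0 D49481) (iv5 D24148) D24147 D49478
def n107460 : Q := act 1 n49636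
theorem D107460 : act 1 n49636 = n107460 := rfl
theorem F165776 : act 5 n107460 = n67611 := d17_7 (iv1 F92833) F82353 (iv1 D49646) (iv5 D24207) (iv4 F37929) D49636 D107460 F164956 F164955
def n107461 : Q := act 4 n49636
theorem D107461 : act 4 n49636 = n107461 := rfl
theorem F165777 : act 6 n107461 = n107315 := d10_2 (iv6 F78405) D107461 (iv4 D107315)
def n107462 : Q := act 7 n49636
theorem D107462 : act 7 n49636 = n107462 := rfl
theorem F165778 : act 5 n107462 = n49637 := d13_1 D107462 (iv7 D49637) D49636
def n107463 : Q := act 3 n49640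
theorem D107463 : act 3 n49640 = n107463 := rfl
theorem F165779 : act 7 n107463 = n107094 := d8_2 F111249 D107463 (iv3 D107094)
def n107464 : Q := act 5 n49640
theorem D107464 : act 5 n49640 = n107464 := rfl
theorem F165780 : act 2 n107464 = n107093 := d2_1 D107464 (iv5 D107093) F111250
theorem F165781 : act 7 n107464 = n107095 := d13_2 F111249 D107464 (iv5 D107095)
def n107465 : Q := act 6 n49642
theorem D107465 : act 6 n49642 = n107465 := rfl
theorem F165782 : act 3 n107465 = n49644 := d7_1 D107465 (iv6 D49644) D49642
def n107466 : Q := act 3 n49643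
theorem D107466 : act 3 n49643 = n107466 := rfl
theorem F165783 : act 7 n107466 = n107092 := d8_2 F111252 D107466 (iv3 D107092)
def n107467 : Q := act 5 n49643
theorem D107467 : act 5 n49643 = n107467 := rfl
theorem F165784 : act 2 n107467 = n107095 := d2_1 D107467 (iv5 D107095) F111247
theorem F165785 : act 7 n107467 = n107093 := d13_2 F111252 D107467 (iv5 D107093)
def n107468 : Q := act 6 n49643
theorem D107468 : act 6 n49643 = n107468 := rfl
theorem F165786 : act 2 n107468 = n107096 := d3_1 D107468 (iv6 D107096) F111247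
theorem F165787 : act 4 n107468 = n49644 := d10_1 D107468 (iv6 D49644) D49643
def n107469 : Q := act 3 n49645
theorem D107469 : act 3 n49645 = n107469 := rfl
theorem F165788 : act 5 n107469 = n67604 := d6_2 F80744 D107469 (iv3 D67604)
def n107470 : Q := act 4 n49645
theorem D107470 : act 4 n49645 = n107470 := rfl
theorem F165789 : act 7 n107470 = n107111 := d11_2 (iv7 F103541) D107470 F165085
theorem F165790 : act 0 n107470 = n107114 := d18_2 D49645 D107470 F165093 F78227 (iv4 F78219) (iv0 F111358) (iv4 D49640) (iv0 D24205) D24207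
theorem F165791 : act 2 n107470 = n107110 := d15_3 (iv0 D107110) D107111 (iv7 F165789)
theorem F165792 : act 4 n107110 = n51180 := d1_2 D107470 F165791 F103545
def n107471 : Q := act 6 n49645
theorem D107471 : act 6 n49645 = n107471 := rfl
theorem F165793 : act 5 n107471 = n61849 := d12_1 D107471 (iv6 F103528) (iv5 F103525) (iv6 D67606) F80744
theorem F165794 : act 0 n107471 = n67464 := d21_4 D14798 D31400 F80744 D107471 (iv6 D67464) D67463 F103483 (iv5 D67602) (iv6 D31399) (iv1 D14797)
def n107472 : Q := act 3 n49646
theorem D107472 : act 3 n49646 = n107472 := rfl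
theorem F165795 : act 5 n107472 = n67608 := d6_2 F82353 D107472 (iv3 D67608)
theorem F165796 : act 6 n107472 = n59511 := d7_2 F82355 D107472 (iv3 F165195)
theorem F165797 : act 4 n107472 = n74283 := d20_6 (iv4 F164914) (iv1 F164957) F164955 F92830 (iv1 F80742) D107472 (iv1 D74283) F53496 (iv3 F53492) D74273
theorem F165798 : act 6 n74283 = n53266 := d10_2 (iv6 F165796) F165797 F165193
theorem F165799 : act 0 n67608 = n63371 := d21_7 F79547 (iv1 F39928) F38840 D28260 D59511 (iv6 F165796) F165795 F98679 (iv6 D52223) F79551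
theorem F165800 : act 0 n107472 = n59448 := d21_7 F45698 F39877 F39871 D48811 (iv1 F103594) (iv6 F103617) (iv5 F165795) (iv5 D59448) (iv6 D28231) D28229
def n107473 : Q := act 4 n49646
theorem D107473 : act 4 n49646 = n107473 := rfl
theorem F165801 : act 2 n107473 = n107111 := d1_1 D107473 F165085 (iv2 F103546)
theorem F165802 : act 7 n107473 = n107110 := d11_2 (iv7 F103544) D107473 F165792
theorem F165803 : act 0 n107473 = n52100 := d18_2 (iv1 F80742) D107473 F82363 F40057 (iv4 F45370) (iv0 F111356) (iv4 D49643) F39048 (iv5 F80740)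
theorem F165804 : act 0 n107114 = n107473 := d20_7 (iv4 F111029) (iv1 F111488) (iv4 D64413) (iv3 F102073) F84068 (iv3 F78226) (iv4 F165093) (iv4 D107473) D107472 F165800
theorem F165805 : act 0 n51276 = n74525 := d20_7 (iv4 F165093) F165804 (iv4 D107473) D107472 F165800 F93837 (iv4 F80882) (iv4 D74525) (iv3 F111460) (iv1 F82512)
theorem F165806 : act 1 n107470 = n52100 := d15_0 (iv0 F165803) F165802 (iv2 F165791)
theorem E16514 : n106993 = n67605 := (c18_3 (iv1 D49432) (iv4 F78160) D106993 (iv4 D67605) F80744 D107470 F165806 F82363 D52186 (iv5 F93060))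
theorem F165807 : act 1 n67605 = n49430 := (sb E16514 (iv0 D106993))
def n107474 : Q := act 5 n49647
theorem D107474 : act 5 n49647 = n107474 := rfl
def n107475 : Q := act 7 n49647
theorem D107475 : act 7 n49647 = n107475 := rfl
theorem F165808 : act 4 n107475 = n49648 := d11_1 D107475 (iv7 D49648) D49647
def n107476 : Q := act 6 n49650
theorem D107476 : act 6 n49650 = n107476 := rfl
theorem F165809 : act 4 n107476 = n52120 := d10_1 D107476 (iv6 D52120) (iv4 F78417)
def n107477 : Q := act 3 n49651
theorem D107477 : act 3 n49651 = n107477 := rfl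
theorem F165810 : act 5 n107477 = n52091 := d6_2 (iv5 F78418) D107477 (iv3 D52091)
def n107478 : Q := act 6 n49651
theorem D107478 : act 6 n49651 = n107478 := rfl
theorem F165811 : act 4 n107478 = n49652 := d10_1 D107478 (iv6 D49652) D49651
def n107479 : Q := act 0 n49652
theorem D107479 : act 0 n49652 = n107479 := rfl
def n107480 : Q := act 1 n49652
theorem D107480 : act 1 n49652 = n107480 := rfl
theorem F165812 : act 5 n106759 = n107480 := d21_6 (iv5 D24066) (iv1 D11298) D11300 D24076 D49331 D106759 (iv1 D107480) (iv5 F163715) (iv6 D106468) F77687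
def n107481 : Q := act 7 n49652
theorem D107481 : act 7 n49652 = n107481 := rfl
def n107482 : Q := act 0 n49653
theorem D107482 : act 0 n49653 = n107482 := rfl
theorem F165813 : act 1 n67471 = n107482 := d15_0 (iv0 D107482) F78420 D67471
def n107483 : Q := act 1 n49653
theorem D107483 : act 1 n49653 = n107483 := rfl
theorem F165814 : act 4 n107078 = n107483 := d20_6 (iv4 D24142) (iv1 D11338) D11339 D24144 D49464 D107078 (iv1 D107483) F78419 (iv3 D24217) (iv1 F37848)
theorem F165815 : act 0 n67471 = n107483 := d20_7 (iv4 F84086) F164990 (iv4 F164989) (iv3 D68153) (iv1 F78400) (iv3 F80714) (iv4 F103324) (iv4 F165814) (iv3 D107078) (iv1 F82135)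
def n107484 : Q := act 2 n49653
theorem D107484 : act 2 n49653 = n107484 := rfl
theorem F165816 : act 3 n107484 = n53926 := d0_2 D49653 D107484 (iv2 D53926) (iv3 D26074) (iv2 F37947)
theorem F165817 : act 4 n107484 = n49659 := d1_2 (iv4 F78419) D107484 (iv2 D49659)
theorem F165818 : act 7 n107484 = n67471 := d4_2 (iv7 F78420) D107484 (iv2 D67471)
theorem F165819 : act 1 n107484 = n67469 := d15_0 (iv0 D67469) (iv7 F78420) D107484
theorem F165820 : act 1 n67470 = n107484 := d15_1 D67470 F165818 (iv2 D67471)
def n107485 : Q := act 6 n49653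
theorem D107485 : act 6 n49653 = n107485 := rfl
theorem F165821 : act 3 n107485 = n49654 := d7_1 D107485 (iv6 D49654) D49653
theorem F165822 : act 4 n107485 = n49660 := d10_1 D107485 (iv6 D49660) (iv4 F78419)
def n107486 : Q := act 0 n49654
theorem D107486 : act 0 n49654 = n107486 := rfl
theorem F165823 : act 4 n107486 = n52333 := d18_3 F45399 (iv4 F78422) D107486 F82712 (iv4 F82698) (iv0 F163191) (iv4 D59140) (iv0 D28093) D28095
theorem F165824 : act 2 n64448 = n107486 := d15_3 (iv0 D107486) (iv0 F95724) (iv7 F100373)
theorem F165825 : act 7 n107486 = n52332 := d4_2 (iv7 F100373) F165824 (iv2 F95722)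
theorem E16515 : n64448 = n53931 := (c15_4 (iv0 D53931) (iv0 F82709) (iv7 F165825) (iv2 F165824))
theorem F165826 : act 2 n53931 = n107486 := (sb E16515 F165824)
theorem F165827 : act 4 n53931 = n30346 := (sb E16515 (iv4 D64448))
theorem F165828 : act 7 n53931 = n61252 := (sb E16515 F100373)
theorem E16516 : n106197 = n52318 := ((c18_7 (iv1 D26078) (iv4 F41250) D53931 F165827 F82702 (iv4 F93367) F93371 (iv4 D106197) (iv0 D49073) F41252)).symm
theorem F165829 : act 2 n52318 = n59140 := (sb E16516 F163189)
theorem F165830 : act 4 n52318 = n49073 := (sb E16516 (iv4 D106197))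
theorem F165831 : act 7 n52318 = n59144 := (sb E16516 F163190)
theorem E16517 : n106200 = n52319 := (c15_4 F93370 F93371 F165831 (iv2 F163197))
theorem F165832 : act 2 n52319 = n59144 := (sb E16517 F163197)
theorem F165833 : act 4 n52319 = n49074 := (sb E16517 (iv4 D106200))
theorem F165834 : act 7 n52319 = n59140 := (sb E16517 F163198)
theorem F165835 : act 1 n53933 = n107486 := d15_1 F95725 F165825 (iv2 F95722)
def n107487 : Q := act 5 n49654
theorem D107487 : act 5 n49654 = n107487 := rfl
theorem F165836 : act 2 n107487 = n53932 := d2_1 D107487 (iv5 D53932) (iv2 F78421)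
def n107488 : Q := act 7 n49654
theorem D107488 : act 7 n49654 = n107488 := rfl
theorem F165837 : act 2 n107488 = n53933 := d4_1 D107488 (iv7 D53933) (iv2 F78421)
theorem F165838 : act 4 n107488 = n49656 := d11_1 D107488 (iv7 D49656) (iv4 F78422)
theorem F165839 : act 6 n107488 = n67477 := d14_1 D107488 (iv7 D67477) (iv6 D31355) (iv7 F37948) D49654
theorem F165840 : act 1 n52332 = n107488 := d15_1 (iv0 F82709) (iv7 D107488) F78421
theorem F165841 : act 1 n107488 = n53931 := d15_1 F165840 F165828 F95722
def n107489 : Q := act 3 n49655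
theorem D107489 : act 3 n49655 = n107489 := rfl
theorem F165842 : act 5 n107489 = n106195 := d6_2 F78429 D107489 F163186
theorem F165843 : act 7 n107489 = n53937 := d8_2 (iv7 F78428) D107489 (iv3 D53937)
def n107490 : Q := act 2 n49657
theorem D107490 : act 2 n49657 = n107490 := rfl
theorem F165844 : act 7 n49658 = n107490 := d15_2 (iv0 D49657) D49658 (iv2 D107490)
def n107491 : Q := act 3 n49657
theorem D107491 : act 3 n49657 = n107491 := rfl
def n107492 : Q := act 4 n49657
theorem D107492 : act 4 n49657 = n107492 := rfl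
def n107493 : Q := act 5 n49657
theorem D107493 : act 5 n49657 = n107493 := rfl
def n107494 : Q := act 6 n49657
theorem D107494 : act 6 n49657 = n107494 := rfl
def n107495 : Q := act 7 n49657
theorem D107495 : act 7 n49657 = n107495 := rfl
theorem F165845 : act 2 n107495 = n49658 := d4_1 D107495 F165844 (iv2 D107490)
def n107496 : Q := act 3 n49658
theorem D107496 : act 3 n49658 = n107496 := rfl
def n107497 : Q := act 4 n49658
theorem D107497 : act 4 n49658 = n107497 := rfl
def n107498 : Q := act 5 n49658
theorem D107498 : act 5 n49658 = n107498 := rfl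
def n107499 : Q := act 6 n49658
theorem D107499 : act 6 n49658 = n107499 := rfl
def n107500 : Q := act 6 n49659
theorem D107500 : act 6 n49659 = n107500 := rfl
theorem F165846 : act 2 n107500 = n49660 := d3_1 D107500 (iv6 D49660) D49659
theorem F165847 : act 3 n107500 = n68161 := d7_1 D107500 (iv6 D68161) (iv3 F78437)
def n107501 : Q := act 0 n49660
theorem D107501 : act 0 n49660 = n107501 := rfl
def n107502 : Q := act 1 n49660
theorem D107502 : act 1 n49660 = n107502 := rfl
def n107503 : Q := act 5 n49660
theorem D107503 : act 5 n49660 = n107503 := rfl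
theorem F165848 : act 3 n107503 = n49661 := d6_1 D107503 (iv5 D49661) (iv3 F78439)
theorem F165849 : act 6 n107503 = n107287 := d12_2 D49660 D107503 (iv5 D107287) (iv6 D49571) (iv5 F37961)
def n107504 : Q := act 7 n49660
theorem D107504 : act 7 n49660 = n107504 := rfl
theorem F165850 : act 3 n107504 = n49662 := d8_1 D107504 (iv7 D49662) (iv3 F78439)
def n107505 : Q := act 0 n49661
theorem D107505 : act 0 n49661 = n107505 := rfl
def n107506 : Q := act 1 n49661
theorem D107506 : act 1 n49661 = n107506 := rfl
theorem F165851 : act 1 n107506 = n68174 := d15_1 D107506 (iv7 D68174) (iv2 F78440)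
def n107507 : Q := act 4 n49661
theorem D107507 : act 4 n49661 = n107507 := rfl
theorem F165852 : act 2 n107507 = n68173 := d1_1 D107507 (iv4 D68173) (iv2 F78440)
theorem F165853 : act 6 n107507 = n107291 := d10_2 (iv6 F78441) D107507 (iv4 D107291)
def n107508 : Q := act 7 n49661
theorem D107508 : act 7 n49661 = n107508 := rfl
theorem F165854 : act 2 n107508 = n68174 := d4_1 D107508 (iv7 D68174) (iv2 F78440)
theorem F165855 : act 5 n107508 = n49662 := d13_1 D107508 (iv7 D49662) D49661
theorem F165856 : act 1 n68174 = n107505 := d15_0 (iv0 D107505) D107508 F165854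
theorem F165857 : act 1 n68172 = n107508 := d15_1 D68172 (iv7 D107508) F78440
theorem F165858 : act 1 n107508 = n68171 := d15_0 (iv0 D68171) D68174 (iv2 F165854)
def n107509 : Q := act 0 n49663
theorem D107509 : act 0 n49663 = n107509 := rfl
theorem F165859 : act 4 n107509 = n64500 := d20_0 (iv1 F100433) (iv4 D30368) (iv3 F40803) (iv1 D25818) F20324 (iv4 F39778) (iv1 F83907) (iv4 D49664) D49663 D107509
theorem F165860 : act 2 n59499 = n107509 := d15_3 (iv0 D107509) F100429 D59499
theorem F165861 : act 1 n59498 = n107509 := d15_0 (iv0 D107509) F78446 (iv2 F93925)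
theorem F165862 : act 7 n107509 = n50258 := d15_2 D59498 F165861 F79639
theorem F165863 : act 3 n50264 = n107509 := d8_3 F165862 F79640 D50264
theorem F165864 : act 6 n59449 = n107509 := d14_5 F165862 (iv6 D50258) F38487 D28231 D59449
def n107510 : Q := act 5 n49663
theorem D107510 : act 5 n49663 = n107510 := rfl
theorem F165865 : act 3 n107510 = n49665 := d6_1 D107510 (iv5 D49665) D49663
theorem F165866 : act 7 n107510 = n58774 := d13_2 (iv7 F78446) D107510 F92908
theorem F165867 : act 6 n58892 = n107510 := d14_5 F165866 (iv6 D58774) F45159 D27998 D58892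
def n107511 : Q := act 6 n49663
theorem D107511 : act 6 n49663 = n107511 := rfl
theorem F165868 : act 3 n107511 = n49666 := d7_1 D107511 (iv6 D49666) D49663
theorem F165869 : act 7 n107511 = n60556 := d14_2 (iv7 F78446) D107511 F95173 (iv7 F49673) (iv6 F50041)
theorem F165870 : act 5 n107511 = n60557 := d21_6 (iv5 D28228) (iv1 F22620) D13488 D28253 (iv1 F100429) D107511 (iv1 F96455) F96453 (iv6 D30451) (iv1 F45697)
def n107512 : Q := act 3 n49664
theorem D107512 : act 3 n49664 = n107512 := rfl
theorem F165871 : act 7 n107512 = n68180 := d8_2 (iv7 F78448) D107512 (iv3 D68180)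
def n107513 : Q := act 5 n49664
theorem D107513 : act 5 n49664 = n107513 := rfl
theorem F165872 : act 2 n107513 = n68178 := d2_1 D107513 (iv5 D68178) (iv2 F78447)
theorem F165873 : act 7 n107513 = n68181 := d13_2 (iv7 F78448) D107513 (iv5 D68181)
def n107514 : Q := act 6 n49664
theorem D107514 : act 6 n49664 = n107514 := rfl
theorem F165874 : act 2 n107514 = n68179 := d3_1 D107514 (iv6 D68179) (iv2 F78447)
theorem F165875 : act 4 n107514 = n49666 := d10_1 D107514 (iv6 D49666) D49664
theorem F165876 : act 7 n107514 = n60576 := d14_2 (iv7 F78448) D107514 F95192 (iv7 F49682) (iv6 F50042)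
def n107515 : Q := act 4 n49665
theorem D107515 : act 4 n49665 = n107515 := rfl
theorem F165877 : act 2 n107515 = n58876 := d1_1 D107515 F93100 (iv2 F78449)
theorem F165878 : act 6 n107515 = n58902 := d10_2 F78451 D107515 F93118
theorem F165879 : act 7 n107515 = n58777 := d11_2 (iv7 F78450) D107515 F92914
theorem F165880 : act 1 n107515 = n58873 := d18_6 (iv1 D25243) (iv4 F39778) (iv1 F83907) (iv4 D49664) D49665 D107515 F165565 (iv0 D50287) F39783
theorem F165881 : act 1 n58874 = n107515 := d15_1 D58874 F165879 F92913
def n107516 : Q := act 3 n49668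
theorem D107516 : act 3 n49668 = n107516 := rfl
theorem F165882 : act 6 n107516 = n106941 := d7_2 (iv6 F78461) D107516 (iv3 D106941)
theorem F165883 : act 7 n107516 = n68177 := d8_2 (iv7 F78462) D107516 (iv3 D68177)
def n107517 : Q := act 5 n49668
theorem D107517 : act 5 n49668 = n107517 := rfl
theorem F165884 : act 2 n107517 = n68181 := d2_1 D107517 (iv5 D68181) (iv2 F78460)
theorem F165885 : act 7 n107517 = n68178 := d13_2 (iv7 F78462) D107517 (iv5 D68178)
def n107518 : Q := act 2 n49669
theorem D107518 : act 2 n49669 = n107518 := rfl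
theorem F165886 : act 7 n49670 = n107518 := d15_2 (iv0 D49669) D49670 (iv2 D107518)
def n107519 : Q := act 3 n49669
theorem D107519 : act 3 n49669 = n107519 := rfl
def n107520 : Q := act 4 n49669
theorem D107520 : act 4 n49669 = n107520 := rfl
theorem F165887 : act 0 n107520 = n107167 := d18_2 D49669 D107520 F165160 F78265 (iv4 F78251) (iv0 F83906) (iv4 D49664) (iv0 D24219) D24221
def n107521 : Q := act 5 n49669
theorem D107521 : act 5 n49669 = n107521 := rfl
theorem F165888 : act 6 n107521 = n49776 := d12_2 F93417 D107521 (iv5 F93418) (iv6 D59215) D59214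
theorem F165889 : act 0 n107521 = n59238 := d21_1 D107521 (iv5 D59238) F45445 (iv1 F100253) (iv6 D23943) (iv5 F18212) F10755 D11383 (iv6 F37966) D49669
theorem F165890 : act 0 n68117 = n107521 := d21_1 (iv5 F104274) (iv5 D107521) (iv6 F93417) (iv1 F164081) (iv6 D50985) (iv5 F47099) (iv1 F164066) (iv5 F92927) F92928 (iv1 F92916)
def n107522 : Q := act 7 n49669
theorem D107522 : act 7 n49669 = n107522 := rfl
theorem F165891 : act 2 n107522 = n49670 := d4_1 D107522 F165886 (iv2 D107518)
def n107523 : Q := act 3 n49670
theorem D107523 : act 3 n49670 = n107523 := rfl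
def n107524 : Q := act 4 n49670
theorem D107524 : act 4 n49670 = n107524 := rfl
theorem F165892 : act 0 n107524 = n52013 := d18_2 (iv1 F78463) D107524 (iv4 D52013) (iv5 D25244) (iv4 F39778) (iv0 F83904) (iv4 D49668) F37964 (iv5 F50045)
theorem F165893 : act 1 n107524 = n107167 := d15_1 (iv0 F165892) (iv7 D107167) (iv2 F82165)
def n107525 : Q := act 3 n49671
theorem D107525 : act 3 n49671 = n107525 := rfl
theorem F165894 : act 6 n107525 = n49673 := d7_2 (iv6 F78465) D107525 (iv3 D49673)
def n107526 : Q := act 5 n49671
theorem D107526 : act 5 n49671 = n107526 := rfl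
theorem F165895 : act 2 n107526 = n68193 := d2_1 D107526 (iv5 D68193) (iv2 F78464)
theorem F165896 : act 1 n107526 = n58920 := d17_6 (iv1 D27994) F37967 (iv1 D24220) D24221 D49671 D107526 (iv5 D58920) (iv0 F93103) (iv4 D58883)
def n107527 : Q := act 7 n49671
theorem D107527 : act 7 n49671 = n107527 := rfl
theorem F165897 : act 2 n107527 = n68194 := d4_1 D107527 (iv7 D68194) (iv2 F78464)
theorem F165898 : act 4 n107527 = n49672 := d11_1 D107527 (iv7 D49672) D49671
theorem F165899 : act 1 n68191 = n107527 := d15_1 D68191 (iv7 D107527) F78464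
theorem F165900 : act 1 n107527 = n68190 := d15_1 F165899 (iv7 F165147) F165146
def n107528 : Q := act 0 n49673
theorem D107528 : act 0 n49673 = n107528 := rfl
def n107529 : Q := act 1 n49673
theorem D107529 : act 1 n49673 = n107529 := rfl
def n107530 : Q := act 2 n49673
theorem D107530 : act 2 n49673 = n107530 := rfl
theorem F165901 : act 3 n107530 = n68197 := d0_2 D49673 D107530 (iv2 D68197) (iv3 D31746) (iv2 F37975)
def n107531 : Q := act 5 n49673
theorem D107531 : act 5 n49673 = n107531 := rfl
theorem F165902 : act 3 n107531 = n49674 := d6_1 D107531 (iv5 D49674) D49673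
theorem F165903 : act 4 n76340 = n107531 := d5_0 F165902 F78472 F40243 D34874 D76340
def n107532 : Q := act 6 n49674
theorem D107532 : act 6 n49674 = n107532 := rfl
theorem F165904 : act 2 n107532 = n68199 := d3_1 D107532 (iv6 D68199) (iv2 F78471)
theorem F165905 : act 4 n107532 = n52447 := d10_1 D107532 (iv6 D52447) (iv4 F78472)
def n107533 : Q := act 2 n49675
theorem D107533 : act 2 n49675 = n107533 := rfl
theorem F165906 : act 7 n49676 = n107533 := d15_2 (iv0 D49675) D49676 (iv2 D107533)
def n107534 : Q := act 3 n49675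
theorem D107534 : act 3 n49675 = n107534 := rfl
theorem F165907 : act 4 n107534 = n63991 := d20_6 D107277 (iv1 F165333) F94053 F45822 D49675 D107534 (iv1 F99571) F48852 (iv3 F48849) F99519
def n107535 : Q := act 7 n49675
theorem D107535 : act 7 n49675 = n107535 := rfl
theorem F165908 : act 2 n107535 = n49676 := d4_1 D107535 F165906 (iv2 D107533)
def n107536 : Q := act 3 n49676
theorem D107536 : act 3 n49676 = n107536 := rfl
theorem F165909 : act 5 n107536 = n66548 := d6_2 (iv5 F94057) D107536 F102410
theorem F165910 : act 4 n107536 = n53588 := d20_6 D25966 F53802 (iv4 F37147) (iv3 F39063) (iv1 F78475) D107536 (iv1 D53588) F41014 F20435 D12315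
def n107537 : Q := act 4 n49678
theorem D107537 : act 4 n49678 = n107537 := rfl
theorem F165911 : act 2 n107537 = n69687 := d1_1 D107537 F106044 F94161
theorem F165912 : act 3 n107537 = n52443 := d5_1 D107537 (iv4 F82783) (iv3 F82784) F94194 F94196
theorem F165913 : act 6 n107537 = n90277 := d10_2 F164494 D107537 (iv4 F164493)
theorem F165914 : act 7 n107537 = n67843 := d11_2 F94163 D107537 F103879
theorem F165915 : act 0 n106281 = n107537 := d20_10 (iv4 D107537) (iv1 D49678) F37980 (iv3 D24226) F18618 D12108 (iv4 F37384) D49087 (iv4 F82962) (iv3 F163328)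
theorem F165916 : act 1 n106229 = n107537 := d15_1 F164474 F165914 (iv2 F164469)
theorem F165917 : act 5 n52565 = n107537 := d6_0 F165912 (iv5 F83021) D52565
def n107538 : Q := act 4 n49679
theorem D107538 : act 4 n49679 = n107538 := rfl
def n107539 : Q := act 6 n49679
theorem D107539 : act 6 n49679 = n107539 := rfl
theorem F165918 : act 3 n107539 = n49681 := d7_1 D107539 (iv6 D49681) (iv3 F78483)
def n107540 : Q := act 3 n49680
theorem D107540 : act 3 n49680 = n107540 := rfl
theorem F165919 : act 5 n107540 = n50952 := d6_2 (iv5 F78484) D107540 (iv3 D50952)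
theorem F165920 : act 7 n107540 = n68198 := d8_2 (iv7 F78485) D107540 F104368
def n107541 : Q := act 6 n49680
theorem D107541 : act 6 n49680 = n107541 := rfl
theorem F165921 : act 4 n107541 = n49681 := d10_1 D107541 (iv6 D49681) D49680
def n107542 : Q := act 1 n49681
theorem D107542 : act 1 n49681 = n107542 := rfl
theorem F165922 : act 7 n107542 = n106384 := d15_2 (iv0 F163179) D107542 (iv2 F163509)
def n107543 : Q := act 7 n49681
theorem D107543 : act 7 n49681 = n107543 := rfl
def n107544 : Q := act 4 n49685
theorem D107544 : act 4 n49685 = n107544 := rfl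
def n107545 : Q := act 6 n49685
theorem D107545 : act 6 n49685 = n107545 := rfl
theorem F165923 : act 3 n107545 = n61517 := d7_1 D107545 (iv6 D61517) (iv3 F78502)
def n107546 : Q := act 4 n49687
theorem D107546 : act 4 n49687 = n107546 := rfl
def n107547 : Q := act 6 n49687
theorem D107547 : act 6 n49687 = n107547 := rfl
def n107548 : Q := act 4 n49689
theorem D107548 : act 4 n49689 = n107548 := rfl
theorem F165924 : act 2 n107548 = n49691 := d1_1 D107548 (iv4 D49691) (iv2 F78504)
theorem F165925 : act 7 n107548 = n71484 := d11_2 F78512 D107548 (iv4 D71484)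
def n107549 : Q := act 6 n49689
theorem D107549 : act 6 n49689 = n107549 := rfl
theorem F165926 : act 2 n107549 = n49692 := d3_1 D107549 (iv6 D49692) (iv2 F78504)
theorem F165927 : act 5 n107549 = n69792 := d12_1 D107549 (iv6 D69792) (iv5 D32411) (iv6 F37988) D49689
def n107550 : Q := act 4 n49690
theorem D107550 : act 4 n49690 = n107550 := rfl
theorem F165928 : act 2 n107550 = n71490 := d1_1 D107550 F108022 F78509
theorem F165929 : act 7 n107550 = n71395 := d11_2 (iv7 F78507) D107550 (iv4 D71395)
theorem F165930 : act 5 n107550 = n71686 := d16_1 D107550 (iv4 D71686) (iv5 D33142) (iv4 D15981) (iv5 D7478) (iv4 F11726) D15949 D33074 F78509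
theorem F165931 : act 0 n107550 = n71487 := d18_2 (iv1 F78511) D107550 F114857 (iv5 D76589) F55459 F47452 F47449 F78494 (iv5 F78513)
theorem F165932 : act 1 n107550 = n71486 := d15_0 (iv0 D71486) D71490 (iv2 F165928)
def n107551 : Q := act 6 n49690
theorem D107551 : act 6 n49690 = n107551 := rfl
theorem F165933 : act 2 n107551 = n71491 := d3_1 D107551 (iv6 D71491) F78509
theorem F165934 : act 3 n107551 = n93877 := d7_1 D107551 (iv6 D93877) F78510
def n107552 : Q := act 0 n49691
theorem D107552 : act 0 n49691 = n107552 := rfl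
theorem F165935 : act 4 n107552 = n105866 := d18_3 (iv1 D49690) D49691 D107552 (iv5 D105866) F77191 F54047 F26985 F52226 (iv5 F78508)
def n107553 : Q := act 1 n49691
theorem D107553 : act 1 n49691 = n107553 := rfl
theorem F165936 : act 1 n107553 = n71484 := d15_1 D107553 (iv7 F165925) F165924
def n107554 : Q := act 3 n49691
theorem D107554 : act 3 n49691 = n107554 := rfl
theorem F165937 : act 4 n107554 = n49694 := d5_2 D49691 D107554 (iv3 D49694) (iv4 D24235) (iv3 F37989)
theorem F165938 : act 7 n106847 = n107554 := d11_0 F165937 F78522 D106847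
def n107555 : Q := act 5 n49691
theorem D107555 : act 5 n49691 = n107555 := rfl
theorem F165939 : act 4 n107555 = n71678 := d16_2 D49691 D107555 (iv5 D71678) (iv4 F78768) (iv5 D49829) (iv4 F78492) (iv5 F78513) F78512 F78504
def n107556 : Q := act 6 n49691
theorem D107556 : act 6 n49691 = n107556 := rfl
theorem F165940 : act 4 n107556 = n49692 := d10_1 D107556 (iv6 D49692) D49691
def n107557 : Q := act 7 n49691
theorem D107557 : act 7 n49691 = n107557 := rfl
theorem F165941 : act 2 n107557 = n71484 := d4_1 D107557 (iv7 F165925) F165924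
theorem F165942 : act 3 n107557 = n106847 := d8_1 D107557 F165938 (iv3 D107554)
theorem F165943 : act 4 n107557 = n49693 := d11_1 D107557 (iv7 D49693) D49691
theorem F165944 : act 1 n71484 = n107552 := d15_0 (iv0 D107552) D107557 F165941
def n107558 : Q := act 0 n49692
theorem D107558 : act 0 n49692 = n107558 := rfl
def n107559 : Q := act 1 n49692
theorem D107559 : act 1 n49692 = n107559 := rfl
def n107560 : Q := act 7 n49692
theorem D107560 : act 7 n49692 = n107560 := rfl
theorem F165945 : act 3 n107560 = n49698 := d8_1 D107560 (iv7 D49698) (iv3 F78514)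
theorem F165946 : act 5 n107560 = n69804 := d13_1 D107560 (iv7 D69804) (iv5 F78515)
def n107561 : Q := act 6 n49693
theorem D107561 : act 6 n49693 = n107561 := rfl
theorem F165947 : act 2 n107561 = n71485 := d3_1 D107561 (iv6 D71485) (iv2 F78516)
theorem F165948 : act 3 n107561 = n49699 := d7_1 D107561 (iv6 D49699) (iv3 F78517)
theorem F165949 : act 5 n107561 = n68661 := d12_1 D107561 (iv6 D68661) (iv5 F55209) F55210 (iv5 F78518)
def n107562 : Q := act 0 n49694
theorem D107562 : act 0 n49694 = n107562 := rfl
theorem F165950 : act 1 n106844 = n107562 := d15_0 (iv0 D107562) F78522 (iv2 F164645)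
def n107563 : Q := act 1 n49694
theorem D107563 : act 1 n49694 = n107563 := rfl
def n107564 : Q := act 2 n49694
theorem D107564 : act 2 n49694 = n107564 := rfl
theorem F165951 : act 5 n107564 = n106833 := d2_2 (iv5 F78521) D107564 (iv2 F164638)
theorem F165952 : act 7 n107564 = n106844 := d4_2 (iv7 F78522) D107564 F164645
theorem F165953 : act 1 n107564 = n106845 := d15_0 (iv0 D106845) (iv7 F78522) D107564
theorem F165954 : act 1 n107563 = n106844 := d15_1 D107563 (iv7 F165952) (iv2 D107564)
theorem F165955 : act 1 n106846 = n107564 := d15_1 D106846 F165952 F164645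
def n107565 : Q := act 6 n49694
theorem D107565 : act 6 n49694 = n107565 := rfl
theorem F165956 : act 3 n107565 = n49695 := d7_1 D107565 (iv6 D49695) D49694
def n107566 : Q := act 0 n49695
theorem D107566 : act 0 n49695 = n107566 := rfl
def n107567 : Q := act 1 n49695
theorem D107567 : act 1 n49695 = n107567 := rfl
def n107568 : Q := act 5 n49695
theorem D107568 : act 5 n49695 = n107568 := rfl
theorem F165957 : act 6 n107568 = n106853 := d12_2 D49695 D107568 (iv5 D106853) (iv6 D49370) (iv5 F37992)
def n107569 : Q := act 7 n49695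
theorem D107569 : act 7 n49695 = n107569 := rfl
theorem F165958 : act 4 n107569 = n49698 := d11_1 D107569 (iv7 D49698) (iv4 F78523)
theorem F165959 : act 6 n107569 = n106852 := d14_1 D107569 (iv7 D106852) (iv6 D49369) F37993 D49695
def n107570 : Q := act 3 n49696
theorem D107570 : act 3 n49696 = n107570 := rfl
def n107571 : Q := act 4 n49696
theorem D107571 : act 4 n49696 = n107571 := rfl
def n107572 : Q := act 6 n49696
theorem D107572 : act 6 n49696 = n107572 := rfl
theorem F165960 : act 5 n107572 = n62735 := d21_6 (iv5 D24016) F18348 D11394 D24236 D49696 D107572 (iv1 D62735) D62736 F97863 F47693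
def n107573 : Q := act 3 n49697
theorem D107573 : act 3 n49697 = n107573 := rfl
theorem F165961 : act 5 n107573 = n53035 := d6_2 F78524 D107573 F83749
def n107574 : Q := act 4 n49697
theorem D107574 : act 4 n49697 = n107574 := rfl
def n107575 : Q := act 6 n49697
theorem D107575 : act 6 n49697 = n107575 := rfl
theorem F165962 : act 5 n107575 = n53046 := d12_1 D107575 (iv6 D53046) (iv5 D25736) D25737 F78524
def n107576 : Q := act 6 n49698
theorem D107576 : act 6 n49698 = n107576 := rfl
theorem F165963 : act 4 n107576 = n106852 := d10_1 D107576 (iv6 F165959) F165958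
theorem F165964 : act 7 n107576 = n49699 := d14_2 D49698 D107576 (iv6 D49699) (iv7 D24237) D24236
def n107577 : Q := act 1 n49699
theorem D107577 : act 1 n49699 = n107577 := rfl
def n107578 : Q := act 3 n49700
theorem D107578 : act 3 n49700 = n107578 := rfl
theorem F165965 : act 4 n107578 = n50158 := d5_2 (iv4 F78527) D107578 (iv3 D50158) (iv4 D24464) D24463
theorem F165966 : act 7 n107578 = n50316 := d8_2 F78530 D107578 (iv3 D50316)
def n107579 : Q := act 5 n49700
theorem D107579 : act 5 n49700 = n107579 := rfl
theorem F165967 : act 2 n107579 = n52232 := d2_1 D107579 (iv5 D52232) F78529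
theorem F165968 : act 7 n107579 = n50317 := d13_2 F78530 D107579 (iv5 D50317)
theorem F165969 : act 4 n107579 = n53179 := d16_2 (iv4 F78527) D107579 (iv5 D53179) F40756 (iv5 F45100) F45099 (iv5 F38530) F38531 (iv2 F38407)
theorem F165970 : act 0 n107579 = n50904 := d17_2 D49700 D107579 (iv5 D50904) (iv4 D24757) (iv5 F20281) F19859 (iv5 F22321) F22323 D24240
theorem F165971 : act 1 n107579 = n50896 := d17_6 (iv1 F38477) (iv5 F38479) F49171 F49170 (iv4 F78527) D107579 (iv5 D50896) F40109 (iv4 D25367)
def n107580 : Q := act 6 n49700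
theorem D107580 : act 6 n49700 = n107580 := rfl
theorem F165972 : act 2 n107580 = n52233 := d3_1 D107580 (iv6 D52233) F78529
theorem F165973 : act 4 n107580 = n50157 := d10_1 D107580 (iv6 D50157) (iv4 F78527)
def n107581 : Q := act 3 n49701
theorem D107581 : act 3 n49701 = n107581 := rfl
theorem F165974 : act 4 n107581 = n52256 := d5_2 (iv4 F78533) D107581 (iv3 D52256) (iv4 D25384) (iv3 F38529)
theorem F165975 : act 7 n107581 = n52231 := d8_2 (iv7 F78532) D107581 (iv3 D52231)
def n107582 : Q := act 5 n49701
theorem D107582 : act 5 n49701 = n107582 := rfl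
theorem F165976 : act 2 n107582 = n50317 := d2_1 D107582 (iv5 D50317) F78534
theorem F165977 : act 4 n107582 = n53176 := d9_1 D107582 (iv5 D53176) F40765 (iv5 F38840) (iv4 F49167) F49170 (iv4 F78527) D107579 F165969 (iv5 D53179) F40756 (iv5 F45100) F45099 (iv5 F38530) (iv4 F78533)
theorem F165978 : act 7 n107582 = n52232 := d13_2 (iv7 F78532) D107582 (iv5 D52232)
theorem F165979 : act 0 n107582 = n50896 := d17_2 (iv1 F78531) D107582 (iv5 D50896) (iv4 D24754) (iv5 F20273) (iv0 D12005) (iv5 F9868) F19820 D25251
theorem F165980 : act 1 n107582 = n50904 := d17_6 D24505 F38473 (iv1 F37876) (iv5 F38530) (iv4 F78533) D107582 (iv5 D50904) F39838 (iv4 D24507)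
def n107583 : Q := act 6 n49701
theorem D107583 : act 6 n49701 = n107583 := rfl
theorem F165981 : act 2 n107583 = n50318 := d3_1 D107583 (iv6 D50318) F78534
theorem F165982 : act 4 n107583 = n50315 := d10_1 D107583 (iv6 D50315) (iv4 F78533)
def n107584 : Q := act 0 n49702
theorem D107584 : act 0 n49702 = n107584 := rfl
def n107585 : Q := act 1 n49702
theorem D107585 : act 1 n49702 = n107585 := rfl
theorem F165983 : act 4 n59922 = n107585 := d20_6 (iv4 D11931) (iv1 F22344) D25039 D51539 F81304 (iv3 F94397) (iv1 D107585) (iv4 F81630) (iv3 D51699) (iv1 D25111)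
def n107586 : Q := act 2 n49702
theorem D107586 : act 2 n49702 = n107586 := rfl
def n107587 : Q := act 5 n49702
theorem D107587 : act 5 n49702 = n107587 := rfl
theorem F165984 : act 3 n107587 = n49703 := d6_1 D107587 (iv5 D49703) D49702
def n107588 : Q := act 0 n49703
theorem D107588 : act 0 n49703 = n107588 := rfl
theorem F165985 : act 5 n107588 = n50141 := d17_1 D107588 F79428 D52033 (iv4 F84052) (iv5 D53208) F40792 D25815 F84059 F84058
theorem F165986 : act 4 n107588 = n53187 := d18_1 D107588 (iv1 D53187) F80331 F80328 F40124 F38535 (iv4 F78527) (iv0 D49700) D49703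
theorem F165987 : act 1 n52022 = n107588 := d15_0 (iv0 D107588) (iv7 F80274) (iv2 F82194)
theorem F165988 : act 2 n52225 = n107588 := d1_3 F165986 (iv2 F84010) (iv4 F82580)
theorem F165989 : act 7 n50252 = n107588 := d11_0 F165986 F84008 F80283
def n107589 : Q := act 1 n49703
theorem D107589 : act 1 n49703 = n107589 := rfl
theorem F165990 : act 1 n107589 = n52022 := d15_1 D107589 F82195 F78535
theorem F165991 : act 7 n107589 = n52225 := d15_2 (iv0 D107588) D107589 F165988
theorem F165992 : act 5 n107589 = n50245 := d17_7 (iv1 D11993) (iv5 D5662) F19387 D11400 D24240 D49703 D107589 F79612 (iv4 D25260)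
theorem F165993 : act 4 n107589 = n53186 := d17_9 (iv1 F84004) F40842 (iv1 F40755) D53179 (iv4 F165969) (iv5 D107579) (iv0 D49700) D49703 D107589
theorem F165994 : act 2 n50252 = n107589 := d1_3 F165993 (iv2 F84005) F80283
def n107590 : Q := act 6 n49703
theorem D107590 : act 6 n49703 = n107590 := rfl
def n107591 : Q := act 0 n49704
theorem D107591 : act 0 n49704 = n107591 := rfl
def n107592 : Q := act 1 n49704
theorem D107592 : act 1 n49704 = n107592 := rfl
def n107593 : Q := act 2 n49704
theorem D107593 : act 2 n49704 = n107593 := rfl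
theorem F165995 : act 3 n107593 = n107586 := d0_2 D49704 D107593 (iv2 D107586) (iv3 D49702) (iv2 F38001)
def n107594 : Q := act 5 n49704
theorem D107594 : act 5 n49704 = n107594 := rfl
theorem F165996 : act 3 n107594 = n49705 := d6_1 D107594 (iv5 D49705) D49704
def n107595 : Q := act 6 n49705
theorem D107595 : act 6 n49705 = n107595 := rfl
theorem F165997 : act 2 n107595 = n107590 := d3_1 D107595 (iv6 D107590) (iv2 F78535)
def n107596 : Q := act 3 n49706
theorem D107596 : act 3 n49706 = n107596 := rfl
theorem F165998 : act 4 n107596 = n62985 := d5_2 D49706 D107596 (iv3 D62985) (iv4 D29798) (iv3 F38003)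
theorem F165999 : act 7 n107596 = n49736 := d8_2 (iv7 F78537) D107596 (iv3 D49736)
def n107597 : Q := act 5 n49706
theorem D107597 : act 5 n49706 = n107597 := rfl
theorem F166000 : act 2 n107597 = n49728 := d2_1 D107597 (iv5 D49728) (iv2 F78536)
theorem F166001 : act 7 n107597 = n49737 := d13_2 (iv7 F78537) D107597 (iv5 D49737)
theorem F166002 : act 4 n107597 = n53134 := d16_2 D49706 D107597 (iv5 F93574) (iv4 D59327) (iv5 D28175) (iv4 F22384) D24243 F38007 (iv2 F38002)
theorem F166003 : act 1 n107597 = n50102 := d17_6 F37111 (iv5 D11408) D11406 D24242 D49706 D107597 (iv5 D50102) (iv0 F76870) (iv4 D48803)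
def n107598 : Q := act 3 n49707
theorem D107598 : act 3 n49707 = n107598 := rfl
theorem F166004 : act 7 n107598 = n49727 := d8_2 (iv7 F78539) D107598 (iv3 D49727)
def n107599 : Q := act 5 n49707
theorem D107599 : act 5 n49707 = n107599 := rfl
theorem F166005 : act 2 n107599 = n49737 := d2_1 D107599 (iv5 D49737) (iv2 F78538)
theorem F166006 : act 4 n107599 = n53133 := d9_1 D107599 (iv5 F93565) (iv4 D59326) (iv5 D28174) F22382 D24242 D49706 D107597 F166002 (iv5 F93574) (iv4 D59327) (iv5 D28175) (iv4 F22384) D24243 D49707
theorem F166007 : act 7 n107599 = n49728 := d13_2 (iv7 F78539) D107599 (iv5 D49728)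
theorem F166008 : act 0 n107599 = n50102 := d17_2 F95694 D107599 (iv5 D50102) (iv4 D24434) (iv5 D11531) D11530 D24430 F46613 D61235
def n107600 : Q := act 6 n49707
theorem D107600 : act 6 n49707 = n107600 := rfl
theorem F166009 : act 2 n107600 = n49738 := d3_1 D107600 (iv6 D49738) (iv2 F78538)
theorem F166010 : act 4 n107600 = n49708 := d10_1 D107600 (iv6 D49708) D49707
theorem F166011 : act 0 n59461 = n107600 := d21_4 D59415 (iv1 F93862) (iv5 D59460) D59461 (iv6 D107600) D107599 F166008 (iv5 D50102) (iv6 F48047) F48049
theorem F166012 : act 0 n49918 = n67508 := d20_4 (iv4 F93863) F166011 F166010 (iv3 F78965) F103399 (iv4 F103410) (iv1 F103411) F97613 (iv3 F97582) (iv1 F97584)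
def n107601 : Q := act 3 n49709
theorem D107601 : act 3 n49709 = n107601 := rfl
theorem F166013 : act 4 n107601 = n51271 := d5_2 D49709 D107601 (iv3 D51271) F39079 (iv3 F38965)
theorem F166014 : act 7 n107601 = n49750 := d8_2 (iv7 F78544) D107601 (iv3 D49750)
def n107602 : Q := act 5 n49709
theorem D107602 : act 5 n49709 = n107602 := rfl
theorem F166015 : act 2 n107602 = n49744 := d2_1 D107602 (iv5 D49744) (iv2 F78543)
theorem F166016 : act 4 n107602 = n53126 := d9_1 D107602 (iv5 D53126) (iv4 F45567) (iv5 F45564) F37103 D23800 D48803 D105555 F162125 (iv5 D53123) (iv4 F45557) (iv5 F49841) (iv4 D31511) (iv5 F38009) D49709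
theorem F166017 : act 7 n107602 = n49751 := d13_2 (iv7 F78544) D107602 (iv5 D49751)
def n107603 : Q := act 6 n49709
theorem D107603 : act 6 n49709 = n107603 := rfl
theorem F166018 : act 2 n107603 = n49745 := d3_1 D107603 (iv6 D49745) (iv2 F78543)
theorem F166019 : act 4 n107603 = n49710 := d10_1 D107603 (iv6 D49710) D49709
def n107604 : Q := act 0 n49710
theorem D107604 : act 0 n49710 = n107604 := rfl
theorem F166020 : act 6 n107604 = n59423 := d21_5 F38025 F24500 (iv5 F38009) D49710 D107604 F161992 (iv1 D105511) F76822 (iv6 D24253) D24251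
theorem F166021 : act 0 n107604 = n49748 := d21_4 (iv5 F112182) (iv1 F161991) (iv5 F161992) (iv6 F166020) (iv6 F162120) F162119 F101937 (iv5 F101941) (iv6 F93873) (iv1 F112185)
def n107605 : Q := act 1 n49710
theorem D107605 : act 1 n49710 = n107605 := rfl
theorem F166022 : act 1 n107605 = n49748 := d15_1 D107605 (iv7 D49748) (iv2 F78546)
def n107606 : Q := act 7 n49710
theorem D107606 : act 7 n49710 = n107606 := rfl
theorem F166023 : act 2 n107606 = n49748 := d4_1 D107606 (iv7 D49748) (iv2 F78546)
theorem F166024 : act 3 n107606 = n65911 := d8_1 D107606 F101605 F80596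
theorem F166025 : act 5 n107606 = n50907 := d13_1 D107606 (iv7 D50907) (iv5 F78547)
theorem F166026 : act 6 n107606 = n49755 := d14_1 D107606 (iv7 D49755) (iv6 D24262) (iv7 F38011) D49710
theorem F166027 : act 1 n49747 = n107606 := d15_1 D49747 (iv7 D107606) F78546
theorem F166028 : act 0 n49746 = n107606 := d21_4 (iv5 F161995) (iv1 F161997) F95303 (iv6 F95305) F166026 F111397 (iv1 D31495) F24494 D31484 (iv1 F112184)
def n107607 : Q := act 3 n49711
theorem D107607 : act 3 n49711 = n107607 := rfl
theorem F166029 : act 4 n107607 = n52098 := d5_2 (iv4 F78550) D107607 (iv3 D52098) F39950 (iv3 F38589)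
theorem F166030 : act 7 n107607 = n49756 := d8_2 (iv7 F78549) D107607 (iv3 D49756)
def n107608 : Q := act 5 n49711
theorem D107608 : act 5 n49711 = n107608 := rfl
theorem F166031 : act 2 n107608 = n49760 := d2_1 D107608 (iv5 D49760) F78551
theorem F166032 : act 4 n107608 = n53117 := d9_1 D107608 (iv5 D53117) (iv4 D25768) (iv5 F38567) (iv4 F40780) F40781 D30230 (iv5 F98907) (iv4 D63570) (iv5 D30017) (iv4 D14249) F11037 (iv4 F18970) D24581 (iv4 F78550)
theorem F166033 : act 7 n107608 = n49757 := d13_2 (iv7 F78549) D107608 (iv5 D49757)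
theorem F166034 : act 1 n107608 = n67842 := d17_6 (iv1 F46615) F46616 (iv1 F38587) D24581 (iv4 F78550) D107608 (iv5 D67842) (iv0 F79295) (iv4 D50096)
def n107609 : Q := act 6 n49711
theorem D107609 : act 6 n49711 = n107609 := rfl
theorem F166035 : act 2 n107609 = n49761 := d3_1 D107609 (iv6 D49761) F78551
theorem F166036 : act 4 n107609 = n50430 := d10_1 D107609 F79805 (iv4 F78550)
theorem F166037 : act 0 n67840 = n107609 := d18_2 F162017 D67840 F166036 (iv5 D50430) (iv4 F79801) F111447 (iv4 D31497) D31495 (iv5 F111397)
def n107610 : Q := act 0 n49712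
theorem D107610 : act 0 n49712 = n107610 := rfl
def n107611 : Q := act 1 n49712
theorem D107611 : act 1 n49712 = n107611 := rfl
def n107612 : Q := act 2 n49712
theorem D107612 : act 2 n49712 = n107612 := rfl
theorem F166038 : act 3 n107612 = n49764 := d0_2 D49712 D107612 (iv2 D49764) (iv3 D24265) (iv2 F38013)
theorem F166039 : act 6 n107612 = n59430 := d3_2 (iv6 F78552) D107612 (iv2 D59430)
def n107613 : Q := act 5 n49712
theorem D107613 : act 5 n49712 = n107613 := rfl
theorem F166040 : act 3 n107613 = n49713 := d6_1 D107613 (iv5 D49713) D49712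
def n107614 : Q := act 7 n49712
theorem D107614 : act 7 n49712 = n107614 := rfl
theorem F166041 : act 3 n107614 = n49714 := d8_1 D107614 (iv7 D49714) D49712
def n107615 : Q := act 6 n49713
theorem D107615 : act 6 n49713 = n107615 := rfl
theorem F166042 : act 2 n107615 = n49770 := d3_1 D107615 (iv6 D49770) (iv2 F78553)
theorem F166043 : act 5 n107615 = n59434 := d12_1 D107615 (iv6 D59434) (iv5 D28220) (iv6 F38014) D49713
def n107616 : Q := act 6 n49714
theorem D107616 : act 6 n49714 = n107616 := rfl
theorem F166044 : act 2 n107616 = n49772 := d3_1 D107616 (iv6 D49772) (iv2 F78554)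
theorem F166045 : act 4 n107616 = n49715 := d10_1 D107616 (iv6 D49715) (iv4 F78555)
theorem F166046 : act 7 n107616 = n59435 := d14_2 D49714 D107616 (iv6 D59435) (iv7 D28221) (iv6 F38014)
theorem F166047 : act 1 n59621 = n107616 := d15_1 D59621 F166046 F93819
theorem F166048 : act 0 n59620 = n107616 := d20_1 F163985 F166045 (iv3 F78907) (iv1 F78910) D105656 (iv4 F163990) (iv1 D65866) F49243 (iv3 F48642) D64244
def n107617 : Q := act 6 n49716
theorem D107617 : act 6 n49716 = n107617 := rfl
theorem F166049 : act 2 n107617 = n53937 := d3_1 D107617 F85072 (iv2 F78565)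
theorem F166050 : act 3 n107617 = n50262 := d7_1 D107617 (iv6 F80263) F78950
theorem F166051 : act 4 n107617 = n74229 := d10_1 D107617 (iv6 D74229) (iv4 F78566)
theorem F166052 : act 5 n107617 = n106192 := d12_1 D107617 (iv6 D106192) F77444 F48790 F78564
theorem F166053 : act 0 n107617 = n50248 := d21_4 (iv5 F45714) F48716 F78564 D107617 (iv6 D50248) (iv5 D24503) (iv1 F19352) D13690 F22855 D25317
theorem F166054 : act 1 n74180 = n51718 := d18_6 (iv1 F83961) (iv4 F84090) (iv1 F111083) (iv4 F166051) F166052 F163185 (iv4 D51718) F81625 (iv5 F83957)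
def n107618 : Q := act 3 n49717
theorem D107618 : act 3 n49717 = n107618 := rfl
theorem F166055 : act 4 n107618 = n49727 := d5_2 D49717 D107618 (iv3 D49727) (iv4 D24252) (iv3 F38019)
def n107619 : Q := act 6 n49717
theorem D107619 : act 6 n49717 = n107619 := rfl
theorem F166056 : act 4 n107619 = n49718 := d10_1 D107619 (iv6 D49718) D49717
theorem F166057 : act 0 n107619 = n64700 := d20_7 (iv4 F53548) (iv1 F53551) F53666 D34251 F101936 (iv3 F78568) (iv4 F166056) (iv4 D64700) (iv3 F111230) (iv1 F26135)
theorem F166058 : act 1 n107619 = n64702 := d15_1 (iv0 F166057) (iv7 F111106) F111104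
theorem E16518 : n64688 = n14466 := (c18_3 (iv1 F48547) D30437 (iv1 F100570) (iv4 F48878) (iv5 F78569) (iv4 F166056) F166058 (iv4 D64702) F53438 F53436)
theorem E16519 : n30467 = n30432 := ((D30467).symm.trans (sb E16518 (iv1 D64688)))
theorem E16520 : n30468 = n30437 := ((D30468).symm.trans (sb E16518 F100570))
theorem E16521 : n64687 = n64022 := ((D64687).symm.trans (sb E16519 (iv1 F99617)))
theorem F166059 : act 1 n30432 = n14466 := (sb E16519 (iv0 D30467))
theorem F166060 : act 0 n30437 = n14466 := (sb E16520 (iv1 D30468))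
theorem F166061 : act 0 n64022 = n30437 := (sb E16521 (iv1 F100569))
theorem F166062 : act 1 n64022 = n30432 := (sb E16521 (iv0 D64687))
theorem F166063 : act 5 n64792 = n64135 := d17_3 F166060 D30469 D64792 (iv4 D64135) (iv5 F48856) (iv0 D30440) (iv5 D14455) D14454 D30437
theorem E16532 : n105673 = n105510 := ((c20_11 (iv4 F165287) (iv1 F165291) (iv4 F165269) F165268 (iv1 F83984) F161290 D30437 F166060 (iv4 F48878) (iv3 F76821) D105510)).symm
theorem E16533 : n59682 = n48826 := (((F161990).symm.trans (sb E16532 (iv1 F162283)))).symm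
theorem F166065 : act 3 n105510 = n59678 := (sb E16532 F162278)
theorem F166066 : act 4 n105510 = n107238 := (sb E16532 (iv4 F165287))
theorem E16535 : n59678 = n59422 := (((F161989).symm.trans (sb E16532 F162279))).symm
theorem F166067 : act 7 n105510 = n59683 := (sb E16532 F162280)
theorem E16536 : n105511 = n28324 := (((iv1 F161991)).symm.trans (sb E16533 (iv1 D59682)))
theorem F166069 : act 3 n59422 = n105510 := (sb E16535 (iv3 F166065))
theorem F166070 : act 7 n59422 = n105677 := (sb E16535 (iv7 F162290))
theorem F166071 : act 0 n28324 = n48782 := (sb E16536 (iv1 D105511))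
theorem F166072 : act 1 n28324 = n48826 := (sb E16536 F161991)
theorem E16539 : n59423 = n48860 := ((((iv5 F76976)).symm.trans (sb E16536 (iv5 F161992)))).symm
theorem F166073 : act 0 n48860 = n28217 := (sb E16539 (iv1 D59423))
theorem F166074 : act 1 n48860 = n28277 := (sb E16539 F93793)
theorem E16540 : n107604 = n49984 := ((((iv6 F79067)).symm.trans (sb E16539 (iv6 F166020)))).symm
theorem F166075 : act 0 n49984 = n49748 := (sb E16540 F166021)
theorem F166076 : act 1 n49984 = n49710 := (sb E16540 (iv0 D107604))
theorem F166077 : act 2 n49782 = n107605 := d15_3 F166022 (iv0 F166075) F79068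
theorem F166078 : act 0 n49779 = n49930 := d21_4 F93991 (iv1 F166074) F76976 (iv6 F78640) (iv6 F93882) F93881 (iv1 F111380) (iv5 F111389) (iv6 F93760) (iv1 F93995)
theorem E16541 : n53322 = n53292 := (c20_8 (iv4 F24374) (iv1 F41028) F53667 D48860 F166073 (iv3 F84166) F84167 D53322 (iv4 D53292) (iv3 F161284) (iv1 F20445))
theorem F166079 : act 1 n53292 = n25846 := (sb E16541 (iv0 D53322))
theorem F166080 : act 0 n49891 = n49779 := d21_4 F38149 F38866 (iv5 F38865) D49891 F78640 (iv5 F76976) F166073 F45660 (iv6 D24340) D24337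
theorem F166081 : act 0 n74753 = n61239 := d18_2 (iv1 D74751) D74753 F95703 F46619 (iv4 F78309) (iv0 F104362) (iv4 D59684) F166072 F112182
theorem F166082 : act 4 n66565 = n105590 := d20_2 D31063 D66565 F162202 (iv1 F166072) (iv3 D28324) F53663 (iv1 D14702) F11274 (iv3 F11272) D14692
theorem F166083 : act 7 n63316 = n66565 := d11_0 F166082 (iv7 D105590) (iv4 F98548)
theorem F166084 : act 0 n59670 = n105590 := d20_10 (iv4 F166082) (iv1 F102424) (iv4 D31068) D31067 (iv1 F163549) F77621 (iv4 F95010) (iv1 F163695) (iv4 D59671) D59670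
theorem F166085 : act 2 n66565 = n106902 := d4_1 F166083 (iv7 D106902) (iv2 F98547)
theorem F166086 : act 6 n66565 = n106892 := d14_1 F166083 (iv7 D106892) (iv6 D49388) F48055 D63316
theorem E16542 : n106900 = n31068 := (c15_1 D106900 F102424 (iv7 F166083) F98547)
theorem E16543 : n66566 = n49391 := (((iv1 F102420)).symm.trans (sb E16542 (iv1 D106900)))
theorem E16544 : n106899 = n31063 := ((D106899).symm.trans (sb E16543 (iv1 D66566)))
theorem F166087 : act 1 n49391 = n31068 := (sb E16543 F102420)
theorem F166088 : act 1 n31063 = n49391 := (sb E16544 (iv0 D106899))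
theorem F166089 : act 0 n51223 = n64017 := d20_4 (iv4 F163686) (iv1 F163689) F163690 D51223 F99607 F94995 (iv1 F166088) (iv4 D31063) F104346 (iv1 F77674)
theorem E16545 : n64019 = n63997 := (c20_2 F99608 D64019 (iv4 D63997) (iv3 F161292) (iv1 F83983) (iv3 F77670) (iv4 F163686) (iv1 F163689) F163690 D51223 F166089)
theorem F166090 : act 0 n63997 = n30470 := (sb E16545 (iv1 F99615))
theorem F166091 : act 1 n63997 = n30185 := (sb E16545 (iv0 D64019))
theorem F166092 : act 1 n51223 = n64777 := d15_1 (iv0 F166089) (iv7 D64777) (iv2 F99606)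
theorem E16546 : n64020 = n53642 := (c15_2 F166091 D64020 (iv7 F161294) (iv2 F99912))
theorem F166093 : act 0 n53642 = n30185 := (sb E16546 (iv1 D64020))
theorem F166094 : act 1 n53642 = n30470 := (sb E16546 F99611)
theorem E16547 : n105671 = n105512 := (c20_5 (iv4 F20441) D25960 F53674 D48857 D105671 F161994 F100631 (iv1 F166094) (iv4 D53642) (iv3 D25969) (iv1 D12316))
theorem E16548 : n59683 = n48824 := ((((iv1 F161997)).symm.trans (sb E16547 (iv1 F162277)))).symm
theorem E16549 : n48857 = n48823 := ((((iv0 F161998)).symm.trans (sb E16547 (iv0 D105671)))).symm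
theorem E16551 : n105605 = n28324 := (((iv2 F162213)).symm.trans (sb E16548 (iv2 D59683)))
theorem E16552 : n105677 = n105606 := (((D105606).symm.trans (sb E16548 (iv3 F162288)))).symm
theorem E16553 : n105624 = n105607 := (((D105607).symm.trans (sb E16548 F165290))).symm
theorem E16554 : n105606 = n28275 := (((F95303).symm.trans (sb E16548 (tr (iv5 F162289) E16552)))).symm
theorem E16555 : n105601 = n105510 := ((F162209).symm.trans (sb E16548 (iv7 F166067)))
theorem E16556 : n105602 = n23822 := ((D105602).symm.trans (sb E16549 (iv3 D48857)))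
theorem E16557 : n105623 = n105603 := (((D105603).symm.trans (sb E16549 (iv4 F162224)))).symm
theorem E16558 : n28320 = n28274 := (((F103697).symm.trans (sb E16549 F76970))).symm
theorem E16559 : n105674 = n105604 := (((D105604).symm.trans (sb E16549 D105674))).symm
theorem F166095 : act 2 n28324 = n48824 := (sb E16551 F162213)
theorem E16560 : n59561 = n48860 := ((((iv5 F76976)).symm.trans (sb E16551 F162214))).symm
theorem F166096 : act 7 n28324 = n48823 := (sb E16551 (iv7 D105605))
theorem E16561 : n105677 = n28275 := (E16552).trans E16554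
theorem E16564 : n59556 = n59422 := ((F93980).symm.trans (sb E16561 (iv7 F166070)))
theorem F166097 : act 0 n105607 = n48832 := (sb E16553 (iv1 D105624))
theorem F166098 : act 1 n105607 = n107240 := (sb E16553 F165296)
theorem F166099 : act 2 n105607 = n59684 := (sb E16553 (iv2 F165289))
theorem F166100 : act 7 n105607 = n107238 := (sb E16553 F165288)
theorem E16565 : n59562 = n48824 := ((D59562).symm.trans (sb E16554 (iv3 D105606)))
theorem F166101 : act 2 n105510 = n48823 := (sb E16555 (iv2 D105601))
theorem F166102 : act 7 n105510 = n48824 := (sb E16555 (iv7 F162209))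
theorem F166103 : act 3 n23822 = n48823 := (sb E16556 (iv3 D105602))
theorem E16566 : n59557 = n13515 := ((((iv5 F37151)).symm.trans (sb E16556 F162210))).symm
theorem F166104 : act 0 n105603 = n107240 := (sb E16557 (iv1 F165297))
theorem F166105 : act 1 n105603 = n48832 := (sb E16557 (iv0 D105623))
theorem F166106 : act 2 n105603 = n107238 := (sb E16557 F165286)
theorem F166107 : act 7 n105603 = n59684 := (sb E16557 (iv7 F162225))
theorem E16567 : n59588 = n59558 := (((D59558).symm.trans (sb E16558 (iv4 F161384)))).symm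
theorem E16568 : n59680 = n59560 := (((D59560).symm.trans (sb E16558 D59680))).symm
theorem F166108 : act 3 n105604 = n48858 := (sb E16559 F162284)
theorem E16569 : n50951 = n50899 := (((F162211).symm.trans (sb E16559 F162285))).symm
theorem F166109 : act 7 n105604 = n68299 := (sb E16559 F162286)
theorem F166110 : act 2 n48860 = n28275 := (sb E16560 F93982)
theorem F166111 : act 7 n48860 = n28274 := (sb E16560 (iv7 D59561))
theorem F166112 : act 2 n59422 = n28274 := (sb E16564 (iv2 D59556))
theorem F166113 : act 7 n59422 = n28275 := (sb E16564 (iv7 F93980))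
theorem F166114 : act 3 n48824 = n28275 := (sb E16565 (iv3 D59562))
theorem F166115 : act 3 n13515 = n28274 := (sb E16566 (iv3 D59557))
theorem F166116 : act 1 n59558 = n28283 := (sb E16567 (iv0 D59588))
theorem F166117 : act 3 n59558 = n66674 := (sb E16567 F161383)
theorem F166118 : act 7 n59558 = n105678 := (sb E16567 (iv7 F162294))
theorem F166119 : act 3 n59560 = n28322 := (sb E16568 F94079)
theorem E16570 : n51934 = n31783 := ((F93981).symm.trans (sb E16568 (iv5 F94080)))
theorem F166120 : act 3 n50899 = n24775 := (sb E16569 (iv3 D50951))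
theorem F166121 : act 7 n50899 = n31779 := (sb E16569 F80391)
theorem E16571 : n68303 = n25200 := ((D68303).symm.trans (sb E16570 (iv1 D51934)))
theorem E16572 : n68304 = n51007 := ((D68304).symm.trans (sb E16570 F81998))
theorem F166122 : act 5 n31783 = n59560 := (sb E16570 (iv5 F93981))
theorem F166123 : act 6 n31783 = n50899 := (sb E16570 F162212)
theorem F166124 : act 1 n25200 = n31783 := (sb E16571 (iv0 D68303))
theorem F166125 : act 0 n51007 = n31783 := (sb E16572 (iv1 D68304))
theorem F166126 : act 0 n68306 = n51943 := d18_2 F166125 D68306 (iv4 F82668) F82669 (iv4 F99471) F100391 (iv4 D31775) F45766 (iv5 F80461)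
theorem F166127 : act 7 n51933 = n68305 := d15_2 (iv0 F166125) F82001 (iv2 D68305)
theorem F166128 : act 2 n50950 = n51933 := d4_3 F166127 (iv2 D68305) (iv7 F80389)
theorem F166129 : act 3 n51933 = n68297 := d0_2 D50950 F166128 (iv2 D68297) (iv3 D31779) (iv2 F78673)
theorem E16573 : n68297 = n50898 := (c15_4 (iv0 D50898) D50899 F166121 D68297)
theorem F166130 : act 2 n50898 = n31779 := (sb E16573 (iv2 D68297))
theorem F166131 : act 3 n50898 = n51933 := (sb E16573 (iv3 F166129))
theorem F166132 : act 0 n50539 = n64507 := d20_7 (iv4 F81437) (iv1 F81439) F49367 (iv3 F166120) (iv1 D50899) (iv3 F80294) F80295 (iv4 D64507) (iv3 F161302) F39347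
theorem F166133 : act 3 n49746 = n49928 := d7_3 (iv6 F95304) F166114 (iv6 F95305)
theorem E16574 : n59589 = n59563 := ((c20_7 D63997 F166090 (iv4 F100631) (iv3 F161994) (iv1 F161997) F166114 D59563 (iv1 D59589) (iv4 F48536) F48535 D30176)).symm
theorem F166134 : act 0 n59563 = n28283 := (sb E16574 (iv1 D59589))
theorem F166135 : act 4 n59552 = n106393 := d20_2 (iv4 F45780) D59552 (iv3 F163587) (iv1 F77672) (iv3 F78310) (iv4 F165294) (iv1 F166098) (iv4 D105607) F166114 (iv1 D28275)
theorem F166136 : act 7 n107274 = n59552 := d11_0 F166135 F163545 D107274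
theorem E16575 : n107241 = n105597 := (c18_6 (iv1 D28275) (iv4 F45780) D59552 F166135 (iv5 F163543) D107241 (iv0 D105597) F76899 D48824 F95303)
theorem F166137 : act 4 n105597 = n49547 := (sb E16575 (iv4 D107241))
theorem E16576 : n107536 = n59544 := (c20_4 (iv4 F78314) (iv1 F163681) (iv4 F163682) D107536 (iv1 D59544) F45778 (iv4 F45780) D59552 F166135 (iv3 F163587) (iv1 F77672))
theorem F166138 : act 3 n59544 = n49676 := (sb E16576 (iv3 D107536))
theorem F166139 : act 4 n59544 = n53588 := (sb E16576 F165910)
theorem F166140 : act 5 n59544 = n66548 := (sb E16576 F165909)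
theorem F166141 : act 2 n59563 = n105678 := d1_3 (iv4 D105678) F166110 D59563
theorem F166142 : act 2 n49746 = n49984 := d3_3 F79067 F166110 (iv6 F95305)
theorem F166143 : act 2 n49779 = n49928 := d0_5 (iv3 F166133) F166142 (iv3 D49984) F78659 D49779
theorem F166144 : act 7 n107605 = n49746 := d4_0 F166142 F79068 F166077
theorem E16577 : n49782 = n49747 := ((c15_2 (iv0 D49746) D49747 (iv7 F79068) (iv2 F166142))).symm
theorem F166145 : act 2 n49747 = n107605 := (sb E16577 F166077)
theorem F166146 : act 3 n49747 = n24271 := (sb E16577 (iv3 D49782))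
theorem F166147 : act 5 n49747 = n59322 := (sb E16577 F93544)
theorem F166148 : act 7 n49747 = n49984 := (sb E16577 (iv7 F79068))
theorem E16578 : n59317 = n25194 := (c21_5 (iv5 F166025) (iv1 F166027) F166147 (iv6 D59322) D59317 (iv6 D25194) (iv5 D11956) (iv1 F8625) D11751 D24802 (iv1 F80317))
theorem E16579 : n59112 = n51922 := (((D51922).symm.trans (sb E16578 (iv1 F93533)))).symm
theorem E16580 : n51923 = n28158 := ((D51923).symm.trans (sb E16578 (iv0 D59317)))
theorem E16581 : n59318 = n25252 := ((((iv1 F81970)).symm.trans (sb E16579 (iv1 F93537)))).symm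
theorem F166149 : act 2 n51922 = n28080 := (sb E16579 (iv2 D59112))
theorem F166150 : act 3 n51922 = n59319 := (sb E16579 (iv3 F93534))
theorem F166151 : act 7 n51922 = n59319 := (sb E16579 (iv7 F93535))
theorem F166152 : act 0 n28158 = n25194 := (sb E16580 (iv1 D51923))
theorem F166153 : act 0 n25252 = n28158 := (sb E16581 (iv1 D59318))
theorem F166154 : act 0 n67642 = n59322 := d21_10 (iv5 F166147) (iv1 D49747) (iv5 F39840) (iv6 D25258) (iv1 F19829) D24750 (iv5 F46558) D60977 F95519 (iv6 F103662)
theorem F166155 : act 0 n50404 = n51425 := d20_1 D50404 F81197 F49111 F166153 (iv3 D28158) (iv4 F80223) (iv1 F38711) F19030 (iv3 F18959) D24568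
theorem E16582 : n51005 = n50950 := ((c21_10 F85098 (iv1 F85096) (iv5 F45764) (iv6 D28119) (iv1 F22324) D25252 F39812 F166153 D59321 (iv6 F93542) (iv1 F82003))).symm
theorem F166156 : act 0 n50950 = n51935 := (sb E16582 (iv1 F82003))
theorem F166157 : act 1 n50950 = n24810 := (sb E16582 (iv0 D51005))
theorem E16583 : n68305 = n51006 := ((c15_2 F166157 D51006 (iv7 F166127) (iv2 F166128))).symm
theorem F166158 : act 2 n51006 = n31783 := (sb E16583 (iv2 D68305))
theorem F166159 : act 7 n51006 = n51933 := (sb E16583 (iv7 F166127))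
theorem F166160 : act 1 n50409 = n51425 := d15_0 (iv0 F166155) F102459 (iv2 F102474)
theorem F166161 : act 1 n65894 = n50409 := d15_0 F166160 F81198 (iv2 F101576)
theorem E16584 : n65372 = n59207 := ((c20_10 (iv4 F81197) (iv1 F166160) (iv4 D50409) D50408 F161338 F40126 (iv4 F40215) D52407 F161391 D59207 (iv1 D65372))).symm
theorem F166162 : act 0 n59207 = n30659 := (sb E16584 (iv1 D65372))
theorem F166163 : act 1 n59207 = n30835 := (sb E16584 F101068)
theorem F166164 : act 0 n51912 = n50600 := d20_1 D51912 (iv4 F101565) F101564 (iv1 F166163) (iv3 D59207) (iv4 F161391) (iv1 F93085) F93082 F76487 F161251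
theorem F166165 : act 1 n51912 = n50674 := d15_1 (iv0 F166164) (iv7 F81758) F81757
theorem E16585 : n59110 = n24748 := (c20_5 (iv4 F19028) D24735 (iv4 F80227) D28080 D59110 (iv3 F80267) F80268 (iv1 F166165) (iv4 D51912) (iv3 D25187) (iv1 F19716))
theorem E16586 : n59319 = n50886 := (((D50886).symm.trans (sb E16585 (iv1 F93536)))).symm
theorem E16587 : n50887 = n28080 := ((D50887).symm.trans (sb E16585 (iv0 D59110)))
theorem E16588 : n59111 = n24800 := ((((iv1 F80277)).symm.trans (sb E16586 (iv1 F93538)))).symm
theorem F166166 : act 2 n50886 = n28158 := (sb E16586 (iv2 D59319))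
theorem F166167 : act 3 n50886 = n51922 := (sb E16586 (iv3 F166150))
theorem F166168 : act 7 n50886 = n51922 := (sb E16586 (iv7 F166151))
theorem F166169 : act 0 n28080 = n24748 := (sb E16587 (iv1 D50887))
theorem F166170 : act 0 n24800 = n28080 := (sb E16588 (iv1 D59111))
theorem F166171 : act 0 n51530 = n50290 := d20_1 D51530 (iv4 F80427) F80426 F166170 (iv3 D28080) F80227 (iv1 F38710) F19028 (iv3 F19571) D25036
theorem E16589 : n49986 = n49929 := (c21_7 (iv5 D11957) (iv1 F8630) D11749 D24800 F166170 D59115 (iv5 F93284) (iv1 D49929) (iv5 F38826) (iv6 D24807) (iv1 F19734))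
theorem F166172 : act 3 n49929 = n24373 := (sb E16589 (iv3 D49986))
theorem F166173 : act 5 n49929 = n59115 := (sb E16589 F93284)
theorem F166174 : act 6 n49929 = n68299 := (sb E16589 (iv6 F104470))
theorem F166175 : act 7 n49929 = n49779 := (sb E16589 F79074)
theorem E16590 : n68295 = n50900 := (c21_11 F80299 (iv1 F76882) (iv5 F76879) (iv6 D28026) (iv1 F22243) D24800 F38813 F166170 D59114 (iv6 F93282) D68295)
theorem E16591 : n52035 = n31779 := ((F82238).symm.trans (sb E16590 (iv0 D68295)))
theorem F166176 : act 0 n31779 = n50900 := (sb E16591 (iv1 F82238))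
theorem E16592 : n68296 = n25261 := ((D68296).symm.trans (sb E16591 (iv0 D52035)))
theorem F166177 : act 0 n25261 = n31779 := (sb E16592 (iv1 D68296))
theorem F166178 : act 0 n68299 = n58989 := d21_1 D68299 (iv5 D58989) D58990 F93694 (iv6 D28044) F22246 (iv1 F20307) (iv5 F19831) D25261 F166177
theorem F166179 : act 7 n52036 = n50898 := d15_2 (iv0 F166177) D52036 F166130
theorem F166180 : act 2 n50899 = n52036 := d4_3 F166179 F166130 (iv7 F166121)
theorem F166181 : act 3 n51006 = n52036 := d8_3 F166179 F166131 (iv7 F166159)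
theorem F166182 : act 6 n52036 = n51006 := d3_2 F166123 F166180 F166158
theorem F166183 : act 0 n51965 = n59114 := d21_4 (iv5 F47035) F82064 (iv5 D51964) D51965 (iv6 F93282) D68299 F166178 (iv5 D58989) D58990 F93694
theorem F166184 : act 0 n63904 = n74499 := d20_7 (iv4 F48996) (iv1 F53651) F53652 (iv3 F166172) (iv1 D49929) (iv3 F78968) (iv4 F99394) (iv4 D74499) (iv3 D34164) F26176
theorem F166185 : act 1 n51535 = n50290 := d15_0 (iv0 F166171) (iv7 F102459) F102483
theorem F166186 : act 0 n58964 = n50988 := d20_10 F80427 (iv1 F166185) (iv4 D51535) D51534 (iv1 F161340) F81299 (iv4 F82643) (iv1 F161315) (iv4 D58965) D58964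
theorem F166187 : act 1 n58964 = n53447 := d15_1 (iv0 F166186) F84330 (iv2 F80425)
theorem F166188 : act 0 n50869 = n51698 := d20_1 D50869 (iv4 F81959) (iv3 F84328) (iv1 F166187) (iv3 D58964) D58965 F161314 F76558 (iv3 F39396) F161310
theorem F166189 : act 1 n50869 = n51769 := d15_1 (iv0 F166188) F81758 (iv2 F81628)
theorem F166190 : act 1 n50404 = n65894 := d15_0 F166161 (iv7 F102482) (iv2 F102483)
theorem F166191 : act 0 n58969 = n65891 := d20_4 (iv4 F76558) (iv1 F161343) (iv4 D58970) D58969 F101564 (iv4 F101577) (iv1 F166190) (iv4 D50404) (iv3 F161236) (iv1 D48670)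
theorem F166192 : act 1 n58969 = n50881 := d15_1 (iv0 F166191) (iv7 F81957) (iv2 F101563)
theorem F166193 : act 0 n50935 = n59321 := d21_10 (iv5 D59321) F166152 F39652 (iv6 D25194) F22341 D28135 (iv5 F45590) F80345 (iv5 D50934) D50935
theorem F166194 : act 0 n59322 = n67637 := d21_10 (iv5 D67637) (iv1 F93853) F93850 (iv6 F81982) (iv1 F81984) D51965 F82066 F166193 (iv5 D59321) D59322
theorem F166195 : act 0 n74202 = n65139 := d20_7 (iv4 F53656) (iv1 F53659) F48995 (iv3 F166146) (iv1 D49747) (iv3 F78611) (iv4 F111021) (iv4 D65139) (iv3 D30583) F26182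
theorem F166196 : act 0 n66504 = n63316 := d20_7 D105603 F166104 F165294 F78310 (iv1 F77668) F163591 D66504 F98548 F76897 D48823
theorem F166197 : act 1 n66504 = n106902 := d15_1 (iv0 F166196) (iv7 D106902) (iv2 F98547)
theorem F166198 : act 1 n66501 = n63316 := d15_0 (iv0 F166196) F102446 (iv2 F102437)
theorem F166199 : act 1 n106902 = n66501 := d15_0 F166198 F166083 F166085
theorem F166200 : act 0 n60452 = n59670 := d20_4 D53642 F166093 (iv4 F99608) F99607 (iv3 D59670) D59671 F161382 F100551 F48849 F161288
theorem E16593 : n51218 = n51127 := (c21_1 F94073 (iv1 F93975) (iv5 F98663) (iv6 F103720) (iv1 F103723) (iv6 F98669) (iv5 F79684) (iv1 F79689) (iv5 F46305) D60452 F166200)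
theorem F166201 : act 3 n51127 = n24914 := (sb E16593 (iv3 D51218))
theorem F166202 : act 5 n51127 = n59670 := (sb E16593 (iv5 F94073))
theorem E16594 : n66736 = n53180 := (c20_2 D31122 D66736 F83997 F80642 D51127 F166201 (iv4 F163694) F163693 F163686 F77670 F161276)
theorem F166203 : act 1 n53180 = n31122 := (sb E16594 (iv0 D66736))
theorem F166204 : act 0 n59555 = n107274 := d20_7 (iv4 F37900) D49554 F163694 (iv3 F166201) (iv1 F93975) F93971 (iv4 F93979) (iv4 D107274) (iv3 D49564) (iv1 D24183)
theorem F166205 : act 1 n59421 = n107274 := d15_0 (iv0 F166204) (iv7 D59555) (iv2 F93791)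
theorem E16595 : n66737 = n53325 := (c15_2 F166203 D66737 (iv7 D53325) (iv2 F83996))
theorem F166206 : act 0 n53325 = n31122 := (sb E16595 (iv1 D66737))
theorem F166207 : act 0 n64017 = n64670 := d20_10 (iv4 D64670) (iv1 F99573) F99569 (iv3 F99551) (iv1 F163548) (iv3 D31067) D31068 (iv1 F166087) (iv4 F94995) (iv3 F99607)
theorem E16596 : n53323 = n53296 := ((c20_1 D53296 (iv1 D53323) (iv4 F84167) F84166 D59422 F166069 F166066 (iv1 F165291) (iv4 F165269) F165268 (iv1 F83984))).symm
theorem F166208 : act 0 n53296 = n25846 := (sb E16596 (iv1 D53323))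
def n107620 : Q := act 0 n49718
theorem D107620 : act 0 n49718 = n107620 := rfl
theorem F166209 : act 6 n107620 = n59439 := d21_5 (iv5 D24936) F19231 D24247 D49718 D107620 F111432 F111429 D59448 F93838 F45707
theorem F166210 : act 3 n52088 = n107620 := d7_3 F166209 F111430 (iv6 F82329)
theorem F166211 : act 5 n107620 = n74730 := d6_2 (iv5 F82330) F166210 (iv3 D74730)
theorem F166212 : act 4 n74233 = n107620 := d20_2 (iv4 F53432) D74233 (iv3 F166210) (iv1 F82337) F79017 (iv4 F79029) (iv1 F79031) (iv4 D34127) F111228 (iv1 D34056)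
theorem F166213 : act 6 n53218 = n74233 := d10_0 F166212 F166209 F111431
theorem E16597 : n107534 = n64775 := ((c18_1 D64775 F165907 (iv1 F99571) F48852 (iv5 F48858) (iv4 F100586) F111099 F166212 (iv0 D107620) F78569)).symm
theorem F166214 : act 3 n64775 = n49675 := (sb E16597 (iv3 D107534))
theorem F166215 : act 4 n64775 = n63991 := (sb E16597 F165907)
theorem F166216 : act 0 n74730 = n58735 := d21_1 F166211 F92802 (iv6 D51123) (iv1 F40758) (iv6 F39085) (iv5 D24936) F19231 D24247 D49718 D107620
def n107621 : Q := act 1 n49718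
theorem D107621 : act 1 n49718 = n107621 := rfl
def n107622 : Q := act 7 n49718
theorem D107622 : act 7 n49718 = n107622 := rfl
theorem F166217 : act 3 n107622 = n49732 := d8_1 D107622 (iv7 D49732) (iv3 F78568)
theorem F166218 : act 5 n107622 = n64777 := d13_1 D107622 (iv7 D64777) (iv5 F78569)
theorem F166219 : act 6 n107622 = n67507 := d14_1 D107622 F103398 (iv6 D49918) F38164 D49718
def n107623 : Q := act 3 n49720
theorem D107623 : act 3 n49720 = n107623 := rfl
def n107624 : Q := act 6 n49720
theorem D107624 : act 6 n49720 = n107624 := rfl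
theorem F166220 : act 4 n107624 = n49721 := d10_1 D107624 (iv6 D49721) D49720
def n107625 : Q := act 0 n49721
theorem D107625 : act 0 n49721 = n107625 := rfl
theorem F166221 : act 5 n107625 = n105282 := d21_0 (iv1 D105282) F76579 (iv6 D29338) F36941 (iv6 F38910) (iv5 D24850) F19941 D24249 D49721 D107625
def n107626 : Q := act 1 n49721
theorem D107626 : act 1 n49721 = n107626 := rfl
theorem F166222 : act 5 n105281 = n107626 := d21_0 (iv1 D107626) (iv5 F93106) (iv6 D58885) (iv1 F45266) F38107 (iv5 D24238) F19388 D23730 D48674 D105281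
def n107627 : Q := act 7 n49721
theorem D107627 : act 7 n49721 = n107627 := rfl
def n107628 : Q := act 3 n49723
theorem D107628 : act 3 n49723 = n107628 := rfl
def n107629 : Q := act 5 n49723
theorem D107629 : act 5 n49723 = n107629 := rfl
theorem F166223 : act 2 n107629 = n60853 := d2_1 D107629 (iv5 D60853) (iv2 F78585)
theorem F166224 : act 4 n107629 = n61305 := d9_1 D107629 (iv5 D61305) (iv4 D29023) (iv5 F23073) (iv4 F18972) D14845 D31513 D67842 F103877 (iv5 D61299) (iv4 D29021) F23070 (iv4 F23011) (iv5 F38025) D49723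
theorem F166225 : act 0 n107629 = n63570 := d17_2 (iv1 F78586) D107629 F98907 (iv4 D30230) (iv5 F40781) F40783 (iv5 F46612) (iv0 D28990) D28992
theorem F166226 : act 1 n107629 = n107608 := d17_6 F37112 (iv5 D23800) F24501 (iv5 F38025) D49723 D107629 (iv5 D107608) F78548 F38034
def n107630 : Q := act 6 n49723
theorem D107630 : act 6 n49723 = n107630 := rfl
theorem F166227 : act 2 n107630 = n60851 := d3_1 D107630 F95407 (iv2 F78585)
theorem F166228 : act 4 n107630 = n49724 := d10_1 D107630 (iv6 D49724) D49723
def n107631 : Q := act 0 n49724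
theorem D107631 : act 0 n49724 = n107631 := rfl
theorem F166229 : act 5 n107631 = n60920 := d21_2 (iv5 F78588) D107631 (iv6 D60920) (iv1 D28889) (iv6 D13768) (iv5 F19744) F38848 F38847 (iv6 F45772) F46489
theorem F166230 : act 0 n60920 = n105669 := d21_1 F166229 (iv5 D105669) F76925 (iv1 F162016) F76867 (iv5 D23800) F24501 (iv5 F38025) D49724 D107631
theorem F166231 : act 0 n107631 = n53961 := d21_7 (iv5 D51960) (iv1 F81985) (iv5 F93699) F93700 (iv1 F93625) D60920 (iv5 F166229) F85109 (iv6 F47063) (iv1 F82062)
def n107632 : Q := act 1 n49724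
theorem D107632 : act 1 n49724 = n107632 := rfl
theorem F166232 : act 1 n107632 = n53961 := d15_1 D107632 F85110 (iv2 F78587)
theorem F166233 : act 5 n60996 = n107632 := d21_0 (iv1 D107632) F78588 (iv6 D28851) (iv1 F23271) D29373 (iv5 F76815) F162019 D59646 (iv6 F162269) F162271
theorem F166234 : act 6 n107632 = n59454 := d12_2 D60996 F166233 (iv5 F93848) (iv6 D59262) (iv5 F93678)
def n107633 : Q := act 7 n49724
theorem D107633 : act 7 n49724 = n107633 := rfl
theorem F166235 : act 2 n107633 = n53961 := d4_1 D107633 F85110 (iv2 F78587)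
theorem F166236 : act 3 n107633 = n68272 := d8_1 D107633 F104422 F78939
theorem F166237 : act 5 n107633 = n60703 := d13_1 D107633 F95296 (iv5 F78588)
theorem F166238 : act 6 n107633 = n53959 := d14_1 D107633 F85103 (iv6 F49844) F49845 D49724
theorem F166239 : act 1 n60850 = n107633 := d15_1 D60850 (iv7 D107633) F78587
theorem F166240 : act 0 n60849 = n107633 := d21_4 F22653 D28295 D59626 (iv6 F95406) F166238 (iv5 F93422) (iv1 F93425) D59232 F93433 (iv1 D28296)
def n107634 : Q := act 3 n49725
theorem D107634 : act 3 n49725 = n107634 := rfl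
theorem F166241 : act 4 n107634 = n63048 := d5_2 (iv4 F78589) D107634 (iv3 D63048) (iv4 D29825) F47486
def n107635 : Q := act 5 n49725
theorem D107635 : act 5 n49725 = n107635 := rfl
theorem F166242 : act 4 n107635 = n62637 := d16_2 (iv4 F78589) D107635 (iv5 D62637) F47575 (iv5 F76851) F76847 (iv5 F47478) (iv7 F47481) F47485
theorem F166243 : act 0 n107635 = n107602 := d17_2 D49725 D107635 (iv5 D107602) (iv4 D49709) F38009 (iv0 F24500) (iv5 F38025) (iv0 D24251) D24252
theorem F166244 : act 1 n107635 = n105555 := d17_6 (iv1 F40093) (iv5 F38316) F39700 (iv5 F47484) (iv4 F78589) D107635 (iv5 D105555) F82564 F82563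
def n107636 : Q := act 6 n49725
theorem D107636 : act 6 n49725 = n107636 := rfl
theorem F166245 : act 4 n107636 = n62574 := d10_1 D107636 (iv6 D62574) (iv4 F78589)
def n107637 : Q := act 3 n49726
theorem D107637 : act 3 n49726 = n107637 := rfl
def n107638 : Q := act 5 n49726
theorem D107638 : act 5 n49726 = n107638 := rfl
theorem F166246 : act 4 n107638 = n62640 := d9_1 D107638 (iv5 D62640) F47581 F46385 F39699 (iv5 F47484) (iv4 F78589) D107635 F166242 (iv5 D62637) F47575 (iv5 F76851) F76847 (iv5 F47478) (iv4 F78592)
theorem F166247 : act 0 n107638 = n105555 := d17_2 (iv1 F78591) D107638 (iv5 D105555) (iv4 D48803) (iv5 D23800) F24502 D14845 F24509 D24255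
theorem F166248 : act 1 n107638 = n107602 := d17_6 D24432 (iv5 F38597) (iv1 F40774) (iv5 F47478) (iv4 F78592) D107638 (iv5 D107602) F78545 (iv4 D24434)
def n107639 : Q := act 0 n49727
theorem D107639 : act 0 n49727 = n107639 := rfl
def n107640 : Q := act 1 n49727
theorem D107640 : act 1 n49727 = n107640 := rfl
def n107641 : Q := act 2 n49727
theorem D107641 : act 2 n49727 = n107641 := rfl
def n107642 : Q := act 5 n49727
theorem D107642 : act 5 n49727 = n107642 := rfl
theorem F166249 : act 3 n107642 = n49728 := d6_1 D107642 (iv5 D49728) D49727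
def n107643 : Q := act 6 n49727
theorem D107643 : act 6 n49727 = n107643 := rfl
theorem F166250 : act 3 n107643 = n49729 := d7_1 D107643 (iv6 D49729) D49727
def n107644 : Q := act 0 n49728
theorem D107644 : act 0 n49728 = n107644 := rfl
theorem F166251 : act 5 n107644 = n49742 := d17_1 D107644 (iv1 F78613) D49751 (iv4 F83918) (iv5 D53149) (iv0 D25780) D25783 D53160 (iv4 F83938)
theorem F166252 : act 4 n107644 = n62647 := d18_1 D107644 (iv1 F97728) (iv4 F97573) (iv5 D62577) (iv4 D29588) D29587 (iv4 F78589) (iv0 D49725) D49728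
theorem F166253 : act 1 n49737 = n107644 := d15_0 (iv0 D107644) (iv7 F166007) F166005
theorem F166254 : act 7 n107644 = n50102 := d15_2 F82561 F166253 (iv2 F82559)
def n107645 : Q := act 6 n49728
theorem D107645 : act 6 n49728 = n107645 := rfl
def n107646 : Q := act 0 n49729
theorem D107646 : act 0 n49729 = n107646 := rfl
theorem F166255 : act 4 n107646 = n64103 := d20_2 (iv4 F78593) D107646 F111321 (iv1 F79265) F53527 (iv4 F53548) (iv1 F53551) F53666 D34251 F101936
theorem F166256 : act 6 n59469 = n107646 := d10_0 F166255 F99715 (iv4 F111289)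
def n107647 : Q := act 1 n49729
theorem D107647 : act 1 n49729 = n107647 := rfl
theorem F166257 : act 4 n64104 = n107647 := d20_6 (iv4 F166212) (iv1 F111099) F100586 (iv3 F78142) (iv1 F163567) F163571 (iv1 D107647) F78593 (iv3 F78568) D107620
def n107648 : Q := act 5 n49729
theorem D107648 : act 5 n49729 = n107648 := rfl
def n107649 : Q := act 7 n49729
theorem D107649 : act 7 n49729 = n107649 := rfl
theorem F166258 : act 4 n107649 = n49732 := d11_1 D107649 (iv7 D49732) (iv4 F78593)
def n107650 : Q := act 4 n49730
theorem D107650 : act 4 n49730 = n107650 := rfl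
theorem F166259 : act 2 n107650 = n67795 := d1_1 D107650 F103808 F101945
theorem F166260 : act 6 n107650 = n59475 := d10_2 (iv6 F93873) D107650 (iv4 D59475)
theorem F166261 : act 1 n107650 = n61239 := d15_0 (iv0 F166081) F112191 (iv2 F166259)
def n107651 : Q := act 3 n49734
theorem D107651 : act 3 n49734 = n107651 := rfl
theorem F166262 : act 4 n107651 = n49736 := d5_2 D49734 D107651 (iv3 D49736) (iv4 D24255) (iv3 F38029)
theorem F166263 : act 7 n107651 = n62985 := d8_2 (iv7 F78599) D107651 (iv3 D62985)
def n107652 : Q := act 6 n49734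
theorem D107652 : act 6 n49734 = n107652 := rfl
theorem F166264 : act 2 n107652 = n63028 := d3_1 D107652 (iv6 D63028) (iv2 F78598)
theorem F166265 : act 4 n107652 = n49735 := d10_1 D107652 (iv6 D49735) D49734
theorem F166266 : act 0 n53453 = n107652 := d21_4 D62945 F98203 (iv5 D53452) D53453 (iv6 D107652) (iv5 F80952) (iv1 D51314) (iv5 D24949) (iv6 F23638) D29777
theorem F166267 : act 1 n65439 = n107652 := d15_0 (iv0 F166266) (iv7 F111705) F111703
theorem F166268 : act 7 n65437 = n107652 := d15_2 (iv0 F98345) D65437 F166264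
def n107653 : Q := act 0 n49735
theorem D107653 : act 0 n49735 = n107653 := rfl
theorem F166269 : act 4 n107653 = n74418 := d20_0 (iv1 F111696) (iv4 D65440) (iv3 F79367) (iv1 F79369) (iv3 F48700) (iv4 F100105) F100106 F78605 (iv3 F78603) D107653
theorem F166270 : act 2 n63029 = n107653 := d15_3 (iv0 D107653) (iv0 F78604) F101617
theorem F166271 : act 7 n107653 = n59489 := d4_2 F101617 F166270 F93898
theorem F166272 : act 1 n63031 = n107653 := d15_1 F98348 F166271 F93898
def n107654 : Q := act 7 n49735
theorem D107654 : act 7 n49735 = n107654 := rfl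
theorem F166273 : act 2 n107654 = n63031 := d4_1 D107654 (iv7 D63031) (iv2 F78602)
theorem F166274 : act 3 n107654 = n49740 := d8_1 D107654 (iv7 D49740) (iv3 F78603)
theorem F166275 : act 4 n107654 = n65437 := d11_1 D107654 F166268 F166265
theorem F166276 : act 6 n107654 = n62989 := d14_1 D107654 (iv7 D62989) (iv6 D29799) (iv7 F38030) D49735
theorem F166277 : act 1 n59489 = n107654 := d15_1 (iv0 F93901) (iv7 D107654) F78602
theorem F166278 : act 1 n107654 = n63029 := d15_1 F166277 (iv7 F101617) (iv2 F93898)
def n107655 : Q := act 0 n49736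
theorem D107655 : act 0 n49736 = n107655 := rfl
def n107656 : Q := act 1 n49736
theorem D107656 : act 1 n49736 = n107656 := rfl
def n107657 : Q := act 2 n49736
theorem D107657 : act 2 n49736 = n107657 := rfl
def n107658 : Q := act 5 n49736
theorem D107658 : act 5 n49736 = n107658 := rfl
theorem F166279 : act 3 n107658 = n49737 := d6_1 D107658 (iv5 D49737) D49736
def n107659 : Q := act 6 n49736
theorem D107659 : act 6 n49736 = n107659 := rfl
theorem F166280 : act 3 n107659 = n49738 := d7_1 D107659 (iv6 D49738) D49736
def n107660 : Q := act 6 n49737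
theorem D107660 : act 6 n49737 = n107660 := rfl
def n107661 : Q := act 0 n49738
theorem D107661 : act 0 n49738 = n107661 := rfl
theorem F166281 : act 4 n107661 = n62579 := d20_8 F104283 (iv1 D68123) F50024 (iv3 F50020) F78604 F78603 (iv4 F78605) D107661 F100095 (iv1 F82123)
theorem F166282 : act 7 n59461 = n107661 := d11_0 F166281 F100098 (iv4 F93863)
def n107662 : Q := act 5 n49738
theorem D107662 : act 5 n49738 = n107662 := rfl
def n107663 : Q := act 7 n49738
theorem D107663 : act 7 n49738 = n107663 := rfl
theorem F166283 : act 4 n107663 = n49740 := d11_1 D107663 (iv7 D49740) (iv4 F78605)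
theorem F166284 : act 1 n59461 = n107663 := d15_1 (iv0 F166011) (iv7 D107663) (iv2 F166009)
theorem F166285 : act 0 n60918 = n59388 := d18_2 (iv1 F93625) D60918 F93712 (iv5 F48647) (iv4 F93863) F166284 F166283 F112248 F112244
theorem F166286 : act 0 n61906 = n60917 := d20_4 (iv4 F165533) (iv1 F164159) F96521 (iv3 F96506) (iv3 D60917) D60918 F166285 F93712 F48322 D49336
theorem F166287 : act 1 n51077 = n60917 := d15_0 (iv0 F166286) (iv7 D61906) (iv2 F80557)
def n107664 : Q := act 0 n49741
theorem D107664 : act 0 n49741 = n107664 := rfl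
theorem F166288 : act 6 n107664 = n59674 := d21_5 F78925 F46507 F46502 D49741 D107664 F94078 F166089 F99609 (iv6 D49902) D49900
theorem F166289 : act 3 n52093 = n107664 := d7_3 F166288 (iv3 D59674) (iv6 F82345)
theorem F166290 : act 4 n74262 = n107664 := d20_2 (iv4 F53488) D74262 (iv3 F166289) F82346 F79064 (iv4 F49089) (iv1 F53716) (iv4 D34168) F161256 (iv1 D34077)
theorem F166291 : act 6 n53287 = n74262 := d10_0 F166290 F166288 F163599
def n107665 : Q := act 1 n49741
theorem D107665 : act 1 n49741 = n107665 := rfl
def n107666 : Q := act 7 n49741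
theorem D107666 : act 7 n49741 = n107666 := rfl
theorem F166292 : act 3 n107666 = n49748 := d8_1 D107666 (iv7 D49748) (iv3 F78611)
theorem F166293 : act 5 n107666 = n51026 := d13_1 D107666 F82213 F82211
def n107667 : Q := act 3 n49742
theorem D107667 : act 3 n49742 = n107667 := rfl
theorem F166294 : act 4 n107667 = n50134 := d5_2 (iv4 F78612) D107667 F79404 F38362 (iv3 F38322)
theorem F166295 : act 7 n107667 = n50101 := d8_2 (iv7 F78614) D107667 (iv3 D50101)
def n107668 : Q := act 6 n49742
theorem D107668 : act 6 n49742 = n107668 := rfl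
theorem F166296 : act 4 n107668 = n50103 := d10_1 D107668 (iv6 D50103) (iv4 F78612)
theorem F166297 : act 7 n107668 = n59516 := d14_2 (iv7 F78614) D107668 (iv6 D59516) (iv7 F48048) F48047
theorem F166298 : act 0 n59625 = n107668 := d20_1 D59625 F166296 F79316 F163963 (iv3 D14772) D14773 F94130 F22666 (iv3 F22652) D28295
def n107669 : Q := act 0 n49743
theorem D107669 : act 0 n49743 = n107669 := rfl
def n107670 : Q := act 1 n49743
theorem D107670 : act 1 n49743 = n107670 := rfl
def n107671 : Q := act 2 n49743
theorem D107671 : act 2 n49743 = n107671 := rfl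
def n107672 : Q := act 5 n49743
theorem D107672 : act 5 n49743 = n107672 := rfl
theorem F166299 : act 3 n107672 = n49744 := d6_1 D107672 (iv5 D49744) D49743
def n107673 : Q := act 6 n49743
theorem D107673 : act 6 n49743 = n107673 := rfl
theorem F166300 : act 3 n107673 = n49745 := d7_1 D107673 (iv6 D49745) D49743
def n107674 : Q := act 0 n49744
theorem D107674 : act 0 n49744 = n107674 := rfl
theorem F166301 : act 5 n107674 = n61237 := d17_1 D107674 F95700 D107597 F166002 (iv5 F93574) F93576 D62631 F97687 F83923
theorem F166302 : act 4 n107674 = n61308 := d18_1 D107674 F95792 (iv4 F166032) (iv5 D107608) F78550 F38590 (iv4 F78612) (iv0 D49742) D49744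
theorem F166303 : act 1 n49751 = n107674 := d15_0 (iv0 D107674) (iv7 F162124) F162123
theorem F166304 : act 2 n107638 = n107674 := d1_3 F166302 (iv2 F97710) (iv4 F166246)
theorem F166305 : act 7 n107635 = n107674 := d11_0 F166302 (iv7 F97700) (iv4 F166242)
def n107675 : Q := act 1 n49744
theorem D107675 : act 1 n49744 = n107675 := rfl
theorem F166306 : act 1 n107675 = n49751 := d15_1 D107675 (iv7 F166017) F166015
theorem F166307 : act 7 n107675 = n107638 := d15_2 (iv0 D107674) D107675 F166304
theorem F166308 : act 5 n107675 = n61235 := d17_7 F38005 (iv5 D13759) D13757 (iv5 F23265) D24258 D49744 D107675 F95695 (iv4 D49706)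
theorem F166309 : act 4 n107675 = n61311 := d17_9 F95794 (iv5 D30017) D30015 (iv5 F97727) (iv4 F166252) F166251 (iv0 D49742) D49744 D107675
theorem F166310 : act 2 n107635 = n107675 := d1_3 F166309 (iv2 F97699) (iv4 F166242)
def n107676 : Q := act 6 n49744
theorem D107676 : act 6 n49744 = n107676 := rfl
def n107677 : Q := act 0 n49745
theorem D107677 : act 0 n49745 = n107677 := rfl
theorem F166311 : act 4 n107677 = n64149 := d20_2 (iv4 F78615) D107677 F163552 F84550 F53637 (iv4 F53656) (iv1 F53659) F48995 (iv3 F166146) (iv1 D49747)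
theorem F166312 : act 6 n66577 = n107677 := d10_0 F166311 F163553 D66577
def n107678 : Q := act 1 n49745
theorem D107678 : act 1 n49745 = n107678 := rfl
def n107679 : Q := act 5 n49745
theorem D107679 : act 5 n49745 = n107679 := rfl
def n107680 : Q := act 7 n49745
theorem D107680 : act 7 n49745 = n107680 := rfl
theorem F166313 : act 4 n107680 = n49748 := d11_1 D107680 (iv7 D49748) (iv4 F78615)
def n107681 : Q := act 4 n49746
theorem D107681 : act 4 n49746 = n107681 := rfl
theorem F166314 : act 6 n107681 = n59563 := d10_2 (iv6 F95305) D107681 (iv4 D59563)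
def n107682 : Q := act 5 n49746
theorem D107682 : act 5 n49746 = n107682 := rfl
theorem F166315 : act 0 n67637 = n107682 := d21_1 D67637 (iv5 D107682) F95305 (iv1 D28275) (iv6 D13500) (iv5 F26054) (iv1 D11758) (iv5 F11304) D14809 D31414
def n107683 : Q := act 4 n49747
theorem D107683 : act 4 n49747 = n107683 := rfl
theorem F166316 : act 0 n107683 = n49758 := d18_2 (iv1 F166027) D107683 (iv4 F79311) (iv5 F79622) (iv4 F82246) F82248 F80486 F80316 (iv5 F166025)
def n107684 : Q := act 6 n49747
theorem D107684 : act 6 n49747 = n107684 := rfl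
theorem F166317 : act 3 n107684 = n49783 := d7_1 D107684 (iv6 D49783) (iv3 F166146)
theorem F166318 : act 5 n107684 = n50950 := d12_1 D107684 F93542 (iv5 D59321) D59322 (iv5 F166147)
theorem F166319 : act 7 n107684 = n59560 := d14_2 (iv7 F166148) D107684 (iv6 D59560) (iv7 F166111) (iv6 F79067)
theorem F166320 : act 0 n107684 = n59227 := d21_4 D67642 F166154 (iv5 F166147) D107684 (iv6 F95460) (iv5 D60914) (iv1 F93626) (iv5 F112244) F112245 (iv1 F93852)
theorem E16598 : n67643 = n60850 := ((c21_5 (iv5 D59227) (iv1 F93428) F93422 (iv6 F166238) (iv1 F166239) (iv6 D67643) D67642 F166154 (iv5 F166147) D107684 F166320)).symm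
theorem F166321 : act 6 n60850 = n31415 := (sb E16598 (iv6 D67643))
theorem F166322 : act 0 n107682 = n67642 := d21_1 D107682 (iv5 D67642) (iv6 F166321) (iv1 D60850) F46499 (iv5 D13759) D13757 (iv5 F23265) D24259 D49746
def n107685 : Q := act 0 n49749
theorem D107685 : act 0 n49749 = n107685 := rfl
def n107686 : Q := act 1 n49749
theorem D107686 : act 1 n49749 = n107686 := rfl
def n107687 : Q := act 7 n49749
theorem D107687 : act 7 n49749 = n107687 := rfl
theorem F166323 : act 3 n107687 = n49755 := d8_1 D107687 (iv7 D49755) (iv3 F78616)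
theorem F166324 : act 5 n107687 = n50200 := d13_1 D107687 (iv7 D50200) (iv5 F78617)
theorem F166325 : act 6 n107687 = n65911 := d14_1 D107687 F101605 (iv6 D51093) (iv7 F38966) D49749
def n107688 : Q := act 0 n49750
theorem D107688 : act 0 n49750 = n107688 := rfl
def n107689 : Q := act 1 n49750
theorem D107689 : act 1 n49750 = n107689 := rfl
def n107690 : Q := act 2 n49750
theorem D107690 : act 2 n49750 = n107690 := rfl
def n107691 : Q := act 5 n49750
theorem D107691 : act 5 n49750 = n107691 := rfl
theorem F166326 : act 3 n107691 = n49751 := d6_1 D107691 (iv5 D49751) D49750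
def n107692 : Q := act 6 n49750
theorem D107692 : act 6 n49750 = n107692 := rfl
theorem F166327 : act 3 n107692 = n49752 := d7_1 D107692 (iv6 D49752) D49750
def n107693 : Q := act 6 n49751
theorem D107693 : act 6 n49751 = n107693 := rfl
def n107694 : Q := act 0 n49752
theorem D107694 : act 0 n49752 = n107694 := rfl
def n107695 : Q := act 1 n49752
theorem D107695 : act 1 n49752 = n107695 := rfl
def n107696 : Q := act 5 n49752
theorem D107696 : act 5 n49752 = n107696 := rfl
def n107697 : Q := act 7 n49752
theorem D107697 : act 7 n49752 = n107697 := rfl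
theorem F166328 : act 4 n107697 = n49755 := d11_1 D107697 (iv7 D49755) (iv4 F78618)
def n107698 : Q := act 4 n49753
theorem D107698 : act 4 n49753 = n107698 := rfl
theorem F166329 : act 7 n107698 = n67840 := d11_2 (iv7 F101921) D107698 (iv4 D67840)
theorem F166330 : act 1 n107698 = n49761 := d18_6 (iv1 D64270) (iv4 F78982) F103855 (iv4 D67834) (iv5 F101920) D107698 (iv4 F79313) (iv0 F164924) (iv5 F164920)
def n107699 : Q := act 6 n49753
theorem D107699 : act 6 n49753 = n107699 := rfl
theorem F166331 : act 3 n107699 = n49785 := d7_1 D107699 (iv6 D49785) (iv3 F101919)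
theorem F166332 : act 5 n107699 = n62066 := d12_1 D107699 (iv6 F103860) (iv5 F103857) (iv6 D67835) (iv5 F101920)
theorem F166333 : act 7 n107699 = n59537 := d14_2 (iv7 F101921) D107699 (iv6 D59537) (iv7 F101871) F76925
theorem E16599 : n62066 = n62024 := (c21_7 (iv5 D31512) (iv1 F24506) F24314 D24262 D49753 D107699 F166332 (iv1 D62024) (iv5 F78541) (iv6 D49708) (iv1 F49847))
theorem F166334 : act 2 n62024 = n60830 := (sb E16599 F101886)
theorem F166335 : act 3 n62024 = n29387 := (sb E16599 (iv3 D62066))
theorem F166336 : act 5 n62024 = n107699 := (sb E16599 (iv5 F166332))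
theorem F166337 : act 6 n62024 = n60697 := (sb E16599 (iv6 F103860))
theorem F166338 : act 7 n62024 = n60743 := (sb E16599 F96734)
theorem F166339 : act 0 n107699 = n59627 := d21_10 F94033 (iv1 D59348) F78607 (iv6 F78606) (iv1 F41143) D28211 F45647 (iv1 F101918) (iv5 F101920) D107699
theorem F166340 : act 2 n60743 = n62023 := d15_3 (iv0 D62023) D62024 F166338
theorem F166341 : act 7 n60830 = n62023 := d4_2 (iv7 F166338) F166334 (iv2 F166340)
theorem F166342 : act 3 n62023 = n60696 := d8_1 F166341 (iv7 F103863) F101907
def n107700 : Q := act 4 n49754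
theorem D107700 : act 4 n49754 = n107700 := rfl
theorem F166343 : act 2 n107700 = n67840 := d1_1 D107700 (iv4 D67840) (iv2 F101888)
theorem F166344 : act 6 n107700 = n59531 := d10_2 F93887 D107700 (iv4 D59531)
theorem F166345 : act 0 n107700 = n49761 := d18_2 (iv1 F162121) D107700 (iv4 F79313) F79314 (iv4 F84016) (iv0 F162030) (iv4 D67815) (iv0 F101937) (iv5 F162119)
def n107701 : Q := act 0 n49756
theorem D107701 : act 0 n49756 = n107701 := rfl
def n107702 : Q := act 1 n49756
theorem D107702 : act 1 n49756 = n107702 := rfl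
def n107703 : Q := act 2 n49756
theorem D107703 : act 2 n49756 = n107703 := rfl
def n107704 : Q := act 5 n49756
theorem D107704 : act 5 n49756 = n107704 := rfl
theorem F166346 : act 3 n107704 = n49757 := d6_1 D107704 (iv5 D49757) D49756
def n107705 : Q := act 6 n49756
theorem D107705 : act 6 n49756 = n107705 := rfl
theorem F166347 : act 3 n107705 = n49758 := d7_1 D107705 (iv6 D49758) D49756
def n107706 : Q := act 0 n49757
theorem D107706 : act 0 n49757 = n107706 := rfl
theorem F166348 : act 5 n107706 = n62575 := d17_1 D107706 (iv1 F97566) (iv5 F97737) (iv4 D62649) (iv5 D29624) D29622 D62640 F97713 F83890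
theorem F166349 : act 4 n107706 = n62631 := d18_1 D107706 F97686 F83918 (iv5 D49751) (iv4 D24261) F38017 (iv4 F78555) F78557 D49757
theorem E16600 : n64456 = n59510 := ((c21_4 D49757 D107706 F166348 F97568 (iv1 D64456) (iv6 D30350) (iv5 F45793) (iv1 D28290) (iv5 D13504) (iv6 F18663) D24263)).symm
theorem F166350 : act 0 n59510 = n30350 := (sb E16600 (iv1 D64456))
theorem F166351 : act 2 n67842 = n107706 := d15_3 (iv0 D107706) (iv0 F95409) (iv7 F103876)
theorem F166352 : act 1 n49760 = n107706 := d15_0 (iv0 D107706) (iv7 F166033) F166031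
theorem F166353 : act 7 n107706 = n107629 := d15_2 F95410 F166352 F166223
def n107707 : Q := act 6 n49757
theorem D107707 : act 6 n49757 = n107707 := rfl
def n107708 : Q := act 0 n49758
theorem D107708 : act 0 n49758 = n107708 := rfl
def n107709 : Q := act 5 n49758
theorem D107709 : act 5 n49758 = n107709 := rfl
def n107710 : Q := act 7 n49758
theorem D107710 : act 7 n49758 = n107710 := rfl
def n107711 : Q := act 0 n49759
theorem D107711 : act 0 n49759 = n107711 := rfl
def n107712 : Q := act 1 n49759
theorem D107712 : act 1 n49759 = n107712 := rfl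
def n107713 : Q := act 2 n49759
theorem D107713 : act 2 n49759 = n107713 := rfl
def n107714 : Q := act 5 n49759
theorem D107714 : act 5 n49759 = n107714 := rfl
theorem F166354 : act 3 n107714 = n49760 := d6_1 D107714 (iv5 D49760) D49759
def n107715 : Q := act 6 n49759
theorem D107715 : act 6 n49759 = n107715 := rfl
theorem F166355 : act 3 n107715 = n49761 := d7_1 D107715 (iv6 D49761) D49759
def n107716 : Q := act 6 n49760
theorem D107716 : act 6 n49760 = n107716 := rfl
theorem F166356 : act 4 n107716 = n63161 := d10_1 D107716 (iv6 D63161) (iv4 F78619)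
def n107717 : Q := act 5 n49761
theorem D107717 : act 5 n49761 = n107717 := rfl
def n107718 : Q := act 7 n49761
theorem D107718 : act 7 n49761 = n107718 := rfl
theorem F166357 : act 1 n67840 = n107718 := d15_1 (iv0 F166037) (iv7 D107718) (iv2 F166035)
def n107719 : Q := act 0 n49762
theorem D107719 : act 0 n49762 = n107719 := rfl
theorem F166358 : act 2 n49766 = n107719 := d15_3 (iv0 D107719) (iv0 D49762) D49766
theorem F166359 : act 4 n107719 = n49787 := d1_2 (iv4 F78624) F166358 (iv2 F78698)
def n107720 : Q := act 2 n49762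
theorem D107720 : act 2 n49762 = n107720 := rfl
theorem F166362 : act 7 n49763 = n107720 := d15_2 (iv0 D49762) D49763 (iv2 D107720)
def n107721 : Q := act 3 n49762
theorem D107721 : act 3 n49762 = n107721 := rfl
def n107722 : Q := act 4 n49762
theorem D107722 : act 4 n49762 = n107722 := rfl
def n107725 : Q := act 7 n49762
theorem D107725 : act 7 n49762 = n107725 := rfl
theorem F166363 : act 2 n107725 = n49763 := d4_1 D107725 F166362 (iv2 D107720)
def n107726 : Q := act 3 n49763
theorem D107726 : act 3 n49763 = n107726 := rfl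
def n107729 : Q := act 1 n49764
theorem D107729 : act 1 n49764 = n107729 := rfl
theorem F166364 : act 1 n107729 = n49766 := d15_1 D107729 (iv7 D49766) D49764
def n107734 : Q := act 6 n49765
theorem D107734 : act 6 n49765 = n107734 := rfl
theorem F166366 : act 3 n107734 = n49770 := d7_1 D107734 (iv6 D49770) (iv3 F78622)
theorem F166367 : act 5 n107734 = n59607 := d12_1 D107734 (iv6 D59607) (iv5 D28287) (iv6 F38033) D49765
def n107736 : Q := act 6 n49766
theorem D107736 : act 6 n49766 = n107736 := rfl
theorem F166371 : act 4 n107736 = n49805 := d10_1 D107736 (iv6 D49805) (iv4 F78624)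
theorem F166372 : act 7 n107736 = n59609 := d14_2 D49766 D107736 (iv6 D59609) (iv7 D28288) (iv6 F38033)
def n107737 : Q := act 3 n49767
theorem D107737 : act 3 n49767 = n107737 := rfl
theorem F166373 : act 5 n107737 = n61238 := d6_2 (iv5 F78625) D107737 (iv3 D61238)
def n107739 : Q := act 3 n49768
theorem D107739 : act 3 n49768 = n107739 := rfl
def n107740 : Q := act 6 n49768
theorem D107740 : act 6 n49768 = n107740 := rfl
theorem F166374 : act 4 n107740 = n61319 := d10_1 D107740 (iv6 D61319) F79298
def n107741 : Q := act 3 n49769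
theorem D107741 : act 3 n49769 = n107741 := rfl
theorem F166375 : act 5 n107741 = n53132 := d6_2 (iv5 F78626) D107741 F83860
theorem F166376 : act 7 n107741 = n53131 := d8_2 F78627 D107741 F83859
def n107742 : Q := act 6 n49769
theorem D107742 : act 6 n49769 = n107742 := rfl
theorem F166377 : act 4 n107742 = n49770 := d10_1 D107742 (iv6 D49770) D49769
def n107743 : Q := act 0 n49770
theorem D107743 : act 0 n49770 = n107743 := rfl
def n107744 : Q := act 1 n49770
theorem D107744 : act 1 n49770 = n107744 := rfl
def n107745 : Q := act 7 n49770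
theorem D107745 : act 7 n49770 = n107745 := rfl
theorem F166378 : act 5 n107745 = n59618 := d13_1 D107745 (iv7 D59618) (iv5 F78628)
def n107746 : Q := act 6 n49771
theorem D107746 : act 6 n49771 = n107746 := rfl
theorem F166379 : act 4 n107746 = n53135 := d10_1 D107746 (iv6 D53135) (iv4 F78629)
def n107747 : Q := act 0 n49772
theorem D107747 : act 0 n49772 = n107747 := rfl
theorem F166380 : act 2 n59621 = n107747 := d15_3 (iv0 D107747) (iv0 F101316) F100714
theorem F166381 : act 1 n59435 = n107747 := d15_0 (iv0 D107747) F78632 (iv2 F93819)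
theorem F166382 : act 7 n107747 = n59620 := d15_2 (iv0 F100715) F166381 (iv2 F100716)
theorem F166383 : act 4 n64275 = n107747 := d11_3 F166382 (iv4 F163985) (iv7 F164001)
def n107748 : Q := act 5 n49772
theorem D107748 : act 5 n49772 = n107748 := rfl
theorem F166384 : act 7 n107748 = n59622 := d13_2 (iv7 F78632) D107748 (iv5 D59622)
def n107749 : Q := act 2 n49773
theorem D107749 : act 2 n49773 = n107749 := rfl
theorem F166385 : act 7 n49774 = n107749 := d15_2 (iv0 D49773) D49774 (iv2 D107749)
def n107750 : Q := act 3 n49773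
theorem D107750 : act 3 n49773 = n107750 := rfl
theorem F166386 : act 4 n107750 = n53357 := d20_6 D26022 F100814 F38056 (iv3 F38035) D49773 D107750 (iv1 D53357) F40843 F20333 D12333
def n107751 : Q := act 4 n49773
theorem D107751 : act 4 n49773 = n107751 := rfl
theorem F166387 : act 0 n107751 = n59516 := d20_1 D107751 F93940 F48642 F163970 (iv3 D26021) D26022 F100814 F38056 (iv3 F38035) D49773
def n107752 : Q := act 6 n49773
theorem D107752 : act 6 n49773 = n107752 := rfl
theorem F166388 : act 5 n107752 = n59217 := d12_1 D107752 (iv6 F103658) (iv5 D67637) D67638 F103659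
theorem F166389 : act 0 n59560 = n107752 := d21_10 F166388 (iv1 D59217) F45764 (iv6 F49844) F49846 (iv6 F76902) (iv5 D48825) D48823 F103697 D59560
def n107753 : Q := act 7 n49773
theorem D107753 : act 7 n49773 = n107753 := rfl
theorem F166390 : act 2 n107753 = n49774 := d4_1 D107753 F166385 (iv2 D107749)
def n107754 : Q := act 3 n49774
theorem D107754 : act 3 n49774 = n107754 := rfl
def n107755 : Q := act 4 n49774
theorem D107755 : act 4 n49774 = n107755 := rfl
def n107756 : Q := act 5 n49774
theorem D107756 : act 5 n49774 = n107756 := rfl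
theorem F166391 : act 6 n107756 = n107631 := d12_2 (iv6 F95464) D107756 F166229 (iv6 D60920) D60919
theorem F166392 : act 0 n107756 = n74754 := d21_1 D107756 F112193 (iv6 D53873) (iv1 F101929) (iv6 D13482) (iv5 D6413) (iv1 F10461) (iv5 F22610) D28222 (iv1 F78634)
def n107757 : Q := act 2 n49775
theorem D107757 : act 2 n49775 = n107757 := rfl
theorem F166393 : act 6 n107757 = n107535 := d3_2 (iv6 F94058) D107757 F165908
theorem F166394 : act 7 n49776 = n107757 := d15_2 (iv0 D49775) D49776 (iv2 D107757)
theorem F166395 : act 7 n68189 = n107521 := d14_4 F166394 F166393 (iv7 D107535) (iv6 F104338) F165888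
theorem E16601 : n107522 = n31743 := (c13_3 F166395 (iv5 D107521) D107522 D68189)
theorem E16602 : n68186 = n49670 := (((iv2 F104336)).symm.trans (sb E16601 F165891))
theorem E16603 : n68182 = n49669 := ((F104332).symm.trans (sb E16601 (iv7 D107522)))
theorem F166396 : act 2 n49670 = n31743 := (sb E16602 F104336)
theorem E16604 : n107518 = n31742 := ((F165886).symm.trans (sb E16602 (iv7 D68186)))
theorem F166397 : act 7 n49669 = n31743 := (sb E16603 (iv7 F104332))
theorem F166398 : act 2 n31742 = n49669 := (sb E16604 (iv2 D107518))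
theorem F166399 : act 7 n31742 = n49670 := (sb E16604 (iv7 F165886))
theorem F166400 : act 2 n107521 = n68185 := d15_3 F104335 F104341 F166395
theorem F166401 : act 2 n68189 = n51221 := d15_3 (iv0 F100266) (iv0 F165889) (iv7 F166395)
theorem E16605 : n51217 = n49675 := (c3_4 (iv6 F104338) F166401 (iv6 D51221) D51217)
theorem E16606 : n107533 = n24914 := ((D107533).symm.trans (sb E16605 (iv2 D51217)))
theorem E16607 : n107256 = n106427 := (((F165334).symm.trans (sb E16605 (iv4 F165303)))).symm
theorem E16608 : n59669 = n59659 := ((((iv5 F94054)).symm.trans (sb E16605 (iv5 F94071)))).symm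
theorem E16609 : n107535 = n24915 := ((D107535).symm.trans (sb E16605 (iv7 F80813)))
theorem F166402 : act 2 n24914 = n49675 := (sb E16606 (iv2 D107533))
theorem E16610 : n51222 = n49676 := ((D51222).symm.trans (sb E16606 (iv7 F165906)))
theorem F166403 : act 2 n106427 = n49554 := (sb E16607 (iv2 D107256))
theorem F166404 : act 7 n106427 = n49555 := (sb E16607 (iv7 F165304))
theorem F166405 : act 2 n59659 = n28316 := (sb E16608 (iv2 D59669))
theorem F166406 : act 7 n59659 = n28317 := (sb E16608 (iv7 F94072))
theorem E16611 : n107757 = n51155 := ((((iv6 F80802)).symm.trans (sb E16609 (iv6 F166393)))).symm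
theorem F166407 : act 7 n24915 = n49675 := (sb E16609 (iv7 D107535))
theorem F166408 : act 2 n49676 = n24915 := (sb E16610 F80815)
theorem E16612 : n107260 = n106428 := (((F163682).symm.trans (sb E16610 (iv4 F165307)))).symm
theorem E16613 : n59673 = n59660 := (((F94057).symm.trans (sb E16610 (iv5 F94077)))).symm
theorem F166409 : act 7 n49676 = n24914 := (sb E16610 (iv7 D51222))
theorem F166410 : act 2 n51155 = n49775 := (sb E16611 (iv2 D107757))
theorem F166411 : act 7 n51155 = n49776 := (sb E16611 (iv7 F166394))
theorem F166412 : act 2 n106428 = n49555 := (sb E16612 F165306)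
theorem F166413 : act 7 n106428 = n49554 := (sb E16612 (iv7 D107260))
theorem F166414 : act 2 n59660 = n28317 := (sb E16613 F94076)
theorem F166415 : act 7 n59660 = n28316 := (sb E16613 (iv7 D59673))
theorem F166416 : act 7 n51221 = n68185 := d4_2 (iv7 F166395) F166401 (iv2 F166400)
theorem F166417 : act 7 n51156 = n49775 := d14_2 F166416 F104333 F94058 F166409 D51221
theorem F166418 : act 2 n49776 = n51156 := d4_3 F166417 (iv2 F166410) F166411
theorem F166419 : act 2 n58967 = n59215 := d2_3 F93418 F166418 (iv5 F93171)
theorem E16614 : n59211 = n28023 := (c3_4 D58967 F166419 (iv6 D59215) (iv2 F93415))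
theorem E16615 : n58963 = n28118 := ((D58963).symm.trans (sb E16614 F93415))
theorem E16616 : n58968 = n28117 := ((D58968).symm.trans (sb E16614 (iv7 D59211)))
theorem F166420 : act 2 n28118 = n28023 := (sb E16615 (iv2 D58963))
theorem E16617 : n59206 = n28024 := ((F93409).symm.trans (sb E16615 (iv7 F93167)))
theorem F166421 : act 7 n28117 = n28023 := (sb E16616 (iv7 D58968))
theorem F166422 : act 2 n28024 = n28117 := (sb E16617 (iv2 D59206))
theorem F166423 : act 7 n28024 = n28118 := (sb E16617 (iv7 F93409))
theorem F166424 : act 7 n59212 = n58969 := d8_2 F166423 D59212 (iv3 D58969)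
theorem F166425 : act 7 n52408 = n58970 := d11_2 F166423 (iv4 F161334) (iv4 D58970)
theorem F166426 : act 7 n59214 = n58971 := d13_2 F166423 D59214 (iv5 D58971)
theorem F166427 : act 7 n58806 = n50941 := d14_2 F166426 F93174 (iv6 F104340) (iv7 F166397) (iv6 F93417)
theorem F166428 : act 2 n58971 = n59209 := d15_3 (iv0 F164080) F164081 F166426
theorem F166429 : act 2 n59214 = n58966 := d15_3 (iv0 F164063) F164064 (iv7 F166426)
theorem F166430 : act 7 n58966 = n59209 := d4_2 (iv7 F166426) F166429 (iv2 F166428)
theorem F166431 : act 7 n50940 = n58807 := d14_2 F166430 F93411 (iv6 F94075) (iv7 F166399) (iv6 F93169)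
theorem F166432 : act 2 n58807 = n50941 := d15_3 F92979 F92980 F166431
theorem F166433 : act 2 n50940 = n58806 := d4_1 (iv7 F166431) F166427 (iv2 F166432)
theorem F166434 : act 2 n58970 = n52407 := d15_3 (iv0 D52407) D52408 F166425
theorem F166435 : act 2 n52408 = n58965 := d15_3 F161315 (iv0 F161342) (iv7 F166425)
theorem F166436 : act 7 n58965 = n52407 := d4_2 (iv7 F166425) F166435 (iv2 F166434)
theorem F166437 : act 2 n59210 = n58972 := d3_3 (iv6 D58972) F166422 D59210
theorem F166438 : act 2 n49982 = n52094 := d2_3 (iv5 F93413) F166437 F93175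
theorem F166439 : act 7 n52093 = n49982 := d15_2 F82347 (iv0 F82346) F166438
theorem F166440 : act 7 n49981 = n52094 := d15_2 F82352 F82356 (iv2 F166438)
theorem F166441 : act 2 n52093 = n49981 := d4_3 F166440 (iv2 F166438) (iv7 F166439)
theorem F166442 : act 7 n58964 = n59207 := d8_2 F166421 D58964 (iv3 D59207)
theorem F166443 : act 7 n51526 = n50400 := d11_2 F166442 F93410 (iv4 F93168)
theorem F166444 : act 2 n58964 = n65371 := d15_3 (iv0 D65371) (iv0 F166162) (iv7 F166442)
theorem F166445 : act 2 n50400 = n51525 := d15_3 (iv0 D51525) D51526 F166443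
theorem F166446 : act 2 n51526 = n50399 := d15_3 (iv0 D50399) D50400 (iv7 F166443)
theorem F166447 : act 7 n50399 = n51525 := d4_2 (iv7 F166443) F166446 (iv2 F166445)
theorem F166448 : act 4 n51525 = n65371 := d1_2 F93168 F166445 (iv2 F166444)
theorem F166449 : act 7 n59670 = n66548 := d8_2 F166415 D59670 F102410
theorem F166450 : act 7 n59671 = n64632 := d11_2 F166415 D59671 (iv4 F161379)
theorem F166451 : act 2 n64632 = n59675 := d15_3 F163547 (iv0 F161382) F166450
theorem F166452 : act 2 n59671 = n64631 := d15_3 (iv0 D64631) D64632 (iv7 F166450)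
theorem F166453 : act 7 n64631 = n59675 := d4_2 (iv7 F166450) F166452 (iv2 F166451)
theorem E16618 : n66541 = n66495 := (c11_3 F166449 (iv4 D66548) F102408 (iv4 F102386))
theorem F166454 : act 2 n66495 = n31057 := (sb E16618 (iv2 D66541))
theorem F166455 : act 7 n66495 = n31058 := (sb E16618 (iv7 F102408))
theorem F166456 : act 7 n59544 = n51127 := d13_2 F166449 (iv5 F166140) F166202
theorem F166457 : act 2 n51127 = n59543 := d15_3 (iv0 D59543) D59544 F166456
theorem F166458 : act 2 n59544 = n51128 := d15_3 F93974 F93975 (iv7 F166456)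
theorem F166459 : act 7 n51128 = n59543 := d4_2 (iv7 F166456) F166458 (iv2 F166457)
theorem E16619 : n66546 = n66496 := (c15_4 F102380 F102384 F166455 (iv2 F102409))
theorem F166460 : act 2 n66496 = n31058 := (sb E16619 F102409)
theorem F166461 : act 7 n66496 = n31057 := (sb E16619 (iv7 D66546))
theorem F166462 : act 2 n66543 = n59670 := d1_3 F102386 F166454 D66543
theorem F166463 : act 5 n59543 = n66543 := d2_0 F166462 (iv5 F166202) F166457
theorem F166464 : act 1 n66544 = n74360 := d17_6 (iv1 D63359) F48122 D59543 F166463 (iv4 D66543) D66544 (iv5 D74360) D74359 (iv4 F112157)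
theorem F166465 : act 4 n53587 = n59543 := d18_3 (iv1 D25952) (iv4 F41014) D53587 F166463 (iv4 D66543) (iv0 D31057) F24369 D14693 (iv5 F84548)
theorem F166466 : act 7 n64775 = n51223 := d8_2 F166407 (iv3 F166214) (iv3 D51223)
theorem E16620 : n64668 = n63991 := (c11_3 F166466 F161378 F100564 (iv4 F166215))
theorem F166467 : act 2 n63991 = n30426 := (sb E16620 (iv2 D64668))
theorem F166468 : act 7 n63991 = n30427 := (sb E16620 (iv7 F100564))
theorem F166469 : act 2 n64775 = n64670 := d15_3 (iv0 F166207) (iv0 F166089) (iv7 F166466)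
theorem F166470 : act 3 n64670 = n59543 := d0_2 (iv3 F166214) F166469 (iv2 F166457) F166201 F166402
theorem F166471 : act 7 n64776 = n64670 := d15_2 (iv0 D64775) D64776 (iv2 F166469)
theorem F166472 : act 2 n51223 = n64776 := d4_3 F166471 (iv2 F166469) F166466
theorem F166473 : act 3 n51128 = n64776 := d8_3 F166471 F166470 (iv7 F166459)
theorem F166474 : act 4 n64673 = n64776 := d11_3 F166471 (iv4 D64670) D64673
theorem F166475 : act 1 n64777 = n64670 := d15_1 F166092 (iv7 F166471) (iv2 F166472)
theorem E16621 : n66577 = n59553 := (c20_1 D66577 (iv1 D59553) F45780 (iv3 F45778) D59543 (iv3 F166470) (iv4 D64670) (iv1 F99573) F99569 (iv3 F99551) (iv1 F163548))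
theorem F166476 : act 2 n59553 = n107274 := (sb E16621 (iv2 F165329))
theorem F166477 : act 4 n59553 = n31067 := (sb E16621 (iv4 D66577))
theorem F166478 : act 6 n59553 = n107677 := (sb E16621 F166312)
theorem E16622 : n64673 = n63992 := (c15_4 F99566 F99571 F166468 (iv2 F100565))
theorem F166479 : act 2 n63992 = n30427 := (sb E16622 F100565)
theorem F166480 : act 4 n63992 = n64776 := (sb E16622 F166474)
theorem F166481 : act 7 n63992 = n30426 := (sb E16622 (iv7 D64673))
theorem F166482 : act 0 n51126 = n53593 := d20_1 (iv4 F80646) (iv4 D53593) (iv3 F104351) F82119 F48849 (iv4 F48852) (iv1 F99566) F166480 (iv3 F166473) (iv1 D51128)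
theorem F166483 : act 0 n59674 = n51123 := d20_4 (iv4 F100551) (iv1 F163547) (iv4 D59675) D59674 F80642 (iv4 F80646) F166482 (iv4 D53593) (iv3 F104351) F82119
theorem F166484 : act 7 n107523 = n68183 := d8_2 F166399 D107523 (iv3 D68183)
theorem F166485 : act 7 n107524 = n68184 := d11_2 F166399 D107524 (iv4 D68184)
theorem F166486 : act 2 n107520 = n68184 := d1_3 (iv4 D68184) F166398 D107520
theorem F166487 : act 1 n107520 = n52013 := d15_0 (iv0 F165892) F166485 (iv2 F166486)
theorem F166488 : act 7 n68187 = n107519 := d8_2 F166397 D68187 (iv3 D107519)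
theorem F166489 : act 7 n68188 = n107520 := d11_2 F166397 D68188 (iv4 D107520)
theorem F166490 : act 2 n107524 = n68188 := d4_3 F166489 F166486 (iv7 F166485)
theorem E16623 : n107164 = n68184 := ((c15_4 (iv0 D107164) (iv0 F104337) F166489 F166486)).symm
theorem F166491 : act 1 n68184 = n49511 := (sb E16623 (iv0 D107164))
def n107758 : Q := act 3 n49775
theorem D107758 : act 3 n49775 = n107758 := rfl
theorem F166492 : act 6 n107758 = n59544 := d7_2 (iv6 F94058) D107758 F166138
def n107759 : Q := act 4 n49775
theorem D107759 : act 4 n49775 = n107759 := rfl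
theorem F166493 : act 2 n107759 = n107263 := d1_1 D107759 F165309 F166410
theorem F166494 : act 6 n107759 = n106428 := d10_2 (iv6 F94058) D107759 (iv4 F163682)
theorem F166495 : act 7 n107759 = n106979 := d11_2 F166417 D107759 F164891
theorem F166496 : act 0 n107759 = n106981 := d18_2 D49775 D107759 F164893 F78159 (iv4 F94225) (iv0 D59826) F45881 (iv0 F39720) F39719
theorem F166497 : act 0 n65913 = n107758 := d20_4 D74270 F111158 (iv4 F82417) (iv3 F101609) (iv3 D107758) D107759 F166496 F164893 (iv3 F111008) (iv1 F111011)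
theorem E16624 : n105589 = n66548 := ((c21_7 F47952 D50106 (iv5 F80545) (iv6 F101610) F166497 F166492 F166140 (iv1 D105589) F76898 (iv6 D29799) D29796)).symm
theorem F166498 : act 0 n66548 = n48819 := (sb E16624 (iv1 D105589))
theorem E16625 : n105588 = n66543 := ((c15_4 (iv0 D105588) (iv0 F166498) (iv7 F166449) (iv2 F166462))).symm
theorem F166499 : act 1 n66543 = n48819 := (sb E16625 (iv0 D105588))
theorem E16626 : n107243 = n105598 := (c20_7 (iv4 D66543) (iv1 F102387) F102383 (iv3 F84527) (iv1 F84530) (iv3 F163550) D107243 (iv1 D105598) F76899 (iv3 F76897) (iv1 F166499))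
theorem F166500 : act 4 n105598 = n49548 := (sb E16626 (iv4 D107243))
theorem E16627 : n107263 = n106978 := (c15_4 (iv0 D106978) D106979 (iv7 F166495) F166493)
theorem F166501 : act 2 n106978 = n107759 := (sb E16627 (iv2 F166493))
theorem F166502 : act 4 n106978 = n51155 := (sb E16627 F165309)
theorem F166503 : act 6 n106978 = n49555 := (sb E16627 (iv6 D107263))
def n107760 : Q := act 5 n49775
theorem D107760 : act 5 n49775 = n107760 := rfl
theorem F166504 : act 7 n107760 = n58967 := d13_2 F166417 D107760 F93171
theorem F166505 : act 0 n107760 = n68138 := d21_1 D107760 (iv5 D68138) (iv6 F100233) (iv1 D60575) F46404 (iv5 D13719) F22957 (iv5 F18666) D24269 D49775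
theorem F166506 : act 0 n58884 = n107760 := d21_10 (iv5 D107760) (iv1 F80706) F80703 (iv6 F92977) (iv1 F92979) (iv6 F104340) D68189 (iv1 F104341) F80848 D58884
def n107761 : Q := act 3 n49776
theorem D107761 : act 3 n49776 = n107761 := rfl
def n107762 : Q := act 4 n49776
theorem D107762 : act 4 n49776 = n107762 := rfl
theorem F166507 : act 2 n107762 = n106979 := d1_1 D107762 F164891 (iv2 F166418)
theorem F166508 : act 7 n107762 = n106978 := d11_2 F166411 D107762 F166502
theorem F166509 : act 0 n107762 = n58750 := d18_2 (iv1 F80705) D107762 F92841 F77634 (iv4 F92989) F92991 F82852 F45885 (iv5 F80703)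
theorem F166510 : act 1 n107762 = n106981 := d15_1 (iv0 F166509) (iv7 D106981) (iv2 F92840)
theorem F166511 : act 1 n107759 = n58750 := d15_0 (iv0 F166509) F166508 F166501
theorem F166512 : act 0 n107761 = n58738 := d20_4 (iv4 F164893) (iv1 F166510) (iv4 D107762) D107761 (iv3 F98567) F98568 (iv1 F111783) (iv4 D74462) D74461 F163596
def n107763 : Q := act 4 n49779
theorem D107763 : act 4 n49779 = n107763 := rfl
theorem F166513 : act 6 n107763 = n59684 := d10_2 (iv6 F78640) D107763 (iv4 D59684)
theorem F166514 : act 0 n74255 = n107763 := d20_7 (iv4 F49089) (iv1 F53716) (iv4 D34168) F161256 (iv1 D34077) (iv3 F53476) (iv4 F111135) (iv4 D107763) (iv3 D49779) F38216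
def n107764 : Q := act 5 n49779
theorem D107764 : act 5 n49779 = n107764 := rfl
theorem F166515 : act 3 n107764 = n49780 := d6_1 D107764 (iv5 D49780) D49779
theorem F166516 : act 7 n107764 = n59115 := d13_2 F166175 D107764 (iv5 F166173)
theorem F166517 : act 0 n107764 = n59026 := d21_1 D107764 F162045 F162046 (iv1 F104432) (iv6 D49904) F38149 F38866 (iv5 F38865) D49891 F166080
theorem F166518 : act 0 n58995 = n107764 := d21_1 F162041 (iv5 D107764) F78640 F166071 (iv6 D48782) (iv5 F37078) (iv1 F37081) (iv5 F37104) D48793 D105531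
def n107765 : Q := act 4 n49780
theorem D107765 : act 4 n49780 = n107765 := rfl
theorem F166520 : act 0 n107765 = n51813 := d17_0 F81826 (iv1 D51044) (iv5 D24826) F19111 (iv5 F11309) D14813 (iv5 F45323) (iv0 F78641) D107765
def n107766 : Q := act 4 n49786
theorem D107766 : act 4 n49786 = n107766 := rfl
theorem F166522 : act 6 n107766 = n59645 := d10_2 (iv6 F78696) D107766 (iv4 D59645)
theorem F166523 : act 7 n107766 = n67834 := d11_2 (iv7 F78697) D107766 (iv4 D67834)
theorem F166524 : act 0 n107766 = n64305 := d18_2 (iv1 F162103) D107766 (iv4 D64305) (iv5 D30288) (iv4 F48704) (iv0 F111240) (iv4 D53872) D53870 F101932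
def n107767 : Q := act 6 n49787
theorem D107767 : act 6 n49787 = n107767 := rfl
theorem F166525 : act 2 n107767 = n49805 := d3_1 D107767 (iv6 D49805) F78698
theorem F166526 : act 7 n107767 = n59685 := d14_2 (iv7 F78699) D107767 (iv6 D59685) F45836 (iv6 F38052)
theorem F166527 : act 1 n59758 = n107767 := d15_1 D59758 F166526 F94081
theorem F166528 : act 1 n107767 = n59757 := d15_0 (iv0 D59757) (iv7 F78710) (iv2 F166525)
def n107768 : Q := act 0 n49788
theorem D107768 : act 0 n49788 = n107768 := rfl
theorem F166529 : act 1 n49793 = n107768 := d15_0 (iv0 D107768) (iv7 F78701) (iv2 F78702)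
def n107769 : Q := act 1 n49788
theorem D107769 : act 1 n49788 = n107769 := rfl
def n107770 : Q := act 3 n49788
theorem D107770 : act 3 n49788 = n107770 := rfl
theorem F166531 : act 7 n107770 = n49794 := d8_2 F78701 D107770 (iv3 D49794)
def n107771 : Q := act 4 n49788
theorem D107771 : act 4 n49788 = n107771 := rfl
theorem F166532 : act 2 n107771 = n49790 := d1_1 D107771 (iv4 D49790) D49788
theorem F166533 : act 7 n107771 = n49795 := d11_2 F78701 D107771 (iv4 D49795)
def n107772 : Q := act 5 n49788
theorem D107772 : act 5 n49788 = n107772 := rfl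
theorem F166534 : act 2 n107772 = n49791 := d2_1 D107772 (iv5 D49791) D49788
theorem F166535 : act 7 n107772 = n49796 := d13_2 F78701 D107772 (iv5 D49796)
def n107774 : Q := act 0 n49789
theorem D107774 : act 0 n49789 = n107774 := rfl
def n107775 : Q := act 1 n49789
theorem D107775 : act 1 n49789 = n107775 := rfl
def n107776 : Q := act 2 n49789
theorem D107776 : act 2 n49789 = n107776 := rfl
def n107777 : Q := act 5 n49789
theorem D107777 : act 5 n49789 = n107777 := rfl
theorem F166537 : act 3 n107777 = n49791 := d6_1 D107777 (iv5 D49791) D49789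
def n107778 : Q := act 6 n49789
theorem D107778 : act 6 n49789 = n107778 := rfl
def n107779 : Q := act 7 n49789
theorem D107779 : act 7 n49789 = n107779 := rfl
theorem F166539 : act 3 n107779 = n49793 := d8_1 D107779 (iv7 D49793) D49789
def n107780 : Q := act 0 n49790
theorem D107780 : act 0 n49790 = n107780 := rfl
theorem F166540 : act 4 n107780 = n74592 := d20_2 D49790 D107780 (iv3 D74592) (iv1 D34202) (iv3 D16554) F11952 (iv1 D5309) D5310 D11426 D24276
def n107781 : Q := act 1 n49790
theorem D107781 : act 1 n49790 = n107781 := rfl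
theorem F166541 : act 1 n107781 = n49795 := d15_1 D107781 (iv7 F166533) F166532
def n107782 : Q := act 3 n49790
theorem D107782 : act 3 n49790 = n107782 := rfl
def n107785 : Q := act 7 n49790
theorem D107785 : act 7 n49790 = n107785 := rfl
theorem F166543 : act 2 n107785 = n49795 := d4_1 D107785 (iv7 F166533) F166532
theorem F166544 : act 4 n107785 = n49793 := d11_1 D107785 (iv7 D49793) D49790
theorem F166545 : act 1 n49795 = n107780 := d15_0 (iv0 D107780) D107785 F166543
def n107786 : Q := act 0 n49791
theorem D107786 : act 0 n49791 = n107786 := rfl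
def n107787 : Q := act 1 n49791
theorem D107787 : act 1 n49791 = n107787 := rfl
theorem F166546 : act 1 n107787 = n49796 := d15_1 D107787 (iv7 F166535) F166534
def n107788 : Q := act 4 n49791
theorem D107788 : act 4 n49791 = n107788 := rfl
def n107790 : Q := act 7 n49791
theorem D107790 : act 7 n49791 = n107790 := rfl
theorem F166547 : act 2 n107790 = n49796 := d4_1 D107790 (iv7 F166535) F166534
theorem F166548 : act 5 n107790 = n49793 := d13_1 D107790 (iv7 D49793) D49791
theorem F166549 : act 1 n49796 = n107786 := d15_0 (iv0 D107786) D107790 F166547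
def n107796 : Q := act 0 n49794
theorem D107796 : act 0 n49794 = n107796 := rfl
theorem F166551 : act 4 n107796 = n65257 := d20_0 (iv1 F111967) (iv4 D74567) F53809 (iv1 F53831) D74592 (iv4 F166540) (iv1 F166545) (iv4 D49795) D49794 D107796
def n107797 : Q := act 1 n49794
theorem D107797 : act 1 n49794 = n107797 := rfl
def n107798 : Q := act 2 n49794
theorem D107798 : act 2 n49794 = n107798 := rfl
def n107799 : Q := act 4 n49794
theorem D107799 : act 4 n49794 = n107799 := rfl
theorem F166552 : act 0 n74559 = n107799 := d20_1 D74559 (iv4 D107799) (iv3 D49794) (iv1 D24277) (iv3 D11426) (iv4 D5310) D5308 (iv4 F11946) D16551 D34192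
def n107800 : Q := act 5 n49794
theorem D107800 : act 5 n49794 = n107800 := rfl
def n107802 : Q := act 3 n49795
theorem D107802 : act 3 n49795 = n107802 := rfl
def n107811 : Q := act 2 n49798
theorem D107811 : act 2 n49798 = n107811 := rfl
theorem F166556 : act 7 n49799 = n107811 := d15_2 (iv0 D49798) D49799 (iv2 D107811)
def n107812 : Q := act 3 n49798
theorem D107812 : act 3 n49798 = n107812 := rfl
def n107813 : Q := act 4 n49798
theorem D107813 : act 4 n49798 = n107813 := rfl
def n107822 : Q := act 2 n49801
theorem D107822 : act 2 n49801 = n107822 := rfl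
theorem F166561 : act 7 n49802 = n107822 := d15_2 (iv0 D49801) D49802 (iv2 D107822)
def n107823 : Q := act 3 n49801
theorem D107823 : act 3 n49801 = n107823 := rfl
theorem F166562 : act 4 n107823 = n74897 := d20_6 F26228 (iv1 F18826) F18823 (iv3 F38053) D49801 D107823 (iv1 D74897) F54479 (iv3 D16629) (iv1 F26225)
def n107824 : Q := act 4 n49801
theorem D107824 : act 4 n49801 = n107824 := rfl
def n107825 : Q := act 5 n49801
theorem D107825 : act 5 n49801 = n107825 := rfl
def n107826 : Q := act 6 n49801
theorem D107826 : act 6 n49801 = n107826 := rfl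
def n107827 : Q := act 7 n49801
theorem D107827 : act 7 n49801 = n107827 := rfl
def n107828 : Q := act 3 n49802
theorem D107828 : act 3 n49802 = n107828 := rfl
def n107830 : Q := act 5 n49802
theorem D107830 : act 5 n49802 = n107830 := rfl
def n107838 : Q := act 7 n49804
theorem D107838 : act 7 n49804 = n107838 := rfl
theorem F166567 : act 3 n107838 = n49808 := d8_1 D107838 (iv7 D49808) (iv3 F78707)
theorem F166568 : act 5 n107838 = n59756 := d13_1 D107838 (iv7 D59756) (iv5 F78708)
def n107839 : Q := act 0 n49805
theorem D107839 : act 0 n49805 = n107839 := rfl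
theorem F166569 : act 1 n59685 = n107839 := d15_0 (iv0 D107839) F78710 (iv2 F94081)
def n107841 : Q := act 5 n49805
theorem D107841 : act 5 n49805 = n107841 := rfl
theorem F166571 : act 3 n107841 = n49809 := d6_1 D107841 (iv5 D49809) (iv3 F78709)
def n107842 : Q := act 2 n49806
theorem D107842 : act 2 n49806 = n107842 := rfl
theorem F166573 : act 7 n49807 = n107842 := d15_2 (iv0 D49806) D49807 (iv2 D107842)
def n107843 : Q := act 3 n49806
theorem D107843 : act 3 n49806 = n107843 := rfl
def n107844 : Q := act 4 n49806
theorem D107844 : act 4 n49806 = n107844 := rfl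
def n107845 : Q := act 5 n49806
theorem D107845 : act 5 n49806 = n107845 := rfl
theorem F166574 : act 1 n107845 = n68514 := d17_8 D68516 F114311 (iv1 F114310) F92466 (iv4 F76991) (iv5 F79100) F79104 D107845 F104712
def n107846 : Q := act 6 n49806
theorem D107846 : act 6 n49806 = n107846 := rfl
def n107847 : Q := act 7 n49806
theorem D107847 : act 7 n49806 = n107847 := rfl
theorem F166575 : act 2 n107847 = n49807 := d4_1 D107847 F166573 (iv2 D107842)
def n107848 : Q := act 3 n49807
theorem D107848 : act 3 n49807 = n107848 := rfl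
def n107849 : Q := act 4 n49807
theorem D107849 : act 4 n49807 = n107849 := rfl
def n107850 : Q := act 5 n49807
theorem D107850 : act 5 n49807 = n107850 := rfl
theorem F166576 : act 0 n107850 = n68514 := d18_0 F104712 D68516 F114321 (iv5 D74708) (iv4 F114320) (iv0 D50055) F38275 D49807 D107850
theorem F166577 : act 6 n65647 = n107850 := d21_5 (iv5 D6966) D6963 D14571 D30753 D65647 (iv5 D107850) (iv1 D49807) F38055 (iv6 D13523) (iv1 F11231)
theorem F166578 : act 4 n107850 = n67877 := d10_1 F166577 (iv6 D67877) (iv4 F131053)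
theorem E16628 : n54306 = n28345 := (c17_10 (iv1 F76995) (iv5 F79100) (iv1 F79103) D107850 F166578 F103931 F85703 F44939 F41684 D54306)
theorem E16629 : n59760 = n32328 := ((D59760).symm.trans (sb E16628 F105927))
theorem E16630 : n59762 = n26253 := ((D59762).symm.trans (sb E16628 (iv4 D54306)))
theorem E16631 : n59765 = n32333 := ((D59765).symm.trans (sb E16628 F105928))
theorem F166579 : act 2 n32328 = n28345 := (sb E16629 (iv2 D59760))
theorem E16632 : n54311 = n28346 := (((iv7 F105956)).symm.trans (sb E16629 (iv7 F94121)))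
theorem F166580 : act 4 n26253 = n28345 := (sb E16630 (iv4 D59762))
theorem F166581 : act 7 n32333 = n28345 := (sb E16631 (iv7 D59765))
theorem F166582 : act 2 n28346 = n32333 := (sb E16632 (iv2 F105957))
theorem E16633 : n59767 = n26254 := ((D59767).symm.trans (sb E16632 (iv4 D54311)))
theorem F166583 : act 7 n28346 = n32328 := (sb E16632 F105956)
theorem F166584 : act 4 n26254 = n28346 := (sb E16633 (iv4 D59767))
theorem F166585 : act 4 n59769 = n54313 := d10_3 (iv6 D54313) F166584 D59769
theorem E16634 : n107849 = n34359 := (c18_2 (iv1 F79103) D107849 (iv1 D34359) F27135 F24171 (iv4 F20719) D26254 F166584 F76994 (iv5 F79100))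
theorem E16635 : n74995 = n49807 := ((D74995).symm.trans (sb E16634 (iv4 D107849)))
theorem F166586 : act 4 n49807 = n34359 := (sb E16635 (iv4 D74995))
theorem F166587 : act 4 n74993 = n107847 := d1_2 F166586 (iv2 F112528) F166575
theorem F166588 : act 4 n74988 = n107842 := d11_3 (iv7 F166573) F166586 F112524
theorem E16636 : n107844 = n34358 := (c1_3 F166588 (iv2 D107842) D107844 D74988)
theorem E16637 : n74990 = n49806 := ((D74990).symm.trans (sb E16636 (iv4 D107844)))
theorem F166589 : act 4 n49806 = n34358 := (sb E16637 (iv4 D74990))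
theorem F166590 : act 4 n74992 = n107846 := d10_3 (iv6 D107846) F166589 D74992
theorem F166591 : act 2 n69660 = n59769 := d1_3 F166585 (iv2 F105921) (iv4 F106007)
theorem F166592 : act 7 n69645 = n59766 := d8_2 F166583 D69645 (iv3 D59766)
theorem F166593 : act 7 n69646 = n59768 := d13_2 F166583 D69646 (iv5 D59768)
theorem F166594 : act 2 n69659 = n59768 := d2_3 (iv5 D59768) F166582 D69659
theorem F166595 : act 7 n59761 = n69658 := d8_2 F166581 D59761 (iv3 D69658)
theorem F166596 : act 7 n59763 = n69659 := d13_2 F166581 D59763 (iv5 D69659)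
theorem F166597 : act 2 n69646 = n59763 := d4_3 F166596 F166594 (iv7 F166593)
theorem F166598 : act 4 n59764 = n54308 := d10_3 (iv6 D54308) F166580 D59764
theorem F166599 : act 2 n69647 = n59764 := d1_3 F166598 F105931 (iv4 F105963)
def n107851 : Q := act 6 n49807
theorem D107851 : act 6 n49807 = n107851 := rfl
theorem F166600 : act 4 n107851 = n74997 := d10_1 D107851 (iv6 D74997) (iv4 F166586)
def n107852 : Q := act 4 n49809
theorem D107852 : act 4 n49809 = n107852 := rfl
theorem F166601 : act 6 n107852 = n79990 := d10_2 F79204 D107852 F122772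
theorem F166602 : act 7 n107852 = n59782 := d11_2 (iv7 F78712) D107852 (iv4 D59782)
theorem F166603 : act 5 n107852 = n66318 := d16_1 D107852 (iv4 D66318) (iv5 D30979) F24347 F18127 (iv4 F24347) D30979 (iv7 F79107) F79105
def n107853 : Q := act 0 n49811
theorem D107853 : act 0 n49811 = n107853 := rfl
theorem F166607 : act 1 n54845 = n107853 := d15_0 (iv0 D107853) F78719 (iv2 F86785)
theorem F166608 : act 7 n107853 = n54842 := d15_2 F96306 F166607 (iv2 F96303)
def n107854 : Q := act 5 n49811
theorem D107854 : act 5 n49811 = n107854 := rfl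
theorem F166609 : act 2 n107854 = n54844 := d2_1 D107854 (iv5 D54844) (iv2 F78718)
theorem F166610 : act 7 n107854 = n74932 := d13_2 (iv7 F78719) D107854 (iv5 D74932)
def n107855 : Q := act 6 n49811
theorem D107855 : act 6 n49811 = n107855 := rfl
theorem F166612 : act 4 n107855 = n49812 := d10_1 D107855 (iv6 D49812) D49811
def n107856 : Q := act 1 n49812
theorem D107856 : act 1 n49812 = n107856 := rfl
theorem F166614 : act 7 n107856 = n54829 := d15_2 (iv0 F130294) D107856 F130312
theorem F166615 : act 5 n54926 = n107856 := d21_6 (iv5 D6047) D6044 F27027 D12700 D26565 D54926 (iv1 D107856) F78722 (iv6 D26484) F27127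
theorem F166616 : act 2 n107856 = n54619 := d2_1 F166615 F86324 (iv2 F131621)
def n107857 : Q := act 7 n49812
theorem D107857 : act 7 n49812 = n107857 := rfl
theorem F166618 : act 2 n107857 = n54832 := d4_1 D107857 (iv7 D54832) (iv2 F78720)
theorem F166619 : act 3 n107857 = n49815 := d8_1 D107857 (iv7 D49815) (iv3 F78721)
theorem F166620 : act 5 n107857 = n54610 := d13_1 D107857 F86303 (iv5 F78722)
theorem F166621 : act 6 n107857 = n74936 := d14_1 D107857 (iv7 D74936) (iv6 D34339) (iv7 F38064) D49812
theorem F166622 : act 1 n54619 = n107857 := d15_1 (iv0 F130270) (iv7 D107857) F78720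
theorem F166623 : act 1 n107857 = n54829 := d15_1 F166622 (iv7 F166614) F166616
def n107858 : Q := act 3 n49813
theorem D107858 : act 3 n49813 = n107858 := rfl
theorem F166624 : act 7 n107858 = n74926 := d8_2 F105746 D107858 (iv3 D74926)
def n107859 : Q := act 5 n49813
theorem D107859 : act 5 n49813 = n107859 := rfl
theorem F166625 : act 2 n107859 = n73969 := d2_1 D107859 F131192 F105744
theorem F166626 : act 7 n107859 = n74928 := d13_2 F105746 D107859 (iv5 D74928)
def n107860 : Q := act 3 n49814
theorem D107860 : act 3 n49814 = n107860 := rfl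
theorem F166627 : act 7 n107860 = n54582 := d8_2 (iv7 F105745) D107860 F112121
theorem F166628 : act 0 n54585 = n107860 := d20_4 D29763 (iv1 F86338) F86334 (iv3 F86266) (iv3 D107860) F112460 (iv1 D62831) F47808 F23610 D14142
theorem F166629 : act 5 n107860 = n55065 := d21_2 (iv5 F86267) F166628 (iv6 D55065) (iv1 F87060) F87057 F53176 (iv1 F42560) D54946 (iv6 F86913) (iv1 F86235)
theorem F166630 : act 1 n54561 = n107860 := d15_0 (iv0 F166628) (iv7 D54585) (iv2 F86229)
theorem E16638 : n73924 = n55065 := (c21_11 (iv5 F166629) (iv1 F166630) (iv5 D54561) (iv6 D26384) (iv1 F20969) D16059 D33258 (iv1 F130754) F87520 F87263 (iv1 F110718))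
theorem F166631 : act 0 n55065 = n33942 := (sb E16638 (iv1 D73924))
theorem F166632 : act 1 n55065 = n33955 := (sb E16638 F110718)
theorem E16639 : n73973 = n55065 := ((c13_2 (iv7 F166627) F166629 (iv7 D73973) (iv5 F131191))).symm
theorem F166633 : act 2 n55065 = n33953 := (sb E16639 F110742)
theorem F166634 : act 7 n55065 = n33952 := (sb E16639 (iv7 D73973))
theorem F166635 : act 2 n107860 = n73976 := d2_1 (iv5 F166629) (iv5 D73976) (iv2 F166633)
theorem E16640 : n73968 = n73923 := (c15_4 (iv0 D73923) (iv0 F166631) F166634 D73968)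
theorem F166636 : act 2 n73923 = n33952 := (sb E16640 (iv2 D73968))
theorem F166637 : act 7 n73923 = n33953 := (sb E16640 (iv7 F110741))
theorem E16641 : n73977 = n55061 := (c3_3 D55065 F166633 D73977 (iv2 D55061))
theorem F166638 : act 6 n55061 = n33953 := (sb E16641 (iv6 D73977))
def n107861 : Q := act 5 n49814
theorem D107861 : act 5 n49814 = n107861 := rfl
theorem F166639 : act 2 n107861 = n74928 := d2_1 D107861 (iv5 D74928) (iv2 F105747)
theorem F166640 : act 3 n107861 = n55065 := d6_1 D107861 (iv5 F166629) (iv3 D107860)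
theorem F166641 : act 7 n107861 = n73969 := d13_2 (iv7 F105745) D107861 F131192
theorem F166642 : act 6 n107861 = n56003 := d21_3 F112456 (iv1 F78723) D107861 (iv1 F88649) (iv6 D33878) F25873 (iv1 F21137) D26642 D55136 (iv1 F112459)
theorem E16642 : n56003 = n55062 := (c7_1 F166642 (iv3 D55062) D55065 (iv3 F166640))
theorem F166643 : act 0 n55062 = n33878 := (sb E16642 (iv1 F88649))
theorem F166644 : act 1 n55062 = n27018 := (sb E16642 (iv0 D56003))
theorem F166645 : act 2 n55062 = n35990 := (sb E16642 F120327)
theorem F166646 : act 6 n55062 = n107861 := (sb E16642 (iv6 F166642))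
theorem F166647 : act 7 n55062 = n35991 := (sb E16642 F120328)
theorem E16643 : n79091 = n55066 := (c8_2 F166647 D79091 (iv7 D55066) D55062)
theorem F166648 : act 3 n55066 = n35991 := (sb E16643 (iv3 D79091))
def n107862 : Q := act 6 n49814
theorem D107862 : act 6 n49814 = n107862 := rfl
theorem F166649 : act 2 n107862 = n74929 := d3_1 D107862 (iv6 D74929) (iv2 F105747)
theorem F166650 : act 1 n107862 = n74992 := d15_0 (iv0 F112527) (iv7 F112449) (iv2 F166649)
def n107863 : Q := act 5 n49817
theorem D107863 : act 5 n49817 = n107863 := rfl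
theorem F166651 : act 7 n107863 = n74920 := d13_2 (iv7 F78737) D107863 (iv5 D74920)
theorem F166652 : act 1 n107863 = n62777 := d17_6 (iv1 F55568) (iv5 F54409) (iv1 D24287) D24289 D49817 D107863 (iv5 D62777) D62776 F97960
def n107864 : Q := act 6 n49817
theorem D107864 : act 6 n49817 = n107864 := rfl
theorem F166653 : act 4 n107864 = n49818 := d10_1 D107864 (iv6 D49818) D49817
def n107865 : Q := act 0 n49818
theorem D107865 : act 0 n49818 = n107865 := rfl
def n107866 : Q := act 1 n49818
theorem D107866 : act 1 n49818 = n107866 := rfl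
def n107867 : Q := act 7 n49818
theorem D107867 : act 7 n49818 = n107867 := rfl
theorem F166654 : act 3 n107867 = n49821 := d8_1 D107867 (iv7 D49821) (iv3 F78739)
theorem F166655 : act 5 n107867 = n74028 := d13_1 D107867 (iv7 D74028) (iv5 F78740)
theorem F166656 : act 6 n107867 = n74924 := d14_1 D107867 (iv7 D74924) (iv6 D34333) (iv7 F38073) D49818
def n107868 : Q := act 2 n49819
theorem D107868 : act 2 n49819 = n107868 := rfl
theorem F166657 : act 5 n107868 = n85515 := d2_2 F87387 D107868 (iv2 D85515)
theorem F166658 : act 7 n49820 = n107868 := d15_2 (iv0 D49819) D49820 (iv2 D107868)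
def n107869 : Q := act 3 n49819
theorem D107869 : act 3 n49819 = n107869 := rfl
theorem F166659 : act 5 n107869 = n85516 := d6_2 F87387 D107869 (iv3 D85516)
def n107870 : Q := act 4 n49819
theorem D107870 : act 4 n49819 = n107870 := rfl
def n107871 : Q := act 6 n49819
theorem D107871 : act 6 n49819 = n107871 := rfl
theorem F166660 : act 5 n107871 = n74868 := d21_6 (iv5 D13859) F10690 D11437 D24290 D49819 D107871 (iv1 D74868) (iv5 D34306) (iv6 D16606) (iv1 F23128)
theorem F166661 : act 0 n107871 = n74997 := d21_10 F112531 (iv1 D72193) F78759 (iv6 F78758) F53281 D34393 F54560 D39481 F87387 D107871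
def n107872 : Q := act 7 n49819
theorem D107872 : act 7 n49819 = n107872 := rfl
theorem F166662 : act 2 n107872 = n49820 := d4_1 D107872 F166658 (iv2 D107868)
theorem F166663 : act 5 n107872 = n85519 := d13_1 D107872 (iv7 D85519) F87387
def n107873 : Q := act 3 n49820
theorem D107873 : act 3 n49820 = n107873 := rfl
theorem F166664 : act 5 n107873 = n85520 := d6_2 F92358 D107873 (iv3 D85520)
def n107874 : Q := act 4 n49820
theorem D107874 : act 4 n49820 = n107874 := rfl
def n107875 : Q := act 6 n49820
theorem D107875 : act 6 n49820 = n107875 := rfl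
theorem F166665 : act 0 n55301 = n107875 := d21_4 (iv5 D33867) F53092 F53089 D55301 (iv6 D107875) (iv5 F92358) (iv1 D39482) (iv5 F54560) (iv6 D34393) (iv1 F53210)
theorem F166666 : act 1 n61573 = n107875 := d15_0 (iv0 F166665) (iv7 F97889) F97888
def n107876 : Q := act 0 n49822
theorem D107876 : act 0 n49822 = n107876 := rfl
theorem F166667 : act 4 n107876 = n60048 := d18_3 F42471 D49822 D107876 (iv5 D60048) F83536 F42434 F37984 F26676 D26529
theorem F166668 : act 1 n61398 = n107876 := d15_0 (iv0 D107876) F78748 (iv2 F95893)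
theorem F166669 : act 2 n61674 = n107876 := d1_3 F166667 F94567 D61674
theorem F166670 : act 7 n74854 = n107876 := d15_2 F96261 F112355 (iv2 F166669)
def n107877 : Q := act 1 n49822
theorem D107877 : act 1 n49822 = n107877 := rfl
theorem F166671 : act 1 n107877 = n61398 := d15_1 D107877 (iv7 F96056) F96055
theorem F166672 : act 7 n107877 = n61674 := d15_2 (iv0 D107876) D107877 F166669
theorem F166673 : act 4 n107877 = n60046 := d18_7 F78820 F41872 (iv1 F50517) F37550 D24291 D49822 D107877 F112265 F97988
theorem F166674 : act 2 n74854 = n107877 := d4_3 F166672 F166669 (iv7 F166670)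
def n107878 : Q := act 5 n49822
theorem D107878 : act 5 n49822 = n107878 := rfl
theorem F166675 : act 7 n107878 = n74855 := d13_2 (iv7 F78748) D107878 (iv5 D74855)
def n107879 : Q := act 4 n49823
theorem D107879 : act 4 n49823 = n107879 := rfl
theorem F166679 : act 1 n107879 = n62774 := d18_6 (iv1 F23577) D29690 F79112 (iv4 D50010) (iv5 F78749) D107879 (iv4 D62774) F47737 (iv5 D29193)
def n107880 : Q := act 5 n49824
theorem D107880 : act 5 n49824 = n107880 := rfl
theorem F166681 : act 1 n107880 = n62845 := d17_6 (iv1 F55587) F55585 (iv1 F50544) D24295 D49824 D107880 (iv5 D62845) (iv0 F86666) (iv4 D54781)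
def n107881 : Q := act 6 n49824
theorem D107881 : act 6 n49824 = n107881 := rfl
theorem F166682 : act 4 n107881 = n49825 := d10_1 D107881 (iv6 D49825) D49824
def n107882 : Q := act 0 n49825
theorem D107882 : act 0 n49825 = n107882 := rfl
def n107883 : Q := act 1 n49825
theorem D107883 : act 1 n49825 = n107883 := rfl
def n107884 : Q := act 7 n49825
theorem D107884 : act 7 n49825 = n107884 := rfl
theorem F166683 : act 3 n107884 = n49828 := d8_1 D107884 (iv7 D49828) (iv3 F78756)
theorem F166684 : act 6 n107884 = n74843 := d14_1 D107884 (iv7 D74843) (iv6 D34293) (iv7 F38086) D49825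
def n107885 : Q := act 3 n49826
theorem D107885 : act 3 n49826 = n107885 := rfl
theorem F166685 : act 7 n107885 = n74865 := d8_2 (iv7 F86572) D107885 (iv3 D74865)
def n107886 : Q := act 4 n49826
theorem D107886 : act 4 n49826 = n107886 := rfl
theorem F166686 : act 2 n107886 = n74863 := d1_1 D107886 (iv4 D74863) (iv2 F86574)
theorem F166687 : act 7 n107886 = n74866 := d11_2 (iv7 F86572) D107886 (iv4 D74866)
def n107887 : Q := act 5 n49826
theorem D107887 : act 5 n49826 = n107887 := rfl
theorem F166688 : act 2 n107887 = n72194 := d2_1 D107887 F108628 (iv2 F86574)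
theorem F166689 : act 7 n107887 = n54741 := d13_2 (iv7 F86572) D107887 F86570
theorem F166690 : act 0 n107887 = n72193 := d21_1 D107887 (iv5 F112531) (iv6 D74997) (iv1 D34359) (iv6 D16634) F12034 (iv1 F8097) D11441 D24297 D49826
theorem F166692 : act 6 n72199 = n107887 := d14_5 F166689 (iv6 D54741) (iv7 F42332) D33325 D72199
def n107888 : Q := act 6 n49826
theorem D107888 : act 6 n49826 = n107888 := rfl
theorem F166694 : act 7 n107888 = n73706 := d14_2 (iv7 F86572) D107888 F110408 (iv7 F87310) F87309
theorem F166695 : act 5 n107888 = n70544 := d21_6 F12034 (iv1 F8097) D11441 D24297 D49826 D107888 (iv1 D70544) F51807 (iv6 D24285) F18690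
theorem F166696 : act 3 n73978 = n107888 := d6_3 F166695 (iv3 F107009) (iv5 F131211)
theorem F166697 : act 6 n107885 = n73978 := d7_0 F166696 (iv6 D107888) D107885
theorem F166698 : act 0 n55285 = n107885 := d21_4 F86242 (iv1 F42818) D26717 D55285 F166697 F131211 (iv1 D54560) D54561 F86231 D54564
def n107889 : Q := act 3 n49827
theorem D107889 : act 3 n49827 = n107889 := rfl
theorem F166699 : act 5 n107889 = n72191 := d6_2 F78759 D107889 F108627
theorem F166700 : act 6 n107889 = n73879 := d7_2 F78758 D107889 F110689
theorem F166701 : act 7 n107889 = n74862 := d8_2 F86573 D107889 (iv3 D74862)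
def n107890 : Q := act 4 n49827
theorem D107890 : act 4 n49827 = n107890 := rfl
theorem F166702 : act 2 n107890 = n74866 := d1_1 D107890 (iv4 D74866) F86571
theorem F166703 : act 6 n107890 = n73880 := d10_2 F78758 D107890 (iv4 D73880)
theorem F166704 : act 7 n107890 = n74863 := d11_2 F86573 D107890 (iv4 D74863)
def n107891 : Q := act 6 n49829
theorem D107891 : act 6 n49829 = n107891 := rfl
theorem F166705 : act 2 n107891 = n49867 := d3_1 D107891 (iv6 D49867) (iv2 F78765)
theorem F166706 : act 4 n107891 = n71679 := d10_1 D107891 (iv6 D71679) (iv4 F78768)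
def n107892 : Q := act 5 n49830
theorem D107892 : act 5 n49830 = n107892 := rfl
theorem F166707 : act 2 n107892 = n61582 := d2_1 D107892 F96131 F79128
theorem F166708 : act 3 n107892 = n49831 := d6_1 D107892 (iv5 D49831) D49830
theorem F166709 : act 7 n107892 = n49843 := d13_2 (iv7 F78772) D107892 (iv5 D49843)
theorem F166710 : act 0 n107892 = n60048 := d17_2 F78777 D107892 (iv5 D60048) F83536 D54806 (iv0 F86720) (iv5 D49213) F50517 (iv4 F41872)
theorem F166711 : act 1 n107892 = n60046 := d17_6 F54059 D29123 D61512 F96028 (iv4 F78770) D107892 (iv5 D60046) (iv0 D28517) (iv4 F40570)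
theorem F166712 : act 4 n107892 = n61529 := d18_5 F26824 (iv4 F23485) D29610 (iv4 F78770) D107892 (iv0 D61529) (iv4 D29130) F46799 (iv5 D16604)
def n107893 : Q := act 4 n49831
theorem D107893 : act 4 n49831 = n107893 := rfl
theorem F166713 : act 2 n107893 = n49839 := d1_1 D107893 (iv4 D49839) (iv2 F78778)
theorem F166714 : act 7 n107893 = n49847 := d11_2 (iv7 F78779) D107893 (iv4 D49847)
theorem F166715 : act 0 n107893 = n71420 := d18_2 F98035 D107893 (iv4 D71420) (iv5 D33046) D33045 (iv0 F96200) (iv4 D61634) F47780 D62817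
theorem F166716 : act 1 n107893 = n71417 := d18_6 (iv1 F47452) (iv4 F55459) (iv1 F78807) F77954 D49831 D107893 (iv4 D71417) F96073 F96070
def n107894 : Q := act 5 n49832
theorem D107894 : act 5 n49832 = n107894 := rfl
theorem F166717 : act 3 n107894 = n52168 := d6_1 D107894 F139270 F95741
theorem F166718 : act 7 n107894 = n76589 := d13_2 F78783 D107894 (iv5 D76589)
theorem F166719 : act 1 n107894 = n105866 := d17_6 (iv1 D15933) D15934 D33047 F52255 (iv4 F78781) D107894 (iv5 D105866) F77194 (iv4 D33045)
def n107895 : Q := act 5 n49833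
theorem D107895 : act 5 n49833 = n107895 := rfl
theorem F166720 : act 2 n107895 = n76589 := d2_1 D107895 (iv5 D76589) (iv2 F78787)
theorem F166721 : act 3 n107895 = n52637 := d6_1 D107895 (iv5 D52637) (iv3 F78788)
theorem F166722 : act 0 n107895 = n105866 := d17_2 (iv1 F78785) D107895 (iv5 D105866) F77191 (iv5 F52274) (iv0 D24312) (iv5 D11446) D11444 D24306
def n107896 : Q := act 5 n49834
theorem D107896 : act 5 n49834 = n107896 := rfl
theorem F166723 : act 2 n107896 = n76601 := d2_1 D107896 (iv5 D76601) (iv2 F78790)
theorem F166724 : act 3 n107896 = n49835 := d6_1 D107896 (iv5 D49835) D49834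
theorem F166725 : act 7 n107896 = n76602 := d13_2 (iv7 F78794) D107896 (iv5 D76602)
theorem F166726 : act 0 n107896 = n71650 := d17_2 (iv1 F78793) D107896 (iv5 D71650) (iv4 D33129) D33130 (iv0 F54400) (iv5 D34287) (iv0 F50542) (iv4 F43605)
def n107897 : Q := act 4 n49835
theorem D107897 : act 4 n49835 = n107897 := rfl
def n107898 : Q := act 6 n49835
theorem D107898 : act 6 n49835 = n107898 := rfl
def n107899 : Q := act 7 n49835
theorem D107899 : act 7 n49835 = n107899 := rfl
theorem F166727 : act 2 n107899 = n49845 := d4_1 D107899 (iv7 F164459) F164457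
theorem F166728 : act 3 n107899 = n76602 := d8_1 D107899 (iv7 F166725) F166724
theorem F166729 : act 5 n107899 = n49837 := d13_1 D107899 (iv7 D49837) D49835
theorem F166730 : act 1 n71416 = n107899 := d15_1 F164461 (iv7 D107899) (iv2 F164457)
theorem F166731 : act 1 n107899 = n71419 := d15_1 F166730 F107932 (iv2 F107922)
def n107900 : Q := act 5 n49836
theorem D107900 : act 5 n49836 = n107900 := rfl
theorem F166732 : act 2 n107900 = n67897 := d2_1 D107900 (iv5 D67897) (iv2 F78798)
theorem F166733 : act 3 n107900 = n68615 := d6_1 D107900 F104817 F94187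
theorem F166734 : act 7 n107900 = n67895 := d13_2 F78802 D107900 (iv5 D67895)
theorem F166735 : act 0 n107900 = n68629 := d17_2 (iv1 F78801) D107900 (iv5 D68629) (iv4 D31933) D31934 F85461 F85457 F43632 (iv4 F55425)
theorem F166736 : act 1 n107900 = n68717 := d17_6 F54334 (iv5 F37188) (iv1 F77109) (iv5 F77112) (iv4 F78799) D107900 (iv5 D68717) (iv0 F77031) (iv4 D48887)
def n107901 : Q := act 4 n49838
theorem D107901 : act 4 n49838 = n107901 := rfl
theorem F166737 : act 2 n107901 = n61635 := d1_1 D107901 (iv4 D61635) F78809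
theorem F166738 : act 1 n107901 = n61391 := d18_6 (iv1 F25401) (iv4 F25476) (iv1 F52216) (iv4 F52219) (iv5 F78808) D107901 (iv4 D61391) (iv0 F52245) (iv5 D33043)
def n107902 : Q := act 6 n49838
theorem D107902 : act 6 n49838 = n107902 := rfl
theorem F166739 : act 2 n107902 = n61632 := d3_1 D107902 F96195 F78809
theorem F166740 : act 5 n107902 = n61617 := d12_1 D107902 (iv6 D61617) (iv5 D29193) D29194 (iv5 F78808)
def n107903 : Q := act 3 n49839
theorem D107903 : act 3 n49839 = n107903 := rfl
def n107904 : Q := act 5 n49839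
theorem D107904 : act 5 n49839 = n107904 := rfl
def n107905 : Q := act 6 n49839
theorem D107905 : act 6 n49839 = n107905 := rfl
theorem F166741 : act 4 n107905 = n49840 := d10_1 D107905 (iv6 D49840) D49839
def n107906 : Q := act 7 n49839
theorem D107906 : act 7 n49839 = n107906 := rfl
theorem F166742 : act 2 n107906 = n49847 := d4_1 D107906 (iv7 F166714) F166713
theorem F166743 : act 4 n107906 = n49841 := d11_1 D107906 (iv7 D49841) D49839
theorem F166744 : act 1 n71417 = n107906 := d15_1 F166716 (iv7 D107906) (iv2 F166713)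
theorem F166745 : act 1 n107906 = n71420 := d15_1 F166744 F107934 (iv2 F107926)
def n107908 : Q := act 1 n49840
theorem D107908 : act 1 n49840 = n107908 := rfl
def n107909 : Q := act 7 n49840
theorem D107909 : act 7 n49840 = n107909 := rfl
def n107910 : Q := act 6 n49841
theorem D107910 : act 6 n49841 = n107910 := rfl
theorem F166746 : act 2 n107910 = n49848 := d3_1 D107910 (iv6 D49848) (iv2 F78814)
theorem F166747 : act 3 n107910 = n61586 := d7_1 D107910 (iv6 D61586) (iv3 F78815)
theorem F166748 : act 5 n107910 = n71087 := d12_1 D107910 (iv6 D71087) F77108 F77107 (iv5 F78816)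
def n107911 : Q := act 0 n49843
theorem D107911 : act 0 n49843 = n107911 := rfl
theorem F166749 : act 5 n107911 = n52882 := d17_3 F53947 D49843 D107911 F83557 (iv5 F112344) (iv0 D74850) (iv5 D34299) D34298 (iv4 F54423)
theorem F166750 : act 4 n107911 = n74854 := d18_1 D107911 (iv1 F112355) (iv4 D61527) F46796 D29641 (iv0 F54425) (iv4 F56575) F56577 D49843
theorem F166751 : act 2 n60046 = n107911 := d15_3 (iv0 D107911) (iv0 F95771) (iv7 F94560)
theorem F166752 : act 1 n61582 = n107911 := d15_0 (iv0 D107911) (iv7 F166709) F166707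
theorem F166753 : act 7 n107911 = n60048 := d15_2 (iv0 F96132) F166752 F94567
theorem F166754 : act 3 n107911 = n61649 := d0_2 (iv3 F94559) F166751 F96214 F46871 (iv2 F46866)
def n107912 : Q := act 6 n49843
theorem D107912 : act 6 n49843 = n107912 := rfl
theorem F166755 : act 3 n107912 = n49848 := d7_1 D107912 (iv6 D49848) (iv3 F78821)
def n107913 : Q := act 0 n49844
theorem D107913 : act 0 n49844 = n107913 := rfl
theorem F166756 : act 4 n107913 = n71948 := d20_2 F95772 D107913 (iv3 F138567) (iv1 F138569) F83002 (iv4 D25760) (iv1 F23476) (iv4 F27790) (iv3 F55304) F95774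
theorem F166757 : act 5 n107913 = n72116 := d21_0 (iv1 F162642) (iv5 D60350) (iv6 F94588) (iv1 F94589) (iv6 F46897) D29238 F95771 (iv5 D49843) D49844 D107913
theorem F166758 : act 2 n67961 = n107913 := d15_3 (iv0 D107913) F115250 (iv7 F104069)
theorem F166759 : act 1 n67927 = n107913 := d15_0 (iv0 D107913) (iv7 F115162) F115159
theorem F166760 : act 7 n107913 = n68010 := d15_2 (iv0 F104006) F166759 (iv2 D68010)
theorem F166761 : act 3 n107913 = n68018 := d0_2 D67961 F166758 (iv2 D68018) (iv3 D31653) (iv2 F50638)
theorem F166762 : act 6 n107913 = n68018 := d3_2 (iv6 F104068) F166758 (iv2 D68018)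
def n107914 : Q := act 5 n49844
theorem D107914 : act 5 n49844 = n107914 := rfl
theorem F166763 : act 2 n107914 = n60353 := d2_1 D107914 (iv5 F115245) F115243
theorem F166764 : act 3 n107914 = n49849 := d6_1 D107914 (iv5 D49849) (iv3 F78822)
theorem F166765 : act 7 n107914 = n71088 := d13_2 F115162 D107914 (iv5 F115160)
theorem F166766 : act 1 n107914 = n54436 := d17_6 F50918 D25715 D52976 (iv5 F95773) F95772 D107914 (iv5 D54436) (iv0 F77226) F77225
theorem F166767 : act 4 n107914 = n55042 := d18_5 F41859 (iv4 F55305) F95774 F95772 D107914 (iv0 D55042) (iv4 D26607) D26606 (iv5 F42604)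
def n107915 : Q := act 4 n49845
theorem D107915 : act 4 n49845 = n107915 := rfl
def n107916 : Q := act 6 n49845
theorem D107916 : act 6 n49845 = n107916 := rfl
def n107917 : Q := act 0 n49846
theorem D107917 : act 0 n49846 = n107917 := rfl
theorem F166768 : act 5 n107917 = n105913 := d17_1 D107917 (iv1 F162654) (iv5 D71078) (iv4 D32914) D32915 F77274 F25330 (iv0 F77104) (iv4 F78825)
theorem F166769 : act 4 n107917 = n60445 := d18_3 (iv1 F77105) (iv4 F78825) D107917 F94967 (iv4 F162677) (iv0 D105939) (iv4 D48978) D48977 (iv5 F77271)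
theorem F166770 : act 3 n107917 = n52458 := d20_5 F65490 D90276 (iv4 F164482) F164481 D107917 (iv4 F104070) F115164 F115163 F139436 (iv1 D90582)
theorem F166771 : act 2 n76651 = n107917 := d15_3 (iv0 D107917) (iv0 F78826) D76651
theorem F166772 : act 1 n67896 = n107917 := d15_0 (iv0 D107917) (iv7 F115171) F115169
theorem F166773 : act 7 n107917 = n76633 := d15_2 (iv0 F103963) F166772 F114922
theorem F166774 : act 6 n76640 = n107917 := d14_5 F166773 (iv6 D76633) F55600 D35030 D76640
def n107918 : Q := act 5 n49846
theorem D107918 : act 5 n49846 = n107918 := rfl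
theorem F166775 : act 2 n107918 = n71327 := d2_1 D107918 (iv5 F115156) F115152
theorem F166776 : act 7 n107918 = n71328 := d13_2 F115171 D107918 (iv5 F115175)
theorem F166777 : act 0 n107918 = n68619 := d17_2 F78826 D107918 (iv5 D68619) F50248 D31932 (iv0 F50500) (iv5 F46284) (iv0 F55638) (iv4 F55648)
theorem F166778 : act 1 n107918 = n54642 := d17_6 F50828 D32916 F78832 (iv5 D49849) (iv4 F78825) D107918 (iv5 D54642) (iv0 F55052) F55049
def n107919 : Q := act 3 n49847
theorem D107919 : act 3 n49847 = n107919 := rfl
def n107920 : Q := act 5 n49847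
theorem D107920 : act 5 n49847 = n107920 := rfl
def n107921 : Q := act 6 n49847
theorem D107921 : act 6 n49847 = n107921 := rfl
theorem F166779 : act 4 n107921 = n49848 := d10_1 D107921 (iv6 D49848) D49847
def n107922 : Q := act 0 n49848
theorem D107922 : act 0 n49848 = n107922 := rfl
def n107923 : Q := act 1 n49848
theorem D107923 : act 1 n49848 = n107923 := rfl
def n107924 : Q := act 5 n49848
theorem D107924 : act 5 n49848 = n107924 := rfl
theorem F166780 : act 2 n107924 = n71087 := d2_1 D107924 (iv5 F166748) F166746
theorem F166781 : act 6 n107924 = n49849 := d12_2 D49848 D107924 (iv5 D49849) (iv6 D24308) D24307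
def n107925 : Q := act 7 n49848
theorem D107925 : act 7 n49848 = n107925 := rfl
def n107926 : Q := act 4 n49849
theorem D107926 : act 4 n49849 = n107926 := rfl
theorem F166782 : act 2 n107926 = n71086 := d1_1 D107926 (iv4 D71086) (iv2 F78829)
theorem F166783 : act 7 n107926 = n71089 := d11_2 (iv7 F78830) D107926 (iv4 D71089)
theorem F166784 : act 0 n107926 = n68628 := d18_2 F78832 D107926 (iv4 D68628) (iv5 D31932) (iv4 F50248) F77258 F77256 F50893 D32916
theorem F166785 : act 1 n107926 = n54651 := d18_6 F85411 (iv4 F55648) F78826 F78825 D49849 D107926 (iv4 D54651) D54650 (iv5 F86410)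
def n107927 : Q := act 6 n49850
theorem D107927 : act 6 n49850 = n107927 := rfl
theorem F166787 : act 5 n107927 = n70351 := d12_1 D107927 (iv6 D70351) F51731 (iv6 F54283) (iv5 F78833)
def n107928 : Q := act 6 n49851
theorem D107928 : act 6 n49851 = n107928 := rfl
theorem F166788 : act 2 n107928 = n49858 := d3_1 D107928 (iv6 D49858) F78840
theorem F166789 : act 3 n107928 = n62793 := d7_1 D107928 (iv6 D62793) F78841
theorem F166790 : act 5 n107928 = n76250 := d12_1 D107928 (iv6 D76250) (iv5 D34829) (iv6 F54272) (iv5 F78839)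
def n107929 : Q := act 3 n49852
theorem D107929 : act 3 n49852 = n107929 := rfl
theorem F166791 : act 4 n107929 = n72566 := d5_2 D49852 D107929 (iv3 D72566) F79163 F38248
def n107930 : Q := act 5 n49852
theorem D107930 : act 5 n49852 = n107930 := rfl
theorem F166793 : act 2 n107930 = n49861 := d2_1 D107930 (iv5 D49861) (iv2 F78842)
theorem F166794 : act 7 n107930 = n71678 := d13_2 (iv7 F78843) D107930 (iv5 D71678)
def n107931 : Q := act 6 n49852
theorem D107931 : act 6 n49852 = n107931 := rfl
theorem F166795 : act 2 n107931 = n49862 := d3_1 D107931 (iv6 D49862) (iv2 F78842)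
theorem F166796 : act 4 n107931 = n49853 := d10_1 D107931 (iv6 D49853) D49852
def n107932 : Q := act 0 n49853
theorem D107932 : act 0 n49853 = n107932 := rfl
def n107933 : Q := act 7 n49853
theorem D107933 : act 7 n49853 = n107933 := rfl
theorem F166797 : act 2 n107933 = n49866 := d4_1 D107933 (iv7 D49866) (iv2 F78846)
theorem F166798 : act 5 n107933 = n69797 := d13_1 D107933 (iv7 D69797) (iv5 F78847)
theorem F166799 : act 1 n49866 = n107932 := d15_0 (iv0 D107932) D107933 F166797
theorem F166800 : act 1 n49865 = n107933 := d15_1 D49865 (iv7 D107933) F78846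
theorem F166801 : act 7 n107932 = n49865 := d15_2 (iv0 F162875) F166799 (iv2 F163001)
theorem F166802 : act 2 n107932 = n49864 := d15_3 (iv0 D49864) D49865 (iv7 F166801)
theorem F166803 : act 7 n49864 = n106046 := d4_2 (iv7 F166801) F166802 F163001
theorem F166804 : act 5 n106047 = n49864 := d13_3 F166803 (iv5 D106046) D106047
theorem F166805 : act 1 n107933 = n49864 := d15_1 F166800 F166803 F163001
def n107934 : Q := act 3 n49854
theorem D107934 : act 3 n49854 = n107934 := rfl
def n107935 : Q := act 5 n49854
theorem D107935 : act 5 n49854 = n107935 := rfl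
def n107936 : Q := act 6 n49854
theorem D107936 : act 6 n49854 = n107936 := rfl
theorem F166806 : act 4 n107936 = n49855 := d10_1 D107936 (iv6 D49855) D49854
def n107938 : Q := act 1 n49855
theorem D107938 : act 1 n49855 = n107938 := rfl
def n107939 : Q := act 7 n49855
theorem D107939 : act 7 n49855 = n107939 := rfl
def n107940 : Q := act 6 n49856
theorem D107940 : act 6 n49856 = n107940 := rfl
theorem F166807 : act 3 n107940 = n49858 := d7_1 D107940 (iv6 D49858) D49856
def n107941 : Q := act 3 n49857
theorem D107941 : act 3 n49857 = n107941 := rfl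
def n107942 : Q := act 5 n49857
theorem D107942 : act 5 n49857 = n107942 := rfl
def n107943 : Q := act 6 n49857
theorem D107943 : act 6 n49857 = n107943 := rfl
theorem F166808 : act 4 n107943 = n49858 := d10_1 D107943 (iv6 D49858) D49857
def n107944 : Q := act 0 n49858
theorem D107944 : act 0 n49858 = n107944 := rfl
def n107945 : Q := act 1 n49858
theorem D107945 : act 1 n49858 = n107945 := rfl
def n107946 : Q := act 5 n49858
theorem D107946 : act 5 n49858 = n107946 := rfl
theorem F166809 : act 2 n107946 = n76250 := d2_1 D107946 (iv5 F166790) F166788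
theorem F166810 : act 6 n107946 = n70202 := d12_2 D49858 D107946 F106666 F55062 F46854
def n107947 : Q := act 7 n49858
theorem D107947 : act 7 n49858 = n107947 := rfl
def n107948 : Q := act 3 n49859
theorem D107948 : act 3 n49859 = n107948 := rfl
theorem F166811 : act 7 n107948 = n71425 := d8_2 (iv7 F78849) D107948 (iv3 D71425)
def n107949 : Q := act 5 n49859
theorem D107949 : act 5 n49859 = n107949 := rfl
theorem F166812 : act 2 n107949 = n71688 := d2_1 D107949 F108172 F78851
theorem F166813 : act 4 n107949 = n71489 := d9_1 D107949 (iv5 D71489) (iv4 D33073) (iv5 D15949) F11726 D7478 D15981 D33142 D71686 (iv5 F165930) (iv4 D107550) F78508 F52225 (iv5 F52265) (iv4 F78850)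
theorem F166814 : act 7 n107949 = n71426 := d13_2 (iv7 F78849) D107949 (iv5 D71426)
theorem F166815 : act 0 n107949 = n71685 := d17_2 (iv1 F78848) D107949 F108170 (iv4 D61635) (iv5 D29202) D29201 F46854 (iv0 F78769) F78768
theorem F166816 : act 1 n107949 = n71684 := d15_0 (iv0 D71684) D71688 (iv2 F166812)
def n107950 : Q := act 6 n49859
theorem D107950 : act 6 n49859 = n107950 := rfl
theorem F166817 : act 2 n107950 = n71689 := d3_1 D107950 (iv6 D71689) F78851
theorem F166818 : act 4 n107950 = n71427 := d10_1 D107950 (iv6 D71427) (iv4 F78850)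
def n107951 : Q := act 0 n49860
theorem D107951 : act 0 n49860 = n107951 := rfl
def n107952 : Q := act 1 n49860
theorem D107952 : act 1 n49860 = n107952 := rfl
theorem F166819 : act 4 n65332 = n107952 := d20_6 F24141 F18690 F12033 (iv3 F24163) D30648 D65332 (iv1 D107952) F78852 (iv3 D24317) (iv1 F24143)
def n107953 : Q := act 2 n49860
theorem D107953 : act 2 n49860 = n107953 := rfl
theorem F166820 : act 4 n107953 = n49870 := d1_2 (iv4 F78852) D107953 (iv2 D49870)
def n107954 : Q := act 5 n49860
theorem D107954 : act 5 n49860 = n107954 := rfl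
theorem F166821 : act 3 n107954 = n49861 := d6_1 D107954 (iv5 D49861) D49860
def n107955 : Q := act 6 n49860
theorem D107955 : act 6 n49860 = n107955 := rfl
theorem F166822 : act 3 n107955 = n49862 := d7_1 D107955 (iv6 D49862) D49860
theorem F166823 : act 4 n107955 = n49871 := d10_1 D107955 (iv6 D49871) (iv4 F78852)
def n107956 : Q := act 0 n49861
theorem D107956 : act 0 n49861 = n107956 := rfl
theorem F166824 : act 5 n107956 = n61391 := d17_3 (iv1 D49859) D49861 D107956 (iv4 D61391) (iv5 D29062) (iv0 F47451) F30295 F52266 (iv4 F78850)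
theorem F166825 : act 1 n71678 = n107956 := d17_6 F54289 (iv5 D24302) D24298 D49829 F78768 D71678 F166824 (iv0 F98042) (iv4 D62819)
def n107957 : Q := act 1 n49861
theorem D107957 : act 1 n49861 = n107957 := rfl
theorem F166826 : act 1 n107957 = n71678 := d15_1 D107957 (iv7 F166794) F166793
def n107958 : Q := act 4 n49861
theorem D107958 : act 4 n49861 = n107958 := rfl
theorem F166827 : act 5 n107958 = n71484 := d9_2 D49861 D107958 (iv4 D71484) F78513 F78492 D49829 F78768 D71678 (iv4 F165939) (iv5 D107555) (iv4 D49691) (iv5 D24233) F18633 D11446 D24314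
def n107959 : Q := act 6 n49861
theorem D107959 : act 6 n49861 = n107959 := rfl
def n107960 : Q := act 7 n49861
theorem D107960 : act 7 n49861 = n107960 := rfl
theorem F166828 : act 2 n107960 = n71678 := d4_1 D107960 (iv7 F166794) F166793
theorem F166829 : act 5 n107960 = n49863 := d13_1 D107960 (iv7 D49863) D49861
def n107961 : Q := act 0 n49862
theorem D107961 : act 0 n49862 = n107961 := rfl
theorem F166830 : act 4 n107961 = n61497 := d20_8 (iv4 F97335) (iv1 F97338) F130756 (iv3 F110513) (iv1 D24320) (iv3 F38099) (iv4 F78853) D107961 (iv3 D61497) (iv1 F47631)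
def n107962 : Q := act 1 n49862
theorem D107962 : act 1 n49862 = n107962 := rfl
def n107963 : Q := act 5 n49862
theorem D107963 : act 5 n49862 = n107963 := rfl
def n107964 : Q := act 7 n49862
theorem D107964 : act 7 n49862 = n107964 := rfl
theorem F166831 : act 4 n107964 = n49866 := d11_1 D107964 (iv7 D49866) (iv4 F78853)
def n107965 : Q := act 6 n49863
theorem D107965 : act 6 n49863 = n107965 := rfl
theorem F166832 : act 2 n107965 = n71679 := d3_1 D107965 (iv6 D71679) (iv2 F78854)
theorem F166833 : act 4 n107965 = n49867 := d10_1 D107965 (iv6 D49867) (iv4 F78855)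
def n107966 : Q := act 3 n49864
theorem D107966 : act 3 n49864 = n107966 := rfl
theorem F166834 : act 7 n107966 = n62865 := d8_2 (iv7 F166803) D107966 (iv3 F162873)
theorem F166835 : act 2 n107966 = n62864 := d15_3 (iv0 D62864) D62865 (iv7 F166834)
def n107967 : Q := act 4 n49864
theorem D107967 : act 4 n49864 = n107967 := rfl
def n107968 : Q := act 6 n49864
theorem D107968 : act 6 n49864 = n107968 := rfl
def n107969 : Q := act 3 n49865
theorem D107969 : act 3 n49865 = n107969 := rfl
def n107970 : Q := act 4 n49865
theorem D107970 : act 4 n49865 = n107970 := rfl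
def n107971 : Q := act 6 n49865
theorem D107971 : act 6 n49865 = n107971 := rfl
def n107972 : Q := act 6 n49866
theorem D107972 : act 6 n49866 = n107972 := rfl
theorem F166836 : act 3 n107972 = n49879 := d7_1 D107972 (iv6 D49879) (iv3 F78858)
theorem F166837 : act 7 n107972 = n49867 := d14_2 D49866 D107972 (iv6 D49867) (iv7 D24316) D24315
def n107973 : Q := act 0 n49867
theorem D107973 : act 0 n49867 = n107973 := rfl
def n107974 : Q := act 1 n49867
theorem D107974 : act 1 n49867 = n107974 := rfl
def n107975 : Q := act 2 n49868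
theorem D107975 : act 2 n49868 = n107975 := rfl
theorem F166838 : act 7 n49869 = n107975 := d15_2 (iv0 D49868) D49869 (iv2 D107975)
def n107976 : Q := act 3 n49868
theorem D107976 : act 3 n49868 = n107976 := rfl
theorem F166839 : act 4 n107976 = n74684 := d20_6 F26221 F11985 D11448 D24317 D49868 D107976 (iv1 D74684) (iv4 D34226) F26218 D16562
def n107977 : Q := act 4 n49868
theorem D107977 : act 4 n49868 = n107977 := rfl
def n107978 : Q := act 5 n49868
theorem D107978 : act 5 n49868 = n107978 := rfl
def n107980 : Q := act 7 n49868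
theorem D107980 : act 7 n49868 = n107980 := rfl
def n107981 : Q := act 3 n49869
theorem D107981 : act 3 n49869 = n107981 := rfl
def n107982 : Q := act 4 n49869
theorem D107982 : act 4 n49869 = n107982 := rfl
def n107983 : Q := act 5 n49869
theorem D107983 : act 5 n49869 = n107983 := rfl
def n107984 : Q := act 6 n49869
theorem D107984 : act 6 n49869 = n107984 := rfl
def n107988 : Q := act 5 n49871
theorem D107988 : act 5 n49871 = n107988 := rfl
theorem F166842 : act 3 n107988 = n49873 := d6_1 D107988 (iv5 D49873) (iv3 F78861)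
def n107991 : Q := act 5 n49872
theorem D107991 : act 5 n49872 = n107991 := rfl
theorem F166845 : act 2 n107991 = n74976 := d2_1 D107991 (iv5 D74976) F78863
theorem F166846 : act 4 n107991 = n76199 := d9_1 D107991 (iv5 D76199) F55009 (iv5 F28960) F25886 D16403 D33929 D73882 (iv4 F114161) (iv5 D76196) F55008 (iv5 F28592) F53082 F53089 (iv4 F78862)
def n107993 : Q := act 0 n49873
theorem D107993 : act 0 n49873 = n107993 := rfl
theorem F166850 : act 5 n107993 = n55330 := d17_3 F53283 D49873 D107993 (iv4 D55330) (iv5 D26737) (iv0 D12792) (iv5 F21211) (iv0 F25895) D33929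
theorem F166851 : act 4 n107993 = n76206 := d18_1 D107993 (iv1 D76206) (iv4 F112493) F112494 F54505 F42840 (iv4 F78862) (iv0 D49872) D49873
theorem F166852 : act 1 n79989 = n107993 := d15_0 (iv0 D107993) (iv7 F116013) (iv2 F122767)
def n107994 : Q := act 1 n49873
theorem D107994 : act 1 n49873 = n107994 := rfl
theorem F166855 : act 1 n107994 = n79989 := d15_1 D107994 (iv7 F122770) F79203
theorem F166857 : act 5 n107994 = n55338 := d17_7 (iv1 F51918) (iv5 D32432) (iv1 D15323) (iv5 F18714) (iv4 F38103) D49873 D107994 (iv0 F106983) (iv4 D70532)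
theorem F166858 : act 4 n107994 = n76205 := d17_9 (iv1 F115723) F115720 (iv1 F55908) D76199 (iv4 F166846) (iv5 D107991) (iv0 D49872) D49873 D107994
def n107995 : Q := act 0 n49875
theorem D107995 : act 0 n49875 = n107995 := rfl
theorem F166860 : act 1 n62873 = n107995 := d15_0 (iv0 D107995) (iv7 F79218) (iv2 F109936)
def n107996 : Q := act 1 n49875
theorem D107996 : act 1 n49875 = n107996 := rfl
theorem F166861 : act 1 n107996 = n62873 := d15_1 D107996 F110517 F110521
def n107997 : Q := act 4 n49875
theorem D107997 : act 4 n49875 = n107997 := rfl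
def n107998 : Q := act 6 n49875
theorem D107998 : act 6 n49875 = n107998 := rfl
theorem F166862 : act 3 n107998 = n49876 := d7_1 D107998 (iv6 D49876) D49875
theorem F166863 : act 5 n107998 = n62812 := d12_1 D107998 (iv6 F107278) F107277 (iv6 F119568) F119567
def n107999 : Q := act 1 n49876
theorem D107999 : act 1 n49876 = n107999 := rfl
theorem F166864 : act 1 n107999 = n62810 := d15_1 D107999 F98018 F79215
theorem F166865 : act 5 n61836 = n107999 := d21_6 (iv5 D15713) (iv1 F20902) (iv5 F23626) D29769 (iv1 F47883) D61836 (iv1 D107999) F78868 (iv6 F51964) (iv1 D32817)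
theorem F166866 : act 0 n62871 = n61836 := d21_10 F166865 (iv1 D107999) F78868 (iv6 F51964) (iv1 D32817) D32819 F51965 (iv1 F109842) F109843 D62871
def n108000 : Q := act 7 n49878
theorem D108000 : act 7 n49878 = n108000 := rfl
theorem F166867 : act 2 n108000 = n68380 := d4_1 D108000 (iv7 F104557) F79223
theorem F166868 : act 3 n108000 = n62910 := d8_1 D108000 F110541 F110538
theorem F166869 : act 5 n108000 = n60392 := d13_1 D108000 (iv7 D60392) (iv5 F78870)
theorem F166870 : act 6 n108000 = n62810 := d14_1 D108000 F98018 (iv6 D50050) F44676 D49878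
theorem F166871 : act 1 n53990 = n108000 := d15_1 (iv0 F104192) (iv7 D108000) (iv2 F79223)
theorem F166872 : act 1 n108000 = n53985 := d15_1 F166871 F131112 (iv2 F131097)
def n108001 : Q := act 2 n49880
theorem D108001 : act 2 n49880 = n108001 := rfl
theorem F166873 : act 4 n108001 = n65360 := d1_2 (iv4 F104785) D108001 (iv2 D65360)
theorem F166874 : act 7 n49881 = n108001 := d15_2 (iv0 D49880) D49881 (iv2 D108001)
def n108002 : Q := act 3 n49880
theorem D108002 : act 3 n49880 = n108002 := rfl
def n108003 : Q := act 5 n49880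
theorem D108003 : act 5 n49880 = n108003 := rfl
theorem F166875 : act 0 n108003 = n68502 := d21_1 D108003 F104704 (iv6 D68408) (iv1 D31823) F24621 (iv5 D7129) (iv1 F8103) (iv5 F18715) D24322 D49880
def n108004 : Q := act 7 n49880
theorem D108004 : act 7 n49880 = n108004 := rfl
theorem F166876 : act 2 n108004 = n49881 := d4_1 D108004 F166874 (iv2 D108001)
def n108005 : Q := act 3 n49881
theorem D108005 : act 3 n49881 = n108005 := rfl
def n108006 : Q := act 5 n49881
theorem D108006 : act 5 n49881 = n108006 := rfl
theorem F166878 : act 0 n68502 = n108006 := d21_10 (iv5 D108006) (iv1 D49881) (iv5 F50193) (iv6 D31887) (iv1 D15009) (iv6 F24639) (iv5 D15003) D15001 D31871 D68502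
theorem F166879 : act 6 n68344 = n108006 := d21_5 (iv5 D7140) D7138 (iv5 F26893) D31804 D68344 (iv5 D108006) (iv1 D49881) (iv5 F50193) (iv6 D31887) (iv1 D15009)
def n108007 : Q := act 6 n49881
theorem D108007 : act 6 n49881 = n108007 := rfl
theorem F166880 : act 4 n108007 = n65369 := d10_1 D108007 (iv6 D65369) (iv4 F104782)
theorem F166881 : act 5 n108007 = n71056 := d21_6 (iv5 D32430) (iv1 F25189) (iv5 F38270) D50054 (iv1 F79228) D108007 (iv1 D71056) F52093 D68113 (iv1 F104264)
def n108008 : Q := act 3 n49882
theorem D108008 : act 3 n49882 = n108008 := rfl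
theorem F166882 : act 4 n108008 = n51332 := d5_2 (iv4 F78872) D108008 (iv3 D51332) (iv4 D24960) D24959
theorem F166883 : act 7 n108008 = n51449 := d8_2 (iv7 F78875) D108008 (iv3 D51449)
def n108009 : Q := act 5 n49882
theorem D108009 : act 5 n49882 = n108009 := rfl
theorem F166884 : act 2 n108009 = n105206 := d2_1 D108009 (iv5 D105206) F78873
theorem F166885 : act 4 n108009 = n59149 := d9_1 D108009 (iv5 D59149) (iv4 D28098) (iv5 F24601) F24600 (iv5 F23820) D25415 D52335 (iv4 F100461) F100460 (iv4 F77443) F77444 (iv4 D30355) (iv5 F39279) (iv4 F78872)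
theorem F166886 : act 7 n108009 = n51450 := d13_2 (iv7 F78875) D108009 (iv5 D51450)
theorem F166887 : act 0 n108009 = n51937 := d17_2 D49882 D108009 (iv5 D51937) (iv4 D25201) (iv5 F22584) F19780 (iv5 F22241) F22242 D24325
theorem F166888 : act 1 n108009 = n51931 := d17_6 F36879 (iv5 D14408) D14407 (iv5 F39279) (iv4 F78872) D108009 (iv5 D51931) (iv0 F76493) (iv4 D48636)
theorem E16644 : n107493 = n31729 := (c19_14 (iv1 F166888) (iv5 D108009) F78872 (iv3 D24959) (iv1 F19276) F8493 (iv4 F8444) F8443 (iv1 F9969) D5280 D11380 D24217 D49657 D107493 D68154 (iv3 F104305) F104309 (iv5 F162354) (iv4 D69201) (iv3 F81994))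
theorem E16645 : n68155 = n49657 := ((D68155).symm.trans (sb E16644 (iv5 D107493)))
theorem F166889 : act 5 n49657 = n31729 := (sb E16645 (iv5 D68155))
theorem F166890 : act 5 n68152 = n107490 := d2_2 F166889 D68152 (iv2 D107490)
theorem F166891 : act 5 n68153 = n107491 := d6_2 F166889 D68153 (iv3 D107491)
theorem F166892 : act 5 n68157 = n107495 := d13_3 (iv7 D107495) F166889 D68157
theorem E16646 : n68218 = n31173 := (c17_3 D14936 D31751 D68218 (iv5 D31173) D31172 (iv5 F80715) F80717 F166889 (iv0 D31729) F24590)
theorem E16647 : n53658 = n31756 := (((iv1 F84656)).symm.trans (sb E16646 (iv1 F104390)))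
theorem E16648 : n53657 = n31751 := ((F84655).symm.trans (sb E16646 (iv0 D68218)))
theorem E16649 : n68219 = n25974 := (((iv1 F104387)).symm.trans (sb E16647 (iv1 D53658)))
theorem F166893 : act 1 n31756 = n31173 := (sb E16647 F84656)
theorem F166894 : act 0 n31751 = n31173 := (sb E16648 (iv1 F84655))
theorem F166895 : act 0 n25974 = n31751 := (sb E16649 (iv1 D68219))
theorem F166896 : act 1 n25974 = n31756 := (sb E16649 F104387)
theorem E16650 : n107078 = n68234 := ((c18_5 (iv1 F78400) F78397 (iv1 F41154) D31755 D68234 F165814 (iv0 F165815) F103324 F80717 F166889)).symm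
theorem F166897 : act 3 n68234 = n49464 := (sb E16650 (iv3 D107078))
theorem F166898 : act 4 n68234 = n107483 := (sb E16650 F165814)
theorem E16651 : n107080 = n59116 := (c6_3 D68234 F166897 D107080 F93285)
theorem F166899 : act 5 n59116 = n49464 := (sb E16651 (iv5 D107080))
theorem E16652 : n68159 = n49658 := (c17_2 (iv1 F78402) D68159 (iv1 D49658) F37961 F37901 D25974 F166896 (iv5 D31756) F41154 (iv4 F78397))
theorem E16653 : n107498 = n31730 := ((D107498).symm.trans (sb E16652 (iv5 D68159)))
theorem F166900 : act 5 n31730 = n49658 := (sb E16653 (iv5 D107498))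
theorem F166901 : act 5 n107496 = n68158 := d6_2 F166900 D107496 (iv3 D68158)
theorem F166902 : act 4 n107482 = n68215 := d18_3 (iv1 D49658) (iv4 F78419) D107482 (iv5 D68215) (iv4 D31750) (iv0 D14936) (iv4 F24590) D31730 F166900
theorem F166903 : act 4 n68209 = n66636 := d20_6 F24358 F11331 (iv4 F20451) (iv3 F41051) F166895 (iv3 F104378) (iv1 D66636) (iv4 D31085) F24371 (iv1 F24355)
def n108010 : Q := act 6 n49882
theorem D108010 : act 6 n49882 = n108010 := rfl
theorem F166904 : act 2 n108010 = n105207 := d3_1 D108010 (iv6 D105207) F78873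
theorem F166905 : act 4 n108010 = n51330 := d10_1 D108010 (iv6 D51330) (iv4 F78872)
def n108011 : Q := act 1 n49883
theorem D108011 : act 1 n49883 = n108011 := rfl
theorem F166906 : act 7 n108011 = n69203 := d15_2 (iv0 F78877) D108011 F105496
theorem F166907 : act 2 n53775 = n108011 := d4_3 F166906 F105496 (iv7 F84789)

end Cfsg.Agent.Helper17.ONTC
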