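import Cfsg.Agent.Helper17.ONTC.Facts21

set_option autoImplicit false
set_option linter.all false

noncomputable section

namespace Cfsg.Agent.Helper17.ONTC

theorem F166908 : act 5 n53761 = n108011 := d13_3 F166906 (iv5 D69203) (iv7 F84773)
theorem F166909 : act 1 n51919 = n69203 := d15_1 (iv0 F84790) (iv7 F166906) (iv2 F166907)
theorem F166910 : act 1 n108011 = n69205 := d15_0 (iv0 D69205) (iv7 F84789) F166907
def n108012 : Q := act 2 n49883
theorem D108012 : act 2 n49883 = n108012 := rfl
theorem F166911 : act 6 n108012 = n107586 := d3_2 (iv6 F78876) D108012 (iv2 D107586)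
theorem F166912 : act 7 n108012 = n69205 := d4_2 F81962 D108012 (iv2 F105499)
theorem F166913 : act 1 n108012 = n53775 := d15_0 (iv0 F84790) F81962 D108012
theorem F166914 : act 1 n69203 = n108012 := d15_0 F166913 F84789 (iv2 F105496)
def n108013 : Q := act 5 n49883
theorem D108013 : act 5 n49883 = n108013 := rfl
theorem F166915 : act 3 n108013 = n49884 := d6_1 D108013 (iv5 D49884) D49883
theorem F166916 : act 4 n105687 = n108013 := d5_0 F166915 F79918 (iv3 F162316) (iv4 D105697) (iv3 F162305)
theorem F166917 : act 0 n108013 = n66846 := d20_4 D51020 F80484 (iv4 F79918) (iv3 F166915) F102684 (iv4 D31983) F50755 D15148 D32096 F51036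
def n108014 : Q := act 0 n49884
theorem D108014 : act 0 n49884 = n108014 := rfl
theorem F166918 : act 5 n108014 = n50996 := d17_1 D108014 (iv1 F80446) D51003 F80459 (iv5 D50535) (iv0 D24622) D24625 D50546 (iv4 F79918)
theorem F166919 : act 4 n108014 = n52470 := d18_1 D108014 F82845 (iv4 F82045) F82044 F45296 F39278 (iv4 F78872) (iv0 D49882) D49884
theorem E16654 : n66934 = n51192 := ((c19_13 D108014 F166918 F80444 F39132 F19256 (iv5 D6987) (iv4 F11248) F11247 (iv1 F18308) F18307 D11822 D24907 D51192 (iv5 D66934) (iv4 F94104) F102798 F102830 D105687 F166916 F166915)).symm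
theorem F166920 : act 2 n51192 = n107282 := (sb E16654 (iv2 F165346))
theorem F166921 : act 5 n51192 = n31175 := (sb E16654 (iv5 D66934))
theorem F166922 : act 7 n51192 = n107279 := (sb E16654 (iv7 F165343))
theorem F166923 : act 2 n105180 = n108014 := d15_3 (iv0 D108014) (iv0 F82672) (iv7 F161099)
theorem F166924 : act 1 n50990 = n108014 := d15_0 (iv0 D108014) (iv7 F81965) F81963
theorem F166925 : act 7 n108014 = n51402 := d15_2 F82673 F166924 (iv2 F82671)
theorem E16655 : n66937 = n51193 := (c15_4 F80770 F80765 F166922 F165342)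
theorem F166926 : act 2 n51193 = n107279 := (sb E16655 (iv2 F165342))
theorem F166927 : act 5 n51193 = n31176 := (sb E16655 (iv5 D66937))
theorem F166928 : act 7 n51193 = n107282 := (sb E16655 (iv7 F165347))
theorem E16656 : n66903 = n14758 := (c17_3 (iv1 F41050) D31170 (iv1 F102833) F24406 (iv4 F24590) (iv5 F39055) D51193 F166927 F78322 F78318)
theorem E16657 : n31290 = n31165 := ((D31290).symm.trans (sb E16656 (iv1 D66903)))
theorem E16658 : n31291 = n31170 := ((D31291).symm.trans (sb E16656 F102833))
theorem E16659 : n66902 = n53785 := ((D66902).symm.trans (sb E16657 (iv1 F84801)))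
theorem F166929 : act 1 n31165 = n14758 := (sb E16657 (iv0 D31290))
theorem F166930 : act 0 n31170 = n14758 := (sb E16658 (iv1 D31291))
theorem F166931 : act 0 n53785 = n31170 := (sb E16659 (iv1 F102836))
theorem F166932 : act 1 n53785 = n31165 := (sb E16659 (iv0 D66902))
def n108015 : Q := act 6 n49884
theorem D108015 : act 6 n49884 = n108015 := rfl
theorem F166933 : act 5 n108015 = n107590 := d12_1 D108015 (iv6 D107590) (iv5 D49703) (iv6 F38111) D49884
def n108016 : Q := act 0 n49885
theorem D108016 : act 0 n49885 = n108016 := rfl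
def n108017 : Q := act 1 n49885
theorem D108017 : act 1 n49885 = n108017 := rfl
def n108018 : Q := act 2 n49885
theorem D108018 : act 2 n49885 = n108018 := rfl
theorem F166934 : act 3 n108018 = n108012 := d0_2 D49885 D108018 (iv2 D108012) (iv3 D49883) (iv2 F38112)
theorem F166935 : act 6 n108018 = n107593 := d3_2 (iv6 F78878) D108018 (iv2 D107593)
def n108019 : Q := act 5 n49885
theorem D108019 : act 5 n49885 = n108019 := rfl
theorem F166936 : act 3 n108019 = n49886 := d6_1 D108019 (iv5 D49886) D49885
theorem F166937 : act 4 n69785 = n108019 := d20_8 F161098 F100443 F53379 (iv3 D32096) D32094 D68991 F105203 D69785 F166936 (iv1 F161101)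
def n108020 : Q := act 6 n49886
theorem D108020 : act 6 n49886 = n108020 := rfl
theorem F166938 : act 2 n108020 = n108015 := d3_1 D108020 (iv6 D108015) (iv2 F78879)
theorem F166939 : act 5 n108020 = n107595 := d12_1 D108020 (iv6 D107595) (iv5 D49705) (iv6 F38113) D49886
def n108021 : Q := act 3 n49888
theorem D108021 : act 3 n49888 = n108021 := rfl
theorem F166940 : act 4 n108021 = n63356 := d5_2 D49888 D108021 (iv3 D63356) (iv4 D29934) (iv3 F38115)
theorem F166941 : act 7 n108021 = n49919 := d8_2 (iv7 F78887) D108021 (iv3 D49919)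
def n108022 : Q := act 5 n49888
theorem D108022 : act 5 n49888 = n108022 := rfl
theorem F166942 : act 2 n108022 = n49909 := d2_1 D108022 (iv5 D49909) (iv2 F78886)
theorem F166943 : act 7 n108022 = n49920 := d13_2 (iv7 F78887) D108022 (iv5 D49920)
theorem F166944 : act 4 n108022 = n74212 := d16_2 D49888 D108022 F111042 F95941 (iv5 D29814) F23686 D24328 F38119 (iv2 F38114)
theorem F166945 : act 1 n108022 = n51292 := d17_6 F22630 (iv5 D11463) D11461 D24327 D49888 D108022 (iv5 D51292) (iv0 F45732) (iv4 D28245)
def n108023 : Q := act 3 n49889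
theorem D108023 : act 3 n49889 = n108023 := rfl
theorem F166946 : act 7 n108023 = n49908 := d8_2 (iv7 F78889) D108023 (iv3 D49908)
def n108024 : Q := act 5 n49889
theorem D108024 : act 5 n49889 = n108024 := rfl
theorem F166947 : act 2 n108024 = n49920 := d2_1 D108024 (iv5 D49920) (iv2 F78888)
theorem F166948 : act 4 n108024 = n74211 := d9_1 D108024 F111036 (iv4 D49717) (iv5 D24247) F18741 D24327 D49888 D108022 F166944 F111042 F95941 (iv5 D29814) F23686 D24328 D49889
theorem F166949 : act 7 n108024 = n49909 := d13_2 (iv7 F78889) D108024 (iv5 D49909)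
theorem F166950 : act 0 n108024 = n51292 := d17_2 F97588 D108024 (iv5 D51292) (iv4 D24938) (iv5 D11839) (iv0 F19937) D16500 F47506 D62583
def n108025 : Q := act 3 n49890
theorem D108025 : act 3 n49890 = n108025 := rfl
theorem F166951 : act 4 n108025 = n50079 := d5_2 D49890 D108025 (iv3 D50079) F38366 F38367
theorem F166952 : act 7 n108025 = n49932 := d8_2 (iv7 F78891) D108025 (iv3 D49932)
def n108026 : Q := act 5 n49890
theorem D108026 : act 5 n49890 = n108026 := rfl
theorem F166953 : act 2 n108026 = n49926 := d2_1 D108026 (iv5 D49926) (iv2 F78890)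
theorem F166954 : act 4 n108026 = n74204 := d9_1 D108026 (iv5 D74204) F53408 (iv5 D28232) F22623 D13483 D28245 D59487 (iv4 F111017) (iv5 D74201) F53402 (iv5 F46502) F46505 (iv5 F38865) D49890
theorem F166955 : act 7 n108026 = n49933 := d13_2 (iv7 F78891) D108026 (iv5 D49933)
def n108027 : Q := act 6 n49890
theorem D108027 : act 6 n49890 = n108027 := rfl
theorem F166956 : act 2 n108027 = n49927 := d3_1 D108027 (iv6 D49927) (iv2 F78890)
theorem F166957 : act 4 n108027 = n49891 := d10_1 D108027 (iv6 D49891) D49890
def n108028 : Q := act 1 n49891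
theorem D108028 : act 1 n49891 = n108028 := rfl
theorem F166958 : act 1 n108028 = n49930 := d15_1 D108028 (iv7 D49930) (iv2 F78893)
theorem F166959 : act 7 n108028 = n49928 := d15_2 (iv0 F166080) D108028 (iv2 F166143)
theorem F166960 : act 2 n49929 = n108028 := d4_3 F166959 (iv2 F166143) (iv7 F166175)
theorem F166961 : act 3 n107605 = n108028 := d8_3 F166959 (iv3 F166133) (iv7 F166144)
def n108029 : Q := act 7 n49891
theorem D108029 : act 7 n49891 = n108029 := rfl
theorem F166962 : act 2 n108029 = n49930 := d4_1 D108029 (iv7 D49930) (iv2 F78893)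
theorem F166963 : act 3 n108029 = n63370 := d8_1 D108029 (iv7 D63370) (iv3 F78894)
theorem F166964 : act 5 n108029 = n51940 := d13_1 D108029 (iv7 D51940) (iv5 F78895)
theorem F166965 : act 6 n108029 = n49937 := d14_1 D108029 (iv7 D49937) (iv6 D24352) (iv7 F38122) D49891
theorem F166966 : act 1 n49929 = n108029 := d15_1 D49929 (iv7 D108029) F78893
theorem F166967 : act 1 n108029 = n49928 := d15_1 F166966 (iv7 F166959) (iv2 F166960)
def n108030 : Q := act 0 n49892
theorem D108030 : act 0 n49892 = n108030 := rfl
def n108031 : Q := act 1 n49892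
theorem D108031 : act 1 n49892 = n108031 := rfl
def n108032 : Q := act 2 n49892
theorem D108032 : act 2 n49892 = n108032 := rfl
theorem F166968 : act 3 n108032 = n49946 := d0_2 D49892 D108032 (iv2 D49946) (iv3 D24355) (iv2 F38124)
theorem F166969 : act 4 n108032 = n107612 := d1_2 (iv4 F78896) D108032 (iv2 D107612)
theorem F166970 : act 6 n108032 = n105515 := d3_2 (iv6 F78897) D108032 (iv2 D105515)
def n108033 : Q := act 5 n49892
theorem D108033 : act 5 n49892 = n108033 := rfl
theorem F166971 : act 3 n108033 = n49893 := d6_1 D108033 (iv5 D49893) D49892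
theorem F166972 : act 7 n74334 = n108033 := d8_0 F166971 (iv7 F78900) D74334
def n108034 : Q := act 7 n49892
theorem D108034 : act 7 n49892 = n108034 := rfl
theorem F166973 : act 3 n108034 = n49894 := d8_1 D108034 (iv7 D49894) D49892
theorem F166974 : act 4 n108034 = n107614 := d11_1 D108034 (iv7 D107614) (iv4 F78896)
theorem F166975 : act 5 n108034 = n74334 := d13_1 D108034 F166972 (iv5 D108033)
def n108035 : Q := act 6 n49893
theorem D108035 : act 6 n49893 = n108035 := rfl
theorem F166976 : act 2 n108035 = n49952 := d3_1 D108035 (iv6 D49952) (iv2 F78898)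
theorem F166977 : act 4 n108035 = n74339 := d10_1 D108035 (iv6 D74339) (iv4 F78899)
theorem F166978 : act 5 n108035 = n105518 := d12_1 D108035 (iv6 D105518) (iv5 D48784) (iv6 F38125) D49893
def n108036 : Q := act 6 n49894
theorem D108036 : act 6 n49894 = n108036 := rfl
theorem F166979 : act 2 n108036 = n49954 := d3_1 D108036 (iv6 D49954) (iv2 F78901)
theorem F166980 : act 4 n108036 = n49895 := d10_1 D108036 (iv6 D49895) (iv4 F78902)
theorem F166981 : act 7 n108036 = n105519 := d14_2 D49894 D108036 (iv6 D105519) (iv7 D48785) (iv6 F38125)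
theorem F166982 : act 1 n105649 = n108036 := d15_1 D105649 F166981 F162005
theorem F166983 : act 1 n108036 = n105648 := d15_1 F166982 (iv7 F165693) F165692
theorem F166984 : act 0 n59630 = n64273 := d20_1 D59630 F100070 F48667 D49184 D106443 (iv4 F163991) (iv1 F166983) F166980 F78907 (iv1 F78561)
theorem F166985 : act 0 n51097 = n59629 := d20_4 (iv4 F165543) (iv1 F80838) F80711 (iv3 F80603) (iv3 D59629) D59630 F166984 F100070 F48667 D49184
theorem F166986 : act 1 n59630 = n107668 := d15_1 (iv0 F166984) F166297 (iv2 F100069)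
theorem F166987 : act 0 n59629 = n51092 := d20_4 (iv4 F166296) (iv1 F166986) (iv4 D59630) D59629 (iv3 F93828) (iv4 F99527) F101320 (iv4 D30508) D30507 (iv1 F163995)
def n108037 : Q := act 3 n49897
theorem D108037 : act 3 n49897 = n108037 := rfl
theorem F166988 : act 4 n108037 = n49908 := d5_2 D49897 D108037 (iv3 D49908) (iv4 D24339) (iv3 F38131)
def n108038 : Q := act 6 n49897
theorem D108038 : act 6 n49897 = n108038 := rfl
theorem F166989 : act 4 n108038 = n49898 := d10_1 D108038 (iv6 D49898) D49897
theorem F166990 : act 0 n108038 = n74396 := d20_7 (iv4 F48938) (iv1 F53543) (iv4 F53670) (iv3 F111400) (iv1 D49912) (iv3 F78918) (iv4 F166989) (iv4 D74396) (iv3 D34124) (iv1 F26132)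
def n108039 : Q := act 0 n49898
theorem D108039 : act 0 n49898 = n108039 := rfl
theorem F166991 : act 6 n108039 = n51174 := d21_5 (iv5 D23784) F20232 D24332 D49898 D108039 F80731 (iv1 F111378) (iv5 F98679) (iv6 D63371) (iv1 F48141)
theorem F166992 : act 3 n51149 = n108039 := d7_3 F166991 (iv3 D51174) (iv6 F80686)
theorem F166993 : act 4 n64126 = n108039 := d10_3 F166991 F111282 (iv6 F100317)
theorem F166994 : act 7 n108039 = n74730 := d8_2 (iv7 F103503) F166992 (iv3 D74730)
def n108040 : Q := act 1 n49898
theorem D108040 : act 1 n49898 = n108040 := rfl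
def n108041 : Q := act 7 n49898
theorem D108041 : act 7 n49898 = n108041 := rfl
theorem F166995 : act 3 n108041 = n49913 := d8_1 D108041 (iv7 D49913) (iv3 F78918)
theorem F166996 : act 6 n108041 = n107436 := d14_1 D108041 F165738 (iv6 D58737) F45104 D49898
theorem F166997 : act 1 n74730 = n108041 := d15_1 (iv0 F166216) (iv7 D108041) (iv2 F92800)
def n108042 : Q := act 6 n49899
theorem D108042 : act 6 n49899 = n108042 := rfl
theorem F166998 : act 2 n108042 = n52143 := d3_1 D108042 (iv6 D52143) (iv2 F78919)
theorem F166999 : act 3 n108042 = n63327 := d7_1 D108042 (iv6 D63327) (iv3 F78920)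
theorem F167000 : act 4 n108042 = n64426 := d10_1 D108042 (iv6 D64426) (iv4 F78924)
theorem F167001 : act 5 n108042 = n108042 := d12_1 D108042 (iv6 D108042) (iv5 D49899) F38145 D49899
theorem F167002 : act 7 n108042 = n50882 := d14_2 (iv7 F78921) D108042 (iv6 D50882) F38734 (iv6 F39085)
def n108043 : Q := act 6 n49900
theorem D108043 : act 6 n49900 = n108043 := rfl
theorem F167003 : act 2 n108043 = n61881 := d3_1 D108043 F96466 F78926
theorem F167004 : act 3 n108043 = n63355 := d7_1 D108043 (iv6 D63355) (iv3 F78929)
theorem F167005 : act 5 n108043 = n59370 := d12_1 D108043 (iv6 D59370) (iv5 D28195) D28196 (iv5 F78925)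
def n108044 : Q := act 3 n49901
theorem D108044 : act 3 n49901 = n108044 := rfl
theorem F167006 : act 5 n108044 = n74330 := d6_2 (iv5 F78931) D108044 (iv3 D74330)
theorem F167007 : act 7 n108044 = n74325 := d8_2 F95943 D108044 (iv3 F111523)
theorem F167008 : act 0 n108044 = n74328 := d19_4 F18745 D24335 D49901 D108044 F111528 F53509 F26219 (iv1 F11958) D14521 F24160 (iv3 F26582) (iv1 F23150) (iv5 D6604) (iv4 F5106) (iv3 F8273) F8274 (iv5 D2380) (iv4 F3721) (iv3 F8743)
theorem F167009 : act 2 n108044 = n74324 := d15_3 (iv0 D74324) D74325 (iv7 F167007)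
def n108045 : Q := act 6 n49901
theorem D108045 : act 6 n49901 = n108045 := rfl
theorem F167010 : act 2 n108045 = n107619 := d3_1 D108045 (iv6 D107619) (iv2 F78930)
theorem F167011 : act 4 n108045 = n49902 := d10_1 D108045 (iv6 D49902) D49901
theorem F167012 : act 0 n74240 = n108045 := d18_2 (iv1 F53434) D74240 F167011 (iv5 F99609) F99608 (iv0 F166093) (iv4 D53642) (iv0 F161288) (iv5 F48858)
theorem F167013 : act 1 n74238 = n108045 := d15_0 (iv0 F167012) F111109 (iv2 F111104)
def n108046 : Q := act 0 n49902
theorem D108046 : act 0 n49902 = n108046 := rfl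
theorem F167014 : act 4 n108046 = n64704 := d18_1 D108046 (iv1 F111101) F111098 F53436 (iv4 F99569) F99573 D64670 (iv0 F166207) F99609
theorem F167015 : act 5 n108046 = n108040 := d21_0 (iv1 D108040) (iv5 F84168) (iv6 D53320) F40837 F22855 (iv5 D12020) F18745 D24335 D49902 D108046
def n108047 : Q := act 1 n49902
theorem D108047 : act 1 n49902 = n108047 := rfl
theorem F167016 : act 1 n108047 = n107622 := d15_1 D108047 (iv7 D107622) (iv2 F78934)
theorem F167017 : act 5 n108039 = n108047 := d21_0 (iv1 D108047) (iv5 F99609) (iv6 D64017) F48559 F38869 (iv5 D23784) F20232 D24332 D49898 D108039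
theorem F167018 : act 3 n108047 = n49960 := d6_1 F167017 (iv5 F80687) F166992
theorem F167019 : act 7 n108047 = n107620 := d13_2 (iv7 F166994) F167017 F166211
theorem F167020 : act 4 n108047 = n64705 := d18_5 (iv1 D30223) (iv4 F48613) D64126 F166993 F167017 F111100 F111098 F53439 F48856
theorem F167021 : act 7 n64705 = n74233 := d11_2 (iv7 F167019) F167020 F166212
theorem F167022 : act 0 n49959 = n67566 := d20_1 (iv4 F79016) F111188 F111323 (iv1 F111075) F111065 (iv4 F111098) (iv1 F111100) (iv4 F167020) F167018 (iv1 D49960)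
theorem F167023 : act 2 n74233 = n64704 := d15_3 (iv0 D64704) D64705 F167021
theorem F167024 : act 2 n64705 = n74234 := d15_3 F111095 F111099 (iv7 F167021)
theorem F167025 : act 7 n74234 = n64704 := d4_2 (iv7 F167021) F167024 (iv2 F167023)
theorem F167026 : act 2 n108046 = n107620 := d1_3 (iv4 F166212) F167023 (iv4 F167014)
theorem F167027 : act 6 n64704 = n107053 := d3_2 F166213 F167023 (iv2 F165006)
theorem F167028 : act 3 n63358 = n108046 := d0_0 F167026 (iv3 F166210) F103501 (iv3 F103463) F112155
theorem F167029 : act 2 n74730 = n108040 := d2_3 (iv5 F167015) F167026 F166211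
theorem F167030 : act 7 n107621 = n108046 := d15_2 (iv0 D107620) D107621 F167026
theorem F167031 : act 2 n107621 = n108047 := d4_3 F167019 (iv2 F167026) (iv7 F167030)
theorem F167032 : act 4 n74234 = n107621 := d1_0 F167031 F167020 F167024
theorem F167033 : act 1 n107622 = n108046 := d15_1 F167016 (iv7 F167030) F167031
def n108048 : Q := act 7 n49902
theorem D108048 : act 7 n49902 = n108048 := rfl
theorem F167034 : act 2 n108048 = n107622 := d4_1 D108048 (iv7 D107622) (iv2 F78934)
theorem F167035 : act 1 n107621 = n108048 := d15_1 D107621 (iv7 D108048) F78934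
theorem F167036 : act 1 n108048 = n107620 := d15_1 F167035 (iv7 F167019) (iv2 F167031)
def n108049 : Q := act 3 n49903
theorem D108049 : act 3 n49903 = n108049 := rfl
theorem F167037 : act 4 n108049 = n107628 := d5_2 D49903 D108049 (iv3 D107628) (iv4 D49723) F38153
def n108050 : Q := act 5 n49903
theorem D108050 : act 5 n49903 = n108050 := rfl
theorem F167038 : act 2 n108050 = n62136 := d2_1 D108050 (iv5 D62136) (iv2 F78935)
theorem F167039 : act 4 n108050 = n64423 := d16_2 D49903 D108050 (iv5 D64423) (iv4 D30335) (iv5 D14392) F22553 F38156 F38155 F38152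
theorem F167040 : act 0 n108050 = n64432 := d17_2 (iv1 F78937) D108050 F100353 (iv4 D34069) F26094 (iv0 F23989) (iv5 F47503) (iv0 F47505) D34048
theorem F167041 : act 1 n108050 = n64309 := d17_6 (iv1 F22631) (iv5 D13483) (iv1 F22628) (iv5 F38149) D49903 D108050 (iv5 D64309) F48725 F38173
def n108051 : Q := act 6 n49903
theorem D108051 : act 6 n49903 = n108051 := rfl
theorem F167042 : act 2 n108051 = n62134 := d3_1 D108051 F96855 (iv2 F78935)
theorem F167043 : act 4 n108051 = n49904 := d10_1 D108051 (iv6 D49904) D49903
def n108052 : Q := act 5 n49905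
theorem D108052 : act 5 n49905 = n108052 := rfl
theorem F167044 : act 4 n108052 = n63823 := d9_1 D108052 (iv5 D63823) (iv4 D30112) (iv5 D14294) F22525 (iv5 F38149) D49903 D108050 F167039 (iv5 D64423) (iv4 D30335) (iv5 D14392) F22553 F38156 D49905
theorem F167045 : act 7 n108052 = n62136 := d13_2 (iv7 F78941) D108052 (iv5 D62136)
theorem F167046 : act 0 n108052 = n64309 := d17_2 (iv1 F78943) D108052 (iv5 D64309) (iv4 D30292) (iv5 D14377) D14376 D30291 (iv0 F48721) D34061
theorem F167047 : act 1 n108052 = n64432 := d17_6 D24329 F38865 F38864 F38156 D49905 D108052 F100353 F53475 (iv4 D24330)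
def n108053 : Q := act 3 n49906
theorem D108053 : act 3 n49906 = n108053 := rfl
theorem F167048 : act 4 n108053 = n63434 := d5_2 (iv4 F78944) D108053 (iv3 D63434) (iv4 D29969) (iv3 F48165)
def n108054 : Q := act 5 n49906
theorem D108054 : act 5 n49906 = n108054 := rfl
theorem F167049 : act 4 n108054 = n64427 := d16_2 (iv4 F78944) D108054 F110967 F110964 (iv5 D49649) F37934 (iv5 F46623) (iv7 F47504) (iv2 F48164)
theorem F167050 : act 0 n108054 = n108026 := d17_2 D49906 D108054 (iv5 D108026) (iv4 D49890) F38865 (iv0 F38866) (iv5 F38149) (iv0 D24337) D24339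
theorem F167051 : act 1 n108054 = n59487 := d17_6 (iv1 F40069) (iv5 D14367) (iv1 F23984) D29961 (iv4 F78944) D108054 (iv5 D59487) F82529 F82528
theorem F167052 : act 3 n74204 = n74321 := d20_3 (iv4 F167049) F167050 F166954 (iv1 F111519) F53508 F26107 (iv1 F11904) D14393 D30337 D64427
theorem F167053 : act 3 n49990 = n108026 := d5_5 F166954 F167052 (iv4 F111520) (iv3 D49989) D49990
theorem F167054 : act 5 n74321 = n74203 := d6_2 D74204 F167052 (iv3 D74203)
theorem F167055 : act 7 n74321 = n74292 := d8_2 (iv7 F111025) F167052 F111499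
theorem F167056 : act 2 n74292 = n74322 := d15_3 F111521 F111519 F167055
theorem F167057 : act 5 n74322 = n74291 := d2_2 D74292 F167056 (iv2 D74291)
theorem F167058 : act 5 n108025 = n49990 := d6_0 F167053 (iv5 D108026) D108025
def n108055 : Q := act 6 n49906
theorem D108055 : act 6 n49906 = n108055 := rfl
theorem F167059 : act 4 n108055 = n63417 := d10_1 D108055 F98742 (iv4 F78944)
def n108056 : Q := act 3 n49907
theorem D108056 : act 3 n49907 = n108056 := rfl
theorem F167060 : act 4 n108056 = n61250 := d5_2 (iv4 F78947) D108056 (iv3 D61250) (iv4 D28997) D28996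
def n108057 : Q := act 5 n49907
theorem D108057 : act 5 n49907 = n108057 := rfl
theorem F167061 : act 4 n108057 = n64428 := d9_1 D108057 (iv5 F110953) F110954 F78925 F45603 D29961 (iv4 F78944) D108054 F167049 F110967 F110964 (iv5 D49649) F37934 (iv5 F46623) (iv4 F78947)
theorem F167062 : act 0 n108057 = n59487 := d17_2 (iv1 F78946) D108057 (iv5 D59487) (iv4 D28245) (iv5 D13483) (iv0 F22625) F38156 F38154 D24345
theorem F167063 : act 1 n108057 = n108026 := d17_6 D24937 F39086 (iv1 F24023) (iv5 F46623) (iv4 F78947) D108057 (iv5 D108026) F78892 (iv4 D24938)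
theorem F167064 : act 0 n61646 = n49991 := d19_16 (iv1 F167063) (iv5 D108057) F78947 (iv3 D28996) (iv1 D13802) (iv5 D6565) (iv4 D2925) (iv3 D1324) (iv1 F1493) (iv5 F2478) (iv4 F4740) F26451 F10701 D13893 D29207 D61646 (iv5 D49991) D49990 F167053
def n108058 : Q := act 6 n49907
theorem D108058 : act 6 n49907 = n108058 := rfl
theorem F167065 : act 2 n108058 = n105566 := d3_1 D108058 F162144 F100138
theorem F167066 : act 4 n108058 = n61249 := d10_1 D108058 (iv6 D61249) (iv4 F78947)
theorem F167067 : act 0 n108058 = n105501 := d21_4 D108026 (iv1 F167063) (iv5 D108057) D108058 (iv6 D105501) D105500 F161964 (iv5 D62943) F47892 (iv1 F78892)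
theorem F167068 : act 1 n108058 = n105568 := d15_1 (iv0 F167067) (iv7 D105568) (iv2 F161965)
theorem F167069 : act 0 n58993 = n105207 := d18_2 (iv1 F93183) D58993 F161144 (iv5 F95716) (iv4 F167066) F167068 F162146 F76887 (iv5 F93181)
theorem F167070 : act 0 n59137 = n58992 := d20_4 D105213 F161150 F82739 (iv3 F93316) (iv3 D58992) D58993 F167069 F161144 F76527 D48651
theorem F167071 : act 1 n50351 = n58992 := d15_0 (iv0 F167070) (iv7 D59137) (iv2 F79729)
theorem F167072 : act 7 n105565 = n108058 := d11_0 F167066 (iv7 F162152) F162149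
def n108059 : Q := act 0 n49908
theorem D108059 : act 0 n49908 = n108059 := rfl
theorem F167073 : act 5 n108059 = n52197 := d19_1 D108059 F82523 (iv3 D25357) (iv1 F39945) (iv5 F78418) (iv4 D49651) (iv3 F77686) F77687 (iv5 D24066) F18433 F7906 (iv1 D2207) (iv5 D1078) (iv4 F1994) (iv3 F3552) D5340 D11468 D24339 D49908
theorem F167074 : act 3 n108059 = n52198 := d20_5 (iv4 D49905) (iv1 D24338) D24339 D49908 D108059 (iv4 F100341) (iv1 F110979) (iv4 F111058) F111056 (iv1 F78943)
def n108060 : Q := act 1 n49908
theorem D108060 : act 1 n49908 = n108060 := rfl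
def n108061 : Q := act 2 n49908
theorem D108061 : act 2 n49908 = n108061 := rfl
def n108062 : Q := act 5 n49908
theorem D108062 : act 5 n49908 = n108062 := rfl
theorem F167075 : act 3 n108062 = n49909 := d6_1 D108062 (iv5 D49909) D49908
theorem F167076 : act 0 n108062 = n108056 := d20_4 D49951 F78998 (iv4 F78964) (iv3 F167075) (iv3 D108056) F78947 F46625 D34046 F78993 (iv1 D49950)
def n108063 : Q := act 6 n49908
theorem D108063 : act 6 n49908 = n108063 := rfl
theorem F167077 : act 3 n108063 = n49910 := d7_1 D108063 (iv6 D49910) D49908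
def n108064 : Q := act 0 n49909
theorem D108064 : act 0 n49909 = n108064 := rfl
theorem F167078 : act 5 n108064 = n49924 := d17_1 D108064 (iv1 F78970) D49933 F78977 (iv5 D34087) (iv0 D16510) D16513 D34098 (iv4 F78964)
theorem F167079 : act 4 n108064 = n52142 := d18_1 D108064 (iv1 F110974) (iv4 F164855) (iv5 D106956) (iv4 D49413) (iv0 F48166) (iv4 F78944) (iv0 D49906) D49909
theorem F167080 : act 1 n49920 = n108064 := d15_0 (iv0 D108064) (iv7 F166949) F166947
theorem F167081 : act 7 n108064 = n51292 := d15_2 F82526 F167080 (iv2 F82524)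
theorem F167082 : act 0 n74330 = n61444 := d20_4 (iv4 F167079) (iv1 F167080) F78966 D74330 (iv3 D61444) (iv4 D29085) F26063 D34036 D74191 F110976
def n108065 : Q := act 6 n49909
theorem D108065 : act 6 n49909 = n108065 := rfl
theorem F167083 : act 4 n108065 = n74333 := d10_1 D108065 (iv6 D74333) (iv4 F78964)
def n108066 : Q := act 0 n49910
theorem D108066 : act 0 n49910 = n108066 := rfl
theorem F167084 : act 4 n108066 = n74218 := d20_2 (iv4 F78948) D108066 (iv3 F111313) (iv1 F80862) F48918 (iv4 F48938) (iv1 F53543) (iv4 F53670) (iv3 F111400) (iv1 D49912)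
theorem F167085 : act 6 n105547 = n108066 := d10_0 F167084 F111062 (iv4 F162078)
def n108067 : Q := act 1 n49910
theorem D108067 : act 1 n49910 = n108067 := rfl
theorem F167086 : act 4 n108067 = n61272 := d18_7 (iv1 F163537) D107274 (iv1 F166205) F93792 F45660 (iv4 F78948) D108067 F111326 (iv5 F163534)
def n108068 : Q := act 5 n49910
theorem D108068 : act 5 n49910 = n108068 := rfl
def n108069 : Q := act 7 n49910
theorem D108069 : act 7 n49910 = n108069 := rfl
theorem F167087 : act 4 n108069 = n49913 := d11_1 D108069 (iv7 D49913) (iv4 F78948)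
def n108070 : Q := act 4 n49911
theorem D108070 : act 4 n49911 = n108070 := rfl
theorem F167088 : act 2 n108070 = n74750 := d1_1 D108070 (iv4 D74750) F111404
theorem F167089 : act 6 n108070 = n105551 := d10_2 (iv6 F93760) D108070 (iv4 D105551)
def n108071 : Q := act 4 n49912
theorem D108071 : act 4 n49912 = n108071 := rfl
theorem F167090 : act 7 n108071 = n74750 := d11_2 (iv7 F111403) D108071 (iv4 D74750)
theorem F167091 : act 0 n108071 = n74222 := d18_2 (iv1 F93994) D108071 F111069 (iv5 F77622) (iv4 F93806) F162296 (iv4 D105678) F166074 (iv5 F93991)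
theorem F167092 : act 1 n108070 = n74222 := d15_0 (iv0 F167091) F167090 (iv2 F167088)
def n108072 : Q := act 3 n49915
theorem D108072 : act 3 n49915 = n108072 := rfl
theorem F167093 : act 4 n108072 = n49919 := d5_2 D49915 D108072 (iv3 D49919) (iv4 D24345) (iv3 F38159)
theorem F167094 : act 7 n108072 = n63356 := d8_2 (iv7 F78955) D108072 (iv3 D63356)
def n108073 : Q := act 0 n49916
theorem D108073 : act 0 n49916 = n108073 := rfl
theorem F167095 : act 2 n63364 = n108073 := d15_3 (iv0 D108073) (iv0 F79555) F103351
theorem F167096 : act 1 n63367 = n108073 := d15_0 (iv0 D108073) (iv7 F103721) (iv2 F103722)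
theorem F167097 : act 7 n108073 = n63365 := d15_2 F98676 F167096 F98670
theorem F167098 : act 4 n65949 = n108073 := d11_3 F167097 F98672 D65949
def n108074 : Q := act 3 n49917
theorem D108074 : act 3 n49917 = n108074 := rfl
theorem F167099 : act 4 n108074 = n107598 := d5_2 D49917 D108074 (iv3 D107598) (iv4 D49707) (iv3 F38163)
theorem F167100 : act 5 n108074 = n74332 := d6_2 F78963 D108074 (iv3 D74332)
theorem F167101 : act 7 n108074 = n107618 := d8_2 (iv7 F78960) D108074 (iv3 D107618)
def n108075 : Q := act 6 n49917
theorem D108075 : act 6 n49917 = n108075 := rfl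
theorem F167102 : act 4 n108075 = n49918 := d10_1 D108075 (iv6 D49918) D49917
theorem F167103 : act 0 n74254 = n108075 := d21_4 D25841 D53308 F84156 (iv6 F111133) (iv6 D108075) (iv5 F78963) (iv1 D34098) (iv5 D16513) F11901 D12268
theorem F167104 : act 0 n108075 = n74253 := d20_1 (iv4 F167102) (iv4 D74253) (iv3 F53463) (iv1 F26161) (iv3 F48971) (iv4 F100850) (iv1 F100851) (iv4 F98672) F98671 F93823
def n108076 : Q := act 0 n49919
theorem D108076 : act 0 n49919 = n108076 := rfl
def n108077 : Q := act 1 n49919
theorem D108077 : act 1 n49919 = n108077 := rfl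
def n108078 : Q := act 2 n49919
theorem D108078 : act 2 n49919 = n108078 := rfl
def n108079 : Q := act 5 n49919
theorem D108079 : act 5 n49919 = n108079 := rfl
theorem F167105 : act 3 n108079 = n49920 := d6_1 D108079 (iv5 D49920) D49919
theorem F167106 : act 4 n74365 = n108079 := d20_8 (iv4 F100341) (iv1 F110979) (iv4 F111058) F111056 (iv1 F78943) (iv3 F111594) (iv4 D74368) D74365 F167105 (iv1 F82526)
theorem F167107 : act 5 n50001 = n74365 := d19_1 D50001 F167106 F167105 (iv1 F82526) (iv5 D52198) (iv4 D25352) F19930 D12042 (iv5 F22271) F22270 F10360 (iv1 F4577) F4698 D6677 (iv3 F26581) (iv1 F8103) (iv5 F18715) (iv4 F18784) (iv3 F38219)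
def n108080 : Q := act 6 n49919
theorem D108080 : act 6 n49919 = n108080 := rfl
theorem F167108 : act 3 n108080 = n49921 := d7_1 D108080 (iv6 D49921) D49919
def n108081 : Q := act 6 n49920
theorem D108081 : act 6 n49920 = n108081 := rfl
theorem F167109 : act 4 n108081 = n74331 := d10_1 D108081 (iv6 D74331) (iv4 F78966)
def n108082 : Q := act 0 n49921
theorem D108082 : act 0 n49921 = n108082 := rfl
theorem F167110 : act 4 n108082 = n106957 := d20_8 (iv4 F97613) (iv1 F97615) F85016 (iv3 F79553) F79555 F78959 (iv4 F78967) D108082 F164859 (iv1 F82460)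
theorem F167111 : act 7 n105539 = n108082 := d11_0 F167110 F164861 (iv4 F162068)
def n108083 : Q := act 5 n49921
theorem D108083 : act 5 n49921 = n108083 := rfl
def n108084 : Q := act 0 n49923
theorem D108084 : act 0 n49923 = n108084 := rfl
theorem F167112 : act 6 n108084 = n51223 := d21_5 (iv5 D50936) (iv1 F45689) F45686 D49923 D108084 (iv5 F94078) F166483 (iv5 F92802) (iv6 D58735) (iv1 F80350)
theorem F167113 : act 3 n51155 = n108084 := d7_3 F167112 (iv3 D51223) (iv6 F80802)
theorem F167114 : act 4 n64677 = n108084 := d10_3 F167112 F161378 D64677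
theorem E16670 : n64677 = n64163 := ((c20_2 (iv4 F48629) D64163 F167114 (iv3 F167113) (iv1 F80704) F78635 (iv4 F53823) (iv1 F53825) (iv4 D30588) F161306 (iv1 D30238))).symm
theorem F167115 : act 4 n64163 = n108084 := (sb E16670 F167114)
theorem F167116 : act 6 n64163 = n30427 := (sb E16670 (iv6 D64677))
theorem F167117 : act 7 n108084 = n107761 := d8_2 (iv7 F166411) F167113 (iv3 D107761)
def n108085 : Q := act 1 n49923
theorem D108085 : act 1 n49923 = n108085 := rfl
theorem F167118 : act 4 n108085 = n64164 := d17_9 (iv1 D64164) D64165 F100293 (iv5 D64340) (iv4 F50027) F50028 (iv0 F80443) F80442 D108085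
def n108086 : Q := act 7 n49923
theorem D108086 : act 7 n49923 = n108086 := rfl
theorem F167119 : act 3 n108086 = n49930 := d8_1 D108086 (iv7 D49930) (iv3 F78968)
theorem F167120 : act 5 n108086 = n52053 := d13_1 D108086 F82270 F80442
theorem F167121 : act 1 n107761 = n108086 := d15_1 (iv0 F166512) (iv7 D108086) (iv2 F92808)
def n108087 : Q := act 3 n49924
theorem D108087 : act 3 n49924 = n108087 := rfl
theorem F167122 : act 4 n108087 = n51312 := d5_2 (iv4 F78969) D108087 F80949 F39126 (iv3 F39091)
theorem F167123 : act 7 n108087 = n51291 := d8_2 (iv7 F78971) D108087 (iv3 D51291)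
def n108088 : Q := act 6 n49924
theorem D108088 : act 6 n49924 = n108088 := rfl
theorem F167124 : act 4 n108088 = n51293 := d10_1 D108088 (iv6 D51293) (iv4 F78969)
theorem F167125 : act 7 n108088 = n105572 := d14_2 (iv7 F78971) D108088 (iv6 D105572) F76893 F47892
def n108089 : Q := act 0 n49925
theorem D108089 : act 0 n49925 = n108089 := rfl
theorem F167126 : act 5 n108089 = n108056 := d19_1 D108089 F167060 (iv3 D61250) F46626 (iv5 F77742) (iv4 D49223) F37555 D24024 F37557 (iv4 D11431) F7933 D5315 F7938 F7732 (iv3 F10795) (iv1 F23858) (iv5 F22633) D24348 D49925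
theorem F167127 : act 3 n108089 = n108057 := d20_5 (iv4 D11477) D11475 D24348 D49925 D108089 F167061 (iv1 D64428) (iv4 F78980) (iv3 D49941) (iv1 D24354)
def n108090 : Q := act 1 n49925
theorem D108090 : act 1 n49925 = n108090 := rfl
def n108091 : Q := act 2 n49925
theorem D108091 : act 2 n49925 = n108091 := rfl
def n108092 : Q := act 5 n49925
theorem D108092 : act 5 n49925 = n108092 := rfl
theorem F167128 : act 3 n108092 = n49926 := d6_1 D108092 (iv5 D49926) D49925
def n108093 : Q := act 6 n49925
theorem D108093 : act 6 n49925 = n108093 := rfl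
theorem F167129 : act 3 n108093 = n49927 := d7_1 D108093 (iv6 D49927) D49925
def n108094 : Q := act 0 n49926
theorem D108094 : act 0 n49926 = n108094 := rfl
theorem F167130 : act 5 n108094 = n64307 := d17_1 D108094 F100140 D108022 F166944 F111042 (iv0 D61443) D61445 F95946 (iv4 F78972)
theorem F167131 : act 4 n108094 = n64430 := d18_1 D108094 (iv1 F100348) F100343 (iv5 D64309) (iv4 D30292) F39093 (iv4 F78969) (iv0 D49924) D49926
theorem F167132 : act 1 n49933 = n108094 := d15_0 (iv0 D108094) (iv7 F93893) F93892
theorem E16671 : n74292 = n34093 := (c20_4 (iv4 F167131) (iv1 F167132) F78977 (iv3 F111499) (iv1 D34093) (iv3 D16512) (iv4 D7668) D7666 D16505 (iv3 F96862) D64430)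
theorem E16672 : n74322 = n74316 := ((((iv2 F111517)).symm.trans (sb E16671 F167056))).symm
theorem E16673 : n74317 = n34087 := ((D74317).symm.trans (sb E16671 F111499))
theorem E16674 : n74319 = n34086 := ((D74319).symm.trans (sb E16671 (iv5 D74292)))
theorem E16675 : n74321 = n74311 := (((F111516).symm.trans (sb E16671 (iv7 F167055)))).symm
theorem F167133 : act 0 n74316 = n34094 := (sb E16672 (iv1 D74322))
theorem F167134 : act 1 n74316 = n34096 := (sb E16672 F111521)
theorem F167135 : act 5 n74316 = n74291 := (sb E16672 F167057)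
theorem F167136 : act 3 n34087 = n34093 := (sb E16673 (iv3 D74317))
theorem F167137 : act 5 n34086 = n34093 := (sb E16674 (iv5 D74319))
theorem F167138 : act 0 n74311 = n34096 := (sb E16675 (iv1 F111519))
theorem F167139 : act 1 n74311 = n34094 := (sb E16675 (iv0 D74321))
theorem F167140 : act 3 n74311 = n74204 := (sb E16675 (iv3 F167052))
theorem F167141 : act 4 n74311 = n49989 := (sb E16675 (iv4 F111520))
theorem F167142 : act 5 n74311 = n74203 := (sb E16675 F167054)
theorem F167143 : act 2 n74203 = n74314 := d2_1 F167142 (iv5 D74314) D74311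
theorem F167144 : act 3 n74314 = n74301 := d0_2 D74203 F167143 (iv2 D74301) (iv3 D34089) F53409
theorem F167145 : act 7 n74314 = n74291 := d4_2 (iv7 F111023) F167143 (iv2 D74291)
theorem F167146 : act 1 n74314 = n74289 := d15_0 (iv0 D74289) (iv7 F111023) F167143
theorem F167147 : act 1 n74290 = n74314 := d15_1 D74290 F167145 (iv2 D74291)
theorem F167148 : act 5 n74301 = n74312 := d6_2 D74314 F167144 (iv3 D74312)
theorem F167149 : act 2 n74312 = n74303 := d2_1 F167148 (iv5 D74303) D74301
theorem F167150 : act 2 n49989 = n74313 := d1_1 F167141 (iv4 D74313) D74311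
theorem F167151 : act 7 n49989 = n74318 := d11_2 F111516 F167141 (iv4 D74318)
theorem E16676 : n49999 = n49993 := (c8_2 F167151 F111518 (iv7 D49993) D49989)
theorem F167152 : act 0 n49993 = n24377 := (sb E16676 (iv1 D49999))
theorem F167153 : act 1 n49993 = n24379 := (sb E16676 F79083)
theorem F167154 : act 3 n49993 = n74318 := (sb E16676 (iv3 F111518))
theorem E16677 : n49998 = n49988 := (c15_2 F167153 F79082 (iv7 F79080) (iv2 F79081))
theorem F167155 : act 0 n49988 = n24379 := (sb E16677 (iv1 F79082))
theorem F167156 : act 1 n49988 = n24377 := (sb E16677 (iv0 D49998))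
theorem E16678 : n74637 = n61478 := (c17_3 (iv1 F53849) D34219 (iv1 F112067) (iv5 D61478) (iv4 F95944) (iv5 F111497) (iv0 D74289) F167137 F111515 F111513)
theorem F167157 : act 0 n61478 = n34214 := (sb E16678 (iv1 D74637))
theorem F167159 : act 2 n62708 = n74636 := d15_3 (iv0 D74636) (iv0 F167157) (iv7 F97821)
theorem F167160 : act 5 n74636 = n65860 := d2_2 (iv5 F97820) F167159 (iv2 D65860)
theorem F167161 : act 3 n74320 = n74295 := d7_3 (iv6 D74295) F167136 D74320
theorem F167162 : act 2 n108057 = n108094 := d1_3 F167131 (iv2 F110960) (iv4 F167061)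
theorem F167163 : act 7 n108054 = n108094 := d11_0 F167131 F110961 (iv4 F167049)
def n108095 : Q := act 1 n49926
theorem D108095 : act 1 n49926 = n108095 := rfl
theorem F167164 : act 1 n108095 = n49933 := d15_1 D108095 (iv7 F166955) F166953
theorem F167165 : act 7 n108095 = n108057 := d15_2 (iv0 D108094) D108095 F167162
theorem F167166 : act 5 n108095 = n62583 := d17_7 F38117 (iv5 D13991) (iv1 F23858) (iv5 F22633) D24348 D49926 D108095 F97589 (iv4 D49888)
theorem F167167 : act 4 n108095 = n64431 := d17_9 (iv1 D64431) (iv5 D30338) (iv1 F39985) D52142 (iv4 F167079) F167078 (iv0 D49924) D49926 D108095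
theorem F167168 : act 2 n108054 = n108095 := d1_3 F167167 F110959 (iv4 F167049)
def n108096 : Q := act 6 n49926
theorem D108096 : act 6 n49926 = n108096 := rfl
theorem F167169 : act 4 n108096 = n74305 := d10_1 D108096 (iv6 D74305) (iv4 F78972)
def n108097 : Q := act 0 n49927
theorem D108097 : act 0 n49927 = n108097 := rfl
theorem F167170 : act 4 n108097 = n74256 := d20_2 (iv4 F78973) D108097 (iv3 F163555) F80872 F48990 (iv4 F48996) (iv1 F53651) F53652 (iv3 F166172) (iv1 D49929)
theorem F167171 : act 6 n105598 = n108097 := d10_0 F167170 F163531 (iv4 F166500)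
def n108098 : Q := act 1 n49927
theorem D108098 : act 1 n49927 = n108098 := rfl
def n108099 : Q := act 5 n49927
theorem D108099 : act 5 n49927 = n108099 := rfl
def n108100 : Q := act 7 n49927
theorem D108100 : act 7 n49927 = n108100 := rfl
theorem F167172 : act 4 n108100 = n49930 := d11_1 D108100 (iv7 D49930) (iv4 F78973)
def n108101 : Q := act 4 n49928
theorem D108101 : act 4 n49928 = n108101 := rfl
theorem F167173 : act 2 n108101 = n107763 := d1_1 D108101 (iv4 D107763) F166143
theorem F167174 : act 6 n108101 = n105607 := d10_2 F95304 D108101 (iv4 D105607)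
def n108102 : Q := act 5 n49928
theorem D108102 : act 5 n49928 = n108102 := rfl
theorem F167175 : act 2 n108102 = n107764 := d2_1 D108102 (iv5 D107764) F166143
theorem F167176 : act 3 n108102 = n107682 := d6_1 D108102 (iv5 D107682) F166133
theorem F167177 : act 6 n108102 = n107682 := d12_2 F95304 D108102 (iv5 D107682) F95305 (iv5 F95303)
def n108103 : Q := act 4 n49929
theorem D108103 : act 4 n49929 = n108103 := rfl
theorem F167178 : act 7 n108103 = n107763 := d11_2 (iv7 F166175) D108103 (iv4 D107763)
theorem F167179 : act 0 n108103 = n49940 := d18_2 (iv1 F166966) D108103 (iv4 F80905) (iv5 F81145) F81144 F82269 F82267 F82021 (iv5 F166964)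
theorem F167180 : act 1 n108101 = n49940 := d15_0 (iv0 F167179) F167178 (iv2 F167173)
def n108104 : Q := act 0 n49931
theorem D108104 : act 0 n49931 = n108104 := rfl
def n108105 : Q := act 1 n49931
theorem D108105 : act 1 n49931 = n108105 := rfl
theorem F167181 : act 1 n108105 = n63374 := d15_1 D108105 (iv7 D63374) (iv2 F78974)
def n108106 : Q := act 7 n49931
theorem D108106 : act 7 n49931 = n108106 := rfl
theorem F167182 : act 2 n108106 = n63374 := d4_1 D108106 (iv7 D63374) (iv2 F78974)
theorem F167183 : act 3 n108106 = n49937 := d8_1 D108106 (iv7 D49937) (iv3 F78975)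
theorem F167184 : act 5 n108106 = n51106 := d13_1 D108106 (iv7 D51106) (iv5 F78976)
theorem F167185 : act 6 n108106 = n63370 := d14_1 D108106 (iv7 D63370) (iv6 D29941) (iv7 F38368) D49931
theorem F167186 : act 1 n63374 = n108104 := d15_0 (iv0 D108104) D108106 F167182
theorem F167187 : act 1 n63373 = n108106 := d15_1 D63373 (iv7 D108106) F78974
theorem F167188 : act 1 n108106 = n63372 := d15_0 (iv0 D63372) D63374 (iv2 F167182)
def n108107 : Q := act 0 n49932
theorem D108107 : act 0 n49932 = n108107 := rfl
def n108108 : Q := act 1 n49932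
theorem D108108 : act 1 n49932 = n108108 := rfl
def n108109 : Q := act 2 n49932
theorem D108109 : act 2 n49932 = n108109 := rfl
def n108110 : Q := act 5 n49932
theorem D108110 : act 5 n49932 = n108110 := rfl
theorem F167189 : act 3 n108110 = n49933 := d6_1 D108110 (iv5 D49933) D49932
theorem F167190 : act 7 n108110 = n49990 := d13_2 F166952 D108110 (iv5 F167058)
theorem F167191 : act 4 n49993 = n108110 := d11_3 F167190 (iv4 D49990) D49993
theorem F167192 : act 2 n108110 = n49995 := d1_1 F167191 (iv4 D49995) (iv2 F79081)
theorem F167193 : act 5 n49995 = n108109 := d2_2 D108110 F167192 (iv2 D108109)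
def n108111 : Q := act 6 n49932
theorem D108111 : act 6 n49932 = n108111 := rfl
theorem F167194 : act 3 n108111 = n49934 := d7_1 D108111 (iv6 D49934) D49932
def n108112 : Q := act 6 n49933
theorem D108112 : act 6 n49933 = n108112 := rfl
theorem F167195 : act 4 n108112 = n74295 := d10_1 D108112 (iv6 D74295) (iv4 F78977)
def n108113 : Q := act 0 n49934
theorem D108113 : act 0 n49934 = n108113 := rfl
def n108114 : Q := act 1 n49934
theorem D108114 : act 1 n49934 = n108114 := rfl
theorem F167196 : act 4 n108114 = n64304 := d18_7 (iv1 F48705) D64301 F111418 F93756 F45647 (iv4 F78978) D108114 F100129 F100063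
theorem F167197 : act 6 n105580 = n108114 := d10_0 F167196 (iv6 F111141) (iv4 F162186)
def n108115 : Q := act 5 n49934
theorem D108115 : act 5 n49934 = n108115 := rfl
def n108116 : Q := act 7 n49934
theorem D108116 : act 7 n49934 = n108116 := rfl
theorem F167198 : act 4 n108116 = n49937 := d11_1 D108116 (iv7 D49937) (iv4 F78978)
def n108117 : Q := act 4 n49936
theorem D108117 : act 4 n49936 = n108117 := rfl
theorem F167199 : act 2 n108117 = n107766 := d1_1 D108117 (iv4 D107766) F101889
theorem F167200 : act 6 n108117 = n105584 := d10_2 F93886 D108117 (iv4 D105584)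
theorem F167201 : act 0 n108117 = n49943 := d18_2 (iv1 F93884) D108117 F78982 (iv5 D30272) (iv4 F48658) D64259 F111370 F111380 (iv5 F93881)
def n108118 : Q := act 0 n49938
theorem D108118 : act 0 n49938 = n108118 := rfl
def n108119 : Q := act 1 n49938
theorem D108119 : act 1 n49938 = n108119 := rfl
def n108120 : Q := act 2 n49938
theorem D108120 : act 2 n49938 = n108120 := rfl
theorem F167202 : act 3 n108120 = n49939 := d0_2 D49938 D108120 (iv2 F100351) F100352 F53472
theorem F167203 : act 5 n49938 = n108120 := d6_0 F167202 (iv5 D49939) D49938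
def n108121 : Q := act 6 n49938
theorem D108121 : act 6 n49938 = n108121 := rfl
theorem F167204 : act 3 n108121 = n49940 := d7_1 D108121 (iv6 D49940) D49938
def n108122 : Q := act 0 n49939
theorem D108122 : act 0 n49939 = n108122 := rfl
theorem F167205 : act 5 n108122 = n74215 := d17_1 D108122 (iv1 D74215) D74216 F111058 (iv5 F110977) F110955 F110953 F100346 (iv4 F78979)
theorem F167206 : act 4 n108122 = n61445 := d18_1 D108122 F95945 (iv4 F78977) (iv5 D49933) (iv4 D24351) F38129 (iv4 F78902) F78905 D49939
theorem F167207 : act 2 n108052 = n108122 := d15_3 (iv0 D108122) (iv0 F96857) (iv7 F167045)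
theorem F167208 : act 1 n49941 = n108122 := d15_0 (iv0 D108122) (iv7 F100145) F100144
theorem F167209 : act 7 n108122 = n108050 := d15_2 (iv0 F96859) F167208 F167038
theorem F167210 : act 4 n52149 = n74303 := d20_8 (iv4 F167206) (iv1 F167208) F78980 (iv3 D30337) (iv1 F39985) D52141 F82421 D52149 F111508 (iv1 F95946)
def n108123 : Q := act 6 n49939
theorem D108123 : act 6 n49939 = n108123 := rfl
theorem F167211 : act 4 n108123 = n74281 := d10_1 D108123 (iv6 D74281) (iv4 F78979)
def n108124 : Q := act 5 n49940
theorem D108124 : act 5 n49940 = n108124 := rfl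
def n108125 : Q := act 7 n49940
theorem D108125 : act 7 n49940 = n108125 := rfl
def n108126 : Q := act 6 n49941
theorem D108126 : act 6 n49941 = n108126 := rfl
theorem F167212 : act 3 n108126 = n49943 := d7_1 D108126 (iv6 D49943) D49941
theorem F167213 : act 4 n108126 = n64419 := d10_1 D108126 F100336 (iv4 F78980)
def n108127 : Q := act 5 n49943
theorem D108127 : act 5 n49943 = n108127 := rfl
theorem F167214 : act 0 n108127 = n67820 := d17_2 F167201 D108127 (iv5 D67820) (iv4 D31497) F24494 (iv0 F111384) F45647 D49936 D108117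
def n108128 : Q := act 7 n49943
theorem D108128 : act 7 n49943 = n108128 := rfl
theorem F167215 : act 4 n108128 = n64271 := d11_1 D108128 (iv7 D64271) (iv4 F78982)
theorem F167216 : act 1 n107766 = n108128 := d15_1 (iv0 F166524) (iv7 D108128) (iv2 F100130)
def n108129 : Q := act 0 n49944
theorem D108129 : act 0 n49944 = n108129 := rfl
theorem F167217 : act 2 n49948 = n108129 := d15_3 (iv0 D108129) (iv0 D49944) D49948
theorem F167218 : act 4 n108129 = n49987 := d1_2 (iv4 F78987) F167217 (iv2 F79075)
theorem F167219 : act 7 n108129 = n49946 := d4_2 D49948 F167217 (iv2 D49946)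
theorem F167220 : act 1 n49945 = n108129 := d15_1 D49945 F167219 (iv2 D49946)
def n108130 : Q := act 2 n49944
theorem D108130 : act 2 n49944 = n108130 := rfl
theorem F167221 : act 7 n49945 = n108130 := d15_2 (iv0 D49944) D49945 (iv2 D108130)
def n108131 : Q := act 3 n49944
theorem D108131 : act 3 n49944 = n108131 := rfl
def n108132 : Q := act 4 n49944
theorem D108132 : act 4 n49944 = n108132 := rfl
def n108133 : Q := act 5 n49944
theorem D108133 : act 5 n49944 = n108133 := rfl
def n108134 : Q := act 6 n49944
theorem D108134 : act 6 n49944 = n108134 := rfl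
def n108135 : Q := act 7 n49944
theorem D108135 : act 7 n49944 = n108135 := rfl
theorem F167222 : act 2 n108135 = n49945 := d4_1 D108135 F167221 (iv2 D108130)
def n108136 : Q := act 3 n49945
theorem D108136 : act 3 n49945 = n108136 := rfl
def n108137 : Q := act 5 n49945
theorem D108137 : act 5 n49945 = n108137 := rfl
def n108138 : Q := act 6 n49945
theorem D108138 : act 6 n49945 = n108138 := rfl
def n108139 : Q := act 1 n49946
theorem D108139 : act 1 n49946 = n108139 := rfl
theorem F167223 : act 1 n108139 = n49948 := d15_1 D108139 (iv7 D49948) D49946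
def n108140 : Q := act 5 n49946
theorem D108140 : act 5 n49946 = n108140 := rfl
theorem F167224 : act 2 n108140 = n49947 := d2_1 D108140 (iv5 D49947) D49946
def n108141 : Q := act 0 n49947
theorem D108141 : act 0 n49947 = n108141 := rfl
def n108142 : Q := act 1 n49947
theorem D108142 : act 1 n49947 = n108142 := rfl
def n108143 : Q := act 4 n49947
theorem D108143 : act 4 n49947 = n108143 := rfl
theorem F167225 : act 0 n108143 = n108072 := d20_7 F78947 F46625 D34046 F78993 (iv1 D49950) (iv3 F78985) D108143 F167093 (iv3 D49919) (iv1 F78946)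
def n108144 : Q := act 6 n49947
theorem D108144 : act 6 n49947 = n108144 := rfl
theorem F167226 : act 3 n108144 = n49952 := d7_1 D108144 (iv6 D49952) (iv3 F78985)
theorem F167227 : act 5 n108144 = n105637 := d12_1 D108144 (iv6 D105637) (iv5 D48836) (iv6 F38172) D49947
def n108145 : Q := act 7 n49947
theorem D108145 : act 7 n49947 = n108145 := rfl
theorem F167228 : act 3 n108145 = n49953 := d8_1 D108145 (iv7 D49953) (iv3 F78985)
theorem F167229 : act 5 n108145 = n49948 := d13_1 D108145 (iv7 D49948) D49947
def n108146 : Q := act 6 n49948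
theorem D108146 : act 6 n49948 = n108146 := rfl
theorem F167230 : act 3 n108146 = n49954 := d7_1 D108146 (iv6 D49954) (iv3 F78986)
theorem F167231 : act 4 n108146 = n50005 := d10_1 D108146 (iv6 D50005) (iv4 F78987)
theorem F167232 : act 7 n108146 = n66312 := d14_2 D49948 D108146 (iv6 D66312) F49406 (iv6 F38172)
def n108147 : Q := act 3 n49949
theorem D108147 : act 3 n49949 = n108147 := rfl
theorem F167233 : act 2 n108147 = n106955 := d0_1 D108147 (iv3 D106955) F78144 (iv3 F111056) F111055
theorem F167234 : act 5 n108147 = n74221 := d6_2 (iv5 F78988) D108147 (iv3 D74221)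
theorem F167235 : act 4 n106961 = n108147 := d1_0 F167233 F164852 D106961
def n108148 : Q := act 6 n49949
theorem D108148 : act 6 n49949 = n108148 := rfl
theorem F167236 : act 4 n108148 = n74249 := d10_1 D108148 (iv6 D74249) F78989
def n108149 : Q := act 6 n49950
theorem D108149 : act 6 n49950 = n108149 := rfl
theorem F167237 : act 3 n108149 = n74217 := d7_1 D108149 (iv6 D74217) F78993
theorem F167238 : act 4 n108149 = n74232 := d10_1 D108149 (iv6 D74232) (iv4 F78994)
def n108150 : Q := act 3 n49951
theorem D108150 : act 3 n49951 = n108150 := rfl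
theorem F167239 : act 5 n108150 = n74210 := d6_2 (iv5 F78997) D108150 F111034
theorem F167240 : act 7 n108150 = n74209 := d8_2 (iv7 F79000) D108150 F111033
def n108151 : Q := act 6 n49951
theorem D108151 : act 6 n49951 = n108151 := rfl
theorem F167241 : act 2 n108151 = n74339 := d3_1 D108151 (iv6 D74339) (iv2 F78996)
theorem F167242 : act 4 n108151 = n49952 := d10_1 D108151 (iv6 D49952) D49951
def n108152 : Q := act 0 n49952
theorem D108152 : act 0 n49952 = n108152 := rfl
def n108153 : Q := act 1 n49952
theorem D108153 : act 1 n49952 = n108153 := rfl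
def n108154 : Q := act 7 n49952
theorem D108154 : act 7 n49952 = n108154 := rfl
theorem F167243 : act 5 n108154 = n105646 := d13_1 D108154 (iv7 D105646) (iv5 F79001)
def n108155 : Q := act 6 n49953
theorem D108155 : act 6 n49953 = n108155 := rfl
theorem F167244 : act 2 n108155 = n74335 := d3_1 D108155 (iv6 D74335) (iv2 F79002)
theorem F167245 : act 4 n108155 = n74213 := d10_1 D108155 (iv6 D74213) (iv4 F79003)
def n108156 : Q := act 1 n49954
theorem D108156 : act 1 n49954 = n108156 := rfl
theorem F167246 : act 1 n108156 = n105519 := d15_1 D108156 (iv7 F166981) F166979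
theorem F167247 : act 7 n108156 = n105649 := d15_2 (iv0 F165694) D108156 (iv2 F165692)
theorem F167248 : act 4 n53360 = n108156 := d20_6 F94151 (iv1 D26019) F20478 (iv3 F20333) D25858 D53360 (iv1 D108156) F79005 F38174 (iv1 F22668)
theorem F167249 : act 2 n108156 = n105648 := d1_1 F167248 F163991 (iv2 F165672)
def n108157 : Q := act 5 n49954
theorem D108157 : act 5 n49954 = n108157 := rfl
theorem F167251 : act 7 n108157 = n105650 := d13_2 (iv7 F79006) D108157 (iv5 D105650)
def n108158 : Q := act 2 n49955
theorem D108158 : act 2 n49955 = n108158 := rfl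
theorem F167252 : act 7 n49956 = n108158 := d15_2 (iv0 D49955) D49956 (iv2 D108158)
def n108159 : Q := act 4 n49955
theorem D108159 : act 4 n49955 = n108159 := rfl
def n108160 : Q := act 5 n49955
theorem D108160 : act 5 n49955 = n108160 := rfl
theorem F167253 : act 6 n108160 = n52055 := d21_3 F38175 D49955 D108160 (iv1 F162053) F162051 F103699 (iv1 F96941) D62200 (iv6 F96964) (iv1 D49956)
theorem F167254 : act 0 n67824 = n108160 := d21_10 (iv5 D108160) (iv1 F79007) F76831 (iv6 D48786) (iv1 F37088) D23810 D48825 F111398 (iv5 F111401) F111402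
theorem F167255 : act 1 n67816 = n108160 := d15_0 (iv0 F167254) (iv7 F103835) (iv2 F103828)
def n108161 : Q := act 6 n49955
theorem D108161 : act 6 n49955 = n108161 := rfl
theorem F167256 : act 5 n108161 = n58976 := d21_6 (iv5 D24327) (iv1 F18739) (iv5 F18753) D24358 D49955 D108161 (iv1 D58976) F76879 F78885 (iv1 D49887)
theorem F167257 : act 0 n105604 = n108161 := d21_10 F167256 (iv1 D58976) F76879 F78885 (iv1 D49887) (iv6 F45782) (iv5 D28276) D28274 (iv5 F103697) D105604
def n108162 : Q := act 7 n49955
theorem D108162 : act 7 n49955 = n108162 := rfl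
theorem F167258 : act 2 n108162 = n49956 := d4_1 D108162 F167252 (iv2 D108158)
def n108163 : Q := act 3 n49956
theorem D108163 : act 3 n49956 = n108163 := rfl
theorem F167259 : act 4 n108163 = n106933 := d20_6 F166383 (iv1 F166381) F93820 (iv3 F76830) (iv1 F79008) D108163 (iv1 F164799) F79424 (iv3 F79316) (iv1 F100072)
def n108164 : Q := act 4 n49956
theorem D108164 : act 4 n49956 = n108164 := rfl
def n108165 : Q := act 5 n49956
theorem D108165 : act 5 n49956 = n108165 := rfl
theorem F167260 : act 6 n108165 = n68278 := d12_2 (iv6 F96964) D108165 (iv5 F104434) (iv6 D62201) D62200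
theorem F167261 : act 0 n108165 = n67824 := d21_1 D108165 (iv5 D67824) (iv6 D31498) (iv1 F111391) (iv6 D23799) (iv5 D11154) (iv1 F18107) (iv5 F37086) D48786 (iv1 F79008)
theorem F167262 : act 0 n67816 = n108165 := d21_10 (iv5 D108165) (iv1 D49956) F38175 (iv6 D24358) (iv1 F22631) (iv6 F45729) (iv5 D28243) D28241 F101941 D67816
def n108166 : Q := act 0 n49957
theorem D108166 : act 0 n49957 = n108166 := rfl
theorem F167263 : act 1 n74765 = n108166 := d15_0 (iv0 D108166) F79010 D74765
def n108167 : Q := act 1 n49957
theorem D108167 : act 1 n49957 = n108167 := rfl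
theorem F167264 : act 4 n65051 = n108167 := d20_6 (iv4 D13852) F10650 D6925 D14496 D30555 D65051 (iv1 D108167) F79009 (iv3 D24361) (iv1 F23125)
theorem F167265 : act 0 n74765 = n108167 := d20_7 (iv4 F111566) (iv1 F111570) (iv4 F112164) (iv3 D74734) (iv1 F79055) F79053 (iv4 F112206) (iv4 F167264) (iv3 D65051) (iv1 F53535)
def n108168 : Q := act 2 n49957
theorem D108168 : act 2 n49957 = n108168 := rfl
theorem F167266 : act 4 n108168 = n49964 := d1_2 (iv4 F79009) D108168 (iv2 D49964)
theorem F167267 : act 7 n108168 = n74765 := d4_2 (iv7 F79010) D108168 (iv2 D74765)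
theorem F167268 : act 1 n108168 = n74763 := d15_0 (iv0 D74763) (iv7 F79010) D108168
theorem F167269 : act 1 n74764 = n108168 := d15_1 D74764 F167267 (iv2 D74765)
def n108169 : Q := act 5 n49957
theorem D108169 : act 5 n49957 = n108169 := rfl
theorem F167270 : act 3 n108169 = n49958 := d6_1 D108169 (iv5 D49958) D49957
theorem F167271 : act 7 n108169 = n74766 := d13_2 (iv7 F79010) D108169 (iv5 D74766)
def n108170 : Q := act 6 n49957
theorem D108170 : act 6 n49957 = n108170 := rfl
theorem F167272 : act 3 n108170 = n49959 := d7_1 D108170 (iv6 D49959) D49957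
def n108171 : Q := act 6 n49958
theorem D108171 : act 6 n49958 = n108171 := rfl
theorem F167274 : act 2 n108171 = n106516 := d3_1 D108171 (iv6 D106516) (iv2 F79011)
theorem F167275 : act 4 n108171 = n52174 := d10_1 D108171 (iv6 D52174) (iv4 F79013)
def n108172 : Q := act 1 n49959
theorem D108172 : act 1 n49959 = n108172 := rfl
theorem F167276 : act 7 n108172 = n61270 := d15_2 (iv0 F167022) D108172 F111340
theorem F167277 : act 4 n108172 = n52113 := d18_7 (iv1 F77668) F163592 (iv1 D51214) F39062 (iv5 F38179) (iv4 F79016) D108172 F82372 F46638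
theorem F167278 : act 2 n61273 = n108172 := d1_3 F167277 F111333 D61273
def n108173 : Q := act 5 n49959
theorem D108173 : act 5 n49959 = n108173 := rfl
def n108174 : Q := act 7 n49959
theorem D108174 : act 7 n49959 = n108174 := rfl
theorem F167279 : act 4 n108174 = n49961 := d11_1 D108174 (iv7 D49961) (iv4 F79016)
theorem F167280 : act 6 n108174 = n74771 := d14_1 D108174 (iv7 D74771) (iv6 D34259) (iv7 F38177) D49959
theorem F167281 : act 1 n61273 = n108174 := d15_1 F104360 (iv7 D108174) (iv2 F82327)
theorem F167282 : act 1 n108174 = n61270 := d15_1 F167281 (iv7 F167276) (iv2 F167278)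
def n108175 : Q := act 2 n49962
theorem D108175 : act 2 n49962 = n108175 := rfl
theorem F167283 : act 7 n49963 = n108175 := d15_2 (iv0 D49962) D49963 (iv2 D108175)
def n108176 : Q := act 3 n49962
theorem D108176 : act 3 n49962 = n108176 := rfl
theorem F167284 : act 4 n108176 = n74411 := d20_6 F26116 (iv1 D11480) D11481 D24361 D49962 D108176 (iv1 D74411) F53588 (iv3 D16530) (iv1 F26114)
def n108180 : Q := act 7 n49962
theorem D108180 : act 7 n49962 = n108180 := rfl
theorem F167285 : act 2 n108180 = n49963 := d4_1 D108180 F167283 (iv2 D108175)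
def n108182 : Q := act 4 n49963
theorem D108182 : act 4 n49963 = n108182 := rfl
theorem F167286 : act 3 n62591 = n108182 := d20_5 (iv4 D29593) (iv1 D14056) D14057 D29596 D62591 (iv4 D108182) (iv1 D49963) (iv4 F79009) (iv3 D49957) (iv1 F47510)
def n108189 : Q := act 7 n49965
theorem D108189 : act 7 n49965 = n108189 := rfl
theorem F167291 : act 6 n108189 = n74786 := d14_1 D108189 (iv7 D74786) (iv6 D34265) (iv7 F38180) D49965
def n108191 : Q := act 3 n49969
theorem D108191 : act 3 n49969 = n108191 := rfl
theorem F167295 : act 4 n108191 = n107637 := d5_2 (iv4 F79035) D108191 (iv3 D107637) F78592 F53444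
theorem F167296 : act 6 n108191 = n107158 := d7_2 F79038 D108191 (iv3 D107158)
theorem F167297 : act 7 n108191 = n74715 := d8_2 F79039 D108191 (iv3 D74715)
def n108192 : Q := act 3 n49970
theorem D108192 : act 3 n49970 = n108192 := rfl
theorem F167298 : act 4 n108192 = n65526 := d5_2 (iv4 F79042) D108192 (iv3 D65526) (iv4 D30711) (iv3 F46399)
theorem F167299 : act 7 n108192 = n74717 := d8_2 (iv7 F79041) D108192 (iv3 D74717)
def n108193 : Q := act 6 n49970
theorem D108193 : act 6 n49970 = n108193 := rfl
theorem F167300 : act 2 n108193 = n74716 := d3_1 D108193 (iv6 D74716) F79043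
theorem F167301 : act 4 n108193 = n60561 := d10_1 D108193 F95178 (iv4 F79042)
theorem F167302 : act 7 n108193 = n107156 := d14_2 (iv7 F79041) D108193 (iv6 D107156) F78252 F53880
def n108194 : Q := act 0 n49971
theorem D108194 : act 0 n49971 = n108194 := rfl
theorem F167303 : act 1 n74720 = n108194 := d15_0 (iv0 D108194) F79045 D74720
def n108195 : Q := act 1 n49971
theorem D108195 : act 1 n49971 = n108195 := rfl
theorem F167304 : act 4 n64992 = n108195 := d20_6 (iv4 D14484) (iv1 D6918) D6919 D14486 D30530 D64992 (iv1 D108195) F79044 (iv3 D24368) (iv1 F24128)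
theorem F167305 : act 0 n74720 = n108195 := d20_7 (iv4 F111674) (iv1 F111678) (iv4 F112222) (iv3 D74773) (iv1 F79023) F79021 (iv4 F112139) (iv4 F167304) (iv3 D64992) (iv1 F53606)
def n108196 : Q := act 2 n49971
theorem D108196 : act 2 n49971 = n108196 := rfl
theorem F167306 : act 4 n108196 = n49976 := d1_2 (iv4 F79044) D108196 (iv2 D49976)
theorem F167307 : act 7 n108196 = n74720 := d4_2 (iv7 F79045) D108196 (iv2 D74720)
theorem F167308 : act 1 n108196 = n74718 := d15_0 (iv0 D74718) (iv7 F79045) D108196
theorem F167309 : act 1 n74719 = n108196 := d15_1 D74719 F167307 (iv2 D74720)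
theorem F167310 : act 5 n60667 = n108196 := d16_7 F53881 F46601 (iv4 D28974) (iv5 D13793) (iv4 F22974) D28794 D60667 F167307 (iv2 D74720)
def n108197 : Q := act 5 n49971
theorem D108197 : act 5 n49971 = n108197 := rfl
theorem F167311 : act 2 n108197 = n60667 := d2_1 D108197 F167310 (iv2 D108196)
theorem F167312 : act 3 n108197 = n49972 := d6_1 D108197 (iv5 D49972) D49971
theorem F167313 : act 7 n108197 = n74721 := d13_2 (iv7 F79045) D108197 (iv5 D74721)
theorem F167314 : act 4 n108197 = n60664 := d16_2 (iv4 F79044) D108197 (iv5 D60664) F46422 D28971 D61170 (iv5 F95664) (iv7 F79054) (iv2 D49976)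
theorem F167315 : act 0 n62497 = n63870 := d19_16 (iv1 D60663) D60664 (iv4 F167314) F167312 F79048 (iv5 D49166) (iv4 D23991) (iv3 F19954) (iv1 F38594) (iv5 F40781) F40780 F38566 (iv1 F23835) F23932 D29537 D62497 (iv5 D63870) D63869 (iv3 F99332)
def n108198 : Q := act 6 n49971
theorem D108198 : act 6 n49971 = n108198 := rfl
theorem F167316 : act 3 n108198 = n49973 := d7_1 D108198 (iv6 D49973) D49971
theorem F167317 : act 4 n108198 = n49977 := d10_1 D108198 (iv6 D49977) (iv4 F79044)
def n108199 : Q := act 6 n49972
theorem D108199 : act 6 n49972 = n108199 := rfl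
theorem F167318 : act 2 n108199 = n107035 := d3_1 D108199 (iv6 D107035) (iv2 F79046)
def n108200 : Q := act 5 n49973
theorem D108200 : act 5 n49973 = n108200 := rfl
def n108201 : Q := act 2 n49974
theorem D108201 : act 2 n49974 = n108201 := rfl
theorem F167319 : act 7 n49975 = n108201 := d15_2 (iv0 D49974) D49975 (iv2 D108201)
def n108202 : Q := act 3 n49974
theorem D108202 : act 3 n49974 = n108202 := rfl
theorem F167320 : act 4 n108202 = n74353 := d20_6 (iv4 D13766) F10612 D11488 D24368 D49974 D108202 (iv1 D74353) F53520 (iv3 D16519) (iv1 F23021)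
def n108203 : Q := act 4 n49974
theorem D108203 : act 4 n49974 = n108203 := rfl
def n108204 : Q := act 5 n49974
theorem D108204 : act 5 n49974 = n108204 := rfl
def n108205 : Q := act 6 n49974
theorem D108205 : act 6 n49974 = n108205 := rfl
def n108206 : Q := act 7 n49974
theorem D108206 : act 7 n49974 = n108206 := rfl
theorem F167321 : act 2 n108206 = n49975 := d4_1 D108206 F167319 (iv2 D108201)
def n108207 : Q := act 3 n49975
theorem D108207 : act 3 n49975 = n108207 := rfl
def n108208 : Q := act 4 n49975
theorem D108208 : act 4 n49975 = n108208 := rfl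
def n108209 : Q := act 5 n49975
theorem D108209 : act 5 n49975 = n108209 := rfl
def n108210 : Q := act 6 n49975
theorem D108210 : act 6 n49975 = n108210 := rfl
def n108211 : Q := act 6 n49976
theorem D108211 : act 6 n49976 = n108211 := rfl
theorem F167322 : act 2 n108211 = n49977 := d3_1 D108211 (iv6 D49977) D49976
theorem F167323 : act 3 n108211 = n74782 := d7_1 D108211 (iv6 D74782) (iv3 F79053)
def n108213 : Q := act 1 n49977
theorem D108213 : act 1 n49977 = n108213 := rfl
def n108214 : Q := act 5 n49977
theorem D108214 : act 5 n49977 = n108214 := rfl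
def n108215 : Q := act 1 n49978
theorem D108215 : act 1 n49978 = n108215 := rfl
theorem F167327 : act 5 n108215 = n74554 := d17_7 F78694 F78691 (iv1 D29387) F23285 (iv4 F38205) D49978 D108215 F111954 (iv4 D62241)
def n108216 : Q := act 4 n49978
theorem D108216 : act 4 n49978 = n108216 := rfl
def n108217 : Q := act 6 n49979
theorem D108217 : act 6 n49979 = n108217 := rfl
theorem F167330 : act 2 n108217 = n107478 := d3_1 D108217 (iv6 D107478) (iv2 F79060)
theorem F167331 : act 4 n108217 = n52165 := d10_1 D108217 (iv6 D52165) (iv4 F79062)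
def n108218 : Q := act 0 n49980
theorem D108218 : act 0 n49980 = n108218 := rfl
def n108219 : Q := act 1 n49980
theorem D108219 : act 1 n49980 = n108219 := rfl
theorem F167332 : act 4 n52183 = n108219 := d20_6 (iv4 F53660) (iv1 F53658) F48996 (iv3 F48990) (iv1 F80873) F161359 (iv1 D108219) F79063 F38208 D24372
def n108220 : Q := act 5 n49980
theorem D108220 : act 5 n49980 = n108220 := rfl
theorem F167333 : act 0 n108220 = n67527 := d17_2 (iv1 D108219) D108220 (iv5 D67527) F82625 (iv5 D52254) (iv0 F76500) F76499 D52183 F167332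
def n108221 : Q := act 7 n49980
theorem D108221 : act 7 n49980 = n108221 := rfl
theorem F167334 : act 4 n108221 = n49983 := d11_1 D108221 (iv7 D49983) (iv4 F79063)
theorem F167335 : act 6 n108221 = n107475 := d14_1 D108221 (iv7 D107475) F78410 (iv7 F38206) D49980
def n108222 : Q := act 3 n49981
theorem D108222 : act 3 n49981 = n108222 := rfl
theorem F167336 : act 6 n108222 = n66548 := d7_2 F94059 D108222 F102410
theorem F167337 : act 4 n66550 = n108222 := d10_3 F167336 (iv4 D66548) D66550
theorem F167338 : act 0 n63324 = n108222 := d21_4 F48115 F80255 F80251 D63324 F167336 (iv5 F166140) (iv1 D59544) (iv5 F48122) (iv6 D29935) D29932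
theorem F167339 : act 0 n66550 = n74460 := d20_1 (iv4 F167337) F111767 F53637 (iv1 F26181) F161306 D64173 F99887 (iv4 F92809) (iv3 F98567) F167338
def n108223 : Q := act 4 n49981
theorem D108223 : act 4 n49981 = n108223 := rfl
theorem F167340 : act 6 n108223 = n64632 := d10_2 F94059 D108223 (iv4 F161379)
def n108224 : Q := act 5 n49981
theorem D108224 : act 5 n49981 = n108224 := rfl
theorem F167341 : act 6 n108224 = n107760 := d12_2 F94059 D108224 (iv5 D107760) F94058 F94057
theorem F167342 : act 7 n108224 = n59210 := d13_2 (iv7 F166440) D108224 F93413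
theorem F167343 : act 0 n59146 = n108224 := d21_1 (iv5 F93325) (iv5 D108224) (iv6 F94059) (iv1 D59660) (iv6 D28312) F22659 F22223 (iv5 F20543) D26071 D53915
def n108225 : Q := act 3 n49982
theorem D108225 : act 3 n49982 = n108225 := rfl
theorem F167344 : act 7 n108225 = n107664 := d8_2 F166439 D108225 (iv3 F166289)
def n108226 : Q := act 4 n49982
theorem D108226 : act 4 n49982 = n108226 := rfl
theorem F167345 : act 0 n108226 = n52148 := d18_2 (iv1 F82352) D108226 F82436 (iv5 F40161) (iv4 F82647) F93075 F93074 F82313 (iv5 F82350)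
def n108227 : Q := act 6 n49982
theorem D108227 : act 6 n49982 = n108227 := rfl
theorem F167346 : act 5 n108227 = n58806 := d12_1 D108227 (iv6 F93174) (iv5 D58971) D58972 F93175
theorem F167347 : act 0 n106201 = n108227 := d21_1 D106201 F167346 (iv6 F93174) (iv1 F164064) (iv6 D51994) (iv5 F46481) (iv1 F164050) (iv5 F77460) F77461 (iv1 F77449)
theorem F167348 : act 0 n108227 = n106198 := d21_1 (iv5 F167346) (iv5 D106198) (iv6 F92925) (iv1 D58783) (iv6 D27950) (iv5 F22185) (iv1 F22187) (iv5 F22207) D27964 D58806
def n108228 : Q := act 4 n49984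
theorem D108228 : act 4 n49984 = n108228 := rfl
theorem F167349 : act 2 n108228 = n107681 := d1_1 D108228 (iv4 D107681) F166142
theorem F167350 : act 6 n108228 = n105678 := d10_2 (iv6 F79067) D108228 (iv4 D105678)
theorem F167351 : act 7 n108228 = n107683 := d11_2 F166148 D108228 (iv4 D107683)
theorem F167352 : act 0 n64148 = n108228 := d20_7 (iv4 F53823) (iv1 F53825) (iv4 D30588) F161306 (iv1 D30238) (iv3 F48620) (iv4 F99860) (iv4 D108228) (iv3 D49984) F38210
theorem E16679 : n107708 = n107681 := ((c15_4 (iv0 D107708) (iv0 F166316) (iv7 F167351) F167349)).symm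
theorem F167353 : act 1 n107681 = n49758 := (sb E16679 (iv0 D107708))
def n108229 : Q := act 5 n49984
theorem D108229 : act 5 n49984 = n108229 := rfl
theorem F167354 : act 2 n108229 = n107682 := d2_1 D108229 (iv5 D107682) F166142
theorem F167355 : act 3 n108229 = n49985 := d6_1 D108229 (iv5 D49985) D49984
theorem F167356 : act 6 n108229 = n107764 := d12_2 (iv6 F79067) D108229 (iv5 D107764) F78640 (iv5 F76976)
theorem F167357 : act 7 n108229 = n59322 := d13_2 F166148 D108229 (iv5 F166147)
theorem F167358 : act 0 n108229 = n59262 := d21_1 D108229 F93848 (iv6 F166234) (iv1 D107632) (iv6 D49724) F38025 F24500 (iv5 F38009) D49710 (iv1 F166076)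
theorem F167359 : act 0 n59233 = n108229 := d21_1 F93846 (iv5 D108229) F79067 F166073 (iv6 D28217) (iv5 F22605) (iv1 F22607) (iv5 F22624) D28235 D59453
def n108230 : Q := act 4 n49985
theorem D108230 : act 4 n49985 = n108230 := rfl
theorem F167364 : act 1 n108230 = n50663 := d18_6 (iv1 D16541) (iv4 F26174) D34160 F53660 D49985 D108230 F80017 (iv0 F39631) F39630
def n108231 : Q := act 6 n49987
theorem D108231 : act 6 n49987 = n108231 := rfl
theorem F167365 : act 2 n108231 = n50005 := d3_1 D108231 (iv6 D50005) F79075
theorem F167367 : act 7 n108231 = n66309 := d14_2 (iv7 F79078) D108231 (iv6 D66309) F49401 (iv6 F38218)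
theorem F167368 : act 1 n66314 = n108231 := d15_1 D66314 F167367 F102216
theorem F167369 : act 1 n108231 = n66313 := d15_0 (iv0 D66313) (iv7 F79096) (iv2 F167365)
def n108232 : Q := act 3 n49988
theorem D108232 : act 3 n49988 = n108232 := rfl
theorem F167370 : act 7 n108232 = n49994 := d8_2 F79080 D108232 (iv3 D49994)
def n108233 : Q := act 4 n49988
theorem D108233 : act 4 n49988 = n108233 := rfl
theorem F167371 : act 2 n108233 = n49990 := d1_1 D108233 (iv4 D49990) D49988
theorem F167372 : act 7 n108233 = n49995 := d11_2 F79080 D108233 (iv4 D49995)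
def n108234 : Q := act 5 n49988
theorem D108234 : act 5 n49988 = n108234 := rfl
theorem F167373 : act 2 n108234 = n49991 := d2_1 D108234 (iv5 D49991) D49988
theorem F167374 : act 7 n108234 = n49996 := d13_2 F79080 D108234 (iv5 D49996)
theorem F167375 : act 1 n61646 = n49996 := d15_1 (iv0 F167064) (iv7 F167374) F167373
def n108235 : Q := act 6 n49988
theorem D108235 : act 6 n49988 = n108235 := rfl
theorem F167376 : act 2 n108235 = n49992 := d3_1 D108235 (iv6 D49992) D49988
def n108236 : Q := act 0 n49989
theorem D108236 : act 0 n49989 = n108236 := rfl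
def n108237 : Q := act 1 n49989
theorem D108237 : act 1 n49989 = n108237 := rfl
theorem F167377 : act 3 n107796 = n108237 := d20_9 (iv4 F167141) F167138 F53509 F26219 (iv1 F11958) D14520 D30626 D65257 (iv4 F166551) (iv1 D108237)
def n108238 : Q := act 5 n49989
theorem D108238 : act 5 n49989 = n108238 := rfl
theorem F167378 : act 3 n108238 = n49991 := d6_1 D108238 (iv5 D49991) D49989
def n108239 : Q := act 6 n49989
theorem D108239 : act 6 n49989 = n108239 := rfl
theorem F167379 : act 3 n108239 = n49992 := d7_1 D108239 (iv6 D49992) D49989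
def n108240 : Q := act 0 n49990
theorem D108240 : act 0 n49990 = n108240 := rfl
theorem F167380 : act 4 n108240 = n65250 := d20_2 D49990 D108240 (iv3 D65250) (iv1 D30624) (iv3 D14520) F11207 F5076 D5350 D11492 D24375
theorem F167381 : act 1 n49995 = n108240 := d15_0 (iv0 D108240) (iv7 F167190) F167192
theorem F167382 : act 5 n108076 = n108240 := d19_1 D108076 F167380 (iv3 D65250) (iv1 D30624) D30627 (iv4 F95591) (iv3 D61072) (iv1 D28941) (iv5 D13785) F10618 D6750 (iv1 F20261) F20253 (iv4 F18654) (iv3 F18736) (iv1 F18740) D11473 D24345 D49919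
def n108241 : Q := act 1 n49990
theorem D108241 : act 1 n49990 = n108241 := rfl
theorem F167383 : act 1 n108241 = n49995 := d15_1 D108241 (iv7 F167372) F167371
theorem F167384 : act 5 n108077 = n108241 := d17_7 (iv1 D24376) D24378 D50001 F167107 F167106 (iv5 D108079) D108077 F167383 (iv4 D49995)
def n108242 : Q := act 6 n49990
theorem D108242 : act 6 n49990 = n108242 := rfl
theorem F167385 : act 4 n108242 = n49992 := d10_1 D108242 (iv6 D49992) D49990
def n108243 : Q := act 0 n49991
theorem D108243 : act 0 n49991 = n108243 := rfl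
theorem F167386 : act 2 n62821 = n108243 := d15_3 (iv0 D108243) (iv0 F167064) (iv7 F98046)
theorem F167387 : act 5 n108243 = n74367 := d2_2 (iv5 F98045) F167386 (iv2 D74367)
theorem E16680 : n68280 = n67698 := (c21_5 D49991 D108243 F167387 F111589 (iv1 F104439) (iv6 D67698) (iv5 F162344) (iv1 D48873) (iv5 D23828) (iv6 F18782) D24375)
theorem F167388 : act 0 n67698 = n31772 := (sb E16680 (iv1 D68280))
theorem F167389 : act 1 n67698 = n66130 := (sb E16680 F104439)
theorem F167390 : act 7 n68279 = n65627 := d15_2 F167389 F104435 F162349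
def n108246 : Q := act 7 n49991
theorem D108246 : act 7 n49991 = n108246 := rfl
theorem F167391 : act 2 n108246 = n49996 := d4_1 D108246 (iv7 F167374) F167373
theorem F167392 : act 5 n108246 = n49993 := d13_1 D108246 (iv7 D49993) D49991
theorem F167394 : act 0 n62821 = n108246 := d19_0 F167392 F167191 F167189 (iv1 F167164) F167166 (iv4 D62583) (iv3 D29592) (iv1 D14056) (iv5 D6683) (iv4 D3005) (iv3 D1350) (iv1 D771) D772 D1356 D3021 D6711 D14121 D29731 D62821
theorem F167395 : act 1 n62821 = n108234 := d15_1 (iv0 F167394) F167374 (iv2 F167391)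
theorem E16681 : n66128 = n65627 := (c21_5 D108234 (iv1 F167395) F98045 F53530 D66128 (iv6 D65627) F94441 (iv1 F76983) (iv5 D48871) (iv6 F38218) (iv1 F167156))
theorem F167396 : act 0 n65627 = n68281 := (sb E16681 (iv1 F104438))
theorem F167397 : act 1 n65627 = n30917 := (sb E16681 (iv0 D66128))
theorem F167398 : act 7 n66129 = n67698 := d15_2 F167397 D66129 (iv2 F162349)
theorem F167399 : act 2 n68279 = n66129 := d4_3 F167398 (iv2 F162349) (iv7 F167390)
def n108247 : Q := act 0 n49992
theorem D108247 : act 0 n49992 = n108247 := rfl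
def n108248 : Q := act 1 n49992
theorem D108248 : act 1 n49992 = n108248 := rfl
def n108249 : Q := act 5 n49992
theorem D108249 : act 5 n49992 = n108249 := rfl
def n108250 : Q := act 7 n49992
theorem D108250 : act 7 n49992 = n108250 := rfl
def n108251 : Q := act 6 n49993
theorem D108251 : act 6 n49993 = n108251 := rfl
def n108252 : Q := act 0 n49994
theorem D108252 : act 0 n49994 = n108252 := rfl
theorem F167401 : act 4 n108252 = n74599 := d20_0 (iv1 F112013) (iv4 D65222) (iv3 F53809) (iv1 F53813) D65250 (iv4 F167380) (iv1 F167381) (iv4 D49995) D49994 D108252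
theorem F167402 : act 3 n108252 = n107775 := d20_3 D34204 D74599 (iv4 F167401) (iv1 D107775) (iv3 D49789) D49790 D107780 F166540 (iv3 D74592) (iv1 D34202)
def n108253 : Q := act 1 n49994
theorem D108253 : act 1 n49994 = n108253 := rfl
def n108254 : Q := act 2 n49994
theorem D108254 : act 2 n49994 = n108254 := rfl
def n108255 : Q := act 4 n49994
theorem D108255 : act 4 n49994 = n108255 := rfl
theorem F167403 : act 0 n65214 = n108255 := d20_1 D65214 (iv4 D108255) (iv3 D49994) (iv1 D24376) (iv3 D11492) (iv4 D5350) D5349 (iv4 F11206) D14517 D30613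
def n108256 : Q := act 5 n49994
theorem D108256 : act 5 n49994 = n108256 := rfl
def n108257 : Q := act 6 n49994
theorem D108257 : act 6 n49994 = n108257 := rfl
def n108258 : Q := act 3 n49995
theorem D108258 : act 3 n49995 = n108258 := rfl
def n108259 : Q := act 6 n49995
theorem D108259 : act 6 n49995 = n108259 := rfl
def n108266 : Q := act 4 n50000
theorem D108266 : act 4 n50000 = n108266 := rfl
theorem F167407 : act 2 n108266 = n50003 := d1_1 D108266 (iv4 D50003) (iv2 F79084)
theorem F167408 : act 7 n108266 = n107953 := d11_2 (iv7 F79086) D108266 F166820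
theorem F167409 : act 1 n107952 = n108266 := d15_1 D107952 F167408 (iv2 D107953)
theorem F167410 : act 1 n108266 = n107951 := d15_0 (iv0 D107951) (iv7 F79092) (iv2 F167407)
def n108267 : Q := act 6 n50000
theorem D108267 : act 6 n50000 = n108267 := rfl
theorem F167411 : act 2 n108267 = n50004 := d3_1 D108267 (iv6 D50004) (iv2 F79084)
theorem F167413 : act 5 n108267 = n105718 := d12_1 D108267 (iv6 D105718) (iv5 D48871) (iv6 F38218) D50000
def n108268 : Q := act 2 n50001
theorem D108268 : act 2 n50001 = n108268 := rfl
theorem F167414 : act 7 n50002 = n108268 := d15_2 (iv0 D50001) D50002 (iv2 D108268)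
def n108269 : Q := act 3 n50001
theorem D108269 : act 3 n50001 = n108269 := rfl
def n108270 : Q := act 4 n50001
theorem D108270 : act 4 n50001 = n108270 := rfl
def n108271 : Q := act 6 n50001
theorem D108271 : act 6 n50001 = n108271 := rfl
def n108272 : Q := act 7 n50001
theorem D108272 : act 7 n50001 = n108272 := rfl
theorem F167415 : act 2 n108272 = n50002 := d4_1 D108272 F167414 (iv2 D108268)
def n108273 : Q := act 3 n50002
theorem D108273 : act 3 n50002 = n108273 := rfl
def n108274 : Q := act 4 n50002
theorem D108274 : act 4 n50002 = n108274 := rfl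
def n108275 : Q := act 5 n50002
theorem D108275 : act 5 n50002 = n108275 := rfl
def n108276 : Q := act 6 n50002
theorem D108276 : act 6 n50002 = n108276 := rfl
def n108277 : Q := act 0 n50003
theorem D108277 : act 0 n50003 = n108277 := rfl
theorem F167416 : act 1 n107953 = n108277 := d15_0 (iv0 D108277) F79092 D107953
def n108278 : Q := act 1 n50003
theorem D108278 : act 1 n50003 = n108278 := rfl
theorem F167417 : act 1 n108278 = n107953 := d15_1 D108278 (iv7 F167408) F167407
theorem F167418 : act 4 n74946 = n108278 := d20_6 F26121 (iv1 D7730) D7731 D16629 D34343 D74946 (iv1 D108278) (iv4 D50003) F38219 (iv1 F26123)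
def n108279 : Q := act 5 n50003
theorem D108279 : act 5 n50003 = n108279 := rfl
theorem F167419 : act 3 n108279 = n107960 := d6_1 D108279 F166829 (iv3 F79091)
theorem F167420 : act 7 n108279 = n107954 := d13_2 (iv7 F79092) D108279 (iv5 D107954)
def n108280 : Q := act 6 n50003
theorem D108280 : act 6 n50003 = n108280 := rfl
theorem F167421 : act 3 n108280 = n107965 := d7_1 D108280 (iv6 D107965) (iv3 F79091)
theorem F167422 : act 4 n108280 = n50004 := d10_1 D108280 (iv6 D50004) D50003
def n108281 : Q := act 0 n50004
theorem D108281 : act 0 n50004 = n108281 := rfl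
def n108282 : Q := act 1 n50004
theorem D108282 : act 1 n50004 = n108282 := rfl
def n108283 : Q := act 7 n50004
theorem D108283 : act 7 n50004 = n108283 := rfl
theorem F167423 : act 3 n108283 = n50008 := d8_1 D108283 (iv7 D50008) (iv3 F79093)
def n108284 : Q := act 0 n50005
theorem D108284 : act 0 n50005 = n108284 := rfl
theorem F167426 : act 1 n66309 = n108284 := d15_0 (iv0 D108284) F79096 (iv2 F102216)
def n108285 : Q := act 1 n50005
theorem D108285 : act 1 n50005 = n108285 := rfl
theorem F167427 : act 1 n108285 = n66309 := d15_1 D108285 (iv7 F167367) F167365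
def n108286 : Q := act 5 n50005
theorem D108286 : act 5 n50005 = n108286 := rfl
theorem F167428 : act 3 n108286 = n50009 := d6_1 D108286 (iv5 D50009) (iv3 F79095)
theorem F167429 : act 6 n108286 = n107988 := d12_2 D50005 D108286 (iv5 D107988) (iv6 D49871) (iv5 F38222)
theorem F167430 : act 7 n108286 = n66315 := d13_2 (iv7 F79096) D108286 (iv5 D66315)
def n108287 : Q := act 2 n50006
theorem D108287 : act 2 n50006 = n108287 := rfl
theorem F167431 : act 7 n50007 = n108287 := d15_2 (iv0 D50006) D50007 (iv2 D108287)
def n108288 : Q := act 3 n50006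
theorem D108288 : act 3 n50006 = n108288 := rfl
def n108289 : Q := act 4 n50006
theorem D108289 : act 4 n50006 = n108289 := rfl
def n108290 : Q := act 5 n50006
theorem D108290 : act 5 n50006 = n108290 := rfl
def n108291 : Q := act 6 n50006
theorem D108291 : act 6 n50006 = n108291 := rfl
def n108292 : Q := act 7 n50006
theorem D108292 : act 7 n50006 = n108292 := rfl
theorem F167432 : act 2 n108292 = n50007 := d4_1 D108292 F167431 (iv2 D108287)
def n108293 : Q := act 3 n50007
theorem D108293 : act 3 n50007 = n108293 := rfl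
def n108294 : Q := act 4 n50007
theorem D108294 : act 4 n50007 = n108294 := rfl
def n108295 : Q := act 5 n50007
theorem D108295 : act 5 n50007 = n108295 := rfl
theorem F167433 : act 6 n66410 = n108295 := d21_5 (iv5 D12284) (iv1 F11308) (iv5 F24357) D31003 D66410 (iv5 D108295) (iv1 D50007) F38225 (iv6 D23829) (iv1 F20367)
theorem F167434 : act 4 n108295 = n68733 := d10_1 F167433 (iv6 D68733) (iv4 F131045)
theorem E16682 : n69643 = n28347 := (c17_1 D69643 (iv5 F78711) (iv1 F79097) D108295 F167434 F104925 F51352 (iv5 F41680) F41683 D32328)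
theorem E16683 : n48877 = n32333 := (((iv1 F76989)).symm.trans (sb E16682 (iv1 F105961)))
theorem E16684 : n48876 = n32328 := ((F76993).symm.trans (sb E16682 (iv0 D69643)))
theorem E16685 : n69644 = n23829 := (((iv1 F105962)).symm.trans (sb E16683 (iv1 D48877)))
theorem F167435 : act 1 n32333 = n28347 := (sb E16683 F76989)
theorem F167436 : act 0 n32328 = n28347 := (sb E16684 (iv1 F76993))
theorem F167437 : act 0 n23829 = n32328 := (sb E16685 (iv1 D69644))
theorem F167438 : act 1 n23829 = n32333 := (sb E16685 F105962)
theorem F167439 : act 4 n68783 = n108290 := d17_4 (iv1 D15237) D15238 D32336 (iv5 F104972) (iv5 D108290) (iv0 D50006) F38225 F167438 (iv4 D32333)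
theorem F167440 : act 0 n69670 = n59997 := d18_2 (iv1 F51352) D69670 (iv4 D59997) (iv5 D28487) (iv4 F37157) F167438 (iv4 D32333) F41682 F41680
theorem F167441 : act 1 n69670 = n85677 := d15_1 (iv0 F167440) F131412 F94958
theorem E16696 : n108289 = n55303 := (c18_6 (iv1 F114316) F104976 D68783 F167439 (iv5 D108290) D108289 (iv0 D55303) F42844 D34233 D74713)
theorem F167442 : act 4 n55303 = n50006 := (sb E16696 (iv4 D108289))
theorem F167443 : act 1 n85677 = n69666 := d18_6 D15236 D32328 F167436 (iv4 F77158) F77159 (iv4 F131410) (iv4 D69666) (iv0 D32336) (iv5 D15238)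
theorem F167444 : act 1 n69666 = n59997 := d15_1 F167443 (iv7 F130688) (iv2 F131409)
theorem E16697 : n108294 = n55304 := (c18_2 (iv1 F79097) D108294 (iv1 D55304) F42844 F26231 F20476 D15237 D32333 F167435 (iv5 F78711))
theorem F167445 : act 4 n55304 = n50007 := (sb E16697 (iv4 D108294))
def n108296 : Q := act 6 n50007
theorem D108296 : act 6 n50007 = n108296 := rfl
def n108297 : Q := act 4 n50009
theorem D108297 : act 4 n50009 = n108297 := rfl
theorem F167446 : act 2 n108297 = n107852 := d1_1 D108297 (iv4 D107852) (iv2 F79105)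
theorem F167447 : act 6 n108297 = n77248 := d10_2 (iv6 F79106) D108297 F116014
theorem F167448 : act 7 n108297 = n66318 := d11_2 (iv7 F79107) D108297 (iv4 D66318)
theorem F167449 : act 5 n108297 = n59782 := d16_1 D108297 (iv4 D59782) (iv5 D28350) F22666 F10473 (iv4 F22666) D28350 (iv7 F78712) (iv2 F79105)
def n108298 : Q := act 5 n50010
theorem D108298 : act 5 n50010 = n108298 := rfl
theorem F167450 : act 2 n108298 = n105872 := d2_1 D108298 (iv5 D105872) (iv2 F79108)
theorem F167451 : act 3 n108298 = n61651 := d6_1 D108298 (iv5 D61651) (iv3 F79109)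
theorem F167452 : act 7 n108298 = n105873 := d13_2 (iv7 F79110) D108298 (iv5 D105873)
theorem F167453 : act 0 n108298 = n107896 := d17_2 F79112 D108298 (iv5 D107896) F78791 F54288 (iv0 D29698) (iv5 D14107) D14104 D29690
theorem F167454 : act 1 n108298 = n106716 := d17_6 (iv1 F50544) D24295 D49823 F78749 D50010 D108298 (iv5 D106716) F77973 F55487
def n108299 : Q := act 6 n50011
theorem D108299 : act 6 n50011 = n108299 := rfl
theorem F167456 : act 3 n108299 = n107891 := d7_1 D108299 (iv6 D107891) (iv3 F79114)
def n108300 : Q := act 5 n50013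
theorem D108300 : act 5 n50013 = n108300 := rfl
theorem F167457 : act 2 n108300 = n51058 := d2_1 D108300 (iv5 D51058) (iv2 F79122)
theorem F167458 : act 3 n108300 = n61289 := d6_1 D108300 (iv5 D61289) (iv3 F79125)
theorem F167459 : act 7 n108300 = n51060 := d13_2 (iv7 F79123) D108300 (iv5 D51060)
theorem F167460 : act 0 n108300 = n62731 := d17_2 F79126 D108300 (iv5 D62731) F47688 D29678 (iv0 F47705) F46801 (iv0 F41537) (iv4 F38879)
theorem F167461 : act 1 n108300 = n71477 := d17_6 (iv1 F54253) D61649 F96215 (iv5 D50014) D50013 D108300 (iv5 D71477) (iv0 F54251) F54249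
def n108301 : Q := act 4 n50014
theorem D108301 : act 4 n50014 = n108301 := rfl
theorem F167462 : act 0 n108301 = n62748 := d18_2 F96215 D108301 (iv4 D62748) (iv5 D29678) (iv4 F47688) (iv0 F97845) F97842 F94590 D61649
def n108302 : Q := act 6 n50014
theorem D108302 : act 6 n50014 = n108302 := rfl
theorem F167463 : act 3 n108302 = n50018 := d7_1 D108302 (iv6 D50018) (iv3 F79127)
def n108304 : Q := act 6 n50016
theorem D108304 : act 6 n50016 = n108304 := rfl
theorem F167470 : act 5 n108304 = n62795 := d12_1 D108304 (iv6 D62795) (iv5 D29716) D29717 (iv5 F79133)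
def n108306 : Q := act 5 n50017
theorem D108306 : act 5 n50017 = n108306 := rfl
theorem F167471 : act 4 n108306 = n74902 := d16_2 D50017 D108306 F112421 (iv4 D61585) (iv5 F54321) (iv4 D24393) D24394 (iv7 F79120) F79118
def n108308 : Q := act 0 n50018
theorem D108308 : act 0 n50018 = n108308 := rfl
def n108309 : Q := act 1 n50018
theorem D108309 : act 1 n50018 = n108309 := rfl
def n108310 : Q := act 7 n50018
theorem D108310 : act 7 n50018 = n108310 := rfl
def n108311 : Q := act 6 n50019
theorem D108311 : act 6 n50019 = n108311 := rfl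
theorem F167475 : act 2 n108311 = n50022 := d3_1 D108311 (iv6 D50022) (iv2 F79138)
def n108313 : Q := act 5 n50021
theorem D108313 : act 5 n50021 = n108313 := rfl
theorem F167476 : act 4 n108313 = n74901 := d9_1 D108313 F112420 (iv4 D61583) (iv5 F54170) (iv4 D24388) D24389 D50017 D108306 F167471 F112421 (iv4 D61585) (iv5 F54321) (iv4 D24393) D24394 D50021
theorem F167477 : act 0 n108313 = n61491 := d17_2 F96095 D108313 (iv5 D61491) (iv4 D29110) (iv5 D13856) D13854 D29105 F54036 D61555
theorem F167478 : act 1 n108313 = n72559 := d17_6 (iv1 F79117) (iv5 D50011) (iv1 F38240) D24394 D50021 D108313 (iv5 D72559) (iv0 F79170) (iv4 D50026)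
theorem F167479 : act 3 n74901 = n74897 := d20_3 (iv4 F109059) (iv1 F167478) F167476 (iv1 D74897) (iv3 D34324) (iv4 D16621) (iv1 F50803) D33401 D72356 F108808
theorem F167480 : act 3 n107824 = n108313 := d5_5 F167476 F167479 (iv4 F166562) (iv3 D107823) D107824
theorem E16698 : n107825 = n64985 := ((c19_1 D64985 (iv5 D107825) D107824 F167480 F167477 (iv5 D61491) (iv4 D29110) F23126 F10652 (iv5 D3418) F2620 (iv3 F4361) D6388 F10751 (iv4 F18565) F18564 (iv1 F9052) D7070 (iv4 F24131) D30528)).symm
theorem F167482 : act 5 n64985 = n49801 := (sb E16698 (iv5 D107825))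
def n108314 : Q := act 6 n50021
theorem D108314 : act 6 n50021 = n108314 := rfl
theorem F167483 : act 4 n108314 = n50022 := d10_1 D108314 (iv6 D50022) D50021
def n108315 : Q := act 0 n50022
theorem D108315 : act 0 n50022 = n108315 := rfl
def n108317 : Q := act 7 n50022
theorem D108317 : act 7 n50022 = n108317 := rfl
def n108318 : Q := act 6 n50023
theorem D108318 : act 6 n50023 = n108318 := rfl
theorem F167485 : act 5 n108318 = n60352 := d12_1 D108318 (iv6 D60352) (iv5 D28662) (iv6 F50842) (iv5 F79162)
def n108319 : Q := act 0 n50024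
theorem D108319 : act 0 n50024 = n108319 := rfl
def n108320 : Q := act 7 n50024
theorem D108320 : act 7 n50024 = n108320 := rfl
theorem F167486 : act 2 n108320 = n50035 := d4_1 D108320 (iv7 D50035) (iv2 F79166)
theorem F167488 : act 5 n108320 = n60066 := d13_1 D108320 (iv7 D60066) (iv5 F79168)
theorem F167489 : act 1 n50035 = n108319 := d15_0 (iv0 D108319) D108320 F167486
theorem F167490 : act 1 n50034 = n108320 := d15_1 D50034 (iv7 D108320) F79166
theorem F167491 : act 1 n108320 = n50033 := d15_0 (iv0 D50033) D50035 (iv2 F167486)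
def n108321 : Q := act 4 n50025
theorem D108321 : act 4 n50025 = n108321 := rfl
theorem F167492 : act 2 n108321 = n55286 := d1_1 D108321 (iv4 F97916) F97912
theorem F167493 : act 7 n108321 = n55287 := d11_2 F106304 D108321 (iv4 F106308)
theorem F167494 : act 0 n108321 = n54592 := d18_2 F106295 D108321 (iv4 D54592) F42151 (iv4 F38883) (iv0 F79124) (iv4 D50013) (iv0 F56576) D69873
theorem F167495 : act 1 n108321 = n54594 := d18_6 (iv1 F42131) D26398 (iv1 F83537) F83533 (iv5 F79169) D108321 (iv4 D54594) F86251 F86250
def n108322 : Q := act 6 n50025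
theorem D108322 : act 6 n50025 = n108322 := rfl
theorem F167497 : act 5 n108322 = n60054 := d12_1 D108322 (iv6 D60054) (iv5 D28522) D28523 (iv5 F79169)
def n108324 : Q := act 5 n50026
theorem D108324 : act 5 n50026 = n108324 := rfl
theorem F167498 : act 4 n108324 = n74894 := d16_2 D50026 D108324 (iv5 D74894) F54478 (iv5 D29714) (iv4 F47715) F54240 (iv7 F77170) F77168
theorem F167499 : act 0 n108324 = n72553 := d17_2 (iv1 F79171) D108324 (iv5 D72553) (iv4 D33484) (iv5 D16169) (iv0 D7543) D7545 (iv0 F50971) D29110
def n108325 : Q := act 6 n50026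
theorem D108325 : act 6 n50026 = n108325 := rfl
theorem F167501 : act 4 n108325 = n50027 := d10_1 D108325 (iv6 D50027) D50026
def n108326 : Q := act 0 n50027
theorem D108326 : act 0 n50027 = n108326 := rfl
def n108327 : Q := act 1 n50027
theorem D108327 : act 1 n50027 = n108327 := rfl
def n108328 : Q := act 7 n50027
theorem D108328 : act 7 n50027 = n108328 := rfl
theorem F167502 : act 5 n108328 = n60059 := d13_1 D108328 (iv7 D60059) (iv5 F79172)
def n108330 : Q := act 5 n50028
theorem D108330 : act 5 n50028 = n108330 := rfl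
theorem F167503 : act 4 n108330 = n60108 := d9_1 D108330 (iv5 D60108) (iv4 D28557) (iv5 D13614) (iv4 F22787) (iv5 F50859) D50026 D108324 F167498 (iv5 D74894) F54478 (iv5 D29714) (iv4 F47715) F54240 D50028
theorem F167504 : act 0 n108330 = n61564 := d17_2 (iv1 F79174) D108330 (iv5 D61564) (iv4 D29150) (iv5 D13874) D13872 (iv5 F53967) (iv0 F50966) D33493
theorem F167506 : act 3 n107788 = n108330 := d19_19 F167504 (iv5 D61564) (iv4 D29150) F23141 (iv1 F23137) F23139 F10864 (iv3 F18343) F18344 (iv5 D6618) (iv4 F10291) (iv3 D3498) F5274 D2172 D5310 D11426 D24276 D49791 D107788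
def n108333 : Q := act 1 n50029
theorem D108333 : act 1 n50029 = n108333 := rfl
def n108341 : Q := act 4 n50031
theorem D108341 : act 4 n50031 = n108341 := rfl
theorem F167523 : act 2 n108341 = n74905 := d1_1 D108341 F112428 F109071
theorem F167524 : act 5 n108341 = n60106 := d9_2 D50031 D108341 F94663 F52637 (iv4 F38238) D50011 (iv4 F108777) (iv5 F112423) (iv4 D74903) (iv5 D34325) (iv4 D16621) (iv5 D7727) (iv4 F8171) D11503 D24401
theorem F167525 : act 7 n108341 = n74885 := d11_2 F109068 D108341 F112399
theorem F167526 : act 0 n108341 = n74902 := d18_2 (iv1 F109079) D108341 (iv4 F167471) (iv5 D108306) (iv4 D50017) (iv0 F54169) D68103 F104243 (iv5 F109078)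
theorem F167527 : act 1 n108341 = n74901 := d18_6 (iv1 F79174) (iv4 D50028) (iv1 D24400) D24401 D50031 D108341 (iv4 F167476) F167478 (iv5 D72559)
def n108343 : Q := act 0 n50032
theorem D108343 : act 0 n50032 = n108343 := rfl
def n108344 : Q := act 1 n50032
theorem D108344 : act 1 n50032 = n108344 := rfl
theorem F167528 : act 4 n108344 = n73252 := d18_7 (iv1 F108464) F131033 (iv1 D70727) F51909 (iv5 F38250) (iv4 F79177) D108344 (iv0 F131034) (iv5 F106991)
def n108346 : Q := act 7 n50032
theorem D108346 : act 7 n50032 = n108346 := rfl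
theorem F167529 : act 4 n108346 = n50035 := d11_1 D108346 (iv7 D50035) (iv4 F79177)
def n108347 : Q := act 2 n50033
theorem D108347 : act 2 n50033 = n108347 := rfl
theorem F167530 : act 7 n50034 = n108347 := d15_2 (iv0 D50033) D50034 (iv2 D108347)
def n108348 : Q := act 3 n50033
theorem D108348 : act 3 n50033 = n108348 := rfl
def n108350 : Q := act 5 n50033
theorem D108350 : act 5 n50033 = n108350 := rfl
def n108351 : Q := act 6 n50033
theorem D108351 : act 6 n50033 = n108351 := rfl
def n108352 : Q := act 7 n50033
theorem D108352 : act 7 n50033 = n108352 := rfl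
theorem F167531 : act 2 n108352 = n50034 := d4_1 D108352 F167530 (iv2 D108347)
def n108353 : Q := act 3 n50034
theorem D108353 : act 3 n50034 = n108353 := rfl
def n108354 : Q := act 4 n50034
theorem D108354 : act 4 n50034 = n108354 := rfl
def n108355 : Q := act 6 n50034
theorem D108355 : act 6 n50034 = n108355 := rfl
def n108356 : Q := act 6 n50035
theorem D108356 : act 6 n50035 = n108356 := rfl
theorem F167532 : act 3 n108356 = n50054 := d7_1 D108356 (iv6 D50054) (iv3 F79178)
theorem F167533 : act 7 n108356 = n50036 := d14_2 D50035 D108356 (iv6 D50036) (iv7 D24403) D24402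
def n108357 : Q := act 0 n50036
theorem D108357 : act 0 n50036 = n108357 := rfl
def n108358 : Q := act 1 n50036
theorem D108358 : act 1 n50036 = n108358 := rfl
def n108359 : Q := act 6 n50037
theorem D108359 : act 6 n50037 = n108359 := rfl
theorem F167534 : act 2 n108359 = n61736 := d3_1 D108359 (iv6 D61736) (iv2 F79181)
theorem F167535 : act 4 n108359 = n50038 := d10_1 D108359 (iv6 D50038) D50037
def n108360 : Q := act 0 n50038
theorem D108360 : act 0 n50038 = n108360 := rfl
def n108361 : Q := act 1 n50038
theorem D108361 : act 1 n50038 = n108361 := rfl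
theorem F167536 : act 1 n108361 = n61747 := d15_1 D108361 F96341 (iv2 F79185)
def n108362 : Q := act 7 n50038
theorem D108362 : act 7 n50038 = n108362 := rfl
theorem F167537 : act 2 n108362 = n61747 := d4_1 D108362 F96341 (iv2 F79185)
theorem F167538 : act 3 n108362 = n50041 := d8_1 D108362 (iv7 D50041) (iv3 F79186)
theorem F167539 : act 5 n108362 = n74146 := d13_1 D108362 (iv7 D74146) (iv5 F79187)
theorem F167540 : act 6 n108362 = n61693 := d14_1 D108362 (iv7 D61693) (iv6 D29252) (iv7 F38255) D50038
theorem F167541 : act 1 n61747 = n108360 := d15_0 (iv0 D108360) D108362 F167537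
theorem F167542 : act 1 n61749 = n108362 := d15_1 D61749 (iv7 D108362) F79185
theorem F167543 : act 1 n108362 = n61748 := d15_0 (iv0 D61748) (iv7 F96341) (iv2 F167537)
def n108363 : Q := act 2 n50039
theorem D108363 : act 2 n50039 = n108363 := rfl
theorem F167544 : act 7 n50040 = n108363 := d15_2 (iv0 D50039) D50040 (iv2 D108363)
def n108364 : Q := act 3 n50039
theorem D108364 : act 3 n50039 = n108364 := rfl
def n108365 : Q := act 4 n50039
theorem D108365 : act 4 n50039 = n108365 := rfl
def n108366 : Q := act 5 n50039
theorem D108366 : act 5 n50039 = n108366 := rfl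
theorem F167545 : act 0 n60428 = n108366 := d21_10 (iv5 D108366) (iv1 F79192) (iv5 F87441) F87442 (iv1 F87450) (iv6 F87451) (iv5 F51979) (iv1 F51981) F46261 D60428
def n108367 : Q := act 6 n50039
theorem D108367 : act 6 n50039 = n108367 := rfl
theorem F167546 : act 5 n108367 = n74824 := d21_6 (iv5 D14121) (iv1 F26531) (iv5 F18815) D24405 D50039 D108367 (iv1 D74824) (iv5 D34281) (iv6 D16595) F26682
def n108368 : Q := act 7 n50039
theorem D108368 : act 7 n50039 = n108368 := rfl
theorem F167548 : act 2 n108368 = n50040 := d4_1 D108368 F167544 (iv2 D108363)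
def n108369 : Q := act 3 n50040
theorem D108369 : act 3 n50040 = n108369 := rfl
def n108370 : Q := act 4 n50040
theorem D108370 : act 4 n50040 = n108370 := rfl
def n108371 : Q := act 5 n50040
theorem D108371 : act 5 n50040 = n108371 := rfl
theorem F167549 : act 0 n108371 = n60428 := d21_1 D108371 (iv5 F106263) (iv6 D69841) (iv1 F51786) (iv6 F106981) (iv5 D70531) F85749 (iv5 F47810) (iv6 F53938) (iv1 F79188)
theorem F167550 : act 6 n108371 = n60431 := d21_3 F87441 (iv1 F79188) D108371 (iv1 F110899) F110896 (iv5 F112686) (iv1 F112688) (iv5 F92489) (iv6 F92490) (iv1 F87445)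
theorem F167551 : act 0 n86822 = n108371 := d21_10 (iv5 D108371) (iv1 D50040) F38261 (iv6 D16456) (iv1 F26518) D32877 F52053 D35101 D76794 (iv6 F133108)
def n108372 : Q := act 6 n50040
theorem D108372 : act 6 n50040 = n108372 := rfl
theorem F167552 : act 0 n50050 = n108372 := d21_4 (iv5 D32720) F46235 F46234 D50050 (iv6 D108372) D108371 F167549 (iv5 F106263) (iv6 D69841) (iv1 F51786)
theorem F167553 : act 1 n61638 = n108372 := d15_0 (iv0 F167552) (iv7 F98018) F98017
def n108373 : Q := act 2 n50042
theorem D108373 : act 2 n50042 = n108373 := rfl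
theorem F167554 : act 7 n50043 = n108373 := d15_2 (iv0 D50042) D50043 (iv2 D108373)
def n108374 : Q := act 3 n50042
theorem D108374 : act 3 n50042 = n108374 := rfl
theorem F167555 : act 4 n108374 = n65342 := d20_6 F24166 (iv1 D11506) D11507 D24406 D50042 D108374 (iv1 D65342) (iv4 D30650) F24163 D14528
def n108375 : Q := act 4 n50042
theorem D108375 : act 4 n50042 = n108375 := rfl
def n108376 : Q := act 5 n50042
theorem D108376 : act 5 n50042 = n108376 := rfl
def n108378 : Q := act 7 n50042
theorem D108378 : act 7 n50042 = n108378 := rfl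
theorem F167556 : act 2 n108378 = n50043 := d4_1 D108378 F167554 (iv2 D108373)
def n108379 : Q := act 3 n50043
theorem D108379 : act 3 n50043 = n108379 := rfl
def n108380 : Q := act 4 n50043
theorem D108380 : act 4 n50043 = n108380 := rfl
def n108381 : Q := act 5 n50043
theorem D108381 : act 5 n50043 = n108381 := rfl
def n108386 : Q := act 5 n50045
theorem D108386 : act 5 n50045 = n108386 := rfl
theorem F167559 : act 3 n108386 = n50046 := d6_1 D108386 (iv5 D50046) (iv3 F79202)
def n108387 : Q := act 7 n50045
theorem D108387 : act 7 n50045 = n108387 := rfl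
theorem F167561 : act 3 n108387 = n50047 := d8_1 D108387 (iv7 D50047) (iv3 F79202)
theorem F167562 : act 6 n108387 = n107838 := d14_1 D108387 (iv7 D107838) (iv6 D49804) (iv7 F38263) D50045
def n108388 : Q := act 3 n50049
theorem D108388 : act 3 n50049 = n108388 := rfl
theorem F167563 : act 7 n108388 = n74963 := d8_2 (iv7 F79212) D108388 (iv3 D74963)
def n108389 : Q := act 5 n50049
theorem D108389 : act 5 n50049 = n108389 := rfl
theorem F167566 : act 4 n108389 = n76192 := d16_2 D50049 D108389 (iv5 D76192) (iv4 D34802) (iv5 F27598) (iv4 F37329) F38267 (iv7 F44675) F44677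
def n108390 : Q := act 6 n50049
theorem D108390 : act 6 n50049 = n108390 := rfl
theorem F167568 : act 4 n108390 = n50050 := d10_1 D108390 (iv6 D50050) D50049
def n108391 : Q := act 1 n50050
theorem D108391 : act 1 n50050 = n108391 := rfl
theorem F167569 : act 1 n108391 = n61638 := d15_1 D108391 F96203 (iv2 F79215)
theorem F167570 : act 5 n62933 = n108391 := d21_6 (iv5 D17812) (iv1 F41801) (iv5 F23178) D29299 (iv1 F47886) D62933 (iv1 D108391) F79216 (iv6 F57936) (iv1 D37013)
theorem F167571 : act 0 n61777 = n62933 := d21_10 F167570 (iv1 D108391) F79216 (iv6 F57936) (iv1 D37013) D37015 (iv5 F85905) F96358 (iv5 D61776) D61777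
def n108392 : Q := act 0 n50051
theorem D108392 : act 0 n50051 = n108392 := rfl
theorem F167572 : act 1 n61774 = n108392 := d15_0 (iv0 D108392) F79218 (iv2 F110521)
def n108393 : Q := act 1 n50051
theorem D108393 : act 1 n50051 = n108393 := rfl
def n108394 : Q := act 4 n50051
theorem D108394 : act 4 n50051 = n108394 := rfl
theorem F167574 : act 7 n108394 = n107997 := d11_2 (iv7 F79218) D108394 (iv4 D107997)
def n108395 : Q := act 6 n50051
theorem D108395 : act 6 n50051 = n108395 := rfl
theorem F167575 : act 3 n108395 = n50053 := d7_1 D108395 (iv6 D50053) D50051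
theorem F167576 : act 5 n108395 = n106081 := d12_1 D108395 (iv6 D106081) (iv5 D49025) D49026 (iv5 F79217)
def n108396 : Q := act 3 n50052
theorem D108396 : act 3 n50052 = n108396 := rfl
theorem F167577 : act 7 n108396 = n74960 := d8_2 (iv7 F79220) D108396 (iv3 D74960)
def n108398 : Q := act 6 n50052
theorem D108398 : act 6 n50052 = n108398 := rfl
theorem F167581 : act 2 n108398 = n74965 := d3_1 D108398 (iv6 D74965) (iv2 F79219)
theorem F167582 : act 4 n108398 = n50053 := d10_1 D108398 (iv6 D50053) D50052
def n108399 : Q := act 2 n50055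
theorem D108399 : act 2 n50055 = n108399 := rfl
theorem F167583 : act 4 n108399 = n74705 := d1_2 (iv4 F114320) D108399 (iv2 D74705)
theorem F167584 : act 7 n50056 = n108399 := d15_2 (iv0 D50055) D50056 (iv2 D108399)
def n108400 : Q := act 3 n50055
theorem D108400 : act 3 n50055 = n108400 := rfl
def n108401 : Q := act 5 n50055
theorem D108401 : act 5 n50055 = n108401 := rfl
def n108402 : Q := act 6 n50055
theorem D108402 : act 6 n50055 = n108402 := rfl
theorem F167585 : act 4 n108402 = n74709 := d10_1 D108402 (iv6 D74709) (iv4 F114320)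
theorem F167586 : act 5 n108402 = n54361 := d21_6 (iv5 D7713) (iv1 F8177) (iv5 F18824) D24411 D50055 D108402 (iv1 D54361) (iv5 F47804) (iv6 D29732) (iv1 F26684)
def n108403 : Q := act 7 n50055
theorem D108403 : act 7 n50055 = n108403 := rfl
def n108404 : Q := act 3 n50056
theorem D108404 : act 3 n50056 = n108404 := rfl
def n108405 : Q := act 5 n50056
theorem D108405 : act 5 n50056 = n108405 := rfl
def n108406 : Q := act 6 n50056
theorem D108406 : act 6 n50056 = n108406 := rfl
theorem F167589 : act 4 n108406 = n74714 := d10_1 D108406 (iv6 D74714) (iv4 F114324)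
def n108407 : Q := act 3 n50057
theorem D108407 : act 3 n50057 = n108407 := rfl
theorem F167590 : act 4 n108407 = n107623 := d5_2 D50057 D108407 (iv3 D107623) (iv4 D49720) (iv3 F38282)
theorem F167591 : act 5 n108407 = n63518 := d6_2 (iv5 F79233) D108407 (iv3 D63518)
def n108408 : Q := act 6 n50057
theorem D108408 : act 6 n50057 = n108408 := rfl
theorem F167592 : act 2 n108408 = n60510 := d3_1 D108408 (iv6 D60510) (iv2 F79232)
theorem F167593 : act 4 n108408 = n50058 := d10_1 D108408 (iv6 D50058) D50057
def n108409 : Q := act 0 n50058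
theorem D108409 : act 0 n50058 = n108409 := rfl
theorem F167594 : act 5 n108409 = n52424 := d21_0 (iv1 D52424) (iv5 F77829) (iv6 D49258) F37591 F19138 (iv5 D11513) D11511 D24413 D50058 D108409
def n108410 : Q := act 1 n50058
theorem D108410 : act 1 n50058 = n108410 := rfl
theorem F167595 : act 1 n108410 = n60513 := d15_1 D108410 (iv7 D60513) (iv2 F79236)
theorem F167596 : act 5 n52423 = n108410 := d21_0 (iv1 D108410) (iv5 F98199) (iv6 D62944) (iv1 D29776) (iv6 F23741) (iv5 D14214) (iv1 F19396) D12093 D25442 D52423
theorem F167597 : act 6 n58794 = n52423 := d21_5 (iv5 D14149) F19319 D13336 D27957 D58794 F167596 (iv1 D108410) (iv5 F98199) (iv6 D62944) (iv1 D29776)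
def n108411 : Q := act 7 n50058
theorem D108411 : act 7 n50058 = n108411 := rfl
theorem F167598 : act 2 n108411 = n60513 := d4_1 D108411 (iv7 D60513) (iv2 F79236)
theorem F167599 : act 3 n108411 = n107627 := d8_1 D108411 (iv7 D107627) (iv3 F79237)
theorem F167600 : act 1 n60513 = n108409 := d15_0 (iv0 D108409) D108411 F167598
theorem F167601 : act 1 n60512 = n108411 := d15_1 D60512 (iv7 D108411) F79236
theorem F167602 : act 1 n108411 = n60511 := d15_0 (iv0 D60511) D60513 (iv2 F167598)
def n108412 : Q := act 3 n50059
theorem D108412 : act 3 n50059 = n108412 := rfl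
theorem F167603 : act 4 n108412 = n60480 := d5_2 D50059 D108412 (iv3 D60480) (iv4 D28723) (iv3 F38288)
theorem F167604 : act 5 n108412 = n63520 := d6_2 F79241 D108412 (iv3 D63520)
theorem F167605 : act 7 n108412 = n60508 := d8_2 (iv7 F79238) D108412 (iv3 D60508)
def n108413 : Q := act 6 n50059
theorem D108413 : act 6 n50059 = n108413 := rfl
theorem F167606 : act 2 n108413 = n66295 := d3_1 D108413 F102206 F79319
theorem F167607 : act 4 n108413 = n50060 := d10_1 D108413 (iv6 D50060) D50059
theorem F167608 : act 0 n63429 = n108413 := d21_4 D29843 D63103 F98402 (iv6 F98755) (iv6 D108413) (iv5 F79241) (iv1 D29996) (iv5 D14241) F11032 D14180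
theorem F167609 : act 1 n62683 = n108413 := d18_6 F102036 F101811 (iv1 F101809) F49393 (iv5 F47607) D62683 F167607 (iv0 F96393) F96392
theorem F167610 : act 7 n66296 = n108413 := d15_2 (iv0 D66295) D66296 F167606
def n108414 : Q := act 0 n50060
theorem D108414 : act 0 n50060 = n108414 := rfl
def n108415 : Q := act 7 n50060
theorem D108415 : act 7 n50060 = n108415 := rfl
theorem F167611 : act 3 n108415 = n51210 := d8_1 D108415 F80791 (iv3 F79242)
theorem F167612 : act 4 n108415 = n66296 := d11_1 D108415 F167610 F167607
theorem F167613 : act 5 n108415 = n68176 := d13_1 D108415 F104327 F103623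
theorem F167614 : act 6 n108415 = n60513 := d14_1 D108415 (iv7 D60513) (iv6 D28737) (iv7 F38289) D50060
theorem F167615 : act 1 n51121 = n108415 := d15_1 (iv0 F80641) (iv7 D108415) (iv2 F79322)
def n108416 : Q := act 6 n50061
theorem D108416 : act 6 n50061 = n108416 := rfl
theorem F167616 : act 2 n108416 = n59329 := d3_1 D108416 (iv6 D59329) (iv2 F79243)
theorem F167617 : act 3 n108416 = n50062 := d7_1 D108416 (iv6 D50062) D50061
theorem F167618 : act 4 n108416 = n53150 := d10_1 D108416 (iv6 D53150) (iv4 F79247)
theorem F167619 : act 5 n108416 = n59436 := d12_1 D108416 (iv6 D59436) F45676 (iv6 F46510) (iv5 F79244)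
theorem F167620 : act 0 n63172 = n53150 := d18_2 (iv1 F83856) D63172 (iv4 F167618) F167619 F93822 F111128 F111126 F110988 F110983
def n108417 : Q := act 0 n50062
theorem D108417 : act 0 n50062 = n108417 := rfl
theorem F167621 : act 3 n108417 = n106579 := d20_5 D63172 F167620 (iv4 F167618) F167617 D108417 F164154 (iv1 F99108) F99104 (iv3 F83855) (iv1 F83856)
def n108418 : Q := act 1 n50062
theorem D108418 : act 1 n50062 = n108418 := rfl
theorem F167622 : act 1 n108418 = n60584 := d15_1 D108418 (iv7 D60584) (iv2 F79249)
def n108419 : Q := act 7 n50062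
theorem D108419 : act 7 n50062 = n108419 := rfl
theorem F167623 : act 2 n108419 = n60584 := d4_1 D108419 (iv7 D60584) (iv2 F79249)
theorem F167624 : act 4 n108419 = n63489 := d11_1 D108419 (iv7 D63489) (iv4 F79250)
theorem F167625 : act 5 n108419 = n108073 := d13_1 D108419 F167097 F98673
theorem F167626 : act 1 n60584 = n108417 := d15_0 (iv0 D108417) D108419 F167623
theorem F167627 : act 1 n60583 = n108419 := d15_1 D60583 (iv7 D108419) F79249
theorem F167628 : act 4 n63447 = n60583 := d18_7 (iv1 F167096) F101626 (iv1 D65924) F49312 F24297 (iv4 F48180) D63447 F167627 F167625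
theorem F167629 : act 1 n108419 = n60582 := d15_0 (iv0 D60582) D60584 (iv2 F167623)
def n108420 : Q := act 0 n50063
theorem D108420 : act 0 n50063 = n108420 := rfl
def n108421 : Q := act 1 n50063
theorem D108421 : act 1 n50063 = n108421 := rfl
theorem F167630 : act 5 n108421 = n106203 := d18_9 (iv1 D106203) F77456 D50365 F100267 (iv5 F48235) (iv4 F100269) (iv0 D63496) (iv4 F79252) D108421
def n108422 : Q := act 7 n50063
theorem D108422 : act 7 n50063 = n108422 := rfl
theorem F167631 : act 3 n108422 = n58836 := d8_1 D108422 (iv7 D58836) (iv3 F79251)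
theorem F167632 : act 4 n108422 = n63499 := d11_1 D108422 (iv7 D63499) (iv4 F79252)
theorem F167633 : act 5 n108422 = n58796 := d13_1 D108422 (iv7 D58796) (iv5 F79253)
theorem F167634 : act 6 n108422 = n60584 := d14_1 D108422 (iv7 D60584) (iv6 D28770) F38294 D50063
theorem F167635 : act 0 n63499 = n63208 := d20_7 (iv4 F23038) (iv1 F79886) (iv4 D28930) F100187 F93020 (iv3 F167631) F167632 (iv4 D63208) (iv3 D29882) (iv1 D14194)
theorem F167636 : act 1 n63341 = n63208 := d15_0 (iv0 F167635) (iv7 D63499) (iv2 F98616)
def n108423 : Q := act 0 n50064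
theorem D108423 : act 0 n50064 = n108423 := rfl
def n108424 : Q := act 1 n50064
theorem D108424 : act 1 n50064 = n108424 := rfl
def n108425 : Q := act 2 n50064
theorem D108425 : act 2 n50064 = n108425 := rfl
theorem F167637 : act 4 n108425 = n105492 := d1_2 (iv4 F79254) D108425 (iv2 D105492)
def n108426 : Q := act 5 n50064
theorem D108426 : act 5 n50064 = n108426 := rfl
theorem F167638 : act 3 n108426 = n50065 := d6_1 D108426 (iv5 D50065) D50064
def n108427 : Q := act 6 n50065
theorem D108427 : act 6 n50065 = n108427 := rfl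
def n108428 : Q := act 0 n50066
theorem D108428 : act 0 n50066 = n108428 := rfl
theorem F167639 : act 2 n60685 = n108428 := d15_3 (iv0 D108428) (iv0 F103577) (iv7 F103556)
theorem F167640 : act 1 n51087 = n108428 := d15_0 (iv0 D108428) (iv7 F80563) (iv2 F80580)
theorem F167641 : act 4 n108428 = n63528 := d1_2 (iv4 F98525) F167639 (iv2 F103568)
def n108429 : Q := act 0 n50067
theorem D108429 : act 0 n50067 = n108429 := rfl
def n108430 : Q := act 1 n50067
theorem D108430 : act 1 n50067 = n108430 := rfl
def n108431 : Q := act 2 n50067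
theorem D108431 : act 2 n50067 = n108431 := rfl
theorem F167642 : act 3 n108431 = n74354 := d0_2 D50067 D108431 (iv2 D74354) (iv3 D34107) (iv2 F38299)
def n108432 : Q := act 5 n50067
theorem D108432 : act 5 n50067 = n108432 := rfl
theorem F167643 : act 3 n108432 = n50068 := d6_1 D108432 (iv5 D50068) D50067
def n108433 : Q := act 6 n50067
theorem D108433 : act 6 n50067 = n108433 := rfl
theorem F167644 : act 3 n108433 = n50069 := d7_1 D108433 (iv6 D50069) D50067
def n108434 : Q := act 6 n50068
theorem D108434 : act 6 n50068 = n108434 := rfl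
theorem F167645 : act 2 n108434 = n74357 := d3_1 D108434 (iv6 D74357) (iv2 F79257)
def n108435 : Q := act 0 n50069
theorem D108435 : act 0 n50069 = n108435 := rfl
theorem F167646 : act 5 n108435 = n66552 := d17_1 D108435 (iv1 D66552) (iv5 D31059) F24369 (iv5 F24125) D30525 (iv5 F79261) (iv0 D50070) (iv4 F79259)
theorem F167647 : act 6 n67582 = n108435 := d21_5 (iv5 F49326) (iv1 F78081) (iv5 D49377) D49378 (iv1 F103461) F167646 (iv1 D66552) (iv5 D31059) (iv6 D14691) D14687
theorem F167648 : act 4 n108435 = n67583 := d10_1 F167647 (iv6 D67583) D67582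
theorem F167649 : act 7 n74359 = n108435 := d11_0 F167648 (iv7 F112154) F112157
theorem F167650 : act 0 n108435 = n74361 := d20_7 D30545 (iv1 F53795) F38182 (iv3 F38178) F49659 (iv3 F103463) (iv4 F167648) F111578 F53527 (iv1 F26133)
theorem F167651 : act 2 n108435 = n74358 := d15_3 (iv0 D74358) D74359 F167649
theorem F167652 : act 4 n74358 = n63358 := d1_2 (iv4 F167648) F167651 (iv2 F112155)
theorem F167653 : act 6 n74358 = n53389 := d3_2 F167647 F167651 (iv2 F103522)
def n108436 : Q := act 1 n50069
theorem D108436 : act 1 n50069 = n108436 := rfl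
theorem F167654 : act 1 n108436 = n74361 := d15_1 D108436 (iv7 D74361) (iv2 F79258)
theorem F167655 : act 7 n108436 = n74358 := d15_2 (iv0 D108435) D108436 (iv2 F167651)
theorem F167656 : act 2 n74359 = n108436 := d4_3 F167655 (iv2 F167651) (iv7 F167649)
def n108437 : Q := act 5 n50069
theorem D108437 : act 5 n50069 = n108437 := rfl
theorem F167657 : act 2 n108437 = n74360 := d2_1 D108437 (iv5 D74360) (iv2 F79258)
def n108438 : Q := act 7 n50069
theorem D108438 : act 7 n50069 = n108438 := rfl
theorem F167658 : act 2 n108438 = n74361 := d4_1 D108438 (iv7 D74361) (iv2 F79258)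
theorem F167659 : act 4 n108438 = n50072 := d11_1 D108438 (iv7 D50072) (iv4 F79259)
theorem F167660 : act 1 n74359 = n108438 := d15_1 D74359 (iv7 D108438) F79258
theorem F167661 : act 1 n108438 = n74358 := d15_1 F167660 (iv7 F167655) (iv2 F167656)
def n108439 : Q := act 4 n50070
theorem D108439 : act 4 n50070 = n108439 := rfl
theorem F167662 : act 2 n108439 = n74362 := d1_1 D108439 (iv4 D74362) F101225
theorem F167663 : act 6 n108439 = n65524 := d10_2 (iv6 F79260) D108439 (iv4 D65524)
theorem F167664 : act 7 n108439 = n74363 := d11_2 (iv7 F101221) D108439 (iv4 D74363)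
def n108440 : Q := act 4 n50071
theorem D108440 : act 4 n50071 = n108440 := rfl
theorem F167665 : act 2 n108440 = n74363 := d1_1 D108440 (iv4 D74363) (iv2 F101226)
theorem F167666 : act 7 n108440 = n74362 := d11_2 (iv7 F101224) D108440 (iv4 D74362)
theorem F167667 : act 0 n108440 = n63357 := d20_1 D108440 F98661 F48121 (iv1 F101927) (iv3 D34250) (iv4 F53677) (iv1 F53552) F53548 (iv3 F53527) (iv1 F79262)
theorem F167668 : act 1 n108439 = n63357 := d15_0 (iv0 F167667) F167666 (iv2 F167662)
def n108441 : Q := act 6 n50071
theorem D108441 : act 6 n50071 = n108441 := rfl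
theorem F167669 : act 2 n108441 = n67434 := d3_1 D108441 F163968 (iv2 F101226)
theorem F167670 : act 3 n108441 = n106954 := d7_1 D108441 (iv6 D106954) F111339
theorem F167671 : act 5 n108441 = n65512 := d12_1 D108441 (iv6 D65512) (iv5 D30704) (iv6 F49145) F79263
theorem F167672 : act 7 n108441 = n65512 := d14_2 (iv7 F101224) D108441 (iv6 D65512) F101213 (iv6 F53526)
theorem F167673 : act 0 n108441 = n65875 := d21_10 (iv5 D65875) (iv1 D30823) F24252 (iv6 D14595) (iv1 F11242) D7013 (iv5 F24125) D30524 F79263 D108441
theorem F167674 : act 0 n53828 = n108441 := d21_4 D53522 (iv1 F164738) (iv5 F163957) F95967 (iv6 D108441) (iv5 F79263) (iv1 F80865) F80860 (iv6 F78102) (iv1 F78104)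
def n108442 : Q := act 0 n50073
theorem D108442 : act 0 n50073 = n108442 := rfl
def n108443 : Q := act 1 n50073
theorem D108443 : act 1 n50073 = n108443 := rfl
def n108444 : Q := act 2 n50073
theorem D108444 : act 2 n50073 = n108444 := rfl
theorem F167675 : act 3 n108444 = n74453 := d0_2 D50073 D108444 (iv2 D74453) (iv3 D34148) (iv2 F38301)
def n108445 : Q := act 5 n50073
theorem D108445 : act 5 n50073 = n108445 := rfl
theorem F167676 : act 3 n108445 = n50074 := d6_1 D108445 (iv5 D50074) D50073
def n108446 : Q := act 6 n50073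
theorem D108446 : act 6 n50073 = n108446 := rfl
theorem F167677 : act 3 n108446 = n50075 := d7_1 D108446 (iv6 D50075) D50073
def n108447 : Q := act 6 n50074
theorem D108447 : act 6 n50074 = n108447 := rfl
theorem F167678 : act 2 n108447 = n74456 := d3_1 D108447 (iv6 D74456) (iv2 F79268)
def n108448 : Q := act 1 n50075
theorem D108448 : act 1 n50075 = n108448 := rfl
theorem F167679 : act 1 n108448 = n74460 := d15_1 D108448 (iv7 D74460) (iv2 F79269)
def n108449 : Q := act 5 n50075
theorem D108449 : act 5 n50075 = n108449 := rfl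
theorem F167680 : act 2 n108449 = n74459 := d2_1 D108449 (iv5 D74459) (iv2 F79269)
theorem F167681 : act 0 n108449 = n65958 := d21_7 D14620 D30870 F49326 (iv6 F48068) F48069 D50075 D108449 (iv5 D65958) (iv6 D30864) (iv1 D14618)
def n108450 : Q := act 7 n50075
theorem D108450 : act 7 n50075 = n108450 := rfl
theorem F167682 : act 2 n108450 = n74460 := d4_1 D108450 (iv7 D74460) (iv2 F79269)
theorem F167683 : act 4 n108450 = n50078 := d11_1 D108450 (iv7 D50078) (iv4 F79270)
theorem F167684 : act 1 n74458 = n108450 := d15_1 D74458 (iv7 D108450) F79269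
theorem F167685 : act 1 n108450 = n74457 := d15_0 (iv0 D74457) D74460 (iv2 F167682)
def n108451 : Q := act 4 n50077
theorem D108451 : act 4 n50077 = n108451 := rfl
theorem F167686 : act 2 n108451 = n74465 := d1_1 D108451 (iv4 D74465) (iv2 F102451)
theorem F167687 : act 7 n108451 = n74462 := d11_2 F102450 D108451 (iv4 D74462)
theorem F167688 : act 0 n108451 = n50081 := d20_1 D108451 F79277 (iv3 F78894) F166080 (iv3 D49779) (iv4 F53662) (iv1 F53661) F53656 (iv3 F53637) (iv1 F79271)
theorem F167689 : act 1 n66581 = n50081 := d15_0 (iv0 F167688) F167687 F111773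
def n108452 : Q := act 0 n50079
theorem D108452 : act 0 n50079 = n108452 := rfl
def n108453 : Q := act 1 n50079
theorem D108453 : act 1 n50079 = n108453 := rfl
def n108454 : Q := act 2 n50079
theorem D108454 : act 2 n50079 = n108454 := rfl
def n108455 : Q := act 5 n50079
theorem D108455 : act 5 n50079 = n108455 := rfl
theorem F167690 : act 3 n108455 = n50080 := d6_1 D108455 (iv5 D50080) D50079
def n108456 : Q := act 6 n50079
theorem D108456 : act 6 n50079 = n108456 := rfl
theorem F167691 : act 3 n108456 = n50081 := d7_1 D108456 (iv6 D50081) D50079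
def n108457 : Q := act 6 n50080
theorem D108457 : act 6 n50080 = n108457 := rfl
theorem F167692 : act 4 n108457 = n63495 := d10_1 D108457 (iv6 D63495) (iv4 F79276)
def n108458 : Q := act 5 n50081
theorem D108458 : act 5 n50081 = n108458 := rfl
theorem F167693 : act 0 n108458 = n65934 := d17_2 F167688 D108458 (iv5 D65934) F49314 F24298 D24996 (iv5 F39226) D50077 D108451
def n108459 : Q := act 7 n50081
theorem D108459 : act 7 n50081 = n108459 := rfl
theorem F167694 : act 4 n108459 = n63370 := d11_1 D108459 (iv7 D63370) (iv4 F79277)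
theorem F167695 : act 1 n74465 = n108459 := d15_1 (iv0 F111782) (iv7 D108459) (iv2 F79395)
theorem F167696 : act 1 n108459 = n74462 := d15_1 F167695 (iv7 F167687) F167686
def n108460 : Q := act 0 n50082
theorem D108460 : act 0 n50082 = n108460 := rfl
theorem F167697 : act 3 n108460 = n74474 := d20_5 F53626 (iv1 F48073) F38945 D50082 D108460 (iv4 D74474) (iv1 D34155) (iv4 F53632) (iv3 D34148) D34147
def n108461 : Q := act 1 n50082
theorem D108461 : act 1 n50082 = n108461 := rfl
def n108462 : Q := act 2 n50082
theorem D108462 : act 2 n50082 = n108462 := rfl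
def n108463 : Q := act 5 n50082
theorem D108463 : act 5 n50082 = n108463 := rfl
theorem F167698 : act 3 n108463 = n50083 := d6_1 D108463 (iv5 D50083) D50082
def n108464 : Q := act 6 n50082
theorem D108464 : act 6 n50082 = n108464 := rfl
theorem F167699 : act 3 n108464 = n50084 := d7_1 D108464 (iv6 D50084) D50082
def n108465 : Q := act 6 n50083
theorem D108465 : act 6 n50083 = n108465 := rfl
theorem F167700 : act 4 n108465 = n63485 := d10_1 D108465 (iv6 D63485) (iv4 F79278)
def n108466 : Q := act 0 n50084
theorem D108466 : act 0 n50084 = n108466 := rfl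
def n108467 : Q := act 5 n50084
theorem D108467 : act 5 n50084 = n108467 := rfl
def n108468 : Q := act 7 n50084
theorem D108468 : act 7 n50084 = n108468 := rfl
theorem F167701 : act 4 n108468 = n63374 := d11_1 D108468 (iv7 D63374) (iv4 F79279)
def n108469 : Q := act 0 n50085
theorem D108469 : act 0 n50085 = n108469 := rfl
theorem F167702 : act 2 n50089 = n108469 := d15_3 (iv0 D108469) (iv0 D50085) D50089
theorem F167703 : act 4 n108469 = n107014 := d1_2 (iv4 F79284) F167702 (iv2 F164958)
theorem F167704 : act 7 n108469 = n50087 := d4_2 D50089 F167702 (iv2 D50087)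
theorem F167705 : act 1 n50086 = n108469 := d15_1 D50086 F167704 (iv2 D50087)
def n108470 : Q := act 2 n50085
theorem D108470 : act 2 n50085 = n108470 := rfl
theorem F167706 : act 7 n50086 = n108470 := d15_2 (iv0 D50085) D50086 (iv2 D108470)
def n108471 : Q := act 3 n50085
theorem D108471 : act 3 n50085 = n108471 := rfl
def n108472 : Q := act 4 n50085
theorem D108472 : act 4 n50085 = n108472 := rfl
def n108473 : Q := act 5 n50085
theorem D108473 : act 5 n50085 = n108473 := rfl
def n108474 : Q := act 6 n50085
theorem D108474 : act 6 n50085 = n108474 := rfl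
def n108475 : Q := act 7 n50085
theorem D108475 : act 7 n50085 = n108475 := rfl
theorem F167707 : act 2 n108475 = n50086 := d4_1 D108475 F167706 (iv2 D108470)
def n108476 : Q := act 3 n50086
theorem D108476 : act 3 n50086 = n108476 := rfl
def n108477 : Q := act 4 n50086
theorem D108477 : act 4 n50086 = n108477 := rfl
def n108478 : Q := act 5 n50086
theorem D108478 : act 5 n50086 = n108478 := rfl
def n108479 : Q := act 6 n50086
theorem D108479 : act 6 n50086 = n108479 := rfl
def n108480 : Q := act 0 n50087
theorem D108480 : act 0 n50087 = n108480 := rfl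
theorem F167708 : act 1 n50089 = n108480 := d15_0 (iv0 D108480) (iv7 F167704) (iv2 F167702)
def n108481 : Q := act 1 n50087
theorem D108481 : act 1 n50087 = n108481 := rfl
theorem F167709 : act 1 n108481 = n50089 := d15_1 D108481 (iv7 D50089) D50087
def n108482 : Q := act 5 n50087
theorem D108482 : act 5 n50087 = n108482 := rfl
theorem F167710 : act 2 n108482 = n50088 := d2_1 D108482 (iv5 D50088) D50087
def n108483 : Q := act 0 n50088
theorem D108483 : act 0 n50088 = n108483 := rfl
def n108484 : Q := act 1 n50088
theorem D108484 : act 1 n50088 = n108484 := rfl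
def n108485 : Q := act 4 n50088
theorem D108485 : act 4 n50088 = n108485 := rfl
def n108486 : Q := act 6 n50088
theorem D108486 : act 6 n50088 = n108486 := rfl
theorem F167711 : act 3 n108486 = n50093 := d7_1 D108486 (iv6 D50093) (iv3 F79282)
theorem F167712 : act 5 n108486 = n106920 := d12_1 D108486 (iv6 D106920) (iv5 D49395) (iv6 F38304) D50088
def n108487 : Q := act 7 n50088
theorem D108487 : act 7 n50088 = n108487 := rfl
theorem F167713 : act 3 n108487 = n50094 := d8_1 D108487 (iv7 D50094) (iv3 F79282)
theorem F167714 : act 5 n108487 = n50089 := d13_1 D108487 (iv7 D50089) D50088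
def n108488 : Q := act 6 n50089
theorem D108488 : act 6 n50089 = n108488 := rfl
theorem F167715 : act 3 n108488 = n50095 := d7_1 D108488 (iv6 D50095) (iv3 F79283)
theorem F167716 : act 4 n108488 = n107033 := d10_1 D108488 (iv6 D107033) (iv4 F79284)
theorem F167717 : act 7 n108488 = n106922 := d14_2 D50089 D108488 (iv6 D106922) (iv7 D49396) (iv6 F38304)
def n108489 : Q := act 3 n50090
theorem D108489 : act 3 n50090 = n108489 := rfl
theorem F167718 : act 5 n108489 = n63356 := d6_2 (iv5 F79285) D108489 (iv3 D63356)
def n108490 : Q := act 6 n50090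
theorem D108490 : act 6 n50090 = n108490 := rfl
theorem F167719 : act 4 n108490 = n63521 := d10_1 D108490 (iv6 D63521) (iv4 F79286)
def n108491 : Q := act 3 n50091
theorem D108491 : act 3 n50091 = n108491 := rfl
theorem F167720 : act 5 n108491 = n63362 := d6_2 (iv5 F79287) D108491 (iv3 D63362)
def n108492 : Q := act 6 n50091
theorem D108492 : act 6 n50091 = n108492 := rfl
theorem F167721 : act 4 n108492 = n63519 := d10_1 D108492 (iv6 D63519) F79288
def n108493 : Q := act 3 n50092
theorem D108493 : act 3 n50092 = n108493 := rfl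
def n108494 : Q := act 6 n50092
theorem D108494 : act 6 n50092 = n108494 := rfl
theorem F167722 : act 4 n108494 = n50093 := d10_1 D108494 (iv6 D50093) D50092
def n108495 : Q := act 0 n50093
theorem D108495 : act 0 n50093 = n108495 := rfl
def n108496 : Q := act 1 n50093
theorem D108496 : act 1 n50093 = n108496 := rfl
def n108497 : Q := act 7 n50093
theorem D108497 : act 7 n50093 = n108497 := rfl
theorem F167723 : act 5 n108497 = n106931 := d13_1 D108497 (iv7 D106931) (iv5 F79289)
def n108498 : Q := act 6 n50094
theorem D108498 : act 6 n50094 = n108498 := rfl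
def n108499 : Q := act 5 n50095
theorem D108499 : act 5 n50095 = n108499 := rfl
theorem F167724 : act 7 n108499 = n106935 := d13_2 (iv7 F79292) D108499 (iv5 D106935)
def n108500 : Q := act 3 n50096
theorem D108500 : act 3 n50096 = n108500 := rfl
theorem F167725 : act 4 n108500 = n63894 := d5_2 D50096 D108500 (iv3 D63894) (iv4 D30136) (iv3 F38310)
theorem F167726 : act 5 n108500 = n107739 := d6_2 F79297 D108500 (iv3 D107739)
theorem F167727 : act 7 n108500 = n64101 := d8_2 (iv7 F79294) D108500 (iv3 D64101)
def n108501 : Q := act 6 n50096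
theorem D108501 : act 6 n50096 = n108501 := rfl
theorem F167728 : act 2 n108501 = n62578 := d3_1 D108501 (iv6 D62578) (iv2 F79293)
theorem F167729 : act 4 n108501 = n50097 := d10_1 D108501 (iv6 D50097) D50096
theorem F167730 : act 0 n64251 = n108501 := d21_4 D28279 D59576 F93999 D64251 (iv6 D108501) (iv5 F79297) (iv1 D49768) (iv5 D24266) F18663 D13501
theorem F167731 : act 0 n108501 = n74793 := d20_1 (iv4 F167729) (iv4 D74793) (iv3 D34268) (iv1 F27068) D31445 D67709 (iv1 F103750) F50032 (iv3 F48646) F79301
def n108502 : Q := act 7 n50099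
theorem D108502 : act 7 n50099 = n108502 := rfl
theorem F167732 : act 2 n108502 = n64151 := d4_1 D108502 (iv7 D64151) (iv2 F79309)
theorem F167733 : act 3 n108502 = n52206 := d8_1 D108502 (iv7 D52206) (iv3 F79310)
theorem F167734 : act 4 n108502 = n107710 := d11_1 D108502 (iv7 D107710) (iv4 F79311)
theorem F167735 : act 5 n108502 = n51404 := d13_1 D108502 F81160 F79622
theorem F167736 : act 1 n64150 = n108502 := d15_1 D64150 (iv7 D108502) F79309
theorem F167737 : act 1 n108502 = n64149 := d15_1 F167736 F163554 (iv2 F164897)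
theorem F167738 : act 0 n108228 = n107710 := d20_7 F167332 (iv1 D108219) F79063 F38208 D24372 D49984 D108228 (iv4 F167734) F167733 (iv1 F82547)
theorem F167739 : act 4 n51404 = n51022 := d18_5 (iv1 F166076) D108228 F167738 (iv4 F167734) F167735 (iv0 D51022) F38838 (iv0 F38753) (iv5 F78547)
theorem F167740 : act 7 n51022 = n52040 := d11_2 (iv7 F81160) F167739 F82246
def n108503 : Q := act 0 n50100
theorem D108503 : act 0 n50100 = n108503 := rfl
theorem F167741 : act 5 n108503 = n64269 := d21_0 (iv1 F100137) F100134 (iv6 F99474) (iv1 F99475) (iv6 F48782) F47478 (iv1 D25798) F38316 D50100 D108503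
theorem F167742 : act 3 n50121 = n108503 := d6_3 F167741 F164929 F80923
theorem F167743 : act 7 n64545 = n108503 := d13_0 F167741 F164925 (iv5 F100493)
def n108504 : Q := act 7 n50100
theorem D108504 : act 7 n50100 = n108504 := rfl
theorem F167744 : act 3 n108504 = n53232 := d8_1 D108504 (iv7 D53232) (iv3 F79312)
theorem F167745 : act 4 n108504 = n107718 := d11_1 D108504 (iv7 D107718) (iv4 F79313)
theorem F167746 : act 5 n108504 = n53194 := d13_1 D108504 (iv7 D53194) (iv5 F79314)
theorem F167747 : act 6 n108504 = n64151 := d14_1 D108504 (iv7 D64151) (iv6 D30231) F38318 D50100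
theorem F167748 : act 1 n64545 = n108504 := d15_1 (iv0 F111139) (iv7 D108504) (iv2 F79803)
theorem F167749 : act 4 n107695 = n64545 := d18_7 F111292 D65518 (iv1 F162089) F161957 F76802 (iv4 F78618) D107695 F167748 F167746
theorem F167750 : act 6 n59525 = n107695 := d10_0 F167749 (iv6 D64545) (iv4 F102189)
def n108505 : Q := act 0 n50101
theorem D108505 : act 0 n50101 = n108505 := rfl
def n108506 : Q := act 1 n50101
theorem D108506 : act 1 n50101 = n108506 := rfl
def n108507 : Q := act 2 n50101
theorem D108507 : act 2 n50101 = n108507 := rfl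
theorem F167751 : act 4 n108507 = n50132 := d1_2 (iv4 F79315) D108507 (iv2 D50132)
def n108508 : Q := act 5 n50101
theorem D108508 : act 5 n50101 = n108508 := rfl
theorem F167752 : act 3 n108508 = n50102 := d6_1 D108508 (iv5 D50102) D50101
def n108509 : Q := act 6 n50102
theorem D108509 : act 6 n50102 = n108509 := rfl
def n108510 : Q := act 3 n50104
theorem D108510 : act 3 n50104 = n108510 := rfl
theorem F167753 : act 7 n108510 = n108407 := d8_2 (iv7 F79320) D108510 (iv3 D108407)
def n108511 : Q := act 0 n50105
theorem D108511 : act 0 n50105 = n108511 := rfl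
def n108512 : Q := act 7 n50105
theorem D108512 : act 7 n50105 = n108512 := rfl
theorem F167754 : act 2 n108512 = n108415 := d4_1 D108512 (iv7 D108415) (iv2 F79322)
theorem F167755 : act 6 n108512 = n108411 := d14_1 D108512 (iv7 D108411) (iv6 D50058) (iv7 F38325) D50105
theorem F167756 : act 1 n108415 = n108511 := d15_0 (iv0 D108511) D108512 F167754
theorem F167757 : act 1 n61838 = n108512 := d15_1 (iv0 F96393) (iv7 D108512) F79322
theorem F167758 : act 7 n108511 = n61838 := d15_2 F167615 F167756 F96390
theorem F167759 : act 3 n61880 = n108511 := d20_3 (iv4 F46723) D61435 F99198 (iv1 F167756) F167611 (iv4 F165245) (iv1 D107225) (iv4 D49541) (iv3 F46667) F46669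
theorem F167760 : act 2 n108511 = n108414 := d15_3 (iv0 D108414) (iv0 F96393) (iv7 F167758)
theorem F167761 : act 3 n108414 = n60704 := d0_2 F167759 F167760 F95306 D60847 F96462
theorem F167762 : act 7 n108414 = n51121 := d4_2 (iv7 F167758) F167760 (iv2 F96390)
theorem F167763 : act 5 n51122 = n108414 := d13_3 F167762 (iv5 D51121) D51122
theorem F167764 : act 1 n108512 = n108414 := d15_1 F167757 F167762 (iv2 F96390)
def n108513 : Q := act 0 n50108
theorem D108513 : act 0 n50108 = n108513 := rfl
def n108514 : Q := act 1 n50108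
theorem D108514 : act 1 n50108 = n108514 := rfl
theorem F167765 : act 1 n108514 = n108422 := d15_1 D108514 (iv7 D108422) (iv2 F79336)
def n108515 : Q := act 7 n50108
theorem D108515 : act 7 n50108 = n108515 := rfl
theorem F167766 : act 2 n108515 = n108422 := d4_1 D108515 (iv7 D108422) (iv2 F79336)
theorem F167767 : act 6 n108515 = n108419 := d14_1 D108515 (iv7 D108419) (iv6 D50062) F38985 D50108
theorem F167768 : act 1 n108422 = n108513 := d15_0 (iv0 D108513) D108515 F167766
theorem F167769 : act 1 n108421 = n108515 := d15_1 D108421 (iv7 D108515) F79336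
theorem F167770 : act 1 n108515 = n108420 := d15_0 (iv0 D108420) D108422 (iv2 F167766)
def n108516 : Q := act 0 n50109
theorem D108516 : act 0 n50109 = n108516 := rfl
theorem F167771 : act 3 n108516 = n63637 := d20_5 F48089 (iv1 D24439) D24440 D50109 D108516 (iv4 D63637) (iv1 F48256) (iv4 F48187) F48186 (iv1 F48087)
def n108517 : Q := act 1 n50109
theorem D108517 : act 1 n50109 = n108517 := rfl
def n108518 : Q := act 2 n50109
theorem D108518 : act 2 n50109 = n108518 := rfl
theorem F167772 : act 3 n108518 = n108425 := d0_2 D50109 D108518 (iv2 D108425) (iv3 D50064) (iv2 F38330)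
def n108519 : Q := act 5 n50109
theorem D108519 : act 5 n50109 = n108519 := rfl
theorem F167773 : act 3 n108519 = n50110 := d6_1 D108519 (iv5 D50110) D50109
theorem F167774 : act 7 n108493 = n108519 := d8_0 F167773 (iv7 F79341) D108493
def n108520 : Q := act 7 n50109
theorem D108520 : act 7 n50109 = n108520 := rfl
theorem F167775 : act 3 n108520 = n50111 := d8_1 D108520 (iv7 D50111) D50109
theorem F167776 : act 4 n108520 = n63540 := d11_1 D108520 F98857 F93601
theorem F167777 : act 5 n108520 = n108493 := d13_1 D108520 F167774 (iv5 D108519)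
theorem F167778 : act 0 n108520 = n63626 := d20_4 F46412 (iv1 F38337) (iv4 F79343) (iv3 F167775) (iv3 D63626) (iv4 D30035) (iv1 D14255) (iv4 F23762) (iv3 D14240) D14238
theorem F167779 : act 1 n108518 = n63626 := d15_0 (iv0 F167778) (iv7 D108520) D108518
def n108521 : Q := act 6 n50110
theorem D108521 : act 6 n50110 = n108521 := rfl
theorem F167780 : act 2 n108521 = n108427 := d3_1 D108521 (iv6 D108427) (iv2 F79337)
theorem F167781 : act 4 n108521 = n108498 := d10_1 D108521 (iv6 D108498) (iv4 F79338)
def n108522 : Q := act 6 n50111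
theorem D108522 : act 6 n50111 = n108522 := rfl
theorem F167782 : act 2 n108522 = n63437 := d3_1 D108522 (iv6 D63437) (iv2 F79342)
theorem F167783 : act 4 n108522 = n50112 := d10_1 D108522 (iv6 D50112) (iv4 F79343)
theorem F167784 : act 0 n108522 = n63533 := d20_7 (iv4 F95205) (iv1 F102067) (iv4 D62004) D62003 F102068 F93604 (iv4 F167783) (iv4 D63533) (iv3 F102052) (iv1 F78059)
theorem F167785 : act 1 n108522 = n63538 := d15_1 (iv0 F167784) F102128 (iv2 F102144)
def n108523 : Q := act 1 n50112
theorem D108523 : act 1 n50112 = n108523 := rfl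
theorem F167786 : act 1 n108523 = n51080 := d15_1 D108523 F80563 (iv2 F79347)
theorem F167787 : act 7 n108523 = n108428 := d15_2 (iv0 F101911) D108523 (iv2 F167639)
theorem F167788 : act 2 n61999 = n108523 := d4_3 F167787 (iv2 F167639) F103556
theorem F167789 : act 4 n63147 = n108523 := d11_3 F167787 F167641 (iv7 F103570)
def n108524 : Q := act 0 n50113
theorem D108524 : act 0 n50113 = n108524 := rfl
theorem F167790 : act 1 n108431 = n108524 := d15_0 (iv0 D108524) F79349 D108431
def n108525 : Q := act 1 n50113
theorem D108525 : act 1 n50113 = n108525 := rfl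
def n108526 : Q := act 2 n50113
theorem D108526 : act 2 n50113 = n108526 := rfl
theorem F167791 : act 3 n108526 = n65042 := d0_2 D50113 D108526 (iv2 D65042) (iv3 D30550) (iv2 F38338)
theorem F167792 : act 7 n108526 = n108431 := d4_2 (iv7 F79349) D108526 (iv2 D108431)
theorem F167793 : act 1 n108526 = n108429 := d15_0 (iv0 D108429) (iv7 F79349) D108526
theorem F167794 : act 1 n108525 = n108431 := d15_1 D108525 (iv7 F167792) (iv2 D108526)
theorem F167795 : act 1 n108430 = n108526 := d15_1 D108430 F167792 (iv2 D108431)
def n108527 : Q := act 5 n50113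
theorem D108527 : act 5 n50113 = n108527 := rfl
theorem F167796 : act 3 n108527 = n50114 := d6_1 D108527 (iv5 D50114) D50113
theorem F167797 : act 7 n108527 = n108432 := d13_2 (iv7 F79349) D108527 (iv5 D108432)
def n108528 : Q := act 6 n50113
theorem D108528 : act 6 n50113 = n108528 := rfl
theorem F167798 : act 3 n108528 = n50115 := d7_1 D108528 (iv6 D50115) D50113
def n108529 : Q := act 6 n50114
theorem D108529 : act 6 n50114 = n108529 := rfl
theorem F167799 : act 2 n108529 = n65045 := d3_1 D108529 (iv6 D65045) (iv2 F79350)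
theorem F167800 : act 4 n108529 = n63401 := d10_1 D108529 (iv6 D63401) (iv4 F79351)
def n108530 : Q := act 0 n50115
theorem D108530 : act 0 n50115 = n108530 := rfl
theorem F167801 : act 4 n108530 = n63364 := d20_2 (iv4 F79356) D108530 (iv3 F103350) (iv1 F53923) F78390 (iv4 F165057) (iv1 D107075) F78215 F37849 F38341
theorem F167802 : act 2 n65949 = n108530 := d15_3 (iv0 D108530) (iv0 F79357) D65949
theorem F167803 : act 7 n108530 = n53380 := d4_2 D65949 F167802 F84225
theorem E16699 : n65949 = n65046 := (c15_4 (iv0 D65046) (iv0 F84227) (iv7 F167803) (iv2 F167802))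
theorem F167804 : act 2 n65046 = n108530 := (sb E16699 F167802)
theorem F167805 : act 4 n65046 = n108073 := (sb E16699 F167098)
theorem F167806 : act 7 n65046 = n30861 := (sb E16699 (iv7 D65949))
theorem F167807 : act 1 n63489 = n63178 := d18_6 F40853 (iv4 F48970) D65046 F167805 (iv5 F167625) F167624 (iv4 D63178) (iv0 F163932) F48086
theorem F167808 : act 6 n65959 = n108530 := d14_5 F167803 (iv6 D53380) (iv7 F40860) D30864 D65959
theorem F167809 : act 1 n65048 = n108530 := d15_1 F100851 F167803 F84225
def n108531 : Q := act 5 n50115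
theorem D108531 : act 5 n50115 = n108531 := rfl
theorem F167810 : act 2 n108531 = n65047 := d2_1 D108531 (iv5 D65047) (iv2 F79355)
def n108532 : Q := act 7 n50115
theorem D108532 : act 7 n50115 = n108532 := rfl
theorem F167812 : act 4 n108532 = n50117 := d11_1 D108532 (iv7 D50117) (iv4 F79356)
theorem F167813 : act 6 n108532 = n108438 := d14_1 D108532 (iv7 D108438) (iv6 D50069) (iv7 F38339) D50115
theorem F167814 : act 1 n53380 = n108532 := d15_1 (iv0 F84227) (iv7 D108532) F79355
theorem F167815 : act 1 n108532 = n65046 := d15_1 F167814 F167806 (iv2 F84225)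
def n108533 : Q := act 4 n50116
theorem D108533 : act 4 n50116 = n108533 := rfl
theorem F167817 : act 6 n108533 = n65935 := d10_2 (iv6 F79358) D108533 F101629
theorem F167818 : act 7 n108533 = n53376 := d11_2 (iv7 F79360) D108533 F84220
theorem F167819 : act 0 n65923 = n108533 := d20_1 (iv4 F101622) (iv4 D108533) (iv3 F100113) (iv1 F100116) F97582 (iv4 F97613) (iv1 F97615) F85016 (iv3 F79553) F79555
def n108534 : Q := act 0 n50118
theorem D108534 : act 0 n50118 = n108534 := rfl
theorem F167821 : act 1 n108444 = n108534 := d15_0 (iv0 D108534) F79371 D108444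
def n108535 : Q := act 1 n50118
theorem D108535 : act 1 n50118 = n108535 := rfl
def n108536 : Q := act 2 n50118
theorem D108536 : act 2 n50118 = n108536 := rfl
theorem F167822 : act 3 n108536 = n65154 := d0_2 D50118 D108536 (iv2 D65154) (iv3 D30590) (iv2 F38353)
theorem F167823 : act 7 n108536 = n108444 := d4_2 (iv7 F79371) D108536 (iv2 D108444)
theorem F167824 : act 1 n108536 = n108442 := d15_0 (iv0 D108442) (iv7 F79371) D108536
theorem F167825 : act 1 n108535 = n108444 := d15_1 D108535 (iv7 F167823) (iv2 D108536)
theorem F167826 : act 1 n108443 = n108536 := d15_1 D108443 F167823 (iv2 D108444)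
def n108537 : Q := act 5 n50118
theorem D108537 : act 5 n50118 = n108537 := rfl
theorem F167827 : act 3 n108537 = n50119 := d6_1 D108537 (iv5 D50119) D50118
theorem F167828 : act 7 n108537 = n108445 := d13_2 (iv7 F79371) D108537 (iv5 D108445)
def n108538 : Q := act 6 n50118
theorem D108538 : act 6 n50118 = n108538 := rfl
theorem F167829 : act 3 n108538 = n50120 := d7_1 D108538 (iv6 D50120) D50118
def n108539 : Q := act 6 n50119
theorem D108539 : act 6 n50119 = n108539 := rfl
theorem F167830 : act 2 n108539 = n65159 := d3_1 D108539 (iv6 D65159) (iv2 F79372)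
theorem F167831 : act 4 n108539 = n63445 := d10_1 D108539 (iv6 D63445) (iv4 F79373)
def n108540 : Q := act 0 n50120
theorem D108540 : act 0 n50120 = n108540 := rfl
theorem F167832 : act 4 n108540 = n107469 := d20_2 (iv4 F79376) D108540 (iv3 D107469) (iv1 F80743) (iv3 F92830) (iv4 F164955) (iv1 F164956) (iv4 F111176) (iv3 F111173) (iv1 D50122)
theorem F167833 : act 0 n108540 = n65163 := d20_7 D34191 (iv1 F53779) F26215 (iv3 F37930) D49645 D107469 (iv4 F167832) F100941 F49039 (iv1 F26192)
theorem E16700 : n107469 = n63372 := ((c18_1 D63372 (iv4 F167832) F167833 F100941 F49040 (iv4 F49142) F101096 (iv4 F101098) (iv0 F111369) F80584)).symm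
theorem F167834 : act 3 n63372 = n49645 := (sb E16700 (iv3 D107469))
theorem F167835 : act 4 n63372 = n108540 := (sb E16700 (iv4 F167832))
theorem F167836 : act 5 n63372 = n67604 := (sb E16700 F165788)
theorem F167837 : act 0 n74555 = n63907 := d20_7 F167835 F167833 F100941 F49039 (iv1 F26192) D34190 D74555 F99400 F98678 D63372
theorem F167838 : act 1 n74555 = n64212 := d15_1 (iv0 F167837) (iv7 D64212) (iv2 F99399)
theorem F167839 : act 0 n67604 = n107687 := d21_1 F167836 F166324 (iv6 F162137) (iv1 F162138) (iv6 F80263) (iv5 F80258) (iv1 F80262) F38943 D29943 D63372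
theorem F167840 : act 0 n51094 = n67604 := d21_10 (iv5 F167836) (iv1 F167188) F167184 (iv6 F93918) (iv1 F93919) (iv6 F80632) (iv5 F79332) (iv1 F79334) F38967 D51094
def n108541 : Q := act 1 n50120
theorem D108541 : act 1 n50120 = n108541 := rfl
theorem F167841 : act 1 n108541 = n65163 := d15_1 D108541 (iv7 D65163) (iv2 F79375)
def n108542 : Q := act 5 n50120
theorem D108542 : act 5 n50120 = n108542 := rfl
theorem F167842 : act 2 n108542 = n65162 := d2_1 D108542 (iv5 D65162) (iv2 F79375)
def n108543 : Q := act 7 n50120
theorem D108543 : act 7 n50120 = n108543 := rfl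
theorem F167843 : act 2 n108543 = n65163 := d4_1 D108543 (iv7 D65163) (iv2 F79375)
theorem F167844 : act 4 n108543 = n50123 := d11_1 D108543 (iv7 D50123) (iv4 F79376)
theorem F167845 : act 6 n108543 = n108450 := d14_1 D108543 (iv7 D108450) (iv6 D50075) (iv7 F38354) D50120
theorem F167846 : act 1 n65161 = n108543 := d15_1 D65161 (iv7 D108543) F79375
theorem F167847 : act 1 n108543 = n65160 := d15_0 (iv0 D65160) D65163 (iv2 F167843)
theorem F167848 : act 4 n65160 = n108104 := d18_7 D51104 F111417 (iv1 F101099) F101095 (iv5 F79386) (iv4 F167844) F167847 (iv0 D108104) F78976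
def n108544 : Q := act 4 n50121
theorem D108544 : act 4 n50121 = n108544 := rfl
theorem F167849 : act 2 n108544 = n65166 := d1_1 D108544 (iv4 D65166) (iv2 F102105)
theorem F167850 : act 7 n108544 = n65170 := d11_2 (iv7 F102106) D108544 (iv4 D65170)
theorem E16701 : n108466 = n65166 := ((c15_4 (iv0 D108466) (iv0 F101951) (iv7 F167850) F167849)).symm
theorem F167851 : act 1 n65166 = n50084 := (sb E16701 (iv0 D108466))
def n108545 : Q := act 6 n50121
theorem D108545 : act 6 n50121 = n108545 := rfl
theorem F167852 : act 2 n108545 = n65167 := d3_1 D108545 (iv6 D65167) (iv2 F102105)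
theorem F167853 : act 5 n108545 = n62526 := d12_1 D108545 (iv6 F102142) (iv5 F102202) F102203 F80923
theorem F167854 : act 7 n108545 = n53523 := d14_2 (iv7 F102106) D108545 (iv6 D53523) (iv7 F102101) (iv6 F80931)
theorem F167855 : act 0 n108545 = n53829 := d21_4 (iv5 F39115) D51300 F80923 D108545 (iv6 D53829) D53828 F167674 F167671 (iv6 D65512) F49144
theorem F167856 : act 0 n63453 = n108545 := d21_4 (iv5 D24537) D24535 D50308 (iv6 F98790) (iv6 D108545) (iv5 F80923) F80924 F53738 F40870 (iv1 F38528)
def n108546 : Q := act 4 n50122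
theorem D108546 : act 4 n50122 = n108546 := rfl
theorem F167857 : act 2 n108546 = n65170 := d1_1 D108546 (iv4 D65170) (iv2 F102102)
theorem F167858 : act 6 n108546 = n53517 := d10_2 F79384 D108546 (iv4 D53517)
theorem F167859 : act 7 n108546 = n65166 := d11_2 (iv7 F102103) D108546 (iv4 D65166)
theorem F167860 : act 0 n108546 = n50129 := d18_2 (iv1 F79377) D108546 F79401 F78976 (iv4 F80619) (iv0 F111408) (iv4 D65406) F49122 (iv5 F49040)
theorem F167861 : act 1 n108546 = n108468 := d15_1 (iv0 F167860) (iv7 D108468) (iv2 F79400)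
theorem F167862 : act 1 n108544 = n50129 := d15_0 (iv0 F167860) F167859 (iv2 F167849)
theorem F167863 : act 1 n108468 = n108544 := d15_1 F167861 F167850 (iv2 F167857)
def n108547 : Q := act 0 n50124
theorem D108547 : act 0 n50124 = n108547 := rfl
theorem F167864 : act 3 n108547 = n65178 := d20_5 (iv4 D29918) D29917 F48062 D50124 D108547 (iv4 D65178) (iv1 D30597) (iv4 F49037) (iv3 D30590) (iv1 F48070)
theorem F167865 : act 1 n108462 = n108547 := d15_0 (iv0 D108547) F79392 D108462
def n108548 : Q := act 1 n50124
theorem D108548 : act 1 n50124 = n108548 := rfl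
def n108549 : Q := act 2 n50124
theorem D108549 : act 2 n50124 = n108549 := rfl
theorem F167866 : act 3 n108549 = n108454 := d0_2 D50124 D108549 (iv2 D108454) (iv3 D50079) F38371
theorem F167867 : act 4 n108549 = n64195 := d1_2 (iv4 F79391) D108549 (iv2 D64195)
theorem F167868 : act 7 n108549 = n108462 := d4_2 (iv7 F79392) D108549 (iv2 D108462)
theorem F167869 : act 1 n108549 = n108460 := d15_0 (iv0 D108460) (iv7 F79392) D108549
theorem F167870 : act 1 n108548 = n108462 := d15_1 D108548 (iv7 F167868) (iv2 D108549)
theorem F167871 : act 1 n108461 = n108549 := d15_1 D108461 F167868 (iv2 D108462)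
def n108550 : Q := act 5 n50124
theorem D108550 : act 5 n50124 = n108550 := rfl
theorem F167872 : act 3 n108550 = n50125 := d6_1 D108550 (iv5 D50125) D50124
theorem F167873 : act 7 n108550 = n108463 := d13_2 (iv7 F79392) D108550 (iv5 D108463)
def n108551 : Q := act 6 n50124
theorem D108551 : act 6 n50124 = n108551 := rfl
theorem F167874 : act 3 n108551 = n50126 := d7_1 D108551 (iv6 D50126) D50124
theorem F167875 : act 4 n108551 = n64197 := d10_1 D108551 (iv6 D64197) (iv4 F79391)
def n108552 : Q := act 6 n50125
theorem D108552 : act 6 n50125 = n108552 := rfl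
theorem F167876 : act 2 n108552 = n108457 := d3_1 D108552 (iv6 D108457) (iv2 F79393)
def n108553 : Q := act 5 n50126
theorem D108553 : act 5 n50126 = n108553 := rfl
def n108554 : Q := act 7 n50126
theorem D108554 : act 7 n50126 = n108554 := rfl
theorem F167878 : act 2 n108554 = n108459 := d4_1 D108554 (iv7 D108459) (iv2 F79395)
theorem F167879 : act 6 n108554 = n108468 := d14_1 D108554 (iv7 D108468) (iv6 D50084) (iv7 F38372) D50126
theorem F167880 : act 1 n108451 = n108554 := d15_1 (iv0 F167688) (iv7 D108554) F79395
theorem F167881 : act 1 n108554 = n66581 := d15_1 F167880 (iv7 F111781) (iv2 F167686)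
def n108555 : Q := act 0 n50127
theorem D108555 : act 0 n50127 = n108555 := rfl
theorem F167882 : act 1 n108454 = n108555 := d15_0 (iv0 D108555) F79397 D108454
def n108556 : Q := act 1 n50127
theorem D108556 : act 1 n50127 = n108556 := rfl
def n108557 : Q := act 2 n50127
theorem D108557 : act 2 n50127 = n108557 := rfl
theorem F167883 : act 3 n108557 = n108462 := d0_2 D50127 D108557 (iv2 D108462) (iv3 D50082) (iv2 F38370)
theorem F167884 : act 4 n108557 = n108109 := d1_2 (iv4 F79396) D108557 (iv2 D108109)
theorem F167885 : act 7 n108557 = n108454 := d4_2 (iv7 F79397) D108557 (iv2 D108454)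
theorem F167886 : act 1 n108557 = n108452 := d15_0 (iv0 D108452) (iv7 F79397) D108557
theorem F167887 : act 1 n108556 = n108454 := d15_1 D108556 (iv7 F167885) (iv2 D108557)
theorem F167888 : act 1 n108453 = n108557 := d15_1 D108453 F167885 (iv2 D108454)
def n108558 : Q := act 5 n50127
theorem D108558 : act 5 n50127 = n108558 := rfl
theorem F167889 : act 3 n108558 = n50128 := d6_1 D108558 (iv5 D50128) D50127
theorem F167890 : act 7 n108558 = n108455 := d13_2 (iv7 F79397) D108558 (iv5 D108455)
def n108559 : Q := act 6 n50127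
theorem D108559 : act 6 n50127 = n108559 := rfl
theorem F167891 : act 3 n108559 = n50129 := d7_1 D108559 (iv6 D50129) D50127
theorem F167892 : act 4 n108559 = n108111 := d10_1 D108559 (iv6 D108111) (iv4 F79396)
def n108560 : Q := act 6 n50128
theorem D108560 : act 6 n50128 = n108560 := rfl
def n108561 : Q := act 5 n50129
theorem D108561 : act 5 n50129 = n108561 := rfl
theorem F167894 : act 2 n108561 = n108467 := d2_1 D108561 (iv5 D108467) (iv2 F79400)
def n108562 : Q := act 7 n50129
theorem D108562 : act 7 n50129 = n108562 := rfl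
theorem F167895 : act 2 n108562 = n108468 := d4_1 D108562 (iv7 D108468) (iv2 F79400)
theorem F167896 : act 4 n108562 = n108106 := d11_1 D108562 (iv7 D108106) (iv4 F79401)
theorem F167897 : act 6 n108562 = n108459 := d14_1 D108562 (iv7 D108459) (iv6 D50081) F38369 D50129
theorem F167898 : act 1 n65170 = n108562 := d15_1 (iv0 F101951) (iv7 D108562) F79400
theorem F167899 : act 1 n108562 = n65166 := d15_1 F167898 (iv7 F167859) F167857
def n108563 : Q := act 0 n50130
theorem D108563 : act 0 n50130 = n108563 := rfl
theorem F167900 : act 2 n50134 = n108563 := d15_3 (iv0 D108563) (iv0 D50130) D50134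
theorem F167901 : act 3 n108563 = n108469 := d0_2 (iv3 F79404) F167900 (iv2 F167702) F79283 (iv2 F38361)
theorem F167902 : act 7 n108563 = n50132 := d4_2 D50134 F167900 (iv2 D50132)
theorem F167903 : act 1 n50131 = n108563 := d15_1 D50131 F167902 (iv2 D50132)
def n108564 : Q := act 2 n50130
theorem D108564 : act 2 n50130 = n108564 := rfl
theorem F167904 : act 7 n50131 = n108564 := d15_2 (iv0 D50130) D50131 (iv2 D108564)
def n108565 : Q := act 3 n50130
theorem D108565 : act 3 n50130 = n108565 := rfl
def n108566 : Q := act 4 n50130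
theorem D108566 : act 4 n50130 = n108566 := rfl
def n108567 : Q := act 5 n50130
theorem D108567 : act 5 n50130 = n108567 := rfl
def n108568 : Q := act 6 n50130
theorem D108568 : act 6 n50130 = n108568 := rfl
def n108569 : Q := act 7 n50130
theorem D108569 : act 7 n50130 = n108569 := rfl
theorem F167905 : act 2 n108569 = n50131 := d4_1 D108569 F167904 (iv2 D108564)
def n108570 : Q := act 3 n50131
theorem D108570 : act 3 n50131 = n108570 := rfl
def n108571 : Q := act 4 n50131
theorem D108571 : act 4 n50131 = n108571 := rfl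
theorem F167906 : act 3 n107729 = n108571 := d20_5 (iv4 D49709) (iv1 F38012) (iv4 F38034) (iv3 F78623) (iv1 F166364) (iv4 D108571) (iv1 D50131) (iv4 F79315) (iv3 D50101) (iv1 F78545)
def n108572 : Q := act 5 n50131
theorem D108572 : act 5 n50131 = n108572 := rfl
def n108573 : Q := act 6 n50131
theorem D108573 : act 6 n50131 = n108573 := rfl
def n108574 : Q := act 0 n50132
theorem D108574 : act 0 n50132 = n108574 := rfl
theorem F167907 : act 1 n50134 = n108574 := d15_0 (iv0 D108574) (iv7 F167902) (iv2 F167900)
theorem F167908 : act 4 n107721 = n108574 := d20_6 (iv4 D24261) (iv1 D11420) D11421 D24265 D49762 D107721 (iv1 F167907) (iv4 F166294) (iv3 D107667) (iv1 F78613)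
def n108575 : Q := act 1 n50132
theorem D108575 : act 1 n50132 = n108575 := rfl
theorem F167909 : act 1 n108575 = n50134 := d15_1 D108575 (iv7 D50134) D50132
def n108576 : Q := act 5 n50132
theorem D108576 : act 5 n50132 = n108576 := rfl
theorem F167910 : act 2 n108576 = n50133 := d2_1 D108576 (iv5 D50133) D50132
theorem F167911 : act 3 n108576 = n108482 := d6_1 D108576 (iv5 D108482) (iv3 F79402)
def n108577 : Q := act 0 n50133
theorem D108577 : act 0 n50133 = n108577 := rfl
def n108578 : Q := act 1 n50133
theorem D108578 : act 1 n50133 = n108578 := rfl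
def n108579 : Q := act 4 n50133
theorem D108579 : act 4 n50133 = n108579 := rfl
def n108580 : Q := act 6 n50133
theorem D108580 : act 6 n50133 = n108580 := rfl
theorem F167912 : act 3 n108580 = n50138 := d7_1 D108580 (iv6 D50138) (iv3 F79403)
def n108581 : Q := act 7 n50133
theorem D108581 : act 7 n50133 = n108581 := rfl
theorem F167913 : act 3 n108581 = n50139 := d8_1 D108581 (iv7 D50139) (iv3 F79403)
theorem F167914 : act 5 n108581 = n50134 := d13_1 D108581 (iv7 D50134) D50133
def n108582 : Q := act 6 n50134
theorem D108582 : act 6 n50134 = n108582 := rfl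
theorem F167915 : act 3 n108582 = n50140 := d7_1 D108582 (iv6 D50140) (iv3 F79404)
theorem F167916 : act 7 n108582 = n65864 := d14_2 D50134 D108582 (iv6 D65864) F49242 F48058
def n108583 : Q := act 3 n50135
theorem D108583 : act 3 n50135 = n108583 := rfl
theorem F167917 : act 7 n108583 = n108491 := d8_2 (iv7 F79410) D108583 (iv3 D108491)
def n108584 : Q := act 6 n50135
theorem D108584 : act 6 n50135 = n108584 := rfl
theorem F167918 : act 2 n108584 = n108490 := d3_1 D108584 (iv6 D108490) F79409
def n108585 : Q := act 3 n50136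
theorem D108585 : act 3 n50136 = n108585 := rfl
theorem F167919 : act 5 n108585 = n108072 := d6_2 (iv5 F79406) D108585 (iv3 D108072)
theorem F167920 : act 7 n108585 = n108489 := d8_2 F79408 D108585 (iv3 D108489)
def n108586 : Q := act 6 n50136
theorem D108586 : act 6 n50136 = n108586 := rfl
theorem F167921 : act 2 n108586 = n108492 := d3_1 D108586 (iv6 D108492) F79407
def n108587 : Q := act 3 n50137
theorem D108587 : act 3 n50137 = n108587 := rfl
theorem F167922 : act 5 n108587 = n63436 := d6_2 (iv5 F79413) D108587 (iv3 D63436)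
theorem F167923 : act 7 n108587 = n108426 := d8_2 (iv7 F79416) D108587 F167638
def n108588 : Q := act 6 n50137
theorem D108588 : act 6 n50137 = n108588 := rfl
theorem F167924 : act 2 n108588 = n108494 := d3_1 D108588 (iv6 D108494) (iv2 F79412)
theorem F167925 : act 4 n108588 = n50138 := d10_1 D108588 (iv6 D50138) D50137
def n108589 : Q := act 0 n50138
theorem D108589 : act 0 n50138 = n108589 := rfl
def n108590 : Q := act 1 n50138
theorem D108590 : act 1 n50138 = n108590 := rfl
theorem F167926 : act 1 n108590 = n108497 := d15_1 D108590 (iv7 D108497) (iv2 F79417)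
def n108591 : Q := act 7 n50138
theorem D108591 : act 7 n50138 = n108591 := rfl
theorem F167927 : act 2 n108591 = n108497 := d4_1 D108591 (iv7 D108497) (iv2 F79417)
theorem F167928 : act 1 n108497 = n108589 := d15_0 (iv0 D108589) D108591 F167927
theorem F167929 : act 1 n108496 = n108591 := d15_1 D108496 (iv7 D108591) F79417
theorem F167930 : act 1 n108591 = n108495 := d15_0 (iv0 D108495) D108497 (iv2 F167927)
def n108592 : Q := act 6 n50139
theorem D108592 : act 6 n50139 = n108592 := rfl
theorem F167931 : act 2 n108592 = n108498 := d3_1 D108592 (iv6 D108498) (iv2 F79418)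
theorem F167932 : act 4 n108592 = n108427 := d10_1 D108592 (iv6 D108427) (iv4 F79419)
def n108593 : Q := act 5 n50140
theorem D108593 : act 5 n50140 = n108593 := rfl
theorem F167933 : act 2 n108593 = n108499 := d2_1 D108593 (iv5 D108499) (iv2 F79423)
theorem F167934 : act 7 n108593 = n65867 := d13_2 (iv7 F79425) D108593 (iv5 D65867)
def n108594 : Q := act 3 n50141
theorem D108594 : act 3 n50141 = n108594 := rfl
theorem F167935 : act 4 n108594 = n50146 := d5_2 D50141 D108594 (iv3 D50146) (iv4 D24459) (iv3 F38377)
theorem F167936 : act 7 n108594 = n50251 := d8_2 (iv7 F79427) D108594 (iv3 D50251)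
def n108595 : Q := act 6 n50141
theorem D108595 : act 6 n50141 = n108595 := rfl
theorem F167937 : act 2 n108595 = n52226 := d3_1 D108595 (iv6 D52226) (iv2 F79426)
theorem F167938 : act 4 n108595 = n50142 := d10_1 D108595 (iv6 D50142) D50141
def n108596 : Q := act 0 n50142
theorem D108596 : act 0 n50142 = n108596 := rfl
theorem F167939 : act 5 n108596 = n63704 := d21_0 (iv1 D63704) F48314 (iv6 D25416) F26000 F25999 (iv5 D12047) F18863 D24454 D50142 D108596
def n108597 : Q := act 1 n50142
theorem D108597 : act 1 n50142 = n108597 := rfl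
theorem F167940 : act 1 n108597 = n52230 := d15_1 D108597 (iv7 D52230) (iv2 F79430)
theorem F167941 : act 5 n63703 = n108597 := d21_0 (iv1 D108597) F79432 (iv6 D29835) F38384 F11106 (iv5 D6795) D6793 D14270 D30066 D63703
theorem E16702 : n63703 = n62517 := ((c21_6 (iv5 D6849) D6847 D14335 D30206 (iv1 F165670) (iv6 F97484) F167941 (iv1 D108597) F79432 (iv6 D29835) F38384)).symm
theorem F167942 : act 0 n62517 = n63689 := (sb E16702 (iv1 F99059))
theorem F167943 : act 1 n62517 = n30066 := (sb E16702 (iv0 D63703))
theorem F167944 : act 5 n62517 = n108597 := (sb E16702 F167941)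
theorem F167945 : act 2 n108597 = n52228 := d2_1 F167944 (iv5 F99026) (iv2 F164138)
theorem F167946 : act 3 n108597 = n50420 := d6_1 F167944 (iv5 F79780) D62517
theorem F167947 : act 7 n108597 = n50462 := d13_2 F163880 F167944 F163882
theorem E16703 : n108596 = n105194 := ((c15_4 (iv0 D108596) D108597 F167947 F165596)).symm
theorem F167948 : act 1 n105194 = n50142 := (sb E16703 (iv0 D108596))
theorem F167949 : act 5 n105194 = n63704 := (sb E16703 F167939)
theorem F167950 : act 2 n63704 = n63688 := d2_1 F167949 (iv5 F163882) F165596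
theorem F167951 : act 3 n63704 = n62981 := d6_1 F167949 (iv5 F98282) D105194
theorem F167952 : act 7 n63704 = n63687 := d13_2 F165607 F167949 F99026
theorem F167953 : act 4 n108597 = n50924 := d20_6 D24791 F79861 F38609 (iv3 F38603) (iv1 F79779) (iv3 F167946) (iv1 D50924) F38756 F19066 D11735
theorem F167954 : act 1 n52230 = n105194 := d15_1 F167940 (iv7 F165607) (iv2 F167945)
def n108598 : Q := act 7 n50142
theorem D108598 : act 7 n50142 = n108598 := rfl
theorem F167955 : act 2 n108598 = n52230 := d4_1 D108598 (iv7 D52230) (iv2 F79430)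
theorem F167956 : act 3 n108598 = n50151 := d8_1 D108598 (iv7 D50151) (iv3 F79431)
theorem F167957 : act 5 n108598 = n63080 := d13_1 D108598 (iv7 D63080) (iv5 F79432)
theorem F167958 : act 6 n108598 = n50256 := d14_1 D108598 (iv7 D50256) (iv6 D24508) (iv7 F38378) D50142
theorem F167959 : act 1 n52228 = n108598 := d15_1 D52228 (iv7 D108598) F79430
theorem F167960 : act 1 n108598 = n50462 := d15_1 F167959 (iv7 F167947) F167945
def n108599 : Q := act 3 n50143
theorem D108599 : act 3 n50143 = n108599 := rfl
theorem F167961 : act 4 n108599 = n59444 := d5_2 D50143 D108599 (iv3 D59444) (iv4 D28230) (iv3 F38388)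
theorem F167962 : act 7 n108599 = n50259 := d8_2 (iv7 F79434) D108599 (iv3 D50259)
theorem F167963 : act 0 n108599 = n66057 := d20_4 D30859 F49320 D50143 D108599 (iv3 D66057) (iv4 D30897) (iv1 D14629) (iv4 F24299) (iv3 D14619) D14617
def n108600 : Q := act 6 n50143
theorem D108600 : act 6 n50143 = n108600 := rfl
theorem F167964 : act 2 n108600 = n50197 := d3_1 D108600 (iv6 D50197) (iv2 F79433)
theorem F167965 : act 4 n108600 = n50144 := d10_1 D108600 (iv6 D50144) D50143
theorem F167966 : act 0 n53398 = n108600 := d20_1 D53398 F167965 F79438 D59446 F111437 F111417 (iv1 F101099) F101095 (iv3 F78085) (iv1 F78088)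
theorem F167967 : act 0 n74527 = n51276 := d18_2 (iv1 F80929) D74527 F80882 F80599 (iv4 F167965) (iv0 F167966) (iv4 D53398) F78088 (iv5 F80927)
theorem F167968 : act 0 n108600 = n53395 := d20_7 (iv4 F78219) (iv1 F111357) (iv4 D49643) D49642 F111429 (iv3 F79438) (iv4 F167965) (iv4 D53395) F111181 (iv1 F45374)
def n108601 : Q := act 1 n50144
theorem D108601 : act 1 n50144 = n108601 := rfl
theorem F167969 : act 1 n108601 = n50200 := d15_1 D108601 (iv7 D50200) (iv2 F79437)
theorem F167970 : act 7 n108601 = n50198 := d15_2 (iv0 F111420) D108601 F111367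
theorem F167971 : act 3 n59440 = n108601 := d20_3 (iv4 F165013) (iv1 F165015) F165010 (iv1 D108601) F79438 (iv4 F93834) F111425 (iv4 D30324) (iv3 F111207) (iv1 F78198)
theorem F167972 : act 5 n51104 = n108601 := d21_0 (iv1 D108601) (iv5 F80599) (iv6 D51094) (iv1 D24864) F19166 (iv5 D5522) D5520 D11793 D24871 D51104
theorem F167973 : act 2 n108601 = n50199 := d2_1 F167972 F111365 (iv2 F111416)
theorem F167974 : act 4 n108601 = n106868 := d18_5 (iv1 D14551) (iv4 F24191) D30697 (iv4 F111417) F167972 F164697 F84249 F78087 (iv5 D30708)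
def n108602 : Q := act 7 n50144
theorem D108602 : act 7 n50144 = n108602 := rfl
theorem F167975 : act 2 n108602 = n50200 := d4_1 D108602 (iv7 D50200) (iv2 F79437)
theorem F167976 : act 3 n108602 = n59449 := d8_1 D108602 (iv7 D59449) (iv3 F79438)
theorem F167977 : act 6 n108602 = n50264 := d14_1 D108602 (iv7 D50264) (iv6 D24513) (iv7 F38389) D50144
theorem F167978 : act 1 n50199 = n108602 := d15_1 D50199 (iv7 D108602) F79437
theorem F167979 : act 1 n108602 = n50198 := d15_1 F167978 (iv7 F167970) F167973
def n108603 : Q := act 3 n50145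
theorem D108603 : act 3 n50145 = n108603 := rfl
theorem F167980 : act 7 n108603 = n50201 := d8_2 (iv7 F79440) D108603 (iv3 D50201)
def n108604 : Q := act 0 n50146
theorem D108604 : act 0 n50146 = n108604 := rfl
theorem F167981 : act 1 n50268 = n108604 := d15_0 (iv0 D108604) F79443 D50268
def n108605 : Q := act 1 n50146
theorem D108605 : act 1 n50146 = n108605 := rfl
def n108606 : Q := act 2 n50146
theorem D108606 : act 2 n50146 = n108606 := rfl
theorem F167982 : act 3 n108606 = n50218 := d0_2 D50146 D108606 (iv2 D50218) (iv3 D24492) (iv2 F38398)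
theorem F167983 : act 7 n108606 = n50268 := d4_2 (iv7 F79443) D108606 (iv2 D50268)
theorem F167984 : act 1 n108606 = n50266 := d15_0 (iv0 D50266) (iv7 F79443) D108606
theorem F167985 : act 1 n108605 = n50268 := d15_1 D108605 (iv7 F167983) (iv2 D108606)
theorem F167986 : act 1 n50267 = n108606 := d15_1 D50267 F167983 (iv2 D50268)
def n108607 : Q := act 5 n50146
theorem D108607 : act 5 n50146 = n108607 := rfl
theorem F167987 : act 3 n108607 = n50147 := d6_1 D108607 (iv5 D50147) D50146
theorem F167988 : act 7 n108607 = n50269 := d13_2 (iv7 F79443) D108607 (iv5 D50269)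
def n108608 : Q := act 6 n50146
theorem D108608 : act 6 n50146 = n108608 := rfl
theorem F167989 : act 3 n108608 = n50148 := d7_1 D108608 (iv6 D50148) D50146
def n108609 : Q := act 6 n50147
theorem D108609 : act 6 n50147 = n108609 := rfl
theorem F167990 : act 2 n108609 = n50223 := d3_1 D108609 (iv6 D50223) (iv2 F79444)
def n108610 : Q := act 0 n50148
theorem D108610 : act 0 n50148 = n108610 := rfl
def n108611 : Q := act 1 n50148
theorem D108611 : act 1 n50148 = n108611 := rfl
theorem F167991 : act 1 n108611 = n50227 := d15_1 D108611 (iv7 D50227) (iv2 F79446)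
theorem F167992 : act 4 n106860 = n108611 := d20_0 (iv1 D108611) F79447 (iv3 F79431) (iv1 F167948) (iv3 D105194) D105195 F165601 F82775 (iv3 F82772) (iv1 F164676)
theorem F167993 : act 4 n63402 = n60511 := d18_3 F164106 (iv4 F48156) D63402 F164677 F167992 F167991 F79578 F164118 (iv5 F47436)
theorem E16704 : n106860 = n51962 := (c20_3 (iv4 F79578) (iv1 F167991) (iv4 F167992) (iv3 D51962) (iv1 D25209) F19741 (iv4 F19755) (iv1 F80093) (iv4 D25077) D25076 (iv1 F164118))
theorem F167994 : act 0 n51962 = n49374 := (sb E16704 (iv1 D106860))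
theorem F167995 : act 1 n51962 = n52425 := (sb E16704 F164676)
theorem F167996 : act 4 n51962 = n108611 := (sb E16704 F167992)
theorem F167997 : act 5 n51962 = n60511 := (sb E16704 (iv5 F164677))
theorem F167998 : act 3 n60511 = n51964 := d6_1 F167997 (iv5 D51964) D51962
theorem F167999 : act 3 n50934 = n61842 := d7_3 F164678 F167998 (iv6 F82065)
theorem F168000 : act 5 n61842 = n50932 := d6_2 D50934 F167999 (iv3 D50932)
theorem F168001 : act 4 n63009 = n61842 := d20_2 (iv4 F47969) D63009 (iv3 F167999) (iv1 F93614) F46450 (iv4 F46480) (iv1 F80102) (iv4 D29054) D29053 F164125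
theorem F168002 : act 6 n63402 = n63009 := d10_0 F168001 F164678 (iv4 F167993)
theorem F168003 : act 0 n50932 = n51099 := d21_1 F168000 F80613 (iv6 D50108) (iv1 D24439) (iv6 F19146) (iv5 D11783) (iv1 F19514) D13944 D29305 D61842
theorem F168004 : act 1 n50932 = n58796 := d15_1 (iv0 F168003) (iv7 D58796) (iv2 F80611)
theorem F168005 : act 0 n51963 = n105181 := d20_7 D105195 F165601 F82775 (iv3 F82772) (iv1 F167995) (iv3 D51962) D51963 F161102 F76495 D48641
theorem F168006 : act 1 n59355 = n62267 := d18_6 (iv1 F81984) D51963 F168005 F161102 F76496 (iv4 F93631) (iv4 D62267) F93701 F93699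
theorem F168007 : act 0 n106596 = n62266 := d20_4 (iv4 F165608) (iv1 F164194) F164190 (iv3 F164170) (iv3 D62266) D62267 (iv1 F168006) F93631 F48299 D49361
theorem F168008 : act 4 n62266 = n63088 := d18_1 F168007 (iv1 D63088) F48001 (iv5 F38401) (iv4 F79447) D108611 (iv4 F167996) F167995 (iv5 F164172)
theorem E16705 : n106827 = n63078 := ((c20_5 F168008 (iv1 D63088) F48001 (iv3 F48000) D63078 (iv3 D106827) (iv4 F165608) (iv1 F164194) F164190 (iv3 F164170) F168007)).symm
theorem F168009 : act 3 n63078 = n49361 := (sb E16705 (iv3 D106827))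
theorem F168010 : act 0 n59028 = n62944 := d21_1 F97078 F98199 (iv6 D50058) (iv1 F47985) (iv6 F98347) (iv5 D63030) D63029 F101619 (iv6 F164173) F168007
theorem F168011 : act 1 n51084 = n62266 := d15_0 (iv0 F168007) (iv7 D106596) (iv2 F80574)
theorem F168012 : act 6 n59134 = n59028 := d21_5 F37740 (iv1 F38446) F24597 D28092 D59134 (iv5 F97078) (iv1 F168011) F80575 (iv6 D49374) (iv1 F37739)
theorem F168013 : act 3 n58975 = n59134 := d7_3 F168012 (iv3 D59028) (iv6 F93427)
theorem F168014 : act 4 n50300 = n59134 := d20_2 (iv4 F38516) D50300 (iv3 F168013) (iv1 F93182) F45302 (iv4 F39602) (iv1 F48932) (iv4 D24670) F163935 (iv1 D24536)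
theorem F168015 : act 6 n60582 = n62266 := d21_5 (iv5 D29817) (iv1 F45194) F45192 D28770 D60582 F97078 F168010 F98199 (iv6 D50058) (iv1 F47985)
theorem F168016 : act 3 n62178 = n60582 := d7_3 F168015 (iv3 D62266) (iv6 F96935)
theorem F168017 : act 4 n63446 = n60582 := d20_2 (iv4 F48180) D63446 (iv3 F168016) F96936 F47186 (iv4 F47202) (iv1 F47205) F48979 F163949 (iv1 D29975)
theorem F168018 : act 6 n63088 = n63446 := d10_0 F168017 F168015 F168008
theorem F168019 : act 3 n106826 = n53145 := d0_2 F168009 D106826 F99776 D63577 F163872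
theorem F168020 : act 3 n52259 = n51452 := d6_3 (iv5 F99061) F168009 (iv5 F82633)
theorem E16706 : n59033 = n13364 := (c20_11 (iv4 F45270) D58899 (iv4 F165609) F168020 (iv1 F82726) F82723 (iv4 F82730) (iv1 F163887) (iv4 D59160) D59159 F100191)
theorem E16707 : n28052 = n28002 := (((D28002).symm.trans (sb E16706 (iv1 D59033)))).symm
theorem E16708 : n59159 = n28003 := (((D28003).symm.trans (sb E16706 (iv0 F100191)))).symm
theorem E16710 : n59034 = n58782 := ((((iv2 F103381)).symm.trans (sb E16707 D59034))).symm
theorem E16711 : n58904 = n13382 := ((D58904).symm.trans (sb E16707 (iv3 D28052)))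
theorem E16712 : n59035 = n58905 := (((D58905).symm.trans (sb E16707 D59035))).symm
theorem E16713 : n29474 = n29342 := (((F77844).symm.trans (sb E16707 (iv5 F47258)))).symm
theorem E16714 : n59036 = n58906 := (((D58906).symm.trans (sb E16707 D59036))).symm
theorem E16715 : n58783 = n28145 := (((iv7 F103366)).symm.trans (sb E16707 (iv7 F45509)))
theorem E16716 : n58908 = n28101 := ((D58908).symm.trans (sb E16708 (iv3 D59159)))
theorem E16717 : n60626 = n29343 := ((((iv5 F78376)).symm.trans (sb E16708 (iv5 F95234)))).symm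
theorem E16719 : n59272 = n28005 := ((((iv1 F92929)).symm.trans (sb E16710 (iv1 F93500)))).symm
theorem E16720 : n59271 = n27950 := ((((iv0 D58782)).symm.trans (sb E16710 F93495))).symm
theorem F168021 : act 3 n58782 = n49077 := (sb E16710 (iv3 F100256))
theorem E16721 : n62293 = n49262 := (((F92922).symm.trans (sb E16710 (iv5 F97124)))).symm
theorem F168022 : act 3 n13382 = n28002 := (sb E16711 (iv3 D58904))
theorem E16722 : n61942 = n14013 := ((((iv5 F23365)).symm.trans (sb E16711 (iv5 F96539)))).symm
theorem F168023 : act 7 n58905 = n59274 := (sb E16712 (iv7 F93503))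
theorem E16725 : n62294 = n61943 := (((D61943).symm.trans (sb E16713 D62294))).symm
theorem E16726 : n62295 = n61944 := (((D61944).symm.trans (sb E16713 D62295))).symm
theorem E16727 : n49263 = n28932 := (((iv7 F103368)).symm.trans (sb E16713 F47259))
theorem F168024 : act 3 n58906 = n28054 := (sb E16714 F93228)
theorem E16728 : n31428 = n31364 := (((F93120).symm.trans (sb E16714 (iv5 F93229)))).symm
theorem E16729 : n59245 = n59146 := ((((iv7 F93324)).symm.trans (sb E16714 (iv7 F93459)))).symm
theorem F168025 : act 2 n28145 = n28003 := (sb E16715 F103365)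
theorem E16730 : n49073 = n28035 := (((F45508).symm.trans (sb E16715 F92925))).symm
theorem F168026 : act 7 n28145 = n28002 := (sb E16715 F103366)
theorem F168027 : act 3 n28101 = n28003 := (sb E16716 (iv3 D58908))
theorem E16731 : n61946 = n28783 := (((F78434).symm.trans (sb E16716 (iv5 F96545)))).symm
theorem E16732 : n59139 = n27993 := ((((iv6 F78435)).symm.trans (sb E16716 (iv6 F93320)))).symm
theorem E16733 : n61920 = n28775 := ((((iv6 F78377)).symm.trans (sb E16717 (iv6 F96524)))).symm
theorem F168028 : act 0 n28005 = n28145 := (sb E16719 (iv1 D59272))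
theorem F168029 : act 1 n27950 = n28145 := (sb E16720 (iv0 D59271))
theorem E16737 : n61040 = n29344 := ((((iv1 F77841)).symm.trans (sb E16721 (iv1 F97128)))).symm
theorem E16738 : n61039 = n24041 := ((((iv0 D49262)).symm.trans (sb E16721 F97126))).symm
theorem E16739 : n106607 = n58833 := ((D106607).symm.trans (sb E16721 (iv3 F100251)))
theorem F168030 : act 3 n14013 = n29342 := (sb E16722 (iv3 D61942))
theorem E16741 : n106611 = n61042 := (((iv7 F164206)).symm.trans (sb E16725 F97129))
theorem F168031 : act 3 n61944 = n29476 := (sb E16726 F97130)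
theorem E16742 : n67504 = n60888 := (((iv5 F103388)).symm.trans (sb E16726 F97131))
theorem E16743 : n60969 = n60607 := (((F96544).symm.trans (sb E16726 F97132))).symm
theorem F168032 : act 2 n28932 = n29343 := (sb E16727 F103367)
theorem E16744 : n60486 = n29451 := ((((iv6 F47207)).symm.trans (sb E16727 (iv6 F95070)))).symm
theorem F168033 : act 7 n28932 = n29342 := (sb E16727 F103368)
theorem E16745 : n67665 = n14787 := ((((iv1 D31364)).symm.trans (sb E16728 D67665))).symm
theorem E16747 : n67667 = n53916 := (((F93327).symm.trans (sb E16728 D67667))).symm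
theorem E16748 : n67502 = n14813 := ((D67502).symm.trans (sb E16728 (iv3 D31428)))
theorem E16750 : n53915 = n52082 := (((iv7 F93326)).symm.trans (sb E16728 (iv7 F82315)))
theorem F168034 : act 3 n59146 = n28133 := (sb E16729 F93458)
theorem E16751 : n28130 = n28094 := ((((iv6 D59146)).symm.trans (sb E16729 (iv6 D59245)))).symm
theorem E16752 : n58996 = n28096 := ((D58996).symm.trans (sb E16730 (iv1 F77452)))
theorem E16753 : n58997 = n23941 := ((D58997).symm.trans (sb E16730 (iv0 D49073)))
theorem F168035 : act 2 n28035 = n28093 := (sb E16730 F103363)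
theorem E16755 : n58999 = n52318 := ((D58999).symm.trans (sb E16730 (iv4 F165830)))
theorem E16756 : n106198 = n59000 := (((D59000).symm.trans (sb E16730 D106198))).symm
theorem F168036 : act 3 n28783 = n29343 := (sb E16731 (iv3 D61946))
theorem E16757 : n60600 = n29335 := ((((iv6 F78436)).symm.trans (sb E16731 F96546))).symm
theorem F168037 : act 3 n27993 = n28093 := (sb E16732 (iv3 D59139))
theorem E16758 : n106199 = n58779 := ((((iv7 F100262)).symm.trans (sb E16732 (iv7 F163196)))).symm
theorem E16761 : n60966 = n60487 := ((((iv7 F103372)).symm.trans (sb E16733 F100210))).symm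
theorem F168038 : act 0 n29344 = n28932 := (sb E16737 (iv1 D61040))
theorem F168039 : act 1 n24041 = n28932 := (sb E16738 (iv0 D61039))
theorem F168040 : act 3 n58833 = n49262 := (sb E16739 (iv3 D106607))
theorem F168041 : act 0 n61042 = n49270 := (sb E16741 F164207)
theorem F168042 : act 1 n61042 = n61968 := (sb E16741 F164208)
theorem F168043 : act 2 n61042 = n61947 := (sb E16741 F164205)
theorem F168044 : act 7 n61042 = n61943 := (sb E16741 F164206)
theorem F168045 : act 0 n60888 = n49249 := (sb E16742 F103391)
theorem F168046 : act 1 n60888 = n61899 := (sb E16742 (iv0 F103390))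
theorem F168047 : act 2 n60888 = n61897 := (sb E16742 F103392)
theorem F168048 : act 5 n60888 = n61944 := (sb E16742 F103388)
theorem F168049 : act 6 n60888 = n31364 := (sb E16742 (iv6 D67504))
theorem E16762 : n62167 = n61896 := (((iv7 F96911)).symm.trans (sb E16742 (iv7 F103389)))
theorem F168050 : act 3 n60607 = n28909 := (sb E16743 F95507)
theorem E16763 : n28906 = n28776 := ((((iv6 D60607)).symm.trans (sb E16743 (iv6 D60969)))).symm
theorem E16764 : n62234 = n28777 := ((D62234).symm.trans (sb E16744 F95071))
theorem E16765 : n62235 = n28726 := ((D62235).symm.trans (sb E16744 (iv0 D60486)))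
theorem F168051 : act 2 n29451 = n28775 := (sb E16744 F103369)
theorem E16766 : n107434 = n31363 := (((D31363).symm.trans (sb E16745 (iv1 F165733)))).symm
theorem F168052 : act 3 n53916 = n31723 := (sb E16747 F103684)
theorem F168053 : act 3 n14813 = n31364 := (sb E16748 (iv3 D67502))
theorem F168054 : act 0 n52082 = n31365 := (sb E16750 (iv1 F85032))
theorem F168055 : act 1 n52082 = n26071 := (sb E16750 (iv0 D53915))
theorem F168056 : act 5 n52082 = n59146 := (sb E16750 (iv5 F93325))
theorem E16767 : n67468 = n59799 := ((((iv6 F94142)).symm.trans (sb E16750 (iv6 F103322)))).symm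
theorem F168057 : act 7 n52082 = n31364 := (sb E16750 F93326)
theorem E16768 : n59143 = n13426 := ((D59143).symm.trans (sb E16751 (iv3 D28130)))
theorem E16770 : n59244 = n59145 := (((D59145).symm.trans (sb E16751 D59244))).symm
theorem F168058 : act 7 n28094 = n28035 := (sb E16751 F45473)
theorem F168059 : act 1 n28096 = n28035 := (sb E16752 (iv0 D58996))
theorem F168060 : act 0 n23941 = n28035 := (sb E16753 (iv1 D58997))
theorem F168061 : act 4 n52318 = n28035 := (sb E16755 (iv4 D58999))
theorem F168062 : act 6 n52318 = n59274 := (sb E16755 (iv6 F93502))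
theorem F168063 : act 0 n59000 = n59672 := (sb E16756 F163195)
theorem F168064 : act 1 n59000 = n108227 := (sb E16756 (iv0 F167348))
theorem F168065 : act 2 n59000 = n59141 := (sb E16756 F163193)
theorem F168066 : act 3 n29335 = n28775 := (sb E16757 (iv3 D60600))
theorem F168067 : act 3 n58779 = n49074 := (sb E16758 (iv3 D106199))
theorem F168068 : act 3 n60487 = n49256 := (sb E16761 (iv3 F100244))
theorem F168069 : act 3 n61896 = n29428 := (sb E16762 (iv3 D62167))
theorem E16771 : n67832 = n67601 := (((F103481).symm.trans (sb E16762 (iv6 F103852)))).symm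
theorem F168070 : act 7 n61896 = n60888 := (sb E16762 F96911)
theorem E16772 : n60604 = n13773 := ((D60604).symm.trans (sb E16763 (iv3 D28906)))
theorem E16773 : n60967 = n60605 := (((D60605).symm.trans (sb E16763 D60967))).symm
theorem E16774 : n60968 = n60606 := (((D60606).symm.trans (sb E16763 D60968))).symm
theorem F168071 : act 7 n28776 = n29451 := (sb E16763 (iv7 F47208))
theorem F168072 : act 1 n28777 = n29451 := (sb E16764 (iv0 D62234))
theorem F168073 : act 0 n28726 = n29451 := (sb E16765 (iv1 D62235))
theorem F168074 : act 2 n31363 = n52082 := (sb E16766 F165730)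
theorem E16775 : n67498 = n49622 := ((D67498).symm.trans (sb E16766 (iv3 D107434)))
theorem F168075 : act 0 n59799 = n67484 := (sb E16767 (iv1 F103479))
theorem F168076 : act 1 n59799 = n67602 := (sb E16767 F103484)
theorem F168077 : act 2 n59799 = n67501 := (sb E16767 (iv2 F103383))
theorem E16776 : n31352 = n28355 := ((((iv5 D59799)).symm.trans (sb E16767 (iv5 D67468)))).symm
theorem F168078 : act 3 n13426 = n28094 := (sb E16768 (iv3 D59143))
theorem F168079 : act 3 n59145 = n28132 := (sb E16770 F93455)
theorem F168080 : act 7 n59145 = n59000 := (sb E16770 F93456)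
theorem F168081 : act 3 n67601 = n31502 := (sb E16771 (iv3 D67832))
theorem E16777 : n52109 = n48879 := ((F103476).symm.trans (sb E16771 F103851))
theorem F168082 : act 7 n67601 = n59799 := (sb E16771 F103853)
theorem F168083 : act 3 n13773 = n28776 := (sb E16772 (iv3 D60604))
theorem F168084 : act 7 n60605 = n62237 := (sb E16773 (iv7 F97025))
theorem F168085 : act 3 n60606 = n28908 := (sb E16774 F95505)
theorem F168086 : act 7 n60606 = n62238 := (sb E16774 (iv7 F97028))
theorem F168087 : act 3 n49622 = n31363 := (sb E16775 (iv3 D67498))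
theorem E16778 : n59795 = n14779 := ((D59795).symm.trans (sb E16776 (iv1 D31352)))
theorem E16779 : n59796 = n25327 := ((D59796).symm.trans (sb E16776 F49614))
theorem E16780 : n59797 = n52108 := ((D59797).symm.trans (sb E16776 (iv2 F103377)))
theorem F168088 : act 6 n28355 = n59145 := (sb E16776 (iv6 F93323))
theorem E16783 : n105741 = n25299 := ((D105741).symm.trans (sb E16777 (iv1 D52109)))
theorem E16784 : n105742 = n26066 := ((D105742).symm.trans (sb E16777 F82369))
theorem E16785 : n51250 = n31351 := ((F100224).symm.trans (sb E16777 F103375))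
theorem F168089 : act 5 n48879 = n67601 := (sb E16777 (iv5 F103476))
theorem F168090 : act 6 n48879 = n60606 := (sb E16777 (iv6 F95223))
theorem F168091 : act 1 n14779 = n28355 := (sb E16778 (iv0 D59795))
theorem F168092 : act 0 n25327 = n28355 := (sb E16779 (iv1 D59796))
theorem F168093 : act 2 n52108 = n28355 := (sb E16780 (iv2 D59797))
theorem F168094 : act 3 n52108 = n31714 := (sb E16780 F100222)
theorem F168095 : act 1 n25299 = n48879 := (sb E16783 (iv0 D105741))
theorem F168096 : act 0 n26066 = n48879 := (sb E16784 (iv1 D105742))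
theorem F168097 : act 2 n31351 = n48879 := (sb E16785 (iv2 F100224))
theorem E16786 : n67461 = n24924 := ((D67461).symm.trans (sb E16785 (iv3 D51250)))
theorem F168098 : act 3 n24924 = n31351 := (sb E16786 (iv3 D67461))
theorem F168099 : act 3 n67463 = n51252 := d6_3 (iv5 D51252) F168098 D67463
theorem F168100 : act 3 n67464 = n51253 := d7_3 (iv6 D51253) F168098 D67464
theorem F168101 : act 0 n74260 = n53366 := d20_7 (iv4 F37908) D49604 F163993 F168098 (iv1 F49613) (iv3 F82422) (iv4 F111146) (iv4 D53366) F165544 (iv1 D49185)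
theorem F168102 : act 4 n67458 = n64944 := d20_2 (iv4 F82445) (iv1 F103318) (iv3 F164003) (iv1 D64275) F48667 (iv4 F37908) D49604 F163993 F168098 (iv1 F49613)
theorem E16787 : n66513 = n65874 := ((c20_1 D65874 (iv1 D66513) (iv4 F49598) F49597 D31351 (iv3 F168098) (iv4 F163993) (iv1 F78352) F78177 (iv3 F38306) (iv1 F49245))).symm
theorem F168103 : act 0 n65874 = n31048 := (sb E16787 (iv1 D66513))
theorem F168104 : act 1 n65874 = n74450 := (sb E16787 F111753)
theorem E16788 : n66512 = n53827 := (c15_2 F168104 F111754 F84850 (iv2 F163973))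
theorem F168105 : act 0 n53827 = n74450 := (sb E16788 (iv1 F111754))
theorem F168106 : act 1 n53827 = n31048 := (sb E16788 (iv0 D66512))
theorem F168107 : act 0 n108042 = n107750 := d20_4 D53827 F168105 F111751 (iv3 F166999) (iv3 D107750) D107751 F166387 F93940 F48642 F163970
theorem F168108 : act 1 n52020 = n107750 := d15_0 (iv0 F168107) F167002 (iv2 F82189)
theorem F168109 : act 2 n64945 = n67458 := d1_3 F168102 (iv2 D64944) D64945
theorem E16789 : n108163 = n67447 := ((c20_11 F167259 (iv1 F164799) F79424 (iv3 F79316) (iv1 F100072) F164003 (iv4 F168102) (iv1 D67458) F49612 (iv3 F49597) D67447)).symm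
theorem F168110 : act 3 n67447 = n49956 := (sb E16789 (iv3 D108163))
theorem F168111 : act 4 n67447 = n106933 := (sb E16789 F167259)
theorem F168112 : act 7 n67457 = n64945 := d15_2 F103318 F103317 F168109
theorem F168113 : act 4 n64053 = n67457 := d11_3 F168112 (iv4 D64945) (iv7 F99789)
theorem F168114 : act 1 n74260 = n53361 := d15_1 (iv0 F168101) (iv7 F111540) F111539
theorem F168115 : act 1 n107174 = n53366 := d15_0 (iv0 F168101) F111147 (iv2 F165167)
theorem F168116 : act 1 n53361 = n107174 := d15_0 F168115 (iv7 F111552) F111551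
theorem F168117 : act 3 n63383 = n64918 := d20_5 D53366 (iv1 F168115) F165168 F80270 (iv1 F98687) (iv4 D64918) (iv1 F99424) F99421 (iv3 F53418) (iv1 F53421)
theorem F168118 : act 4 n63383 = n65865 := d20_0 (iv1 F101522) F79291 F38306 (iv1 F77677) (iv3 F165544) D53366 (iv1 F168115) F165168 F80270 (iv1 F98687)
theorem F168119 : act 0 n52107 = n64945 := d20_7 (iv4 F24116) D30503 D64918 (iv3 F168117) (iv1 D63383) F48146 (iv4 F82366) (iv4 D64945) (iv3 D30512) (iv1 D14479)
theorem E16790 : n67429 = n63381 := ((c20_1 (iv4 F98684) (iv1 D67429) (iv4 D31338) (iv3 D14772) (iv1 D7036) (iv3 F11190) (iv4 F24116) D30503 D64918 (iv3 F168117) (iv1 D63383))).symm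
theorem F168120 : act 0 n63381 = n31338 := (sb E16790 (iv1 D67429))
theorem F168121 : act 1 n63381 = n106936 := (sb E16790 F164804)
theorem E16791 : n67428 = n53503 := (c15_2 F168121 F164805 (iv7 F111752) F111750)
theorem F168122 : act 0 n53503 = n106936 := (sb E16791 (iv1 F164805))
theorem F168123 : act 1 n53503 = n31338 := (sb E16791 (iv0 D67428))
theorem F168124 : act 0 n50882 = n59624 := d20_4 D31338 (iv1 F168123) F84416 (iv3 F80270) (iv3 D59624) D59625 F166298 F166296 F79316 F163963
theorem F168125 : act 1 n52143 = n59624 := d15_0 (iv0 F168124) (iv7 F167002) F166998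
theorem F168126 : act 0 n64273 = n59625 := d20_1 (iv4 F100070) (iv4 D59625) D59624 (iv1 F168125) F82422 (iv4 F82445) (iv1 F103318) F168102 (iv3 F164003) (iv1 D64275)
theorem F168127 : act 1 n53907 = n64945 := d15_0 (iv0 F168119) F82367 (iv2 F85007)
theorem F168129 : act 3 n61922 = n60602 := d8_3 F103373 F168100 F100263
theorem F168130 : act 2 n60602 = n62238 := d0_1 F168129 F97026 F47212 (iv3 F95499) F100236
theorem F168131 : act 3 n59141 = n58880 := d7_3 (iv6 F96526) F168129 F95221
theorem F168132 : act 3 n68117 = n106201 := d8_3 F163201 F168131 (iv7 F104273)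
theorem F168133 : act 1 n62238 = n105668 := d15_0 (iv0 F162266) (iv7 F103373) F168130
theorem F168134 : act 3 n67618 = n106578 := d7_3 F163857 F168099 (iv6 F103629)
theorem F168135 : act 3 n68116 = n67501 := d8_3 (iv7 F103386) F168099 (iv7 F104269)
theorem F168136 : act 3 n61897 = n60575 := d8_3 (iv7 F103632) F168134 F163860
theorem F168137 : act 2 n105743 = n67462 := d1_3 (iv4 D67462) F168097 D105743
theorem F168138 : act 0 n74344 = n53256 := d20_1 D74344 F84104 F82190 F168096 (iv3 D48879) (iv4 F101300) (iv1 F26236) F26233 (iv3 F26108) D34103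
theorem F168139 : act 1 n74344 = n64426 := d15_1 (iv0 F168138) (iv7 F165169) F165167
theorem F168140 : act 1 n74347 = n53256 := d15_0 (iv0 F168138) F111540 (iv2 F111551)
theorem F168141 : act 1 n64426 = n74347 := d15_0 F168140 (iv7 F111147) F111145
theorem F168142 : act 4 n67448 = n106934 := d20_0 (iv1 D106934) F78129 F37774 D24196 F165538 D74347 (iv1 F168141) (iv4 F167000) F166999 (iv1 F103302)
theorem F168143 : act 3 n67500 = n107435 := d6_3 (iv5 D107435) F168087 D67500
theorem E16792 : n65957 = n65940 := ((c20_1 D65940 (iv1 D65957) (iv4 F49629) F49628 D31363 (iv3 F168087) (iv4 F165030) (iv1 F165032) F104301 (iv3 F84208) (iv1 F84211))).symm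
theorem F168144 : act 0 n65940 = n30864 := (sb E16792 (iv1 D65957))
theorem F168145 : act 1 n107471 = n62238 := d15_1 (iv0 F165794) (iv7 F168086) F103374
theorem F168146 : act 2 n62237 = n60637 := d15_3 (iv0 D60637) (iv0 F112220) F168084
theorem E16793 : n60637 = n60601 := (c1_2 D62237 F168146 (iv4 D60601) (iv2 F168051))
theorem F168147 : act 1 n60601 = n28787 := (sb E16793 (iv0 D60637))
theorem F168148 : act 2 n60601 = n62237 := (sb E16793 (iv2 F168146))
theorem E16794 : n63798 = n63552 := ((c20_10 F48368 (iv1 F168147) (iv4 D60601) (iv3 F168066) (iv1 F77826) (iv3 F163861) F163862 (iv1 F100302) (iv4 D63553) D63552 (iv1 D63798))).symm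
theorem F168149 : act 0 n63552 = n30101 := (sb E16794 (iv1 D63798))
theorem F168150 : act 1 n63552 = n62601 := (sb E16794 F99157)
theorem E16795 : n106824 = n64094 := (c20_4 (iv4 F164157) (iv1 F164160) F104284 D106824 (iv1 D64094) F48593 F48368 (iv1 F168147) (iv4 D60601) (iv3 F168066) (iv1 F77826))
theorem F168151 : act 3 n64094 = n49359 := (sb E16795 (iv3 D106824))
theorem F168152 : act 7 n64094 = n106768 := (sb E16795 F165521)
theorem E16796 : n64093 = n63167 := ((c15_4 (iv0 D64093) D64094 F168152 F165673)).symm
theorem F168153 : act 1 n63167 = n30208 := (sb E16796 (iv0 D64093))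
theorem E16797 : n63840 = n63460 := (((iv6 F99284)).symm.trans (sb E16796 F100100))
theorem F168154 : act 3 n63460 = n30118 := (sb E16797 (iv3 D63840))
theorem F168155 : act 4 n63460 = n62258 := (sb E16797 F99286)
theorem F168156 : act 6 n63460 = n63167 := (sb E16797 F99284)
theorem F168157 : act 7 n63460 = n63194 := (sb E16797 F99285)
theorem F168158 : act 7 n51782 = n50320 := d13_2 F168157 F98451 (iv5 F100099)
theorem F168159 : act 2 n63194 = n63459 := d15_3 (iv0 D63459) D63460 F168157
theorem F168160 : act 3 n63459 = n52353 := d0_2 D63194 F168159 F165499 F165564 F99259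
theorem E16798 : n52351 = n50319 := ((c2_3 (iv5 F98451) F168159 (iv5 F161107) F165567)).symm
theorem F168161 : act 2 n50319 = n51782 := (sb E16798 F165567)
theorem F168162 : act 3 n50319 = n25420 := (sb E16798 (iv3 D52351))
theorem F168163 : act 4 n50319 = n59018 := (sb E16798 (iv4 F164037))
theorem F168164 : act 7 n50319 = n105225 := (sb E16798 (iv7 F165516))
theorem F168165 : act 2 n105225 = n50320 := d4_1 F168164 (iv7 F168158) (iv2 F168161)
theorem F168166 : act 3 n50320 = n51715 := d0_2 D105225 F168165 F99265 F165559 F165493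
theorem E16799 : n105208 = n51712 := ((c7_4 F161145 F168166 (iv6 D51715) D51712)).symm
theorem F168167 : act 1 n51712 = n48650 := (sb E16799 (iv0 D105208))
theorem F168168 : act 6 n51712 = n50320 := (sb E16799 F161145)
theorem F168169 : act 4 n50320 = n59019 := d20_6 (iv4 F79851) (iv1 F39577) F39573 (iv3 F39559) F81653 (iv3 F168166) (iv1 D59019) F45320 F22250 D13382
theorem F168170 : act 4 n62257 = n63459 := d18_3 (iv1 D29462) (iv4 F47235) D62257 (iv5 F161107) F168163 (iv0 D59018) F45320 D28049 (iv5 F93426)
theorem E16800 : n63859 = n63841 := ((c20_7 D61943 F164344 F164242 (iv3 F99043) (iv1 F99045) F168154 D63841 (iv1 D63859) F48424 F46997 D29342)).symm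
theorem F168171 : act 0 n63841 = n30125 := (sb E16800 (iv1 D63859))
theorem F168172 : act 1 n63841 = n63772 := (sb E16800 F99322)
theorem E16801 : n63858 = n63837 := (c15_2 F168172 F99327 F99282 (iv2 F99287))
theorem F168173 : act 0 n63837 = n63772 := (sb E16801 (iv1 F99327))
theorem F168174 : act 1 n63837 = n30125 := (sb E16801 (iv0 D63858))
theorem F168175 : act 2 n63743 = n63797 := d15_3 (iv0 D63797) (iv0 F168149) F99780
theorem F168176 : act 3 n63797 = n63693 := d0_2 D63743 F168175 (iv2 F164004) (iv3 D63548) (iv2 F99767)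
theorem E16802 : n106779 = n63581 := (c3_4 (iv6 F99111) F168175 F161080 (iv2 F164584))
theorem F168178 : act 7 n63581 = n49339 := (sb E16802 (iv7 D106779))
theorem E16803 : n106776 = n53145 := (c8_2 F168178 D106776 F99777 D63581)
theorem E16804 : n106826 = n49339 := (((iv3 F168019)).symm.trans (sb E16803 (iv3 D106776)))
theorem E16805 : n106775 = n49361 := ((D106775).symm.trans (sb E16804 (iv2 D106826)))
theorem F168179 : act 3 n49339 = n53145 := (sb E16804 F168019)
theorem E16806 : n63581 = n49362 := (((iv7 F168178)).symm.trans (sb E16804 (iv7 F164634)))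
theorem F168180 : act 2 n49361 = n49339 := (sb E16805 (iv2 D106775))
theorem E16807 : n106830 = n49340 := ((D106830).symm.trans (sb E16805 (iv7 F164581)))
theorem E16808 : n106831 = n30020 := ((D106831).symm.trans (sb E16806 (iv3 D63581)))
theorem E16809 : n52260 = n50693 := ((F82634).symm.trans (sb E16806 F98915))
theorem E16810 : n63743 = n63050 := ((((iv6 F98366)).symm.trans (sb E16806 (iv6 F99111)))).symm
theorem F168181 : act 7 n49362 = n49339 := (sb E16806 F168178)
theorem F168182 : act 2 n49340 = n49362 := (sb E16807 F164637)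
theorem F168183 : act 7 n49340 = n49361 := (sb E16807 (iv7 D106830))
theorem F168184 : act 3 n30020 = n49362 := (sb E16808 (iv3 D106831))
theorem F168185 : act 0 n50693 = n25385 := (sb E16809 (iv1 D52260))
theorem F168186 : act 1 n50693 = n105173 := (sb E16809 F161088)
theorem F168187 : act 5 n50693 = n49362 := (sb E16809 (iv5 F82634))
theorem F168188 : act 6 n50693 = n25411 := (sb E16809 (iv6 F82635))
theorem F168189 : act 2 n63050 = n63797 := (sb E16810 F168175)
theorem F168190 : act 3 n63050 = n30081 := (sb E16810 (iv3 D63743))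
theorem F168191 : act 7 n63050 = n63552 := (sb E16810 (iv7 F99780))
theorem F168192 : act 2 n63552 = n63051 := d15_3 F99162 F99164 F168191
theorem F168193 : act 7 n63797 = n63051 := d4_2 (iv7 F168191) F168189 (iv2 F168192)
theorem F168194 : act 3 n63051 = n63707 := d8_1 F168193 F164006 (iv3 F168176)
theorem F168195 : act 4 n60595 = n63050 := d20_2 (iv4 F46417) D60595 F168190 (iv1 F48348) F48200 (iv4 F47289) (iv1 F53624) (iv4 D28907) F168083 (iv1 D28776)
theorem F168196 : act 6 n61938 = n60595 := d10_0 F168195 F98366 (iv4 F165593)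
theorem E16811 : n52323 = n50596 := (c7_2 F168188 D52323 F83964 D50693)
theorem F168197 : act 3 n50596 = n25411 := (sb E16811 (iv3 D52323))
theorem F168198 : act 3 n52325 = n64692 := d6_3 (iv5 F100573) F168197 D52325
theorem E16812 : n52326 = n50620 := (c8_3 (iv7 F99779) F168197 D52326 (iv3 D50620))
theorem F168199 : act 2 n50620 = n25412 := (sb E16812 F82700)
theorem F168200 : act 7 n50620 = n25411 := (sb E16812 (iv7 D52326))
theorem F168201 : act 7 n52325 = n64947 := d13_2 F168200 D52325 (iv5 F100732)
theorem F168202 : act 2 n64947 = n52329 := d15_3 (iv0 F100553) (iv0 F165153) F168201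
theorem E16813 : n64944 = n52214 := ((c3_3 D64947 F168202 (iv6 F82701) (iv2 D64944))).symm
theorem F168203 : act 2 n52214 = n30512 := (sb E16813 (iv2 D64944))
theorem F168204 : act 3 n52214 = n64275 := (sb E16813 (iv3 F164003))
theorem F168205 : act 4 n52214 = n67458 := (sb E16813 (iv4 F168102))
theorem F168206 : act 4 n65379 = n107754 := d20_8 (iv4 F78631) D107747 (iv4 F166383) (iv3 F168204) (iv1 F82555) F48760 (iv4 F49115) D65379 (iv3 D107754) (iv1 D49774)
theorem F168207 : act 0 n59663 = n105743 := d20_1 (iv4 F94068) (iv4 D105743) (iv3 D48879) (iv1 F37158) (iv3 F38035) (iv4 F78631) D107747 (iv4 F166383) (iv3 F168204) (iv1 F82555)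
theorem E16814 : n53836 = n14534 := (c20_5 (iv4 F38056) F100813 (iv4 D26026) D26025 D53836 (iv3 F48760) (iv4 F94068) F168207 (iv4 D105743) (iv3 D48879) (iv1 F37158))
theorem E16815 : n31324 = n30663 := (((D30663).symm.trans (sb E16814 (iv1 F84864)))).symm
theorem E16816 : n30664 = n26025 := ((D30664).symm.trans (sb E16814 (iv0 D53836)))
theorem E16817 : n53837 = n24951 := ((((iv1 F49116)).symm.trans (sb E16815 (iv1 F84868)))).symm
theorem E16818 : n51289 = n14767 := (((iv2 F101131)).symm.trans (sb E16815 (iv2 D31324)))
theorem E16819 : n65383 = n49403 := ((D65383).symm.trans (sb E16815 (iv3 F163975)))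
theorem E16820 : n66219 = n65384 := (((D65384).symm.trans (sb E16815 (iv4 F111893)))).symm
theorem E16821 : n67390 = n65385 := (((D65385).symm.trans (sb E16815 D67390))).symm
theorem E16822 : n67391 = n65386 := (((D65386).symm.trans (sb E16815 D67391))).symm
theorem E16823 : n53838 = n51288 := ((((iv7 F101134)).symm.trans (sb E16815 (iv7 F84866)))).symm
theorem F168208 : act 0 n26025 = n14534 := (sb E16816 (iv1 D30664))
theorem E16826 : n65390 = n53840 := (((D53840).symm.trans (sb E16816 D65390))).symm
theorem E16827 : n51756 = n51446 := ((F81719).symm.trans (sb E16816 (iv6 F81221)))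
theorem F168209 : act 0 n24951 = n26025 := (sb E16817 (iv1 D53837))
theorem E16828 : n31322 = n24935 := ((D31322).symm.trans (sb E16818 (iv1 D51289)))
theorem E16829 : n31323 = n25893 := ((D31323).symm.trans (sb E16818 F80902))
theorem F168210 : act 2 n14767 = n30663 := (sb E16818 F101131)
theorem E16830 : n65525 = n31326 := (((D31326).symm.trans (sb E16818 (iv5 F101200)))).symm
theorem E16831 : n63073 = n31327 := (((D31327).symm.trans (sb E16818 (iv6 F98384)))).symm
theorem F168211 : act 3 n49403 = n30663 := (sb E16819 (iv3 D65383))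
theorem F168212 : act 0 n65384 = n74514 := (sb E16820 (iv1 F111894))
theorem F168213 : act 1 n65384 = n30948 := (sb E16820 (iv0 D66219))
theorem F168214 : act 2 n65384 = n31325 := (sb E16820 F111892)
theorem F168215 : act 3 n65385 = n106937 := (sb E16821 (iv3 F164807))
theorem F168216 : act 3 n65386 = n106938 := (sb E16822 (iv3 F164813))
theorem E16832 : n63183 = n62965 := (((F101083).symm.trans (sb E16822 (iv5 F103254)))).symm
theorem F168217 : act 2 n51288 = n26025 := (sb E16823 (iv2 D53838))
theorem F168218 : act 3 n51288 = n30823 := (sb E16823 F163972)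
theorem F168219 : act 0 n53840 = n65407 := (sb E16826 (iv1 F101203))
theorem F168220 : act 1 n53840 = n64981 := (sb E16826 (iv0 F101087))
theorem F168221 : act 2 n53840 = n65423 := (sb E16826 (iv2 F101139))
theorem E16833 : n50583 = n50278 := ((F84872).symm.trans (sb E16826 F101086))
theorem F168222 : act 3 n51446 = n25133 := (sb E16827 F81717)
theorem E16834 : n25131 = n25004 := ((((iv5 D51446)).symm.trans (sb E16827 (iv5 D51756)))).symm
theorem F168223 : act 6 n51446 = n26025 := (sb E16827 (iv6 F81719))
theorem F168224 : act 7 n51446 = n50652 := (sb E16827 F81718)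
theorem F168225 : act 1 n24935 = n14767 := (sb E16828 (iv0 D31322))
theorem F168226 : act 0 n25893 = n14767 := (sb E16829 (iv1 D31323))
theorem E16843 : n67397 = n30709 := ((D67397).symm.trans (sb E16830 (iv0 D65525)))
theorem F168227 : act 2 n31326 = n65385 := (sb E16830 (iv2 F101201))
theorem E16844 : n63430 = n62684 := ((((iv6 F97791)).symm.trans (sb E16830 F101199))).symm
theorem E16845 : n67399 = n66214 := ((D67399).symm.trans (sb E16831 F101818))
theorem E16846 : n67400 = n66294 := ((D67400).symm.trans (sb E16831 F102204))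
theorem F168228 : act 2 n31327 = n65386 := (sb E16831 F101130)
theorem E16847 : n29870 = n29832 := (((iv5 F49582)).symm.trans (sb E16831 (iv5 D63073)))
theorem E16848 : n66293 = n63560 := ((((iv7 F98882)).symm.trans (sb E16831 (iv7 F102201)))).symm
theorem F168229 : act 3 n62965 = n63337 := (sb E16832 (iv3 F163947))
theorem E16851 : n63451 = n29831 := (((F101128).symm.trans (sb E16832 (iv7 F163946)))).symm
theorem F168230 : act 3 n50278 = n24640 := (sb E16833 (iv3 D50583))
theorem E16852 : n51757 = n51447 := (((F81223).symm.trans (sb E16833 F81722))).symm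
theorem F168231 : act 6 n50278 = n53840 := (sb E16833 (iv6 F84872))
theorem E16853 : n30737 = n30676 := ((((iv7 F81224)).symm.trans (sb E16833 F79941))).symm
theorem E16854 : n51752 = n11876 := ((((iv1 D25004)).symm.trans (sb E16834 D51752))).symm
theorem E16856 : n51754 = n51336 := ((((iv2 F101117)).symm.trans (sb E16834 D51754))).symm
theorem E16857 : n51444 = n11936 := ((D51444).symm.trans (sb E16834 (iv3 D25131)))
theorem E16858 : n51755 = n51445 := (((D51445).symm.trans (sb E16834 D51755))).symm
theorem E16859 : n51335 = n24665 := (((iv7 F101120)).symm.trans (sb E16834 F39531))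
theorem F168232 : act 0 n30709 = n31326 := (sb E16843 (iv1 D67397))
theorem F168233 : act 0 n62684 = n53469 := (sb E16844 F98758)
theorem F168234 : act 1 n62684 = n29967 := (sb E16844 (iv0 D63430))
theorem F168235 : act 2 n62684 = n64955 := (sb E16844 F100747)
theorem E16860 : n63185 = n63074 := (((iv5 F98444)).symm.trans (sb E16844 F98756))
theorem E16861 : n64956 = n61472 := (((F97792).symm.trans (sb E16844 (iv7 F100746)))).symm
theorem F168236 : act 1 n66214 = n31327 := (sb E16845 (iv0 D67399))
theorem F168237 : act 0 n66294 = n31327 := (sb E16846 (iv1 D67400))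
theorem E16864 : n63071 = n14189 := ((D63071).symm.trans (sb E16847 (iv3 D29870)))
theorem E16865 : n63184 = n63072 := (((D63072).symm.trans (sb E16847 D63184))).symm
theorem F168238 : act 5 n29832 = n31327 := (sb E16847 F49582)
theorem E16866 : n62964 = n30009 := (((iv7 F101126)).symm.trans (sb E16847 (iv7 F48203)))
theorem F168239 : act 0 n63560 = n74526 := (sb E16848 (iv1 F111916))
theorem F168240 : act 1 n63560 = n30970 := (sb E16848 (iv0 D66293))
theorem F168241 : act 2 n63560 = n63069 := (sb E16848 (iv2 F102200))
theorem E16867 : n63067 = n29974 := ((D63067).symm.trans (sb E16851 (iv3 D63451)))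
theorem E16868 : n63096 = n29982 := (((F79500).symm.trans (sb E16851 F98788))).symm
theorem F168242 : act 3 n51447 = n25134 := (sb E16852 F81720)
theorem E16869 : n50723 = n50337 := (((F81222).symm.trans (sb E16852 F81721))).symm
theorem E16872 : n65592 = n50279 := (((F81226).symm.trans (sb E16853 D65592))).symm
theorem E16873 : n65424 = n14565 := ((D65424).symm.trans (sb E16853 (iv3 D30737)))
theorem E16875 : n50306 = n25003 := (((D25003).symm.trans (sb E16854 (iv1 F163927)))).symm
theorem E16876 : n50649 = n24961 := ((((iv1 D51336)).symm.trans (sb E16856 (iv1 F81715)))).symm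
theorem E16877 : n50648 = n25006 := (((F81015).symm.trans (sb E16856 F81713))).symm
theorem F168243 : act 3 n51336 = n50162 := (sb E16856 (iv3 F163930))
theorem F168244 : act 3 n11936 = n25004 := (sb E16857 (iv3 D51444))
theorem F168245 : act 7 n51445 = n50651 := (sb E16858 F81716)
theorem E16878 : n50168 = n25156 := ((((iv6 F39585)).symm.trans (sb E16859 F81124))).symm
theorem F168246 : act 7 n24665 = n25004 := (sb E16859 F101120)
theorem F168247 : act 3 n63074 = n29872 := (sb E16860 F98443)
theorem F168248 : act 5 n63074 = n62684 := (sb E16860 F98444)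
theorem E16879 : n63587 = n63475 := ((((iv7 F98807)).symm.trans (sb E16860 (iv7 F98926)))).symm
theorem F168249 : act 0 n61472 = n30517 := (sb E16861 (iv1 D64956))
theorem F168250 : act 1 n61472 = n63433 := (sb E16861 F100743)
theorem F168251 : act 2 n61472 = n63431 := (sb E16861 F100748)
theorem F168252 : act 6 n61472 = n30676 := (sb E16861 F100745)
theorem F168253 : act 3 n14189 = n29832 := (sb E16864 (iv3 D63071))
theorem F168254 : act 7 n63072 = n63559 := (sb E16865 (iv7 F98879))
theorem F168255 : act 0 n30009 = n29833 := (sb E16866 F98249)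
theorem F168256 : act 1 n30009 = n29785 := (sb E16866 (iv0 D62964))
theorem F168257 : act 2 n30009 = n29831 := (sb E16866 F101125)
theorem E16880 : n51394 = n29882 := (((F48202).symm.trans (sb E16866 F98248))).symm
theorem F168258 : act 7 n30009 = n29832 := (sb E16866 F101126)
theorem F168259 : act 3 n29974 = n29831 := (sb E16867 (iv3 D63067))
theorem E16881 : n63477 = n29840 := (((F79594).symm.trans (sb E16867 (iv6 F98809)))).symm
theorem E16884 : n51470 = n24547 := ((((iv5 F79498)).symm.trans (sb E16868 F98399))).symm
theorem E16885 : n63585 = n51393 := ((((iv7 F101136)).symm.trans (sb E16868 F163924))).symm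
theorem F168260 : act 3 n50337 = n24694 := (sb E16869 F80073)
theorem E16886 : n24692 = n24546 := ((((iv6 D50337)).symm.trans (sb E16869 (iv6 D50723)))).symm
theorem F168261 : act 3 n50279 = n30856 := (sb E16872 F164022)
theorem F168262 : act 3 n14565 = n30676 := (sb E16873 (iv3 D65424))
theorem F168263 : act 2 n25003 = n24665 := (sb E16875 F163928)
theorem E16887 : n51440 = n24535 := ((D51440).symm.trans (sb E16875 (iv3 D50306)))
theorem F168264 : act 0 n24961 = n24665 := (sb E16876 (iv1 D50649))
theorem F168265 : act 1 n25006 = n24665 := (sb E16877 (iv0 D50648))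
theorem E16888 : n51814 = n24467 := ((D51814).symm.trans (sb E16878 (iv1 D50168)))
theorem E16889 : n51815 = n24549 := ((D51815).symm.trans (sb E16878 F79492))
theorem F168266 : act 3 n63475 = n30024 := (sb E16879 F98924)
theorem F168267 : act 5 n63475 = n61472 := (sb E16879 F98925)
theorem E16890 : n30022 = n29981 := ((((iv6 D63475)).symm.trans (sb E16879 (iv6 D63587)))).symm
theorem E16891 : n63205 = n24981 := ((D63205).symm.trans (sb E16880 (iv1 D51394)))
theorem E16892 : n63206 = n29983 := ((D63206).symm.trans (sb E16880 F81122))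
theorem F168268 : act 2 n29882 = n29982 := (sb E16880 F101123)
theorem F168269 : act 3 n29840 = n29982 := (sb E16881 (iv3 D63477))
theorem E16893 : n63116 = n63097 := (((D63097).symm.trans (sb E16881 F164199))).symm
theorem E16894 : n50339 = n25013 := (((F79593).symm.trans (sb E16881 F98808))).symm
theorem F168270 : act 2 n24547 = n25156 := (sb E16884 F163904)
theorem E16897 : n50366 = n50340 := (((D50340).symm.trans (sb E16884 F164034))).symm
theorem E16898 : n50721 = n50167 := ((((iv7 F101138)).symm.trans (sb E16884 F163905))).symm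
theorem F168271 : act 3 n51393 = n50237 := (sb E16885 (iv3 F163893))
theorem E16899 : n50334 = n11689 := ((D50334).symm.trans (sb E16886 (iv3 D24692)))
theorem E16900 : n50365 = n50335 := (((D50335).symm.trans (sb E16886 (iv4 F100267)))).symm
theorem F168272 : act 7 n24546 = n25156 := (sb E16886 (iv7 F39586))
theorem F168273 : act 3 n24535 = n25003 := (sb E16887 (iv3 D51440))
theorem F168274 : act 1 n24467 = n25156 := (sb E16888 (iv0 D51814))
theorem F168275 : act 0 n24549 = n25156 := (sb E16889 (iv1 D51815))
theorem E16901 : n63473 = n14251 := ((D63473).symm.trans (sb E16890 (iv3 D30022)))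
theorem E16902 : n63496 = n63474 := (((D63474).symm.trans (sb E16890 (iv4 F100269)))).symm
theorem F168276 : act 7 n29981 = n29882 := (sb E16890 F48236)
theorem F168277 : act 1 n24981 = n29882 := (sb E16891 (iv0 D63205))
theorem F168278 : act 0 n29983 = n29882 := (sb E16892 (iv1 D63206))
theorem F168279 : act 0 n63097 = n29847 := (sb E16893 (iv1 D63116))
theorem F168280 : act 3 n25013 = n24547 := (sb E16894 (iv3 D50339))
theorem F168281 : act 0 n50340 = n24556 := (sb E16897 (iv1 D50366))
theorem F168282 : act 2 n50340 = n51817 := (sb E16897 F164035)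
theorem F168283 : act 3 n50167 = n51341 := (sb E16898 (iv3 F163889))
theorem F168284 : act 3 n11689 = n24546 := (sb E16899 (iv3 D50334))
theorem F168285 : act 1 n50335 = n24556 := (sb E16900 (iv0 D50365))
theorem F168286 : act 7 n50335 = n51817 := (sb E16900 F100268)
theorem F168287 : act 3 n14251 = n29981 := (sb E16901 (iv3 D63473))
theorem F168288 : act 1 n63474 = n29989 := (sb E16902 (iv0 D63496))
theorem F168289 : act 7 n63474 = n63208 := (sb E16902 F100270)
theorem F168290 : act 1 n52213 = n105743 := d15_0 (iv0 F168207) F94069 (iv2 F82553)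
theorem E16903 : n107119 = n74343 := (c20_5 D105743 (iv1 F168290) F82554 (iv3 F82532) (iv1 F165096) (iv3 D74343) D74344 F168138 F84104 F82190 F168096)
theorem F168291 : act 0 n74343 = n49486 := (sb E16903 (iv1 D107119))
theorem F168292 : act 1 n74343 = n52200 := (sb E16903 F165096)
theorem E16904 : n107118 = n106443 := (c15_2 F168292 F165095 F165474 F165550)
theorem F168293 : act 0 n106443 = n52200 := (sb E16904 (iv1 F165095))
theorem F168294 : act 1 n106443 = n49486 := (sb E16904 (iv0 D107118))
theorem F168295 : act 0 n105572 = n108164 := d20_1 (iv4 F162170) (iv4 D108164) (iv3 F168110) (iv1 F103301) (iv3 F166999) F167000 (iv1 F168139) (iv4 D74344) D74343 F168291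
theorem F168296 : act 0 n58931 = n59274 := d20_7 (iv4 F19023) F80081 (iv4 D24693) F168284 (iv1 F79501) (iv3 F161083) F161084 (iv4 D59274) (iv3 D28145) (iv1 D13432)
theorem F168297 : act 4 n59254 = n51452 := d20_8 F161084 F168296 (iv4 D59274) (iv3 D28145) (iv1 D13432) (iv3 F22348) (iv4 F45498) D59254 (iv3 F168020) F161089
theorem F168298 : act 1 n52258 = n59274 := d15_0 (iv0 F168296) (iv7 D58931) (iv2 F82631)
theorem F168299 : act 4 n63078 = n60989 := d18_5 (iv1 D28140) (iv4 F45498) D59254 F168297 (iv5 F99061) (iv0 D60989) F46562 D28917 (iv5 F93475)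
theorem F168300 : act 2 n50651 = n51441 := d3_3 F81219 F168282 F81834
theorem E16905 : n51484 = n51441 := ((c15_4 (iv0 D51484) (iv0 F111668) F168245 F168300)).symm
theorem F168301 : act 1 n51441 = n25020 := (sb E16905 (iv0 D51484))
theorem F168302 : act 0 n50652 = n53594 := d21_7 F39184 D30831 (iv5 F79481) F79482 F168275 F39585 D50652 F84553 (iv6 F84554) (iv1 D51363)
theorem F168303 : act 0 n65103 = n50652 := d21_1 (iv5 F100890) (iv5 D50652) (iv6 F39585) (iv1 F168274) (iv6 D24467) (iv5 F18868) (iv1 F19774) (iv5 F19313) D24487 D50204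
theorem F168304 : act 3 n51442 = n50308 := d6_3 (iv5 D50308) F168273 D51442
theorem F168305 : act 2 n50652 = n51442 := d0_5 F168304 (iv2 F163911) F81701 F39535 (iv3 F80014)
theorem F168306 : act 3 n63453 = n63069 := d7_3 F98382 F168304 (iv6 F98790)
theorem F168307 : act 2 n63478 = n63208 := d1_3 (iv4 D63208) F168268 D63478
theorem F168308 : act 2 n63559 = n63068 := d3_3 (iv6 F98810) F168307 (iv6 F98878)
theorem E16906 : n63105 = n63068 := ((c15_4 (iv0 D63105) (iv0 F111702) F168254 F168308)).symm
theorem F168309 : act 1 n63068 = n29844 := (sb E16906 (iv0 D63105))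
theorem F168310 : act 3 n63045 = n63431 := d7_3 F100749 F168261 (iv6 F101257)
theorem E16907 : n65420 = n53371 := ((c8_3 (iv7 F81227) F168261 F84204 (iv3 D65420))).symm
theorem F168311 : act 3 n53371 = n30675 := (sb E16907 (iv3 D65420))
theorem F168312 : act 3 n65423 = n65875 := d7_3 F101528 F168311 D65423
theorem F168313 : act 3 n64955 = n65529 := d8_3 (iv7 F101258) F168310 F100750
theorem F168314 : act 0 n60491 = n62237 := d20_7 (iv4 F46548) (iv1 F47199) F49748 F168253 (iv1 D29832) (iv3 F47993) (iv4 F95084) (iv4 D62237) (iv3 D29451) (iv1 F23353)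
theorem F168315 : act 0 n59336 = n62194 := d20_10 F99107 (iv1 F99105) F98864 F48200 (iv1 F23775) F168253 D63072 F111702 (iv4 F80558) (iv3 F93599)
theorem F168316 : act 6 n67396 = n51263 := d21_5 D30969 (iv1 F101854) F168248 F97791 D67396 (iv5 F80857) (iv1 F79267) (iv5 F84528) F84529 (iv1 F49380)
theorem F168317 : act 5 n67396 = n65407 := d21_0 F101107 (iv5 D65385) D65386 F101084 (iv6 D30970) D30969 (iv1 F101854) F168248 F97791 D67396
theorem F168318 : act 2 n64981 = n67396 := d2_3 F168317 F101204 (iv5 F100777)
theorem F168319 : act 7 n67396 = n65407 := d4_2 (iv7 F100778) F168318 F101204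
theorem F168320 : act 1 n65423 = n67396 := d15_1 (iv0 F101141) F168319 F101204
theorem F168321 : act 0 n108159 = n105572 := d20_1 D108159 F162170 F78229 F168226 (iv3 D14767) D14768 (iv1 F94128) F38227 (iv3 F38174) D49955
theorem F168322 : act 0 n52194 = n59798 := d20_7 (iv4 F22666) F94129 (iv4 D14768) D14767 (iv1 F168225) (iv3 F40062) (iv4 F82520) (iv4 D59798) (iv3 D28355) (iv1 D13526)
theorem F168323 : act 3 n64244 = n52196 := d20_9 (iv4 F82520) F168322 (iv4 D59798) (iv3 D28355) (iv1 D13526) (iv3 F22652) (iv4 F45803) D59620 (iv4 F163985) (iv1 D52196)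
theorem F168324 : act 1 n67450 = n59798 := d15_0 (iv0 F168322) (iv7 F94069) (iv2 F103304)
theorem F168325 : act 1 n67462 = n67450 := d15_0 F168324 (iv7 F162377) F168137
theorem E16908 : n107417 = n50423 := ((c20_4 D59798 (iv1 F168324) F103305 (iv3 F79791) (iv1 F165690) (iv3 D53360) D53361 (iv1 F168114) F111146 F82422 F168092)).symm
theorem F168326 : act 0 n50423 = n53360 := (sb E16908 (iv1 F165690))
theorem F168327 : act 1 n50423 = n49616 := (sb E16908 (iv0 D107417))
theorem E16909 : n107418 = n51293 := (c15_2 F168327 D107418 F80909 (iv2 F79790))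
theorem F168328 : act 0 n51293 = n49616 := (sb E16909 (iv1 D107418))
theorem F168329 : act 1 n51293 = n53360 := (sb E16909 F165691)
theorem E16910 : n107122 = n107065 := (c21_5 F37889 (iv1 F37869) (iv5 F37867) D49489 D107122 F165698 (iv5 D107420) (iv1 F168327) F79792 (iv6 D50423) F38573)
theorem F168330 : act 1 n107065 = n49489 := (sb E16910 (iv0 D107122))
theorem F168331 : act 7 n107123 = n65545 := d15_2 F168330 D107123 F165615
theorem F168332 : act 3 n53199 = n107123 := d8_3 F168331 (iv3 D65545) F99256
theorem E16911 : n107754 = n51144 := ((c20_11 (iv4 F168206) (iv1 F101078) F80959 (iv3 F80907) F168328 (iv3 D49616) D49617 F165546 F39070 (iv3 F39023) D51144)).symm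
theorem F168333 : act 3 n51144 = n49774 := (sb E16911 (iv3 D107754))
theorem F168334 : act 4 n51144 = n65379 := (sb E16911 (iv4 F168206))
theorem F168335 : act 5 n107421 = n105209 := d21_6 (iv5 D16493) (iv1 F19935) (iv5 F39092) D51293 F168328 D107421 (iv1 D105209) (iv5 F95716) (iv6 D61249) F46625
theorem F168336 : act 3 n105209 = n50288 := d6_1 F168335 (iv5 F79670) (iv3 F165699)
theorem F168337 : act 1 n52194 = n67462 := d15_0 F168325 F103306 F82553
theorem E16912 : n64942 = n31347 := (c20_11 (iv4 F103305) (iv1 F168325) (iv4 D67462) (iv3 F168098) (iv1 F45140) (iv3 F92815) (iv4 F99865) F101317 (iv4 D30513) D30512 D64942)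
theorem E16913 : n52195 = n30512 := ((F82521).symm.trans (sb E16912 (iv0 D64942)))
theorem F168338 : act 0 n30512 = n31347 := (sb E16913 (iv1 F82521))
theorem E16914 : n64943 = n25351 := ((D64943).symm.trans (sb E16913 (iv0 D52195)))
theorem E16915 : n105218 = n64947 := (((D64947).symm.trans (sb E16913 (iv6 F161154)))).symm
theorem F168339 : act 0 n25351 = n30512 := (sb E16914 (iv1 D64943))
theorem F168340 : act 1 n64947 = n107272 := (sb E16915 (iv0 F165324))
theorem E16916 : n50620 = n48652 := (((iv5 F100732)).symm.trans (sb E16915 (iv5 D105218)))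
theorem E16917 : n105215 = n25412 := (((iv2 F161151)).symm.trans (sb E16916 F168199))
theorem E16918 : n105216 = n24653 := ((D105216).symm.trans (sb E16916 (iv3 D50620)))
theorem F168341 : act 5 n48652 = n64947 := (sb E16916 F100732)
theorem E16919 : n105211 = n25411 := ((F161149).symm.trans (sb E16916 F168200))
theorem F168342 : act 2 n25412 = n48652 := (sb E16917 F161151)
theorem E16920 : n52322 = n48651 := ((F82699).symm.trans (sb E16917 (iv7 D105215)))
theorem F168343 : act 3 n24653 = n48652 := (sb E16918 (iv3 D105216))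
theorem F168344 : act 7 n25411 = n48652 := (sb E16919 (iv7 F161149))
theorem F168345 : act 2 n48651 = n25411 := (sb E16920 (iv2 D52322))
theorem F168346 : act 7 n48651 = n25412 := (sb E16920 (iv7 F82699))
theorem F168347 : act 7 n52327 = n105212 := d8_2 F168346 D52327 (iv3 D105212)
theorem F168348 : act 7 n52328 = n105213 := d11_2 F168346 D52328 (iv4 D105213)
theorem F168349 : act 7 n52329 = n105214 := d13_2 F168346 D52329 (iv5 D105214)
theorem F168350 : act 2 n105214 = n52325 := d4_1 F168349 F168201 F168202
theorem F168351 : act 2 n52328 = n105217 := d15_3 F161153 (iv0 F161150) (iv7 F168348)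
theorem F168352 : act 2 n50615 = n105212 := d0_5 (iv3 D105212) F168345 (iv3 F168197) F99778 D50615
theorem F168353 : act 2 n52324 = n105213 := d1_3 (iv4 D105213) F168345 D52324
theorem F168354 : act 2 n50693 = n105172 := d3_3 F161081 F168345 (iv6 F168188)
theorem F168355 : act 7 n105171 = n50693 := d15_2 F161078 F161087 F168354
theorem F168356 : act 7 n52259 = n105172 := d15_2 F168186 (iv0 F161089) (iv2 F168354)
theorem F168357 : act 2 n105171 = n52259 := d4_3 F168356 (iv2 F168354) (iv7 F168355)
theorem F168358 : act 3 n50669 = n105171 := d0_0 F168357 F168020 F163873 (iv3 D50689) (iv2 F99774)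
theorem F168359 : act 7 n105217 = n52324 := d4_0 F168353 (iv7 F168348) F168351
theorem E16921 : n52367 = n52328 := (c15_2 F161173 D52367 F168348 (iv2 F168353))
theorem F168360 : act 0 n52328 = n25425 := (sb E16921 (iv1 D52367))
theorem F168361 : act 1 n52328 = n105233 := (sb E16921 F161171)
theorem E16922 : n52327 = n52235 := (c20_4 (iv4 F161168) (iv1 F168361) (iv4 D52328) D52327 (iv1 D52235) (iv3 F76476) F76477 (iv1 F100283) (iv4 D58879) F168037 (iv1 F77454))
theorem F168362 : act 3 n52235 = n25412 := (sb E16922 (iv3 D52327))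
theorem F168363 : act 7 n52235 = n105212 := (sb E16922 F168347)
theorem F168364 : act 3 n105219 = n50622 := d7_3 (iv6 D50622) F168343 D105219
theorem E16923 : n64436 = n64320 := ((c6_4 F161155 F168364 F79995 D64320)).symm
theorem F168365 : act 1 n64320 = n30342 := (sb E16923 (iv0 D64436))
theorem F168366 : act 5 n64320 = n105219 := (sb E16923 F161155)
theorem F168367 : act 2 n105219 = n52330 := d3_3 (iv6 D52330) F168342 D105219
theorem F168368 : act 0 n64946 = n107103 := d21_7 F23054 D24182 D49561 D107272 (iv1 F168340) (iv6 D64947) D64946 F165075 (iv6 D61274) (iv1 D29005)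
theorem F168369 : act 0 n52414 = n105219 := d21_1 (iv5 F82763) (iv5 F168366) F100730 F168368 (iv6 D107103) (iv5 D49475) (iv1 F45376) (iv5 F82511) (iv6 F82545) (iv1 F82547)
theorem F168370 : act 7 n52196 = n52214 := d15_2 (iv0 F168339) D52196 F168203
theorem F168371 : act 2 n64053 = n52196 := d4_3 F168370 F168203 (iv7 F99789)
theorem E16924 : n64053 = n52215 := (c15_4 F82556 F82555 (iv7 F168370) (iv2 F168371))
theorem F168372 : act 2 n52215 = n52196 := (sb E16924 F168371)
theorem F168373 : act 3 n52215 = n30195 := (sb E16924 (iv3 D64053))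
theorem F168374 : act 4 n52215 = n67457 := (sb E16924 F168113)
theorem F168375 : act 7 n52215 = n30512 := (sb E16924 F99789)
theorem F168376 : act 0 n105653 = n108088 := d20_1 D105653 F167124 F80907 F168209 (iv3 D26025) D26026 (iv1 F100812) F24347 (iv3 F37131) D48843
theorem F168377 : act 2 n106780 = n63079 := d0_3 F168184 (iv2 F168182) D106780 F163867 F99769
theorem F168378 : act 4 n61928 = n63189 := d20_0 (iv1 F99241) F99236 (iv3 F83909) (iv1 F83912) F168184 (iv4 F165593) (iv1 D61938) F46999 (iv3 F46997) D61928
theorem F168379 : act 3 n61928 = n108513 := d20_9 F167632 F167635 (iv4 D63208) (iv3 D29882) (iv1 D14194) (iv3 F23699) (iv4 F48022) D63189 (iv4 F168378) (iv1 F167768)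
theorem F168380 : act 0 n63582 = n53127 := d20_1 D63582 (iv4 F93584) F93583 D108513 (iv3 F168379) F168378 (iv1 F99241) F99236 (iv3 F83909) (iv1 F83912)
theorem F168381 : act 1 n105524 = n50466 := d18_6 (iv1 F83912) D63582 F168380 (iv4 F93584) F93585 (iv4 F162031) (iv4 D50466) F79784 (iv5 F83910)
theorem F168382 : act 6 n63693 = n106780 := d3_0 F168377 (iv6 F163866) F164004
theorem F168383 : act 7 n63078 = n106780 := d4_0 F168377 (iv7 F163869) F163872
theorem F168384 : act 5 n106780 = n52338 := d21_6 F47364 (iv1 F48295) (iv5 D30060) D30061 D63693 F168382 (iv1 D52338) (iv5 F48314) (iv6 D30066) F47368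
theorem F168385 : act 2 n52338 = n51453 := d2_1 F168384 F162153 (iv2 F168377)
theorem F168386 : act 3 n52338 = n105172 := d6_1 F168384 (iv5 F161079) D106780
theorem F168387 : act 7 n52338 = n51452 := d13_2 F168383 F168384 (iv5 F99061)
theorem E16925 : n52337 = n50689 := ((c15_4 (iv0 D52337) D52338 F168387 F163873)).symm
theorem F168388 : act 0 n50689 = n51454 := (sb E16925 (iv1 F82724))
theorem F168389 : act 1 n50689 = n25416 := (sb E16925 (iv0 D52337))
theorem F168390 : act 0 n63577 = n63080 := d21_1 (iv5 F98912) (iv5 F167957) F167958 (iv1 F81147) (iv6 D51400) (iv5 F45525) F45526 (iv5 F23820) D25416 (iv1 F168389)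
theorem F168391 : act 1 n106780 = n63080 := d15_0 (iv0 F168390) F163869 (iv2 F168377)
theorem F168392 : act 1 n52229 = n106780 := d15_0 F168391 (iv7 D63080) (iv2 F82584)
theorem F168393 : act 1 n63577 = n52229 := d15_0 F168392 (iv7 F168383) (iv2 F163872)
theorem F168394 : act 6 n105212 = n52338 := d7_0 F168386 F161081 D105212
theorem F168395 : act 0 n50157 = n105212 := d21_4 (iv5 F38479) F49171 F49170 D50157 F168394 (iv5 F168384) (iv1 F168392) (iv5 D52229) (iv6 D25368) (iv1 F38477)
theorem F168396 : act 0 n105212 = n52236 := d21_10 F82593 (iv1 F82152) (iv5 F100414) F100415 (iv1 F81585) (iv6 F167958) F167957 (iv1 F168391) F168384 (iv6 F168394)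
theorem F168397 : act 7 n61937 = n106604 := d11_2 F168183 (iv4 F165608) F165656
theorem F168398 : act 2 n106604 = n61938 := d15_3 F164193 F164194 F168397
theorem F168399 : act 2 n61937 = n106603 := d15_3 (iv0 D106603) D106604 (iv7 F168397)
theorem F168400 : act 7 n106603 = n61938 := d4_2 (iv7 F168397) F168399 (iv2 F168398)
theorem F168401 : act 2 n106778 = n106829 := d3_3 (iv6 D106829) F168180 D106778
theorem F168402 : act 2 n61247 = n62588 := d2_3 (iv5 F164582) F168401 F164635
theorem F168403 : act 7 n62587 = n61247 := d15_2 F97595 F97599 F168402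
theorem F168404 : act 7 n61246 = n62588 := d15_2 F97600 F97601 (iv2 F168402)
theorem F168405 : act 2 n62587 = n61246 := d4_3 F168404 (iv2 F168402) (iv7 F168403)
theorem F168406 : act 3 n64609 = n106778 := d7_3 (iv6 D106778) F168179 (iv6 F100534)
theorem F168407 : act 3 n62588 = n62657 := d6_3 (iv5 F100533) F168406 F164582
theorem F168408 : act 3 n64109 = n61246 := d8_3 F168404 F168407 F99740
theorem F168409 : act 0 n60581 = n63178 := d20_7 (iv4 F47289) (iv1 F53624) (iv4 D28907) F168083 (iv1 D28776) (iv3 F46413) (iv4 F95201) (iv4 D63178) (iv3 D29867) (iv1 F23776)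
theorem F168410 : act 0 n50172 = n51747 := d20_7 (iv4 F38662) (iv1 F39491) F47642 F168078 (iv1 D28094) (iv3 F45396) (iv4 F79508) (iv4 D51747) (iv3 D25127) (iv1 F19689)
theorem F168411 : act 4 n59220 = n105212 := d20_8 (iv4 F82698) (iv1 F95727) (iv4 D59144) (iv3 F168078) (iv1 D13426) (iv3 F22326) (iv4 F45439) D59220 (iv3 D105212) (iv1 F76531)
theorem F168412 : act 0 n62237 = n60640 := d18_2 F168073 D62237 (iv4 F99159) F99160 (iv4 F112212) (iv0 D74769) F53917 (iv0 F27061) (iv5 F46341)
theorem F168413 : act 2 n59274 = n58909 := d3_1 F168062 (iv6 F93321) (iv2 F165829)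
theorem E16926 : n65956 = n65587 := (c20_8 (iv4 F79958) (iv1 F79960) F49196 F168053 (iv1 D31364) (iv3 F49628) F49629 D65956 (iv4 D65587) (iv3 D30735) F38643)
theorem F168414 : act 1 n65587 = n30864 := (sb E16926 (iv0 D65956))
theorem F168415 : act 4 n67494 = n64320 := d20_2 (iv4 F49631) D67494 (iv3 D64320) F79932 F79927 (iv4 F79958) (iv1 F79960) F49196 F168053 (iv1 D31364)
theorem E16927 : n63497 = n63478 := ((c20_1 D63478 (iv1 D63497) (iv4 F79252) F79251 D58833 F168040 D106608 F164198 F96561 (iv3 F81128) (iv1 F81131))).symm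
theorem F168416 : act 0 n63478 = n29989 := (sb E16927 (iv1 D63497))
theorem E16928 : n63115 = n63093 := (c20_8 (iv4 F47310) (iv1 F79888) (iv4 D28933) D28932 (iv1 F168039) (iv3 F77827) F77828 D63115 (iv4 D63093) (iv3 F163913) F23790)
theorem F168417 : act 1 n63093 = n29847 := (sb E16928 (iv0 D63115))
theorem E16929 : n63769 = n63195 := ((c20_1 D63195 (iv1 F99329) F99325 F96532 F168038 (iv3 D28932) D28933 F79887 F23038 (iv3 F23699) D29876)).symm
theorem F168418 : act 0 n63195 = n63861 := (sb E16929 (iv1 F99329))
theorem F168419 : act 1 n63195 = n30090 := (sb E16929 (iv0 D63769))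
theorem E16930 : n63696 = n63194 := (c20_5 D61042 F168041 F77857 (iv3 F48299) D63696 (iv3 D63194) D63195 F168418 F99325 F96532 F168038)
theorem F168420 : act 0 n63194 = n63461 := (sb E16930 (iv1 F99044))
theorem F168421 : act 1 n63194 = n30062 := (sb E16930 (iv0 D63696))
theorem F168422 : act 7 n63697 = n63459 := d15_2 F168421 D63697 (iv2 F168159)
theorem F168423 : act 2 n63460 = n63697 := d4_3 F168422 (iv2 F168159) (iv7 F168157)
theorem F168424 : act 3 n63801 = n63697 := d8_3 F168422 F168160 F165497
theorem F168425 : act 5 n105225 = n63697 := d13_3 F168422 (iv5 F161107) F168164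
theorem F168426 : act 0 n50322 = n105225 := d21_10 F168425 (iv1 D63697) (iv5 F76496) (iv6 D48637) F36879 (iv6 F48785) (iv5 D30353) D30351 D64460 (iv6 F100401)
theorem F168427 : act 0 n105225 = n50315 := d21_1 (iv5 F168425) F79700 (iv6 D30206) F46663 D61297 F95782 (iv1 F100117) F100114 F99040 (iv1 F99041)
theorem F168428 : act 1 n51782 = n50315 := d15_0 (iv0 F168427) (iv7 F168164) F168161
theorem F168429 : act 1 n50322 = n51782 := d15_1 (iv0 F168426) F168158 (iv2 F168165)
theorem F168430 : act 6 n63697 = n106768 := d7_2 (iv6 F99167) F168424 (iv3 D106768)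
theorem F168431 : act 0 n53108 = n106768 := d21_4 F46661 D50098 F79302 D53108 (iv6 F168430) (iv5 F168425) F168427 F79700 (iv6 D30206) F46663
theorem E16931 : n63770 = n63199 := (c15_2 F168419 D63770 (iv7 F99282) (iv2 F99283))
theorem F168432 : act 0 n63199 = n30090 := (sb E16931 (iv1 D63770))
theorem F168433 : act 1 n63199 = n63861 := (sb E16931 F99328)
theorem F168434 : act 0 n63118 = n63591 := d20_7 (iv4 F23387) (iv1 F79854) (iv4 D29475) F168030 (iv1 F77843) (iv3 F164170) F164171 (iv4 D63591) (iv3 D30025) (iv1 D14252)
theorem F168435 : act 1 n62969 = n63591 := d15_0 (iv0 F168434) (iv7 D63118) (iv2 F98262)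
theorem F168436 : act 0 n50234 = n106858 := d18_2 (iv1 F79456) D50234 F164674 (iv5 F80575) (iv4 F98263) F168435 (iv4 D63591) (iv0 F163899) (iv5 F79453)
theorem F168437 : act 0 n59371 = n60994 := d20_10 F99240 (iv1 F99238) F98448 F48023 (iv1 F23782) D30025 D63591 (iv1 F168435) F98263 (iv3 F93653)
theorem F168438 : act 1 n50230 = n106858 := d15_0 (iv0 F168436) F164320 F164349
theorem E16932 : n51496 = n51467 := (c20_8 (iv4 F38679) (iv1 F39569) F79879 D28145 (iv1 F168029) (iv3 F81275) F81276 D51496 (iv4 D51467) (iv3 F163895) (iv1 F19705))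
theorem F168439 : act 1 n51467 = n25025 := (sb E16932 (iv0 D51496))
theorem E16933 : n51497 = n51471 := ((c20_1 D51471 (iv1 D51497) (iv4 F81276) F81275 D58782 F168021 (iv4 F164032) (iv1 F93390) F93386 (iv3 F81031) (iv1 F81035))).symm
theorem F168440 : act 0 n51471 = n25025 := (sb E16933 (iv1 D51497))
def n108612 : Q := act 5 n50148
theorem D108612 : act 5 n50148 = n108612 := rfl
theorem F168441 : act 2 n108612 = n50226 := d2_1 D108612 (iv5 D50226) (iv2 F79446)
def n108613 : Q := act 7 n50148
theorem D108613 : act 7 n50148 = n108613 := rfl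
theorem F168442 : act 2 n108613 = n50227 := d4_1 D108613 (iv7 D50227) (iv2 F79446)
theorem F168443 : act 4 n108613 = n50151 := d11_1 D108613 (iv7 D50151) (iv4 F79447)
theorem F168444 : act 6 n108613 = n50275 := d14_1 D108613 (iv7 D50275) (iv6 D24519) (iv7 F38399) D50148
theorem F168445 : act 1 n50227 = n108610 := d15_0 (iv0 D108610) D108613 F168442
theorem F168446 : act 1 n50225 = n108613 := d15_1 D50225 (iv7 D108613) F79446
theorem F168447 : act 1 n108613 = n50224 := d15_0 (iv0 D50224) D50227 (iv2 F168442)
theorem F168448 : act 4 n52423 = n50224 := d20_0 (iv1 F168447) F168443 (iv3 F167956) (iv1 F167959) F165647 D52291 F165648 F40235 (iv3 F40223) D52423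
theorem F168449 : act 3 n52423 = n51926 := d20_3 (iv4 F38451) D50224 (iv4 F168448) (iv1 F81983) F39696 (iv4 F39734) (iv1 F80098) (iv4 D24612) F164319 (iv1 D24496)
theorem E16934 : n108410 = n62051 := ((c6_4 (iv5 F167596) F168449 F81977 D62051)).symm
theorem F168450 : act 0 n62051 = n50058 := (sb E16934 (iv1 D108410))
theorem F168451 : act 1 n62051 = n60513 := (sb E16934 F167595)
theorem F168452 : act 5 n62051 = n52423 := (sb E16934 (iv5 F167596))
theorem F168453 : act 3 n50891 = n58794 := d7_3 F167597 F168449 F81976
theorem F168454 : act 5 n58794 = n60725 := d6_2 (iv5 F80286) F168453 (iv3 D60725)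
theorem F168455 : act 4 n51382 = n58794 := d20_2 (iv4 F39194) D51382 (iv3 F168453) (iv1 F80291) F38757 (iv4 F38799) (iv1 F80091) (iv4 D25080) F164334 (iv1 D24980)
theorem F168456 : act 6 n50224 = n51382 := d10_0 F168455 F167597 F168448
theorem F168457 : act 0 n60725 = n51076 := d21_1 F168454 (iv5 F98659) (iv6 D63354) (iv1 D29931) F23741 (iv5 D14149) F19319 D13336 D27957 D58794
theorem F168458 : act 1 n60725 = n61844 := d15_1 (iv0 F168457) (iv7 D61844) (iv2 F80556)
theorem F168459 : act 0 n60726 = n63702 := d20_7 D106463 F165620 F96440 (iv3 F96401) (iv1 F168458) (iv3 D60725) D60726 F99053 F48313 D49189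
theorem F168460 : act 1 n52336 = n59265 := d18_6 (iv1 F93615) D60726 F168459 F99053 F48314 (iv4 F82720) (iv4 D59265) F93474 (iv5 F93613)
theorem F168461 : act 0 n106204 = n59264 := d20_4 D52352 F165616 F161190 (iv3 F163203) (iv3 D59264) D59265 (iv1 F168460) F82720 F40200 D25420
theorem F168462 : act 4 n59264 = n50330 := d20_0 (iv1 D50330) F38538 (iv3 F38537) D50319 F168162 D52352 F165616 F161190 (iv3 F163203) F168461
theorem E16935 : n108514 = n60998 := ((c21_1 (iv5 F95545) (iv1 D108514) (iv5 F80613) (iv6 D51099) F38976 (iv6 F79643) (iv5 D50263) D50261 F101680 (iv6 F163206) F168461)).symm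
theorem F168463 : act 0 n60998 = n50108 := (sb E16935 (iv1 D108514))
theorem F168464 : act 1 n60998 = n108422 := (sb E16935 F167765)
theorem F168465 : act 1 n63354 = n59264 := d15_0 (iv0 F168461) (iv7 D106204) (iv2 F98656)
theorem F168466 : act 6 n61904 = n60998 := d21_5 (iv5 D29940) (iv1 F40233) F40230 D29331 D61904 F95545 (iv1 F168465) F98659 (iv6 D51076) F48136
theorem F168467 : act 3 n59347 = n61904 := d7_3 F168466 (iv3 D60998) (iv6 F93621)
theorem F168468 : act 4 n63062 = n61904 := d20_2 (iv4 F47997) D63062 (iv3 F168467) F93622 F46531 (iv4 F46548) (iv1 F47199) F49748 F168253 (iv1 D29832)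
theorem F168469 : act 6 n58860 = n59264 := d21_5 (iv5 D24515) D24514 F39233 D27988 D58860 (iv5 F95545) F168463 (iv5 F80613) (iv6 D51099) F38976
theorem F168470 : act 3 n59216 = n58860 := d7_3 F168469 (iv3 D59264) (iv6 F93476)
theorem F168471 : act 4 n51435 = n58860 := d20_2 (iv4 F39240) D51435 (iv3 F168470) (iv1 F93424) F45440 (iv4 F38685) (iv1 F47803) (iv4 D25132) F168244 (iv1 D25004)
theorem F168472 : act 6 n50330 = n51435 := d10_0 F168471 F168469 F168462
def n108614 : Q := act 4 n50150
theorem D108614 : act 4 n50150 = n108614 := rfl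
theorem F168473 : act 2 n108614 = n50234 := d1_1 D108614 (iv4 D50234) (iv2 F164317)
theorem F168474 : act 7 n108614 = n50230 := d11_2 (iv7 F164318) D108614 (iv4 D50230)
theorem F168475 : act 0 n108614 = n52422 := d18_2 (iv1 F79449) D108614 F82771 (iv5 F77829) F77828 (iv0 F168279) (iv4 D63097) F79592 F79589
def n108615 : Q := act 6 n50150
theorem D108615 : act 6 n50150 = n108615 := rfl
theorem F168476 : act 2 n108615 = n50236 := d3_1 D108615 (iv6 D50236) (iv2 F164317)
theorem F168477 : act 0 n108615 = n51536 := d21_4 F39163 D29955 F79450 D108615 F81296 (iv5 F111785) (iv1 F163910) (iv5 D51748) F39502 F163890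
theorem F168478 : act 1 n108615 = n51531 := d15_1 (iv0 F168477) (iv7 F102460) (iv2 F102467)
def n108616 : Q := act 0 n50152
theorem D108616 : act 0 n50152 = n108616 := rfl
theorem F168479 : act 1 n50218 = n108616 := d15_0 (iv0 D108616) F79458 D50218
def n108617 : Q := act 1 n50152
theorem D108617 : act 1 n50152 = n108617 := rfl
def n108618 : Q := act 2 n50152
theorem D108618 : act 2 n50152 = n108618 := rfl
theorem F168480 : act 3 n108618 = n50268 := d0_2 D50152 D108618 (iv2 D50268) (iv3 D24517) (iv2 F38402)
theorem F168481 : act 7 n108618 = n50218 := d4_2 (iv7 F79458) D108618 (iv2 D50218)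
theorem F168482 : act 1 n108618 = n50216 := d15_0 (iv0 D50216) (iv7 F79458) D108618
theorem F168483 : act 1 n108617 = n50218 := d15_1 D108617 (iv7 F168481) (iv2 D108618)
theorem F168484 : act 1 n50217 = n108618 := d15_1 D50217 F168481 (iv2 D50218)
def n108619 : Q := act 5 n50152
theorem D108619 : act 5 n50152 = n108619 := rfl
theorem F168485 : act 3 n108619 = n50153 := d6_1 D108619 (iv5 D50153) D50152
theorem F168486 : act 7 n108619 = n50219 := d13_2 (iv7 F79458) D108619 (iv5 D50219)
def n108620 : Q := act 6 n50152
theorem D108620 : act 6 n50152 = n108620 := rfl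
theorem F168487 : act 3 n108620 = n50154 := d7_1 D108620 (iv6 D50154) D50152
def n108621 : Q := act 6 n50153
theorem D108621 : act 6 n50153 = n108621 := rfl
theorem F168488 : act 2 n108621 = n50271 := d3_1 D108621 (iv6 D50271) (iv2 F79459)
def n108622 : Q := act 5 n50154
theorem D108622 : act 5 n50154 = n108622 := rfl
theorem F168489 : act 2 n108622 = n50274 := d2_1 D108622 (iv5 D50274) (iv2 F79461)
def n108623 : Q := act 7 n50154
theorem D108623 : act 7 n50154 = n108623 := rfl
theorem F168490 : act 2 n108623 = n50275 := d4_1 D108623 (iv7 D50275) (iv2 F79461)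
theorem F168491 : act 4 n108623 = n50156 := d11_1 D108623 (iv7 D50156) (iv4 F79462)
theorem F168492 : act 6 n108623 = n50227 := d14_1 D108623 (iv7 D50227) (iv6 D24494) (iv7 F38403) D50154
theorem F168493 : act 1 n50273 = n108623 := d15_1 D50273 (iv7 D108623) F79461
theorem F168494 : act 1 n108623 = n50272 := d15_1 F168493 F101604 (iv2 F81207)
def n108624 : Q := act 4 n50155
theorem D108624 : act 4 n50155 = n108624 := rfl
theorem F168495 : act 2 n108624 = n50276 := d1_1 D108624 (iv4 D50276) F79463
theorem F168496 : act 7 n108624 = n50277 := d11_2 (iv7 F79464) D108624 (iv4 D50277)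
theorem F168497 : act 0 n108624 = n65909 := d20_1 D108624 F101597 F49304 (iv1 F45888) (iv3 F45256) (iv4 F82655) F93052 F93051 F45249 D50155
theorem F168498 : act 0 n65878 = n108624 := d20_7 (iv4 F81187) (iv1 F94231) (iv4 F82767) (iv3 F93028) F93031 F81141 (iv4 F101533) (iv4 D108624) (iv3 F80993) (iv1 F80996)
def n108625 : Q := act 1 n50157
theorem D108625 : act 1 n50157 = n108625 := rfl
theorem F168499 : act 1 n108625 = n52236 := d15_1 D108625 (iv7 D52236) (iv2 F79471)
theorem F168500 : act 7 n108625 = n50615 := d15_2 (iv0 F168395) D108625 F168352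
theorem F168501 : act 2 n52235 = n108625 := d4_3 F168500 F168352 (iv7 F168363)
theorem F168502 : act 3 n50597 = n108625 := d8_3 F168500 (iv3 D50615) (iv7 F99762)
theorem F168503 : act 4 n108625 = n59221 := d20_6 (iv4 F47645) (iv1 F39497) F38662 (iv3 F38657) (iv1 F79973) F168502 (iv1 D59221) F45439 F22326 D13425
def n108626 : Q := act 0 n50158
theorem D108626 : act 0 n50158 = n108626 := rfl
theorem F168504 : act 1 n50325 = n108626 := d15_0 (iv0 D108626) F79474 D50325
def n108627 : Q := act 1 n50158
theorem D108627 : act 1 n50158 = n108627 := rfl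
def n108628 : Q := act 2 n50158
theorem D108628 : act 2 n50158 = n108628 := rfl
theorem F168505 : act 3 n108628 = n50294 := d0_2 D50158 D108628 (iv2 D50294) (iv3 D24530) (iv2 F38410)
theorem F168506 : act 7 n108628 = n50325 := d4_2 (iv7 F79474) D108628 (iv2 D50325)
theorem F168507 : act 1 n108628 = n50323 := d15_0 (iv0 D50323) (iv7 F79474) D108628
theorem F168508 : act 1 n108627 = n50325 := d15_1 D108627 (iv7 F168506) (iv2 D108628)
theorem F168509 : act 1 n50324 = n108628 := d15_1 D50324 F168506 (iv2 D50325)
def n108629 : Q := act 5 n50158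
theorem D108629 : act 5 n50158 = n108629 := rfl
theorem F168510 : act 3 n108629 = n50159 := d6_1 D108629 (iv5 D50159) D50158
theorem F168511 : act 7 n108629 = n50326 := d13_2 (iv7 F79474) D108629 (iv5 D50326)
def n108630 : Q := act 6 n50158
theorem D108630 : act 6 n50158 = n108630 := rfl
theorem F168512 : act 3 n108630 = n50160 := d7_1 D108630 (iv6 D50160) D50158
def n108631 : Q := act 6 n50159
theorem D108631 : act 6 n50159 = n108631 := rfl
theorem F168513 : act 2 n108631 = n50299 := d3_1 D108631 (iv6 D50299) (iv2 F79475)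
def n108632 : Q := act 0 n50160
theorem D108632 : act 0 n50160 = n108632 := rfl
def n108633 : Q := act 1 n50160
theorem D108633 : act 1 n50160 = n108633 := rfl
theorem F168514 : act 1 n108633 = n50303 := d15_1 D108633 (iv7 D50303) (iv2 F79477)
theorem F168515 : act 4 n108633 = n58992 := d18_7 (iv1 F162139) F162135 (iv1 F101684) (iv4 D30882) (iv5 F38413) (iv4 F79478) D108633 (iv0 F167070) (iv5 F101680)
def n108634 : Q := act 5 n50160
theorem D108634 : act 5 n50160 = n108634 := rfl
theorem F168516 : act 2 n108634 = n50302 := d2_1 D108634 (iv5 D50302) (iv2 F79477)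
def n108635 : Q := act 7 n50160
theorem D108635 : act 7 n50160 = n108635 := rfl
theorem F168517 : act 2 n108635 = n50303 := d4_1 D108635 (iv7 D50303) (iv2 F79477)
theorem F168518 : act 4 n108635 = n50163 := d11_1 D108635 (iv7 D50163) (iv4 F79478)
theorem F168519 : act 6 n108635 = n50332 := d14_1 D108635 (iv7 D50332) (iv6 D24544) (iv7 F38411) D50160
theorem F168520 : act 1 n50303 = n108632 := d15_0 (iv0 D108632) D108635 F168517
theorem F168521 : act 1 n50301 = n108635 := d15_1 D50301 (iv7 D108635) F79477
theorem F168522 : act 0 n50300 = n108635 := d18_2 D59134 (iv4 F168014) F168518 F79481 D65890 F162131 F162129 (iv0 F93311) (iv5 D59136)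
def n108636 : Q := act 4 n50162
theorem D108636 : act 4 n50162 = n108636 := rfl
theorem F168523 : act 2 n108636 = n50311 := d1_1 D108636 (iv4 D50311) (iv2 F101638)
theorem F168524 : act 7 n108636 = n50307 := d11_2 (iv7 F101639) D108636 (iv4 D50307)
theorem F168525 : act 0 n108636 = n50172 := d18_2 (iv1 F79479) D108636 F79508 D59136 F93314 F101559 F101558 F49271 (iv5 F49270)
theorem F168526 : act 1 n108636 = n50358 := d15_1 (iv0 F168525) (iv7 D50358) (iv2 F79507)
theorem F168527 : act 1 n50358 = n51747 := d15_1 F168526 (iv7 F163936) (iv2 F168523)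
def n108637 : Q := act 6 n50162
theorem D108637 : act 6 n50162 = n108637 := rfl
theorem F168528 : act 2 n108637 = n50313 := d3_1 D108637 (iv6 D50313) (iv2 F101638)
theorem F168529 : act 3 n108637 = n65422 := d7_1 D108637 F101115 F168243
theorem F168530 : act 5 n108637 = n53371 := d12_1 D108637 (iv6 F101528) (iv5 D65875) D65876 F101529
theorem F168531 : act 7 n108637 = n65941 := d14_2 (iv7 F101639) D108637 F101656 F101654 F79595
theorem F168532 : act 0 n108637 = n66582 := d21_10 (iv5 D66582) F84550 (iv5 F79382) D51422 (iv1 F81194) (iv6 F84554) (iv5 F81078) F101530 F101529 D108637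
theorem F168533 : act 0 n50406 = n108637 := d21_4 F81117 F79764 (iv5 D50405) D50406 (iv6 D108637) (iv5 F101529) (iv1 F111788) F111785 (iv6 F81296) F81295
def n108638 : Q := act 0 n50164
theorem D108638 : act 0 n50164 = n108638 := rfl
theorem F168534 : act 1 n50294 = n108638 := d15_0 (iv0 D108638) F79487 D50294
def n108639 : Q := act 1 n50164
theorem D108639 : act 1 n50164 = n108639 := rfl
def n108640 : Q := act 2 n50164
theorem D108640 : act 2 n50164 = n108640 := rfl
theorem F168535 : act 3 n108640 = n50325 := d0_2 D50164 D108640 (iv2 D50325) (iv3 D24542) (iv2 F38414)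
theorem F168536 : act 4 n108640 = n58924 := d1_2 (iv4 F79486) D108640 (iv2 D58924)
theorem F168537 : act 7 n108640 = n50294 := d4_2 (iv7 F79487) D108640 (iv2 D50294)
theorem F168538 : act 1 n108640 = n50292 := d15_0 (iv0 D50292) (iv7 F79487) D108640
theorem F168539 : act 1 n108639 = n50294 := d15_1 D108639 (iv7 F168537) (iv2 D108640)
theorem F168540 : act 1 n50293 = n108640 := d15_1 D50293 F168537 (iv2 D50294)
def n108641 : Q := act 5 n50164
theorem D108641 : act 5 n50164 = n108641 := rfl
theorem F168541 : act 3 n108641 = n50165 := d6_1 D108641 (iv5 D50165) D50164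
theorem F168542 : act 7 n108641 = n50295 := d13_2 (iv7 F79487) D108641 (iv5 D50295)
def n108642 : Q := act 6 n50164
theorem D108642 : act 6 n50164 = n108642 := rfl
theorem F168543 : act 3 n108642 = n50166 := d7_1 D108642 (iv6 D50166) D50164
theorem F168544 : act 4 n108642 = n58926 := d10_1 D108642 (iv6 D58926) (iv4 F79486)
def n108643 : Q := act 6 n50165
theorem D108643 : act 6 n50165 = n108643 := rfl
theorem F168545 : act 2 n108643 = n50328 := d3_1 D108643 (iv6 D50328) (iv2 F79488)
def n108644 : Q := act 0 n50166
theorem D108644 : act 0 n50166 = n108644 := rfl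
def n108645 : Q := act 1 n50166
theorem D108645 : act 1 n50166 = n108645 := rfl
theorem F168546 : act 1 n108645 = n50332 := d15_1 D108645 (iv7 D50332) (iv2 F79490)
def n108646 : Q := act 5 n50166
theorem D108646 : act 5 n50166 = n108646 := rfl
theorem F168547 : act 2 n108646 = n50331 := d2_1 D108646 (iv5 D50331) (iv2 F79490)
def n108647 : Q := act 7 n50166
theorem D108647 : act 7 n50166 = n108647 := rfl
theorem F168548 : act 2 n108647 = n50332 := d4_1 D108647 (iv7 D50332) (iv2 F79490)
theorem F168549 : act 4 n108647 = n50169 := d11_1 D108647 (iv7 D50169) (iv4 F79491)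
theorem F168550 : act 6 n108647 = n50303 := d14_1 D108647 (iv7 D50303) (iv6 D24532) (iv7 F38415) D50166
theorem F168551 : act 1 n50332 = n108644 := d15_0 (iv0 D108644) D108647 F168548
theorem F168552 : act 1 n50330 = n108647 := d15_1 D50330 (iv7 D108647) F79490
theorem F168553 : act 4 n106202 = n108644 := d20_0 (iv1 F168551) F79710 (iv3 F79707) F168426 (iv3 D105225) D105226 F165571 F76549 (iv3 F77455) D106202
theorem F168554 : act 3 n106202 = n59249 := d20_3 (iv4 F79491) D108644 (iv4 F168553) (iv1 F93473) F45499 (iv4 F38688) (iv1 F80104) (iv4 D25157) D25156 (iv1 F168274)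
theorem F168555 : act 1 n108647 = n50329 := d15_0 (iv0 D50329) D50332 (iv2 F168548)
def n108648 : Q := act 4 n50167
theorem D108648 : act 4 n50167 = n108648 := rfl
theorem F168556 : act 2 n108648 = n50335 := d1_1 D108648 (iv4 D50335) (iv2 F101137)
theorem F168557 : act 7 n108648 = n50340 := d11_2 (iv7 F101138) D108648 (iv4 D50340)
theorem F168558 : act 0 n108648 = n50368 := d20_7 D59160 F163886 F45417 (iv3 F39162) D51341 (iv3 F168283) D108648 (iv4 F163204) F163203 (iv1 F77463)
theorem E16936 : n58929 = n58909 := ((c20_7 D108648 F168558 (iv4 F163204) F163203 (iv1 F77463) F168027 D58909 (iv1 D58929) (iv4 F76481) F76480 D50167)).symm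
theorem F168559 : act 0 n58909 = n28011 := (sb E16936 (iv1 D58929))
theorem F168560 : act 1 n108648 = n50175 := d15_0 F163208 (iv7 F168286) (iv2 F168556)
def n108649 : Q := act 6 n50167
theorem D108649 : act 6 n50167 = n108649 := rfl
theorem F168561 : act 2 n108649 = n50337 := d3_1 D108649 (iv6 D50337) (iv2 F101137)
theorem F168562 : act 3 n108649 = n65941 := d7_1 D108649 F101656 (iv3 F168283)
theorem F168563 : act 5 n108649 = n50279 := d12_1 D108649 (iv6 F100749) (iv5 F102088) F102089 F81120
theorem F168564 : act 7 n108649 = n65422 := d14_2 (iv7 F101138) D108649 F101115 F101118 F79499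
theorem F168565 : act 0 n108649 = n50411 := d21_4 D24981 D51393 F81120 D108649 (iv6 D50411) D50410 F81119 (iv5 F81117) (iv6 D51392) (iv1 D24980)
theorem F168566 : act 0 n65099 = n108649 := d21_4 F38448 D34151 D74463 F111776 (iv6 D108649) (iv5 F81120) F81121 (iv5 F80979) F80980 (iv1 F39229)
def n108650 : Q := act 0 n50170
theorem D108650 : act 0 n50170 = n108650 := rfl
theorem F168567 : act 1 n50361 = n108650 := d15_0 (iv0 D108650) F79503 D50361
def n108651 : Q := act 1 n50170
theorem D108651 : act 1 n50170 = n108651 := rfl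
def n108652 : Q := act 2 n50170
theorem D108652 : act 2 n50170 = n108652 := rfl
theorem F168568 : act 3 n108652 = n50347 := d0_2 D50170 D108652 (iv2 D50347) (iv3 D24550) (iv2 F38421)
theorem F168569 : act 4 n108652 = n52362 := d1_2 (iv4 F79502) D108652 (iv2 D52362)
theorem F168570 : act 7 n108652 = n50361 := d4_2 (iv7 F79503) D108652 (iv2 D50361)
theorem F168571 : act 1 n108652 = n50359 := d15_0 (iv0 D50359) (iv7 F79503) D108652
theorem F168572 : act 1 n108651 = n50361 := d15_1 D108651 (iv7 F168570) (iv2 D108652)
theorem F168573 : act 1 n50360 = n108652 := d15_1 D50360 F168570 (iv2 D50361)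
def n108653 : Q := act 5 n50170
theorem D108653 : act 5 n50170 = n108653 := rfl
theorem F168574 : act 3 n108653 = n50171 := d6_1 D108653 (iv5 D50171) D50170
theorem F168575 : act 7 n108653 = n50362 := d13_2 (iv7 F79503) D108653 (iv5 D50362)
def n108654 : Q := act 6 n50170
theorem D108654 : act 6 n50170 = n108654 := rfl
theorem F168576 : act 3 n108654 = n50172 := d7_1 D108654 (iv6 D50172) D50170
theorem F168577 : act 4 n108654 = n52364 := d10_1 D108654 (iv6 D52364) (iv4 F79502)
def n108655 : Q := act 6 n50171
theorem D108655 : act 6 n50171 = n108655 := rfl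
theorem F168578 : act 2 n108655 = n50354 := d3_1 D108655 (iv6 D50354) (iv2 F79504)
theorem F168579 : act 4 n108655 = n66494 := d10_1 D108655 (iv6 D66494) (iv4 F79506)
def n108656 : Q := act 5 n50172
theorem D108656 : act 5 n50172 = n108656 := rfl
theorem F168580 : act 2 n108656 = n50357 := d2_1 D108656 (iv5 D50357) (iv2 F79507)
theorem F168581 : act 0 n108656 = n66014 := d17_2 F168525 D108656 (iv5 D66014) (iv4 D30885) (iv5 D14624) D14623 (iv5 F38413) D50162 D108636
def n108657 : Q := act 7 n50172
theorem D108657 : act 7 n50172 = n108657 := rfl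
theorem F168582 : act 2 n108657 = n50358 := d4_1 D108657 (iv7 D50358) (iv2 F79507)
theorem F168583 : act 4 n108657 = n59137 := d11_1 D108657 (iv7 D59137) (iv4 F79508)
theorem F168584 : act 6 n108657 = n50368 := d14_1 D108657 (iv7 D50368) (iv6 D24556) F38419 D50172
theorem F168585 : act 1 n50311 = n108657 := d15_1 (iv0 F100841) (iv7 D108657) F79507
theorem F168586 : act 1 n108657 = n50307 := d15_1 F168585 (iv7 F168524) F168523
def n108658 : Q := act 0 n50173
theorem D108658 : act 0 n50173 = n108658 := rfl
theorem F168587 : act 1 n50347 = n108658 := d15_0 (iv0 D108658) F79509 D50347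
def n108659 : Q := act 1 n50173
theorem D108659 : act 1 n50173 = n108659 := rfl
def n108660 : Q := act 2 n50173
theorem D108660 : act 2 n50173 = n108660 := rfl
theorem F168588 : act 3 n108660 = n50361 := d0_2 D50173 D108660 (iv2 D50361) (iv3 D24554) F38424
theorem F168589 : act 7 n108660 = n50347 := d4_2 (iv7 F79509) D108660 (iv2 D50347)
theorem F168590 : act 1 n108660 = n50345 := d15_0 (iv0 D50345) (iv7 F79509) D108660
theorem F168591 : act 1 n108659 = n50347 := d15_1 D108659 (iv7 F168589) (iv2 D108660)
theorem F168592 : act 1 n50346 = n108660 := d15_1 D50346 F168589 (iv2 D50347)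
def n108661 : Q := act 5 n50173
theorem D108661 : act 5 n50173 = n108661 := rfl
theorem F168593 : act 3 n108661 = n50174 := d6_1 D108661 (iv5 D50174) D50173
theorem F168594 : act 7 n108661 = n50349 := d13_2 (iv7 F79509) D108661 (iv5 D50349)
def n108662 : Q := act 6 n50173
theorem D108662 : act 6 n50173 = n108662 := rfl
theorem F168595 : act 3 n108662 = n50175 := d7_1 D108662 (iv6 D50175) D50173
def n108663 : Q := act 6 n50174
theorem D108663 : act 6 n50174 = n108663 := rfl
theorem F168596 : act 2 n108663 = n50364 := d3_1 D108663 (iv6 D50364) (iv2 F79510)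
theorem F168597 : act 4 n108663 = n53510 := d10_1 D108663 (iv6 D53510) (iv4 F79511)
def n108664 : Q := act 5 n50175
theorem D108664 : act 5 n50175 = n108664 := rfl
theorem F168598 : act 2 n108664 = n50367 := d2_1 D108664 (iv5 D50367) (iv2 F79513)
def n108665 : Q := act 7 n50175
theorem D108665 : act 7 n50175 = n108665 := rfl
theorem F168599 : act 2 n108665 = n50368 := d4_1 D108665 (iv7 D50368) (iv2 F79513)
theorem F168600 : act 6 n108665 = n50358 := d14_1 D108665 (iv7 D50358) (iv6 D24553) (iv7 F38423) D50175
theorem F168601 : act 1 n50340 = n108665 := d15_1 (iv0 F168281) (iv7 D108665) F79513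
theorem F168602 : act 1 n108665 = n50335 := d15_1 F168601 F168286 (iv2 F168282)
def n108666 : Q := act 0 n50176
theorem D108666 : act 0 n50176 = n108666 := rfl
theorem F168603 : act 2 n50180 = n108666 := d15_3 (iv0 D108666) (iv0 D50176) D50180
theorem F168604 : act 3 n108666 = n50369 := d0_2 (iv3 F79516) F168603 (iv2 F79743) F38549 (iv2 F38426)
theorem F168605 : act 7 n108666 = n50178 := d4_2 D50180 F168603 (iv2 D50178)
theorem F168606 : act 1 n50177 = n108666 := d15_1 D50177 F168605 (iv2 D50178)
def n108667 : Q := act 2 n50176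
theorem D108667 : act 2 n50176 = n108667 := rfl
theorem F168607 : act 7 n50177 = n108667 := d15_2 (iv0 D50176) D50177 (iv2 D108667)
def n108668 : Q := act 3 n50176
theorem D108668 : act 3 n50176 = n108668 := rfl
def n108669 : Q := act 4 n50176
theorem D108669 : act 4 n50176 = n108669 := rfl
def n108670 : Q := act 5 n50176
theorem D108670 : act 5 n50176 = n108670 := rfl
def n108671 : Q := act 6 n50176
theorem D108671 : act 6 n50176 = n108671 := rfl
def n108672 : Q := act 7 n50176
theorem D108672 : act 7 n50176 = n108672 := rfl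
theorem F168608 : act 2 n108672 = n50177 := d4_1 D108672 F168607 (iv2 D108667)
def n108673 : Q := act 3 n50177
theorem D108673 : act 3 n50177 = n108673 := rfl
def n108674 : Q := act 4 n50177
theorem D108674 : act 4 n50177 = n108674 := rfl
def n108675 : Q := act 5 n50177
theorem D108675 : act 5 n50177 = n108675 := rfl
def n108676 : Q := act 6 n50177
theorem D108676 : act 6 n50177 = n108676 := rfl
def n108677 : Q := act 0 n50178
theorem D108677 : act 0 n50178 = n108677 := rfl
theorem F168609 : act 1 n50180 = n108677 := d15_0 (iv0 D108677) (iv7 F168605) (iv2 F168603)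
def n108678 : Q := act 1 n50178
theorem D108678 : act 1 n50178 = n108678 := rfl
theorem F168610 : act 1 n108678 = n50180 := d15_1 D108678 (iv7 D50180) D50178
def n108679 : Q := act 5 n50178
theorem D108679 : act 5 n50178 = n108679 := rfl
theorem F168611 : act 2 n108679 = n50179 := d2_1 D108679 (iv5 D50179) D50178
theorem F168612 : act 3 n108679 = n50382 := d6_1 D108679 (iv5 D50382) (iv3 F79514)
def n108680 : Q := act 0 n50179
theorem D108680 : act 0 n50179 = n108680 := rfl
def n108681 : Q := act 1 n50179
theorem D108681 : act 1 n50179 = n108681 := rfl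
def n108682 : Q := act 4 n50179
theorem D108682 : act 4 n50179 = n108682 := rfl
def n108683 : Q := act 6 n50179
theorem D108683 : act 6 n50179 = n108683 := rfl
theorem F168613 : act 3 n108683 = n50183 := d7_1 D108683 (iv6 D50183) (iv3 F79515)
def n108684 : Q := act 6 n50180
theorem D108684 : act 6 n50180 = n108684 := rfl
theorem F168614 : act 3 n108684 = n50184 := d7_1 D108684 (iv6 D50184) (iv3 F79516)
def n108685 : Q := act 3 n50181
theorem D108685 : act 3 n50181 = n108685 := rfl
theorem F168615 : act 5 n108685 = n52421 := d6_2 (iv5 F79517) D108685 (iv3 D52421)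
theorem F168616 : act 7 n108685 = n50391 := d8_2 F79520 D108685 (iv3 D50391)
def n108686 : Q := act 6 n50181
theorem D108686 : act 6 n50181 = n108686 := rfl
theorem F168617 : act 2 n108686 = n50390 := d3_1 D108686 (iv6 D50390) F79519
theorem F168618 : act 4 n108686 = n65886 := d10_1 D108686 (iv6 D65886) F79521
def n108687 : Q := act 3 n50182
theorem D108687 : act 3 n50182 = n108687 := rfl
theorem F168619 : act 5 n108687 = n65877 := d6_2 (iv5 F79524) D108687 (iv3 D65877)
theorem F168620 : act 7 n108687 = n50389 := d8_2 (iv7 F79523) D108687 (iv3 D50389)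
def n108688 : Q := act 6 n50182
theorem D108688 : act 6 n50182 = n108688 := rfl
theorem F168621 : act 2 n108688 = n50392 := d3_1 D108688 (iv6 D50392) F79525
theorem F168622 : act 4 n108688 = n53388 := d10_1 D108688 (iv6 D53388) F79526
def n108689 : Q := act 0 n50183
theorem D108689 : act 0 n50183 = n108689 := rfl
def n108690 : Q := act 1 n50183
theorem D108690 : act 1 n50183 = n108690 := rfl
theorem F168623 : act 1 n108690 = n50397 := d15_1 D108690 (iv7 D50397) (iv2 F79527)
def n108691 : Q := act 7 n50183
theorem D108691 : act 7 n50183 = n108691 := rfl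
theorem F168624 : act 2 n108691 = n50397 := d4_1 D108691 (iv7 D50397) (iv2 F79527)
theorem F168625 : act 1 n50397 = n108689 := d15_0 (iv0 D108689) D108691 F168624
theorem F168626 : act 1 n50396 = n108691 := d15_1 D50396 (iv7 D108691) F79527
theorem F168627 : act 1 n108691 = n50395 := d15_0 (iv0 D50395) D50397 (iv2 F168624)
def n108692 : Q := act 5 n50184
theorem D108692 : act 5 n50184 = n108692 := rfl
theorem F168628 : act 2 n108692 = n50401 := d2_1 D108692 (iv5 D50401) (iv2 F79528)
def n108693 : Q := act 3 n50185
theorem D108693 : act 3 n50185 = n108693 := rfl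
theorem F168629 : act 4 n108693 = n52272 := d5_2 (iv4 F79532) D108693 (iv3 D52272) F40164 (iv3 F39712)
theorem F168630 : act 7 n108693 = n58803 := d8_2 (iv7 F79531) D108693 (iv3 D58803)
def n108694 : Q := act 0 n50186
theorem D108694 : act 0 n50186 = n108694 := rfl
def n108695 : Q := act 1 n50186
theorem D108695 : act 1 n50186 = n108695 := rfl
def n108696 : Q := act 2 n50186
theorem D108696 : act 2 n50186 = n108696 := rfl
theorem F168631 : act 4 n108696 = n50218 := d1_2 (iv4 F79534) D108696 (iv2 D50218)
def n108697 : Q := act 5 n50186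
theorem D108697 : act 5 n50186 = n108697 := rfl
theorem F168632 : act 3 n108697 = n50187 := d6_1 D108697 (iv5 D50187) D50186
theorem F168633 : act 7 n108697 = n58952 := d13_2 F93049 D108697 F93157
def n108698 : Q := act 6 n50186
theorem D108698 : act 6 n50186 = n108698 := rfl
theorem F168634 : act 3 n108698 = n50188 := d7_1 D108698 (iv6 D50188) D50186
theorem F168635 : act 4 n108698 = n50220 := d10_1 D108698 (iv6 D50220) (iv4 F79534)
def n108699 : Q := act 6 n50187
theorem D108699 : act 6 n50187 = n108699 := rfl
theorem F168636 : act 2 n108699 = n58951 := d3_1 D108699 (iv6 D58951) (iv2 F79535)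
def n108700 : Q := act 1 n50188
theorem D108700 : act 1 n50188 = n108700 := rfl
theorem F168637 : act 7 n108700 = n58828 := d15_2 (iv0 F164307) D108700 F164096
theorem F168638 : act 2 n51993 = n108700 := d4_3 F168637 F164096 (iv7 F82110)
theorem F168639 : act 4 n51992 = n108700 := d11_3 F168637 (iv4 D58828) F164073
theorem E16937 : n60648 = n60627 := (c18_7 F164077 F168639 (iv1 D108700) F79539 (iv5 F48372) F48371 D60648 (iv4 D60627) F93019 F93017)
theorem F168640 : act 0 n60627 = n28790 := (sb E16937 (iv1 D60648))
def n108701 : Q := act 5 n50188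
theorem D108701 : act 5 n50188 = n108701 := rfl
def n108702 : Q := act 7 n50188
theorem D108702 : act 7 n50188 = n108702 := rfl
theorem F168641 : act 4 n108702 = n50191 := d11_1 D108702 (iv7 D50191) (iv4 F79539)
theorem F168642 : act 1 n51993 = n108702 := d15_1 (iv0 F164062) (iv7 D108702) (iv2 F92954)
theorem F168643 : act 1 n108702 = n58828 := d15_1 F168642 (iv7 F168637) (iv2 F168638)
def n108703 : Q := act 4 n50190
theorem D108703 : act 4 n50190 = n108703 := rfl
def n108704 : Q := act 6 n50190
theorem D108704 : act 6 n50190 = n108704 := rfl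
theorem F168644 : act 5 n108704 = n52293 := d12_1 D108704 (iv6 D52293) D52292 (iv6 F82666) F79542
theorem F168645 : act 7 n108704 = n52293 := d14_2 (iv7 F165655) D108704 (iv6 D52293) F165646 F92957
theorem F168646 : act 0 n108704 = n105277 := d21_10 (iv5 D105277) (iv1 D48670) F36930 (iv6 D23728) (iv1 F18013) D12086 (iv5 F37523) D49189 F79542 D108704
theorem F168647 : act 1 n108704 = n105272 := d15_1 (iv0 F168646) F161344 (iv2 F161345)
def n108705 : Q := act 6 n50193
theorem D108705 : act 6 n50193 = n108705 := rfl
theorem F168648 : act 2 n108705 = n53911 := d3_1 D108705 (iv6 D53911) (iv2 F79546)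
theorem F168649 : act 3 n108705 = n50194 := d7_1 D108705 (iv6 D50194) D50193
theorem F168650 : act 4 n108705 = n107045 := d10_1 D108705 (iv6 D107045) (iv4 F79550)
theorem F168651 : act 5 n108705 = n58839 := d12_1 D108705 (iv6 D58839) (iv5 D27975) (iv6 F39915) (iv5 F79547)
def n108706 : Q := act 0 n50194
theorem D108706 : act 0 n50194 = n108706 := rfl
def n108707 : Q := act 1 n50194
theorem D108707 : act 1 n50194 = n108707 := rfl
theorem F168652 : act 1 n108707 = n67487 := d15_1 D108707 (iv7 D67487) (iv2 F79552)
theorem F168653 : act 4 n65933 = n108707 := d18_7 (iv1 D65896) (iv4 F81186) (iv1 D51418) F39224 (iv5 F24298) (iv4 F49314) D65933 F168652 F103348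
def n108708 : Q := act 7 n50194
theorem D108708 : act 7 n50194 = n108708 := rfl
theorem F168654 : act 2 n108708 = n67487 := d4_1 D108708 (iv7 D67487) (iv2 F79552)
theorem F168655 : act 6 n108708 = n108073 := d14_1 D108708 F167097 (iv6 F98669) F49317 D50194
theorem F168656 : act 1 n67487 = n108706 := d15_0 (iv0 D108706) D108708 F168654
theorem F168657 : act 1 n67486 = n108708 := d15_1 D67486 (iv7 D108708) F79552
theorem F168658 : act 1 n108708 = n67485 := d15_0 (iv0 D67485) D67487 (iv2 F168654)
def n108709 : Q := act 0 n50196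
theorem D108709 : act 0 n50196 = n108709 := rfl
def n108710 : Q := act 1 n50196
theorem D108710 : act 1 n50196 = n108710 := rfl
def n108711 : Q := act 2 n50196
theorem D108711 : act 2 n50196 = n108711 := rfl
def n108712 : Q := act 6 n50196
theorem D108712 : act 6 n50196 = n108712 := rfl
theorem F168659 : act 3 n108712 = n50197 := d7_1 D108712 (iv6 D50197) D50196
def n108713 : Q := act 5 n50197
theorem D108713 : act 5 n50197 = n108713 := rfl
def n108714 : Q := act 7 n50197
theorem D108714 : act 7 n50197 = n108714 := rfl
theorem F168660 : act 4 n108714 = n50200 := d11_1 D108714 (iv7 D50200) (iv4 F79556)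
theorem F168661 : act 6 n108714 = n65997 := d14_1 D108714 F162132 (iv6 D105557) F76872 D50197
theorem F168662 : act 1 n53398 = n108714 := d15_1 (iv0 F167966) (iv7 D108714) (iv2 F167964)
theorem F168663 : act 1 n108714 = n53395 := d15_1 F168662 F101232 F101229
def n108715 : Q := act 3 n50198
theorem D108715 : act 3 n50198 = n108715 := rfl
theorem F168664 : act 2 n108715 = n59439 := d0_1 D108715 F111430 F103492 D31393 (iv2 F111367)
theorem F168665 : act 6 n108715 = n108046 := d7_2 F112156 D108715 (iv3 F167028)
theorem F168666 : act 7 n108715 = n59440 := d8_2 F167970 D108715 F167971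
theorem F168667 : act 0 n108715 = n59441 := d20_4 (iv4 F40868) D53389 (iv4 F111368) D108715 F93826 (iv4 F93870) F111382 (iv4 D64301) (iv3 F111299) (iv1 D25870)
theorem F168668 : act 4 n108715 = n107053 := d20_6 D65518 (iv1 F162089) F161957 F76801 D50198 D108715 (iv1 F165009) F84064 (iv3 F84021) F111292
theorem F168669 : act 0 n52223 = n108715 := d20_4 D30707 (iv1 F101950) F101110 (iv3 F82579) (iv3 D108715) F111368 (iv1 F164705) F164702 F78085 (iv1 F49126)
theorem F168670 : act 5 n108715 = n64384 := d21_0 (iv1 F111441) (iv5 F82420) (iv6 D52140) (iv1 D25318) (iv6 F22855) (iv5 D13690) F19972 D25365 D52223 F168669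
def n108716 : Q := act 5 n50198
theorem D108716 : act 5 n50198 = n108716 := rfl
theorem F168671 : act 2 n108716 = n51105 := d2_1 D108716 F111414 (iv2 F111367)
theorem F168672 : act 3 n108716 = n64384 := d6_1 D108716 (iv5 F168670) (iv3 D108715)
theorem F168673 : act 7 n108716 = n51104 := d13_2 F167970 D108716 F167972
theorem F168674 : act 4 n108716 = n65398 := d18_5 (iv1 D25870) (iv4 F40868) D53389 (iv4 F111368) D108716 F101092 F49142 F49125 F49121
theorem F168675 : act 0 n108716 = n51088 := d21_1 D108716 F80584 (iv6 D29943) (iv1 D14221) (iv6 F22852) (iv5 D13688) F19398 D11577 D24483 D50198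
theorem F168676 : act 1 n108716 = n51106 := d15_1 (iv0 F168675) (iv7 D51106) (iv2 F80583)
theorem F168677 : act 4 n63373 = n108541 := d18_1 (iv1 F167187) (iv1 D108541) F79376 F38357 (iv4 F49120) D65398 (iv4 F168674) F168676 (iv5 F167184)
def n108717 : Q := act 6 n50199
theorem D108717 : act 6 n50199 = n108717 := rfl
theorem F168678 : act 3 n108717 = n67484 := d7_1 D108717 (iv6 D67484) (iv3 F111363)
def n108718 : Q := act 0 n50201
theorem D108718 : act 0 n50201 = n108718 := rfl
def n108719 : Q := act 1 n50201
theorem D108719 : act 1 n50201 = n108719 := rfl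
def n108720 : Q := act 2 n50201
theorem D108720 : act 2 n50201 = n108720 := rfl
def n108721 : Q := act 5 n50201
theorem D108721 : act 5 n50201 = n108721 := rfl
theorem F168679 : act 3 n108721 = n50202 := d6_1 D108721 (iv5 D50202) D50201
def n108722 : Q := act 6 n50201
theorem D108722 : act 6 n50201 = n108722 := rfl
theorem F168680 : act 3 n108722 = n50203 := d7_1 D108722 (iv6 D50203) D50201
def n108723 : Q := act 6 n50202
theorem D108723 : act 6 n50202 = n108723 := rfl
theorem F168681 : act 4 n108723 = n65922 := d10_1 D108723 (iv6 D65922) (iv4 F79557)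
def n108724 : Q := act 0 n50203
theorem D108724 : act 0 n50203 = n108724 := rfl
theorem F168682 : act 4 n108724 = n68183 := d20_8 (iv4 F165898) (iv1 F165899) F104342 (iv3 F104343) (iv1 D51363) F39183 (iv4 F79560) D108724 (iv3 D68183) (iv1 F78470)
def n108725 : Q := act 1 n50203
theorem D108725 : act 1 n50203 = n108725 := rfl
def n108726 : Q := act 5 n50203
theorem D108726 : act 5 n50203 = n108726 := rfl
theorem F168683 : act 1 n108726 = n51486 := d17_6 (iv1 D25004) D25005 F39242 F39222 (iv4 F79560) D108726 (iv5 D51486) (iv0 F111668) (iv4 D51445)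
def n108727 : Q := act 7 n50203
theorem D108727 : act 7 n50203 = n108727 := rfl
theorem F168684 : act 4 n108727 = n50206 := d11_1 D108727 (iv7 D50206) (iv4 F79560)
def n108728 : Q := act 3 n50204
theorem D108728 : act 3 n50204 = n108728 := rfl
def n108729 : Q := act 4 n50204
theorem D108729 : act 4 n50204 = n108729 := rfl
def n108730 : Q := act 4 n50205
theorem D108730 : act 4 n50205 = n108730 := rfl
theorem F168685 : act 0 n108730 = n50212 := d18_2 (iv1 F81194) D108730 (iv4 F80455) F80456 (iv4 F93910) (iv0 F93911) (iv4 D51448) F40939 (iv5 F81191)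
def n108731 : Q := act 0 n50207
theorem D108731 : act 0 n50207 = n108731 := rfl
def n108732 : Q := act 1 n50207
theorem D108732 : act 1 n50207 = n108732 := rfl
def n108733 : Q := act 2 n50207
theorem D108733 : act 2 n50207 = n108733 := rfl
theorem F168686 : act 4 n108733 = n50470 := d1_2 (iv4 F79561) D108733 (iv2 D50470)
def n108734 : Q := act 5 n50207
theorem D108734 : act 5 n50207 = n108734 := rfl
theorem F168687 : act 3 n108734 = n50208 := d6_1 D108734 (iv5 D50208) D50207
def n108735 : Q := act 6 n50207
theorem D108735 : act 6 n50207 = n108735 := rfl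
theorem F168688 : act 3 n108735 = n50209 := d7_1 D108735 (iv6 D50209) D50207
theorem F168689 : act 4 n108735 = n50471 := d10_1 D108735 (iv6 D50471) (iv4 F79561)
def n108736 : Q := act 6 n50208
theorem D108736 : act 6 n50208 = n108736 := rfl
def n108737 : Q := act 1 n50209
theorem D108737 : act 1 n50209 = n108737 := rfl
theorem F168691 : act 4 n65896 = n108737 := d20_6 (iv4 F19004) D24635 F38856 D25280 D52079 F101581 (iv1 D108737) F79565 F38447 F18981
def n108738 : Q := act 5 n50209
theorem D108738 : act 5 n50209 = n108738 := rfl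
def n108739 : Q := act 0 n50210
theorem D108739 : act 0 n50210 = n108739 := rfl
def n108740 : Q := act 1 n50210
theorem D108740 : act 1 n50210 = n108740 := rfl
def n108741 : Q := act 2 n50210
theorem D108741 : act 2 n50210 = n108741 := rfl
def n108742 : Q := act 5 n50210
theorem D108742 : act 5 n50210 = n108742 := rfl
theorem F168692 : act 3 n108742 = n50211 := d6_1 D108742 (iv5 D50211) D50210
def n108743 : Q := act 6 n50210
theorem D108743 : act 6 n50210 = n108743 := rfl
theorem F168693 : act 3 n108743 = n50212 := d7_1 D108743 (iv6 D50212) D50210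
def n108744 : Q := act 6 n50211
theorem D108744 : act 6 n50211 = n108744 := rfl
theorem F168694 : act 4 n108744 = n66536 := d10_1 D108744 (iv6 D66536) (iv4 F79566)
def n108745 : Q := act 0 n50212
theorem D108745 : act 0 n50212 = n108745 := rfl
def n108746 : Q := act 5 n50212
theorem D108746 : act 5 n50212 = n108746 := rfl
theorem F168695 : act 0 n51437 = n108746 := d21_7 D24518 (iv1 F79576) F79577 (iv6 F39239) (iv1 D24999) D25002 D51437 (iv5 D108746) (iv6 D50212) (iv1 F38449)
theorem F168696 : act 4 n58861 = n51436 := d17_9 (iv1 D51436) D51437 F168695 (iv5 D108746) (iv4 F80455) F80456 (iv0 F80457) F78457 D58861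
def n108747 : Q := act 7 n50212
theorem D108747 : act 7 n50212 = n108747 := rfl
def n108748 : Q := act 0 n50213
theorem D108748 : act 0 n50213 = n108748 := rfl
def n108749 : Q := act 1 n50213
theorem D108749 : act 1 n50213 = n108749 := rfl
def n108750 : Q := act 2 n50213
theorem D108750 : act 2 n50213 = n108750 := rfl
def n108751 : Q := act 5 n50213
theorem D108751 : act 5 n50213 = n108751 := rfl
theorem F168697 : act 3 n108751 = n50214 := d6_1 D108751 (iv5 D50214) D50213
def n108752 : Q := act 6 n50213
theorem D108752 : act 6 n50213 = n108752 := rfl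
theorem F168698 : act 3 n108752 = n50215 := d7_1 D108752 (iv6 D50215) D50213
def n108753 : Q := act 6 n50214
theorem D108753 : act 6 n50214 = n108753 := rfl
theorem F168699 : act 4 n108753 = n66534 := d10_1 D108753 (iv6 D66534) (iv4 F79569)
def n108754 : Q := act 5 n50215
theorem D108754 : act 5 n50215 = n108754 := rfl
def n108755 : Q := act 7 n50215
theorem D108755 : act 7 n50215 = n108755 := rfl
def n108756 : Q := act 2 n50216
theorem D108756 : act 2 n50216 = n108756 := rfl
theorem F168700 : act 7 n50217 = n108756 := d15_2 (iv0 D50216) D50217 (iv2 D108756)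
def n108757 : Q := act 3 n50216
theorem D108757 : act 3 n50216 = n108757 := rfl
theorem F168701 : act 4 n108757 = n59821 := d20_6 (iv4 D24488) (iv1 D11581) D11582 D24492 D50216 D108757 (iv1 D59821) (iv4 F49300) (iv3 D30841) F38445
def n108758 : Q := act 4 n50216
theorem D108758 : act 4 n50216 = n108758 := rfl
def n108759 : Q := act 5 n50216
theorem D108759 : act 5 n50216 = n108759 := rfl
theorem F168702 : act 4 n108759 = n51492 := d19_2 D50216 D108759 F81273 (iv1 F49348) (iv5 D30889) (iv4 D14627) F11250 (iv1 F4965) (iv5 D2228) (iv4 F4964) F10003 (iv1 D677) F1050 (iv4 F1262) (iv3 F2013) D2216 D5387 D11582 D24492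
def n108760 : Q := act 6 n50216
theorem D108760 : act 6 n50216 = n108760 := rfl
def n108761 : Q := act 7 n50216
theorem D108761 : act 7 n50216 = n108761 := rfl
theorem F168703 : act 2 n108761 = n50217 := d4_1 D108761 F168700 (iv2 D108756)
def n108762 : Q := act 3 n50217
theorem D108762 : act 3 n50217 = n108762 := rfl
def n108763 : Q := act 4 n50217
theorem D108763 : act 4 n50217 = n108763 := rfl
def n108764 : Q := act 5 n50217
theorem D108764 : act 5 n50217 = n108764 := rfl
def n108765 : Q := act 6 n50217
theorem D108765 : act 6 n50217 = n108765 := rfl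
def n108766 : Q := act 5 n50218
theorem D108766 : act 5 n50218 = n108766 := rfl
theorem F168704 : act 2 n108766 = n50219 := d2_1 D108766 (iv5 D50219) D50218
def n108767 : Q := act 6 n50218
theorem D108767 : act 6 n50218 = n108767 := rfl
theorem F168705 : act 2 n108767 = n50220 := d3_1 D108767 (iv6 D50220) D50218
def n108768 : Q := act 0 n50219
theorem D108768 : act 0 n50219 = n108768 := rfl
def n108769 : Q := act 1 n50219
theorem D108769 : act 1 n50219 = n108769 := rfl
def n108770 : Q := act 4 n50219
theorem D108770 : act 4 n50219 = n108770 := rfl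
def n108771 : Q := act 6 n50219
theorem D108771 : act 6 n50219 = n108771 := rfl
theorem F168706 : act 3 n108771 = n50223 := d7_1 D108771 (iv6 D50223) (iv3 F79572)
def n108772 : Q := act 0 n50220
theorem D108772 : act 0 n50220 = n108772 := rfl
def n108773 : Q := act 1 n50220
theorem D108773 : act 1 n50220 = n108773 := rfl
def n108774 : Q := act 5 n50220
theorem D108774 : act 5 n50220 = n108774 := rfl
theorem F168707 : act 3 n108774 = n50226 := d6_1 D108774 (iv5 D50226) (iv3 F79573)
def n108775 : Q := act 7 n50220
theorem D108775 : act 7 n50220 = n108775 := rfl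
theorem F168708 : act 3 n108775 = n50227 := d8_1 D108775 (iv7 D50227) (iv3 F79573)
def n108776 : Q := act 3 n50221
theorem D108776 : act 3 n50221 = n108776 := rfl
theorem F168709 : act 5 n108776 = n50289 := d6_2 (iv5 F79574) D108776 (iv3 D50289)
def n108777 : Q := act 6 n50221
theorem D108777 : act 6 n50221 = n108777 := rfl
def n108778 : Q := act 3 n50222
theorem D108778 : act 3 n50222 = n108778 := rfl
theorem F168710 : act 5 n108778 = n50291 := d6_2 (iv5 F79577) D108778 (iv3 D50291)
def n108779 : Q := act 6 n50222
theorem D108779 : act 6 n50222 = n108779 := rfl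
def n108780 : Q := act 0 n50223
theorem D108780 : act 0 n50223 = n108780 := rfl
def n108781 : Q := act 1 n50223
theorem D108781 : act 1 n50223 = n108781 := rfl
def n108782 : Q := act 5 n50223
theorem D108782 : act 5 n50223 = n108782 := rfl
theorem F168711 : act 6 n108782 = n50226 := d12_2 D50223 D108782 (iv5 D50226) (iv6 D24494) D24493
def n108783 : Q := act 7 n50223
theorem D108783 : act 7 n50223 = n108783 := rfl
def n108784 : Q := act 2 n50224
theorem D108784 : act 2 n50224 = n108784 := rfl
theorem F168712 : act 7 n50225 = n108784 := d15_2 (iv0 D50224) D50225 (iv2 D108784)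
def n108785 : Q := act 3 n50224
theorem D108785 : act 3 n50224 = n108785 := rfl
def n108786 : Q := act 5 n50224
theorem D108786 : act 5 n50224 = n108786 := rfl
theorem F168713 : act 0 n108786 = n51463 := d17_2 D50224 D108786 (iv5 D51463) F39246 D25014 (iv0 F79580) (iv5 D50231) (iv0 D24495) (iv4 F38451)
def n108787 : Q := act 7 n50224
theorem D108787 : act 7 n50224 = n108787 := rfl
theorem F168714 : act 2 n108787 = n50225 := d4_1 D108787 F168712 (iv2 D108784)
def n108788 : Q := act 3 n50225
theorem D108788 : act 3 n50225 = n108788 := rfl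
def n108789 : Q := act 4 n50225
theorem D108789 : act 4 n50225 = n108789 := rfl
def n108790 : Q := act 5 n50225
theorem D108790 : act 5 n50225 = n108790 := rfl
def n108791 : Q := act 6 n50225
theorem D108791 : act 6 n50225 = n108791 := rfl
def n108792 : Q := act 0 n50226
theorem D108792 : act 0 n50226 = n108792 := rfl
def n108793 : Q := act 1 n50226
theorem D108793 : act 1 n50226 = n108793 := rfl
def n108794 : Q := act 4 n50226
theorem D108794 : act 4 n50226 = n108794 := rfl
def n108795 : Q := act 7 n50226
theorem D108795 : act 7 n50226 = n108795 := rfl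
theorem F168715 : act 5 n108795 = n50227 := d13_1 D108795 (iv7 D50227) D50226
def n108796 : Q := act 0 n50230
theorem D108796 : act 0 n50230 = n108796 := rfl
theorem F168716 : act 4 n108796 = n52425 := d20_2 D50230 D108796 F82772 (iv1 F76590) (iv3 F164093) F168639 (iv1 D108700) F79539 F38433 D24495
theorem F168717 : act 1 n50234 = n108796 := d15_0 (iv0 D108796) (iv7 F168474) F168473
theorem F168718 : act 7 n108796 = n52422 := d15_2 (iv0 F168436) F168717 (iv2 F164673)
theorem F168719 : act 6 n65909 = n108796 := d14_5 F168718 (iv6 D52422) F40221 D30842 D65909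
def n108797 : Q := act 3 n50230
theorem D108797 : act 3 n50230 = n108797 := rfl
def n108798 : Q := act 5 n50230
theorem D108798 : act 5 n50230 = n108798 := rfl
theorem F168720 : act 0 n108798 = n51498 := d17_2 (iv1 F168438) D108798 (iv5 D51498) (iv4 F81276) F81277 D60512 (iv5 F164675) (iv0 D106859) (iv4 F164674)
def n108799 : Q := act 4 n50231
theorem D108799 : act 4 n50231 = n108799 := rfl
theorem F168721 : act 2 n108799 = n62554 := d1_1 D108799 (iv4 D62554) (iv2 F164309)
theorem F168722 : act 7 n108799 = n63408 := d11_2 (iv7 F164311) D108799 (iv4 D63408)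
theorem F168723 : act 0 n108799 = n60510 := d18_2 (iv1 F79582) D108799 F95130 (iv5 F81277) F81276 (iv0 F168440) (iv4 D51471) F81035 F81032
def n108800 : Q := act 6 n50231
theorem D108800 : act 6 n50231 = n108800 := rfl
theorem F168724 : act 2 n108800 = n62555 := d3_1 D108800 (iv6 D62555) (iv2 F164309)
theorem F168725 : act 0 n108800 = n63158 := d21_4 (iv5 D24497) D24495 D50231 D108800 F98430 F98302 F164039 (iv5 D63179) (iv6 F48245) (iv1 F163900)
theorem F168726 : act 0 n63153 = n108800 := d21_4 F168238 (iv1 F168236) F101816 F98427 (iv6 D108800) (iv5 D50231) (iv1 F79457) F79453 (iv6 F98253) (iv1 F98254)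
def n108801 : Q := act 3 n50234
theorem D108801 : act 3 n50234 = n108801 := rfl
theorem F168727 : act 4 n108801 = n50520 := d5_2 D50234 D108801 (iv3 D50520) (iv4 D24612) F164319
def n108802 : Q := act 5 n50234
theorem D108802 : act 5 n50234 = n108802 := rfl
theorem F168728 : act 1 n108802 = n51498 := d17_6 (iv1 D25013) D25014 F164313 (iv5 F164314) D50234 D108802 (iv5 D51498) (iv0 F168440) (iv4 D51471)
def n108803 : Q := act 6 n50234
theorem D108803 : act 6 n50234 = n108803 := rfl
theorem F168729 : act 4 n108803 = n50236 := d10_1 D108803 (iv6 D50236) D50234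
def n108804 : Q := act 4 n50237
theorem D108804 : act 4 n50237 = n108804 := rfl
theorem F168730 : act 2 n108804 = n63093 := d1_1 D108804 (iv4 D63093) (iv2 F101651)
theorem F168731 : act 7 n108804 = n63097 := d11_2 (iv7 F101652) D108804 (iv4 D63097)
theorem F168732 : act 0 n108804 = n63118 := d18_2 D50237 D108804 (iv4 F164171) F164172 (iv4 F168716) (iv0 D108796) (iv4 D50230) (iv0 D24495) D24497
theorem F168733 : act 1 n108804 = n62969 := d15_0 F168435 (iv7 F163914) (iv2 F168730)
def n108805 : Q := act 6 n50237
theorem D108805 : act 6 n50237 = n108805 := rfl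
theorem F168734 : act 2 n108805 = n63094 := d3_1 D108805 (iv6 D63094) (iv2 F101651)
theorem F168735 : act 3 n108805 = n66280 := d7_1 D108805 F102089 F168271
theorem F168736 : act 5 n108805 = n63045 := d12_1 D108805 F101257 D65941 F101656 F81028
theorem F168737 : act 0 n108805 = n53522 := d21_4 (iv5 F39163) D51341 F81028 D108805 (iv6 F84437) D63158 (iv1 F164124) (iv5 F97534) (iv6 D62555) F164106
theorem F168738 : act 0 n53518 = n108805 := d21_4 (iv5 D14658) D14656 D30964 (iv6 F84435) (iv6 D108805) (iv5 F81028) (iv1 F81034) (iv5 F81248) F81249 (iv1 F48174)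
def n108806 : Q := act 0 n50239
theorem D108806 : act 0 n50239 = n108806 := rfl
def n108807 : Q := act 1 n50239
theorem D108807 : act 1 n50239 = n108807 := rfl
theorem F168739 : act 1 n108807 = n63090 := d15_1 D108807 (iv7 D63090) (iv2 F79586)
def n108808 : Q := act 3 n50239
theorem D108808 : act 3 n50239 = n108808 := rfl
theorem F168740 : act 4 n108808 = n60645 := d5_2 D50239 D108808 F95249 (iv4 F48371) F48370
theorem F168741 : act 6 n108808 = n50242 := d7_2 (iv6 F79587) D108808 (iv3 D50242)
def n108809 : Q := act 5 n50239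
theorem D108809 : act 5 n50239 = n108809 := rfl
theorem F168742 : act 2 n108809 = n63089 := d2_1 D108809 (iv5 D63089) (iv2 F79586)
def n108810 : Q := act 7 n50239
theorem D108810 : act 7 n50239 = n108810 := rfl
theorem F168743 : act 2 n108810 = n63090 := d4_1 D108810 (iv7 D63090) (iv2 F79586)
theorem F168744 : act 4 n108810 = n50240 := d11_1 D108810 (iv7 D50240) D50239
theorem F168745 : act 6 n108810 = n63065 := d14_1 D108810 (iv7 D63065) (iv6 D29830) (iv7 F38455) (iv6 F79587)
theorem F168746 : act 1 n63090 = n108806 := d15_0 (iv0 D108806) D108810 F168743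
theorem F168747 : act 1 n63088 = n108810 := d15_1 D63088 (iv7 D108810) F79586
theorem F168748 : act 4 n108806 = n106594 := d18_7 D52423 F168448 (iv1 F168447) F168443 F79453 (iv4 F98393) F168746 (iv0 D106594) F77829
theorem F168749 : act 3 n106594 = n59383 := d20_3 D50239 D108806 F168748 F93691 F47236 (iv4 F47253) (iv1 F47256) F80117 D30025 (iv1 F163900)
theorem F168750 : act 1 n108810 = n63087 := d15_0 (iv0 D63087) D63090 (iv2 F168743)
def n108811 : Q := act 3 n50241
theorem D108811 : act 3 n50241 = n108811 := rfl
theorem F168751 : act 4 n108811 = n63159 := d5_2 (iv4 F79600) D108811 (iv3 D63159) (iv4 F80566) F80565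
theorem F168752 : act 7 n108811 = n51085 := d8_2 (iv7 F79599) D108811 (iv3 D51085)
theorem F168753 : act 0 n108811 = n63244 := d20_4 F46993 (iv1 F38935) (iv4 F79600) D108811 (iv3 D63244) (iv4 D29892) (iv1 D14197) (iv4 F23694) (iv3 D14182) D14180
def n108812 : Q := act 5 n50241
theorem D108812 : act 5 n50241 = n108812 := rfl
theorem F168754 : act 2 n108812 = n63007 := d2_1 D108812 F98320 F79601
theorem F168755 : act 4 n108812 = n74415 := d9_1 D108812 F111683 F53723 (iv5 D24844) F19136 D11778 D24848 D51079 (iv4 F111690) F111689 (iv4 F53730) F38972 F19168 (iv5 F38933) (iv4 F79600)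
theorem F168756 : act 7 n108812 = n51086 := d13_2 (iv7 F79599) D108812 (iv5 D51086)
theorem F168757 : act 0 n108812 = n62959 := d17_2 (iv1 F79598) D108812 (iv5 D62959) (iv4 D29782) (iv5 D14153) F10981 (iv5 F10994) F23655 D29784
theorem F168758 : act 1 n108812 = n62957 := d17_6 (iv1 F46441) (iv5 D24845) (iv1 F19151) (iv5 F38933) (iv4 F79600) D108812 (iv5 D62957) (iv0 F95289) (iv4 D60699)
def n108813 : Q := act 6 n50241
theorem D108813 : act 6 n50241 = n108813 := rfl
theorem F168759 : act 2 n108813 = n63053 := d3_1 D108813 (iv6 D63053) F79601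
theorem F168760 : act 4 n108813 = n51087 := d10_1 D108813 (iv6 D51087) (iv4 F79600)
theorem F168761 : act 7 n108813 = n108522 := d14_2 (iv7 F79599) D108813 (iv6 D108522) (iv7 D50111) (iv6 F38929)
theorem F168762 : act 1 n63152 = n108813 := d15_1 (iv0 F101901) F168761 F167782
theorem F168763 : act 1 n108813 = n63157 := d15_1 F168762 (iv7 F102128) F102148
def n108814 : Q := act 0 n50242
theorem D108814 : act 0 n50242 = n108814 := rfl
theorem F168764 : act 1 n63056 = n108814 := d15_0 (iv0 D108814) F79603 D63056
def n108815 : Q := act 1 n50242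
theorem D108815 : act 1 n50242 = n108815 := rfl
def n108816 : Q := act 2 n50242
theorem D108816 : act 2 n50242 = n108816 := rfl
theorem F168765 : act 3 n108816 = n63083 := d0_2 D50242 D108816 (iv2 D63083) (iv3 D29836) (iv2 F38454)
theorem F168766 : act 4 n108816 = n60643 := d1_2 (iv4 F79602) D108816 (iv2 D60643)
theorem F168767 : act 7 n108816 = n63056 := d4_2 (iv7 F79603) D108816 (iv2 D63056)
theorem F168768 : act 1 n108816 = n63054 := d15_0 (iv0 D63054) (iv7 F79603) D108816
theorem F168769 : act 1 n108815 = n63056 := d15_1 D108815 (iv7 F168767) (iv2 D108816)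
theorem F168770 : act 1 n63055 = n108816 := d15_1 D63055 F168767 (iv2 D63056)
def n108817 : Q := act 5 n50242
theorem D108817 : act 5 n50242 = n108817 := rfl
theorem F168771 : act 3 n108817 = n50243 := d6_1 D108817 (iv5 D50243) D50242
theorem F168772 : act 7 n108817 = n63057 := d13_2 (iv7 F79603) D108817 (iv5 D63057)
def n108818 : Q := act 6 n50243
theorem D108818 : act 6 n50243 = n108818 := rfl
theorem F168773 : act 2 n108818 = n63086 := d3_1 D108818 (iv6 D63086) (iv2 F79604)
def n108819 : Q := act 3 n50245
theorem D108819 : act 3 n50245 = n108819 := rfl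
theorem F168774 : act 4 n108819 = n52250 := d5_2 D50245 D108819 (iv3 D52250) (iv4 D25379) (iv3 F38462)
theorem F168775 : act 7 n108819 = n52224 := d8_2 (iv7 F79610) D108819 (iv3 D52224)
def n108820 : Q := act 6 n50245
theorem D108820 : act 6 n50245 = n108820 := rfl
theorem F168776 : act 2 n108820 = n50253 := d3_1 D108820 (iv6 D50253) (iv2 F79609)
theorem F168777 : act 4 n108820 = n50246 := d10_1 D108820 (iv6 D50246) D50245
theorem F168778 : act 0 n51938 = n108820 := d21_4 D108009 F166887 (iv5 D51937) D51938 (iv6 D108820) (iv5 F165992) (iv1 D107589) (iv5 D49703) (iv6 F38111) D49882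
theorem F168779 : act 0 n108820 = n52054 := d20_1 (iv4 F168777) (iv4 D52054) D52053 (iv1 F93033) F82850 (iv4 F82852) (iv1 F92991) F92989 (iv3 F81143) F81146
def n108821 : Q := act 7 n50246
theorem D108821 : act 7 n50246 = n108821 := rfl
theorem F168780 : act 2 n108821 = n50256 := d4_1 D108821 (iv7 D50256) (iv2 F79613)
theorem F168781 : act 3 n108821 = n52255 := d8_1 D108821 (iv7 D52255) (iv3 F79614)
theorem F168782 : act 6 n108821 = n52230 := d14_1 D108821 (iv7 D52230) (iv6 D25368) (iv7 F38463) D50246
theorem F168783 : act 1 n50255 = n108821 := d15_1 D50255 (iv7 D108821) F79613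
theorem F168784 : act 1 n108821 = n50254 := d15_1 F168783 F81588 F81142
def n108822 : Q := act 3 n50247
theorem D108822 : act 3 n50247 = n108822 := rfl
theorem F168785 : act 4 n108822 = n59411 := d5_2 D50247 D108822 (iv3 D59411) (iv4 D28212) (iv3 F38468)
theorem F168786 : act 5 n108822 = n53348 := d6_2 F79619 D108822 (iv3 D53348)
theorem F168787 : act 7 n108822 = n59437 := d8_2 (iv7 F79616) D108822 (iv3 D59437)
def n108823 : Q := act 6 n50247
theorem D108823 : act 6 n50247 = n108823 := rfl
theorem F168788 : act 2 n108823 = n65534 := d3_1 D108823 (iv6 D65534) (iv2 F79615)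
theorem F168789 : act 4 n108823 = n50248 := d10_1 D108823 (iv6 D50248) D50247
theorem F168790 : act 0 n53248 = n108823 := d21_4 D34087 D74294 F111501 (iv6 F99221) (iv6 D108823) (iv5 F79619) (iv1 D25853) (iv5 D12271) (iv6 F11901) D16510
theorem F168791 : act 0 n108823 = n53246 := d20_1 (iv4 F168789) (iv4 D53246) F83901 (iv1 F20404) (iv3 F24304) (iv4 F49328) (iv1 F100840) F100838 (iv3 F166050) F166053
theorem F168792 : act 7 n66156 = n108823 := d15_2 (iv0 F101267) D66156 F168788
def n108824 : Q := act 0 n50248
theorem D108824 : act 0 n50248 = n108824 := rfl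
def n108825 : Q := act 7 n50248
theorem D108825 : act 7 n50248 = n108825 := rfl
theorem F168793 : act 3 n108825 = n53958 := d8_1 D108825 F85097 (iv3 F79620)
theorem F168794 : act 4 n108825 = n66156 := d11_1 D108825 F168792 F168789
theorem F168795 : act 6 n108825 = n59441 := d14_1 D108825 (iv7 D59441) (iv6 D28225) (iv7 F38469) D50248
theorem F168796 : act 1 n53937 = n108825 := d15_1 (iv0 F85074) (iv7 D108825) (iv2 F80620)
def n108826 : Q := act 0 n50250
theorem D108826 : act 0 n50250 = n108826 := rfl
def n108827 : Q := act 1 n50250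
theorem D108827 : act 1 n50250 = n108827 := rfl
theorem F168797 : act 1 n108827 = n107135 := d15_1 D108827 (iv7 D107135) (iv2 F79624)
theorem F168798 : act 5 n107242 = n108827 := d21_6 (iv5 F38483) (iv1 F38484) F19220 D24179 D49547 D107242 (iv1 D108827) F79626 (iv6 D49487) (iv1 F38580)
theorem F168799 : act 3 n108827 = n107163 := d6_1 F168798 F165151 (iv3 F165298)
theorem F168800 : act 6 n107161 = n108827 := d7_0 F168799 (iv6 D107163) D107161
def n108828 : Q := act 7 n50250
theorem D108828 : act 7 n50250 = n108828 := rfl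
theorem F168801 : act 2 n108828 = n107135 := d4_1 D108828 (iv7 D107135) (iv2 F79624)
theorem F168802 : act 3 n108828 = n50437 := d8_1 D108828 (iv7 D50437) (iv3 F79625)
theorem F168803 : act 5 n108828 = n107121 := d13_1 D108828 (iv7 D107121) (iv5 F79626)
theorem F168804 : act 6 n108828 = n50553 := d14_1 D108828 F81155 (iv6 F81151) F39415 D50250
theorem F168805 : act 1 n107135 = n108826 := d15_0 (iv0 D108826) D108828 F168801
theorem F168806 : act 1 n107134 = n108828 := d15_1 D107134 (iv7 D108828) F79624
theorem F168807 : act 1 n108828 = n107133 := d15_0 (iv0 D107133) D107135 (iv2 F168801)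
def n108829 : Q := act 0 n50251
theorem D108829 : act 0 n50251 = n108829 := rfl
def n108830 : Q := act 1 n50251
theorem D108830 : act 1 n50251 = n108830 := rfl
def n108831 : Q := act 2 n50251
theorem D108831 : act 2 n50251 = n108831 := rfl
theorem F168808 : act 4 n108831 = n50268 := d1_2 (iv4 F79627) D108831 (iv2 D50268)
def n108832 : Q := act 5 n50251
theorem D108832 : act 5 n50251 = n108832 := rfl
theorem F168809 : act 3 n108832 = n50252 := d6_1 D108832 (iv5 D50252) D50251
def n108833 : Q := act 6 n50251
theorem D108833 : act 6 n50251 = n108833 := rfl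
theorem F168810 : act 3 n108833 = n50253 := d7_1 D108833 (iv6 D50253) D50251
theorem F168811 : act 4 n108833 = n50270 := d10_1 D108833 (iv6 D50270) (iv4 F79627)
def n108834 : Q := act 6 n50252
theorem D108834 : act 6 n50252 = n108834 := rfl
theorem F168812 : act 4 n108834 = n53347 := d10_1 D108834 (iv6 D53347) F80283
def n108835 : Q := act 0 n50253
theorem D108835 : act 0 n50253 = n108835 := rfl
theorem F168813 : act 2 n52054 = n108835 := d15_3 (iv0 D108835) (iv0 F80451) (iv7 F82271)
theorem F168814 : act 4 n108835 = n51940 := d1_2 D52054 F168813 F82019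
theorem F168815 : act 7 n108835 = n51938 := d4_2 (iv7 F82271) F168813 F82008
def n108836 : Q := act 5 n50253
theorem D108836 : act 5 n50253 = n108836 := rfl
def n108837 : Q := act 7 n50253
theorem D108837 : act 7 n50253 = n108837 := rfl
theorem F168816 : act 4 n108837 = n50256 := d11_1 D108837 (iv7 D50256) (iv4 F79629)
theorem F168817 : act 1 n51938 = n108837 := d15_1 (iv0 F168778) (iv7 D108837) (iv2 F168776)
theorem F168818 : act 1 n108837 = n52054 := d15_1 F168817 F82271 (iv2 F82008)
def n108838 : Q := act 5 n50254
theorem D108838 : act 5 n50254 = n108838 := rfl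
theorem F168819 : act 2 n108838 = n74258 := d2_1 D108838 F111137 F81586
theorem F168820 : act 3 n108838 = n52309 := d6_1 D108838 (iv5 D52309) (iv3 F81587)
theorem F168821 : act 7 n108838 = n51290 := d13_2 (iv7 F81588) D108838 (iv5 F81145)
theorem F168822 : act 6 n108838 = n64306 := d21_9 F164920 F164924 F79314 (iv6 D25797) (iv1 F37866) D49489 F78238 D50254 D108838 (iv1 F100136)
theorem F168823 : act 0 n74256 = n108838 := d21_4 F111066 (iv1 F163548) (iv5 F163551) (iv6 F163531) F168822 F100134 (iv1 F48711) (iv5 F79802) (iv6 F111070) (iv1 F111075)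
theorem F168824 : act 4 n108125 = n108838 := d11_3 F168821 F80905 D108125
theorem F168825 : act 1 n74257 = n108838 := d15_1 D74257 F168821 F80903
theorem F168826 : act 2 n65101 = n74257 := d15_3 F168825 (iv0 F168823) F163556
theorem F168827 : act 3 n74257 = n52205 := d0_2 D65101 F168826 F161363 (iv3 F161359) F102476
theorem F168828 : act 0 n107763 = n108125 := d18_2 F166080 D107763 F168824 (iv5 D108838) (iv4 F161138) (iv0 D52050) F39865 (iv0 F39684) (iv5 F78895)
def n108839 : Q := act 6 n50254
theorem D108839 : act 6 n50254 = n108839 := rfl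
theorem F168829 : act 2 n108839 = n64465 := d3_1 D108839 F100415 F81586
theorem F168830 : act 3 n108839 = n52310 := d7_1 D108839 (iv6 D52310) (iv3 F81587)
theorem F168831 : act 5 n108839 = n63946 := d12_1 D108839 F99474 (iv5 F100134) (iv6 F168822) (iv5 D108838)
theorem F168832 : act 7 n108839 = n52294 := d14_2 (iv7 F81588) D108839 (iv6 D52294) F40173 D51400
theorem F168833 : act 1 n64464 = n108839 := d15_1 D64464 F168832 F82667
theorem F168834 : act 1 n108839 = n64463 := d15_0 (iv0 D64463) D64465 (iv2 F168829)
def n108840 : Q := act 3 n50257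
theorem D108840 : act 3 n50257 = n108840 := rfl
theorem F168835 : act 4 n108840 = n50259 := d5_2 D50257 D108840 (iv3 D50259) (iv4 D24512) (iv3 F38486)
theorem F168836 : act 5 n108840 = n64044 := d6_2 (iv5 F79636) D108840 (iv3 D64044)
theorem F168837 : act 7 n108840 = n59444 := d8_2 (iv7 F79635) D108840 (iv3 D59444)
def n108841 : Q := act 6 n50257
theorem D108841 : act 6 n50257 = n108841 := rfl
theorem F168838 : act 2 n108841 = n59496 := d3_1 D108841 (iv6 D59496) (iv2 F79634)
theorem F168839 : act 4 n108841 = n50258 := d10_1 D108841 (iv6 D50258) D50257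
theorem F168840 : act 0 n50623 = n108841 := d21_4 D63903 (iv1 F99798) (iv5 D64112) (iv6 F79997) (iv6 D108841) F79636 (iv1 D30192) (iv5 D14329) (iv6 F23908) D30140
theorem F168841 : act 1 n63957 = n108841 := d15_0 (iv0 F168840) F79998 (iv2 F99505)
theorem F168842 : act 7 n64500 = n108841 := d11_0 F168839 (iv7 F165862) F165859
def n108842 : Q := act 0 n50259
theorem D108842 : act 0 n50259 = n108842 := rfl
theorem F168843 : act 3 n108842 = n53412 := d20_5 F40855 (iv1 F38436) D24512 D50259 D108842 (iv4 D53412) (iv1 D25875) (iv4 F40865) (iv3 D25866) D25864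
def n108843 : Q := act 1 n50259
theorem D108843 : act 1 n50259 = n108843 := rfl
def n108844 : Q := act 2 n50259
theorem D108844 : act 2 n50259 = n108844 := rfl
theorem F168844 : act 1 n108844 = n66057 := d15_0 (iv0 F167963) F167962 D108844
def n108845 : Q := act 6 n50259
theorem D108845 : act 6 n50259 = n108845 := rfl
theorem F168845 : act 3 n108845 = n50260 := d7_1 D108845 (iv6 D50260) D50259
def n108846 : Q := act 5 n50260
theorem D108846 : act 5 n50260 = n108846 := rfl
def n108847 : Q := act 7 n50260
theorem D108847 : act 7 n50260 = n108847 := rfl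
theorem F168846 : act 2 n108847 = n65997 := d4_1 D108847 F162132 F162128
theorem F168847 : act 4 n108847 = n50264 := d11_1 D108847 (iv7 D50264) (iv4 F79642)
theorem F168848 : act 1 n50314 = n108847 := d15_1 (iv0 F162130) (iv7 D108847) (iv2 F162128)
theorem F168849 : act 1 n108847 = n65890 := d15_1 F168848 F101562 (iv2 F79695)
def n108848 : Q := act 6 n50261
theorem D108848 : act 6 n50261 = n108848 := rfl
theorem F168850 : act 3 n108848 = n53936 := d7_1 D108848 (iv6 D53936) (iv3 F101678)
theorem F168851 : act 5 n108848 = n74403 := d12_1 D108848 F111652 (iv5 F163205) F163206 (iv5 F101680)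
theorem F168852 : act 7 n108848 = n74402 := d14_2 (iv7 F101681) D108848 F111649 F53569 (iv6 F93310)
def n108849 : Q := act 0 n50263
theorem D108849 : act 0 n50263 = n108849 := rfl
def n108850 : Q := act 1 n50263
theorem D108850 : act 1 n50263 = n108850 := rfl
theorem F168853 : act 1 n108850 = n65912 := d15_1 D108850 F101607 F82223
def n108851 : Q := act 4 n50263
theorem D108851 : act 4 n50263 = n108851 := rfl
theorem F168854 : act 2 n108851 = n51370 := d1_1 D108851 (iv4 F82225) F82223
theorem F168855 : act 6 n108851 = n50265 := d10_2 (iv6 F79643) D108851 (iv4 D50265)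
theorem F168856 : act 1 n108851 = n66009 := d18_6 (iv1 F49266) D30882 F100431 F79642 D50263 D108851 (iv4 D66009) F81084 F81081
def n108852 : Q := act 7 n50263
theorem D108852 : act 7 n50263 = n108852 := rfl
theorem F168857 : act 2 n108852 = n65912 := d4_1 D108852 F101607 F82223
theorem F168858 : act 5 n108852 = n50264 := d13_1 D108852 (iv7 D50264) D50263
theorem F168859 : act 6 n108852 = n65879 := d14_1 D108852 F101539 (iv6 F49311) F45184 (iv6 F79643)
theorem F168860 : act 1 n65912 = n108849 := d15_0 (iv0 D108849) D108852 F168857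
def n108853 : Q := act 3 n50265
theorem D108853 : act 3 n50265 = n108853 := rfl
theorem F168861 : act 4 n108853 = n51562 := d5_2 D50265 D108853 (iv3 D51562) (iv4 F76573) (iv3 F76577)
theorem F168862 : act 7 n108853 = n51371 := d8_2 (iv7 F79645) D108853 (iv3 D51371)
def n108854 : Q := act 2 n50266
theorem D108854 : act 2 n50266 = n108854 := rfl
theorem F168863 : act 7 n50267 = n108854 := d15_2 (iv0 D50266) D50267 (iv2 D108854)
def n108855 : Q := act 3 n50266
theorem D108855 : act 3 n50266 = n108855 := rfl
def n108856 : Q := act 4 n50266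
theorem D108856 : act 4 n50266 = n108856 := rfl
def n108857 : Q := act 5 n50266
theorem D108857 : act 5 n50266 = n108857 := rfl
def n108858 : Q := act 6 n50266
theorem D108858 : act 6 n50266 = n108858 := rfl
def n108859 : Q := act 7 n50266
theorem D108859 : act 7 n50266 = n108859 := rfl
theorem F168864 : act 2 n108859 = n50267 := d4_1 D108859 F168863 (iv2 D108854)
def n108860 : Q := act 3 n50267
theorem D108860 : act 3 n50267 = n108860 := rfl
def n108861 : Q := act 4 n50267
theorem D108861 : act 4 n50267 = n108861 := rfl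
theorem F168865 : act 3 n50914 = n108861 := d20_5 (iv4 D24757) (iv1 D11721) D11722 D24761 D50914 (iv4 D108861) (iv1 D50267) (iv4 F79627) (iv3 D50251) (iv1 F39838)
def n108862 : Q := act 5 n50267
theorem D108862 : act 5 n50267 = n108862 := rfl
def n108863 : Q := act 6 n50267
theorem D108863 : act 6 n50267 = n108863 := rfl
def n108864 : Q := act 5 n50268
theorem D108864 : act 5 n50268 = n108864 := rfl
theorem F168866 : act 2 n108864 = n50269 := d2_1 D108864 (iv5 D50269) D50268
def n108865 : Q := act 6 n50268
theorem D108865 : act 6 n50268 = n108865 := rfl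
theorem F168867 : act 2 n108865 = n50270 := d3_1 D108865 (iv6 D50270) D50268
def n108866 : Q := act 0 n50269
theorem D108866 : act 0 n50269 = n108866 := rfl
def n108867 : Q := act 1 n50269
theorem D108867 : act 1 n50269 = n108867 := rfl
def n108868 : Q := act 4 n50269
theorem D108868 : act 4 n50269 = n108868 := rfl
def n108869 : Q := act 6 n50269
theorem D108869 : act 6 n50269 = n108869 := rfl
theorem F168868 : act 3 n108869 = n50271 := d7_1 D108869 (iv6 D50271) (iv3 F79648)
def n108870 : Q := act 0 n50270
theorem D108870 : act 0 n50270 = n108870 := rfl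
def n108871 : Q := act 1 n50270
theorem D108871 : act 1 n50270 = n108871 := rfl
def n108872 : Q := act 5 n50270
theorem D108872 : act 5 n50270 = n108872 := rfl
theorem F168869 : act 3 n108872 = n50274 := d6_1 D108872 (iv5 D50274) (iv3 F79649)
def n108873 : Q := act 7 n50270
theorem D108873 : act 7 n50270 = n108873 := rfl
theorem F168870 : act 3 n108873 = n50275 := d8_1 D108873 (iv7 D50275) (iv3 F79649)
def n108874 : Q := act 0 n50271
theorem D108874 : act 0 n50271 = n108874 := rfl
def n108875 : Q := act 1 n50271
theorem D108875 : act 1 n50271 = n108875 := rfl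
def n108876 : Q := act 5 n50271
theorem D108876 : act 5 n50271 = n108876 := rfl
theorem F168871 : act 6 n108876 = n50274 := d12_2 D50271 D108876 (iv5 D50274) (iv6 D24519) D24518
def n108877 : Q := act 7 n50271
theorem D108877 : act 7 n50271 = n108877 := rfl
def n108878 : Q := act 3 n50272
theorem D108878 : act 3 n50272 = n108878 := rfl
def n108879 : Q := act 5 n50272
theorem D108879 : act 5 n50272 = n108879 := rfl
def n108880 : Q := act 6 n50272
theorem D108880 : act 6 n50272 = n108880 := rfl
theorem F168872 : act 4 n108880 = n108852 := d10_1 D108880 F168859 (iv4 F101603)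
theorem F168873 : act 7 n108880 = n108851 := d14_2 (iv7 F101604) D108880 F168855 F79645 D51373
def n108881 : Q := act 3 n50273
theorem D108881 : act 3 n50273 = n108881 := rfl
def n108882 : Q := act 5 n50273
theorem D108882 : act 5 n50273 = n108882 := rfl
def n108883 : Q := act 0 n50274
theorem D108883 : act 0 n50274 = n108883 := rfl
def n108884 : Q := act 1 n50274
theorem D108884 : act 1 n50274 = n108884 := rfl
def n108885 : Q := act 4 n50274
theorem D108885 : act 4 n50274 = n108885 := rfl
def n108886 : Q := act 7 n50274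
theorem D108886 : act 7 n50274 = n108886 := rfl
theorem F168874 : act 5 n108886 = n50275 := d13_1 D108886 (iv7 D50275) D50274
def n108887 : Q := act 0 n50276
theorem D108887 : act 0 n50276 = n108887 := rfl
theorem F168875 : act 2 n65909 = n108887 := d15_3 (iv0 D108887) (iv0 F79651) D65909
theorem F168876 : act 1 n50277 = n108887 := d15_0 (iv0 D108887) F81094 F81092
theorem F168877 : act 7 n108887 = n65878 := d15_2 (iv0 F81267) F168876 F101532
theorem F168878 : act 4 n65880 = n108887 := d11_3 F168877 F101533 D65880
def n108888 : Q := act 3 n50276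
theorem D108888 : act 3 n50276 = n108888 := rfl
theorem F168879 : act 4 n108888 = n50581 := d5_2 D50276 D108888 (iv3 D50581) (iv4 D24639) (iv3 F49341)
def n108889 : Q := act 5 n50276
theorem D108889 : act 5 n50276 = n108889 := rfl
def n108890 : Q := act 3 n50277
theorem D108890 : act 3 n50277 = n108890 := rfl
def n108891 : Q := act 5 n50277
theorem D108891 : act 5 n50277 = n108891 := rfl
def n108892 : Q := act 4 n50278
theorem D108892 : act 4 n50278 = n108892 := rfl
theorem F168880 : act 2 n108892 = n65421 := d1_1 D108892 (iv4 D65421) (iv2 F81225)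
theorem F168881 : act 7 n108892 = n65425 := d11_2 F81224 D108892 (iv4 D65425)
theorem F168882 : act 0 n53457 = n108892 := d20_7 (iv4 F49198) (iv1 F79943) F79944 (iv3 F100157) (iv1 D49623) (iv3 F49302) (iv4 F84353) (iv4 D108892) F168230 (iv1 F38641)
theorem E16938 : n65447 = n65421 := ((c15_4 (iv0 D65447) (iv0 F101535) (iv7 F168881) F168880)).symm
theorem F168883 : act 1 n65421 = n30687 := (sb E16938 (iv0 D65447))
def n108893 : Q := act 4 n50279
theorem D108893 : act 4 n50279 = n108893 := rfl
theorem F168884 : act 2 n108893 = n65425 := d1_1 D108893 (iv4 D65425) F81226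
theorem F168885 : act 7 n108893 = n65421 := d11_2 (iv7 F81227) D108893 (iv4 D65421)
theorem F168886 : act 0 n108893 = n53457 := d18_2 (iv1 F79652) D108893 F84353 (iv5 D30845) (iv4 F49301) (iv0 F81267) (iv4 D50277) F79469 F79467
theorem F168887 : act 1 n108893 = n65450 := d15_1 (iv0 F168886) (iv7 D65450) (iv2 F84352)
theorem F168888 : act 1 n65450 = n108892 := d15_1 F168887 F168881 (iv2 F168884)
def n108894 : Q := act 0 n50280
theorem D108894 : act 0 n50280 = n108894 := rfl
def n108895 : Q := act 1 n50280
theorem D108895 : act 1 n50280 = n108895 := rfl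
theorem F168889 : act 1 n108895 = n65419 := d15_1 D108895 (iv7 D65419) (iv2 F79653)
theorem F168890 : act 4 n108895 = n67640 := d18_7 (iv1 F80310) (iv4 F81208) (iv1 D50273) F38496 D24522 D50280 D108895 (iv0 F165728) F101614
def n108896 : Q := act 3 n50280
theorem D108896 : act 3 n50280 = n108896 := rfl
theorem F168891 : act 6 n108896 = n50282 := d7_2 (iv6 F79654) D108896 (iv3 D50282)
def n108897 : Q := act 5 n50280
theorem D108897 : act 5 n50280 = n108897 := rfl
theorem F168892 : act 2 n108897 = n65418 := d2_1 D108897 (iv5 D65418) (iv2 F79653)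
def n108898 : Q := act 7 n50280
theorem D108898 : act 7 n50280 = n108898 := rfl
theorem F168893 : act 2 n108898 = n65419 := d4_1 D108898 (iv7 D65419) (iv2 F79653)
theorem F168894 : act 4 n108898 = n50281 := d11_1 D108898 (iv7 D50281) D50280
theorem F168895 : act 6 n108898 = n65439 := d14_1 D108898 (iv7 D65439) (iv6 D30682) (iv7 F38500) (iv6 F79654)
theorem F168896 : act 1 n65419 = n108894 := d15_0 (iv0 D108894) D108898 F168893
theorem F168897 : act 1 n65417 = n108898 := d15_1 D65417 (iv7 D108898) F79653
theorem F168898 : act 1 n108898 = n65416 := d15_0 (iv0 D65416) D65419 (iv2 F168893)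
theorem F168899 : act 4 n65416 = n65914 := d18_7 D30843 D65910 F101600 F79650 (iv5 F79656) (iv4 F168894) F168898 (iv0 D65914) (iv5 D30845)
theorem F168900 : act 3 n65914 = n59453 := d20_3 (iv4 F49132) D65416 F168899 (iv1 F93851) F49689 (iv4 F49709) (iv1 F49711) (iv4 D30738) F168262 (iv1 D30676)
def n108899 : Q := act 0 n50282
theorem D108899 : act 0 n50282 = n108899 := rfl
theorem F168901 : act 1 n65433 = n108899 := d15_0 (iv0 D108899) F79661 D65433
def n108900 : Q := act 1 n50282
theorem D108900 : act 1 n50282 = n108900 := rfl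
def n108901 : Q := act 2 n50282
theorem D108901 : act 2 n50282 = n108901 := rfl
theorem F168902 : act 3 n108901 = n65412 := d0_2 D50282 D108901 (iv2 D65412) (iv3 D30672) (iv2 F38499)
theorem F168903 : act 7 n108901 = n65433 := d4_2 (iv7 F79661) D108901 (iv2 D65433)
theorem F168904 : act 1 n108901 = n65431 := d15_0 (iv0 D65431) (iv7 F79661) D108901
theorem F168905 : act 1 n108900 = n65433 := d15_1 D108900 (iv7 F168903) (iv2 D108901)
theorem F168906 : act 1 n65432 = n108901 := d15_1 D65432 F168903 (iv2 D65433)
def n108902 : Q := act 5 n50282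
theorem D108902 : act 5 n50282 = n108902 := rfl
theorem F168907 : act 3 n108902 = n50283 := d6_1 D108902 (iv5 D50283) D50282
theorem F168908 : act 7 n108902 = n65434 := d13_2 (iv7 F79661) D108902 (iv5 D65434)
def n108903 : Q := act 6 n50283
theorem D108903 : act 6 n50283 = n108903 := rfl
theorem F168909 : act 2 n108903 = n65415 := d3_1 D108903 (iv6 D65415) (iv2 F79662)
def n108904 : Q := act 0 n50284
theorem D108904 : act 0 n50284 = n108904 := rfl
theorem F168910 : act 1 n58924 = n108904 := d15_0 (iv0 D108904) F79665 D58924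
def n108905 : Q := act 1 n50284
theorem D108905 : act 1 n50284 = n108905 := rfl
def n108906 : Q := act 2 n50284
theorem D108906 : act 2 n50284 = n108906 := rfl
theorem F168911 : act 3 n108906 = n58914 := d0_2 D50284 D108906 (iv2 D58914) (iv3 D28006) (iv2 F38501)
theorem F168912 : act 4 n108906 = n50294 := d1_2 (iv4 F79664) D108906 (iv2 D50294)
theorem F168913 : act 7 n108906 = n58924 := d4_2 (iv7 F79665) D108906 (iv2 D58924)
theorem F168914 : act 1 n108906 = n58922 := d15_0 (iv0 D58922) (iv7 F79665) D108906
theorem F168915 : act 1 n108905 = n58924 := d15_1 D108905 (iv7 F168913) (iv2 D108906)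
theorem F168916 : act 1 n58923 = n108906 := d15_1 D58923 F168913 (iv2 D58924)
def n108907 : Q := act 5 n50284
theorem D108907 : act 5 n50284 = n108907 := rfl
theorem F168917 : act 3 n108907 = n50285 := d6_1 D108907 (iv5 D50285) D50284
theorem F168918 : act 7 n108907 = n58925 := d13_2 (iv7 F79665) D108907 (iv5 D58925)
def n108908 : Q := act 6 n50284
theorem D108908 : act 6 n50284 = n108908 := rfl
theorem F168919 : act 3 n108908 = n50286 := d7_1 D108908 (iv6 D50286) D50284
theorem F168920 : act 4 n108908 = n50296 := d10_1 D108908 (iv6 D50296) (iv4 F79664)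
def n108909 : Q := act 6 n50285
theorem D108909 : act 6 n50285 = n108909 := rfl
theorem F168921 : act 2 n108909 = n58918 := d3_1 D108909 (iv6 D58918) (iv2 F79666)
def n108910 : Q := act 1 n50286
theorem D108910 : act 1 n50286 = n108910 := rfl
theorem F168922 : act 1 n108910 = n58921 := d15_1 D108910 (iv7 D58921) (iv2 F79668)
theorem F168923 : act 7 n108910 = n58879 := d15_2 (iv0 F164019) D108910 F100282
theorem F168924 : act 4 n108910 = n58779 := d18_7 (iv1 F37971) (iv4 F78443) (iv1 F78444) (iv4 F50038) (iv5 F39783) (iv4 F79669) D108910 F92916 F45264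
theorem F168925 : act 2 n58883 = n108910 := d1_3 F168924 F100260 D58883
def n108911 : Q := act 5 n50286
theorem D108911 : act 5 n50286 = n108911 := rfl
theorem F168926 : act 2 n108911 = n58920 := d2_1 D108911 (iv5 D58920) (iv2 F79668)
theorem F168927 : act 0 n108911 = n68193 := d17_2 (iv1 D108910) D108911 (iv5 D68193) (iv4 D31744) (iv5 D14931) D14930 (iv5 F45166) D58779 (iv4 F168924)
def n108912 : Q := act 5 n50287
theorem D108912 : act 5 n50287 = n108912 := rfl
theorem F168928 : act 2 n108912 = n107273 := d2_1 D108912 (iv5 F165326) F165519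
theorem F168929 : act 6 n108912 = n106822 := d12_2 (iv6 F92951) D108912 (iv5 D106822) (iv6 F82735) (iv5 D52358)
theorem F168930 : act 7 n108912 = n106451 := d13_2 F165557 D108912 (iv5 F165556)
theorem F168931 : act 0 n108912 = n106431 := d21_1 D108912 F163697 D107163 F165158 (iv6 D58797) F45195 (iv1 F38509) (iv5 D24526) D24527 D50287
theorem F168932 : act 0 n106986 = n108912 := d21_1 (iv5 F164904) (iv5 D108912) F92951 (iv1 D25421) (iv6 D12086) (iv5 F18329) (iv1 F18330) D11352 (iv6 F37878) D49509
def n108913 : Q := act 0 n50289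
theorem D108913 : act 0 n50289 = n108913 := rfl
def n108914 : Q := act 1 n50289
theorem D108914 : act 1 n50289 = n108914 := rfl
def n108915 : Q := act 2 n50289
theorem D108915 : act 2 n50289 = n108915 := rfl
def n108916 : Q := act 6 n50289
theorem D108916 : act 6 n50289 = n108916 := rfl
theorem F168933 : act 3 n108916 = n50290 := d7_1 D108916 (iv6 D50290) D50289
def n108917 : Q := act 5 n50290
theorem D108917 : act 5 n50290 = n108917 := rfl
def n108918 : Q := act 0 n50291
theorem D108918 : act 0 n50291 = n108918 := rfl
theorem F168934 : act 3 n108918 = n50830 := d20_5 F48114 (iv1 D29931) F38515 D50291 D108918 (iv4 D50830) (iv1 F38695) (iv4 F38550) F38549 (iv1 F38422)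
def n108919 : Q := act 1 n50291
theorem D108919 : act 1 n50291 = n108919 := rfl
def n108920 : Q := act 2 n50291
theorem D108920 : act 2 n50291 = n108920 := rfl
theorem F168935 : act 1 n108920 = n50819 := d15_0 (iv0 F101570) F101569 D108920
def n108921 : Q := act 2 n50292
theorem D108921 : act 2 n50292 = n108921 := rfl
theorem F168936 : act 7 n50293 = n108921 := d15_2 (iv0 D50292) D50293 (iv2 D108921)
def n108922 : Q := act 3 n50292
theorem D108922 : act 3 n50292 = n108922 := rfl
theorem F168937 : act 4 n108922 = n105235 := d20_6 (iv4 D5396) D5394 D11607 D24530 D50292 D108922 (iv1 D105235) F76543 (iv3 D24554) (iv1 D11616)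
theorem F168938 : act 0 n50799 = n108922 := d20_10 F168937 (iv1 D105235) F76543 (iv3 D24554) (iv1 D11616) D11617 F18957 D11696 D24719 D50799
def n108923 : Q := act 4 n50292
theorem D108923 : act 4 n50292 = n108923 := rfl
def n108924 : Q := act 5 n50292
theorem D108924 : act 5 n50292 = n108924 := rfl
theorem F168939 : act 4 n108924 = n51517 := d19_2 D50292 D108924 (iv3 D51517) (iv1 D25031) (iv5 D11884) (iv4 D5574) F3670 D2324 F4882 (iv4 D2761) (iv3 F10028) D2347 F3700 (iv4 F5144) (iv3 F8984) F19428 (iv5 D11608) D11607 D24530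
def n108925 : Q := act 6 n50292
theorem D108925 : act 6 n50292 = n108925 := rfl
def n108926 : Q := act 7 n50292
theorem D108926 : act 7 n50292 = n108926 := rfl
theorem F168940 : act 2 n108926 = n50293 := d4_1 D108926 F168936 (iv2 D108921)
def n108927 : Q := act 3 n50293
theorem D108927 : act 3 n50293 = n108927 := rfl
def n108928 : Q := act 4 n50293
theorem D108928 : act 4 n50293 = n108928 := rfl
def n108929 : Q := act 5 n50293
theorem D108929 : act 5 n50293 = n108929 := rfl
def n108930 : Q := act 6 n50293
theorem D108930 : act 6 n50293 = n108930 := rfl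
def n108931 : Q := act 5 n50294
theorem D108931 : act 5 n50294 = n108931 := rfl
theorem F168941 : act 2 n108931 = n50295 := d2_1 D108931 (iv5 D50295) D50294
def n108932 : Q := act 6 n50294
theorem D108932 : act 6 n50294 = n108932 := rfl
theorem F168942 : act 2 n108932 = n50296 := d3_1 D108932 (iv6 D50296) D50294
def n108933 : Q := act 0 n50295
theorem D108933 : act 0 n50295 = n108933 := rfl
def n108934 : Q := act 1 n50295
theorem D108934 : act 1 n50295 = n108934 := rfl
def n108935 : Q := act 4 n50295
theorem D108935 : act 4 n50295 = n108935 := rfl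
def n108936 : Q := act 6 n50295
theorem D108936 : act 6 n50295 = n108936 := rfl
theorem F168943 : act 3 n108936 = n50299 := d7_1 D108936 (iv6 D50299) (iv3 F79671)
def n108937 : Q := act 0 n50296
theorem D108937 : act 0 n50296 = n108937 := rfl
def n108938 : Q := act 1 n50296
theorem D108938 : act 1 n50296 = n108938 := rfl
def n108939 : Q := act 5 n50296
theorem D108939 : act 5 n50296 = n108939 := rfl
theorem F168944 : act 3 n108939 = n50302 := d6_1 D108939 (iv5 D50302) (iv3 F79672)
def n108940 : Q := act 7 n50296
theorem D108940 : act 7 n50296 = n108940 := rfl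
theorem F168945 : act 3 n108940 = n50303 := d8_1 D108940 (iv7 D50303) (iv3 F79672)
def n108941 : Q := act 3 n50297
theorem D108941 : act 3 n50297 = n108941 := rfl
theorem F168946 : act 5 n108941 = n65895 := d6_2 (iv5 F79673) D108941 (iv3 D65895)
theorem F168947 : act 7 n108941 = n108742 := d8_2 F79677 D108941 F168692
def n108942 : Q := act 6 n50297
theorem D108942 : act 6 n50297 = n108942 := rfl
theorem F168949 : act 4 n108942 = n65955 := d10_1 D108942 (iv6 D65955) (iv4 F79674)
def n108943 : Q := act 3 n50298
theorem D108943 : act 3 n50298 = n108943 := rfl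
theorem F168950 : act 5 n108943 = n65899 := d6_2 (iv5 F79680) D108943 (iv3 D65899)
theorem F168951 : act 7 n108943 = n108751 := d8_2 (iv7 F79679) D108943 F168697
def n108944 : Q := act 6 n50298
theorem D108944 : act 6 n50298 = n108944 := rfl
theorem F168953 : act 4 n108944 = n65947 := d10_1 D108944 (iv6 D65947) (iv4 F79681)
def n108945 : Q := act 0 n50299
theorem D108945 : act 0 n50299 = n108945 := rfl
def n108946 : Q := act 1 n50299
theorem D108946 : act 1 n50299 = n108946 := rfl
def n108947 : Q := act 5 n50299
theorem D108947 : act 5 n50299 = n108947 := rfl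
theorem F168954 : act 6 n108947 = n50302 := d12_2 D50299 D108947 (iv5 D50302) (iv6 D24532) D24531
def n108948 : Q := act 7 n50299
theorem D108948 : act 7 n50299 = n108948 := rfl
def n108949 : Q := act 2 n50300
theorem D108949 : act 2 n50300 = n108949 := rfl
theorem F168955 : act 7 n50301 = n108949 := d15_2 (iv0 D50300) D50301 (iv2 D108949)
def n108950 : Q := act 3 n50300
theorem D108950 : act 3 n50300 = n108950 := rfl
def n108951 : Q := act 5 n50300
theorem D108951 : act 5 n50300 = n108951 := rfl
def n108952 : Q := act 6 n50300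
theorem D108952 : act 6 n50300 = n108952 := rfl
theorem F168956 : act 4 n108952 = n59028 := d10_1 D108952 (iv6 F168012) (iv4 F168014)
def n108953 : Q := act 7 n50300
theorem D108953 : act 7 n50300 = n108953 := rfl
theorem F168957 : act 2 n108953 = n50301 := d4_1 D108953 F168955 (iv2 D108949)
def n108954 : Q := act 3 n50301
theorem D108954 : act 3 n50301 = n108954 := rfl
def n108955 : Q := act 4 n50301
theorem D108955 : act 4 n50301 = n108955 := rfl
def n108956 : Q := act 5 n50301
theorem D108956 : act 5 n50301 = n108956 := rfl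
def n108957 : Q := act 6 n50301
theorem D108957 : act 6 n50301 = n108957 := rfl
def n108958 : Q := act 0 n50302
theorem D108958 : act 0 n50302 = n108958 := rfl
theorem F168958 : act 5 n108958 = n51370 := d21_8 D24993 (iv1 F81108) F81109 F39239 (iv1 D24529) D24532 D50302 D108958 (iv6 D51370) (iv1 F39192)
theorem E16939 : n108955 = n59135 := (c17_10 (iv1 D59135) D59136 F93311 (iv5 F82226) F82225 (iv5 F168958) (iv0 D108958) (iv5 D50302) D50301 D108955)
theorem F168959 : act 4 n59135 = n50301 := (sb E16939 (iv4 D108955))
def n108959 : Q := act 1 n50302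
theorem D108959 : act 1 n50302 = n108959 := rfl
theorem F168960 : act 5 n108880 = n108959 := d21_6 (iv5 F79574) (iv1 F79575) (iv5 D24518) D24519 D50272 D108880 (iv1 D108959) (iv5 D50302) (iv6 D24532) D24528
def n108960 : Q := act 4 n50302
theorem D108960 : act 4 n50302 = n108960 := rfl
def n108961 : Q := act 7 n50302
theorem D108961 : act 7 n50302 = n108961 := rfl
theorem F168961 : act 5 n108961 = n50303 := d13_1 D108961 (iv7 D50303) D50302
def n108962 : Q := act 3 n50307
theorem D108962 : act 3 n50307 = n108962 := rfl
def n108963 : Q := act 5 n50307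
theorem D108963 : act 5 n50307 = n108963 := rfl
def n108964 : Q := act 4 n50308
theorem D108964 : act 4 n50308 = n108964 := rfl
def n108965 : Q := act 3 n50311
theorem D108965 : act 3 n50311 = n108965 := rfl
def n108966 : Q := act 5 n50311
theorem D108966 : act 5 n50311 = n108966 := rfl
def n108967 : Q := act 6 n50311
theorem D108967 : act 6 n50311 = n108967 := rfl
theorem F168963 : act 4 n108967 = n50313 := d10_1 D108967 (iv6 D50313) D50311
def n108968 : Q := act 3 n50314
theorem D108968 : act 3 n50314 = n108968 := rfl
theorem F168964 : act 4 n108968 = n68169 := d5_2 D50314 D108968 (iv3 D68169) (iv4 F50038) F39784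
theorem F168965 : act 6 n108968 = n65032 := d7_2 (iv6 F79696) D108968 (iv3 D65032)
theorem F168966 : act 7 n108968 = n65998 := d8_2 (iv7 F79697) D108968 (iv3 D65998)
def n108969 : Q := act 5 n50314
theorem D108969 : act 5 n50314 = n108969 := rfl
theorem F168967 : act 2 n108969 = n66002 := d2_1 D108969 (iv5 D66002) (iv2 F79695)
theorem F168968 : act 7 n108969 = n65999 := d13_2 (iv7 F79697) D108969 (iv5 D65999)
def n108970 : Q := act 7 n50315
theorem D108970 : act 7 n50315 = n108970 := rfl
theorem F168969 : act 2 n108970 = n50322 := d4_1 D108970 (iv7 D50322) (iv2 F79698)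
theorem F168970 : act 3 n108970 = n52261 := d8_1 D108970 (iv7 D52261) (iv3 F79699)
theorem F168971 : act 5 n108970 = n64090 := d13_1 D108970 (iv7 D64090) (iv5 F79700)
theorem F168972 : act 6 n108970 = n52236 := d14_1 D108970 (iv7 D52236) (iv6 D25373) (iv7 F38531) D50315
theorem F168973 : act 1 n50320 = n108970 := d15_1 D50320 (iv7 D108970) F79698
theorem F168974 : act 1 n108970 = n50319 := d15_1 F168973 F168164 F168165
def n108971 : Q := act 0 n50316
theorem D108971 : act 0 n50316 = n108971 := rfl
def n108972 : Q := act 1 n50316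
theorem D108972 : act 1 n50316 = n108972 := rfl
def n108973 : Q := act 2 n50316
theorem D108973 : act 2 n50316 = n108973 := rfl
theorem F168975 : act 4 n108973 = n50325 := d1_2 (iv4 F79701) D108973 (iv2 D50325)
def n108974 : Q := act 5 n50316
theorem D108974 : act 5 n50316 = n108974 := rfl
def n108975 : Q := act 6 n50316
theorem D108975 : act 6 n50316 = n108975 := rfl
theorem F168977 : act 3 n108975 = n50318 := d7_1 D108975 (iv6 D50318) D50316
theorem F168978 : act 4 n108975 = n50327 := d10_1 D108975 (iv6 D50327) (iv4 F79701)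
def n108976 : Q := act 6 n50317
theorem D108976 : act 6 n50317 = n108976 := rfl
def n108977 : Q := act 0 n50318
theorem D108977 : act 0 n50318 = n108977 := rfl
def n108978 : Q := act 1 n50318
theorem D108978 : act 1 n50318 = n108978 := rfl
theorem F168980 : act 4 n58990 = n108978 := d20_0 (iv1 D108978) F79703 F38537 D24546 (iv3 F168284) D24693 F80080 F39619 (iv3 F45321) (iv1 F93695)
theorem F168981 : act 6 n108978 = n58988 := d10_2 D58990 F168980 (iv4 D58988)
def n108979 : Q := act 5 n50318
theorem D108979 : act 5 n50318 = n108979 := rfl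
def n108980 : Q := act 7 n50318
theorem D108980 : act 7 n50318 = n108980 := rfl
theorem F168982 : act 4 n108980 = n50322 := d11_1 D108980 (iv7 D50322) (iv4 F79703)
theorem F168983 : act 0 n59024 = n108980 := d20_1 D59024 F168982 F79707 F168275 (iv3 D25156) D25157 F80103 F19713 (iv3 F22250) D28048
theorem F168984 : act 0 n59148 = n59023 := d20_4 D51817 (iv1 F163208) (iv4 F98658) F98657 (iv3 D59023) D59024 F168983 F168982 F79707 F168275
def n108981 : Q := act 6 n50319
theorem D108981 : act 6 n50319 = n108981 := rfl
theorem F168985 : act 3 n108981 = n52354 := d7_1 D108981 (iv6 D52354) (iv3 F168162)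
def n108982 : Q := act 1 n50321
theorem D108982 : act 1 n50321 = n108982 := rfl
theorem F168986 : act 1 n108982 = n64090 := d15_1 D108982 (iv7 D64090) (iv2 F79704)
theorem F168987 : act 7 n108982 = n61325 := d15_2 (iv0 F165662) D108982 (iv2 F165660)
theorem F168988 : act 5 n51579 = n108982 := d21_0 (iv1 D108982) (iv5 D50321) (iv6 D24541) F38138 (iv6 F19964) (iv5 D12050) (iv1 F22445) D23712 D48637 (iv1 F163883)
theorem F168989 : act 3 n108982 = n51581 := d6_1 F168988 (iv5 D51581) D51579
theorem F168990 : act 2 n64089 = n108982 := d0_5 F168989 F99980 F165627 F165625 (iv3 F165574)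
theorem F168991 : act 4 n108982 = n62044 := d20_6 D29401 F79855 F46691 (iv3 F46674) (iv1 F81415) (iv3 F168989) (iv1 D62044) F47060 F23273 D13982
theorem F168992 : act 1 n64090 = n106462 := d15_1 F168986 F165669 F168990
def n108983 : Q := act 4 n50321
theorem D108983 : act 4 n50321 = n108983 := rfl
theorem F168993 : act 2 n108983 = n64087 := d1_1 D108983 F99700 (iv2 F79704)
theorem F168994 : act 6 n108983 = n53105 := d10_2 (iv6 F79706) D108983 (iv4 D53105)
def n108984 : Q := act 7 n50321
theorem D108984 : act 7 n50321 = n108984 := rfl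
theorem F168995 : act 2 n108984 = n64090 := d4_1 D108984 (iv7 D64090) (iv2 F79704)
theorem F168996 : act 3 n108984 = n50344 := d8_1 D108984 (iv7 D50344) (iv3 F79705)
theorem F168997 : act 5 n108984 = n50322 := d13_1 D108984 (iv7 D50322) D50321
theorem F168998 : act 6 n108984 = n63025 := d14_1 D108984 (iv7 D63025) (iv6 D29813) (iv7 F40690) (iv6 F79706)
theorem F168999 : act 1 n64089 = n108984 := d15_1 D64089 (iv7 D108984) F79704
theorem F169000 : act 1 n108984 = n61325 := d15_1 F168999 (iv7 F168987) (iv2 F168990)
def n108985 : Q := act 2 n50323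
theorem D108985 : act 2 n50323 = n108985 := rfl
theorem F169001 : act 7 n50324 = n108985 := d15_2 (iv0 D50323) D50324 (iv2 D108985)
def n108986 : Q := act 3 n50323
theorem D108986 : act 3 n50323 = n108986 := rfl
def n108987 : Q := act 4 n50323
theorem D108987 : act 4 n50323 = n108987 := rfl
def n108988 : Q := act 5 n50323
theorem D108988 : act 5 n50323 = n108988 := rfl
def n108989 : Q := act 6 n50323
theorem D108989 : act 6 n50323 = n108989 := rfl
def n108990 : Q := act 7 n50323
theorem D108990 : act 7 n50323 = n108990 := rfl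
theorem F169002 : act 2 n108990 = n50324 := d4_1 D108990 F169001 (iv2 D108985)
def n108991 : Q := act 3 n50324
theorem D108991 : act 3 n50324 = n108991 := rfl
def n108992 : Q := act 4 n50324
theorem D108992 : act 4 n50324 = n108992 := rfl
theorem F169003 : act 3 n50747 = n108992 := d20_5 (iv4 D24241) F19353 D13423 (iv3 F38683) D50747 (iv4 D108992) (iv1 D50324) (iv4 F79701) (iv3 D50316) F38536
def n108993 : Q := act 5 n50324
theorem D108993 : act 5 n50324 = n108993 := rfl
def n108994 : Q := act 6 n50324
theorem D108994 : act 6 n50324 = n108994 := rfl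
def n108995 : Q := act 5 n50325
theorem D108995 : act 5 n50325 = n108995 := rfl
theorem F169004 : act 2 n108995 = n50326 := d2_1 D108995 (iv5 D50326) D50325
def n108996 : Q := act 6 n50325
theorem D108996 : act 6 n50325 = n108996 := rfl
theorem F169005 : act 2 n108996 = n50327 := d3_1 D108996 (iv6 D50327) D50325
def n108997 : Q := act 0 n50326
theorem D108997 : act 0 n50326 = n108997 := rfl
def n108998 : Q := act 1 n50326
theorem D108998 : act 1 n50326 = n108998 := rfl
def n108999 : Q := act 4 n50326
theorem D108999 : act 4 n50326 = n108999 := rfl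
def n109000 : Q := act 6 n50326
theorem D109000 : act 6 n50326 = n109000 := rfl
theorem F169006 : act 3 n109000 = n50328 := d7_1 D109000 (iv6 D50328) (iv3 F79708)
def n109001 : Q := act 0 n50327
theorem D109001 : act 0 n50327 = n109001 := rfl
def n109002 : Q := act 1 n50327
theorem D109002 : act 1 n50327 = n109002 := rfl
def n109003 : Q := act 5 n50327
theorem D109003 : act 5 n50327 = n109003 := rfl
theorem F169007 : act 3 n109003 = n50331 := d6_1 D109003 (iv5 D50331) (iv3 F79709)
def n109004 : Q := act 7 n50327
theorem D109004 : act 7 n50327 = n109004 := rfl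
theorem F169008 : act 3 n109004 = n50332 := d8_1 D109004 (iv7 D50332) (iv3 F79709)
def n109005 : Q := act 0 n50328
theorem D109005 : act 0 n50328 = n109005 := rfl
def n109006 : Q := act 1 n50328
theorem D109006 : act 1 n50328 = n109006 := rfl
def n109007 : Q := act 5 n50328
theorem D109007 : act 5 n50328 = n109007 := rfl
theorem F169009 : act 6 n109007 = n50331 := d12_2 D50328 D109007 (iv5 D50331) (iv6 D24544) D24543
def n109008 : Q := act 7 n50328
theorem D109008 : act 7 n50328 = n109008 := rfl
def n109009 : Q := act 2 n50329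
theorem D109009 : act 2 n50329 = n109009 := rfl
theorem F169010 : act 7 n50330 = n109009 := d15_2 (iv0 D50329) D50330 (iv2 D109009)
def n109010 : Q := act 3 n50329
theorem D109010 : act 3 n50329 = n109010 := rfl
def n109011 : Q := act 4 n50329
theorem D109011 : act 4 n50329 = n109011 := rfl
def n109012 : Q := act 5 n50329
theorem D109012 : act 5 n50329 = n109012 := rfl
def n109013 : Q := act 6 n50329
theorem D109013 : act 6 n50329 = n109013 := rfl
def n109014 : Q := act 7 n50329
theorem D109014 : act 7 n50329 = n109014 := rfl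
theorem F169011 : act 2 n109014 = n50330 := d4_1 D109014 F169010 (iv2 D109009)
def n109015 : Q := act 3 n50330
theorem D109015 : act 3 n50330 = n109015 := rfl
def n109016 : Q := act 5 n50330
theorem D109016 : act 5 n50330 = n109016 := rfl
def n109017 : Q := act 0 n50331
theorem D109017 : act 0 n50331 = n109017 := rfl
def n109018 : Q := act 1 n50331
theorem D109018 : act 1 n50331 = n109018 := rfl
theorem F169012 : act 5 n109018 = n51382 := d17_7 D24979 F79717 (iv1 D50342) (iv5 D24548) (iv4 F38538) D50331 D109018 (iv0 D51382) F39194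
def n109019 : Q := act 4 n50331
theorem D109019 : act 4 n50331 = n109019 := rfl
def n109020 : Q := act 7 n50331
theorem D109020 : act 7 n50331 = n109020 := rfl
theorem F169013 : act 5 n109020 = n50332 := d13_1 D109020 (iv7 D50332) D50331
def n109021 : Q := act 3 n50335
theorem D109021 : act 3 n50335 = n109021 := rfl
def n109022 : Q := act 5 n50335
theorem D109022 : act 5 n50335 = n109022 := rfl
def n109023 : Q := act 6 n50335
theorem D109023 : act 6 n50335 = n109023 := rfl
theorem F169015 : act 4 n109023 = n50337 := d10_1 D109023 (iv6 D50337) D50335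
def n109024 : Q := act 1 n50337
theorem D109024 : act 1 n50337 = n109024 := rfl
theorem F169016 : act 1 n109024 = n65422 := d15_1 D109024 (iv7 F168564) F168561
theorem F169017 : act 7 n109024 = n50411 := d15_2 (iv0 F81293) D109024 F102475
theorem F169018 : act 5 n51268 = n109024 := d21_0 (iv1 D109024) F79712 (iv6 F168252) F168249 (iv6 D30517) F24117 (iv1 F37756) F37753 D24929 D51268
theorem F169019 : act 6 n66582 = n109024 := d21_3 (iv5 F39226) (iv1 F84551) D66582 (iv1 D109024) (iv6 D50337) (iv5 F81134) F81133 F81129 (iv6 F80999) (iv1 F81000)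
theorem F169020 : act 2 n109024 = n65099 := d3_1 F169019 (iv6 F111776) F111775
def n109025 : Q := act 3 n50340
theorem D109025 : act 3 n50340 = n109025 := rfl
def n109026 : Q := act 5 n50340
theorem D109026 : act 5 n50340 = n109026 := rfl
def n109027 : Q := act 4 n50342
theorem D109027 : act 4 n50342 = n109027 := rfl
theorem F169021 : act 2 n109027 = n61378 := d1_1 D109027 (iv4 D61378) (iv2 F164327)
theorem F169022 : act 7 n109027 = n63015 := d11_2 (iv7 F164329) D109027 (iv4 D63015)
theorem F169023 : act 0 n109027 = n61841 := d18_2 (iv1 F79716) D109027 F96400 (iv5 F77457) F77456 (iv0 F168281) (iv4 D50340) F79497 F79494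
def n109028 : Q := act 6 n50342
theorem D109028 : act 6 n50342 = n109028 := rfl
theorem F169024 : act 2 n109028 = n61379 := d3_1 D109028 (iv6 D61379) (iv2 F164327)
theorem F169025 : act 3 n109028 = n108800 := d7_1 D109028 (iv6 D108800) (iv3 F164328)
theorem F169026 : act 5 n109028 = n108800 := d12_1 D109028 (iv6 D108800) (iv5 D50231) (iv6 F79581) F79717
theorem F169027 : act 7 n109028 = n108800 := d14_2 (iv7 F164329) D109028 (iv6 D108800) F164311 (iv6 F79451)
theorem F169028 : act 0 n109028 = n63539 := d21_4 (iv5 D24981) D24979 F79717 D109028 F98854 F98694 (iv1 F168240) (iv5 D63560) F48202 (iv1 F168277)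
theorem F169029 : act 0 n63534 = n109028 := d21_4 (iv5 F163951) (iv1 F164747) F164744 (iv6 F98849) (iv6 D109028) (iv5 F79717) (iv1 F80983) F80979 (iv6 F98607) (iv1 F98608)
def n109029 : Q := act 0 n50343
theorem D109029 : act 0 n50343 = n109029 := rfl
def n109030 : Q := act 1 n50343
theorem D109030 : act 1 n50343 = n109030 := rfl
theorem F169030 : act 1 n109030 = n63012 := d15_1 D109030 (iv7 D63012) (iv2 F79718)
theorem F169031 : act 4 n109030 = n60725 := d18_7 F168461 F168462 (iv1 D50330) F38538 D24548 D50343 D109030 F168458 (iv5 F163205)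
theorem F169032 : act 4 n60717 = n63687 := d20_2 (iv4 F46449) D60717 (iv3 F165657) (iv1 F98288) F98284 (iv4 F98324) (iv1 F169030) F169031 (iv3 D60725) (iv1 D28815)
theorem F169033 : act 6 n62043 = n60717 := d10_0 F169032 F165659 (iv4 F164308)
def n109031 : Q := act 3 n50343
theorem D109031 : act 3 n50343 = n109031 := rfl
theorem F169034 : act 6 n109031 = n62956 := d7_2 (iv6 F79719) D109031 (iv3 D62956)
def n109032 : Q := act 5 n50343
theorem D109032 : act 5 n50343 = n109032 := rfl
def n109033 : Q := act 7 n50343
theorem D109033 : act 7 n50343 = n109033 := rfl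
theorem F169036 : act 2 n109033 = n63012 := d4_1 D109033 (iv7 D63012) (iv2 F79718)
theorem F169037 : act 4 n109033 = n50344 := d11_1 D109033 (iv7 D50344) D50343
theorem F169038 : act 6 n109033 = n63042 := d14_1 D109033 (iv7 D63042) (iv6 D29820) (iv7 F47909) (iv6 F79719)
theorem F169039 : act 1 n63012 = n109029 := d15_0 (iv0 D109029) D109033 F169036
theorem F169040 : act 1 n63010 = n109033 := d15_1 D63010 (iv7 D109033) F79718
theorem F169041 : act 0 n63009 = n109033 := d18_2 D61842 (iv4 F168001) F169037 F79721 (iv4 F79710) F168551 (iv4 F168553) (iv0 D106202) F77457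
def n109034 : Q := act 2 n50345
theorem D109034 : act 2 n50345 = n109034 := rfl
theorem F169042 : act 7 n50346 = n109034 := d15_2 (iv0 D50345) D50346 (iv2 D109034)
def n109035 : Q := act 3 n50345
theorem D109035 : act 3 n50345 = n109035 := rfl
theorem F169043 : act 4 n109035 = n58923 := d20_6 (iv4 D29930) (iv1 F38545) (iv4 D24551) D24550 D50345 D109035 (iv1 D58923) (iv4 F79486) (iv3 D50164) (iv1 F48107)
def n109036 : Q := act 4 n50345
theorem D109036 : act 4 n50345 = n109036 := rfl
def n109037 : Q := act 5 n50345
theorem D109037 : act 5 n50345 = n109037 := rfl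
def n109038 : Q := act 6 n50345
theorem D109038 : act 6 n50345 = n109038 := rfl
def n109039 : Q := act 7 n50345
theorem D109039 : act 7 n50345 = n109039 := rfl
theorem F169044 : act 2 n109039 = n50346 := d4_1 D109039 F169042 (iv2 D109034)
def n109040 : Q := act 3 n50346
theorem D109040 : act 3 n50346 = n109040 := rfl
def n109041 : Q := act 4 n50346
theorem D109041 : act 4 n50346 = n109041 := rfl
def n109042 : Q := act 5 n50346
theorem D109042 : act 5 n50346 = n109042 := rfl
def n109043 : Q := act 6 n50346
theorem D109043 : act 6 n50346 = n109043 := rfl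
def n109044 : Q := act 4 n50347
theorem D109044 : act 4 n50347 = n109044 := rfl
theorem F169045 : act 2 n109044 = n50348 := d1_1 D109044 (iv4 D50348) D50347
def n109045 : Q := act 5 n50347
theorem D109045 : act 5 n50347 = n109045 := rfl
theorem F169046 : act 2 n109045 = n50349 := d2_1 D109045 (iv5 D50349) D50347
def n109046 : Q := act 6 n50347
theorem D109046 : act 6 n50347 = n109046 := rfl
theorem F169047 : act 2 n109046 = n50350 := d3_1 D109046 (iv6 D50350) D50347
def n109047 : Q := act 0 n50348
theorem D109047 : act 0 n50348 = n109047 := rfl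
theorem F169048 : act 3 n109047 = n50704 := d20_5 F38672 (iv1 F77446) F77443 (iv3 F79726) D109047 (iv4 D50704) (iv1 D24684) (iv4 F38673) (iv3 D24677) D24675
def n109048 : Q := act 1 n50348
theorem D109048 : act 1 n50348 = n109048 := rfl
theorem F169049 : act 4 n108986 = n109048 := d20_6 F38427 (iv1 F18873) D11612 D24542 D50323 D108986 (iv1 D109048) (iv4 D50348) (iv3 D24550) (iv1 F38429)
def n109049 : Q := act 5 n50348
theorem D109049 : act 5 n50348 = n109049 := rfl
theorem F169050 : act 3 n109049 = n64526 := d6_1 D109049 F100460 (iv3 F79726)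
def n109050 : Q := act 6 n50348
theorem D109050 : act 6 n50348 = n109050 := rfl
theorem F169051 : act 3 n109050 = n74180 := d7_1 D109050 (iv6 D74180) (iv3 F79726)
theorem F169052 : act 4 n109050 = n50350 := d10_1 D109050 (iv6 D50350) D50348
def n109051 : Q := act 0 n50349
theorem D109051 : act 0 n50349 = n109051 := rfl
def n109052 : Q := act 1 n50349
theorem D109052 : act 1 n50349 = n109052 := rfl
def n109053 : Q := act 4 n50349
theorem D109053 : act 4 n50349 = n109053 := rfl
theorem F169053 : act 3 n109053 = n66527 := d5_1 D109053 (iv4 D66527) F49458 (iv4 F38546) (iv3 F79727)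
def n109054 : Q := act 6 n50349
theorem D109054 : act 6 n50349 = n109054 := rfl
theorem F169054 : act 3 n109054 = n50354 := d7_1 D109054 (iv6 D50354) (iv3 F79727)
def n109055 : Q := act 0 n50350
theorem D109055 : act 0 n50350 = n109055 := rfl
def n109056 : Q := act 1 n50350
theorem D109056 : act 1 n50350 = n109056 := rfl
def n109057 : Q := act 5 n50350
theorem D109057 : act 5 n50350 = n109057 := rfl
theorem F169055 : act 3 n109057 = n50357 := d6_1 D109057 (iv5 D50357) (iv3 F79728)
def n109058 : Q := act 7 n50350
theorem D109058 : act 7 n50350 = n109058 := rfl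
theorem F169056 : act 3 n109058 = n50358 := d8_1 D109058 (iv7 D50358) (iv3 F79728)
def n109059 : Q := act 0 n50351
theorem D109059 : act 0 n50351 = n109059 := rfl
theorem F169057 : act 4 n109059 = n108632 := d18_1 D109059 (iv1 F168520) F79683 F49270 D30879 (iv0 F82150) F79642 D50262 (iv5 F79731)
def n109060 : Q := act 7 n50351
theorem D109060 : act 7 n50351 = n109060 := rfl
theorem F169058 : act 2 n109060 = n59137 := d4_1 D109060 (iv7 D59137) (iv2 F79729)
theorem F169059 : act 4 n109060 = n50358 := d11_1 D109060 (iv7 D50358) (iv4 F79730)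
theorem F169060 : act 5 n109060 = n65988 := d13_1 D109060 F101675 (iv5 F79731)
theorem F169061 : act 1 n59137 = n109059 := d15_0 (iv0 D109059) D109060 F169058
theorem F169062 : act 1 n59135 = n109060 := d15_1 D59135 (iv7 D109060) F79729
theorem F169063 : act 0 n59134 = n109060 := d21_10 F169060 (iv1 F101676) (iv5 F168858) F168859 (iv1 F101537) (iv6 F82773) (iv5 F164172) F168007 F97078 (iv6 F168012)
def n109061 : Q := act 3 n50352
theorem D109061 : act 3 n50352 = n109061 := rfl
theorem F169064 : act 5 n109061 = n108603 := d6_2 (iv5 F79732) D109061 (iv3 D108603)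
theorem F169065 : act 7 n109061 = n108721 := d8_2 F79735 D109061 F168679
def n109062 : Q := act 6 n50352
theorem D109062 : act 6 n50352 = n109062 := rfl
def n109063 : Q := act 3 n50353
theorem D109063 : act 3 n50353 = n109063 := rfl
theorem F169067 : act 5 n109063 = n51587 := d6_2 (iv5 F79738) D109063 (iv3 D51587)
theorem F169068 : act 7 n109063 = n108734 := d8_2 (iv7 F79737) D109063 F168687
def n109064 : Q := act 6 n50353
theorem D109064 : act 6 n50353 = n109064 := rfl
def n109065 : Q := act 0 n50354
theorem D109065 : act 0 n50354 = n109065 := rfl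
def n109066 : Q := act 1 n50354
theorem D109066 : act 1 n50354 = n109066 := rfl
def n109067 : Q := act 5 n50354
theorem D109067 : act 5 n50354 = n109067 := rfl
theorem F169070 : act 6 n109067 = n50357 := d12_2 D50354 D109067 (iv5 D50357) (iv6 D24553) D24552
def n109068 : Q := act 7 n50354
theorem D109068 : act 7 n50354 = n109068 := rfl
theorem F169071 : act 4 n109068 = n66540 := d11_1 D109068 (iv7 D66540) (iv4 F79740)
def n109069 : Q := act 0 n50357
theorem D109069 : act 0 n50357 = n109069 := rfl
theorem F169072 : act 5 n109069 = n51361 := d17_3 F100841 D50357 D109069 F81076 F39184 (iv0 F38527) (iv5 D24537) D24536 D50311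
theorem F169073 : act 2 n66014 = n109069 := d2_3 F169072 F81075 D66014
def n109070 : Q := act 1 n50357
theorem D109070 : act 1 n50357 = n109070 := rfl
theorem F169074 : act 7 n109070 = n66014 := d15_2 (iv0 D109069) D109070 F169073
theorem F169075 : act 5 n66015 = n109070 := d21_6 (iv5 F78121) F78122 F38551 D30842 F79651 (iv6 F101699) (iv1 D109070) (iv5 D50357) (iv6 D24553) (iv1 F38429)
def n109071 : Q := act 4 n50357
theorem D109071 : act 4 n50357 = n109071 := rfl
def n109072 : Q := act 7 n50357
theorem D109072 : act 7 n50357 = n109072 := rfl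
theorem F169076 : act 5 n109072 = n50358 := d13_1 D109072 (iv7 D50358) D50357
def n109073 : Q := act 2 n50359
theorem D109073 : act 2 n50359 = n109073 := rfl
theorem F169077 : act 7 n50360 = n109073 := d15_2 (iv0 D50359) D50360 (iv2 D109073)
def n109074 : Q := act 3 n50359
theorem D109074 : act 3 n50359 = n109074 := rfl
def n109075 : Q := act 4 n50359
theorem D109075 : act 4 n50359 = n109075 := rfl
def n109076 : Q := act 5 n50359
theorem D109076 : act 5 n50359 = n109076 := rfl
def n109077 : Q := act 6 n50359
theorem D109077 : act 6 n50359 = n109077 := rfl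
def n109078 : Q := act 7 n50359
theorem D109078 : act 7 n50359 = n109078 := rfl
theorem F169078 : act 2 n109078 = n50360 := d4_1 D109078 F169077 (iv2 D109073)
def n109079 : Q := act 3 n50360
theorem D109079 : act 3 n50360 = n109079 := rfl
def n109080 : Q := act 4 n50360
theorem D109080 : act 4 n50360 = n109080 := rfl
theorem F169079 : act 3 n59161 = n109080 := d20_5 (iv4 D11110) D11108 (iv4 F22306) D28103 D59161 (iv4 D109080) (iv1 D50360) (iv4 F76543) (iv3 D48659) (iv1 D23724)
def n109081 : Q := act 5 n50360
theorem D109081 : act 5 n50360 = n109081 := rfl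
def n109082 : Q := act 6 n50360
theorem D109082 : act 6 n50360 = n109082 := rfl
def n109083 : Q := act 5 n50361
theorem D109083 : act 5 n50361 = n109083 := rfl
theorem F169080 : act 2 n109083 = n50362 := d2_1 D109083 (iv5 D50362) D50361
def n109084 : Q := act 6 n50361
theorem D109084 : act 6 n50361 = n109084 := rfl
theorem F169081 : act 2 n109084 = n50363 := d3_1 D109084 (iv6 D50363) D50361
def n109085 : Q := act 0 n50362
theorem D109085 : act 0 n50362 = n109085 := rfl
def n109086 : Q := act 1 n50362
theorem D109086 : act 1 n50362 = n109086 := rfl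
def n109087 : Q := act 4 n50362
theorem D109087 : act 4 n50362 = n109087 := rfl
def n109088 : Q := act 6 n50362
theorem D109088 : act 6 n50362 = n109088 := rfl
theorem F169082 : act 3 n109088 = n50364 := d7_1 D109088 (iv6 D50364) (iv3 F79741)
def n109089 : Q := act 0 n50363
theorem D109089 : act 0 n50363 = n109089 := rfl
def n109090 : Q := act 1 n50363
theorem D109090 : act 1 n50363 = n109090 := rfl
def n109091 : Q := act 5 n50363
theorem D109091 : act 5 n50363 = n109091 := rfl
theorem F169083 : act 3 n109091 = n50367 := d6_1 D109091 (iv5 D50367) (iv3 F79742)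
def n109092 : Q := act 7 n50363
theorem D109092 : act 7 n50363 = n109092 := rfl
theorem F169084 : act 3 n109092 = n50368 := d8_1 D109092 (iv7 D50368) (iv3 F79742)
def n109093 : Q := act 0 n50364
theorem D109093 : act 0 n50364 = n109093 := rfl
def n109094 : Q := act 1 n50364
theorem D109094 : act 1 n50364 = n109094 := rfl
def n109095 : Q := act 5 n50364
theorem D109095 : act 5 n50364 = n109095 := rfl
theorem F169085 : act 6 n109095 = n50367 := d12_2 D50364 D109095 (iv5 D50367) (iv6 D24556) D24555
def n109096 : Q := act 7 n50364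
theorem D109096 : act 7 n50364 = n109096 := rfl
def n109097 : Q := act 0 n50367
theorem D109097 : act 0 n50367 = n109097 := rfl
theorem F169086 : act 5 n109097 = n51391 := d17_3 F168281 D50367 D109097 (iv4 D51391) F164324 (iv0 F164323) (iv5 D24548) D24547 D50340
def n109098 : Q := act 1 n50367
theorem D109098 : act 1 n50367 = n109098 := rfl
theorem F169087 : act 5 n51388 = n109098 := d21_6 D11618 D24562 F78065 D106858 (iv1 F168438) (iv6 F81115) (iv1 D109098) (iv5 D50367) (iv6 D24556) (iv1 D11616)
def n109099 : Q := act 4 n50367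
theorem D109099 : act 4 n50367 = n109099 := rfl
def n109100 : Q := act 7 n50367
theorem D109100 : act 7 n50367 = n109100 := rfl
theorem F169088 : act 5 n109100 = n50368 := d13_1 D109100 (iv7 D50368) D50367
def n109101 : Q := act 5 n50369
theorem D109101 : act 5 n50369 = n109101 := rfl
theorem F169089 : act 2 n109101 = n50387 := d2_1 D109101 F79756 F79743
theorem F169090 : act 7 n109101 = n50382 := d13_2 (iv7 F79745) D109101 (iv5 D50382)
theorem F169091 : act 1 n50384 = n109101 := d15_1 D50384 F169090 F79753
theorem F169092 : act 1 n109101 = n50383 := d15_0 (iv0 D50383) D50387 (iv2 F169089)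
def n109102 : Q := act 6 n50369
theorem D109102 : act 6 n50369 = n109102 := rfl
theorem F169093 : act 2 n109102 = n50388 := d3_1 D109102 (iv6 D50388) F79743
theorem F169094 : act 4 n109102 = n50783 := d10_1 D109102 (iv6 D50783) (iv4 F79744)
def n109103 : Q := act 0 n50370
theorem D109103 : act 0 n50370 = n109103 := rfl
def n109104 : Q := act 1 n50370
theorem D109104 : act 1 n50370 = n109104 := rfl
def n109105 : Q := act 3 n50370
theorem D109105 : act 3 n50370 = n109105 := rfl
theorem F169097 : act 7 n109105 = n50376 := d8_2 F79747 D109105 (iv3 D50376)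
def n109106 : Q := act 4 n50370
theorem D109106 : act 4 n50370 = n109106 := rfl
theorem F169098 : act 2 n109106 = n50372 := d1_1 D109106 (iv4 D50372) D50370
theorem F169099 : act 7 n109106 = n50377 := d11_2 F79747 D109106 (iv4 D50377)
theorem F169100 : act 3 n59085 = n109106 := d8_3 F169099 (iv3 F79749) F93260
def n109107 : Q := act 5 n50370
theorem D109107 : act 5 n50370 = n109107 := rfl
theorem F169101 : act 2 n109107 = n50373 := d2_1 D109107 (iv5 D50373) D50370
theorem F169102 : act 7 n109107 = n50378 := d13_2 F79747 D109107 (iv5 D50378)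
def n109108 : Q := act 6 n50370
theorem D109108 : act 6 n50370 = n109108 := rfl
theorem F169103 : act 2 n109108 = n50374 := d3_1 D109108 (iv6 D50374) D50370
def n109109 : Q := act 0 n50371
theorem D109109 : act 0 n50371 = n109109 := rfl
def n109110 : Q := act 1 n50371
theorem D109110 : act 1 n50371 = n109110 := rfl
def n109111 : Q := act 2 n50371
theorem D109111 : act 2 n50371 = n109111 := rfl
def n109112 : Q := act 4 n50371
theorem D109112 : act 4 n50371 = n109112 := rfl
theorem F169104 : act 0 n109112 = n50989 := d20_7 (iv4 D11612) (iv1 D5395) D5396 D11617 D24557 D50371 D109112 F80430 (iv3 D50289) (iv1 F38513)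
def n109113 : Q := act 5 n50371
theorem D109113 : act 5 n50371 = n109113 := rfl
theorem F169105 : act 3 n109113 = n50373 := d6_1 D109113 (iv5 D50373) D50371
def n109114 : Q := act 6 n50371
theorem D109114 : act 6 n50371 = n109114 := rfl
theorem F169106 : act 3 n109114 = n50374 := d7_1 D109114 (iv6 D50374) D50371
def n109115 : Q := act 7 n50371
theorem D109115 : act 7 n50371 = n109115 := rfl
theorem F169107 : act 3 n109115 = n50375 := d8_1 D109115 (iv7 D50375) D50371
def n109116 : Q := act 0 n50372
theorem D109116 : act 0 n50372 = n109116 := rfl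
theorem F169108 : act 4 n109116 = n108991 := d20_2 D50372 D109116 (iv3 D108991) (iv1 D50324) (iv3 D24542) (iv4 D11612) (iv1 D5395) D5396 D11617 D24557
def n109117 : Q := act 1 n50372
theorem D109117 : act 1 n50372 = n109117 := rfl
theorem F169109 : act 1 n109117 = n50377 := d15_1 D109117 (iv7 F169099) F169098
def n109118 : Q := act 3 n50372
theorem D109118 : act 3 n50372 = n109118 := rfl
theorem F169110 : act 2 n109118 = n59086 := d0_1 D109118 (iv3 D59086) D59085 F169100 F169098
theorem F169111 : act 0 n109118 = n50625 := d20_4 (iv4 F18957) D24557 D50372 D109118 (iv3 D50625) D50626 F80187 (iv4 D50816) (iv3 D24723) (iv1 D11697)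
def n109119 : Q := act 5 n50372
theorem D109119 : act 5 n50372 = n109119 := rfl
def n109121 : Q := act 7 n50372
theorem D109121 : act 7 n50372 = n109121 := rfl
theorem F169113 : act 2 n109121 = n50377 := d4_1 D109121 (iv7 F169099) F169098
theorem F169114 : act 4 n109121 = n50375 := d11_1 D109121 (iv7 D50375) D50372
theorem F169115 : act 1 n50377 = n109116 := d15_0 (iv0 D109116) D109121 F169113
theorem F169116 : act 5 n109116 = n59282 := d18_9 (iv1 D59282) F80207 (iv1 D50851) (iv4 D24732) (iv5 D11699) (iv4 F18957) D24558 D50377 F169115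
def n109122 : Q := act 0 n50373
theorem D109122 : act 0 n50373 = n109122 := rfl
def n109123 : Q := act 1 n50373
theorem D109123 : act 1 n50373 = n109123 := rfl
theorem F169117 : act 1 n109123 = n50378 := d15_1 D109123 (iv7 F169102) F169101
def n109124 : Q := act 4 n50373
theorem D109124 : act 4 n50373 = n109124 := rfl
def n109125 : Q := act 6 n50373
theorem D109125 : act 6 n50373 = n109125 := rfl
def n109126 : Q := act 7 n50373
theorem D109126 : act 7 n50373 = n109126 := rfl
theorem F169118 : act 2 n109126 = n50378 := d4_1 D109126 (iv7 F169102) F169101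
theorem F169119 : act 5 n109126 = n50375 := d13_1 D109126 (iv7 D50375) D50373
theorem F169120 : act 1 n50378 = n109122 := d15_0 (iv0 D109122) D109126 F169118
def n109127 : Q := act 0 n50374
theorem D109127 : act 0 n50374 = n109127 := rfl
def n109128 : Q := act 1 n50374
theorem D109128 : act 1 n50374 = n109128 := rfl
def n109129 : Q := act 5 n50374
theorem D109129 : act 5 n50374 = n109129 := rfl
def n109130 : Q := act 7 n50374
theorem D109130 : act 7 n50374 = n109130 := rfl
def n109132 : Q := act 0 n50376
theorem D109132 : act 0 n50376 = n109132 := rfl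
theorem F169122 : act 4 n109132 = n58922 := d20_0 (iv1 F168914) F168912 (iv3 F168505) (iv1 F168509) D108991 (iv4 F169108) (iv1 F169115) (iv4 D50377) D50376 D109132
def n109133 : Q := act 1 n50376
theorem D109133 : act 1 n50376 = n109133 := rfl
def n109134 : Q := act 2 n50376
theorem D109134 : act 2 n50376 = n109134 := rfl
def n109135 : Q := act 4 n50376
theorem D109135 : act 4 n50376 = n109135 := rfl
theorem F169123 : act 3 n109135 = n59091 := d5_1 D109135 (iv4 D59091) F79749 (iv4 D50377) D50376
theorem F169124 : act 0 n108923 = n109135 := d20_1 D108923 (iv4 D109135) (iv3 D50376) (iv1 D24558) (iv3 D11617) (iv4 D5396) D5394 D11607 D24530 D50292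
theorem F169125 : act 0 n109135 = n108928 := d20_10 (iv4 D108928) (iv1 D50293) (iv4 F79664) (iv3 D50284) F38503 (iv3 F45277) F45278 (iv1 F45332) D59091 (iv3 F169123)
def n109136 : Q := act 5 n50376
theorem D109136 : act 5 n50376 = n109136 := rfl
theorem F169126 : act 3 n109136 = n50378 := d6_1 D109136 (iv5 D50378) D50376
def n109137 : Q := act 6 n50376
theorem D109137 : act 6 n50376 = n109137 := rfl
def n109138 : Q := act 5 n50377
theorem D109138 : act 5 n50377 = n109138 := rfl
theorem F169128 : act 3 n109138 = n59092 := d6_1 D109138 (iv5 D59092) F79749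
def n109140 : Q := act 4 n50378
theorem D109140 : act 4 n50378 = n109140 := rfl
def n109141 : Q := act 6 n50378
theorem D109141 : act 6 n50378 = n109141 := rfl
def n109146 : Q := act 2 n50380
theorem D109146 : act 2 n50380 = n109146 := rfl
theorem F169131 : act 4 n109146 = n59050 := d1_2 F79751 D109146 (iv2 D59050)
theorem F169132 : act 7 n50381 = n109146 := d15_2 (iv0 D50380) D50381 (iv2 D109146)
def n109147 : Q := act 3 n50380
theorem D109147 : act 3 n50380 = n109147 := rfl
theorem F169133 : act 4 n109147 = n59056 := d5_2 F79751 D109147 (iv3 D59056) (iv4 D28061) D28060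
def n109150 : Q := act 7 n50380
theorem D109150 : act 7 n50380 = n109150 := rfl
theorem F169135 : act 2 n109150 = n50381 := d4_1 D109150 F169132 (iv2 D109146)
theorem F169136 : act 4 n109150 = n59053 := d11_1 D109150 (iv7 D59053) F79751
def n109151 : Q := act 3 n50381
theorem D109151 : act 3 n50381 = n109151 := rfl
theorem F169137 : act 4 n109151 = n108017 := d20_6 (iv4 D24464) (iv1 F18872) (iv4 F18958) (iv3 F38549) (iv1 F79752) D109151 (iv1 D108017) (iv4 F98646) (iv3 D63352) F48108
def n109152 : Q := act 4 n50381
theorem D109152 : act 4 n50381 = n109152 := rfl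
theorem F169138 : act 2 n109152 = n59053 := d1_1 D109152 (iv4 F169136) F169135
theorem F169139 : act 7 n109152 = n59050 := d11_2 (iv7 F169132) D109152 (iv4 F169131)
theorem F169140 : act 1 n59049 = n109152 := d15_1 D59049 F169139 (iv2 D59050)
theorem F169141 : act 3 n59072 = n109152 := d0_0 F169138 F93241 F45330 D28065 D59072
theorem F169142 : act 1 n109152 = n59048 := d15_0 (iv0 D59048) D59053 (iv2 F169138)
theorem F169143 : act 0 n59072 = n51789 := d20_10 F81853 (iv1 D51833) (iv4 D25161) (iv3 D11946) (iv1 F8565) (iv3 F19026) (iv4 F38550) (iv1 F79752) D109152 (iv3 F169141)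
def n109155 : Q := act 0 n50382
theorem D109155 : act 0 n50382 = n109155 := rfl
theorem F169144 : act 1 n50387 = n109155 := d15_0 (iv0 D109155) (iv7 F169090) F169089
def n109156 : Q := act 1 n50382
theorem D109156 : act 1 n50382 = n109156 := rfl
theorem F169145 : act 1 n109156 = n50387 := d15_1 D109156 (iv7 D50387) (iv2 F79753)
def n109157 : Q := act 4 n50382
theorem D109157 : act 4 n50382 = n109157 := rfl
theorem F169146 : act 2 n109157 = n50385 := d1_1 D109157 (iv4 D50385) (iv2 F79753)
theorem F169147 : act 5 n109157 = n51513 := d16_1 D109157 (iv4 D51513) (iv5 D25029) F19568 (iv5 F19027) (iv4 F38550) (iv5 F79756) (iv7 D50387) (iv2 F79753)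
def n109158 : Q := act 6 n50382
theorem D109158 : act 6 n50382 = n109158 := rfl
theorem F169148 : act 2 n109158 = n50386 := d3_1 D109158 (iv6 D50386) (iv2 F79753)
def n109159 : Q := act 2 n50383
theorem D109159 : act 2 n50383 = n109159 := rfl
theorem F169149 : act 7 n50384 = n109159 := d15_2 (iv0 D50383) D50384 (iv2 D109159)
def n109160 : Q := act 3 n50383
theorem D109160 : act 3 n50383 = n109160 := rfl
def n109161 : Q := act 4 n50383
theorem D109161 : act 4 n50383 = n109161 := rfl
def n109162 : Q := act 5 n50383
theorem D109162 : act 5 n50383 = n109162 := rfl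
def n109163 : Q := act 6 n50383
theorem D109163 : act 6 n50383 = n109163 := rfl
def n109164 : Q := act 7 n50383
theorem D109164 : act 7 n50383 = n109164 := rfl
theorem F169150 : act 2 n109164 = n50384 := d4_1 D109164 F169149 (iv2 D109159)
def n109165 : Q := act 3 n50384
theorem D109165 : act 3 n50384 = n109165 := rfl
def n109166 : Q := act 4 n50384
theorem D109166 : act 4 n50384 = n109166 := rfl
def n109167 : Q := act 5 n50384
theorem D109167 : act 5 n50384 = n109167 := rfl
theorem F169151 : act 4 n109167 = n59284 := d17_4 D50369 D109101 (iv1 F169091) D109167 (iv5 D59284) D59282 (iv5 F169116) (iv0 D109116) (iv4 D50372)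
def n109168 : Q := act 6 n50384
theorem D109168 : act 6 n50384 = n109168 := rfl
def n109169 : Q := act 0 n50385
theorem D109169 : act 0 n50385 = n109169 := rfl
def n109170 : Q := act 1 n50385
theorem D109170 : act 1 n50385 = n109170 := rfl
def n109171 : Q := act 3 n50385
theorem D109171 : act 3 n50385 = n109171 := rfl
theorem F169152 : act 4 n109171 = n50393 := d5_2 D50385 D109171 (iv3 D50393) (iv4 D24564) (iv3 F38548)
def n109172 : Q := act 5 n50385
theorem D109172 : act 5 n50385 = n109172 := rfl
theorem F169153 : act 2 n109172 = n51513 := d2_1 D109172 (iv5 F169147) F169146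
theorem F169154 : act 4 n109172 = n51510 := d16_2 D50385 D109172 (iv5 D51510) F39263 (iv5 F38690) (iv4 F79744) D109101 F169090 F79753
def n109173 : Q := act 6 n50385
theorem D109173 : act 6 n50385 = n109173 := rfl
theorem F169155 : act 4 n109173 = n50386 := d10_1 D109173 (iv6 D50386) D50385
def n109174 : Q := act 7 n50385
theorem D109174 : act 7 n50385 = n109174 := rfl
theorem F169156 : act 4 n109174 = n50387 := d11_1 D109174 (iv7 D50387) D50385
def n109175 : Q := act 0 n50386
theorem D109175 : act 0 n50386 = n109175 := rfl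
def n109176 : Q := act 1 n50386
theorem D109176 : act 1 n50386 = n109176 := rfl
def n109177 : Q := act 7 n50386
theorem D109177 : act 7 n50386 = n109177 := rfl
theorem F169157 : act 3 n109177 = n50397 := d8_1 D109177 (iv7 D50397) (iv3 F79754)
def n109178 : Q := act 6 n50387
theorem D109178 : act 6 n50387 = n109178 := rfl
theorem F169158 : act 3 n109178 = n50398 := d7_1 D109178 (iv6 D50398) (iv3 F79755)
def n109179 : Q := act 0 n50388
theorem D109179 : act 0 n50388 = n109179 := rfl
def n109180 : Q := act 1 n50388
theorem D109180 : act 1 n50388 = n109180 := rfl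
def n109181 : Q := act 5 n50388
theorem D109181 : act 5 n50388 = n109181 := rfl
theorem F169159 : act 3 n109181 = n50401 := d6_1 D109181 (iv5 D50401) (iv3 F79757)
def n109182 : Q := act 0 n50389
theorem D109182 : act 0 n50389 = n109182 := rfl
def n109183 : Q := act 1 n50389
theorem D109183 : act 1 n50389 = n109183 := rfl
def n109184 : Q := act 2 n50389
theorem D109184 : act 2 n50389 = n109184 := rfl
def n109185 : Q := act 4 n50389
theorem D109185 : act 4 n50389 = n109185 := rfl
theorem F169160 : act 3 n109185 = n65973 := d5_1 D109185 (iv4 D65973) F49323 (iv4 F78064) D50389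
def n109186 : Q := act 6 n50389
theorem D109186 : act 6 n50389 = n109186 := rfl
theorem F169161 : act 3 n109186 = n50390 := d7_1 D109186 (iv6 D50390) D50389
def n109187 : Q := act 0 n50390
theorem D109187 : act 0 n50390 = n109187 := rfl
def n109188 : Q := act 1 n50390
theorem D109188 : act 1 n50390 = n109188 := rfl
def n109189 : Q := act 5 n50390
theorem D109189 : act 5 n50390 = n109189 := rfl
def n109190 : Q := act 7 n50390
theorem D109190 : act 7 n50390 = n109190 := rfl
theorem F169162 : act 4 n109190 = n65986 := d11_1 D109190 (iv7 D65986) (iv4 F79759)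
def n109191 : Q := act 0 n50391
theorem D109191 : act 0 n50391 = n109191 := rfl
def n109192 : Q := act 1 n50391
theorem D109192 : act 1 n50391 = n109192 := rfl
def n109193 : Q := act 2 n50391
theorem D109193 : act 2 n50391 = n109193 := rfl
theorem F169163 : act 5 n109193 = n65906 := d2_2 (iv5 F79760) D109193 (iv2 D65906)
def n109194 : Q := act 4 n50391
theorem D109194 : act 4 n50391 = n109194 := rfl
def n109195 : Q := act 6 n50391
theorem D109195 : act 6 n50391 = n109195 := rfl
theorem F169164 : act 3 n109195 = n50392 := d7_1 D109195 (iv6 D50392) D50391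
def n109196 : Q := act 0 n50392
theorem D109196 : act 0 n50392 = n109196 := rfl
def n109197 : Q := act 1 n50392
theorem D109197 : act 1 n50392 = n109197 := rfl
def n109198 : Q := act 5 n50392
theorem D109198 : act 5 n50392 = n109198 := rfl
theorem F169165 : act 6 n109198 = n65908 := d12_2 D50392 D109198 (iv5 D65908) (iv6 D30842) (iv5 F38551)
def n109199 : Q := act 7 n50392
theorem D109199 : act 7 n50392 = n109199 := rfl
def n109200 : Q := act 0 n50393
theorem D109200 : act 0 n50393 = n109200 := rfl
def n109201 : Q := act 1 n50393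
theorem D109201 : act 1 n50393 = n109201 := rfl
def n109202 : Q := act 2 n50393
theorem D109202 : act 2 n50393 = n109202 := rfl
theorem F169166 : act 5 n109202 = n65863 := d2_2 (iv5 F79761) D109202 (iv2 D65863)
def n109203 : Q := act 6 n50393
theorem D109203 : act 6 n50393 = n109203 := rfl
theorem F169167 : act 3 n109203 = n50394 := d7_1 D109203 (iv6 D50394) D50393
def n109204 : Q := act 0 n50394
theorem D109204 : act 0 n50394 = n109204 := rfl
def n109205 : Q := act 1 n50394
theorem D109205 : act 1 n50394 = n109205 := rfl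
def n109206 : Q := act 5 n50394
theorem D109206 : act 5 n50394 = n109206 := rfl
theorem F169168 : act 6 n109206 = n65867 := d12_2 D50394 D109206 (iv5 D65867) (iv6 D30821) (iv5 F38552)
def n109207 : Q := act 7 n50394
theorem D109207 : act 7 n50394 = n109207 := rfl
theorem F169169 : act 4 n109207 = n50397 := d11_1 D109207 (iv7 D50397) (iv4 F79762)
def n109208 : Q := act 2 n50395
theorem D109208 : act 2 n50395 = n109208 := rfl
theorem F169170 : act 7 n50396 = n109208 := d15_2 (iv0 D50395) D50396 (iv2 D109208)
def n109209 : Q := act 3 n50395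
theorem D109209 : act 3 n50395 = n109209 := rfl
def n109210 : Q := act 4 n50395
theorem D109210 : act 4 n50395 = n109210 := rfl
def n109211 : Q := act 5 n50395
theorem D109211 : act 5 n50395 = n109211 := rfl
def n109212 : Q := act 6 n50395
theorem D109212 : act 6 n50395 = n109212 := rfl
def n109213 : Q := act 7 n50395
theorem D109213 : act 7 n50395 = n109213 := rfl
theorem F169171 : act 2 n109213 = n50396 := d4_1 D109213 F169170 (iv2 D109208)
def n109214 : Q := act 3 n50396
theorem D109214 : act 3 n50396 = n109214 := rfl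
def n109215 : Q := act 4 n50396
theorem D109215 : act 4 n50396 = n109215 := rfl
def n109216 : Q := act 5 n50396
theorem D109216 : act 5 n50396 = n109216 := rfl
def n109217 : Q := act 6 n50396
theorem D109217 : act 6 n50396 = n109217 := rfl
def n109218 : Q := act 6 n50397
theorem D109218 : act 6 n50397 = n109218 := rfl
theorem F169172 : act 7 n109218 = n50398 := d14_2 D50397 D109218 (iv6 D50398) (iv7 D24566) D24565
def n109219 : Q := act 0 n50398
theorem D109219 : act 0 n50398 = n109219 := rfl
def n109220 : Q := act 1 n50398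
theorem D109220 : act 1 n50398 = n109220 := rfl
def n109221 : Q := act 5 n50398
theorem D109221 : act 5 n50398 = n109221 := rfl
theorem F169173 : act 6 n109221 = n50401 := d12_2 D50398 D109221 (iv5 D50401) (iv6 D24567) (iv5 F38553)
def n109222 : Q := act 3 n50399
theorem D109222 : act 3 n50399 = n109222 := rfl
def n109223 : Q := act 4 n50399
theorem D109223 : act 4 n50399 = n109223 := rfl
theorem F169174 : act 2 n109223 = n59207 := d1_1 D109223 F93410 F166446
theorem F169175 : act 7 n109223 = n65371 := d11_2 (iv7 F166447) D109223 (iv4 F166448)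
theorem F169176 : act 1 n53447 = n109223 := d15_1 F166187 F169175 (iv2 F166444)
theorem F169177 : act 1 n109223 = n50988 := d15_1 F169176 F80429 (iv2 F84327)
def n109224 : Q := act 5 n50399
theorem D109224 : act 5 n50399 = n109224 := rfl
def n109225 : Q := act 6 n50399
theorem D109225 : act 6 n50399 = n109225 := rfl
def n109226 : Q := act 3 n50400
theorem D109226 : act 3 n50400 = n109226 := rfl
def n109227 : Q := act 5 n50400
theorem D109227 : act 5 n50400 = n109227 := rfl
def n109228 : Q := act 6 n50400
theorem D109228 : act 6 n50400 = n109228 := rfl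
def n109229 : Q := act 0 n50401
theorem D109229 : act 0 n50401 = n109229 := rfl
def n109230 : Q := act 1 n50401
theorem D109230 : act 1 n50401 = n109230 := rfl
def n109231 : Q := act 4 n50401
theorem D109231 : act 4 n50401 = n109231 := rfl
def n109232 : Q := act 3 n50404
theorem D109232 : act 3 n50404 = n109232 := rfl
def n109233 : Q := act 5 n50404
theorem D109233 : act 5 n50404 = n109233 := rfl
def n109234 : Q := act 6 n50404
theorem D109234 : act 6 n50404 = n109234 := rfl
theorem F169178 : act 4 n109234 = n50406 := d10_1 D109234 (iv6 D50406) D50404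
def n109235 : Q := act 0 n50405
theorem D109235 : act 0 n50405 = n109235 := rfl
theorem F169179 : act 5 n109235 = n108615 := d21_2 D50405 D109235 (iv6 D108615) (iv1 D50150) (iv6 D24460) (iv5 D11554) (iv1 F8210) (iv5 F8216) D11620 D24568
theorem F169180 : act 6 n109235 = n51323 := d21_5 (iv5 F163934) (iv1 F163952) (iv5 D66006) F79765 D109235 (iv5 F80977) (iv1 F79725) F79721 (iv6 F79482) (iv1 F79484)
theorem F169181 : act 2 n51392 = n109235 := d15_3 (iv0 D109235) (iv0 F79764) (iv7 F81118)
theorem F169182 : act 1 n50410 = n109235 := d15_0 (iv0 D109235) F102460 (iv2 F102464)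
theorem F169183 : act 7 n109235 = n108615 := d15_2 (iv0 F81119) F169182 F168476
theorem F169184 : act 3 n109235 = n108615 := d0_2 (iv3 F164333) F169181 F168476 F164321 (iv2 F39378)
def n109236 : Q := act 4 n50405
theorem D109236 : act 4 n50405 = n109236 := rfl
theorem F169185 : act 6 n109236 = n66005 := d10_2 F79765 D109236 (iv4 D66005)
def n109237 : Q := act 4 n50408
theorem D109237 : act 4 n50408 = n109237 := rfl
theorem F169186 : act 0 n109237 = n52023 := d20_7 (iv4 F166448) (iv1 F81287) F79529 (iv3 F39176) (iv1 F39179) D50408 D109237 F82197 (iv3 F49111) D65371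
theorem F169187 : act 0 n51921 = n109237 := d20_1 (iv4 F81968) (iv4 D109237) (iv3 D50408) (iv1 D24569) F18959 (iv4 F19030) D24736 F80223 D28158 F166152
def n109238 : Q := act 5 n50408
theorem D109238 : act 5 n50408 = n109238 := rfl
theorem F169188 : act 3 n109238 = n50410 := d6_1 D109238 (iv5 D50410) D50408
theorem F169189 : act 6 n109238 = n108826 := d21_9 F165119 (iv1 F95718) F95716 (iv6 D48650) (iv1 F38615) D50523 F79896 (iv1 F161339) D109238 (iv1 F168805)
theorem E16940 : n108826 = n108728 := (c7_1 F169189 (iv3 D108728) F79768 (iv3 F169188))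
theorem F169190 : act 0 n108728 = n107135 := (sb E16940 (iv1 F168805))
theorem F169191 : act 1 n108728 = n50250 := (sb E16940 (iv0 D108826))
theorem F169192 : act 6 n108728 = n109238 := (sb E16940 (iv6 F169189))
def n109239 : Q := act 6 n50408
theorem D109239 : act 6 n50408 = n109239 := rfl
theorem F169193 : act 3 n109239 = n50411 := d7_1 D109239 (iv6 D50411) D50408
theorem F169194 : act 5 n65101 = n109239 := d6_0 F169193 F79769 D65101
theorem F169195 : act 0 n74258 = n65101 := d21_1 (iv5 F111137) F169194 (iv6 D109239) F161338 (iv6 D25378) F19974 (iv1 F18951) D24501 D50246 (iv1 F81589)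
theorem F169196 : act 0 n65101 = n51290 := d21_7 (iv5 D23712) F18994 D24614 D50523 (iv1 F161339) D109239 (iv5 F169194) (iv5 F81145) (iv6 D51400) (iv1 F39208)
def n109240 : Q := act 3 n50409
theorem D109240 : act 3 n50409 = n109240 := rfl
def n109241 : Q := act 5 n50409
theorem D109241 : act 5 n50409 = n109241 := rfl
def n109242 : Q := act 6 n50409
theorem D109242 : act 6 n50409 = n109242 := rfl
theorem F169197 : act 4 n109242 = n50411 := d10_1 D109242 (iv6 D50411) D50409
def n109243 : Q := act 4 n50410
theorem D109243 : act 4 n50410 = n109243 := rfl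
theorem F169198 : act 6 n109243 = n108729 := d10_2 F79768 D109243 (iv4 D108729)
def n109244 : Q := act 0 n50412
theorem D109244 : act 0 n50412 = n109244 := rfl
theorem F169199 : act 1 n64069 = n109244 := d15_0 (iv0 D109244) F79770 D64069
def n109245 : Q := act 1 n50412
theorem D109245 : act 1 n50412 = n109245 := rfl
def n109246 : Q := act 2 n50412
theorem D109246 : act 2 n50412 = n109246 := rfl
theorem F169200 : act 7 n109246 = n64069 := d4_2 (iv7 F79770) D109246 (iv2 D64069)
theorem F169201 : act 1 n109246 = n64067 := d15_0 (iv0 D64067) (iv7 F79770) D109246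
theorem F169202 : act 1 n109245 = n64069 := d15_1 D109245 (iv7 F169200) (iv2 D109246)
theorem F169203 : act 1 n64068 = n109246 := d15_1 D64068 F169200 (iv2 D64069)
def n109247 : Q := act 6 n50412
theorem D109247 : act 6 n50412 = n109247 := rfl
theorem F169204 : act 3 n109247 = n50413 := d7_1 D109247 (iv6 D50413) D50412
def n109248 : Q := act 0 n50413
theorem D109248 : act 0 n50413 = n109248 := rfl
theorem F169205 : act 4 n109248 = n59212 := d20_2 (iv4 F79771) D109248 (iv3 D59212) (iv1 D28118) F22317 (iv4 F22255) (iv1 F80378) (iv4 D25188) D25187 F161250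
theorem F169206 : act 1 n50526 = n109248 := d15_0 (iv0 D109248) (iv7 F81319) F81317
def n109249 : Q := act 1 n50413
theorem D109249 : act 1 n50413 = n109249 := rfl
theorem F169207 : act 1 n109249 = n50526 := d15_1 D109249 (iv7 F81512) F81510
def n109250 : Q := act 5 n50413
theorem D109250 : act 5 n50413 = n109250 := rfl
def n109251 : Q := act 4 n50414
theorem D109251 : act 4 n50414 = n109251 := rfl
theorem F169208 : act 2 n109251 = n50869 := d1_1 D109251 (iv4 D50869) (iv2 F161247)
theorem F169209 : act 0 n50600 = n109251 := d20_1 F101565 (iv4 D109251) (iv3 F161312) (iv1 F81320) F39396 (iv4 F76558) (iv1 F161343) (iv4 D58970) D58969 F166191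
theorem F169210 : act 1 n50674 = n109251 := d15_0 (iv0 F169209) (iv7 F81629) F81628
def n109252 : Q := act 5 n50414
theorem D109252 : act 5 n50414 = n109252 := rfl
theorem F169211 : act 2 n109252 = n50870 := d2_1 D109252 (iv5 D50870) (iv2 F161247)
theorem F169212 : act 0 n109252 = n51586 := d21_1 D109252 F81419 (iv6 D50467) (iv1 D24593) (iv6 D11631) (iv5 D5402) D5398 D11621 D24571 D50414
theorem F169213 : act 6 n109252 = n51553 := d21_3 F38556 D50414 D109252 (iv1 F81356) (iv6 F81381) (iv5 F111009) (iv1 F111011) F161254 (iv6 D51914) F161250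
def n109253 : Q := act 6 n50414
theorem D109253 : act 6 n50414 = n109253 := rfl
theorem F169214 : act 2 n109253 = n50871 := d3_1 D109253 (iv6 D50871) (iv2 F161247)
theorem F169215 : act 5 n109253 = n63900 := d21_6 (iv5 D5402) D5398 D11621 D24571 D50414 D109253 (iv1 D63900) F48452 (iv6 D24586) (iv1 D11629)
theorem F169216 : act 0 n50691 = n109253 := d21_4 (iv5 F23779) D30019 F80034 D50691 (iv6 D109253) D109252 F169212 F81419 (iv6 D50467) (iv1 D24593)
theorem F169217 : act 7 n64170 = n109253 := d13_0 F169215 F99906 D64170
theorem F169218 : act 0 n109253 = n50622 := d21_1 (iv5 F169215) F79995 F48905 (iv1 F99758) (iv6 D30330) (iv5 F111205) (iv1 F111215) (iv5 F84073) F84074 (iv1 F99379)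
def n109254 : Q := act 0 n50416
theorem D109254 : act 0 n50416 = n109254 := rfl
def n109255 : Q := act 1 n50416
theorem D109255 : act 1 n50416 = n109255 := rfl
def n109256 : Q := act 2 n50416
theorem D109256 : act 2 n50416 = n109256 := rfl
theorem F169219 : act 3 n109256 = n50451 := d0_2 D50416 D109256 (iv2 D50451) (iv3 D24589) (iv2 F38557)
def n109257 : Q := act 5 n50416
theorem D109257 : act 5 n50416 = n109257 := rfl
theorem F169220 : act 3 n109257 = n50417 := d6_1 D109257 (iv5 D50417) D50416
def n109258 : Q := act 6 n50416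
theorem D109258 : act 6 n50416 = n109258 := rfl
theorem F169221 : act 3 n109258 = n50418 := d7_1 D109258 (iv6 D50418) D50416
def n109259 : Q := act 6 n50417
theorem D109259 : act 6 n50417 = n109259 := rfl
theorem F169222 : act 2 n109259 = n50456 := d3_1 D109259 (iv6 D50456) (iv2 F79774)
theorem F169223 : act 4 n109259 = n107130 := d10_1 D109259 (iv6 D107130) (iv4 F79775)
def n109260 : Q := act 0 n50418
theorem D109260 : act 0 n50418 = n109260 := rfl
def n109261 : Q := act 1 n50418
theorem D109261 : act 1 n50418 = n109261 := rfl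
theorem F169224 : act 1 n109261 = n50460 := d15_1 D109261 (iv7 D50460) (iv2 F79776)
theorem F169225 : act 4 n105526 = n109261 := d18_5 (iv1 D29545) (iv4 F47393) D62512 (iv4 F164105) F163800 F169224 F79830 F79783 F79778
theorem F169226 : act 3 n105526 = n52424 := d20_3 (iv4 F79830) (iv1 F169224) (iv4 F169225) (iv1 D52424) F40223 (iv4 F40235) (iv1 F165638) (iv4 D52287) (iv3 F165636) (iv1 F79783)
theorem F169227 : act 3 n108409 = n106550 := d6_3 F163800 F169226 (iv5 F167594)
theorem F169228 : act 0 n61329 = n107624 := d20_1 D61329 F166220 (iv3 F79237) D108409 F169227 F164105 (iv1 F99088) F99084 (iv3 F83842) (iv1 F83845)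
theorem F169229 : act 1 n64066 = n51787 := d18_6 (iv1 F83845) D61329 F169228 F166220 (iv5 F93106) (iv4 F99661) (iv4 D51787) F81749 (iv5 F83843)
def n109262 : Q := act 5 n50418
theorem D109262 : act 5 n50418 = n109262 := rfl
theorem F169230 : act 2 n109262 = n50459 := d2_1 D109262 (iv5 D50459) (iv2 F79776)
def n109263 : Q := act 7 n50418
theorem D109263 : act 7 n50418 = n109263 := rfl
theorem F169231 : act 2 n109263 = n50460 := d4_1 D109263 (iv7 D50460) (iv2 F79776)
theorem F169232 : act 4 n109263 = n50421 := d11_1 D109263 (iv7 D50421) (iv4 F79777)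
theorem F169233 : act 1 n50460 = n109260 := d15_0 (iv0 D109260) D109263 F169231
theorem F169234 : act 1 n50458 = n109263 := d15_1 D50458 (iv7 D109263) F79776
theorem F169235 : act 4 n51958 = n109260 := d20_6 D25080 F80090 F19755 (iv3 F19741) D25208 D51958 (iv1 F169233) F79830 F38603 (iv1 F19621)
theorem F169236 : act 1 n109263 = n50457 := d15_0 (iv0 D50457) D50460 (iv2 F169231)
def n109264 : Q := act 4 n50419
theorem D109264 : act 4 n50419 = n109264 := rfl
theorem F169237 : act 2 n109264 = n50463 := d1_1 D109264 (iv4 D50463) (iv2 F99969)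
theorem F169238 : act 7 n109264 = n50466 := d11_2 (iv7 F99970) D109264 (iv4 D50466)
theorem F169239 : act 1 n50463 = n105524 := d15_0 F168381 (iv7 F169238) F169237
theorem E16941 : n108789 = n52424 := (c20_9 (iv4 F162031) (iv1 F169239) (iv4 D50463) D50462 (iv1 F167960) F167956 (iv4 F168443) (iv1 F168446) D108789 (iv3 F169226) (iv1 D105526))
theorem F169240 : act 4 n52424 = n50225 := (sb E16941 (iv4 D108789))
def n109265 : Q := act 4 n50420
theorem D109265 : act 4 n50420 = n109265 := rfl
theorem F169241 : act 2 n109265 = n50466 := d1_1 D109265 (iv4 D50466) (iv2 F99978)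
theorem F169242 : act 7 n109265 = n50463 := d11_2 (iv7 F99979) D109265 (iv4 D50463)
def n109266 : Q := act 6 n50420
theorem D109266 : act 6 n50420 = n109266 := rfl
theorem F169243 : act 2 n109266 = n50467 := d3_1 D109266 (iv6 D50467) (iv2 F99978)
theorem F169244 : act 0 n109266 = n109252 := d21_10 (iv5 D109252) (iv1 F79772) F38617 (iv6 D24616) F19489 D11686 (iv5 F23415) D29544 F79780 D109266
theorem F169245 : act 0 n51913 = n109266 := d21_4 D51719 F111165 (iv5 F161266) F81946 (iv6 D109266) (iv5 F79780) (iv1 F48338) (iv5 F80030) (iv6 F81623) (iv1 F81625)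
def n109267 : Q := act 3 n50422
theorem D109267 : act 3 n50422 = n109267 := rfl
theorem F169246 : act 4 n109267 = n67449 := d5_2 D50422 D109267 (iv3 D67449) (iv4 D31346) (iv3 F38571)
theorem F169247 : act 7 n109267 = n64083 := d8_2 (iv7 F79787) D109267 (iv3 D64083)
theorem F169248 : act 0 n109267 = n105708 := d20_4 F37502 F38574 D50422 D109267 (iv3 D105708) (iv4 D48868) (iv1 D23826) (iv4 F37129) (iv3 D23813) D23811
def n109268 : Q := act 5 n50422
theorem D109268 : act 5 n50422 = n109268 := rfl
theorem F169249 : act 2 n109268 = n105545 := d2_1 D109268 F162074 (iv2 F79786)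
theorem F169250 : act 4 n109268 = n50455 := d9_1 D109268 F79829 (iv4 F38648) (iv5 D24323) F18717 D14148 D29775 D62943 F98195 F79828 (iv4 F49276) (iv5 D30833) F24267 D24576 D50422
theorem F169251 : act 7 n109268 = n64084 := d13_2 (iv7 F79787) D109268 (iv5 D64084)
theorem F169252 : act 0 n109268 = n105500 := d17_2 (iv1 F79789) D109268 (iv5 D105500) (iv4 D48777) (iv5 D23788) F18095 (iv5 F18116) F37087 D48779
theorem F169253 : act 1 n109268 = n105497 := d17_6 (iv1 F38579) (iv5 D11626) D11624 D24576 D50422 D109268 (iv5 D105497) F76799 (iv4 D30678)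
def n109269 : Q := act 6 n50422
theorem D109269 : act 6 n50422 = n109269 := rfl
theorem F169254 : act 2 n109269 = n105572 := d3_1 D109269 (iv6 D105572) (iv2 F79786)
theorem F169255 : act 4 n109269 = n50423 := d10_1 D109269 (iv6 D50423) D50422
theorem F169256 : act 0 n105657 = n109269 := d20_1 D105657 F169255 F79791 (iv1 F82522) (iv3 F168323) F163985 F166048 F166045 (iv3 F78907) (iv1 F78910)
theorem F169257 : act 0 n109269 = n105653 := d20_1 (iv4 F169255) (iv4 D105653) D105652 (iv1 F162247) F92815 (iv4 F80836) (iv1 F165547) (iv4 D49617) D49616 (iv1 F168327)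
theorem F169258 : act 1 n105657 = n108088 := d15_1 (iv0 F169256) F167125 (iv2 F169254)
theorem E16942 : n105656 = n63382 := (c20_4 (iv4 F167124) (iv1 F169258) (iv4 D105657) D105656 (iv1 F98686) (iv3 F80270) (iv4 F165168) (iv1 F168116) (iv4 D53361) D53360 (iv1 F168329))
theorem F169259 : act 3 n63382 = n48844 := (sb E16942 (iv3 D105656))
theorem F169260 : act 4 n63382 = n65866 := (sb E16942 (iv4 F163990))
def n109270 : Q := act 6 n50424
theorem D109270 : act 6 n50424 = n109270 := rfl
theorem F169261 : act 2 n109270 = n105536 := d3_1 D109270 (iv6 D105536) (iv2 F79793)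
theorem F169262 : act 4 n109270 = n50425 := d10_1 D109270 (iv6 D50425) D50424
def n109271 : Q := act 0 n50425
theorem D109271 : act 0 n50425 = n109271 := rfl
def n109272 : Q := act 1 n50425
theorem D109272 : act 1 n50425 = n109272 := rfl
theorem F169263 : act 1 n109272 = n107124 := d15_1 D109272 (iv7 D107124) (iv2 F79797)
theorem F169264 : act 5 n108981 = n109272 := d21_6 (iv5 F45385) F45388 (iv5 F38139) D24541 D50319 D108981 (iv1 D109272) F79798 (iv6 D50246) F39417
theorem F169265 : act 3 n109272 = n51998 := d6_1 F169264 (iv5 F82733) (iv3 F168985)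
theorem F169266 : act 2 n107123 = n109272 := d0_5 F169265 F165509 (iv3 F165612) (iv2 F99255) F168332
theorem F169267 : act 7 n107065 = n109272 := d8_0 F169265 F165510 D107065
theorem E16943 : n67526 = n67499 := (c20_8 (iv4 F104293) (iv1 F165717) F165719 (iv3 F169265) (iv1 D109272) (iv3 F82623) (iv4 F82625) D67526 (iv4 D67499) (iv3 F168087) (iv1 F78373))
theorem F169268 : act 1 n67499 = n31375 := (sb E16943 (iv0 D67526))
theorem E16944 : n109271 = n65545 := ((c15_4 (iv0 D109271) D109272 (iv7 F169267) (iv2 F165615))).symm
theorem F169269 : act 1 n65545 = n50425 := (sb E16944 (iv0 D109271))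
theorem F169270 : act 1 n107124 = n65545 := d15_1 F169263 (iv7 F168331) F169266
def n109273 : Q := act 7 n50425
theorem D109273 : act 7 n50425 = n109273 := rfl
theorem F169271 : act 2 n109273 = n107124 := d4_1 D109273 (iv7 D107124) (iv2 F79797)
theorem F169272 : act 5 n109273 = n108821 := d13_1 D109273 (iv7 D108821) (iv5 F79798)
theorem F169273 : act 6 n109273 = n106957 := d14_1 D109273 F164861 (iv6 D49488) (iv7 F38578) D50425
theorem F169274 : act 1 n107123 = n109273 := d15_1 D107123 (iv7 D109273) F79797
theorem F169275 : act 1 n109273 = n107065 := d15_1 F169274 F169267 (iv2 F169266)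
def n109274 : Q := act 0 n50426
theorem D109274 : act 0 n50426 = n109274 := rfl
theorem F169276 : act 1 n107127 = n109274 := d15_0 (iv0 D109274) F79800 D107127
def n109275 : Q := act 1 n50426
theorem D109275 : act 1 n50426 = n109275 := rfl
theorem F169277 : act 4 n107491 = n109275 := d20_6 (iv4 D24198) (iv1 F18552) D11380 D24217 D49657 D107491 (iv1 D109275) F79799 (iv3 D28084) (iv1 F37915)
theorem F169278 : act 1 n109275 = n107127 := d18_6 (iv1 F82135) (iv4 F84086) F164990 (iv4 F164989) F166891 F169277 F165109 F93286 F166899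
def n109276 : Q := act 2 n50426
theorem D109276 : act 2 n50426 = n109276 := rfl
theorem F169279 : act 4 n109276 = n59118 := d1_2 (iv4 F79799) D109276 (iv2 D59118)
theorem F169280 : act 7 n109276 = n107127 := d4_2 (iv7 F79800) D109276 (iv2 D107127)
theorem F169281 : act 1 n109276 = n107125 := d15_0 (iv0 D107125) (iv7 F79800) D109276
theorem F169282 : act 1 n107126 = n109276 := d15_1 D107126 F169280 (iv2 D107127)
def n109277 : Q := act 6 n50426
theorem D109277 : act 6 n50426 = n109277 := rfl
theorem F169283 : act 3 n109277 = n50427 := d7_1 D109277 (iv6 D50427) D50426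
theorem F169284 : act 4 n109277 = n59119 := d10_1 D109277 (iv6 D59119) (iv4 F79799)
def n109278 : Q := act 5 n50427
theorem D109278 : act 5 n50427 = n109278 := rfl
def n109279 : Q := act 7 n50427
theorem D109279 : act 7 n50427 = n109279 := rfl
theorem F169285 : act 2 n109279 = n67818 := d4_1 D109279 F111446 F84015
theorem F169286 : act 4 n109279 = n50431 := d11_1 D109279 (iv7 D50431) (iv4 F79801)
theorem F169287 : act 6 n109279 = n68273 := d14_1 D109279 (iv7 F104426) (iv6 D49492) (iv7 F38581) D50427
theorem F169288 : act 1 n67815 = n109279 := d15_1 (iv0 F162030) (iv7 D109279) (iv2 F84015)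
theorem F169289 : act 1 n109279 = n53868 := d15_1 F169288 F84912 (iv2 F103827)
def n109280 : Q := act 4 n50428
theorem D109280 : act 4 n50428 = n109280 := rfl
theorem F169290 : act 2 n109280 = n105547 := d1_1 D109280 F162078 F111303
theorem F169291 : act 7 n109280 = n105548 := d11_2 (iv7 F111305) D109280 (iv4 F162081)
theorem F169292 : act 0 n109280 = n105550 := d20_1 D109280 F162086 (iv3 F162025) (iv1 F162028) (iv3 D49642) D49643 F111356 F45370 (iv3 F38583) D50428
theorem F169293 : act 0 n105498 = n109280 := d20_1 (iv4 F161957) (iv4 D109280) F111293 (iv1 F100083) F100077 (iv4 F100123) (iv1 F100125) F111370 F84914 F101928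
def n109281 : Q := act 0 n50430
theorem D109281 : act 0 n50430 = n109281 := rfl
theorem F169294 : act 3 n109281 = n74273 := d20_5 D107473 F165803 F82363 (iv3 F79804) D109281 (iv4 F164914) (iv1 F164957) F164955 F92830 (iv1 F80742)
theorem F169295 : act 5 n109281 = n64303 := d21_0 (iv1 F100135) F100063 (iv6 F48787) (iv1 F49335) F49332 F46616 (iv1 F38587) D24581 (iv6 F79805) D109281
theorem F169296 : act 2 n108503 = n109281 := d15_3 (iv0 D109281) (iv0 F111139) F167743
theorem F169297 : act 7 n109281 = n106998 := d4_2 F167743 F169296 F164918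
theorem F169298 : act 1 n108504 = n109281 := d15_1 F167748 F169297 F164918
def n109282 : Q := act 7 n50430
theorem D109282 : act 7 n50430 = n109282 := rfl
theorem F169299 : act 2 n109282 = n108504 := d4_1 D109282 (iv7 D108504) (iv2 F79803)
theorem F169300 : act 3 n109282 = n52187 := d8_1 D109282 (iv7 D52187) (iv3 F79804)
theorem F169301 : act 5 n109282 = n50431 := d13_1 D109282 (iv7 D50431) D50430
theorem F169302 : act 6 n109282 = n108502 := d14_1 D109282 (iv7 D108502) (iv6 D50099) F38593 (iv6 F79805)
theorem F169303 : act 1 n106998 = n109282 := d15_1 (iv0 F164924) (iv7 D109282) F79803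
theorem F169304 : act 1 n109282 = n108503 := d15_1 F169303 (iv7 F167743) (iv2 F164918)
def n109283 : Q := act 0 n50432
theorem D109283 : act 0 n50432 = n109283 := rfl
def n109284 : Q := act 1 n50432
theorem D109284 : act 1 n50432 = n109284 := rfl
def n109285 : Q := act 2 n50432
theorem D109285 : act 2 n50432 = n109285 := rfl
def n109286 : Q := act 5 n50432
theorem D109286 : act 5 n50432 = n109286 := rfl
theorem F169305 : act 3 n109286 = n50433 := d6_1 D109286 (iv5 D50433) D50432
def n109287 : Q := act 6 n50432
theorem D109287 : act 6 n50432 = n109287 := rfl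
theorem F169306 : act 3 n109287 = n50434 := d7_1 D109287 (iv6 D50434) D50432
def n109288 : Q := act 6 n50433
theorem D109288 : act 6 n50433 = n109288 := rfl
theorem F169307 : act 4 n109288 = n67681 := d10_1 D109288 (iv6 D67681) (iv4 F79809)
def n109289 : Q := act 0 n50434
theorem D109289 : act 0 n50434 = n109289 := rfl
def n109290 : Q := act 1 n50434
theorem D109290 : act 1 n50434 = n109290 := rfl
def n109291 : Q := act 5 n50434
theorem D109291 : act 5 n50434 = n109291 := rfl
def n109292 : Q := act 7 n50434
theorem D109292 : act 7 n50434 = n109292 := rfl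
theorem F169308 : act 4 n109292 = n50437 := d11_1 D109292 (iv7 D50437) (iv4 F79810)
theorem F169309 : act 6 n109292 = n50554 := d14_1 D109292 F81537 (iv6 D51644) F39420 D50434
def n109293 : Q := act 4 n50435
theorem D109293 : act 4 n50435 = n109293 := rfl
def n109294 : Q := act 5 n50435
theorem D109294 : act 5 n50435 = n109294 := rfl
theorem F169310 : act 2 n109294 = n74272 := d2_1 D109294 (iv5 F161266) F161265
theorem F169311 : act 6 n109294 = n74198 := d21_3 F40749 D50435 D109294 (iv1 D74198) (iv6 D34039) F26064 (iv1 F23859) D14392 (iv6 F24322) F40750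
theorem F169312 : act 0 n74345 = n109294 := d21_10 (iv5 D109294) (iv1 F81549) F81545 (iv6 F78195) (iv1 F78197) D53228 (iv5 F111225) F111223 F101278 D74345
def n109295 : Q := act 6 n50435
theorem D109295 : act 6 n50435 = n109295 := rfl
theorem F169313 : act 2 n109295 = n51913 := d3_1 D109295 (iv6 F81946) F161265
theorem F169314 : act 3 n109295 = n109252 := d7_1 D109295 F169213 F161371
theorem F169315 : act 7 n109295 = n109252 := d14_2 (iv7 F99917) D109295 F169213 F99914 F99578
theorem F169316 : act 0 n109295 = n50467 := d21_4 (iv5 F111542) F169312 (iv5 D109294) D109295 (iv6 D50467) (iv5 F48331) (iv1 F48336) F47395 (iv6 F39482) (iv1 F81620)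
theorem F169317 : act 5 n109295 = n51542 := d21_6 (iv5 F10419) (iv1 F20330) F20284 D24584 D50435 D109295 (iv1 F81320) F39397 (iv6 D25083) (iv1 F19630)
def n109296 : Q := act 0 n50438
theorem D109296 : act 0 n50438 = n109296 := rfl
def n109297 : Q := act 1 n50438
theorem D109297 : act 1 n50438 = n109297 := rfl
def n109298 : Q := act 2 n50438
theorem D109298 : act 2 n50438 = n109298 := rfl
def n109299 : Q := act 5 n50438
theorem D109299 : act 5 n50438 = n109299 := rfl
theorem F169318 : act 3 n109299 = n50439 := d6_1 D109299 (iv5 D50439) D50438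
def n109300 : Q := act 6 n50438
theorem D109300 : act 6 n50438 = n109300 := rfl
theorem F169319 : act 3 n109300 = n50440 := d7_1 D109300 (iv6 D50440) D50438
def n109301 : Q := act 6 n50439
theorem D109301 : act 6 n50439 = n109301 := rfl
def n109302 : Q := act 1 n50440
theorem D109302 : act 1 n50440 = n109302 := rfl
theorem F169320 : act 1 n109302 = n50554 := d15_1 D109302 F81537 F81535
theorem F169321 : act 7 n109302 = n52471 := d15_2 (iv0 F100447) D109302 (iv2 F100445)
theorem F169322 : act 4 n52473 = n109302 := d20_0 (iv1 D109302) F79811 (iv3 F76498) F76500 (iv3 F79614) (iv4 F168777) F168779 (iv4 D52054) D52053 (iv1 F93033)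
def n109303 : Q := act 5 n50440
theorem D109303 : act 5 n50440 = n109303 := rfl
def n109304 : Q := act 7 n50440
theorem D109304 : act 7 n50440 = n109304 := rfl
theorem F169323 : act 2 n109304 = n50554 := d4_1 D109304 F81537 F81535
theorem F169324 : act 4 n109304 = n50442 := d11_1 D109304 (iv7 D50442) (iv4 F79811)
theorem F169325 : act 1 n109304 = n52471 := d15_0 (iv0 F82848) (iv7 F81537) (iv2 F169323)
def n109305 : Q := act 4 n50441
theorem D109305 : act 4 n50441 = n109305 := rfl
theorem F169326 : act 2 n109305 = n50552 := d1_1 D109305 F79922 F79813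
theorem F169327 : act 7 n109305 = n50529 := d11_2 (iv7 F79812) D109305 F79904
theorem F169328 : act 1 n50448 = n109305 := d15_1 (iv0 F79988) F169327 F79903
theorem F169329 : act 1 n109305 = n50549 := d15_0 (iv0 D50549) D50552 (iv2 F169326)
theorem F169330 : act 7 n50549 = n51652 := d15_2 F169328 F169329 F81552
theorem F169331 : act 4 n52472 = n50549 := d20_0 (iv1 F169329) (iv4 D109305) F81377 (iv1 D51560) (iv3 F40188) D52311 F93090 F40266 (iv3 F40265) D52472
def n109306 : Q := act 0 n50443
theorem D109306 : act 0 n50443 = n109306 := rfl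
def n109307 : Q := act 1 n50443
theorem D109307 : act 1 n50443 = n109307 := rfl
def n109308 : Q := act 2 n50443
theorem D109308 : act 2 n50443 = n109308 := rfl
def n109309 : Q := act 5 n50443
theorem D109309 : act 5 n50443 = n109309 := rfl
theorem F169332 : act 3 n109309 = n50444 := d6_1 D109309 (iv5 D50444) D50443
def n109310 : Q := act 6 n50443
theorem D109310 : act 6 n50443 = n109310 := rfl
theorem F169333 : act 3 n109310 = n50445 := d7_1 D109310 (iv6 D50445) D50443
def n109311 : Q := act 6 n50444
theorem D109311 : act 6 n50444 = n109311 := rfl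
def n109312 : Q := act 0 n50445
theorem D109312 : act 0 n50445 = n109312 := rfl
def n109313 : Q := act 5 n50445
theorem D109313 : act 5 n50445 = n109313 := rfl
theorem F169334 : act 0 n51709 = n109313 := d21_7 D51638 F81518 F79829 (iv6 F39473) (iv1 D25111) D25114 D51709 (iv5 D109313) (iv6 D50445) (iv1 F39402)
theorem F169335 : act 4 n106194 = n51708 := d17_9 (iv1 D51708) D51709 F169334 (iv5 D109313) (iv4 F101587) F101588 (iv0 F85074) F85071 D106194
theorem F169336 : act 3 n59217 = n106194 := d20_5 D25128 F47800 F38685 (iv3 F45440) (iv1 F93419) F169335 (iv1 D51708) F39480 F19681 D11935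
def n109314 : Q := act 7 n50445
theorem D109314 : act 7 n50445 = n109314 := rfl
theorem F169337 : act 6 n109314 = n50549 := d14_1 D109314 F169330 (iv6 D51652) (iv7 F39674) D50445
def n109315 : Q := act 0 n50446
theorem D109315 : act 0 n50446 = n109315 := rfl
def n109316 : Q := act 1 n50446
theorem D109316 : act 1 n50446 = n109316 := rfl
def n109317 : Q := act 2 n50446
theorem D109317 : act 2 n50446 = n109317 := rfl
theorem F169338 : act 4 n109317 = n69199 := d1_2 F80448 D109317 F105487
def n109318 : Q := act 5 n50446
theorem D109318 : act 5 n50446 = n109318 := rfl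
theorem F169339 : act 3 n109318 = n50447 := d6_1 D109318 (iv5 D50447) D50446
def n109319 : Q := act 6 n50446
theorem D109319 : act 6 n50446 = n109319 := rfl
theorem F169340 : act 3 n109319 = n50448 := d7_1 D109319 (iv6 D50448) D50446
def n109320 : Q := act 6 n50447
theorem D109320 : act 6 n50447 = n109320 := rfl
def n109321 : Q := act 5 n50448
theorem D109321 : act 5 n50448 = n109321 := rfl
def n109322 : Q := act 7 n50448
theorem D109322 : act 7 n50448 = n109322 := rfl
theorem F169342 : act 4 n109322 = n52053 := d11_1 D109322 F82270 F80441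
theorem F169343 : act 1 n50552 = n109322 := d15_1 F81554 (iv7 D109322) (iv2 F81552)
theorem F169344 : act 1 n109322 = n50529 := d15_1 F169343 (iv7 F169327) F169326
def n109323 : Q := act 2 n50449
theorem D109323 : act 2 n50449 = n109323 := rfl
theorem F169345 : act 7 n50450 = n109323 := d15_2 (iv0 D50449) D50450 (iv2 D109323)
def n109324 : Q := act 3 n50449
theorem D109324 : act 3 n50449 = n109324 := rfl
theorem F169346 : act 4 n109324 = n58851 := d20_6 (iv4 D24585) (iv1 D11629) D11630 D24589 D50449 D109324 (iv1 D58851) (iv4 F93036) (iv3 D58841) F45237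
def n109325 : Q := act 4 n50449
theorem D109325 : act 4 n50449 = n109325 := rfl
theorem F169347 : act 1 n109325 = n51898 := d18_8 D51894 F81931 (iv1 F81637) F81635 F39485 (iv4 F81559) F81561 D109325 (iv5 D51898)
def n109326 : Q := act 5 n50449
theorem D109326 : act 5 n50449 = n109326 := rfl
def n109327 : Q := act 6 n50449
theorem D109327 : act 6 n50449 = n109327 := rfl
def n109328 : Q := act 7 n50449
theorem D109328 : act 7 n50449 = n109328 := rfl
theorem F169348 : act 2 n109328 = n50450 := d4_1 D109328 F169345 (iv2 D109323)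
def n109329 : Q := act 3 n50450
theorem D109329 : act 3 n50450 = n109329 := rfl
def n109330 : Q := act 5 n50450
theorem D109330 : act 5 n50450 = n109330 := rfl
def n109331 : Q := act 6 n50450
theorem D109331 : act 6 n50450 = n109331 := rfl
def n109332 : Q := act 5 n50451
theorem D109332 : act 5 n50451 = n109332 := rfl
theorem F169349 : act 2 n109332 = n50452 := d2_1 D109332 (iv5 D50452) D50451
def n109333 : Q := act 6 n50451
theorem D109333 : act 6 n50451 = n109333 := rfl
def n109334 : Q := act 0 n50452
theorem D109334 : act 0 n50452 = n109334 := rfl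
def n109335 : Q := act 1 n50452
theorem D109335 : act 1 n50452 = n109335 := rfl
theorem F169352 : act 5 n109335 = n50603 := d17_7 (iv1 F39567) (iv5 F81886) (iv1 D24684) F19020 (iv4 F38601) D50452 D109335 F81767 F81762
def n109336 : Q := act 4 n50452
theorem D109336 : act 4 n50452 = n109336 := rfl
def n109337 : Q := act 6 n50452
theorem D109337 : act 6 n50452 = n109337 := rfl
theorem F169353 : act 3 n109337 = n50456 := d7_1 D109337 (iv6 D50456) (iv3 F79825)
def n109338 : Q := act 0 n50453
theorem D109338 : act 0 n50453 = n109338 := rfl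
def n109339 : Q := act 1 n50453
theorem D109339 : act 1 n50453 = n109339 := rfl
def n109340 : Q := act 5 n50453
theorem D109340 : act 5 n50453 = n109340 := rfl
theorem F169354 : act 3 n109340 = n50459 := d6_1 D109340 (iv5 D50459) (iv3 F79826)
def n109341 : Q := act 7 n50453
theorem D109341 : act 7 n50453 = n109341 := rfl
theorem F169355 : act 3 n109341 = n50460 := d8_1 D109341 (iv7 D50460) (iv3 F79826)
def n109342 : Q := act 3 n50454
theorem D109342 : act 3 n50454 = n109342 := rfl
theorem F169357 : act 5 n109342 = n50599 := d6_2 (iv5 F79828) D109342 (iv3 D50599)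
def n109343 : Q := act 6 n50454
theorem D109343 : act 6 n50454 = n109343 := rfl
def n109344 : Q := act 3 n50455
theorem D109344 : act 3 n50455 = n109344 := rfl
theorem F169358 : act 5 n109344 = n50601 := d6_2 (iv5 F79829) D109344 (iv3 D50601)
def n109345 : Q := act 6 n50455
theorem D109345 : act 6 n50455 = n109345 := rfl
def n109346 : Q := act 0 n50456
theorem D109346 : act 0 n50456 = n109346 := rfl
def n109347 : Q := act 1 n50456
theorem D109347 : act 1 n50456 = n109347 := rfl
def n109348 : Q := act 5 n50456
theorem D109348 : act 5 n50456 = n109348 := rfl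
theorem F169359 : act 6 n109348 = n50459 := d12_2 D50456 D109348 (iv5 D50459) (iv6 D24591) D24590
def n109349 : Q := act 7 n50456
theorem D109349 : act 7 n50456 = n109349 := rfl
def n109350 : Q := act 2 n50457
theorem D109350 : act 2 n50457 = n109350 := rfl
theorem F169360 : act 7 n50458 = n109350 := d15_2 (iv0 D50457) D50458 (iv2 D109350)
def n109351 : Q := act 3 n50457
theorem D109351 : act 3 n50457 = n109351 := rfl
def n109352 : Q := act 4 n50457
theorem D109352 : act 4 n50457 = n109352 := rfl
theorem F169361 : act 3 n109352 = n106859 := d20_3 (iv4 F38602) D50457 D109352 (iv1 F164681) F82772 (iv4 F82775) (iv1 F165585) (iv4 D105198) (iv3 F165583) (iv1 D24593)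
def n109353 : Q := act 5 n50457
theorem D109353 : act 5 n50457 = n109353 := rfl
def n109354 : Q := act 6 n50457
theorem D109354 : act 6 n50457 = n109354 := rfl
def n109355 : Q := act 7 n50457
theorem D109355 : act 7 n50457 = n109355 := rfl
theorem F169362 : act 2 n109355 = n50458 := d4_1 D109355 F169360 (iv2 D109350)
def n109356 : Q := act 3 n50458
theorem D109356 : act 3 n50458 = n109356 := rfl
def n109357 : Q := act 4 n50458
theorem D109357 : act 4 n50458 = n109357 := rfl
theorem F169363 : act 5 n109357 = n62048 := d18_4 (iv1 F79785) (iv4 F169232) (iv1 F169234) D109357 F99087 (iv0 D63721) F48330 D30076 (iv5 F48333)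
theorem F169364 : act 3 n51927 = n109357 := d20_5 D24609 (iv1 F80095) F39734 (iv3 F39696) (iv1 F81978) (iv4 D109357) (iv1 D50458) F38602 F18971 D11641
def n109358 : Q := act 5 n50458
theorem D109358 : act 5 n50458 = n109358 := rfl
def n109359 : Q := act 6 n50458
theorem D109359 : act 6 n50458 = n109359 := rfl
def n109360 : Q := act 0 n50459
theorem D109360 : act 0 n50459 = n109360 := rfl
def n109361 : Q := act 1 n50459
theorem D109361 : act 1 n50459 = n109361 := rfl
def n109362 : Q := act 4 n50459
theorem D109362 : act 4 n50459 = n109362 := rfl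
def n109363 : Q := act 7 n50459
theorem D109363 : act 7 n50459 = n109363 := rfl
theorem F169365 : act 5 n109363 = n50460 := d13_1 D109363 (iv7 D50460) D50459
def n109364 : Q := act 4 n50462
theorem D109364 : act 4 n50462 = n109364 := rfl
theorem F169366 : act 2 n109364 = n50923 := d1_1 D109364 F164134 (iv2 F165596)
theorem F169367 : act 7 n109364 = n50924 := d11_2 F167947 D109364 (iv4 F167953)
theorem F169369 : act 0 n50890 = n109364 := d20_7 (iv4 F169232) (iv1 F169234) D109357 (iv3 F169364) (iv1 D51927) F39659 (iv4 F80285) (iv4 D109364) (iv3 D50462) (iv1 F79785)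
def n109365 : Q := act 0 n50463
theorem D109365 : act 0 n50463 = n109365 := rfl
theorem F169370 : act 1 n50466 = n109365 := d15_0 (iv0 D109365) (iv7 F169242) F169241
def n109366 : Q := act 3 n50463
theorem D109366 : act 3 n50463 = n109366 := rfl
def n109367 : Q := act 5 n50463
theorem D109367 : act 5 n50463 = n109367 := rfl
def n109368 : Q := act 3 n50466
theorem D109368 : act 3 n50466 = n109368 := rfl
def n109369 : Q := act 5 n50466
theorem D109369 : act 5 n50466 = n109369 := rfl
def n109370 : Q := act 6 n50466
theorem D109370 : act 6 n50466 = n109370 := rfl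
theorem F169371 : act 4 n109370 = n50467 := d10_1 D109370 (iv6 D50467) D50466
def n109371 : Q := act 2 n50468
theorem D109371 : act 2 n50468 = n109371 := rfl
theorem F169372 : act 7 n50469 = n109371 := d15_2 (iv0 D50468) D50469 (iv2 D109371)
def n109372 : Q := act 3 n50468
theorem D109372 : act 3 n50468 = n109372 := rfl
theorem F169373 : act 4 n109372 = n68196 := d20_6 (iv4 D5416) (iv1 F8221) D11636 D24595 D50468 D109372 (iv1 D68196) F50048 (iv3 D14953) F11442
def n109373 : Q := act 4 n50468
theorem D109373 : act 4 n50468 = n109373 := rfl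
def n109374 : Q := act 5 n50468
theorem D109374 : act 5 n50468 = n109374 := rfl
def n109375 : Q := act 6 n50468
theorem D109375 : act 6 n50468 = n109375 := rfl
def n109376 : Q := act 7 n50468
theorem D109376 : act 7 n50468 = n109376 := rfl
def n109377 : Q := act 3 n50469
theorem D109377 : act 3 n50469 = n109377 := rfl
def n109378 : Q := act 4 n50469
theorem D109378 : act 4 n50469 = n109378 := rfl
def n109379 : Q := act 5 n50469
theorem D109379 : act 5 n50469 = n109379 := rfl
def n109380 : Q := act 6 n50469
theorem D109380 : act 6 n50469 = n109380 := rfl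
def n109381 : Q := act 6 n50470
theorem D109381 : act 6 n50470 = n109381 := rfl
theorem F169375 : act 2 n109381 = n50471 := d3_1 D109381 (iv6 D50471) D50470
def n109382 : Q := act 0 n50471
theorem D109382 : act 0 n50471 = n109382 := rfl
def n109383 : Q := act 1 n50471
theorem D109383 : act 1 n50471 = n109383 := rfl
def n109384 : Q := act 5 n50471
theorem D109384 : act 5 n50471 = n109384 := rfl
theorem F169376 : act 3 n109384 = n50472 := d6_1 D109384 (iv5 D50472) (iv3 F79833)
def n109387 : Q := act 4 n50472
theorem D109387 : act 4 n50472 = n109387 := rfl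
def n109388 : Q := act 2 n50473
theorem D109388 : act 2 n50473 = n109388 := rfl
theorem F169382 : act 7 n50474 = n109388 := d15_2 (iv0 D50473) D50474 (iv2 D109388)
def n109389 : Q := act 3 n50473
theorem D109389 : act 3 n50473 = n109389 := rfl
def n109390 : Q := act 4 n50473
theorem D109390 : act 4 n50473 = n109390 := rfl
def n109391 : Q := act 5 n50473
theorem D109391 : act 5 n50473 = n109391 := rfl
def n109393 : Q := act 7 n50473
theorem D109393 : act 7 n50473 = n109393 := rfl
theorem F169383 : act 2 n109393 = n50474 := d4_1 D109393 F169382 (iv2 D109388)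
def n109394 : Q := act 3 n50474
theorem D109394 : act 3 n50474 = n109394 := rfl
def n109396 : Q := act 5 n50474
theorem D109396 : act 5 n50474 = n109396 := rfl
def n109397 : Q := act 6 n50474
theorem D109397 : act 6 n50474 = n109397 := rfl
def n109398 : Q := act 4 n50475
theorem D109398 : act 4 n50475 = n109398 := rfl
theorem F169384 : act 2 n109398 = n50476 := d1_1 D109398 (iv4 D50476) D50475
def n109399 : Q := act 6 n50475
theorem D109399 : act 6 n50475 = n109399 := rfl
theorem F169385 : act 2 n109399 = n50477 := d3_1 D109399 (iv6 D50477) D50475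
def n109400 : Q := act 0 n50476
theorem D109400 : act 0 n50476 = n109400 := rfl
def n109401 : Q := act 1 n50476
theorem D109401 : act 1 n50476 = n109401 := rfl
theorem F169386 : act 4 n66188 = n109401 := d20_6 (iv4 D5405) (iv1 F4952) D6996 D14647 D30938 D66188 (iv1 D109401) (iv4 D50476) (iv3 D24597) (iv1 D11638)
def n109402 : Q := act 5 n50476
theorem D109402 : act 5 n50476 = n109402 := rfl
theorem F169387 : act 3 n109402 = n51967 := d6_1 D109402 (iv5 D51967) (iv3 F79834)
def n109403 : Q := act 6 n50476
theorem D109403 : act 6 n50476 = n109403 := rfl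
def n109404 : Q := act 0 n50477
theorem D109404 : act 0 n50477 = n109404 := rfl
def n109405 : Q := act 1 n50477
theorem D109405 : act 1 n50477 = n109405 := rfl
def n109406 : Q := act 5 n50477
theorem D109406 : act 5 n50477 = n109406 := rfl
theorem F169390 : act 3 n109406 = n50478 := d6_1 D109406 (iv5 D50478) (iv3 F79835)
def n109407 : Q := act 0 n50478
theorem D109407 : act 0 n50478 = n109407 := rfl
theorem F169391 : act 5 n109407 = n74503 := d17_3 (iv1 F39455) D50478 D109407 (iv4 D74503) (iv5 D34166) (iv0 D16540) (iv5 F18980) F19669 (iv4 F39453)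
theorem F169392 : act 1 n50576 = n109407 := d15_0 (iv0 D109407) (iv7 F80498) F80497
def n109408 : Q := act 1 n50478
theorem D109408 : act 1 n50478 = n109408 := rfl
theorem F169393 : act 1 n109408 = n50576 := d15_1 D109408 (iv7 F80406) F80404
theorem F169394 : act 5 n109408 = n51916 := d17_7 F45521 F45519 (iv1 D24271) (iv5 F19749) (iv4 F38606) D50478 D109408 (iv0 F81953) F80059
def n109409 : Q := act 4 n50478
theorem D109409 : act 4 n50478 = n109409 := rfl
def n109410 : Q := act 0 n50479
theorem D109410 : act 0 n50479 = n109410 := rfl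
theorem F169396 : act 1 n50484 = n109410 := d15_0 (iv0 D109410) (iv7 F79836) (iv2 F79837)
def n109412 : Q := act 3 n50479
theorem D109412 : act 3 n50479 = n109412 := rfl
theorem F169398 : act 7 n109412 = n50485 := d8_2 F79836 D109412 (iv3 D50485)
def n109413 : Q := act 4 n50479
theorem D109413 : act 4 n50479 = n109413 := rfl
theorem F169399 : act 2 n109413 = n50481 := d1_1 D109413 (iv4 D50481) D50479
theorem F169400 : act 7 n109413 = n50486 := d11_2 F79836 D109413 (iv4 D50486)
def n109414 : Q := act 5 n50479
theorem D109414 : act 5 n50479 = n109414 := rfl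
theorem F169401 : act 2 n109414 = n50482 := d2_1 D109414 (iv5 D50482) D50479
theorem F169402 : act 7 n109414 = n50487 := d13_2 F79836 D109414 (iv5 D50487)
def n109416 : Q := act 0 n50480
theorem D109416 : act 0 n50480 = n109416 := rfl
def n109417 : Q := act 1 n50480
theorem D109417 : act 1 n50480 = n109417 := rfl
def n109418 : Q := act 2 n50480
theorem D109418 : act 2 n50480 = n109418 := rfl
def n109419 : Q := act 5 n50480
theorem D109419 : act 5 n50480 = n109419 := rfl
theorem F169404 : act 3 n109419 = n50482 := d6_1 D109419 (iv5 D50482) D50480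
def n109421 : Q := act 7 n50480
theorem D109421 : act 7 n50480 = n109421 := rfl
theorem F169406 : act 3 n109421 = n50484 := d8_1 D109421 (iv7 D50484) D50480
def n109422 : Q := act 0 n50481
theorem D109422 : act 0 n50481 = n109422 := rfl
theorem F169407 : act 4 n109422 = n109377 := d20_2 D50481 D109422 (iv3 D109377) (iv1 D50469) (iv3 D24595) (iv4 D11636) (iv1 D5404) D5405 D11639 D24599
def n109423 : Q := act 1 n50481
theorem D109423 : act 1 n50481 = n109423 := rfl
theorem F169408 : act 1 n109423 = n50486 := d15_1 D109423 (iv7 F169400) F169399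
def n109424 : Q := act 3 n50481
theorem D109424 : act 3 n50481 = n109424 := rfl
def n109425 : Q := act 5 n50481
theorem D109425 : act 5 n50481 = n109425 := rfl
def n109426 : Q := act 6 n50481
theorem D109426 : act 6 n50481 = n109426 := rfl
def n109427 : Q := act 7 n50481
theorem D109427 : act 7 n50481 = n109427 := rfl
theorem F169410 : act 2 n109427 = n50486 := d4_1 D109427 (iv7 F169400) F169399
theorem F169411 : act 4 n109427 = n50484 := d11_1 D109427 (iv7 D50484) D50481
theorem F169412 : act 1 n50486 = n109422 := d15_0 (iv0 D109422) D109427 F169410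
def n109429 : Q := act 1 n50482
theorem D109429 : act 1 n50482 = n109429 := rfl
theorem F169413 : act 1 n109429 = n50487 := d15_1 D109429 (iv7 F169402) F169401
def n109432 : Q := act 7 n50482
theorem D109432 : act 7 n50482 = n109432 := rfl
theorem F169415 : act 5 n109432 = n50484 := d13_1 D109432 (iv7 D50484) D50482
def n109438 : Q := act 0 n50485
theorem D109438 : act 0 n50485 = n109438 := rfl
def n109439 : Q := act 1 n50485
theorem D109439 : act 1 n50485 = n109439 := rfl
def n109440 : Q := act 2 n50485
theorem D109440 : act 2 n50485 = n109440 := rfl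
def n109441 : Q := act 4 n50485
theorem D109441 : act 4 n50485 = n109441 := rfl
theorem F169418 : act 0 n66189 = n109441 := d20_1 D66189 (iv4 D109441) (iv3 D50485) (iv1 D24600) (iv3 D11639) (iv4 D5405) (iv1 F4952) D6996 D14647 D30938
def n109442 : Q := act 5 n50485
theorem D109442 : act 5 n50485 = n109442 := rfl
theorem F169419 : act 3 n109442 = n50487 := d6_1 D109442 (iv5 D50487) D50485
def n109444 : Q := act 3 n50486
theorem D109444 : act 3 n50486 = n109444 := rfl
def n109445 : Q := act 5 n50486
theorem D109445 : act 5 n50486 = n109445 := rfl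
def n109446 : Q := act 6 n50486
theorem D109446 : act 6 n50486 = n109446 := rfl
def n109474 : Q := act 4 n50495
theorem D109474 : act 4 n50495 = n109474 := rfl
theorem F169432 : act 3 n109474 = n51989 := d5_1 D109474 (iv4 D51989) (iv3 D25227) F79865 D50495
def n109475 : Q := act 5 n50495
theorem D109475 : act 5 n50495 = n109475 := rfl
theorem F169433 : act 3 n109475 = n50497 := d6_1 D109475 (iv5 D50497) D50495
def n109476 : Q := act 4 n50497
theorem D109476 : act 4 n50497 = n109476 := rfl
theorem F169434 : act 0 n109476 = n50781 := d18_2 (iv1 F80071) D109476 (iv4 D50781) (iv5 D24714) F19023 D13432 (iv4 F79879) F39569 (iv5 F80070)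
def n109481 : Q := act 4 n50499
theorem D109481 : act 4 n50499 = n109481 := rfl
theorem F169436 : act 3 n109481 = n51993 := d5_1 D109481 (iv4 D51993) (iv3 D25230) F79869 D50499
def n109482 : Q := act 5 n50499
theorem D109482 : act 5 n50499 = n109482 := rfl
theorem F169437 : act 3 n109482 = n50501 := d6_1 D109482 (iv5 D50501) D50499
def n109483 : Q := act 6 n50499
theorem D109483 : act 6 n50499 = n109483 := rfl
theorem F169439 : act 3 n109483 = n50502 := d7_1 D109483 (iv6 D50502) D50499
def n109484 : Q := act 4 n50501
theorem D109484 : act 4 n50501 = n109484 := rfl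
def n109486 : Q := act 4 n50503
theorem D109486 : act 4 n50503 = n109486 := rfl
theorem F169444 : act 1 n109486 = n51984 := d18_6 F80103 F19713 D13382 (iv4 F79851) (iv5 F79871) D109486 (iv4 D51984) (iv0 F81840) (iv5 D51819)
def n109492 : Q := act 1 n50505
theorem D109492 : act 1 n50505 = n109492 := rfl
theorem F169448 : act 4 n109492 = n50734 := d18_7 (iv1 F80098) (iv4 D24612) (iv1 D11642) (iv4 F18984) D24605 D50505 D109492 F82093 F82092
def n109494 : Q := act 5 n50505
theorem D109494 : act 5 n50505 = n109494 := rfl
theorem F169450 : act 7 n109494 = n61113 := d16_8 (iv4 D62366) (iv5 D29499) F23387 F11041 (iv4 F18984) D24605 D50505 D109494 (iv2 F97251)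
def n109495 : Q := act 7 n50505
theorem D109495 : act 7 n50505 = n109495 := rfl
theorem F169451 : act 4 n109495 = n50506 := d11_1 D109495 (iv7 D50506) D50505
theorem F169452 : act 5 n109495 = n61113 := d13_1 D109495 (iv7 F169450) (iv5 D109494)
def n109497 : Q := act 0 n50510
theorem D109497 : act 0 n50510 = n109497 := rfl
def n109498 : Q := act 3 n50510
theorem D109498 : act 3 n50510 = n109498 := rfl
theorem F169454 : act 4 n109498 = n50513 := d5_2 D50510 D109498 (iv3 D50513) (iv4 D24609) D24608
def n109499 : Q := act 5 n50510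
theorem D109499 : act 5 n50510 = n109499 := rfl
theorem F169455 : act 2 n109499 = n109098 := d2_1 D109499 (iv5 F169087) F164348
theorem F169456 : act 7 n109499 = n109097 := d13_2 F164335 D109499 F169086
theorem F169457 : act 0 n109499 = n108664 := d17_2 F164101 D109499 (iv5 D108664) (iv4 F98658) F98659 (iv0 F168457) (iv5 F168454) (iv0 D58794) (iv4 F92944)
theorem F169458 : act 1 n109499 = n109100 := d17_6 (iv1 F79496) (iv5 F79721) (iv1 F164126) F46693 D50510 D109499 F169088 (iv0 F168558) (iv4 D108648)
def n109503 : Q := act 5 n50513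
theorem D109503 : act 5 n50513 = n109503 := rfl
theorem F169459 : act 3 n109503 = n50514 := d6_1 D109503 (iv5 D50514) D50513
def n109504 : Q := act 4 n50514
theorem D109504 : act 4 n50514 = n109504 := rfl
theorem F169460 : act 0 n109504 = n51804 := d18_2 (iv1 F80160) D109504 (iv4 D51804) (iv5 D25151) F19701 D11944 D25157 F80104 (iv5 F80159)
def n109510 : Q := act 6 n50520
theorem D109510 : act 6 n50520 = n109510 := rfl
theorem F169464 : act 3 n109510 = n50522 := d7_1 D109510 (iv6 D50522) D50520
def n109512 : Q := act 0 n50524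
theorem D109512 : act 0 n50524 = n109512 := rfl
theorem F169468 : act 1 n74183 = n109512 := d15_0 (iv0 D109512) F79898 D74183
def n109513 : Q := act 1 n50524
theorem D109513 : act 1 n50524 = n109513 := rfl
theorem F169469 : act 4 n58934 = n109513 := d20_6 (iv4 D13362) (iv1 D6336) D6337 D13367 D28012 D58934 (iv1 D109513) (iv4 F93079) (iv3 D58863) (iv1 F45261)
theorem F169470 : act 0 n74183 = n109513 := d20_7 F93143 (iv1 F45328) D28066 D59076 (iv1 F93258) (iv3 F161090) F161091 (iv4 F169469) (iv3 D58934) D58932
def n109514 : Q := act 2 n50524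
theorem D109514 : act 2 n50524 = n109514 := rfl
theorem F169471 : act 7 n109514 = n74183 := d4_2 (iv7 F79898) D109514 (iv2 D74183)
theorem F169472 : act 1 n109514 = n74181 := d15_0 (iv0 D74181) (iv7 F79898) D109514
theorem F169473 : act 1 n74182 = n109514 := d15_1 D74182 F169471 (iv2 D74183)
def n109515 : Q := act 5 n50524
theorem D109515 : act 5 n50524 = n109515 := rfl
theorem F169474 : act 3 n109515 = n50525 := d6_1 D109515 (iv5 D50525) D50524
theorem F169475 : act 7 n109515 = n74184 := d13_2 (iv7 F79898) D109515 (iv5 D74184)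
def n109516 : Q := act 6 n50524
theorem D109516 : act 6 n50524 = n109516 := rfl
theorem F169476 : act 3 n109516 = n50526 := d7_1 D109516 (iv6 D50526) D50524
def n109517 : Q := act 6 n50525
theorem D109517 : act 6 n50525 = n109517 := rfl
def n109518 : Q := act 5 n50526
theorem D109518 : act 5 n50526 = n109518 := rfl
def n109519 : Q := act 0 n50527
theorem D109519 : act 0 n50527 = n109519 := rfl
def n109520 : Q := act 1 n50527
theorem D109520 : act 1 n50527 = n109520 := rfl
def n109521 : Q := act 2 n50527
theorem D109521 : act 2 n50527 = n109521 := rfl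
theorem F169477 : act 3 n109521 = n50542 := d0_2 D50527 D109521 (iv2 D50542) (iv3 D24624) (iv2 F38618)
def n109522 : Q := act 5 n50527
theorem D109522 : act 5 n50527 = n109522 := rfl
theorem F169478 : act 3 n109522 = n50528 := d6_1 D109522 (iv5 D50528) D50527
def n109523 : Q := act 6 n50527
theorem D109523 : act 6 n50527 = n109523 := rfl
theorem F169479 : act 3 n109523 = n50529 := d7_1 D109523 (iv6 D50529) D50527
def n109524 : Q := act 6 n50528
theorem D109524 : act 6 n50528 = n109524 := rfl
theorem F169480 : act 2 n109524 = n50548 := d3_1 D109524 (iv6 D50548) (iv2 F79901)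
theorem F169481 : act 4 n109524 = n51952 := d10_1 D109524 (iv6 D51952) (iv4 F79902)
def n109525 : Q := act 5 n50529
theorem D109525 : act 5 n50529 = n109525 := rfl
theorem F169482 : act 2 n109525 = n50551 := d2_1 D109525 (iv5 D50551) (iv2 F79903)
def n109526 : Q := act 1 n50530
theorem D109526 : act 1 n50530 = n109526 := rfl
theorem F169483 : act 5 n109526 = n67884 := d17_7 (iv1 F51029) F50367 (iv1 F50812) (iv5 F51089) F51091 F79906 D109526 F104654 F104652
theorem F169484 : act 4 n109526 = n67868 := d17_9 F103926 (iv5 D32175) (iv1 F50688) (iv5 F94405) (iv4 D59925) (iv5 D28462) D28460 F79906 D109526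
theorem F169485 : act 2 n67886 = n109526 := d1_3 F169484 (iv2 F105194) F105195
def n109527 : Q := act 2 n50530
theorem D109527 : act 2 n50530 = n109527 := rfl
theorem F169487 : act 4 n109527 = n69070 := d1_2 (iv4 F79905) D109527 F105302
theorem F169488 : act 5 n109527 = n59889 := d2_2 F79906 D109527 (iv2 F94364)
theorem F169489 : act 7 n109527 = n59916 := d4_2 F81343 D109527 F94393
theorem F169490 : act 1 n109527 = n67886 := d15_0 F103944 F81343 D109527
def n109528 : Q := act 6 n50530
theorem D109528 : act 6 n50530 = n109528 := rfl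
theorem F169491 : act 3 n109528 = n50532 := d7_1 D109528 (iv6 D50532) D50530
def n109529 : Q := act 6 n50531
theorem D109529 : act 6 n50531 = n109529 := rfl
def n109530 : Q := act 1 n50532
theorem D109530 : act 1 n50532 = n109530 := rfl
def n109531 : Q := act 5 n50532
theorem D109531 : act 5 n50532 = n109531 := rfl
def n109532 : Q := act 0 n50534
theorem D109532 : act 0 n50534 = n109532 := rfl
theorem F169494 : act 5 n109532 = n75068 := d19_1 D109532 F112588 (iv3 D34409) F50112 (iv5 D31807) (iv4 D14968) F11444 (iv1 F7635) (iv5 D5119) (iv4 D2107) (iv3 F3393) D5083 (iv5 F8684) (iv4 F18597) D24223 (iv1 F39764) (iv5 F40260) F40261 D50534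
theorem F169495 : act 3 n109532 = n75069 := d20_5 (iv4 D25465) D25464 F40261 D50534 D109532 F112589 F105206 (iv4 F81342) (iv3 D51550) (iv1 F40264)
def n109533 : Q := act 1 n50534
theorem D109533 : act 1 n50534 = n109533 := rfl
def n109534 : Q := act 2 n50534
theorem D109534 : act 2 n50534 = n109534 := rfl
def n109535 : Q := act 5 n50534
theorem D109535 : act 5 n50534 = n109535 := rfl
theorem F169496 : act 3 n109535 = n50535 := d6_1 D109535 (iv5 D50535) D50534
def n109536 : Q := act 6 n50534
theorem D109536 : act 6 n50534 = n109536 := rfl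
theorem F169497 : act 3 n109536 = n50536 := d7_1 D109536 (iv6 D50536) D50534
def n109537 : Q := act 6 n50535
theorem D109537 : act 6 n50535 = n109537 := rfl
def n109538 : Q := act 5 n50536
theorem D109538 : act 5 n50536 = n109538 := rfl
def n109539 : Q := act 0 n50537
theorem D109539 : act 0 n50537 = n109539 := rfl
def n109540 : Q := act 1 n50537
theorem D109540 : act 1 n50537 = n109540 := rfl
def n109541 : Q := act 2 n50537
theorem D109541 : act 2 n50537 = n109541 := rfl
theorem F169498 : act 5 n109541 = n105722 := d2_2 (iv5 F94442) D109541 F162360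
def n109542 : Q := act 6 n50537
theorem D109542 : act 6 n50537 = n109542 := rfl
theorem F169499 : act 3 n109542 = n50539 := d7_1 D109542 (iv6 D50539) D50537
def n109543 : Q := act 6 n50538
theorem D109543 : act 6 n50538 = n109543 := rfl
def n109544 : Q := act 5 n50539
theorem D109544 : act 5 n50539 = n109544 := rfl
def n109545 : Q := act 7 n50539
theorem D109545 : act 7 n50539 = n109545 := rfl
def n109546 : Q := act 2 n50540
theorem D109546 : act 2 n50540 = n109546 := rfl
theorem F169500 : act 7 n50541 = n109546 := d15_2 (iv0 D50540) D50541 (iv2 D109546)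
def n109547 : Q := act 3 n50540
theorem D109547 : act 3 n50540 = n109547 := rfl
theorem F169501 : act 4 n109547 = n105285 := d20_6 (iv4 D14417) F22587 D11659 D24624 D50540 D109547 (iv1 D105285) (iv4 F100449) (iv3 D64519) (iv1 D30374)
def n109548 : Q := act 4 n50540
theorem D109548 : act 4 n50540 = n109548 := rfl
def n109549 : Q := act 5 n50540
theorem D109549 : act 5 n50540 = n109549 := rfl
def n109551 : Q := act 7 n50540
theorem D109551 : act 7 n50540 = n109551 := rfl
theorem F169502 : act 2 n109551 = n50541 := d4_1 D109551 F169500 (iv2 D109546)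
def n109552 : Q := act 6 n50541
theorem D109552 : act 6 n50541 = n109552 := rfl
def n109553 : Q := act 5 n50542
theorem D109553 : act 5 n50542 = n109553 := rfl
theorem F169503 : act 2 n109553 = n50543 := d2_1 D109553 (iv5 D50543) D50542
def n109554 : Q := act 6 n50542
theorem D109554 : act 6 n50542 = n109554 := rfl
def n109555 : Q := act 0 n50543
theorem D109555 : act 0 n50543 = n109555 := rfl
def n109556 : Q := act 1 n50543
theorem D109556 : act 1 n50543 = n109556 := rfl
theorem F169506 : act 5 n109556 = n50676 := d17_7 (iv1 F39489) F81886 (iv1 D24657) F19013 (iv4 F38625) D50543 D109556 F81639 F81635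
theorem F169507 : act 3 n59864 = n109556 := d19_19 (iv1 D109556) (iv5 D50543) F38625 (iv3 D11665) (iv1 F18982) (iv5 F19082) (iv4 D11731) D11730 (iv1 F19079) (iv5 D5730) (iv4 D2398) (iv3 F5122) (iv1 F1935) (iv5 F2397) (iv4 F4470) (iv3 F10527) (iv1 F54309) (iv5 F45961) (iv4 F94323)
theorem F169508 : act 7 n109556 = n59861 := d8_2 D59864 F169507 (iv3 D59861)
theorem F169509 : act 2 n59861 = n109555 := d15_3 (iv0 D109555) D109556 F169508
theorem F169510 : act 5 n109555 = n50675 := d2_2 F94318 F169509 (iv2 F105369)
def n109557 : Q := act 4 n50543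
theorem D109557 : act 4 n50543 = n109557 := rfl
def n109558 : Q := act 6 n50543
theorem D109558 : act 6 n50543 = n109558 := rfl
theorem F169511 : act 3 n109558 = n50548 := d7_1 D109558 (iv6 D50548) (iv3 F79913)
def n109561 : Q := act 5 n50544
theorem D109561 : act 5 n50544 = n109561 := rfl
theorem F169512 : act 3 n109561 = n50551 := d6_1 D109561 (iv5 D50551) (iv3 F79914)
def n109563 : Q := act 3 n50545
theorem D109563 : act 3 n50545 = n109563 := rfl
theorem F169515 : act 5 n109563 = n50672 := d6_2 (iv5 F79916) D109563 (iv3 D50672)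
theorem F169516 : act 0 n109563 = n75068 := d20_4 (iv4 F166919) (iv1 F166924) F80432 D109563 (iv3 D75068) (iv4 D34385) (iv1 F50989) D32114 (iv3 F81315) (iv1 F82846)
def n109564 : Q := act 6 n50545
theorem D109564 : act 6 n50545 = n109564 := rfl
def n109565 : Q := act 6 n50546
theorem D109565 : act 6 n50546 = n109565 := rfl
theorem F169517 : act 4 n109565 = n108015 := d10_1 D109565 (iv6 D108015) F79918
def n109566 : Q := act 3 n50547
theorem D109566 : act 3 n50547 = n109566 := rfl
theorem F169518 : act 5 n109566 = n51924 := d6_2 (iv5 F79920) D109566 (iv3 D51924)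
def n109567 : Q := act 6 n50547
theorem D109567 : act 6 n50547 = n109567 := rfl
theorem F169519 : act 2 n109567 = n51952 := d3_1 D109567 (iv6 D51952) (iv2 F79919)
theorem F169520 : act 4 n109567 = n50548 := d10_1 D109567 (iv6 D50548) D50547
def n109568 : Q := act 0 n50548
theorem D109568 : act 0 n50548 = n109568 := rfl
def n109569 : Q := act 1 n50548
theorem D109569 : act 1 n50548 = n109569 := rfl
def n109570 : Q := act 5 n50548
theorem D109570 : act 5 n50548 = n109570 := rfl
theorem F169521 : act 6 n109570 = n50551 := d12_2 D50548 D109570 (iv5 D50551) (iv6 D24626) D24625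
def n109571 : Q := act 7 n50548
theorem D109571 : act 7 n50548 = n109571 := rfl
def n109572 : Q := act 3 n50549
theorem D109572 : act 3 n50549 = n109572 := rfl
def n109573 : Q := act 5 n50549
theorem D109573 : act 5 n50549 = n109573 := rfl
def n109574 : Q := act 0 n50551
theorem D109574 : act 0 n50551 = n109574 := rfl
def n109575 : Q := act 1 n50551
theorem D109575 : act 1 n50551 = n109575 := rfl
def n109576 : Q := act 4 n50551
theorem D109576 : act 4 n50551 = n109576 := rfl
def n109577 : Q := act 7 n50551
theorem D109577 : act 7 n50551 = n109577 := rfl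
theorem F169522 : act 5 n109577 = n50552 := d13_1 D109577 (iv7 D50552) D50551
def n109578 : Q := act 4 n50553
theorem D109578 : act 4 n50553 = n109578 := rfl
theorem F169523 : act 2 n109578 = n51022 := d1_1 D109578 (iv4 F167739) (iv2 F81159)
theorem F169524 : act 7 n109578 = n50913 := d11_2 (iv7 F81155) D109578 F81158
theorem F169525 : act 0 n109578 = n51025 := d20_1 D109578 F80486 F38839 (iv1 F19751) (iv3 F39718) (iv4 F82077) F82078 F40185 (iv3 F40181) (iv1 F81161)
theorem F169526 : act 0 n50994 = n109578 := d20_7 D109305 (iv1 F169328) (iv4 F80441) F80440 F39820 F39819 (iv4 F80439) (iv4 D109578) (iv3 D50553) (iv1 F79815)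
def n109579 : Q := act 3 n50554
theorem D109579 : act 3 n50554 = n109579 := rfl
def n109580 : Q := act 5 n50554
theorem D109580 : act 5 n50554 = n109580 := rfl
def n109581 : Q := act 3 n50555
theorem D109581 : act 3 n50555 = n109581 := rfl
theorem F169527 : act 7 n109581 = n64247 := d8_2 (iv7 F99750) D109581 F103655
theorem F169528 : act 2 n109581 = n64246 := d15_3 (iv0 D64246) D64247 (iv7 F169527)
def n109582 : Q := act 4 n50555
theorem D109582 : act 4 n50555 = n109582 := rfl
theorem F169529 : act 2 n109582 = n64321 := d1_1 D109582 (iv4 D64321) (iv2 F99753)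
theorem F169530 : act 7 n109582 = n64323 := d11_2 (iv7 F99750) D109582 (iv4 D64323)
theorem F169531 : act 0 n109582 = n64341 := d18_2 D50555 D109582 (iv4 F104287) F104288 F169322 F169320 (iv4 D50554) (iv0 D24627) D24628
theorem E16945 : n109581 = n64281 := ((c20_5 (iv4 F165026) (iv1 D107061) F78209 (iv3 F48693) D64281 (iv3 D109581) D109582 F169531 (iv4 F104287) F104286 (iv1 F78369))).symm
theorem F169532 : act 2 n64281 = n64246 := (sb E16945 F169528)
theorem F169533 : act 3 n64281 = n50555 := (sb E16945 (iv3 D109581))
theorem F169534 : act 7 n64281 = n64247 := (sb E16945 F169527)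
theorem F169535 : act 2 n64247 = n64282 := d15_3 F100088 F100093 F169534
theorem F169536 : act 7 n64246 = n64282 := d4_2 (iv7 F169534) F169532 (iv2 F169535)
theorem E16946 : n64339 = n64321 := ((c15_4 (iv0 D64339) (iv0 F100150) (iv7 F169530) F169529)).symm
theorem F169537 : act 1 n64321 = n30305 := (sb E16946 (iv0 D64339))
def n109583 : Q := act 5 n50555
theorem D109583 : act 5 n50555 = n109583 := rfl
theorem F169538 : act 2 n109583 = n50622 := d2_1 D109583 F79995 (iv2 F99753)
theorem F169539 : act 6 n109583 = n50597 := d12_2 F99646 D109583 (iv5 F99647) (iv6 D64060) D64059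
theorem F169540 : act 7 n109583 = n50691 := d13_2 (iv7 F99750) D109583 F80050
theorem F169541 : act 0 n109583 = n64170 := d21_1 D109583 (iv5 D64170) F83879 (iv1 D14454) (iv6 D6909) D6908 F24073 D11663 (iv6 F38629) D50555
theorem F169542 : act 0 n50871 = n109583 := d21_10 (iv5 D109583) (iv1 F79930) F79814 (iv6 F81334) (iv1 F81335) D51586 F81419 (iv1 F161303) (iv5 D50870) D50871
def n109584 : Q := act 3 n50556
theorem D109584 : act 3 n50556 = n109584 := rfl
theorem F169543 : act 6 n109584 = n62588 := d7_2 (iv6 F99757) D109584 F168407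
theorem F169544 : act 7 n109584 = n64320 := d8_2 F99755 D109584 (iv3 D64320)
theorem F169545 : act 2 n64437 = n109584 := d3_3 F169543 (iv2 F168402) F165238
theorem F169546 : act 0 n109584 = n52254 := d21_4 D66272 F164583 F164582 (iv6 F169543) F82624 (iv5 D25382) D25381 F40129 D52201 F101881
theorem F169547 : act 1 n109584 = n62602 := d15_1 (iv0 F169546) F97620 (iv2 F82622)
theorem F169548 : act 3 n64282 = n64437 := d0_0 F169545 (iv3 D109584) (iv2 F99752) (iv3 F103655) F169535
def n109585 : Q := act 4 n50556
theorem D109585 : act 4 n50556 = n109585 := rfl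
theorem F169549 : act 2 n109585 = n64323 := d1_1 D109585 (iv4 D64323) F99752
theorem F169550 : act 7 n109585 = n64321 := d11_2 F99755 D109585 (iv4 D64321)
theorem F169551 : act 0 n109585 = n63923 := d18_2 (iv1 F79923) D109585 F99435 F93832 (iv4 F100446) (iv0 F100447) F79811 D50441 (iv5 F79814)
theorem F169552 : act 0 n64341 = n109585 := d20_7 (iv4 F82625) (iv1 F169268) (iv4 D67499) (iv3 F168087) (iv1 F78373) (iv3 F104286) F104287 (iv4 D109585) D109584 F169546
theorem F169553 : act 1 n109582 = n63923 := d15_0 (iv0 F169551) F169550 (iv2 F169529)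
def n109586 : Q := act 5 n50556
theorem D109586 : act 5 n50556 = n109586 := rfl
theorem F169554 : act 2 n109586 = n50691 := d2_1 D109586 F80050 F99752
theorem F169555 : act 6 n109586 = n50669 := d12_2 (iv6 F99757) D109586 (iv5 F83894) (iv6 F100534) F100533
theorem F169556 : act 7 n109586 = n50622 := d13_2 F99755 D109586 F79995
theorem F169557 : act 0 n109586 = n50871 := d21_1 D109586 F161308 D64175 F99892 (iv6 F98867) (iv5 D63550) (iv1 F48350) (iv5 F99126) F99127 (iv1 F79923)
theorem F169558 : act 0 n64170 = n109586 := d21_10 (iv5 D109586) (iv1 D50556) (iv5 D24628) (iv6 D11660) D11657 D24621 F38624 D34076 D74268 F111155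
def n109587 : Q := act 0 n50557
theorem D109587 : act 0 n50557 = n109587 := rfl
def n109588 : Q := act 1 n50557
theorem D109588 : act 1 n50557 = n109588 := rfl
theorem F169559 : act 1 n109588 = n64319 := d15_1 D109588 (iv7 D64319) (iv2 F79924)
def n109589 : Q := act 3 n50557
theorem D109589 : act 3 n50557 = n109589 := rfl
theorem F169560 : act 4 n109589 = n50587 := d5_2 D50557 D109589 (iv3 D50587) (iv4 D24642) (iv3 F38628)
theorem F169561 : act 6 n109589 = n50559 := d7_2 (iv6 F79925) D109589 (iv3 D50559)
def n109590 : Q := act 5 n50557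
theorem D109590 : act 5 n50557 = n109590 := rfl
theorem F169562 : act 2 n109590 = n64318 := d2_1 D109590 (iv5 D64318) (iv2 F79924)
def n109591 : Q := act 7 n50557
theorem D109591 : act 7 n50557 = n109591 := rfl
theorem F169563 : act 2 n109591 = n64319 := d4_1 D109591 (iv7 D64319) (iv2 F79924)
theorem F169564 : act 4 n109591 = n50558 := d11_1 D109591 (iv7 D50558) D50557
theorem F169565 : act 6 n109591 = n64146 := d14_1 D109591 F99856 (iv6 D30301) (iv7 F38632) (iv6 F79925)
theorem F169566 : act 1 n64319 = n109587 := d15_0 (iv0 D109587) D109591 F169563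
theorem F169567 : act 1 n64317 = n109591 := d15_1 D64317 (iv7 D109591) F79924
theorem F169568 : act 4 n109587 = n68126 := d18_7 D52472 F169331 (iv1 F169329) (iv4 D109305) (iv5 F79814) (iv4 F100149) F169566 (iv0 D68126) F50028
theorem F169569 : act 1 n109591 = n64316 := d15_0 (iv0 D64316) D64319 (iv2 F169563)
def n109592 : Q := act 0 n50559
theorem D109592 : act 0 n50559 = n109592 := rfl
theorem F169570 : act 1 n64326 = n109592 := d15_0 (iv0 D109592) F79934 D64326
theorem F169571 : act 4 n66051 = n109592 := d20_0 (iv1 F169570) F100285 (iv3 F84255) (iv1 F84259) D65558 (iv4 F101715) (iv1 F101720) (iv4 D30897) D30896 D66051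
def n109593 : Q := act 1 n50559
theorem D109593 : act 1 n50559 = n109593 := rfl
theorem F169572 : act 4 n65655 = n109593 := d20_6 (iv4 D5884) (iv1 F9041) (iv4 F11229) D14573 D30757 D65655 (iv1 D109593) F79933 (iv3 D24644) F19009
theorem F169573 : act 0 n64326 = n109593 := d20_7 (iv4 F103644) (iv1 F103648) (iv4 F101394) (iv3 D65553) (iv1 F84257) F84255 (iv4 F100285) (iv4 F169572) (iv3 D65655) (iv1 F49694)
theorem E16947 : n54256 = n50590 := (c18_10 (iv1 F79962) (iv4 F100285) F169573 (iv4 F169572) F162510 F94115 F85510 (iv4 D31259) F41644 D54256)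
theorem F169574 : act 5 n50590 = n26234 := (sb E16947 (iv5 D54256))
theorem F169575 : act 5 n64850 = n109592 := d17_7 D50590 F169574 (iv1 F41644) (iv5 D14750) (iv4 F24111) D30484 D64850 (iv0 D109592) F79933
def n109594 : Q := act 2 n50559
theorem D109594 : act 2 n50559 = n109594 := rfl
theorem F169576 : act 3 n109594 = n64312 := d0_2 D50559 D109594 (iv2 D64312) (iv3 D30293) (iv2 F38631)
theorem F169577 : act 4 n109594 = n50592 := d1_2 (iv4 F79933) D109594 (iv2 D50592)
theorem F169578 : act 7 n109594 = n64326 := d4_2 (iv7 F79934) D109594 (iv2 D64326)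
theorem F169579 : act 1 n109594 = n64324 := d15_0 (iv0 D64324) (iv7 F79934) D109594
theorem F169580 : act 1 n64325 = n109594 := d15_1 D64325 F169578 (iv2 D64326)
theorem E16948 : n64861 = n64325 := (c17_8 (iv1 F79967) F103142 (iv1 D14752) (iv5 D7029) (iv4 F11188) D14470 D30486 D64861 F169580 F169577)
theorem F169581 : act 5 n64325 = n30486 := (sb E16948 (iv5 D64861))
theorem F169582 : act 5 n67203 = n67645 := d18_4 (iv1 F41648) (iv4 F85507) (iv1 F85511) D67203 F103664 F169580 F169577 F79965 (iv5 F103146)
theorem E16949 : n67647 = n48926 := (c6_3 F169582 (iv3 D67645) D67647 F103152)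
theorem E16950 : n105837 = n31417 := ((D105837).symm.trans (sb E16949 (iv5 D67647)))
theorem F169583 : act 5 n31417 = n48926 := (sb E16950 (iv5 D105837))
theorem F169585 : act 5 n105839 = n67649 := d13_3 (iv7 D67649) F169583 D105839
theorem E16951 : n67652 = n48927 := (c2_3 F169585 F103666 D67652 (iv2 F162533))
theorem E16952 : n105842 = n31418 := ((D105842).symm.trans (sb E16951 (iv5 D67652)))
theorem F169586 : act 5 n31418 = n48927 := (sb E16952 (iv5 D105842))
theorem F169587 : act 5 n105840 = n67650 := d6_2 F169586 D105840 (iv3 D67650)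
def n109597 : Q := act 3 n50560
theorem D109597 : act 3 n50560 = n109597 := rfl
theorem F169590 : act 7 n109597 = n50566 := d8_2 F79935 D109597 (iv3 D50566)
def n109598 : Q := act 4 n50560
theorem D109598 : act 4 n50560 = n109598 := rfl
theorem F169591 : act 2 n109598 = n50562 := d1_1 D109598 (iv4 D50562) D50560
theorem F169592 : act 7 n109598 = n50567 := d11_2 F79935 D109598 (iv4 D50567)
def n109599 : Q := act 6 n50560
theorem D109599 : act 6 n50560 = n109599 := rfl
theorem F169593 : act 2 n109599 = n50564 := d3_1 D109599 (iv6 D50564) D50560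
def n109600 : Q := act 0 n50561
theorem D109600 : act 0 n50561 = n109600 := rfl
def n109601 : Q := act 1 n50561
theorem D109601 : act 1 n50561 = n109601 := rfl
theorem F169594 : act 5 n109601 = n109118 := d18_9 F169111 F80144 (iv1 D50772) (iv4 D24710) (iv5 F19088) (iv4 F38755) D50915 (iv4 F80323) D109601
theorem F169595 : act 3 n109119 = n109601 := d6_3 F169594 (iv3 D109118) D109119
theorem F169596 : act 4 n66018 = n109119 := d20_8 F80323 (iv1 D50915) F38755 (iv3 D11733) (iv1 F11260) D14647 (iv4 F49346) D66018 F169595 (iv1 D109601)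
theorem E16953 : n50804 = n14647 := (c18_1 (iv1 F80182) (iv4 F49346) D66018 F169596 (iv5 D109119) (iv4 D50372) (iv0 D24557) F18957 D11697 D24725)
theorem E16954 : n30938 = n24720 := ((D30938).symm.trans (sb E16953 (iv1 D50804)))
theorem E16955 : n30939 = n24725 := ((D30939).symm.trans (sb E16953 F80182))
theorem E16956 : n51600 = n50803 := (((D50803).symm.trans (sb E16954 (iv1 F81449)))).symm
theorem F169597 : act 1 n24720 = n14647 := (sb E16954 (iv0 D30938))
theorem E16958 : n66188 = n50794 := ((((iv3 F80173)).symm.trans (sb E16954 D66188))).symm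
theorem E16959 : n66189 = n50805 := (((D50805).symm.trans (sb E16954 D66189))).symm
theorem F169598 : act 0 n24725 = n14647 := (sb E16955 (iv1 D30939))
theorem F169599 : act 2 n50803 = n25065 := (sb E16956 (iv2 D51600))
theorem F169600 : act 3 n50803 = n50470 := (sb E16956 F81446)
theorem F169601 : act 5 n50803 = n50470 := (sb E16956 F81447)
theorem F169602 : act 7 n50803 = n30940 := (sb E16956 F81448)
theorem F169603 : act 4 n50794 = n109401 := (sb E16958 F169386)
theorem F169604 : act 0 n50805 = n109441 := (sb E16959 F169418)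
theorem F169605 : act 5 n108733 = n109122 := d17_5 D11696 D24720 D50803 F169601 (iv4 F168686) (iv0 D109122) (iv5 D50373) (iv0 D24557) F18957
theorem F169606 : act 2 n109122 = n108734 := d2_1 F169605 (iv5 D108734) D108733
theorem E16967 : n109123 = n109063 := (c15_2 (iv0 D109122) D109123 F169068 (iv2 F169606))
theorem F169607 : act 0 n109063 = n50373 := (sb E16967 (iv1 D109123))
theorem F169608 : act 1 n109063 = n50378 := (sb E16967 F169117)
def n109602 : Q := act 2 n50561
theorem D109602 : act 2 n50561 = n109602 := rfl
def n109604 : Q := act 7 n50561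
theorem D109604 : act 7 n50561 = n109604 := rfl
theorem F169610 : act 3 n109604 = n50565 := d8_1 D109604 (iv7 D50565) D50561
def n109605 : Q := act 0 n50562
theorem D109605 : act 0 n50562 = n109605 := rfl
theorem F169611 : act 4 n109605 = n50817 := d18_3 D24631 D50562 D109605 (iv5 D50817) D50816 (iv0 F80187) (iv4 D50626) (iv0 D24656) F19013
def n109606 : Q := act 1 n50562
theorem D109606 : act 1 n50562 = n109606 := rfl
theorem F169612 : act 1 n109606 = n50567 := d15_1 D109606 (iv7 F169592) F169591
def n109607 : Q := act 3 n50562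
theorem D109607 : act 3 n50562 = n109607 := rfl
def n109608 : Q := act 5 n50562
theorem D109608 : act 5 n50562 = n109608 := rfl
def n109609 : Q := act 6 n50562
theorem D109609 : act 6 n50562 = n109609 := rfl
def n109610 : Q := act 7 n50562
theorem D109610 : act 7 n50562 = n109610 := rfl
theorem F169614 : act 2 n109610 = n50567 := d4_1 D109610 (iv7 F169592) F169591
theorem F169615 : act 4 n109610 = n50565 := d11_1 D109610 (iv7 D50565) D50562
theorem F169616 : act 1 n50567 = n109605 := d15_0 (iv0 D109605) D109610 F169614
def n109611 : Q := act 0 n50564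
theorem D109611 : act 0 n50564 = n109611 := rfl
def n109614 : Q := act 7 n50564
theorem D109614 : act 7 n50564 = n109614 := rfl
def n109616 : Q := act 0 n50566
theorem D109616 : act 0 n50566 = n109616 := rfl
def n109617 : Q := act 1 n50566
theorem D109617 : act 1 n50566 = n109617 := rfl
def n109618 : Q := act 2 n50566
theorem D109618 : act 2 n50566 = n109618 := rfl
def n109619 : Q := act 4 n50566
theorem D109619 : act 4 n50566 = n109619 := rfl
theorem F169618 : act 0 n109373 = n109619 := d20_1 D109373 (iv4 D109619) (iv3 D50566) (iv1 D24632) (iv3 D11665) (iv4 D5416) (iv1 F8221) D11636 D24595 D50468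
def n109620 : Q := act 6 n50566
theorem D109620 : act 6 n50566 = n109620 := rfl
def n109621 : Q := act 3 n50567
theorem D109621 : act 3 n50567 = n109621 := rfl
def n109622 : Q := act 5 n50567
theorem D109622 : act 5 n50567 = n109622 := rfl
def n109623 : Q := act 6 n50567
theorem D109623 : act 6 n50567 = n109623 := rfl
def n109641 : Q := act 6 n50572
theorem D109641 : act 6 n50572 = n109641 := rfl
def n109647 : Q := act 1 n50575
theorem D109647 : act 1 n50575 = n109647 := rfl
def n109648 : Q := act 2 n50575
theorem D109648 : act 2 n50575 = n109648 := rfl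
def n109649 : Q := act 4 n50575
theorem D109649 : act 4 n50575 = n109649 := rfl
theorem F169631 : act 3 n109649 = n52081 := d5_1 D109649 (iv4 D52081) (iv3 D25280) (iv4 F38856) D50575
def n109650 : Q := act 5 n50575
theorem D109650 : act 5 n50575 = n109650 := rfl
theorem F169632 : act 3 n109650 = n50576 := d6_1 D109650 (iv5 D50576) D50575
def n109651 : Q := act 4 n50576
theorem D109651 : act 4 n50576 = n109651 := rfl
theorem F169633 : act 5 n109651 = n74585 := d16_1 D109651 (iv4 D74585) (iv5 D34199) F26209 (iv5 F19749) (iv4 F38606) D50478 (iv7 F80498) F80497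
def n109652 : Q := act 6 n50576
theorem D109652 : act 6 n50576 = n109652 := rfl
def n109653 : Q := act 3 n50577
theorem D109653 : act 3 n50577 = n109653 := rfl
def n109654 : Q := act 4 n50577
theorem D109654 : act 4 n50577 = n109654 := rfl
def n109656 : Q := act 3 n50578
theorem D109656 : act 3 n50578 = n109656 := rfl
def n109657 : Q := act 4 n50578
theorem D109657 : act 4 n50578 = n109657 := rfl
theorem F169635 : act 0 n109657 = n52077 := d18_2 (iv1 F81605) D109657 (iv4 D52077) (iv5 D25278) F19842 (iv0 F19750) (iv4 F38606) F39455 (iv5 F81604)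
def n109662 : Q := act 5 n50579
theorem D109662 : act 5 n50579 = n109662 := rfl
theorem F169638 : act 4 n109662 = n65583 := d16_2 D50579 D109662 F101339 F49198 F24226 (iv4 F39453) (iv5 F81604) (iv7 D51688) F39451
theorem F169639 : act 7 n65582 = n109662 := d11_0 F169638 (iv7 D65583) D65582
theorem F169640 : act 1 n74495 = n109662 := d18_6 (iv1 F53716) (iv4 D34168) (iv1 D16541) (iv4 F26174) D34162 D74495 F169638 F101341 F100990
def n109663 : Q := act 7 n50579
theorem D109663 : act 7 n50579 = n109663 := rfl
theorem F169641 : act 4 n109663 = n50580 := d11_1 D109663 (iv7 D50580) D50579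
theorem F169642 : act 5 n109663 = n65582 := d13_1 D109663 F169639 (iv5 D109662)
def n109665 : Q := act 0 n50581
theorem D109665 : act 0 n50581 = n109665 := rfl
def n109666 : Q := act 1 n50581
theorem D109666 : act 1 n50581 = n109666 := rfl
def n109667 : Q := act 2 n50581
theorem D109667 : act 2 n50581 = n109667 := rfl
def n109668 : Q := act 5 n50581
theorem D109668 : act 5 n50581 = n109668 := rfl
def n109669 : Q := act 4 n50582
theorem D109669 : act 4 n50582 = n109669 := rfl
def n109671 : Q := act 4 n50584
theorem D109671 : act 4 n50584 = n109671 := rfl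
theorem F169645 : act 2 n109671 = n65940 := d1_1 D109671 (iv4 D65940) (iv2 F163918)
theorem F169646 : act 7 n109671 = n65587 := d11_2 (iv7 F79942) D109671 (iv4 D65587)
theorem F169647 : act 0 n109671 = n53378 := d18_2 (iv1 F163917) D109671 F84223 (iv5 F93896) (iv4 F101700) (iv0 F101701) F79565 F39229 (iv5 F49315)
theorem F169648 : act 0 n65959 = n109671 := d20_7 D24642 D50585 F79948 D52082 F168054 (iv3 F103346) F103347 (iv4 D109671) (iv3 D50584) (iv1 D24641)
theorem F169649 : act 3 n68126 = n108706 := d20_9 F103347 F169648 (iv4 D109671) (iv3 D50584) (iv1 D24641) (iv3 F38628) D50557 D109587 F169568 (iv1 F168656)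
theorem F169650 : act 0 n65550 = n107045 := d20_1 D65550 (iv4 F168650) F168649 D108706 (iv3 F169649) (iv4 F169568) (iv1 F169566) F100149 (iv3 F84037) (iv1 F84039)
def n109672 : Q := act 3 n50585
theorem D109672 : act 3 n50585 = n109672 := rfl
theorem F169651 : act 7 n109672 = n65579 := d8_2 (iv7 F79949) D109672 (iv3 D65579)
def n109673 : Q := act 5 n50585
theorem D109673 : act 5 n50585 = n109673 := rfl
theorem F169652 : act 2 n109673 = n65577 := d2_1 D109673 (iv5 D65577) F79950
theorem F169653 : act 7 n109673 = n65580 := d13_2 (iv7 F79949) D109673 (iv5 D65580)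
theorem F169654 : act 0 n109673 = n65142 := d17_2 D50585 D109673 (iv5 D65142) (iv4 D30584) D30585 (iv0 F49002) F39508 (iv0 D24640) D24642
theorem F169655 : act 1 n109673 = n65150 := d17_6 (iv1 F38211) (iv5 F45367) F45452 F45450 (iv4 F79948) D109673 (iv5 D65150) F53825 F53823
def n109674 : Q := act 3 n50586
theorem D109674 : act 3 n50586 = n109674 := rfl
theorem F169656 : act 7 n109674 = n65576 := d8_2 F79952 D109674 (iv3 D65576)
def n109675 : Q := act 5 n50586
theorem D109675 : act 5 n50586 = n109675 := rfl
theorem F169657 : act 2 n109675 = n65580 := d2_1 D109675 (iv5 D65580) F79945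
theorem F169658 : act 7 n109675 = n65577 := d13_2 F79952 D109675 (iv5 D65577)
theorem F169659 : act 0 n109675 = n65150 := d17_2 (iv1 F79943) D109675 (iv5 D65150) (iv4 D30588) (iv5 F38715) (iv0 F39583) F39584 F38635 (iv4 F49198)
def n109676 : Q := act 0 n50587
theorem D109676 : act 0 n50587 = n109676 := rfl
def n109677 : Q := act 1 n50587
theorem D109677 : act 1 n50587 = n109677 := rfl
def n109678 : Q := act 2 n50587
theorem D109678 : act 2 n50587 = n109678 := rfl
theorem F169661 : act 3 n109678 = n65563 := d0_2 D50587 D109678 F101286 F49194 (iv2 F38636)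
theorem F169662 : act 6 n109678 = n50592 := d3_2 (iv6 F79954) D109678 (iv2 D50592)
def n109679 : Q := act 5 n50587
theorem D109679 : act 5 n50587 = n109679 := rfl
theorem F169663 : act 3 n109679 = n50588 := d6_1 D109679 (iv5 D50588) D50587
def n109680 : Q := act 7 n50587
theorem D109680 : act 7 n50587 = n109680 := rfl
theorem F169664 : act 3 n109680 = n50589 := d8_1 D109680 (iv7 D50589) D50587
theorem F169665 : act 6 n109680 = n65080 := d14_1 D109680 F100868 (iv6 D30743) (iv7 F38644) (iv6 F79954)
def n109681 : Q := act 4 n50588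
theorem D109681 : act 4 n50588 = n109681 := rfl
theorem F169666 : act 2 n109681 = n65582 := d1_1 D109681 (iv4 D65582) (iv2 F79955)
theorem F169667 : act 1 n109681 = n74495 := d18_6 (iv1 F49698) F49699 (iv1 D24641) D24642 D50588 D109681 (iv4 D74495) F101387 F101386
def n109682 : Q := act 2 n50590
theorem D109682 : act 2 n50590 = n109682 := rfl
theorem F169668 : act 5 n109682 = n54253 := d2_2 (iv5 F169574) D109682 (iv2 D54253)
theorem F169669 : act 7 n50591 = n109682 := d15_2 (iv0 D50590) D50591 (iv2 D109682)
theorem E16968 : n54261 = n50591 := (c13_4 F169669 F169668 (iv7 F85598) D54261)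
theorem F169670 : act 5 n50591 = n26235 := (sb E16968 (iv5 D54261))
theorem F169671 : act 5 n64849 = n109593 := d17_7 (iv1 F79966) F169670 (iv1 D26235) F20708 (iv4 F24114) (iv5 F48892) F100689 (iv0 F169573) F100285
def n109683 : Q := act 3 n50590
theorem D109683 : act 3 n50590 = n109683 := rfl
theorem F169672 : act 5 n109683 = n54254 := d6_2 (iv5 F169574) D109683 (iv3 D54254)
theorem F169673 : act 4 n109683 = n67677 := d20_6 (iv4 D5826) (iv1 F8233) D11670 D24644 D50590 D109683 (iv1 D67677) F49726 (iv3 D14819) F11312
def n109684 : Q := act 4 n50590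
theorem D109684 : act 4 n50590 = n109684 := rfl
def n109685 : Q := act 6 n50590
theorem D109685 : act 6 n50590 = n109685 := rfl
def n109686 : Q := act 7 n50590
theorem D109686 : act 7 n50590 = n109686 := rfl
theorem F169674 : act 2 n109686 = n50591 := d4_1 D109686 F169669 (iv2 D109682)
theorem F169675 : act 5 n109686 = n54258 := d13_1 D109686 (iv7 D54258) (iv5 F169574)
def n109687 : Q := act 3 n50591
theorem D109687 : act 3 n50591 = n109687 := rfl
theorem F169676 : act 5 n109687 = n54259 := d6_2 (iv5 F169670) D109687 (iv3 D54259)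
def n109688 : Q := act 4 n50591
theorem D109688 : act 4 n50591 = n109688 := rfl
theorem F169677 : act 3 n64342 = n109688 := d20_5 (iv4 D50257) (iv1 F48739) (iv4 D30307) D30306 D64342 (iv4 D109688) (iv1 D50591) (iv4 F79933) (iv3 D50559) (iv1 F79638)
def n109689 : Q := act 6 n50591
theorem D109689 : act 6 n50591 = n109689 := rfl
def n109690 : Q := act 0 n50593
theorem D109690 : act 0 n50593 = n109690 := rfl
def n109691 : Q := act 1 n50593
theorem D109691 : act 1 n50593 = n109691 := rfl
def n109692 : Q := act 2 n50593
theorem D109692 : act 2 n50593 = n109692 := rfl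
theorem F169678 : act 3 n109692 = n50604 := d0_2 D50593 D109692 (iv2 D50604) (iv3 D24649) (iv2 F38645)
def n109693 : Q := act 5 n50593
theorem D109693 : act 5 n50593 = n109693 := rfl
theorem F169679 : act 3 n109693 = n50594 := d6_1 D109693 (iv5 D50594) D50593
def n109694 : Q := act 6 n50593
theorem D109694 : act 6 n50593 = n109694 := rfl
theorem F169680 : act 3 n109694 = n50595 := d7_1 D109694 (iv6 D50595) D50593
def n109695 : Q := act 6 n50594
theorem D109695 : act 6 n50594 = n109695 := rfl
theorem F169681 : act 2 n109695 = n50609 := d3_1 D109695 (iv6 D50609) (iv2 F79968)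
theorem F169682 : act 4 n109695 = n107237 := d10_1 D109695 (iv6 D107237) (iv4 F79969)
def n109696 : Q := act 0 n50595
theorem D109696 : act 0 n50595 = n109696 := rfl
def n109697 : Q := act 1 n50595
theorem D109697 : act 1 n50595 = n109697 := rfl
theorem F169683 : act 1 n109697 = n50613 := d15_1 D109697 (iv7 D50613) (iv2 F79971)
def n109698 : Q := act 5 n50595
theorem D109698 : act 5 n50595 = n109698 := rfl
theorem F169684 : act 2 n109698 = n50612 := d2_1 D109698 (iv5 D50612) (iv2 F79971)
theorem F169685 : act 0 n109698 = n109544 := d21_7 D24625 D50545 F79916 (iv6 F39641) (iv1 F39553) D50595 D109698 (iv5 D109544) (iv6 D50539) (iv1 D24623)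
def n109699 : Q := act 7 n50595
theorem D109699 : act 7 n50595 = n109699 := rfl
theorem F169686 : act 2 n109699 = n50613 := d4_1 D109699 (iv7 D50613) (iv2 F79971)
theorem F169687 : act 4 n109699 = n50598 := d11_1 D109699 (iv7 D50598) (iv4 F79972)
theorem F169688 : act 1 n50613 = n109696 := d15_0 (iv0 D109696) D109699 F169686
theorem F169689 : act 1 n50611 = n109699 := d15_1 D50611 (iv7 D109699) F79971
theorem F169690 : act 4 n58987 = n109696 := d20_6 D25132 F47802 F19710 (iv3 F22244) D28031 D58987 (iv1 F169688) F79992 F38657 (iv1 F19686)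
theorem F169691 : act 1 n109699 = n50610 := d15_0 (iv0 D50610) D50613 (iv2 F169686)
def n109700 : Q := act 4 n50596
theorem D109700 : act 4 n50596 = n109700 := rfl
theorem F169692 : act 2 n109700 = n50616 := d1_1 D109700 (iv4 D50616) (iv2 F99778)
theorem F169693 : act 6 n109700 = n50694 := d10_2 (iv6 F83964) D109700 (iv4 D50694)
theorem F169694 : act 7 n109700 = n50621 := d11_2 (iv7 F99779) D109700 (iv4 D50621)
theorem F169695 : act 0 n64063 = n109700 := d20_7 (iv4 F93367) (iv1 F93370) F165833 (iv3 F168067) (iv1 D58779) (iv3 F92907) (iv4 F99654) (iv4 D109700) F168197 (iv1 F76533)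
def n109701 : Q := act 4 n50597
theorem D109701 : act 4 n50597 = n109701 := rfl
theorem F169696 : act 2 n109701 = n50621 := d1_1 D109701 (iv4 D50621) (iv2 F99761)
theorem F169697 : act 7 n109701 = n50616 := d11_2 (iv7 F99762) D109701 (iv4 D50616)
theorem F169698 : act 0 n109701 = n64063 := d18_2 (iv1 F79973) D109701 F99654 F92908 (iv4 F99495) F99494 F99492 F48518 F48512
def n109702 : Q := act 0 n50599
theorem D109702 : act 0 n50599 = n109702 := rfl
def n109703 : Q := act 1 n50599
theorem D109703 : act 1 n50599 = n109703 := rfl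
theorem F169699 : act 4 n108668 = n109703 := d20_6 (iv4 D24466) (iv1 D11560) D11561 D24470 D50176 D108668 (iv1 D109703) (iv4 F101568) (iv3 D65892) F49280
def n109704 : Q := act 2 n50599
theorem D109704 : act 2 n50599 = n109704 := rfl
def n109705 : Q := act 6 n50599
theorem D109705 : act 6 n50599 = n109705 := rfl
theorem F169700 : act 3 n109705 = n50600 := d7_1 D109705 (iv6 D50600) D50599
def n109706 : Q := act 5 n50600
theorem D109706 : act 5 n50600 = n109706 := rfl
def n109707 : Q := act 0 n50601
theorem D109707 : act 0 n50601 = n109707 := rfl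
def n109708 : Q := act 1 n50601
theorem D109708 : act 1 n50601 = n109708 := rfl
def n109709 : Q := act 2 n50601
theorem D109709 : act 2 n50601 = n109709 := rfl
theorem F169701 : act 4 n109709 = n108012 := d1_2 (iv4 F79979) D109709 (iv2 D108012)
def n109710 : Q := act 3 n50602
theorem D109710 : act 3 n50602 = n109710 := rfl
theorem F169702 : act 4 n109710 = n58894 := d20_6 (iv4 D14333) F20247 D11674 D24649 D50602 D109710 (iv1 D58894) (iv4 F93107) (iv3 D58886) F45267
def n109711 : Q := act 4 n50602
theorem D109711 : act 4 n50602 = n109711 := rfl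
theorem F169703 : act 2 n109711 = n50736 := d1_1 D109711 F81761 F105376
theorem F169704 : act 7 n109711 = n50813 := d11_2 (iv7 F105377) D109711 F81760
theorem F169705 : act 5 n109711 = n51894 := d18_4 (iv1 D24657) (iv4 F38649) D50602 D109711 F81931 (iv0 D50675) F38673 D24684 F81886
def n109712 : Q := act 5 n50602
theorem D109712 : act 5 n50602 = n109712 := rfl
def n109713 : Q := act 6 n50602
theorem D109713 : act 6 n50602 = n109713 := rfl
def n109714 : Q := act 3 n50603
theorem D109714 : act 3 n50603 = n109714 := rfl
def n109715 : Q := act 6 n50603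
theorem D109715 : act 6 n50603 = n109715 := rfl
def n109716 : Q := act 5 n50604
theorem D109716 : act 5 n50604 = n109716 := rfl
theorem F169706 : act 2 n109716 = n50605 := d2_1 D109716 (iv5 D50605) D50604
def n109717 : Q := act 6 n50604
theorem D109717 : act 6 n50604 = n109717 := rfl
def n109718 : Q := act 0 n50605
theorem D109718 : act 0 n50605 = n109718 := rfl
def n109719 : Q := act 1 n50605
theorem D109719 : act 1 n50605 = n109719 := rfl
theorem F169709 : act 5 n109719 = n51656 := d17_7 (iv1 F39448) F105470 (iv1 D24632) (iv5 F19013) (iv4 F38649) D50605 D109719 F81562 F79824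
def n109720 : Q := act 4 n50605
theorem D109720 : act 4 n50605 = n109720 := rfl
def n109721 : Q := act 6 n50605
theorem D109721 : act 6 n50605 = n109721 := rfl
theorem F169710 : act 3 n109721 = n50609 := d7_1 D109721 (iv6 D50609) (iv3 F79981)
def n109722 : Q := act 0 n50606
theorem D109722 : act 0 n50606 = n109722 := rfl
def n109723 : Q := act 1 n50606
theorem D109723 : act 1 n50606 = n109723 := rfl
def n109724 : Q := act 5 n50606
theorem D109724 : act 5 n50606 = n109724 := rfl
theorem F169711 : act 3 n109724 = n50612 := d6_1 D109724 (iv5 D50612) (iv3 F79982)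
def n109725 : Q := act 7 n50606
theorem D109725 : act 7 n50606 = n109725 := rfl
theorem F169712 : act 3 n109725 = n50613 := d8_1 D109725 (iv7 D50613) (iv3 F79982)
def n109726 : Q := act 3 n50607
theorem D109726 : act 3 n50607 = n109726 := rfl
theorem F169714 : act 5 n109726 = n51651 := d6_2 (iv5 F79984) D109726 (iv3 D51651)
theorem F169715 : act 7 n109726 = n109309 := d8_2 F79986 D109726 F169332
def n109727 : Q := act 6 n50607
theorem D109727 : act 6 n50607 = n109727 := rfl
theorem F169716 : act 2 n109727 = n109320 := d3_1 D109727 (iv6 D109320) F79985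
def n109728 : Q := act 3 n50608
theorem D109728 : act 3 n50608 = n109728 := rfl
theorem F169717 : act 5 n109728 = n51653 := d6_2 (iv5 F79990) D109728 (iv3 D51653)
theorem F169718 : act 7 n109728 = n109318 := d8_2 (iv7 F79989) D109728 F169339
def n109729 : Q := act 6 n50608
theorem D109729 : act 6 n50608 = n109729 := rfl
theorem F169719 : act 2 n109729 = n109311 := d3_1 D109729 (iv6 D109311) F79991
def n109730 : Q := act 0 n50609
theorem D109730 : act 0 n50609 = n109730 := rfl
def n109731 : Q := act 1 n50609
theorem D109731 : act 1 n50609 = n109731 := rfl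
def n109732 : Q := act 5 n50609
theorem D109732 : act 5 n50609 = n109732 := rfl
theorem F169720 : act 6 n109732 = n50612 := d12_2 D50609 D109732 (iv5 D50612) (iv6 D24651) D24650
def n109733 : Q := act 7 n50609
theorem D109733 : act 7 n50609 = n109733 := rfl
def n109734 : Q := act 2 n50610
theorem D109734 : act 2 n50610 = n109734 := rfl
theorem F169721 : act 7 n50611 = n109734 := d15_2 (iv0 D50610) D50611 (iv2 D109734)
def n109735 : Q := act 3 n50610
theorem D109735 : act 3 n50610 = n109735 := rfl
def n109736 : Q := act 4 n50610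
theorem D109736 : act 4 n50610 = n109736 := rfl
theorem F169722 : act 1 n109736 = n58774 := d18_8 F79641 (iv4 F168839) (iv1 F168841) (iv4 D63957) (iv5 F79975) (iv4 F169687) F169691 D109736 F92908
theorem F169723 : act 3 n109736 = n109059 := d20_3 (iv4 F38650) D50610 D109736 (iv1 F169061) F93316 (iv4 F82739) (iv1 F161153) (iv4 D105217) (iv3 F168343) (iv1 D24653)
def n109737 : Q := act 5 n50610
theorem D109737 : act 5 n50610 = n109737 := rfl
def n109738 : Q := act 6 n50610
theorem D109738 : act 6 n50610 = n109738 := rfl
def n109739 : Q := act 7 n50610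
theorem D109739 : act 7 n50610 = n109739 := rfl
theorem F169724 : act 2 n109739 = n50611 := d4_1 D109739 F169721 (iv2 D109734)
def n109740 : Q := act 3 n50611
theorem D109740 : act 3 n50611 = n109740 := rfl
def n109741 : Q := act 4 n50611
theorem D109741 : act 4 n50611 = n109741 := rfl
theorem F169725 : act 3 n58976 = n109741 := d20_5 D24666 F48933 F39602 (iv3 F45302) (iv1 F93179) (iv4 D109741) (iv1 D50611) F38650 F19012 D11678
def n109742 : Q := act 5 n50611
theorem D109742 : act 5 n50611 = n109742 := rfl
def n109743 : Q := act 6 n50611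
theorem D109743 : act 6 n50611 = n109743 := rfl
def n109744 : Q := act 0 n50612
theorem D109744 : act 0 n50612 = n109744 := rfl
theorem F169726 : act 5 n109744 = n51563 := d21_8 D50528 (iv1 F81404) F81406 F39473 (iv1 D24648) D24651 D50612 D109744 (iv6 D51563) (iv1 F39310)
theorem F169727 : act 0 n109741 = n58774 := d17_0 F92908 F79641 (iv5 F161398) F161397 (iv5 F169726) (iv0 D109744) (iv5 D50612) D50611 D109741
theorem F169728 : act 2 n109544 = n109744 := d2_3 F169726 F81385 D109544
def n109745 : Q := act 1 n50612
theorem D109745 : act 1 n50612 = n109745 := rfl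
theorem F169729 : act 7 n109745 = n109544 := d15_2 (iv0 D109744) D109745 F169728
theorem F169730 : act 5 n109545 = n109745 := d13_3 F169729 (iv5 D109544) D109545
def n109746 : Q := act 4 n50612
theorem D109746 : act 4 n50612 = n109746 := rfl
def n109747 : Q := act 7 n50612
theorem D109747 : act 7 n50612 = n109747 := rfl
theorem F169731 : act 5 n109747 = n50613 := d13_1 D109747 (iv7 D50613) D50612
theorem F169732 : act 0 n109544 = n109747 := d17_2 F100439 D109544 F169731 F79992 (iv5 F48512) (iv0 D14413) D14415 D30370 D64510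
def n109748 : Q := act 4 n50615
theorem D109748 : act 4 n50615 = n109748 := rfl
theorem F169733 : act 2 n109748 = n59220 := d1_1 D109748 F168411 (iv2 F168352)
theorem F169734 : act 6 n109748 = n59255 := d10_2 (iv6 F163876) D109748 (iv4 F163877)
theorem F169735 : act 7 n109748 = n59221 := d11_2 F168500 D109748 (iv4 F168503)
theorem F169736 : act 0 n109748 = n59223 := d18_2 (iv1 F163875) D109748 F93429 F45441 D53960 (iv0 F85107) F48781 D30352 F48783
theorem F169737 : act 0 n52239 = n109748 := d20_7 (iv4 F169687) (iv1 F169689) D109741 (iv3 F169725) (iv1 D58976) (iv3 F45437) (iv4 F82599) (iv4 D109748) (iv3 D50615) (iv1 F79978)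
def n109749 : Q := act 5 n50615
theorem D109749 : act 5 n50615 = n109749 := rfl
theorem F169738 : act 3 n109749 = n50617 := d6_1 D109749 (iv5 D50617) D50615
def n109750 : Q := act 0 n50616
theorem D109750 : act 0 n50616 = n109750 := rfl
theorem F169739 : act 4 n109750 = n107510 := d18_3 D24652 D50616 D109750 (iv5 D107510) (iv4 F99487) (iv0 D63953) F48507 (iv0 F38654) (iv5 D24654)
theorem F169740 : act 1 n50621 = n109750 := d15_0 (iv0 D109750) (iv7 F169697) F169696
theorem F169741 : act 7 n64063 = n109750 := d11_0 F169739 F165866 (iv4 F99654)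
theorem F169742 : act 1 n64075 = n50621 := d15_0 F169740 (iv7 F169741) (iv2 F99675)
theorem F169743 : act 1 n50616 = n64075 := d15_0 F169742 (iv7 F169694) F169692
def n109751 : Q := act 3 n50616
theorem D109751 : act 3 n50616 = n109751 := rfl
def n109752 : Q := act 5 n50616
theorem D109752 : act 5 n50616 = n109752 := rfl
def n109753 : Q := act 6 n50616
theorem D109753 : act 6 n50616 = n109753 := rfl
theorem F169744 : act 2 n109753 = n50694 := d3_1 D109753 (iv6 F169693) F169692
theorem F169745 : act 4 n109753 = n50618 := d10_1 D109753 (iv6 D50618) D50616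
theorem F169746 : act 7 n50690 = n109753 := d11_0 F169745 F99772 D50690
theorem F169747 : act 1 n59150 = n109753 := d18_6 (iv1 F48332) D63730 F164045 F163799 F77767 (iv4 F93337) F169745 F83899 (iv5 F47395)
def n109754 : Q := act 4 n50617
theorem D109754 : act 4 n50617 = n109754 := rfl
def n109755 : Q := act 3 n50621
theorem D109755 : act 3 n50621 = n109755 := rfl
def n109756 : Q := act 5 n50621
theorem D109756 : act 5 n50621 = n109756 := rfl
def n109757 : Q := act 6 n50621
theorem D109757 : act 6 n50621 = n109757 := rfl
theorem F169748 : act 4 n109757 = n50622 := d10_1 D109757 (iv6 D50622) D50621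
def n109758 : Q := act 1 n50623
theorem D109758 : act 1 n50623 = n109758 := rfl
theorem F169749 : act 1 n109758 = n63957 := d15_1 D109758 F99506 (iv2 F79996)
theorem F169750 : act 7 n109758 = n59496 := d15_2 (iv0 F168840) D109758 (iv2 F168838)
theorem F169751 : act 4 n59499 = n109758 := d20_0 (iv1 D109758) (iv4 D50623) F38652 F19017 (iv3 F20393) (iv4 F40933) D53464 F104325 F100427 (iv1 F100428)
theorem F169752 : act 2 n109758 = n64500 := d1_1 F169751 (iv4 F165859) (iv2 F165860)
theorem F169753 : act 6 n109758 = n64396 := d10_2 F162027 F169751 (iv4 F162026)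
def n109759 : Q := act 3 n50623
theorem D109759 : act 3 n50623 = n109759 := rfl
theorem F169754 : act 4 n109759 = n50664 := d5_2 D50623 D109759 (iv3 D50664) (iv4 D24672) (iv3 F38652)
theorem F169755 : act 6 n109759 = n64111 := d7_2 (iv6 F79997) D109759 (iv3 D64111)
theorem F169756 : act 7 n109759 = n64501 := d8_2 (iv7 F79998) D109759 (iv3 D64501)
def n109760 : Q := act 5 n50623
theorem D109760 : act 5 n50623 = n109760 := rfl
theorem F169757 : act 2 n109760 = n64505 := d2_1 D109760 (iv5 D64505) (iv2 F79996)
theorem F169758 : act 7 n109760 = n64502 := d13_2 (iv7 F79998) D109760 (iv5 D64502)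
def n109762 : Q := act 1 n50624
theorem D109762 : act 1 n50624 = n109762 := rfl
theorem F169760 : act 1 n109762 = n50629 := d15_1 D109762 (iv7 D50629) D50624
def n109763 : Q := act 3 n50624
theorem D109763 : act 3 n50624 = n109763 := rfl
theorem F169761 : act 7 n109763 = n50630 := d8_2 F79999 D109763 (iv3 D50630)
def n109764 : Q := act 4 n50624
theorem D109764 : act 4 n50624 = n109764 := rfl
theorem F169762 : act 2 n109764 = n50626 := d1_1 D109764 (iv4 D50626) D50624
theorem F169763 : act 7 n109764 = n50631 := d11_2 F79999 D109764 (iv4 D50631)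
def n109765 : Q := act 6 n50624
theorem D109765 : act 6 n50624 = n109765 := rfl
theorem F169764 : act 2 n109765 = n50628 := d3_1 D109765 (iv6 D50628) D50624
def n109766 : Q := act 0 n50625
theorem D109766 : act 0 n50625 = n109766 := rfl
def n109767 : Q := act 2 n50625
theorem D109767 : act 2 n50625 = n109767 := rfl
def n109769 : Q := act 7 n50625
theorem D109769 : act 7 n50625 = n109769 := rfl
theorem F169766 : act 3 n109769 = n50629 := d8_1 D109769 (iv7 D50629) D50625
def n109770 : Q := act 1 n50626
theorem D109770 : act 1 n50626 = n109770 := rfl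
theorem F169767 : act 1 n109770 = n50631 := d15_1 D109770 (iv7 F169763) F169762
def n109771 : Q := act 3 n50626
theorem D109771 : act 3 n50626 = n109771 := rfl
def n109772 : Q := act 5 n50626
theorem D109772 : act 5 n50626 = n109772 := rfl
def n109773 : Q := act 6 n50626
theorem D109773 : act 6 n50626 = n109773 := rfl
theorem F169768 : act 4 n109773 = n50628 := d10_1 D109773 (iv6 D50628) D50626
def n109774 : Q := act 7 n50626
theorem D109774 : act 7 n50626 = n109774 := rfl
theorem F169769 : act 2 n109774 = n50631 := d4_1 D109774 (iv7 F169763) F169762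
theorem F169770 : act 4 n109774 = n50629 := d11_1 D109774 (iv7 D50629) D50626
theorem F169771 : act 1 n50631 = n50816 := d15_0 (iv0 F80187) D109774 F169769
theorem F169772 : act 0 n50630 = n51502 := d20_10 (iv4 D51502) (iv1 F80197) (iv4 D50838) F38698 (iv1 F38692) D24723 D50816 (iv1 F169771) (iv4 D50631) D50630
theorem E16969 : n59048 = n50703 := (c18_9 F169772 (iv4 D51502) (iv1 F80197) (iv4 D50838) (iv5 D24729) (iv4 F38547) D50381 D109152 F169142 (iv5 F81887))
theorem F169773 : act 0 n50703 = n109152 := (sb E16969 (iv1 F169142))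
theorem F169774 : act 1 n50703 = n28060 := (sb E16969 (iv0 D59048))
theorem F169775 : act 4 n51872 = n59055 := d20_6 (iv4 F80176) (iv1 F80181) (iv4 D24724) D24723 D50813 F81916 (iv1 D59055) (iv4 D28061) D28060 (iv1 F169774)
def n109775 : Q := act 0 n50628
theorem D109775 : act 0 n50628 = n109775 := rfl
def n109776 : Q := act 1 n50628
theorem D109776 : act 1 n50628 = n109776 := rfl
def n109778 : Q := act 7 n50628
theorem D109778 : act 7 n50628 = n109778 := rfl
def n109780 : Q := act 1 n50630
theorem D109780 : act 1 n50630 = n109780 := rfl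
def n109781 : Q := act 2 n50630
theorem D109781 : act 2 n50630 = n109781 := rfl
def n109782 : Q := act 4 n50630
theorem D109782 : act 4 n50630 = n109782 := rfl
theorem F169777 : act 1 n109782 = n50842 := d18_6 D11696 D24719 D50797 F80176 (iv5 F81887) D109782 (iv4 D50842) (iv0 D24730) (iv5 D11699)
def n109783 : Q := act 6 n50630
theorem D109783 : act 6 n50630 = n109783 := rfl
def n109784 : Q := act 3 n50631
theorem D109784 : act 3 n50631 = n109784 := rfl
theorem F169779 : act 0 n64064 = n109784 := d20_4 (iv4 F49276) F49275 F48578 D64064 (iv3 D109784) (iv4 D50631) (iv1 D24657) (iv4 F38649) (iv3 D24649) D24647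
def n109785 : Q := act 5 n50631
theorem D109785 : act 5 n50631 = n109785 := rfl
def n109789 : Q := act 5 n50633
theorem D109789 : act 5 n50633 = n109789 := rfl
def n109812 : Q := act 4 n50639
theorem D109812 : act 4 n50639 = n109812 := rfl
theorem F169793 : act 3 n109812 = n52318 := d5_1 D109812 F168061 (iv3 D28035) (iv4 F46780) D50639
def n109813 : Q := act 5 n50639
theorem D109813 : act 5 n50639 = n109813 := rfl
theorem F169794 : act 3 n109813 = n50640 := d6_1 D109813 (iv5 D50640) D50639
def n109814 : Q := act 4 n50640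
theorem D109814 : act 4 n50640 = n109814 := rfl
def n109819 : Q := act 4 n50641
theorem D109819 : act 4 n50641 = n109819 := rfl
theorem F169795 : act 3 n109819 = n58883 := d5_1 D109819 (iv4 D58883) (iv3 F100164) (iv4 F46777) D50641
def n109821 : Q := act 6 n50641
theorem D109821 : act 6 n50641 = n109821 := rfl
theorem F169797 : act 3 n109821 = n50643 := d7_1 D109821 (iv6 D50643) D50641
def n109822 : Q := act 4 n50642
theorem D109822 : act 4 n50642 = n109822 := rfl
def n109824 : Q := act 3 n50644
theorem D109824 : act 3 n50644 = n109824 := rfl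
theorem F169798 : act 5 n109824 = n50946 := d6_2 (iv5 F80006) D109824 F80366
theorem F169799 : act 6 n109824 = n68312 := d7_2 F80008 D109824 F104489
def n109825 : Q := act 4 n50644
theorem D109825 : act 4 n50644 = n109825 := rfl
theorem F169803 : act 5 n109825 = n68268 := d16_1 D109825 F104415 F50057 F24606 (iv5 F24613) (iv4 F50084) F80010 F80009 F80007
theorem F169804 : act 1 n109825 = n51841 := d18_6 (iv1 F81439) F49367 (iv1 D24775) (iv4 F38777) (iv5 F80006) D109825 (iv4 D51841) D51840 F81863
def n109827 : Q := act 4 n50645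
theorem D109827 : act 4 n50645 = n109827 := rfl
theorem F169808 : act 5 n109827 = n53956 := d9_2 F80010 D109827 (iv4 D53956) (iv5 D26086) F20548 (iv5 F19076) (iv4 F38777) (iv5 F80006) D109825 F169803 F104415 F50057 F24606 (iv5 F24613) (iv4 F50084)
theorem F169810 : act 0 n109827 = n51841 := d18_2 (iv1 F81690) D109827 (iv4 D51841) (iv5 D25165) F19710 D13377 (iv4 F46777) F39498 (iv5 F81689)
def n109829 : Q := act 0 n50646
theorem D109829 : act 0 n50646 = n109829 := rfl
theorem F169812 : act 4 n109829 = n50755 := d18_3 (iv1 D50645) D50646 D109829 F80133 F39339 D25063 (iv4 F80368) F80367 F80010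
theorem F169813 : act 2 n66186 = n109829 := d1_3 F169812 (iv2 F80134) D66186
theorem F169816 : act 5 n66145 = n109829 := d16_1 (iv4 F101772) F169812 F80133 F39339 F19608 (iv4 F20401) D25913 D53498 F84403
def n109830 : Q := act 1 n50646
theorem D109830 : act 1 n50646 = n109830 := rfl
theorem F169817 : act 7 n109830 = n66186 := d15_2 (iv0 D109829) D109830 F169813
theorem F169818 : act 4 n109830 = n50756 := d18_7 (iv1 F48932) (iv4 D24670) (iv1 D11679) (iv4 F19014) D24662 D50646 D109830 F81868 F81867
theorem F169820 : act 5 n53497 = n109830 := d9_0 F169818 F80137 F49370 F24325 (iv4 F24318) (iv5 F49361) (iv4 F101772) F169816 F169812 F80133 F39339 F19608 (iv4 F20401) D25913 D53497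
def n109832 : Q := act 5 n50646
theorem D109832 : act 5 n50646 = n109832 := rfl
theorem F169823 : act 4 n109832 = n53500 := d16_2 D50646 D109832 (iv5 D53500) (iv4 D25916) (iv5 F20407) (iv4 F39495) (iv5 F81689) (iv7 D51743) F39492
theorem F169824 : act 7 n66163 = n109832 := d11_0 F169823 F84410 D66163
def n109833 : Q := act 7 n50646
theorem D109833 : act 7 n50646 = n109833 := rfl
theorem F169826 : act 5 n109833 = n66163 := d13_1 D109833 F169824 (iv5 D109832)
def n109835 : Q := act 0 n50651
theorem D109835 : act 0 n50651 = n109835 := rfl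
def n109836 : Q := act 3 n50651
theorem D109836 : act 3 n50651 = n109836 := rfl
theorem F169830 : act 4 n109836 = n50653 := d5_2 D50651 D109836 (iv3 D50653) (iv4 D24666) D24665
def n109837 : Q := act 5 n50651
theorem D109837 : act 5 n50651 = n109837 := rfl
def n109838 : Q := act 4 n50652
theorem D109838 : act 4 n50652 = n109838 := rfl
def n109840 : Q := act 1 n50653
theorem D109840 : act 1 n50653 = n109840 := rfl
def n109841 : Q := act 2 n50653
theorem D109841 : act 2 n50653 = n109841 := rfl
def n109843 : Q := act 4 n50654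
theorem D109843 : act 4 n50654 = n109843 := rfl
def n109845 : Q := act 3 n50655
theorem D109845 : act 3 n50655 = n109845 := rfl
def n109846 : Q := act 0 n50661
theorem D109846 : act 0 n50661 = n109846 := rfl
def n109850 : Q := act 6 n50661
theorem D109850 : act 6 n50661 = n109850 := rfl
theorem F169833 : act 3 n109850 = n50663 := d7_1 D109850 (iv6 D50663) D50661
def n109851 : Q := act 4 n50662
theorem D109851 : act 4 n50662 = n109851 := rfl
def n109853 : Q := act 0 n50664
theorem D109853 : act 0 n50664 = n109853 := rfl
theorem F169834 : act 1 n66149 = n109853 := d15_0 (iv0 D109853) F80019 D66149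
def n109854 : Q := act 1 n50664
theorem D109854 : act 1 n50664 = n109854 := rfl
def n109855 : Q := act 2 n50664
theorem D109855 : act 2 n50664 = n109855 := rfl
theorem F169835 : act 3 n109855 = n66161 := d0_2 D50664 D109855 (iv2 D66161) (iv3 D30927) (iv2 F38666)
theorem F169836 : act 6 n109855 = n64984 := d3_2 (iv6 F80018) D109855 (iv2 D64984)
theorem F169837 : act 7 n109855 = n66149 := d4_2 (iv7 F80019) D109855 (iv2 D66149)
theorem F169838 : act 1 n109855 = n66147 := d15_0 (iv0 D66147) (iv7 F80019) D109855
theorem F169839 : act 1 n109854 = n66149 := d15_1 D109854 (iv7 F169837) (iv2 D109855)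
theorem F169840 : act 1 n66148 = n109855 := d15_1 D66148 F169837 (iv2 D66149)
def n109856 : Q := act 5 n50664
theorem D109856 : act 5 n50664 = n109856 := rfl
theorem F169841 : act 3 n109856 = n50665 := d6_1 D109856 (iv5 D50665) D50664
theorem F169842 : act 7 n109856 = n66150 := d13_2 (iv7 F80019) D109856 (iv5 D66150)
def n109857 : Q := act 0 n50665
theorem D109857 : act 0 n50665 = n109857 := rfl
theorem F169843 : act 5 n109857 = n59001 := d17_3 (iv1 F46773) D50665 D109857 (iv4 D59001) (iv5 D28037) (iv0 D13376) F20551 F20549 (iv4 F24606)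
theorem F169845 : act 1 n53500 = n109857 := d15_0 (iv0 D109857) F80021 (iv2 F84409)
def n109858 : Q := act 4 n50665
theorem D109858 : act 4 n50665 = n109858 := rfl
theorem F169848 : act 7 n109858 = n66154 := d11_2 (iv7 F80021) D109858 (iv4 D66154)
def n109859 : Q := act 6 n50665
theorem D109859 : act 6 n50665 = n109859 := rfl
theorem F169849 : act 2 n109859 = n66164 := d3_1 D109859 (iv6 D66164) (iv2 F80020)
theorem F169850 : act 5 n109859 = n61509 := d12_1 D109859 (iv6 D61509) F46769 (iv6 F38667) D50665
def n109860 : Q := act 0 n50666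
theorem D109860 : act 0 n50666 = n109860 := rfl
theorem F169851 : act 3 n109860 = n109041 := d20_5 (iv4 D25039) F22343 D24673 D50666 D109860 (iv4 D109041) (iv1 D50346) D50348 F79726 (iv1 F53383)
def n109861 : Q := act 1 n50666
theorem D109861 : act 1 n50666 = n109861 := rfl
def n109862 : Q := act 2 n50666
theorem D109862 : act 2 n50666 = n109862 := rfl
theorem F169852 : act 3 n109862 = n50677 := d0_2 D50666 D109862 (iv2 D50677) (iv3 D24677) (iv2 F38669)
def n109864 : Q := act 6 n50666
theorem D109864 : act 6 n50666 = n109864 := rfl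
theorem F169854 : act 3 n109864 = n50668 := d7_1 D109864 (iv6 D50668) D50666
def n109865 : Q := act 6 n50667
theorem D109865 : act 6 n50667 = n109865 := rfl
theorem F169855 : act 2 n109865 = n50683 := d3_1 D109865 (iv6 D50683) (iv2 F80022)
theorem F169856 : act 4 n109865 = n58981 := d10_1 D109865 (iv6 D58981) (iv4 F80023)
def n109866 : Q := act 0 n50668
theorem D109866 : act 0 n50668 = n109866 := rfl
def n109867 : Q := act 1 n50668
theorem D109867 : act 1 n50668 = n109867 := rfl
theorem F169857 : act 1 n109867 = n50687 := d15_1 D109867 (iv7 D50687) (iv2 F80026)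
def n109868 : Q := act 5 n50668
theorem D109868 : act 5 n50668 = n109868 := rfl
theorem F169858 : act 2 n109868 = n50686 := d2_1 D109868 (iv5 D50686) (iv2 F80026)
theorem F169859 : act 1 n109868 = n109353 := d17_6 D24592 F48333 (iv1 D30076) (iv5 F38671) (iv4 F80027) D109868 (iv5 D109353) (iv0 D50457) F38602
theorem E16970 : n109354 = n51574 := ((c21_5 (iv5 F81406) (iv1 D51572) (iv5 D25051) D25052 D51574 (iv6 D109354) D109353 (iv1 F169859) (iv5 D109868) (iv6 D50668) (iv1 F39470))).symm
theorem F169860 : act 6 n51574 = n50457 := (sb E16970 (iv6 D109354))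
def n109869 : Q := act 7 n50668
theorem D109869 : act 7 n50668 = n109869 := rfl
theorem F169861 : act 2 n109869 = n50687 := d4_1 D109869 (iv7 D50687) (iv2 F80026)
theorem F169862 : act 4 n109869 = n50671 := d11_1 D109869 (iv7 D50671) (iv4 F80027)
theorem F169863 : act 1 n50687 = n109866 := d15_0 (iv0 D109866) D109869 F169861
theorem F169864 : act 1 n50685 = n109869 := d15_1 D50685 (iv7 D109869) F80026
theorem F169865 : act 5 n109361 = n50685 := d17_7 (iv1 F80032) (iv5 F83962) (iv1 D30020) F23779 (iv4 F38602) D50459 D109361 F169864 F169862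
theorem F169866 : act 6 n109696 = n50685 := d21_5 D50444 (iv1 F79970) (iv5 D50594) D50595 D109696 (iv5 F169865) (iv1 D109361) (iv5 D50459) (iv6 D24591) D24587
theorem F169867 : act 4 n59023 = n109866 := d20_0 (iv1 F169863) F80048 F38675 (iv1 F19702) D25156 D51817 (iv1 F163208) (iv4 F98658) F98657 F168984
theorem F169868 : act 1 n62048 = n59335 := d18_8 F168984 F169867 (iv1 F169863) F80048 (iv5 F47395) (iv4 F97480) F99085 (iv4 F99087) F93597
theorem E16971 : n107625 = n60722 := ((c21_6 (iv5 D13453) D13452 D28180 D59335 (iv1 F169868) F96692 F166221 (iv1 D105282) F76579 (iv6 D29338) F36941)).symm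
theorem F169869 : act 1 n60722 = n49721 := (sb E16971 (iv0 D107625))
theorem F169870 : act 5 n60722 = n105282 := (sb E16971 F166221)
theorem F169871 : act 0 n109357 = n58763 := d21_1 (iv5 F169363) F92875 (iv6 D28778) F45149 F38910 (iv5 D13453) D13452 D28180 D59335 (iv1 F169868)
theorem F169872 : act 1 n109357 = n105527 := d15_1 (iv0 F169871) (iv7 D105527) (iv2 F92873)
theorem F169873 : act 3 n105282 = n50892 := d6_1 F169870 (iv5 F80288) D60722
theorem F169874 : act 4 n105282 = n51575 := d20_6 D25077 F80092 F38799 (iv3 F38757) (iv1 F80287) (iv3 F169873) (iv1 D51575) F39315 F19591 D11911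
theorem F169875 : act 1 n109869 = n50684 := d15_0 (iv0 D50684) D50687 (iv2 F169861)
theorem F169876 : act 4 n50684 = n59151 := d18_7 D106550 F164105 (iv1 F99088) F99084 (iv5 F80030) (iv4 F169862) F169875 (iv0 D59151) (iv5 F77767)
def n109870 : Q := act 4 n50669
theorem D109870 : act 4 n50669 = n109870 := rfl
theorem F169877 : act 2 n109870 = n50690 := d1_1 D109870 (iv4 D50690) (iv2 F99774)
theorem F169878 : act 7 n109870 = n50694 := d11_2 (iv7 F99775) D109870 (iv4 D50694)
theorem F169879 : act 1 n109870 = n59150 := d15_0 F169747 (iv7 F169746) (iv2 F169877)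
def n109871 : Q := act 0 n50672
theorem D109871 : act 0 n50672 = n109871 := rfl
def n109872 : Q := act 1 n50672
theorem D109872 : act 1 n50672 = n109872 := rfl
def n109873 : Q := act 2 n50672
theorem D109873 : act 2 n50672 = n109873 := rfl
def n109874 : Q := act 0 n50673
theorem D109874 : act 0 n50673 = n109874 := rfl
def n109875 : Q := act 1 n50673
theorem D109875 : act 1 n50673 = n109875 := rfl
def n109876 : Q := act 2 n50673
theorem D109876 : act 2 n50673 = n109876 := rfl
def n109877 : Q := act 6 n50673
theorem D109877 : act 6 n50673 = n109877 := rfl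
theorem F169880 : act 3 n109877 = n50674 := d7_1 D109877 (iv6 D50674) D50673
def n109878 : Q := act 5 n50674
theorem D109878 : act 5 n50674 = n109878 := rfl
def n109879 : Q := act 3 n50675
theorem D109879 : act 3 n50675 = n109879 := rfl
theorem F169881 : act 4 n109879 = n105228 := d20_6 (iv4 D24615) F19489 D11685 D24677 D50675 D109879 (iv1 D105228) (iv4 F110921) (iv3 D74173) (iv1 F53373)
def n109880 : Q := act 6 n50675
theorem D109880 : act 6 n50675 = n109880 := rfl
def n109881 : Q := act 3 n50676
theorem D109881 : act 3 n50676 = n109881 := rfl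
theorem F169882 : act 4 n109881 = n69092 := d5_2 F81843 D109881 (iv3 F105344) (iv4 D51822) D51821
theorem F169883 : act 5 n109881 = n59864 := d6_2 F169506 D109881 F169507
theorem F169884 : act 7 n109881 = n59862 := d8_2 (iv7 F105368) D109881 F94319
theorem F169885 : act 2 n109881 = n59879 := d16_9 F94351 (iv5 F94303) (iv4 D59855) (iv5 D28411) (iv4 D13556) D13557 D28416 D59862 (iv7 F169884)
def n109882 : Q := act 6 n50676
theorem D109882 : act 6 n50676 = n109882 := rfl
def n109883 : Q := act 5 n50677
theorem D109883 : act 5 n50677 = n109883 := rfl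
theorem F169886 : act 2 n109883 = n50678 := d2_1 D109883 (iv5 D50678) D50677
theorem F169887 : act 1 n109883 = n109549 := d17_6 D24631 (iv5 F105474) (iv1 F39444) (iv5 F38676) (iv4 F80035) D109883 (iv5 D109549) (iv0 D50540) F38625
theorem F169888 : act 1 n109549 = n51703 := d15_1 F169887 F81641 (iv2 F169886)
def n109884 : Q := act 6 n50677
theorem D109884 : act 6 n50677 = n109884 := rfl
def n109885 : Q := act 0 n50678
theorem D109885 : act 0 n50678 = n109885 := rfl
def n109886 : Q := act 1 n50678
theorem D109886 : act 1 n50678 = n109886 := rfl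
theorem F169891 : act 3 n59887 = n109886 := d19_19 (iv1 D109886) (iv5 D50678) F38673 (iv3 D11687) F8244 D6344 F9869 (iv3 F10404) (iv1 F18211) (iv5 F18212) F10754 F7936 F7886 D2275 F5178 D7076 D14858 F50947 D59887
theorem F169892 : act 4 n109886 = n54175 := d5_2 D59887 F169891 (iv3 D54175) D54176 F85504
theorem F169893 : act 7 n109886 = n59899 := d8_2 (iv7 F94358) F169891 (iv3 D59899)
theorem F169894 : act 5 n109546 = n109886 := d13_3 F169893 (iv5 F105469) F169500
theorem F169895 : act 2 n59899 = n109885 := d15_3 (iv0 D109885) D109886 F169893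
theorem F169896 : act 2 n109886 = n109549 := d15_3 F169888 (iv0 F94382) (iv7 F169893)
theorem F169897 : act 7 n109549 = n109885 := d4_2 (iv7 F169893) F169896 (iv2 F169895)
theorem F169898 : act 5 n109885 = n109551 := d13_1 F169897 (iv7 D109551) D109549
theorem F169899 : act 1 n59899 = n109883 := d15_0 F169887 F169897 (iv2 F169895)
def n109887 : Q := act 4 n50678
theorem D109887 : act 4 n50678 = n109887 := rfl
def n109888 : Q := act 6 n50678
theorem D109888 : act 6 n50678 = n109888 := rfl
theorem F169900 : act 3 n109888 = n50683 := d7_1 D109888 (iv6 D50683) (iv3 F80036)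
def n109891 : Q := act 5 n50679
theorem D109891 : act 5 n50679 = n109891 := rfl
theorem F169901 : act 3 n109891 = n50686 := d6_1 D109891 (iv5 D50686) (iv3 F80037)
def n109893 : Q := act 3 n50680
theorem D109893 : act 3 n50680 = n109893 := rfl
theorem F169904 : act 5 n109893 = n51562 := d6_2 (iv5 F80039) D109893 (iv3 D51562)
theorem F169905 : act 7 n109893 = n109535 := d8_2 F80041 D109893 F169496
def n109894 : Q := act 6 n50680
theorem D109894 : act 6 n50680 = n109894 := rfl
theorem F169906 : act 2 n109894 = n109543 := d3_1 D109894 (iv6 D109543) F80040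
def n109895 : Q := act 6 n50681
theorem D109895 : act 6 n50681 = n109895 := rfl
theorem F169907 : act 2 n109895 = n109537 := d3_1 D109895 (iv6 D109537) F80044
def n109896 : Q := act 3 n50682
theorem D109896 : act 3 n50682 = n109896 := rfl
theorem F169908 : act 5 n109896 = n58973 := d6_2 (iv5 F80046) D109896 (iv3 D58973)
def n109897 : Q := act 6 n50682
theorem D109897 : act 6 n50682 = n109897 := rfl
theorem F169909 : act 2 n109897 = n58981 := d3_1 D109897 (iv6 D58981) (iv2 F80045)
theorem F169910 : act 4 n109897 = n50683 := d10_1 D109897 (iv6 D50683) D50682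
def n109898 : Q := act 0 n50683
theorem D109898 : act 0 n50683 = n109898 := rfl
def n109899 : Q := act 1 n50683
theorem D109899 : act 1 n50683 = n109899 := rfl
def n109900 : Q := act 5 n50683
theorem D109900 : act 5 n50683 = n109900 := rfl
theorem F169911 : act 6 n109900 = n50686 := d12_2 D50683 D109900 (iv5 D50686) (iv6 D24679) D24678
def n109901 : Q := act 7 n50683
theorem D109901 : act 7 n50683 = n109901 := rfl
def n109902 : Q := act 2 n50684
theorem D109902 : act 2 n50684 = n109902 := rfl
theorem F169912 : act 7 n50685 = n109902 := d15_2 (iv0 D50684) D50685 (iv2 D109902)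
def n109903 : Q := act 3 n50684
theorem D109903 : act 3 n50684 = n109903 := rfl
def n109904 : Q := act 5 n50684
theorem D109904 : act 5 n50684 = n109904 := rfl
def n109905 : Q := act 6 n50684
theorem D109905 : act 6 n50684 = n109905 := rfl
def n109906 : Q := act 7 n50684
theorem D109906 : act 7 n50684 = n109906 := rfl
theorem F169913 : act 2 n109906 = n50685 := d4_1 D109906 F169912 (iv2 D109902)
def n109907 : Q := act 3 n50685
theorem D109907 : act 3 n50685 = n109907 := rfl
def n109908 : Q := act 4 n50685
theorem D109908 : act 4 n50685 = n109908 := rfl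
theorem F169914 : act 6 n109908 = n58987 := d10_2 F169866 D109908 F169690
theorem F169915 : act 3 n58990 = n109908 := d20_5 D24693 F80080 F39619 (iv3 F45321) (iv1 F93695) (iv4 D109908) (iv1 D50685) F38674 F19019 D11689
def n109909 : Q := act 0 n50686
theorem D109909 : act 0 n50686 = n109909 := rfl
def n109910 : Q := act 1 n50686
theorem D109910 : act 1 n50686 = n109910 := rfl
theorem F169916 : act 5 n109910 = n109260 := d17_7 D50419 F79778 (iv1 D29545) F23415 (iv4 F38674) D50686 D109910 (iv0 D109260) F79777
def n109911 : Q := act 4 n50686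
theorem D109911 : act 4 n50686 = n109911 := rfl
def n109912 : Q := act 7 n50686
theorem D109912 : act 7 n50686 = n109912 := rfl
theorem F169917 : act 5 n109912 = n50687 := d13_1 D109912 (iv7 D50687) D50686
theorem F169918 : act 1 n109353 = n109912 := d15_1 F169859 (iv7 D109912) (iv2 F169858)
theorem F169919 : act 0 n109358 = n109912 := d17_2 (iv1 F169234) D109358 F169917 F80048 (iv5 F47395) F48336 F48331 F79784 (iv4 F169232)
def n109913 : Q := act 4 n50689
theorem D109913 : act 4 n50689 = n109913 := rfl
theorem F169922 : act 0 n109913 = n59257 := d20_1 D109913 F93481 F45499 (iv1 F22353) D28056 (iv4 F164026) (iv1 D52347) F40202 (iv3 F40200) (iv1 F168389)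
theorem F169923 : act 0 n59248 = n109913 := d20_7 (iv4 F169862) (iv1 F169864) D109908 (iv3 F169915) F93694 (iv3 F45492) (iv4 F93468) (iv4 D109913) (iv3 D50689) (iv1 F80033)
def n109914 : Q := act 6 n50689
theorem D109914 : act 6 n50689 = n109914 := rfl
theorem F169924 : act 3 n109914 = n50691 := d7_1 D109914 (iv6 D50691) D50689
theorem F169925 : act 5 n109914 = n64247 := d21_6 (iv5 F45525) F45526 (iv5 F23820) D25416 (iv1 F168389) D109914 (iv1 D64247) F48645 (iv6 D24988) D24986
def n109915 : Q := act 0 n50690
theorem D109915 : act 0 n50690 = n109915 := rfl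
theorem F169926 : act 4 n109915 = n59153 := d20_2 D50690 D109915 F93338 F100254 (iv3 D28056) (iv4 F79847) (iv1 D24688) F19021 (iv3 F19019) D24680
theorem F169927 : act 1 n50694 = n109915 := d15_0 (iv0 D109915) F169746 F169744
theorem F169928 : act 7 n59150 = n109915 := d11_0 F169926 (iv7 D59153) (iv4 F93337)
theorem F169929 : act 1 n74178 = n50694 := d15_0 F169927 (iv7 F169928) (iv2 F110935)
theorem F169930 : act 1 n50690 = n74178 := d15_0 F169929 (iv7 F169878) F169877
theorem F169931 : act 0 n63354 = n109011 := d20_10 (iv4 D109011) (iv1 F168555) F168549 (iv3 F161083) (iv1 F168186) (iv3 D50693) D50694 (iv1 F169929) F110936 (iv3 F98657)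
theorem F169932 : act 5 n109011 = n108513 := d21_0 (iv1 F167768) F167633 F101582 (iv1 D65896) (iv6 D30837) (iv5 F38859) (iv1 F38902) (iv5 F48111) D63354 F169931
theorem F169933 : act 4 n108513 = n63468 := d18_5 (iv1 D24547) (iv4 F38538) D50329 D109011 F169932 (iv0 D63468) F48182 D29982 (iv5 F79498)
theorem F169934 : act 1 n106204 = n109011 := d18_8 (iv1 F167768) F167632 F167635 (iv4 D63208) F48029 D51817 (iv0 F163207) (iv4 F163204) F169932
def n109916 : Q := act 3 n50690
theorem D109916 : act 3 n50690 = n109916 := rfl
def n109917 : Q := act 5 n50690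
theorem D109917 : act 5 n50690 = n109917 := rfl
def n109918 : Q := act 6 n50690
theorem D109918 : act 6 n50690 = n109918 := rfl
theorem F169935 : act 4 n109918 = n50691 := d10_1 D109918 (iv6 D50691) D50690
def n109919 : Q := act 4 n50693
theorem D109919 : act 4 n50693 = n109919 := rfl
theorem F169936 : act 6 n109919 = n52324 := d10_2 (iv6 F168188) D109919 (iv4 D52324)
def n109920 : Q := act 3 n50694
theorem D109920 : act 3 n50694 = n109920 := rfl
def n109921 : Q := act 5 n50694
theorem D109921 : act 5 n50694 = n109921 := rfl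
def n109924 : Q := act 3 n50697
theorem D109924 : act 3 n50697 = n109924 := rfl
theorem F169939 : act 5 n109924 = n109763 := d6_2 F81878 D109924 (iv3 D109763)
theorem F169940 : act 7 n109924 = n50703 := d8_2 F80053 D109924 (iv3 D50703)
theorem F169941 : act 2 n109924 = n59049 := d15_3 F169140 (iv0 F169773) (iv7 F169940)
theorem F169942 : act 2 n59303 = n50698 := d0_3 D109924 F169941 (iv3 F93528) (iv3 D50698) D50697
theorem F169943 : act 2 n50748 = n51855 := d1_3 (iv4 F93527) F169942 F80127
theorem F169944 : act 5 n109767 = n59303 := d2_0 F169942 (iv5 F81876) D109767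
theorem F169945 : act 7 n59304 = n50698 := d15_2 (iv0 D59303) D59304 (iv2 F169942)
theorem F169947 : act 5 n109769 = n59304 := d13_3 F169945 (iv5 F81876) D109769
theorem F169948 : act 4 n51832 = n109767 := d18_3 (iv1 D25159) D25161 D51832 F169944 F93527 (iv0 D51855) (iv4 D25170) D25168 (iv5 F81884)
theorem F169949 : act 2 n50772 = n51832 := d1_3 F169948 (iv2 D109767) F80144
theorem F169950 : act 7 n51833 = n50772 := d15_2 (iv0 D51832) D51833 F169949
theorem F169951 : act 7 n50771 = n51832 := d15_2 (iv0 F81847) F81848 (iv2 F169949)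
theorem F169952 : act 2 n51833 = n50771 := d4_3 F169951 (iv2 F169949) (iv7 F169950)
theorem F169953 : act 7 n109767 = n59070 := d11_2 F169951 F169948 F93253
theorem F169954 : act 2 n59070 = n109769 := d4_1 F169953 (iv7 D109769) D109767
theorem F169955 : act 1 n109118 = n59070 := d15_1 (iv0 F169111) (iv7 F169953) (iv2 D109767)
theorem E16972 : n59086 = n59044 := ((c15_3 F169955 (iv0 D59070) (iv7 F93233) (iv2 F169110))).symm
theorem F169956 : act 2 n59044 = n109118 := (sb E16972 (iv2 F169110))
theorem E16973 : n28069 = n28059 := ((((iv3 D59044)).symm.trans (sb E16972 (iv3 D59086)))).symm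
theorem E16974 : n59042 = n13389 := ((D59042).symm.trans (sb E16973 (iv1 F45331)))
theorem E16975 : n59043 = n13387 := ((D59043).symm.trans (sb E16973 (iv0 D28069)))
theorem E16976 : n59085 = n13385 := ((((iv2 D28059)).symm.trans (sb E16973 D59085))).symm
theorem E16977 : n59087 = n59045 := (((D59045).symm.trans (sb E16973 D59087))).symm
theorem E16981 : n28070 = n28064 := (((iv1 F45332)).symm.trans (sb E16974 (iv1 F93231)))
theorem F169957 : act 1 n13389 = n28059 := (sb E16974 (iv0 D59042))
theorem F169958 : act 0 n13387 = n28059 := (sb E16975 (iv1 D59043))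
theorem E16982 : n109106 = n28060 := (((D28060).symm.trans (sb E16976 F169100))).symm
theorem F169959 : act 3 n59045 = n52262 := (sb E16977 (iv3 F93261))
theorem F169960 : act 0 n28064 = n13387 := (sb E16981 (iv1 D28070))
theorem F169961 : act 1 n28064 = n13389 := (sb E16981 F45332)
theorem E16983 : n59053 = n50377 := (((iv3 F93241)).symm.trans (sb E16981 F79749))
theorem E16984 : n59091 = n59059 := ((((iv4 F93246)).symm.trans (sb E16981 D59091))).symm
theorem E16985 : n59092 = n59064 := ((((iv5 F93250)).symm.trans (sb E16981 D59092))).symm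
theorem E16987 : n59050 = n50372 := ((D59050).symm.trans (sb E16982 F169098))
theorem E16988 : n50380 = n50370 := ((F79751).symm.trans (sb E16982 (iv4 D109106)))
theorem E16989 : n109152 = n109121 := ((((iv2 F169113)).symm.trans (sb E16983 (iv2 F169138)))).symm
theorem F169962 : act 3 n50377 = n28064 := (sb E16983 F93241)
theorem F169963 : act 7 n50377 = n28060 := (sb E16983 (iv7 D59053))
theorem F169964 : act 3 n59059 = n109135 := (sb E16984 (iv3 F169123))
theorem F169965 : act 3 n59064 = n109138 := (sb E16985 (iv3 F169128))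
theorem F169967 : act 2 n50372 = n28060 := (sb E16987 (iv2 D59050))
theorem E16992 : n109103 = n24561 := ((D109103).symm.trans (sb E16988 (iv1 F79750)))
theorem E16993 : n109104 = n24559 := ((D109104).symm.trans (sb E16988 (iv0 D50380)))
theorem E16994 : n109147 = n109105 := (((D109105).symm.trans (sb E16988 D109147))).symm
theorem F169968 : act 4 n50370 = n28060 := (sb E16988 (iv4 F79751))
theorem F169969 : act 0 n109121 = n59049 := (sb E16989 (iv1 F169140))
theorem F169970 : act 1 n109121 = n50703 := (sb E16989 (iv0 F169773))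
theorem F169971 : act 3 n109121 = n59072 := (sb E16989 (iv3 F169141))
theorem E16997 : n50381 = n50375 := (((F169114).symm.trans (sb E16989 (iv4 D109152)))).symm
theorem F169972 : act 1 n24561 = n50370 := (sb E16992 (iv0 D109103))
theorem F169973 : act 0 n24559 = n50370 := (sb E16993 (iv1 D109104))
theorem F169974 : act 4 n109105 = n59056 := (sb E16994 F169133)
theorem F169976 : act 0 n50375 = n24559 := (sb E16997 (iv1 D50381))
theorem F169977 : act 1 n50375 = n24561 := (sb E16997 F79752)
theorem E16998 : n109151 = n109115 := ((((iv3 F169107)).symm.trans (sb E16997 D109151))).symm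
theorem F169978 : act 4 n109115 = n108017 := (sb E16998 F169137)
theorem F169979 : act 4 n51879 = n59282 := d20_2 D25183 (iv1 F81921) (iv3 F93512) (iv1 F169955) (iv3 D109118) (iv4 D50372) D50369 F79744 (iv3 F38698) (iv1 F38700)
theorem F169980 : act 1 n108991 = n50830 := d18_6 (iv1 F38700) D25183 (iv1 F81921) F169979 (iv5 F169116) F169108 (iv4 D50830) (iv0 D24727) D24729
theorem E17001 : n51871 = n51849 := (c20_11 (iv4 F93242) (iv1 F93247) (iv4 D28066) D28065 D59070 F93512 (iv4 F169979) (iv1 D51879) (iv4 D25178) D25177 D51871)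
theorem F169981 : act 1 n51849 = n25177 := (sb E17001 (iv0 D51871))
theorem F169982 : act 7 n108017 = n109112 := d11_2 D109115 F169978 (iv4 D109112)
theorem F169983 : act 2 n109112 = n108016 := d15_3 (iv0 D108016) D108017 F169982
theorem F169984 : act 4 n108016 = n109111 := d1_2 D109112 F169983 (iv2 D109111)
theorem F169986 : act 7 n59056 = n109135 := d11_2 (iv7 F169097) F169974 (iv4 D109135)
theorem F169987 : act 7 n59072 = n109118 := d8_2 D109121 F169971 (iv3 D109118)
theorem F169988 : act 1 n59044 = n51789 := d15_0 (iv0 F169143) F169987 (iv2 F169956)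
theorem E17002 : n59071 = n50625 := (c15_1 D59071 (iv0 F169111) (iv7 F169987) (iv2 D59072))
theorem E17003 : n109766 = n28065 := ((D109766).symm.trans (sb E17002 (iv1 D59071)))
theorem F169989 : act 1 n28065 = n50625 := (sb E17003 (iv0 D109766))
theorem F169990 : act 2 n59051 = n109119 := d2_3 (iv5 D109119) F169967 D59051
theorem F169991 : act 7 n109138 = n59051 := d8_2 D59064 F169965 F93239
theorem F169992 : act 7 n52262 = n59076 := d8_2 (iv7 F93235) F169959 (iv3 D59076)
theorem E17004 : n109781 = n59282 := (c0_6 (iv3 F93512) F169954 F169766 F80000 D50630 D109781)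
theorem F169993 : act 2 n59282 = n50630 := (sb E17004 (iv2 D109781))
theorem E17005 : n109769 = n51789 := (c1_2 (iv4 F93253) F169954 F81853 F169952)
theorem F169994 : act 2 n51789 = n59070 := (sb E17005 (iv2 F169954))
theorem E17006 : n50629 = n25145 := ((((iv3 D51789)).symm.trans (sb E17005 F169766))).symm
theorem E17007 : n59304 = n51722 := (((F81783).symm.trans (sb E17005 F169947))).symm
theorem E17008 : n109762 = n24658 := ((((iv1 F39561)).symm.trans (sb E17006 (iv1 F169760)))).symm
theorem E17010 : n51788 = n24657 := ((D51788).symm.trans (sb E17006 F80000))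
theorem E17011 : n109774 = n51790 := (((D51790).symm.trans (sb E17006 (iv4 F169770)))).symm
theorem E17012 : n50702 = n25118 := (((F81766).symm.trans (sb E17006 F81879))).symm
theorem E17014 : n51792 = n24656 := ((D51792).symm.trans (sb E17006 (iv7 D50629)))
theorem F169996 : act 0 n51722 = n28153 := (sb E17007 (iv1 D59304))
theorem F169997 : act 7 n51722 = n50698 := (sb E17007 F169945)
theorem E17015 : n50624 = n25146 := ((((iv1 F39566)).symm.trans (sb E17008 (iv1 D109762)))).symm
theorem F169998 : act 2 n24657 = n25145 := (sb E17010 (iv2 D51788))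
theorem E17016 : n51721 = n24684 := ((((iv5 F81886)).symm.trans (sb E17010 F81780))).symm
theorem F169999 : act 2 n51790 = n50631 := (sb E17011 F169769)
theorem F170000 : act 7 n51790 = n50626 := (sb E17011 (iv7 D109774))
theorem E17019 : n51726 = n24683 := ((D51726).symm.trans (sb E17012 (iv7 D50702)))
theorem F170002 : act 7 n24656 = n25145 := (sb E17014 (iv7 D51792))
theorem F170003 : act 2 n25146 = n24656 := (sb E17015 (iv2 D50624))
theorem E17020 : n109763 = n51793 := (((D51793).symm.trans (sb E17015 D109763))).symm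
theorem E17021 : n109764 = n51794 := (((D51794).symm.trans (sb E17015 D109764))).symm
theorem E17022 : n50697 = n25119 := (((F81782).symm.trans (sb E17015 F81878))).symm
theorem E17023 : n109765 = n51795 := (((D51795).symm.trans (sb E17015 D109765))).symm
theorem F170004 : act 7 n25146 = n24657 := (sb E17015 (iv7 F79999))
theorem F170005 : act 2 n24684 = n25118 := (sb E17016 (iv2 D51721))
theorem F170006 : act 7 n24683 = n25118 := (sb E17019 (iv7 D51726))
theorem E17024 : n109924 = n51727 := (((F81786).symm.trans (sb E17020 (iv5 F169939)))).symm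
theorem F170007 : act 7 n51793 = n50630 := (sb E17020 F169761)
theorem F170008 : act 2 n51794 = n50626 := (sb E17021 F169762)
theorem F170009 : act 7 n51794 = n50631 := (sb E17021 F169763)
theorem F170010 : act 2 n25119 = n24683 := (sb E17022 (iv2 D50697))
theorem F170011 : act 7 n25119 = n24684 := (sb E17022 (iv7 F80053))
theorem F170012 : act 2 n51795 = n50628 := (sb E17023 F169764)
theorem F170013 : act 2 n51727 = n59049 := (sb E17024 F169941)
theorem F170014 : act 7 n51727 = n50703 := (sb E17024 F169940)
theorem F170015 : act 1 n59072 = n109767 := d15_1 (iv0 F169143) F169953 (iv2 F169994)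
theorem F170016 : act 1 n109767 = n59044 := d15_1 F170015 F93233 D59072
theorem F170017 : act 7 n50704 = n51728 := d11_2 F170011 D50704 (iv4 D51728)
theorem F170018 : act 2 n50699 = n51728 := d1_3 (iv4 D51728) F170010 D50699
theorem F170020 : act 7 n109782 = n51878 := d11_2 F170007 D109782 F81920
theorem F170021 : act 2 n109782 = n51879 := d15_3 F81921 F81925 (iv7 F170020)
theorem F170022 : act 7 n51723 = n50699 := d11_2 F170006 D51723 (iv4 D50699)
theorem F170023 : act 2 n50704 = n51723 := d4_3 F170022 F170018 (iv7 F170017)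
theorem F170024 : act 1 n51728 = n51897 := d15_0 (iv0 F81933) F170022 F170018
theorem E17025 : n109117 = n51727 := ((c20_10 (iv4 D50372) D50369 F79744 (iv3 F38698) (iv1 F38700) D25182 D51897 (iv1 F170024) (iv4 D51728) D51727 (iv1 D109117))).symm
theorem F170025 : act 0 n51727 = n50372 := (sb E17025 (iv1 D109117))
theorem F170026 : act 1 n51727 = n50377 := (sb E17025 F169109)
theorem F170027 : act 7 n109116 = n59049 := d15_2 F170026 F169115 (iv2 F170013)
theorem F170028 : act 2 n50703 = n109116 := d4_3 F170027 (iv2 F170013) F170014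
theorem F170029 : act 2 n108991 = n50797 := d1_3 F80176 F170028 F169108
theorem F170030 : act 7 n50798 = n108991 := d15_2 (iv0 D50797) D50798 F170029
theorem F170031 : act 3 n108985 = n50798 := d8_3 F170030 (iv3 D108991) F169001
theorem F170032 : act 4 n59049 = n50798 := d11_3 F170030 (iv4 F169108) F170027
theorem E17026 : n108985 = n108627 := (c20_4 (iv4 F169114) F169969 F170032 (iv3 F170031) (iv1 D108627) (iv3 D50158) (iv4 D24464) (iv1 F18872) (iv4 F18958) (iv3 F38549) (iv1 F169977))
theorem F170033 : act 2 n108627 = n50323 := (sb E17026 (iv2 D108985))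
theorem F170034 : act 3 n108627 = n50798 := (sb E17026 F170031)
theorem F170035 : act 7 n108627 = n50324 := (sb E17026 (iv7 F169001))
theorem E17027 : n50790 = n50765 := (c20_11 (iv4 F93516) (iv1 F93521) (iv4 D28154) D28153 D59303 F93528 F170032 (iv1 D50798) (iv4 D24719) D24718 D50790)
theorem F170036 : act 1 n50765 = n24718 := (sb E17027 (iv0 D50790))
theorem E17028 : n108990 = n108626 := (c15_4 (iv0 D108626) D108627 F170035 (iv2 F169002))
theorem F170037 : act 2 n108626 = n50324 := (sb E17028 F169002)
theorem F170038 : act 7 n108626 = n50323 := (sb E17028 (iv7 D108990))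
theorem F170039 : act 2 n51725 = n50706 := d3_3 (iv6 D50706) F170005 D51725
theorem F170040 : act 7 n50748 = n51856 := d11_2 F169997 F80127 (iv4 F81893)
theorem F170041 : act 2 n51856 = n50747 := d15_3 (iv0 D50747) D50748 F170040
theorem F170042 : act 7 n51855 = n50747 := d4_2 (iv7 F170040) F169943 (iv2 F170041)
def n109925 : Q := act 0 n50698
theorem D109925 : act 0 n50698 = n109925 := rfl
def n109926 : Q := act 1 n50698
theorem D109926 : act 1 n50698 = n109926 := rfl
theorem F170043 : act 5 n109926 = n109417 := d18_9 (iv1 D109417) F80473 (iv1 D51015) F38837 F19110 D24701 D50748 (iv4 F80127) D109926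
def n109928 : Q := act 0 n50699
theorem D109928 : act 0 n50699 = n109928 := rfl
theorem F170045 : act 4 n109928 = n50846 := d20_2 D50699 D109928 (iv3 D50846) (iv1 D24731) F19024 F8247 (iv1 F3682) D5425 D11687 D24683
theorem F170046 : act 1 n50704 = n109928 := d15_0 (iv0 D109928) (iv7 F170022) (iv2 F170023)
theorem F170047 : act 5 n109377 = n50846 := d18_4 D24599 D50481 D109422 F169407 (iv4 F170045) (iv0 D109928) (iv4 D50699) (iv0 D24683) F19020
theorem E17029 : n50848 = n50469 := (c6_3 F170047 (iv3 D50846) D50848 D109377)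
theorem E17030 : n109379 = n24731 := ((D109379).symm.trans (sb E17029 (iv5 D50848)))
theorem F170048 : act 5 n24731 = n50469 := (sb E17030 (iv5 D109379))
theorem F170050 : act 5 n109371 = n50840 := d13_3 (iv7 F80202) F170048 F169372
theorem F170051 : act 0 n51601 = n51887 := d21_4 F170048 (iv1 D50469) (iv5 F39348) D51601 (iv6 D51887) (iv5 D25179) (iv1 F38701) (iv5 D24729) (iv6 F19715) (iv1 F38703)
theorem F170052 : act 1 n109667 = n51887 := d15_0 (iv0 F170051) (iv7 F81453) D109667
theorem E17031 : n50843 = n50468 := (c2_3 F170050 (iv2 D50840) D50843 D109371)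
theorem E17032 : n109374 = n24730 := ((D109374).symm.trans (sb E17031 (iv5 D50843)))
theorem F170053 : act 5 n24730 = n50468 := (sb E17032 (iv5 D109374))
theorem F170054 : act 5 n109372 = n50841 := d6_2 F170053 D109372 (iv3 D50841)
theorem E17033 : n109162 = n108731 := ((c17_1 D108731 (iv5 D109162) (iv1 F169092) (iv5 D109101) F79744 F38690 F38702 F170053 (iv0 D50468) (iv4 F79561))).symm
theorem F170055 : act 5 n108731 = n50383 := (sb E17033 (iv5 D109162))
theorem F170056 : act 1 n50846 = n50760 := d18_8 F105380 D50816 (iv1 F169771) (iv4 D50631) (iv5 F81886) D50704 F170046 F170045 F81310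
def n109929 : Q := act 1 n50699
theorem D109929 : act 1 n50699 = n109929 := rfl
theorem F170057 : act 1 n109929 = n50704 := d15_1 D109929 F170017 (iv2 F170018)
def n109930 : Q := act 3 n50699
theorem D109930 : act 3 n50699 = n109930 := rfl
theorem F170058 : act 0 n109930 = n105726 := d19_4 D24656 (iv5 F81877) D50699 D109930 (iv5 D105726) (iv4 D48874) F37154 (iv1 F20367) (iv5 D12284) (iv4 D5826) (iv3 F8952) D12274 F20335 F19266 F8984 F5141 (iv5 F4970) D5422 D11676
def n109931 : Q := act 5 n50699
theorem D109931 : act 5 n50699 = n109931 := rfl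
def n109932 : Q := act 6 n50699
theorem D109932 : act 6 n50699 = n109932 := rfl
def n109938 : Q := act 5 n50704
theorem D109938 : act 5 n50704 = n109938 := rfl
def n109939 : Q := act 6 n50704
theorem D109939 : act 6 n50704 = n109939 := rfl
theorem F170062 : act 4 n109939 = n50706 := d10_1 D109939 (iv6 D50706) D50704
def n109940 : Q := act 0 n50706
theorem D109940 : act 0 n50706 = n109940 := rfl
def n109941 : Q := act 1 n50706
theorem D109941 : act 1 n50706 = n109941 := rfl
def n109942 : Q := act 5 n50706
theorem D109942 : act 5 n50706 = n109942 := rfl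
theorem F170063 : act 6 n109942 = n109789 := d12_2 D50706 D109942 (iv5 D109789) (iv6 D50633) (iv5 F81886)
def n109943 : Q := act 7 n50706
theorem D109943 : act 7 n50706 = n109943 := rfl
def n109961 : Q := act 7 n50710
theorem D109961 : act 7 n50710 = n109961 := rfl
theorem F170074 : act 3 n109961 = n50718 := d8_1 D109961 (iv7 D50718) (iv3 F80056)
theorem F170075 : act 5 n109961 = n50711 := d13_1 D109961 (iv7 D50711) D50710
def n109966 : Q := act 6 n50712
theorem D109966 : act 6 n50712 = n109966 := rfl
theorem F170077 : act 3 n109966 = n50713 := d7_1 D109966 (iv6 D50713) D50712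
def n109970 : Q := act 4 n50714
theorem D109970 : act 4 n50714 = n109970 := rfl
theorem F170078 : act 3 n109970 = n52347 := d5_1 D109970 F164026 (iv3 D28056) (iv4 F79847) D50714
def n109972 : Q := act 4 n50715
theorem D109972 : act 4 n50715 = n109972 := rfl
theorem F170084 : act 7 n109972 = n109476 := d11_2 F80065 D109972 (iv4 D109476)
def n109974 : Q := act 4 n50716
theorem D109974 : act 4 n50716 = n109974 := rfl
theorem F170088 : act 2 n109974 = n109476 := d1_1 D109974 (iv4 D109476) F80068
theorem F170089 : act 7 n109974 = n109484 := d11_2 (iv7 F80066) D109974 (iv4 D109484)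
theorem F170090 : act 0 n109974 = n51863 := d18_2 (iv1 F81805) D109974 (iv4 D51863) (iv5 D25174) F19713 D13383 (iv4 F79847) F39576 (iv5 F81804)
def n109979 : Q := act 5 n50717
theorem D109979 : act 5 n50717 = n109979 := rfl
theorem F170103 : act 7 n109979 = n61368 := d16_8 (iv4 D62545) (iv5 D29560) F23425 F10855 (iv4 F19021) D24689 D50717 D109979 (iv2 F97510)
def n109980 : Q := act 7 n50717
theorem D109980 : act 7 n50717 = n109980 := rfl
theorem F170104 : act 4 n109980 = n50718 := d11_1 D109980 (iv7 D50718) D50717
theorem F170105 : act 5 n109980 = n61368 := d13_1 D109980 (iv7 F170103) (iv5 D109979)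
theorem F170106 : act 1 n109504 = n109980 := d15_1 (iv0 F169460) (iv7 D109980) (iv2 F81801)
def n109988 : Q := act 0 n50732
theorem D109988 : act 0 n50732 = n109988 := rfl
def n109989 : Q := act 1 n50732
theorem D109989 : act 1 n50732 = n109989 := rfl
def n109990 : Q := act 3 n50732
theorem D109990 : act 3 n50732 = n109990 := rfl
theorem F170111 : act 4 n109990 = n50733 := d5_2 D50732 D109990 (iv3 D50733) (iv4 D24697) D24696
def n109991 : Q := act 5 n50732
theorem D109991 : act 5 n50732 = n109991 := rfl
def n109994 : Q := act 2 n50733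
theorem D109994 : act 2 n50733 = n109994 := rfl
def n109997 : Q := act 1 n50736
theorem D109997 : act 1 n50736 = n109997 := rfl
theorem F170113 : act 1 n109997 = n50813 := d15_1 D109997 (iv7 F169704) F169703
theorem F170114 : act 7 n109997 = n50815 := d15_2 (iv0 F105380) D109997 (iv2 D50815)
theorem F170115 : act 3 n59184 = n109997 := d20_3 (iv4 F22312) D28109 D59184 (iv1 D109997) (iv3 D50736) D50737 F93529 (iv4 D59306) (iv3 D28153) (iv1 D13435)
theorem F170116 : act 4 n109997 = n109770 := d20_6 D59073 (iv1 F105385) (iv4 D51827) D51826 F105386 F170115 (iv1 D109770) (iv4 D50626) D50625 (iv1 F169989)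
theorem F170117 : act 2 n50786 = n109997 := d4_3 F170114 (iv2 D50815) (iv7 F80165)
theorem E17034 : n59184 = n50792 := (c0_3 D50786 F170117 (iv3 F170115) (iv2 D50792) (iv3 D24718) D24717)
theorem F170118 : act 1 n50792 = n51826 := (sb E17034 (iv0 F105386))
theorem F170119 : act 3 n50792 = n109997 := (sb E17034 F170115)
theorem F170120 : act 4 n50792 = n28109 := (sb E17034 (iv4 D59184))
theorem E17035 : n59182 = n50793 := (c1_2 F170120 D59182 (iv4 D50793) D50792)
theorem F170121 : act 2 n50793 = n28109 := (sb E17035 (iv2 D59182))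
theorem F170122 : act 7 n50793 = n28110 := (sb E17035 (iv7 F93391))
theorem E17036 : n50834 = n50796 := (c11_2 F170122 (iv4 F80193) (iv7 D50796) D50793)
theorem E17037 : n24728 = n24722 := (((F80175).symm.trans (sb E17036 (iv3 D50834)))).symm
theorem F170123 : act 4 n50796 = n28110 := (sb E17036 F80193)
theorem E17038 : n50785 = n11698 := (((iv1 F80164)).symm.trans (sb E17037 (iv1 D24728)))
theorem E17039 : n50784 = n11700 := ((F80163).symm.trans (sb E17037 F38696))
theorem E17045 : n24727 = n24717 := ((D24727).symm.trans (sb E17038 (iv1 D50785)))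
theorem F170124 : act 1 n11698 = n24722 := (sb E17038 F80164)
theorem F170125 : act 0 n11700 = n24722 := (sb E17039 (iv1 F80163))
theorem F170126 : act 0 n24717 = n11700 := (sb E17045 (iv1 F38695))
theorem F170127 : act 1 n24717 = n11698 := (sb E17045 (iv0 D24727))
theorem E17047 : n50830 = n50787 := (((D50787).symm.trans (sb E17045 D50830))).symm
theorem F170128 : act 0 n50787 = n108991 := (sb E17047 (iv1 F169980))
theorem F170129 : act 3 n50787 = n108918 := (sb E17047 (iv3 F168934))
theorem E17050 : n59187 = n59104 := (c15_4 (iv0 D59104) (iv0 F80171) F170122 (iv2 F93392))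
theorem F170130 : act 2 n59104 = n28110 := (sb E17050 F93392)
theorem F170131 : act 7 n59104 = n28109 := (sb E17050 (iv7 D59187))
theorem F170132 : act 7 n108918 = n50819 := d8_2 (iv7 F80167) F170129 (iv3 D50819)
theorem F170133 : act 1 n50802 = n108991 := d15_0 (iv0 F170128) F80167 (iv2 F80179)
theorem F170134 : act 1 n51826 = n50796 := d15_1 F170118 (iv7 D50796) D50792
def n109998 : Q := act 6 n50736
theorem D109998 : act 6 n50736 = n109998 := rfl
theorem F170135 : act 3 n109998 = n50739 := d7_1 D109998 (iv6 D50739) D50736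
def n109999 : Q := act 1 n50737
theorem D109999 : act 1 n50737 = n109999 := rfl
theorem F170136 : act 1 n109999 = n50742 := d15_1 D109999 F105357 (iv2 F105359)
def n110000 : Q := act 3 n50737
theorem D110000 : act 3 n50737 = n110000 := rfl
def n110001 : Q := act 5 n50737
theorem D110001 : act 5 n50737 = n110001 := rfl
def n110002 : Q := act 6 n50737
theorem D110002 : act 6 n50737 = n110002 := rfl
theorem F170137 : act 4 n110002 = n50739 := d10_1 D110002 (iv6 D50739) D50737
def n110003 : Q := act 0 n50739
theorem D110003 : act 0 n50739 = n110003 := rfl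
def n110004 : Q := act 1 n50739
theorem D110004 : act 1 n50739 = n110004 := rfl
def n110005 : Q := act 5 n50739
theorem D110005 : act 5 n50739 = n110005 := rfl
def n110006 : Q := act 7 n50739
theorem D110006 : act 7 n50739 = n110006 := rfl
def n110007 : Q := act 1 n50741
theorem D110007 : act 1 n50741 = n110007 := rfl
def n110008 : Q := act 4 n50741
theorem D110008 : act 4 n50741 = n110008 := rfl
theorem F170138 : act 2 n110008 = n59055 := d1_1 D110008 (iv4 F169775) (iv2 F105379)
theorem F170139 : act 7 n110008 = n59054 := d11_2 (iv7 F105356) D110008 F93242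
theorem F170140 : act 1 n110008 = n59059 := d18_6 D13434 D28149 D59287 F93516 F81313 D110008 F93246 F169961 F22254
theorem F170141 : act 0 n110008 = n59045 := d20_7 (iv4 F169948) (iv1 F81851) (iv4 D50769) (iv3 F39608) (iv1 F39612) D50741 D110008 (iv4 D59045) D59044 (iv1 F170016)
def n110009 : Q := act 6 n50741
theorem D110009 : act 6 n50741 = n110009 := rfl
def n110010 : Q := act 3 n50742
theorem D110010 : act 3 n50742 = n110010 := rfl
theorem F170143 : act 0 n107581 = n110010 := d20_4 F40124 (iv1 F38533) (iv4 F78533) D107581 (iv3 D110010) (iv4 D50742) (iv1 D24699) D24701 F38683 F40125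
def n110011 : Q := act 5 n50742
theorem D110011 : act 5 n50742 = n110011 := rfl
def n110012 : Q := act 6 n50742
theorem D110012 : act 6 n50742 = n110012 := rfl
def n110017 : Q := act 3 n50745
theorem D110017 : act 3 n50745 = n110017 := rfl
theorem F170145 : act 2 n110017 = n52237 := d0_1 D110017 (iv3 D52237) (iv2 F40121) (iv3 F38683) (iv2 F80125)
def n110018 : Q := act 5 n50745
theorem D110018 : act 5 n50745 = n110018 := rfl
theorem F170146 : act 2 n110018 = n50749 := d2_1 D110018 (iv5 D50749) (iv2 F80125)
def n110019 : Q := act 6 n50745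
theorem D110019 : act 6 n50745 = n110019 := rfl
theorem F170147 : act 2 n110019 = n50750 := d3_1 D110019 (iv6 D50750) (iv2 F80125)
theorem F170148 : act 4 n110019 = n50746 := d10_1 D110019 (iv6 D50746) D50745
def n110024 : Q := act 4 n50747
theorem D110024 : act 4 n50747 = n110024 := rfl
theorem F170155 : act 2 n110024 = n51722 := d1_1 D110024 F81893 F170041
theorem F170156 : act 3 n110024 = n109116 := d5_1 D110024 F169108 (iv3 D108991) D108992 (iv3 F169003)
theorem F170157 : act 7 n110024 = n59303 := d11_2 F170042 D110024 F93527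
theorem F170158 : act 5 n110024 = n59070 := d18_4 (iv1 D24699) D24701 D50747 D110024 F93253 (iv0 D50771) (iv4 D24710) D24708 (iv5 F81312)
theorem F170159 : act 1 n109926 = n110024 := d15_1 D109926 F170157 F169942
theorem F170160 : act 1 n110024 = n109925 := d15_0 (iv0 D109925) (iv7 F169997) (iv2 F170155)
def n110025 : Q := act 5 n50747
theorem D110025 : act 5 n50747 = n110025 := rfl
def n110026 : Q := act 6 n50747
theorem D110026 : act 6 n50747 = n110026 := rfl
def n110027 : Q := act 3 n50748
theorem D110027 : act 3 n50748 = n110027 := rfl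
theorem F170161 : act 4 n110027 = n109930 := d5_2 F80127 D110027 (iv3 D109930) (iv4 D50699) D50698
def n110028 : Q := act 5 n50748
theorem D110028 : act 5 n50748 = n110028 := rfl
theorem F170162 : act 0 n110028 = n50917 := d17_2 F81875 D110028 (iv5 D50917) F38755 F19088 D24708 (iv5 F81312) F39612 D51853
def n110029 : Q := act 6 n50748
theorem D110029 : act 6 n50748 = n110029 := rfl
def n110030 : Q := act 0 n50749
theorem D110030 : act 0 n50749 = n110030 := rfl
def n110031 : Q := act 1 n50749
theorem D110031 : act 1 n50749 = n110031 := rfl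
def n110032 : Q := act 4 n50749
theorem D110032 : act 4 n50749 = n110032 := rfl
def n110033 : Q := act 6 n50749
theorem D110033 : act 6 n50749 = n110033 := rfl
theorem F170164 : act 3 n110033 = n59219 := d7_1 D110033 (iv6 D59219) (iv3 F80128)
def n110036 : Q := act 5 n50750
theorem D110036 : act 5 n50750 = n110036 := rfl
theorem F170165 : act 3 n110036 = n59222 := d6_1 D110036 (iv5 D59222) (iv3 F80129)
def n110037 : Q := act 7 n50750
theorem D110037 : act 7 n50750 = n110037 := rfl
theorem F170166 : act 3 n110037 = n59223 := d8_1 D110037 (iv7 D59223) (iv3 F80129)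
theorem F170167 : act 4 n110037 = n50754 := d11_1 D110037 (iv7 D50754) (iv4 F80130)
def n110053 : Q := act 3 n50756
theorem D110053 : act 3 n50756 = n110053 := rfl
theorem F170174 : act 5 n110053 = n66185 := d6_2 (iv5 F80137) D110053 F101796
theorem F170175 : act 7 n110053 = n66184 := d8_2 (iv7 F80136) D110053 F101795
def n110058 : Q := act 1 n50760
theorem D110058 : act 1 n50760 = n110058 := rfl
def n110059 : Q := act 6 n50760
theorem D110059 : act 6 n50760 = n110059 := rfl
theorem F170181 : act 3 n110059 = n50763 := d7_1 D110059 (iv6 D50763) D50760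
def n110060 : Q := act 0 n50761
theorem D110060 : act 0 n50761 = n110060 := rfl
theorem F170182 : act 4 n110060 = n59044 := d20_2 D50761 D110060 (iv3 D59044) (iv1 F169957) F22253 F9874 (iv1 F4324) (iv4 F8246) D11694 D24707
theorem F170183 : act 1 n50766 = n110060 := d15_0 (iv0 D110060) (iv7 F105347) (iv2 F105384)
theorem F170184 : act 7 n59073 = n110060 := d11_0 F170182 F93233 D59073
theorem F170185 : act 5 n69186 = n110060 := d19_1 D69186 F170182 (iv3 D59044) (iv1 F169957) F22254 (iv4 F22312) (iv3 D13418) D13416 D28104 F45409 (iv3 F41506) D54077 F85343 (iv4 F55367) F55366 (iv1 F50091) (iv5 F54266) (iv4 D32179) D32178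
def n110061 : Q := act 1 n50761
theorem D110061 : act 1 n50761 = n110061 := rfl
theorem F170186 : act 1 n110061 = n50766 := d15_1 D110061 F105381 (iv2 F105382)
theorem F170187 : act 4 n59072 = n110061 := d20_6 (iv4 F170045) (iv1 F170046) (iv4 D50704) D50703 (iv1 F169970) F169971 (iv1 D110061) (iv4 D50761) D50760 (iv1 F170056)
theorem F170188 : act 2 n110061 = n59073 := d1_1 F170187 (iv4 D59073) D59072
theorem F170189 : act 3 n110061 = n108017 := d5_1 F170187 (iv4 F169978) F169107 (iv4 F169114) F169971
theorem F170190 : act 5 n69187 = n110061 := d17_7 (iv1 D24708) (iv5 F19088) D24781 F105477 D51971 (iv5 F105482) D69187 F170186 (iv4 D50766)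
def n110066 : Q := act 5 n50763
theorem D110066 : act 5 n50763 = n110066 := rfl
theorem F170194 : act 6 n110066 = n110005 := d12_2 D50763 D110066 (iv5 D110005) (iv6 D50739) F81308
def n110068 : Q := act 0 n50765
theorem D110068 : act 0 n50765 = n110068 := rfl
theorem F170195 : act 4 n110068 = n59104 := d18_1 D110068 (iv1 F93273) F45418 (iv5 F45326) (iv4 F93143) (iv0 D58932) D58935 (iv0 F105365) (iv5 F81313)
theorem F170196 : act 2 n50796 = n110068 := d15_3 (iv0 D110068) F170036 D50796
theorem F170197 : act 1 n50791 = n110068 := d15_0 (iv0 D110068) (iv7 F105358) F105373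
theorem F170198 : act 7 n110068 = n50792 := d15_2 D50791 F170197 (iv2 D50792)
theorem F170199 : act 3 n50815 = n110068 := d8_3 F170198 F170119 F170114
theorem F170200 : act 0 n50815 = n51844 := d20_10 F81871 (iv1 D50603) F38649 (iv3 D11676) (iv1 F9872) (iv3 F22251) D28074 D59104 (iv4 F170195) (iv3 F170199)
theorem F170201 : act 1 n50815 = n109711 := d15_1 (iv0 F170200) F169704 F105378
theorem F170202 : act 1 n50786 = n51844 := d15_0 (iv0 F170200) (iv7 F170114) (iv2 F170117)
theorem F170203 : act 1 n109711 = n50786 := d15_0 F170202 F105361 (iv2 F169703)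
def n110069 : Q := act 2 n50765
theorem D110069 : act 2 n50765 = n110069 := rfl
theorem F170204 : act 5 n110069 = n51872 := d2_2 (iv5 F81313) D110069 (iv2 F105379)
theorem F170205 : act 7 n110069 = n50791 := d4_2 F105358 D110069 (iv2 F105373)
theorem F170206 : act 1 n110069 = n50792 := d15_0 F170118 F105358 D110069
theorem F170207 : act 1 n50796 = n110069 := d15_0 F170206 (iv7 F170198) (iv2 F170196)
def n110071 : Q := act 3 n50766
theorem D110071 : act 3 n50766 = n110071 := rfl
theorem F170209 : act 2 n110071 = n69212 := d0_1 D110071 (iv3 D69212) F105345 (iv3 F105344) (iv2 F105384)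
theorem F170210 : act 0 n59164 = n110071 := d20_4 (iv4 D25364) F37381 D48649 (iv3 F93357) (iv3 D110071) (iv4 D50766) (iv1 D24708) D24710 F38686 (iv1 F40098)
def n110077 : Q := act 7 n50768
theorem D110077 : act 7 n50768 = n110077 := rfl
def n110078 : Q := act 3 n50769
theorem D110078 : act 3 n50769 = n110078 := rfl
theorem F170213 : act 2 n110078 = n59247 := d0_1 D110078 (iv3 D59247) F45487 (iv3 F38686) (iv2 F80142)
def n110079 : Q := act 5 n50769
theorem D110079 : act 5 n50769 = n110079 := rfl
theorem F170214 : act 2 n110079 = n50773 := d2_1 D110079 (iv5 D50773) (iv2 F80142)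
def n110085 : Q := act 3 n50771
theorem D110085 : act 3 n50771 = n110085 := rfl
def n110088 : Q := act 3 n50772
theorem D110088 : act 3 n50772 = n110088 := rfl
theorem F170223 : act 4 n110088 = n109771 := d5_2 F80144 D110088 (iv3 D109771) (iv4 D50626) D50625
theorem F170224 : act 0 n69206 = n109771 := d20_1 D69206 (iv4 F170223) (iv3 D110088) (iv1 D50772) F38686 (iv4 D13429) F19487 D24325 D49883 F78877
def n110089 : Q := act 5 n50772
theorem D110089 : act 5 n50772 = n110089 := rfl
theorem F170225 : act 0 n110089 = n51017 := d17_2 F81847 D110089 (iv5 D51017) F38837 F19110 D24699 F81312 F39595 D51830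
def n110091 : Q := act 0 n50773
theorem D110091 : act 0 n50773 = n110091 := rfl
def n110092 : Q := act 4 n50773
theorem D110092 : act 4 n50773 = n110092 := rfl
theorem F170227 : act 0 n110092 = n69189 := d18_2 F105783 D110092 (iv4 D69189) F105482 (iv4 D51971) (iv0 D25218) (iv4 F39692) D51946 F105784
def n110093 : Q := act 6 n50773
theorem D110093 : act 6 n50773 = n110093 := rfl
theorem F170228 : act 3 n110093 = n59253 := d7_1 D110093 (iv6 D59253) (iv3 F80145)
def n110112 : Q := act 3 n50779
theorem D110112 : act 3 n50779 = n110112 := rfl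
theorem F170236 : act 5 n110112 = n51632 := d6_2 (iv5 F80150) D110112 (iv3 D51632)
def n110113 : Q := act 3 n50780
theorem D110113 : act 3 n50780 = n110113 := rfl
theorem F170239 : act 5 n110113 = n51626 := d6_2 (iv5 F80157) D110113 (iv3 D51626)
def n110116 : Q := act 5 n50781
theorem D110116 : act 5 n50781 = n110116 := rfl
theorem F170245 : act 7 n110116 = n62096 := d16_8 (iv4 D60801) (iv5 D28841) F23000 F10609 (iv4 F19023) D24714 D50781 D110116 F96775
def n110117 : Q := act 7 n50781
theorem D110117 : act 7 n50781 = n110117 := rfl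
theorem F170246 : act 4 n110117 = n50782 := d11_1 D110117 (iv7 D50782) D50781
theorem F170247 : act 5 n110117 = n62096 := d13_1 D110117 (iv7 F170245) (iv5 D110116)
theorem F170248 : act 1 n109974 = n110117 := d15_1 (iv0 F170090) (iv7 D110117) (iv2 F81901)
theorem F170249 : act 1 n110117 = n109972 := d15_1 F170248 F170084 (iv2 F170088)
def n110119 : Q := act 4 n50786
theorem D110119 : act 4 n50786 = n110119 := rfl
theorem F170250 : act 2 n110119 = n109770 := d1_1 D110119 (iv4 F170116) (iv2 F170117)
theorem F170251 : act 7 n110119 = n50816 := d11_2 (iv7 F80165) D110119 (iv4 D50816)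
theorem F170252 : act 0 n110119 = n51794 := d18_2 (iv1 F170202) D110119 (iv4 D51794) F81782 D51728 F170024 (iv4 D51897) (iv0 F105374) (iv5 F81880)
theorem F170253 : act 0 n51790 = n110119 := d20_1 D51790 (iv4 D110119) (iv3 D50786) F170126 F19026 F8252 (iv1 F3676) D5602 D11941 D25145
def n110120 : Q := act 5 n50786
theorem D110120 : act 5 n50786 = n110120 := rfl
theorem F170254 : act 3 n110120 = n50788 := d6_1 D110120 (iv5 D50788) D50786
theorem F170255 : act 7 n110120 = n50817 := d13_2 (iv7 F80165) D110120 (iv5 D50817)
theorem F170256 : act 1 n110120 = n51970 := d17_8 (iv1 D50541) D50543 D109555 F169510 (iv4 F81931) (iv5 F169705) F170203 D110120 F82081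
theorem F170257 : act 0 n110120 = n109548 := d18_0 (iv4 D109548) (iv1 F81392) F81390 (iv5 F39563) (iv4 F81762) F81764 D109711 F170203 D110120
def n110121 : Q := act 6 n50786
theorem D110121 : act 6 n50786 = n110121 := rfl
def n110122 : Q := act 1 n50787
theorem D110122 : act 1 n50787 = n110122 := rfl
theorem F170259 : act 1 n110122 = n50802 := d15_1 D110122 (iv7 D50802) (iv2 F80166)
theorem F170260 : act 7 n110122 = n50797 := d15_2 (iv0 F170128) D110122 (iv2 F170029)
theorem F170261 : act 4 n51727 = n110122 := d20_6 (iv4 D109711) (iv1 F81764) F81762 F39562 (iv1 F39488) D51727 (iv1 D110122) (iv4 D50787) D50786 (iv1 F170203)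
theorem F170262 : act 2 n110122 = n50798 := d1_1 F170261 (iv4 F170032) (iv2 F170013)
def n110123 : Q := act 5 n50787
theorem D110123 : act 5 n50787 = n110123 := rfl
theorem F170263 : act 2 n110123 = n50800 := d2_1 D110123 (iv5 D50800) (iv2 F80166)
theorem F170264 : act 7 n110123 = n50820 := d13_2 (iv7 F80167) D110123 (iv5 D50820)
def n110124 : Q := act 6 n50787
theorem D110124 : act 6 n50787 = n110124 := rfl
theorem F170265 : act 2 n110124 = n50801 := d3_1 D110124 (iv6 D50801) (iv2 F80166)
theorem F170266 : act 4 n110124 = n50789 := d10_1 D110124 (iv6 D50789) D50787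
def n110125 : Q := act 0 n50788
theorem D110125 : act 0 n50788 = n110125 := rfl
theorem F170267 : act 1 n50807 = n110125 := d15_0 (iv0 D110125) F80169 (iv2 F80183)
def n110126 : Q := act 1 n50788
theorem D110126 : act 1 n50788 = n110126 := rfl
def n110127 : Q := act 4 n50788
theorem D110127 : act 4 n50788 = n110127 := rfl
theorem F170269 : act 2 n110127 = n50805 := d1_1 D110127 (iv4 D50805) (iv2 F80168)
theorem F170270 : act 7 n110127 = n50822 := d11_2 (iv7 F80169) D110127 (iv4 D50822)
def n110128 : Q := act 6 n50788
theorem D110128 : act 6 n50788 = n110128 := rfl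
theorem F170271 : act 2 n110128 = n50806 := d3_1 D110128 (iv6 D50806) (iv2 F80168)
theorem F170272 : act 0 n109381 = n110128 := d21_4 D24720 D50803 F169601 D109381 (iv6 D110128) (iv5 D50788) F170126 F19027 F8572 D11696
def n110129 : Q := act 0 n50789
theorem D110129 : act 0 n50789 = n110129 := rfl
def n110130 : Q := act 1 n50789
theorem D110130 : act 1 n50789 = n110130 := rfl
theorem F170273 : act 1 n110130 = n50811 := d15_1 D110130 (iv7 D50811) (iv2 F80170)
def n110132 : Q := act 7 n50789
theorem D110132 : act 7 n50789 = n110132 := rfl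
theorem F170276 : act 2 n110132 = n50811 := d4_1 D110132 (iv7 D50811) (iv2 F80170)
theorem F170278 : act 1 n50811 = n110129 := d15_0 (iv0 D110129) D110132 F170276
theorem F170280 : act 1 n110132 = n50808 := d15_0 (iv0 D50808) D50811 (iv2 F170276)
def n110133 : Q := act 4 n50791
theorem D110133 : act 4 n50791 = n110133 := rfl
theorem F170281 : act 3 n110133 = n105228 := d5_1 D110133 (iv4 F169881) (iv3 D109879) (iv4 F81931) F81932
def n110134 : Q := act 5 n50791
theorem D110134 : act 5 n50791 = n110134 := rfl
theorem F170282 : act 2 n110134 = n51849 := d2_1 D110134 F81885 F105373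
theorem F170283 : act 3 n110134 = n109711 := d6_1 D110134 F169705 F81932
theorem F170284 : act 7 n110134 = n51872 := d13_2 F170205 D110134 (iv5 F170204)
theorem F170285 : act 0 n110134 = n50841 := d18_0 F80203 (iv1 D28013) F22237 D13388 D28074 (iv0 F80171) (iv4 D50793) D50791 D110134
theorem F170286 : act 5 n106260 = n68196 := d17_3 (iv1 F93273) D59191 (iv1 F163299) (iv4 F169373) F170054 (iv0 F170285) (iv5 D110134) F170197 F170195
theorem E17051 : n110007 = n50841 := (c15_1 D110007 (iv0 F170285) F170284 (iv2 F105379))
theorem F170287 : act 0 n50841 = n50741 := (sb E17051 (iv1 D110007))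
theorem F170288 : act 1 n110134 = n58935 := d15_0 (iv0 F105365) F105356 (iv2 F170282)
def n110135 : Q := act 6 n50791
theorem D110135 : act 6 n50791 = n110135 := rfl
def n110136 : Q := act 5 n50792
theorem D110136 : act 5 n50792 = n110136 := rfl
theorem F170289 : act 2 n110136 = n50794 := d2_1 D110136 (iv5 D50794) D50792
def n110137 : Q := act 6 n50792
theorem D110137 : act 6 n50792 = n110137 := rfl
def n110138 : Q := act 3 n50793
theorem D110138 : act 3 n50793 = n110138 := rfl
theorem F170292 : act 4 n110138 = n50799 := d5_2 D50793 D110138 (iv3 D50799) (iv4 D24719) D24718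
theorem F170293 : act 7 n110138 = n59188 := d8_2 (iv7 F170122) D110138 (iv3 D59188)
def n110139 : Q := act 5 n50793
theorem D110139 : act 5 n50793 = n110139 := rfl
theorem F170294 : act 2 n110139 = n59185 := d2_1 D110139 (iv5 D59185) (iv2 F170121)
theorem F170295 : act 7 n110139 = n59189 := d13_2 (iv7 F170122) D110139 (iv5 D59189)
def n110140 : Q := act 6 n50793
theorem D110140 : act 6 n50793 = n110140 := rfl
def n110141 : Q := act 0 n50794
theorem D110141 : act 0 n50794 = n110141 := rfl
def n110142 : Q := act 1 n50794
theorem D110142 : act 1 n50794 = n110142 := rfl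
theorem F170298 : act 3 n109325 = n110142 := d20_3 (iv4 F38601) D50449 D109325 (iv1 D110142) F80173 D50805 F169604 (iv4 D109441) (iv3 D50485) (iv1 D24600)
def n110143 : Q := act 6 n50794
theorem D110143 : act 6 n50794 = n110143 := rfl
def n110144 : Q := act 7 n50794
theorem D110144 : act 7 n50794 = n110144 := rfl
theorem F170300 : act 3 n110144 = n50807 := d8_1 D110144 (iv7 D50807) (iv3 F80173)
theorem F170301 : act 5 n110144 = n50796 := d13_1 D110144 (iv7 D50796) D50794
def n110150 : Q := act 3 n50797
theorem D110150 : act 3 n50797 = n110150 := rfl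
theorem F170306 : act 4 n110150 = n109047 := d5_2 (iv4 F80176) D110150 F169048 (iv4 D50704) D50703
def n110151 : Q := act 5 n50797
theorem D110151 : act 5 n50797 = n110151 := rfl
def n110152 : Q := act 6 n50797
theorem D110152 : act 6 n50797 = n110152 := rfl
def n110153 : Q := act 5 n50798
theorem D110153 : act 5 n50798 = n110153 := rfl
def n110154 : Q := act 6 n50798
theorem D110154 : act 6 n50798 = n110154 := rfl
def n110155 : Q := act 1 n50799
theorem D110155 : act 1 n50799 = n110155 := rfl
theorem F170308 : act 4 n105234 = n110155 := d20_0 (iv1 D110155) (iv4 F170292) (iv3 D110138) F80171 F45340 F22314 (iv1 F18211) (iv4 F36919) D48659 D105234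
def n110156 : Q := act 2 n50799
theorem D110156 : act 2 n50799 = n110156 := rfl
def n110157 : Q := act 5 n50799
theorem D110157 : act 5 n50799 = n110157 := rfl
theorem F170309 : act 3 n110157 = n50800 := d6_1 D110157 (iv5 D50800) D50799
def n110158 : Q := act 6 n50799
theorem D110158 : act 6 n50799 = n110158 := rfl
theorem F170310 : act 3 n110158 = n50801 := d7_1 D110158 (iv6 D50801) D50799
def n110159 : Q := act 7 n50799
theorem D110159 : act 7 n50799 = n110159 := rfl
theorem F170311 : act 3 n110159 = n50802 := d8_1 D110159 (iv7 D50802) D50799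
theorem F170312 : act 4 n110159 = n59188 := d11_1 D110159 (iv7 F170293) F170292
def n110160 : Q := act 0 n50800
theorem D110160 : act 0 n50800 = n110160 := rfl
def n110161 : Q := act 1 n50800
theorem D110161 : act 1 n50800 = n110161 := rfl
theorem F170313 : act 1 n110161 = n50820 := d15_1 D110161 (iv7 F170264) F170263
def n110162 : Q := act 4 n50800
theorem D110162 : act 4 n50800 = n110162 := rfl
def n110163 : Q := act 6 n50800
theorem D110163 : act 6 n50800 = n110163 := rfl
def n110164 : Q := act 7 n50800
theorem D110164 : act 7 n50800 = n110164 := rfl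
theorem F170314 : act 2 n110164 = n50820 := d4_1 D110164 (iv7 F170264) F170263
theorem F170315 : act 5 n110164 = n50802 := d13_1 D110164 (iv7 D50802) D50800
theorem F170316 : act 1 n50820 = n110160 := d15_0 (iv0 D110160) D110164 F170314
def n110165 : Q := act 0 n50801
theorem D110165 : act 0 n50801 = n110165 := rfl
def n110166 : Q := act 1 n50801
theorem D110166 : act 1 n50801 = n110166 := rfl
def n110167 : Q := act 5 n50801
theorem D110167 : act 5 n50801 = n110167 := rfl
def n110168 : Q := act 7 n50801
theorem D110168 : act 7 n50801 = n110168 := rfl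
theorem F170317 : act 4 n110168 = n50811 := d11_1 D110168 (iv7 D50811) (iv4 F80178)
def n110169 : Q := act 6 n50802
theorem D110169 : act 6 n50802 = n110169 := rfl
def n110170 : Q := act 4 n50803
theorem D110170 : act 4 n50803 = n110170 := rfl
theorem F170320 : act 2 n110170 = n51365 := d1_1 D110170 F81086 (iv2 F169599)
theorem F170321 : act 7 n110170 = n66020 := d11_2 (iv7 F169602) D110170 F101702
theorem F170322 : act 1 n66019 = n110170 := d15_1 D66019 F170321 (iv2 D66020)
theorem F170323 : act 4 n109138 = n66019 := d18_5 D24716 (iv4 F79744) (iv1 F79746) D50377 D109138 F170322 (iv4 D110170) (iv0 D50803) (iv5 D24720)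
theorem E17052 : n59064 = n50954 := ((c20_5 (iv4 D5497) (iv1 F8281) D11731 D24779 D50954 F169965 F170323 (iv1 D66019) F49346 (iv3 D14647) F11259)).symm
theorem F170324 : act 2 n50954 = n28067 := (sb E17052 F93249)
theorem F170325 : act 3 n50954 = n109138 := (sb E17052 F169965)
theorem F170326 : act 5 n50954 = n28064 := (sb E17052 F93250)
theorem F170327 : act 7 n50954 = n28062 := (sb E17052 (iv7 D59064))
theorem E17053 : n59046 = n50955 := (c15_4 F80400 F80395 F170327 (iv2 F93236))
theorem F170328 : act 2 n50955 = n28062 := (sb E17053 F93236)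
theorem F170329 : act 5 n50955 = n28059 := (sb E17053 (iv5 D59046))
theorem F170330 : act 7 n50955 = n28067 := (sb E17053 F93237)
theorem E17054 : n109404 = n59063 := (c21_5 (iv5 F170329) (iv1 D50955) F38790 D50477 D109404 (iv6 D59063) (iv5 D28062) D28058 F45326 F22356 F169958)
theorem F170331 : act 1 n59063 = n50477 := (sb E17054 (iv0 D109404))
theorem F170332 : act 1 n110170 = n66018 := d15_0 (iv0 D66018) (iv7 F81087) (iv2 F170320)
def n110171 : Q := act 6 n50803
theorem D110171 : act 6 n50803 = n110171 := rfl
theorem F170333 : act 2 n110171 = n51601 := d3_1 D110171 (iv6 D51601) (iv2 F169599)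
theorem F170334 : act 3 n110171 = n109381 := d7_1 D110171 (iv6 D109381) (iv3 F169600)
theorem F170335 : act 7 n109667 = n110171 := d4_0 F170333 (iv7 F81453) D109667
theorem F170336 : act 1 n110171 = n109665 := d15_0 (iv0 D109665) F81453 (iv2 F170333)
theorem F170337 : act 1 n109666 = n110171 := d15_1 D109666 (iv7 F170335) (iv2 D109667)
def n110172 : Q := act 1 n50805
theorem D110172 : act 1 n50805 = n110172 := rfl
theorem F170338 : act 1 n110172 = n50822 := d15_1 D110172 (iv7 F170270) F170269
def n110173 : Q := act 3 n50805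
theorem D110173 : act 3 n50805 = n110173 := rfl
def n110174 : Q := act 5 n50805
theorem D110174 : act 5 n50805 = n110174 := rfl
def n110175 : Q := act 6 n50805
theorem D110175 : act 6 n50805 = n110175 := rfl
theorem F170339 : act 4 n110175 = n50806 := d10_1 D110175 (iv6 D50806) D50805
def n110176 : Q := act 7 n50805
theorem D110176 : act 7 n50805 = n110176 := rfl
theorem F170340 : act 2 n110176 = n50822 := d4_1 D110176 (iv7 F170270) F170269
theorem F170341 : act 4 n110176 = n50807 := d11_1 D110176 (iv7 D50807) D50805
theorem F170342 : act 1 n50822 = n109441 := d15_0 (iv0 F169604) D110176 F170340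
theorem E17055 : n109439 = n59051 := (c18_9 (iv1 F169774) (iv4 F80176) (iv1 F80181) (iv4 D24724) D24725 D50822 F170342 (iv4 D109441) D109439 (iv5 D59051))
theorem F170343 : act 0 n59051 = n50485 := (sb E17055 (iv1 D109439))
theorem F170344 : act 2 n109138 = n109438 := d15_3 (iv0 D109438) (iv0 F170343) (iv7 F169991)
theorem F170345 : act 5 n109438 = n109121 := d2_2 D109138 F170344 F169113
theorem F170346 : act 7 n109438 = n109119 := d4_2 (iv7 F169991) F170344 (iv2 F169990)
def n110177 : Q := act 0 n50806
theorem D110177 : act 0 n50806 = n110177 := rfl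
def n110178 : Q := act 1 n50806
theorem D110178 : act 1 n50806 = n110178 := rfl
def n110179 : Q := act 5 n50806
theorem D110179 : act 5 n50806 = n110179 := rfl
def n110180 : Q := act 7 n50806
theorem D110180 : act 7 n50806 = n110180 := rfl
theorem F170348 : act 1 n109381 = n110180 := d15_1 (iv0 F170272) (iv7 D110180) (iv2 F170271)
theorem F170349 : act 1 n110180 = n51689 := d15_1 F170348 F81607 (iv2 F169375)
def n110181 : Q := act 6 n50807
theorem D110181 : act 6 n50807 = n110181 := rfl
def n110182 : Q := act 2 n50808
theorem D110182 : act 2 n50808 = n110182 := rfl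
def n110183 : Q := act 3 n50808
theorem D110183 : act 3 n50808 = n110183 := rfl
def n110184 : Q := act 4 n50808
theorem D110184 : act 4 n50808 = n110184 := rfl
def n110185 : Q := act 5 n50808
theorem D110185 : act 5 n50808 = n110185 := rfl
def n110187 : Q := act 7 n50808
theorem D110187 : act 7 n50808 = n110187 := rfl
def n110192 : Q := act 0 n50810
theorem D110192 : act 0 n50810 = n110192 := rfl
def n110193 : Q := act 1 n50810
theorem D110193 : act 1 n50810 = n110193 := rfl
def n110195 : Q := act 7 n50810
theorem D110195 : act 7 n50810 = n110195 := rfl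
theorem F170353 : act 5 n110195 = n50811 := d13_1 D110195 (iv7 D50811) D50810
def n110196 : Q := act 6 n50811
theorem D110196 : act 6 n50811 = n110196 := rfl
theorem F170355 : act 7 n110196 = n50812 := d14_2 D50811 D110196 (iv6 D50812) (iv7 D24722) D24721
def n110200 : Q := act 5 n50813
theorem D110200 : act 5 n50813 = n110200 := rfl
theorem F170361 : act 2 n110200 = n51821 := d2_1 D110200 (iv5 F81880) (iv2 F105378)
theorem F170362 : act 3 n110200 = n110069 := d6_1 D110200 F170204 (iv3 F81916)
theorem F170363 : act 7 n110200 = n51894 := d13_2 F169704 D110200 (iv5 F169705)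
theorem F170364 : act 4 n110200 = n51700 := d18_5 (iv1 D25146) (iv4 F39555) D51770 (iv4 F81760) D110200 (iv0 D51700) F39477 D25119 (iv5 F81782)
theorem F170365 : act 1 n110058 = n110200 := d15_1 D110058 F170363 F105372
theorem F170366 : act 4 n109929 = n110058 := d18_7 (iv1 F170113) F170116 (iv1 D109770) (iv4 D50626) (iv5 F81877) D50699 D109929 F170365 (iv5 D110200)
theorem F170367 : act 3 n109929 = n74182 := d20_3 (iv4 F170364) (iv1 F170365) (iv4 F170366) (iv1 D74182) (iv3 D34033) (iv4 D16486) F22451 D11931 D25112 D51700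
theorem F170368 : act 1 n110200 = n50846 := d15_0 F170056 F105367 (iv2 F170361)
theorem F170369 : act 0 n109782 = n50847 := d20_7 F170364 (iv1 F81633) F80035 (iv3 F39562) (iv1 F39567) D50630 D109782 (iv4 D50847) D50846 (iv1 F170368)
def n110201 : Q := act 6 n50813
theorem D110201 : act 6 n50813 = n110201 := rfl
def n110202 : Q := act 4 n50815
theorem D110202 : act 4 n50815 = n110202 := rfl
theorem F170371 : act 7 n110202 = n109770 := d11_2 F170114 D110202 (iv4 F170116)
theorem F170372 : act 3 n110202 = n64077 := d20_3 D109711 (iv1 F170201) D110202 (iv1 D64077) (iv3 D30202) (iv4 D14333) F20247 D11674 D24649 D50602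
theorem F170373 : act 0 n110202 = n51790 := d20_7 (iv4 F170182) (iv1 F170183) (iv4 D50766) D50765 D110068 (iv3 F170199) D110202 (iv4 D51790) D51789 (iv1 F169988)
theorem F170374 : act 0 n51794 = n110202 := d20_1 D51794 (iv4 D110202) F170199 (iv1 F170197) (iv3 F81932) F81931 (iv1 F81637) F81635 F39484 (iv1 F39566)
def n110203 : Q := act 5 n50815
theorem D110203 : act 5 n50815 = n110203 := rfl
theorem F170375 : act 2 n110203 = n50817 := d2_1 D110203 (iv5 D50817) D50815
theorem F170376 : act 0 n110203 = n51970 := d18_0 F82081 (iv1 D50541) F38625 (iv5 F19013) (iv4 F38649) D50603 (iv4 F81871) (iv0 F170200) D110203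
theorem F170377 : act 1 n110203 = n109548 := d15_0 (iv0 F170257) F170255 (iv2 F170375)
def n110205 : Q := act 3 n50816
theorem D110205 : act 3 n50816 = n110205 := rfl
theorem F170379 : act 4 n110205 = n50819 := d5_2 D50816 D110205 (iv3 D50819) (iv4 D24724) D24723
def n110206 : Q := act 5 n50816
theorem D110206 : act 5 n50816 = n110206 := rfl
def n110207 : Q := act 6 n50816
theorem D110207 : act 6 n50816 = n110207 := rfl
def n110208 : Q := act 0 n50817
theorem D110208 : act 0 n50817 = n110208 := rfl
theorem F170381 : act 4 n110208 = n51566 := d18_1 D110208 (iv1 F81388) F79912 (iv5 F38659) (iv4 F79980) F81759 (iv4 F81760) (iv0 D50813) D50817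
def n110209 : Q := act 1 n50817
theorem D110209 : act 1 n50817 = n110209 := rfl
def n110215 : Q := act 2 n50819
theorem D110215 : act 2 n50819 = n110215 := rfl
def n110216 : Q := act 5 n50819
theorem D110216 : act 5 n50819 = n110216 := rfl
theorem F170385 : act 3 n110216 = n50820 := d6_1 D110216 (iv5 D50820) D50819
def n110217 : Q := act 6 n50819
theorem D110217 : act 6 n50819 = n110217 := rfl
theorem F170386 : act 3 n110217 = n50821 := d7_1 D110217 (iv6 D50821) D50819
def n110218 : Q := act 4 n50820
theorem D110218 : act 4 n50820 = n110218 := rfl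
def n110219 : Q := act 6 n50820
theorem D110219 : act 6 n50820 = n110219 := rfl
def n110220 : Q := act 0 n50821
theorem D110220 : act 0 n50821 = n110220 := rfl
def n110221 : Q := act 1 n50821
theorem D110221 : act 1 n50821 = n110221 := rfl
def n110222 : Q := act 5 n50821
theorem D110222 : act 5 n50821 = n110222 := rfl
def n110223 : Q := act 7 n50821
theorem D110223 : act 7 n50821 = n110223 := rfl
def n110224 : Q := act 3 n50822
theorem D110224 : act 3 n50822 = n110224 := rfl
theorem F170388 : act 0 n51371 = n110224 := d20_4 F49345 F45736 F45188 D51371 (iv3 D110224) (iv4 D50822) F169598 (iv4 F49346) (iv3 D30888) D30887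
def n110225 : Q := act 5 n50822
theorem D110225 : act 5 n50822 = n110225 := rfl
def n110226 : Q := act 6 n50822
theorem D110226 : act 6 n50822 = n110226 := rfl
def n110237 : Q := act 3 n50825
theorem D110237 : act 3 n50825 = n110237 := rfl
def n110245 : Q := act 3 n50838
theorem D110245 : act 3 n50838 = n110245 := rfl
theorem F170394 : act 2 n110245 = n51354 := d0_1 D110245 F81053 F39171 (iv3 F38704) (iv2 F80194)
theorem F170395 : act 4 n110245 = n108666 := d5_2 D50838 D110245 F168604 F79744 (iv3 F38698)
theorem F170396 : act 7 n110245 = n51352 := d8_2 (iv7 F80195) D110245 F81049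
theorem F170397 : act 1 n51351 = n110245 := d15_1 D51351 F170396 (iv2 D51352)
theorem F170398 : act 1 n110245 = n51350 := d15_0 (iv0 D51350) D51354 (iv2 F170394)
def n110246 : Q := act 5 n50838
theorem D110246 : act 5 n50838 = n110246 := rfl
theorem F170399 : act 2 n110246 = n50852 := d2_1 D110246 (iv5 D50852) (iv2 F80194)
theorem F170400 : act 7 n110246 = n51510 := d13_2 (iv7 F80195) D110246 (iv5 D51510)
theorem F170401 : act 1 n51512 = n110246 := d15_1 D51512 F170400 F81281
theorem F170402 : act 1 n110246 = n51511 := d15_0 (iv0 D51511) (iv7 F80209) (iv2 F170399)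
def n110247 : Q := act 6 n50838
theorem D110247 : act 6 n50838 = n110247 := rfl
theorem F170403 : act 2 n110247 = n50853 := d3_1 D110247 (iv6 D50853) (iv2 F80194)
theorem F170404 : act 4 n110247 = n50839 := d10_1 D110247 (iv6 D50839) D50838
theorem F170405 : act 7 n110247 = n109102 := d14_2 (iv7 F80195) D110247 (iv6 D109102) F79745 (iv6 F39264)
theorem F170406 : act 1 n109180 = n110247 := d15_1 D109180 F170405 F169093
theorem F170407 : act 1 n110247 = n109179 := d15_0 (iv0 D109179) (iv7 F80212) (iv2 F170403)
def n110250 : Q := act 3 n50840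
theorem D110250 : act 3 n50840 = n110250 := rfl
theorem F170410 : act 7 n110250 = n50846 := d8_2 F80202 D110250 (iv3 D50846)
theorem F170411 : act 2 n110250 = n110058 := d15_3 F170365 F170368 (iv7 F170410)
def n110251 : Q := act 4 n50840
theorem D110251 : act 4 n50840 = n110251 := rfl
theorem F170412 : act 2 n110251 = n50842 := d1_1 D110251 (iv4 D50842) D50840
def n110252 : Q := act 6 n50840
theorem D110252 : act 6 n50840 = n110252 := rfl
theorem F170414 : act 2 n110252 = n50844 := d3_1 D110252 (iv6 D50844) D50840
def n110253 : Q := act 2 n50841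
theorem D110253 : act 2 n50841 = n110253 := rfl
theorem F170415 : act 3 n110253 = n110058 := d0_2 D50841 D110253 (iv2 F170411) (iv3 D110250) (iv2 D50840)
theorem F170416 : act 4 n110253 = n58938 := d1_2 (iv4 F80203) D110253 F93147
theorem F170417 : act 7 n58935 = n110253 := d15_2 (iv0 F170285) F170288 (iv2 D110253)
theorem E17056 : n58942 = n58938 := (c20_2 (iv4 F45278) (iv1 F93148) (iv4 F170416) F170415 (iv1 D110058) (iv3 D50760) D50761 D110060 F170182 (iv3 D59044) (iv1 F169957))
theorem F170418 : act 0 n58938 = n28014 := (sb E17056 (iv1 D58942))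
theorem F170419 : act 1 n58938 = n28016 := (sb E17056 F93148)
theorem E17057 : n58933 = n51874 := ((c15_2 F170419 (iv0 F81914) (iv7 F93146) (iv2 F93147))).symm
theorem F170420 : act 2 n51874 = n28012 := (sb E17057 (iv2 D58933))
theorem F170421 : act 7 n51874 = n28013 := (sb E17057 (iv7 F93146))
theorem E17058 : n51877 = n50841 := ((c11_2 F170421 (iv4 F80203) (iv7 D51877) D51874)).symm
theorem E17059 : n25181 = n24730 := ((((iv3 D50841)).symm.trans (sb E17058 F81919))).symm
theorem F170422 : act 7 n50841 = n25177 := (sb E17058 (iv7 D51877))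
theorem E17060 : n51866 = n11952 := ((((iv1 F38702)).symm.trans (sb E17059 (iv1 F81907)))).symm
theorem E17062 : n50840 = n11951 := ((D50840).symm.trans (sb E17059 F39625))
theorem E17063 : n51883 = n50842 := (((D50842).symm.trans (sb E17059 (iv4 F81924)))).symm
theorem E17064 : n51888 = n50468 := (((F170053).symm.trans (sb E17059 (iv5 F81928)))).symm
theorem E17066 : n50845 = n11950 := ((D50845).symm.trans (sb E17059 (iv7 D25181)))
theorem E17067 : n25176 = n24731 := ((((iv1 F38703)).symm.trans (sb E17060 (iv1 D51866)))).symm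
theorem F170423 : act 2 n11951 = n24730 := (sb E17062 (iv2 D50840))
theorem E17070 : n110250 = n25182 := (((D25182).symm.trans (sb E17062 D110250))).symm
theorem E17071 : n110251 = n25183 := (((D25183).symm.trans (sb E17062 D110251))).symm
theorem E17072 : n109371 = n25184 := (((D25184).symm.trans (sb E17062 (iv5 F170050)))).symm
theorem E17073 : n110252 = n25185 := (((D25185).symm.trans (sb E17062 D110252))).symm
theorem F170424 : act 7 n50842 = n25178 := (sb E17063 (iv7 D51883))
theorem E17074 : n109376 = n25179 := ((D109376).symm.trans (sb E17064 (iv7 D51888)))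
theorem F170425 : act 7 n11950 = n24730 := (sb E17066 (iv7 D50845))
theorem F170426 : act 2 n24731 = n11950 := (sb E17067 (iv2 D25176))
theorem E17075 : n51867 = n50846 := (((D50846).symm.trans (sb E17067 D51867))).symm
theorem E17076 : n51868 = n50847 := (((D50847).symm.trans (sb E17067 D51868))).symm
theorem E17077 : n51869 = n50469 := (((F170048).symm.trans (sb E17067 D51869))).symm
theorem E17078 : n51870 = n50849 := (((D50849).symm.trans (sb E17067 D51870))).symm
theorem F170427 : act 7 n24731 = n11951 := (sb E17067 (iv7 F39624))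
theorem E17079 : n110058 = n51896 := (((D51896).symm.trans (sb E17070 F170411))).symm
theorem F170428 : act 2 n25183 = n50842 := (sb E17071 F170412)
theorem F170429 : act 2 n25184 = n50468 := (sb E17072 (iv2 D109371))
theorem F170430 : act 2 n25185 = n50844 := (sb E17073 F170414)
theorem F170431 : act 7 n25179 = n50468 := (sb E17074 (iv7 D109376))
theorem F170432 : act 7 n50846 = n25182 := (sb E17075 F81908)
theorem F170433 : act 2 n50847 = n25178 := (sb E17076 F81909)
theorem F170434 : act 7 n50847 = n25183 := (sb E17076 F81910)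
theorem F170435 : act 2 n50469 = n25179 := (sb E17077 F81911)
theorem F170436 : act 7 n50469 = n25184 := (sb E17077 F81912)
theorem F170437 : act 2 n50849 = n25180 := (sb E17078 F81913)
theorem F170438 : act 0 n51896 = n50760 := (sb E17079 (iv1 D110058))
theorem F170439 : act 1 n51896 = n110200 := (sb E17079 F170365)
theorem F170440 : act 3 n51896 = n110253 := (sb E17079 (iv3 F170415))
theorem F170441 : act 4 n51896 = n109929 := (sb E17079 (iv4 F170366))
theorem F170442 : act 2 n109929 = n51897 := d1_1 F170441 (iv4 D51897) D51896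
theorem F170443 : act 0 n110253 = n51872 := d20_4 D50704 (iv1 F170057) (iv4 F170441) F170440 (iv3 F81916) F81760 (iv1 F81759) F79980 (iv3 F39484) (iv1 F39489)
theorem F170444 : act 1 n110253 = n51849 := d15_1 (iv0 F170443) (iv7 F105356) F105379
theorem E17080 : n58935 = n51873 := (c15_3 D51872 (iv0 F170443) (iv7 F170417) (iv2 D51873))
theorem F170445 : act 0 n51873 = n110134 := (sb E17080 (iv1 F170288))
theorem F170446 : act 1 n51873 = n50741 := (sb E17080 (iv0 F105365))
theorem F170447 : act 4 n51873 = n28012 := (sb E17080 (iv4 D58935))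
theorem F170448 : act 7 n51873 = n110253 := (sb E17080 F170417)
theorem F170449 : act 7 n109928 = n51897 := d15_2 F170057 F170046 (iv2 F170442)
theorem F170450 : act 7 n51898 = n109377 := d8_2 F170436 (iv3 F81934) (iv3 D109377)
theorem F170451 : act 7 n51903 = n109378 := d11_2 F170436 D51903 (iv4 D109378)
theorem F170452 : act 2 n51886 = n109378 := d1_3 (iv4 D109378) F170435 D51886
theorem F170453 : act 2 n51887 = n109380 := d3_3 (iv6 D109380) F170435 D51887
theorem F170454 : act 7 n109372 = n51875 := d8_2 F170431 D109372 F81917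
theorem F170455 : act 7 n109373 = n51886 := d11_2 F170431 D109373 (iv4 D51886)
theorem F170456 : act 2 n51903 = n109373 := d4_3 F170455 F170452 (iv7 F170451)
theorem F170457 : act 1 n109378 = n109619 := d15_0 (iv0 F169618) F170455 F170452
theorem F170458 : act 5 n109617 = n109780 := d18_9 (iv1 D109780) D109782 F170369 (iv4 D50847) F170048 D109378 F170457 (iv4 D109619) D109617
def n110255 : Q := act 1 n50842
theorem D110255 : act 1 n50842 = n110255 := rfl
theorem F170462 : act 1 n110255 = n50847 := d15_1 D110255 F170434 F170428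
theorem F170463 : act 7 n110255 = n51879 := d15_2 F169777 D110255 (iv2 F170021)
def n110256 : Q := act 3 n50842
theorem D110256 : act 3 n50842 = n110256 := rfl
theorem F170465 : act 4 n110256 = n58939 := d5_2 D50842 D110256 (iv3 D58939) (iv4 F80203) (iv3 D50841)
theorem F170466 : act 7 n110256 = n51880 := d8_2 (iv7 F170424) D110256 (iv3 D51880)
def n110257 : Q := act 5 n50842
theorem D110257 : act 5 n50842 = n110257 := rfl
theorem F170467 : act 2 n110257 = n51901 := d2_1 D110257 (iv5 D51901) F170428
theorem F170468 : act 7 n110257 = n51881 := d13_2 (iv7 F170424) D110257 (iv5 D51881)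
def n110258 : Q := act 6 n50842
theorem D110258 : act 6 n50842 = n110258 := rfl
def n110262 : Q := act 7 n50844
theorem D110262 : act 7 n50844 = n110262 := rfl
theorem F170474 : act 6 n110262 = n51892 := d14_1 D110262 (iv7 D51892) (iv6 D25180) F170425 D50844
theorem F170476 : act 1 n51906 = n110262 := d15_1 D51906 (iv7 D110262) (iv2 F170430)
def n110263 : Q := act 2 n50846
theorem D110263 : act 2 n50846 = n110263 := rfl
theorem F170478 : act 3 n110263 = n51873 := d0_2 D50846 D110263 (iv2 D51873) (iv3 D25177) (iv2 F170426)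
theorem F170480 : act 1 n110263 = n51894 := d15_0 (iv0 D51894) (iv7 F170432) D110263
theorem F170481 : act 1 n51821 = n110263 := d15_0 F170480 (iv7 F170363) F170361
theorem E17081 : n110133 = n59288 := ((c20_2 D28154 (iv1 F93517) (iv4 D110133) (iv3 F81932) (iv1 F170480) F170478 F170447 D58932 F93143 (iv3 F45334) (iv1 F45336))).symm
theorem F170482 : act 3 n59288 = n105228 := (sb E17081 F170281)
theorem F170483 : act 4 n59288 = n50791 := (sb E17081 (iv4 D110133))
theorem E17082 : n59281 = n51793 := (c20_5 (iv4 F170483) (iv1 D59288) (iv4 D28149) D28148 D59281 (iv3 D51793) D51794 F170374 (iv4 D110202) F170199 (iv1 F170197))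
theorem F170484 : act 1 n51793 = n28148 := (sb E17082 (iv0 D59281))
def n110264 : Q := act 6 n50846
theorem D110264 : act 6 n50846 = n110264 := rfl
def n110265 : Q := act 3 n50847
theorem D110265 : act 3 n50847 = n110265 := rfl
theorem F170486 : act 7 n110265 = n51900 := d8_2 (iv7 F170434) D110265 (iv3 D51900)
theorem F170487 : act 0 n51426 = n110265 := d20_4 F47898 (iv1 D29776) F39238 D51426 (iv3 D110265) (iv4 D50847) (iv1 D24731) D24732 F38704 (iv1 F39167)
def n110266 : Q := act 5 n50847
theorem D110266 : act 5 n50847 = n110266 := rfl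
theorem F170488 : act 2 n110266 = n51881 := d2_1 D110266 (iv5 D51881) (iv2 F170433)
theorem F170489 : act 7 n110266 = n51901 := d13_2 (iv7 F170434) D110266 (iv5 D51901)
def n110267 : Q := act 6 n50847
theorem D110267 : act 6 n50847 = n110267 := rfl
theorem F170491 : act 4 n110267 = n50849 := d10_1 D110267 (iv6 D50849) D50847
def n110268 : Q := act 0 n50849
theorem D110268 : act 0 n50849 = n110268 := rfl
def n110270 : Q := act 5 n50849
theorem D110270 : act 5 n50849 = n110270 := rfl
theorem F170493 : act 2 n110270 = n51891 := d2_1 D110270 (iv5 D51891) (iv2 F170437)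
def n110271 : Q := act 7 n50849
theorem D110271 : act 7 n50849 = n110271 := rfl
def n110272 : Q := act 2 n50850
theorem D110272 : act 2 n50850 = n110272 := rfl
theorem F170499 : act 7 n50851 = n110272 := d15_2 (iv0 D50850) D50851 (iv2 D110272)
theorem F170500 : act 4 n110272 = n59286 := d11_1 F170499 (iv7 D59286) F80207
def n110273 : Q := act 3 n50850
theorem D110273 : act 3 n50850 = n110273 := rfl
theorem F170501 : act 4 n110273 = n107592 := d20_6 (iv4 D24960) (iv1 F19276) (iv4 F19570) (iv3 F38704) D50850 D110273 (iv1 D107592) (iv4 F98178) (iv3 D62934) F47889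
def n110274 : Q := act 4 n50850
theorem D110274 : act 4 n50850 = n110274 := rfl
theorem F170502 : act 2 n110274 = n59286 := d1_1 D110274 (iv4 F170500) (iv2 D110272)
theorem F170503 : act 1 n110274 = n51793 := d18_8 F170025 (iv4 D50372) D50369 F79744 F38690 (iv4 F39263) F80205 D110274 F81786
theorem F170504 : act 3 n110274 = n109926 := d20_3 D24732 D50850 D110274 (iv1 D109926) (iv3 D50698) D50699 D109928 F170045 (iv3 D50846) (iv1 D24731)
theorem E17083 : n109926 = n59305 := (c0_1 F170504 (iv2 D59305) (iv3 D28153) (iv2 F45514) (iv3 F93515) (iv2 F170502))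
theorem F170505 : act 0 n59305 = n50698 := (sb E17083 (iv1 D109926))
theorem F170506 : act 1 n59305 = n110024 := (sb E17083 F170159)
theorem F170507 : act 3 n59305 = n110274 := (sb E17083 (iv3 F170504))
theorem F170508 : act 5 n59305 = n109417 := (sb E17083 F170043)
theorem F170509 : act 2 n109417 = n59307 := d2_1 F170508 (iv5 D59307) D59305
theorem E17084 : n109925 = n59277 := (c15_2 F170506 F170160 F93506 D59305)
theorem F170510 : act 0 n59277 = n110024 := (sb E17084 (iv1 F170160))
theorem F170511 : act 1 n59277 = n50698 := (sb E17084 (iv0 D109925))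
theorem F170512 : act 1 n59282 = n110274 := d15_0 F170503 F170007 (iv2 F169993)
theorem F170513 : act 7 n110274 = n59283 := d15_2 D59282 F170512 (iv2 D59283)
def n110275 : Q := act 5 n50850
theorem D110275 : act 5 n50850 = n110275 := rfl
def n110276 : Q := act 6 n50850
theorem D110276 : act 6 n50850 = n110276 := rfl
def n110277 : Q := act 7 n50850
theorem D110277 : act 7 n50850 = n110277 := rfl
theorem F170514 : act 2 n110277 = n50851 := d4_1 D110277 F170499 (iv2 D110272)
theorem F170515 : act 4 n110277 = n59283 := d11_1 D110277 (iv7 F170513) (iv4 D110274)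
def n110278 : Q := act 3 n50851
theorem D110278 : act 3 n50851 = n110278 := rfl
theorem F170516 : act 4 n110278 = n59289 := d5_2 F80207 D110278 (iv3 D59289) (iv4 D28149) D28148
def n110279 : Q := act 5 n50851
theorem D110279 : act 5 n50851 = n110279 := rfl
def n110280 : Q := act 6 n50851
theorem D110280 : act 6 n50851 = n110280 := rfl
def n110281 : Q := act 0 n50852
theorem D110281 : act 0 n50852 = n110281 := rfl
theorem F170518 : act 5 n110281 = n66018 := d17_3 (iv1 D50851) D50852 D110281 F169596 (iv5 D109119) (iv0 F170025) (iv5 F81786) F170484 F80207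
theorem F170519 : act 1 n51510 = n110281 := d15_0 (iv0 D110281) F80209 (iv2 F81281)
def n110282 : Q := act 1 n50852
theorem D110282 : act 1 n50852 = n110282 := rfl
theorem F170520 : act 1 n110282 = n51510 := d15_1 D110282 (iv7 F170400) F170399
theorem F170521 : act 5 n110282 = n66019 := d17_7 (iv1 F80185) (iv5 D24725) (iv1 D11697) D11699 D24732 D50852 D110282 F170322 (iv4 D110170)
def n110283 : Q := act 4 n50852
theorem D110283 : act 4 n50852 = n110283 := rfl
theorem F170522 : act 7 n110283 = n51513 := d11_2 (iv7 F80209) D110283 (iv4 D51513)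
def n110284 : Q := act 6 n50852
theorem D110284 : act 6 n50852 = n110284 := rfl
theorem F170523 : act 3 n110284 = n51524 := d7_1 D110284 (iv6 D51524) (iv3 F80208)
def n110285 : Q := act 0 n50853
theorem D110285 : act 0 n50853 = n110285 := rfl
theorem F170524 : act 1 n109102 = n110285 := d15_0 (iv0 D110285) F80212 (iv2 F169093)
def n110286 : Q := act 1 n50853
theorem D110286 : act 1 n50853 = n110286 := rfl
theorem F170525 : act 1 n110286 = n109102 := d15_1 D110286 (iv7 F170405) F170403
def n110287 : Q := act 5 n50853
theorem D110287 : act 5 n50853 = n110287 := rfl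
theorem F170526 : act 3 n110287 = n51527 := d6_1 D110287 (iv5 D51527) (iv3 F80210)
theorem F170527 : act 7 n110287 = n109181 := d13_2 (iv7 F80212) D110287 (iv5 D109181)
def n110288 : Q := act 2 n50854
theorem D110288 : act 2 n50854 = n110288 := rfl
theorem F170528 : act 7 n50855 = n110288 := d15_2 (iv0 D50854) D50855 (iv2 D110288)
def n110289 : Q := act 3 n50854
theorem D110289 : act 3 n50854 = n110289 := rfl
def n110290 : Q := act 4 n50854
theorem D110290 : act 4 n50854 = n110290 := rfl
def n110291 : Q := act 5 n50854
theorem D110291 : act 5 n50854 = n110291 := rfl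
def n110292 : Q := act 6 n50854
theorem D110292 : act 6 n50854 = n110292 := rfl
def n110293 : Q := act 7 n50854
theorem D110293 : act 7 n50854 = n110293 := rfl
theorem F170529 : act 2 n110293 = n50855 := d4_1 D110293 F170528 (iv2 D110288)
def n110294 : Q := act 3 n50855
theorem D110294 : act 3 n50855 = n110294 := rfl
def n110295 : Q := act 4 n50855
theorem D110295 : act 4 n50855 = n110295 := rfl
def n110296 : Q := act 5 n50855
theorem D110296 : act 5 n50855 = n110296 := rfl
def n110297 : Q := act 6 n50855
theorem D110297 : act 6 n50855 = n110297 := rfl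
def n110298 : Q := act 2 n50856
theorem D110298 : act 2 n50856 = n110298 := rfl
theorem F170530 : act 7 n50857 = n110298 := d15_2 (iv0 D50856) D50857 (iv2 D110298)
def n110299 : Q := act 3 n50856
theorem D110299 : act 3 n50856 = n110299 := rfl
def n110300 : Q := act 4 n50856
theorem D110300 : act 4 n50856 = n110300 := rfl
def n110301 : Q := act 5 n50856
theorem D110301 : act 5 n50856 = n110301 := rfl
def n110302 : Q := act 6 n50856
theorem D110302 : act 6 n50856 = n110302 := rfl
def n110303 : Q := act 7 n50856
theorem D110303 : act 7 n50856 = n110303 := rfl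
def n110304 : Q := act 3 n50857
theorem D110304 : act 3 n50857 = n110304 := rfl
def n110305 : Q := act 4 n50857
theorem D110305 : act 4 n50857 = n110305 := rfl
def n110306 : Q := act 5 n50857
theorem D110306 : act 5 n50857 = n110306 := rfl
def n110307 : Q := act 6 n50857
theorem D110307 : act 6 n50857 = n110307 := rfl
def n110310 : Q := act 2 n50859
theorem D110310 : act 2 n50859 = n110310 := rfl
def n110311 : Q := act 4 n50859
theorem D110311 : act 4 n50859 = n110311 := rfl
theorem F170532 : act 3 n110311 = n59113 := d5_1 D110311 (iv4 D59113) (iv3 D28080) F80227 D50859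
def n110312 : Q := act 5 n50859
theorem D110312 : act 5 n50859 = n110312 := rfl
theorem F170533 : act 3 n110312 = n50861 := d6_1 D110312 (iv5 D50861) D50859
theorem F170534 : act 6 n66177 = n110312 := d7_0 F170533 (iv6 F80220) D66177
def n110315 : Q := act 1 n50863
theorem D110315 : act 1 n50863 = n110315 := rfl
def n110316 : Q := act 2 n50863
theorem D110316 : act 2 n50863 = n110316 := rfl
theorem F170538 : act 7 n110316 = n110310 := d4_2 (iv7 F80231) D110316 (iv2 D110310)
theorem F170540 : act 1 n110315 = n110310 := d15_1 D110315 (iv7 F170538) (iv2 D110316)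
def n110320 : Q := act 5 n50865
theorem D110320 : act 5 n50865 = n110320 := rfl
theorem F170551 : act 0 n110320 = n51602 := d17_2 F81825 D110320 (iv5 D51602) F39351 F19615 D14507 (iv5 F38715) (iv0 F39583) (iv4 F81823)
def n110321 : Q := act 3 n50869
theorem D110321 : act 3 n50869 = n110321 := rfl
theorem F170553 : act 4 n110321 = n50873 := d5_2 D50869 D110321 (iv3 D50873) (iv4 D24739) D24738
def n110322 : Q := act 5 n50869
theorem D110322 : act 5 n50869 = n110322 := rfl
def n110323 : Q := act 6 n50869
theorem D110323 : act 6 n50869 = n110323 := rfl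
theorem F170554 : act 4 n110323 = n50871 := d10_1 D110323 (iv6 D50871) D50869
def n110324 : Q := act 0 n50870
theorem D110324 : act 0 n50870 = n110324 := rfl
theorem F170555 : act 5 n110324 = n109266 := d21_2 D50870 D110324 (iv6 D109266) (iv1 D50420) (iv6 D24573) (iv5 D11622) (iv1 F8531) D11914 D25083 F161310
theorem F170556 : act 6 n110324 = n51547 := d21_5 (iv5 F48906) (iv1 F100576) F99890 (iv6 F161304) D110324 (iv5 F81330) F83846 F83843 F81748 (iv1 F79977)
theorem F170557 : act 2 n51586 = n110324 := d15_3 (iv0 D110324) F161303 (iv7 F81420)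
theorem F170558 : act 1 n109295 = n110324 := d15_0 (iv0 D110324) (iv7 F81945) (iv2 F169313)
theorem F170559 : act 7 n110324 = n109266 := d15_2 (iv0 F169316) F170558 F169243
def n110325 : Q := act 4 n50870
theorem D110325 : act 4 n50870 = n110325 := rfl
theorem F170560 : act 6 n110325 = n64507 := d10_2 (iv6 F161304) D110325 (iv4 D64507)
def n110326 : Q := act 0 n50873
theorem D110326 : act 0 n50873 = n110326 := rfl
def n110327 : Q := act 1 n50873
theorem D110327 : act 1 n50873 = n110327 := rfl
def n110328 : Q := act 2 n50873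
theorem D110328 : act 2 n50873 = n110328 := rfl
def n110329 : Q := act 5 n50873
theorem D110329 : act 5 n50873 = n110329 := rfl
theorem F170561 : act 3 n110329 = n50874 := d6_1 D110329 (iv5 D50874) D50873
def n110330 : Q := act 6 n50873
theorem D110330 : act 6 n50873 = n110330 := rfl
theorem F170562 : act 3 n110330 = n50875 := d7_1 D110330 (iv6 D50875) D50873
def n110331 : Q := act 5 n50875
theorem D110331 : act 5 n50875 = n110331 := rfl
theorem F170565 : act 0 n110331 = n50958 := d17_2 F81797 D110331 (iv5 D50958) F38793 F19086 D24373 (iv5 F45367) (iv0 F45506) (iv4 F81795)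
def n110332 : Q := act 3 n50876
theorem D110332 : act 3 n50876 = n110332 := rfl
theorem F170567 : act 5 n110332 = n51915 := d6_2 (iv5 F80245) D110332 (iv3 D51915)
theorem F170568 : act 6 n110332 = n66169 := d7_2 (iv6 F80244) D110332 (iv3 D66169)
def n110333 : Q := act 3 n50879
theorem D110333 : act 3 n50879 = n110333 := rfl
theorem F170570 : act 5 n110333 = n52147 := d6_2 (iv5 F80265) D110333 (iv3 D52147)
def n110334 : Q := act 6 n50879
theorem D110334 : act 6 n50879 = n110334 := rfl
theorem F170571 : act 2 n110334 = n62733 := d3_1 D110334 (iv6 D62733) (iv2 F80264)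
theorem F170572 : act 4 n110334 = n50880 := d10_1 D110334 (iv6 D50880) D50879
def n110335 : Q := act 0 n50880
theorem D110335 : act 0 n50880 = n110335 := rfl
def n110336 : Q := act 1 n50880
theorem D110336 : act 1 n50880 = n110336 := rfl
theorem F170573 : act 1 n110336 = n62737 := d15_1 D110336 (iv7 D62737) (iv2 F80266)
def n110337 : Q := act 7 n50880
theorem D110337 : act 7 n50880 = n110337 := rfl
theorem F170574 : act 2 n110337 = n62737 := d4_1 D110337 (iv7 D62737) (iv2 F80266)
theorem F170575 : act 6 n110337 = n93927 := d14_1 D110337 (iv7 F157679) (iv6 D52117) F39966 D50880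
theorem F170576 : act 1 n62737 = n110335 := d15_0 (iv0 D110335) D110337 F170574
theorem F170577 : act 1 n62735 = n110337 := d15_1 D62735 (iv7 D110337) F80266
theorem F170578 : act 1 n110337 = n62734 := d15_0 (iv0 D62734) D62737 (iv2 F170574)
def n110338 : Q := act 1 n50881
theorem D110338 : act 1 n50881 = n110338 := rfl
theorem F170579 : act 1 n110338 = n65891 := d15_1 D110338 F101567 F81958
theorem F170580 : act 3 n65371 = n110338 := d20_9 F80268 (iv1 F166165) (iv4 D51912) (iv3 D25187) (iv1 F19716) (iv3 F19571) (iv4 F39270) D51525 F166448 (iv1 D110338)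
theorem F170581 : act 2 n110338 = n59212 := d0_1 F170580 (iv3 D59212) F166420 D58964 F166444
def n110339 : Q := act 1 n50882
theorem D110339 : act 1 n50882 = n110339 := rfl
theorem F170582 : act 1 n110339 = n52143 := d15_1 D110339 F82424 F82189
theorem F170583 : act 4 n110339 = n74340 := d20_0 (iv1 F111534) F84013 F40768 D30195 (iv3 F168373) F168374 (iv1 F103317) F82445 (iv3 F82422) (iv1 F170582)
theorem F170584 : act 3 n110339 = n51145 := d20_3 (iv4 F53512) D74340 (iv4 F170583) (iv1 D51145) F39023 (iv4 F39070) (iv1 F165540) (iv4 D49612) F165538 (iv1 D34104)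
theorem F170585 : act 4 n51145 = n65380 := d20_6 F168374 (iv1 F103317) F82445 (iv3 F82422) (iv1 F170582) F170584 (iv1 D65380) F49115 (iv3 F48760) (iv1 F82556)
def n110340 : Q := act 0 n50883
theorem D110340 : act 0 n50883 = n110340 := rfl
theorem F170586 : act 5 n110340 = n105636 := d19_1 D110340 (iv4 D105636) F76907 D48837 F76908 (iv4 D24578) F18967 (iv1 F19788) F19790 F18005 F7625 F4384 (iv5 D1091) D1090 D2249 D5450 D11712 D24747 D50883
theorem F170587 : act 1 n107586 = n110340 := d15_0 (iv0 D110340) F80273 D107586
def n110341 : Q := act 1 n50883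
theorem D110341 : act 1 n50883 = n110341 := rfl
theorem F170588 : act 4 n105726 = n110341 := d20_0 (iv1 D110341) F80272 (iv3 D50673) (iv1 D24676) D24677 F38673 D24683 D50699 D109930 F170058
theorem F170589 : act 7 n110341 = n107585 := d11_2 (iv7 F162367) F170588 (iv4 F165983)
theorem F170590 : act 2 n107585 = n110340 := d15_3 (iv0 D110340) D110341 F170589
theorem F170591 : act 2 n110341 = n107584 := d15_3 (iv0 D107584) D107585 (iv7 F170589)
theorem F170592 : act 7 n107584 = n110340 := d4_2 (iv7 F170589) F170591 (iv2 F170590)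
theorem F170593 : act 1 n110341 = n107586 := d15_0 F170587 (iv7 F170592) (iv2 F170591)
def n110342 : Q := act 2 n50883
theorem D110342 : act 2 n50883 = n110342 := rfl
theorem F170594 : act 4 n110342 = n109876 := d1_2 (iv4 F80272) D110342 (iv2 D109876)
theorem F170595 : act 7 n110342 = n107586 := d4_2 (iv7 F80273) D110342 (iv2 D107586)
theorem F170596 : act 1 n110342 = n107584 := d15_0 (iv0 D107584) (iv7 F80273) D110342
theorem F170597 : act 1 n107585 = n110342 := d15_0 F170596 F170592 (iv2 F170590)
def n110343 : Q := act 5 n50883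
theorem D110343 : act 5 n50883 = n110343 := rfl
theorem F170598 : act 3 n110343 = n50884 := d6_1 D110343 (iv5 D50884) D50883
theorem F170599 : act 7 n110343 = n107587 := d13_2 (iv7 F80273) D110343 (iv5 D107587)
theorem F170600 : act 4 n110343 = n105709 := d16_4 D105697 (iv5 F162323) (iv4 F80272) D110343 (iv5 D105709) (iv4 D48868) D48869 (iv7 F162303) F162302
def n110344 : Q := act 6 n50883
theorem D110344 : act 6 n50883 = n110344 := rfl
theorem F170601 : act 3 n110344 = n50885 := d7_1 D110344 (iv6 D50885) D50883
theorem F170602 : act 4 n110344 = n109877 := d10_1 D110344 (iv6 D109877) (iv4 F80272)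
def n110345 : Q := act 6 n50884
theorem D110345 : act 6 n50884 = n110345 := rfl
def n110346 : Q := act 0 n50885
theorem D110346 : act 0 n50885 = n110346 := rfl
theorem F170603 : act 4 n110346 = n51534 := d20_2 (iv4 F80276) D110346 (iv3 D51534) (iv1 D25037) F19571 (iv4 F19028) D24735 (iv4 F80227) D28080 F166169
theorem F170604 : act 1 n50991 = n110346 := d15_0 (iv0 D110346) (iv7 F81969) F81967
theorem F170605 : act 7 n109237 = n110346 := d11_0 F170603 F102481 D109237
def n110347 : Q := act 1 n50885
theorem D110347 : act 1 n50885 = n110347 := rfl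
theorem F170606 : act 1 n110347 = n50991 := d15_1 D110347 (iv7 F82198) F82196
theorem F170607 : act 4 n105270 = n110347 := d20_0 (iv1 D110347) F80276 (iv3 F80267) (iv1 F166192) (iv3 D58969) D58970 F161342 F82643 (iv3 F81299) (iv1 F161341)
theorem F170608 : act 2 n110347 = n109237 := d1_1 F170607 (iv4 D109237) (iv2 F161240)
def n110348 : Q := act 5 n50885
theorem D110348 : act 5 n50885 = n110348 := rfl
def n110349 : Q := act 4 n50886
theorem D110349 : act 4 n50886 = n110349 := rfl
theorem F170609 : act 2 n110349 = n59320 := d1_1 D110349 (iv4 D59320) (iv2 F166166)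
theorem F170610 : act 0 n110349 = n59252 := d20_1 D110349 F93479 F79895 D51542 F161312 D109251 (iv1 F169210) (iv4 F80268) F80267 D50886
theorem F170611 : act 0 n52247 = n110349 := d20_1 (iv4 F82609) (iv4 D110349) F166167 (iv1 F81970) (iv3 F49111) (iv4 F81197) (iv1 F166160) (iv4 D50409) D50408 F161338
def n110350 : Q := act 5 n50886
theorem D110350 : act 5 n50886 = n110350 := rfl
theorem F170612 : act 2 n110350 = n59321 := d2_1 D110350 (iv5 D59321) (iv2 F166166)
theorem F170613 : act 0 n110350 = n51965 := d21_1 D110350 F82066 (iv6 D50935) (iv1 D24765) (iv6 D11723) (iv5 D5453) D5450 D11712 D24748 D50886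
theorem F170614 : act 6 n110350 = n51933 := d21_3 F38737 D50886 D110350 (iv1 F82001) (iv6 F82020) (iv5 F166964) (iv1 F166966) F166173 (iv6 D59115) F166169
def n110351 : Q := act 6 n50886
theorem D110351 : act 6 n50886 = n110351 := rfl
theorem F170615 : act 2 n110351 = n59322 := d3_1 D110351 (iv6 D59322) (iv2 F166166)
theorem F170616 : act 5 n110351 = n107605 := d21_6 (iv5 D5453) D5450 D11712 D24748 D50886 D110351 (iv1 D107605) F78547 (iv6 D24758) (iv1 D11721)
theorem F170617 : act 0 n59262 = n110351 := d21_4 (iv5 F23029) D28916 F93678 D59262 (iv6 D110351) D110350 F170613 F82066 (iv6 D50935) (iv1 D24765)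
theorem F170618 : act 7 n107682 = n110351 := d13_0 F170616 F166144 D107682
theorem F170619 : act 0 n110351 = n59233 := d21_1 (iv5 F170616) (iv5 F93846) (iv6 F94035) F112196 (iv6 D53873) F41167 (iv1 F101938) (iv5 F162119) F162120 (iv1 F166022)
def n110352 : Q := act 0 n50888
theorem D110352 : act 0 n50888 = n110352 := rfl
def n110353 : Q := act 1 n50888
theorem D110353 : act 1 n50888 = n110353 := rfl
def n110354 : Q := act 2 n50888
theorem D110354 : act 2 n50888 = n110354 := rfl
theorem F170620 : act 3 n110354 = n50916 := d0_2 D50888 D110354 (iv2 D50916) (iv3 D24761) (iv2 F38738)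
def n110355 : Q := act 5 n50888
theorem D110355 : act 5 n50888 = n110355 := rfl
theorem F170621 : act 3 n110355 = n50889 := d6_1 D110355 (iv5 D50889) D50888
def n110356 : Q := act 6 n50888
theorem D110356 : act 6 n50888 = n110356 := rfl
theorem F170622 : act 3 n110356 = n50890 := d7_1 D110356 (iv6 D50890) D50888
def n110357 : Q := act 6 n50889
theorem D110357 : act 6 n50889 = n110357 := rfl
theorem F170623 : act 2 n110357 = n50922 := d3_1 D110357 (iv6 D50922) (iv2 F80279)
theorem F170624 : act 4 n110357 = n53241 := d10_1 D110357 (iv6 D53241) (iv4 F80280)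
def n110358 : Q := act 1 n50890
theorem D110358 : act 1 n50890 = n110358 := rfl
theorem F170626 : act 7 n110358 = n50923 := d15_2 (iv0 F169369) D110358 (iv2 F169366)
theorem F170627 : act 4 n52228 = n110358 := d20_0 (iv1 D110358) F80285 (iv3 F39659) D51926 (iv3 F168449) F168448 (iv1 F168447) F168443 (iv3 F167956) (iv1 F167959)
theorem F170628 : act 2 n110358 = n50924 := d1_1 F170627 (iv4 F167953) F167945
def n110359 : Q := act 5 n50890
theorem D110359 : act 5 n50890 = n110359 := rfl
def n110360 : Q := act 7 n50890
theorem D110360 : act 7 n50890 = n110360 := rfl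
theorem F170631 : act 4 n110360 = n50893 := d11_1 D110360 (iv7 D50893) (iv4 F80285)
theorem F170632 : act 1 n50924 = n110360 := d15_1 D50924 (iv7 D110360) F80284
theorem F170633 : act 1 n110360 = n50923 := d15_1 F170632 (iv7 F170626) F170628
def n110361 : Q := act 2 n50891
theorem D110361 : act 2 n50891 = n110361 := rfl
theorem F170634 : act 5 n110361 = n60724 := d2_2 (iv5 F80286) D110361 F95328
theorem F170635 : act 7 n50892 = n110361 := d15_2 (iv0 D50891) D50892 (iv2 D110361)
def n110362 : Q := act 4 n50891
theorem D110362 : act 4 n50891 = n110362 := rfl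
def n110363 : Q := act 7 n50891
theorem D110363 : act 7 n50891 = n110363 := rfl
theorem F170636 : act 2 n110363 = n50892 := d4_1 D110363 F170635 (iv2 D110361)
theorem F170637 : act 5 n110363 = n60721 := d13_1 D110363 (iv7 F95327) (iv5 F80286)
def n110364 : Q := act 4 n50892
theorem D110364 : act 4 n50892 = n110364 := rfl
theorem F170638 : act 0 n110364 = n108595 := d20_1 D110364 F167938 F79431 F164117 (iv3 D25076) D25077 F80092 F38799 (iv3 F38757) (iv1 F80287)
def n110365 : Q := act 6 n50892
theorem D110365 : act 6 n50892 = n110365 := rfl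
theorem F170639 : act 0 n110365 = n110350 := d21_10 (iv5 D110350) (iv1 F80277) F38813 (iv6 D24800) (iv1 F19488) D13430 (iv5 F22981) D28814 F80288 D110365
theorem F170640 : act 1 n110365 = n59114 := d15_1 (iv0 F170639) (iv7 F93541) (iv2 F170612)
theorem F170641 : act 2 n50935 = n110365 := d15_3 F170640 (iv0 F166183) F82067
theorem F170642 : act 0 n58994 = n68299 := d21_1 D58994 (iv5 D68299) F93282 (iv1 F170640) (iv6 D110365) (iv5 F80288) (iv1 F93616) F93613 F93472 (iv1 F93183)
theorem E17085 : n110363 = n24765 := (c3_4 D50935 F170641 (iv6 D110365) (iv2 F170636))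
theorem E17086 : n50931 = n50892 := (((iv2 F80344)).symm.trans (sb E17085 F170636))
theorem E17087 : n60721 = n50934 := (((D50934).symm.trans (sb E17085 F170637))).symm
theorem E17088 : n50927 = n50891 := ((F80340).symm.trans (sb E17085 (iv7 D110363)))
theorem F170643 : act 2 n50892 = n24765 := (sb E17086 F80344)
theorem E17089 : n110361 = n24764 := ((F170635).symm.trans (sb E17086 (iv7 D50931)))
theorem F170644 : act 2 n50934 = n28814 := (sb E17087 (iv2 D60721))
theorem E17090 : n62047 = n51964 := (((F82065).symm.trans (sb E17087 (iv6 F96690)))).symm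
theorem F170645 : act 7 n50934 = n28815 := (sb E17087 (iv7 F95327))
theorem E17091 : n51957 = n51926 := ((((iv6 F81976)).symm.trans (sb E17088 (iv6 F82057)))).symm
theorem F170646 : act 7 n50891 = n24765 := (sb E17088 (iv7 F80340))
theorem F170647 : act 2 n24764 = n50891 := (sb E17089 (iv2 D110361))
theorem E17092 : n60724 = n50930 := (((D50930).symm.trans (sb E17089 F170634))).symm
theorem F170648 : act 7 n24764 = n50892 := (sb E17089 (iv7 F170635))
theorem F170649 : act 2 n51964 = n29379 := (sb E17090 (iv2 D62047))
theorem F170650 : act 7 n51964 = n29380 := (sb E17090 (iv7 F96691))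
theorem F170651 : act 2 n51926 = n25208 := (sb E17091 (iv2 D51957))
theorem F170652 : act 7 n51926 = n25209 := (sb E17091 (iv7 F82058))
theorem F170653 : act 2 n50930 = n28815 := (sb E17092 F95328)
theorem F170654 : act 7 n50930 = n28814 := (sb E17092 (iv7 D60724))
theorem F170655 : act 7 n51962 = n52423 := d8_2 F170652 D51962 F168449
theorem E17093 : n51961 = n51927 := (c15_4 F81978 F81983 F170652 (iv2 F82063))
theorem F170656 : act 2 n51927 = n25209 := (sb E17093 F82063)
theorem F170657 : act 7 n51927 = n25208 := (sb E17093 (iv7 D51961))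
theorem F170658 : act 7 n51958 = n109357 := d8_2 F170657 D51958 (iv3 F169364)
theorem E17094 : n62050 = n51960 := ((c13_2 F170657 D51960 (iv7 D62050) F81979)).symm
theorem F170659 : act 2 n51960 = n29380 := (sb E17094 F96694)
theorem F170660 : act 7 n51960 = n29379 := (sb E17094 (iv7 D62050))
theorem E17095 : n109350 = n109260 := (c11_3 F170658 (iv4 D109357) F169360 (iv4 F169235))
theorem F170661 : act 2 n109260 = n50457 := (sb E17095 (iv2 D109350))
theorem F170662 : act 7 n109260 = n50458 := (sb E17095 (iv7 F169360))
theorem F170663 : act 7 n109358 = n109910 := d13_2 F170662 D109358 F169916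
theorem E17096 : n109355 = n109261 := (c15_4 F169224 F169233 F170662 (iv2 F169362))
theorem F170664 : act 2 n109261 = n50458 := (sb E17096 F169362)
theorem F170665 : act 7 n109261 = n50457 := (sb E17096 (iv7 D109355))
theorem F170666 : act 7 n109352 = n105526 := d11_2 F170665 D109352 F169225
theorem F170667 : act 7 n52424 = n106859 := d8_2 F170666 F169226 (iv3 F169361)
theorem F170668 : act 2 n109352 = n105525 := d15_3 (iv0 D105525) D105526 (iv7 F170666)
theorem E17097 : n105525 = n51958 := (c1_2 D109352 F170668 F169235 F170661)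
theorem F170669 : act 1 n51958 = n48790 := (sb E17097 (iv0 D105525))
theorem F170670 : act 2 n51958 = n109352 := (sb E17097 (iv2 F170668))
theorem F170671 : act 5 n51958 = n106551 := (sb E17097 F163801)
theorem F170672 : act 2 n109357 = n105526 := d4_3 (iv7 F170666) (iv2 F170670) F170658
theorem F170673 : act 2 n106859 = n52423 := d0_3 D51958 F170670 F169361 F168449 F170651
theorem F170674 : act 1 n109352 = n58763 := d15_0 (iv0 F169871) (iv7 F170658) F170670
theorem F170675 : act 6 n109352 = n105281 := d21_5 (iv5 D24323) F22162 D27940 D58763 (iv1 F170674) F166222 (iv1 D107626) (iv5 F93106) (iv6 D58885) (iv1 F45266)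
theorem F170676 : act 2 n105281 = n50928 := d3_1 F170675 (iv6 F82059) F170670
theorem F170677 : act 4 n105281 = n51574 := d10_1 F170675 F169860 D109352
theorem F170678 : act 7 n105282 = n50928 := d15_2 (iv0 D105281) D105282 (iv2 F170676)
theorem F170679 : act 4 n108784 = n106859 := d1_0 F170673 F168448 D108784
theorem F170680 : act 2 n62051 = n60512 := d2_3 (iv5 F164675) F170673 (iv5 F168452)
theorem F170681 : act 2 n51962 = n52424 := d4_3 F170667 F170673 (iv7 F170655)
theorem E17098 : n108787 = n108611 := (c1_4 (iv4 F167996) F170681 F169240 (iv2 F168714))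
theorem F170682 : act 2 n108611 = n50225 := (sb E17098 F168714)
theorem F170683 : act 7 n108611 = n50224 := (sb E17098 (iv7 D108787))
theorem F170684 : act 2 n108409 = n60511 := d2_3 (iv5 F167997) F170681 (iv5 F167594)
theorem F170685 : act 2 n62048 = n106550 := d0_5 (iv3 F169227) F170684 F167998 F170649 D62048
theorem F170686 : act 7 n60512 = n108409 := d15_2 (iv0 D60511) D60512 F170684
theorem F170687 : act 7 n62051 = n60511 := d4_0 (iv2 F170684) (iv7 F170686) (iv2 F170680)
theorem F170688 : act 2 n62512 = n63721 := d1_3 (iv4 F99087) F170685 F164105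
theorem F170689 : act 7 n106551 = n62048 := d15_2 (iv0 D106550) D106551 F170685
theorem F170690 : act 3 n51960 = n106551 := d8_3 F170689 (iv3 D62048) (iv7 F170660)
theorem F170691 : act 4 n106551 = n62513 := d20_6 (iv4 F80087) (iv1 F47098) F47094 (iv3 F47061) (iv1 F82062) F170690 (iv1 D62513) F47393 F23414 D14041
theorem F170692 : act 7 n62513 = n63721 := d11_2 (iv7 F170689) F170691 (iv4 F99087)
theorem F170693 : act 2 n62513 = n63722 := d15_3 F99081 F99085 (iv7 F170692)
theorem F170694 : act 7 n63722 = n62512 := d4_2 (iv7 F170692) F170693 F170688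
theorem E17099 : n108784 = n108610 := (c15_4 (iv0 D108610) D108611 F170683 D108784)
theorem F170695 : act 2 n108610 = n50224 := (sb E17099 (iv2 D108784))
theorem F170696 : act 4 n108610 = n106859 := (sb E17099 F170679)
theorem F170697 : act 7 n108610 = n50225 := (sb E17099 (iv7 F168712))
theorem F170698 : act 1 n105527 = n109352 := d15_1 F169872 F170666 (iv2 F170672)
theorem F170699 : act 0 n105279 = n50928 := d21_4 (iv5 D24324) (iv1 F36934) D48671 D105279 (iv6 F82059) F170671 (iv1 D106551) F77767 (iv6 D28099) F38110
theorem F170700 : act 2 n109910 = n109353 := d15_3 F169918 (iv0 F169919) F170663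
theorem F170701 : act 2 n109358 = n109909 := d15_3 (iv0 D109909) D109910 (iv7 F170663)
theorem F170702 : act 5 n109909 = n109261 := d2_2 D109358 F170701 F170664
theorem F170703 : act 7 n109909 = n109353 := d4_2 (iv7 F170663) F170701 (iv2 F170700)
theorem F170704 : act 1 n109358 = n109868 := d15_0 F169859 (iv7 F170703) (iv2 F170701)
theorem E17100 : n109908 = n59152 := ((c17_9 (iv1 D50685) D50686 D109909 F170702 (iv4 F169225) (iv5 F163800) (iv0 D106550) F77767 D59152 (iv4 D109908))).symm
theorem F170705 : act 3 n59152 = n58990 := (sb E17100 (iv3 F169915))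
theorem F170706 : act 4 n59152 = n50685 := (sb E17100 (iv4 D109908))
theorem F170707 : act 6 n59152 = n58987 := (sb E17100 F169914)
theorem F170708 : act 7 n110364 = n50929 := d11_2 F170648 D110364 (iv4 D50929)
theorem F170709 : act 2 n110362 = n50929 := d1_3 (iv4 D50929) F170647 D110362
theorem F170711 : act 7 n50932 = n58794 := d8_2 F170646 D50932 (iv3 F168453)
theorem F170712 : act 7 n50933 = n110362 := d11_2 F170646 D50933 (iv4 D110362)
theorem F170713 : act 2 n110364 = n50933 := d4_3 F170712 F170709 (iv7 F170708)
theorem F170714 : act 7 n60725 = n61842 := d13_2 F170711 F168454 F168000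
theorem F170715 : act 7 n63009 = n109030 := d11_2 F170714 (iv4 F168001) F169031
theorem F170716 : act 2 n109030 = n63010 := d15_3 F169040 (iv0 F169041) F170715
theorem F170717 : act 2 n63009 = n109029 := d15_3 (iv0 D109029) D109030 (iv7 F170715)
theorem F170718 : act 7 n109029 = n63010 := d4_2 (iv7 F170715) F170717 (iv2 F170716)
def n110366 : Q := act 0 n50894
theorem D110366 : act 0 n50894 = n110366 := rfl
def n110367 : Q := act 1 n50894
theorem D110367 : act 1 n50894 = n110367 := rfl
def n110368 : Q := act 7 n50894
theorem D110368 : act 7 n50894 = n110368 := rfl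
theorem F170719 : act 3 n110368 = n50900 := d8_1 D110368 (iv7 D50900) (iv3 F80294)
theorem F170720 : act 4 n110368 = n109545 := d11_1 D110368 (iv7 D109545) (iv4 F80295)
theorem F170721 : act 5 n110368 = n59499 := d13_1 D110368 (iv7 D59499) (iv5 F80296)
theorem F170722 : act 6 n110368 = n51026 := d14_1 D110368 F82213 (iv6 D52027) F39829 D50894
def n110369 : Q := act 0 n50895
theorem D110369 : act 0 n50895 = n110369 := rfl
def n110370 : Q := act 1 n50895
theorem D110370 : act 1 n50895 = n110370 := rfl
def n110371 : Q := act 2 n50895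
theorem D110371 : act 2 n50895 = n110371 := rfl
theorem F170723 : act 4 n110371 = n109541 := d1_2 (iv4 F80297) D110371 (iv2 D109541)
def n110372 : Q := act 5 n50895
theorem D110372 : act 5 n50895 = n110372 := rfl
theorem F170724 : act 3 n110372 = n50896 := d6_1 D110372 (iv5 D50896) D50895
def n110373 : Q := act 6 n50895
theorem D110373 : act 6 n50895 = n110373 := rfl
theorem F170725 : act 3 n110373 = n50897 := d7_1 D110373 (iv6 D50897) D50895
theorem F170726 : act 4 n110373 = n109542 := d10_1 D110373 (iv6 D109542) (iv4 F80297)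
def n110374 : Q := act 6 n50896
theorem D110374 : act 6 n50896 = n110374 := rfl
def n110375 : Q := act 0 n50897
theorem D110375 : act 0 n50897 = n110375 := rfl
theorem F170727 : act 4 n110375 = n108728 := d20_2 (iv4 F80298) D110375 (iv3 D108728) F81193 F81190 (iv4 F81437) (iv1 F81439) F49367 (iv3 F166120) (iv1 D50899)
def n110376 : Q := act 1 n50897
theorem D110376 : act 1 n50897 = n110376 := rfl
theorem F170728 : act 4 n110376 = n108827 := d18_7 (iv1 F95718) (iv4 F167066) F167067 F161966 F76808 (iv4 F80298) D110376 F168797 F165119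
theorem E17101 : n110366 = n107519 := (c20_5 (iv4 F170728) (iv1 D110376) F80298 (iv3 F80294) D110366 (iv3 D107519) D107520 F165887 F165160 (iv3 F165118) (iv1 F168797))
theorem F170729 : act 1 n107519 = n50894 := (sb E17101 (iv0 D110366))
def n110377 : Q := act 5 n50897
theorem D110377 : act 5 n50897 = n110377 := rfl
def n110378 : Q := act 7 n50897
theorem D110378 : act 7 n50897 = n110378 := rfl
theorem F170730 : act 4 n110378 = n50900 := d11_1 D110378 (iv7 D50900) (iv4 F80298)
theorem F170731 : act 6 n110378 = n51027 := d14_1 D110378 F82221 (iv6 D52030) F39837 D50897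
def n110379 : Q := act 4 n50898
theorem D110379 : act 4 n50898 = n110379 := rfl
theorem F170732 : act 2 n110379 = n68298 := d1_1 D110379 (iv4 D68298) (iv2 F166130)
def n110380 : Q := act 5 n50898
theorem D110380 : act 5 n50898 = n110380 := rfl
theorem F170733 : act 2 n110380 = n68299 := d2_1 D110380 (iv5 D68299) (iv2 F166130)
theorem F170734 : act 6 n110380 = n108028 := d21_3 F76808 D50898 D110380 (iv1 D108028) (iv6 D49891) F38865 F38864 F38156 (iv6 F41277) F76809
theorem F170735 : act 0 n108161 = n110380 := d21_10 (iv5 D110380) (iv1 F82240) F82236 F111395 (iv1 D31495) D31498 D67824 F167254 (iv5 D108160) D108161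
def n110381 : Q := act 6 n50898
theorem D110381 : act 6 n50898 = n110381 := rfl
theorem F170736 : act 2 n110381 = n59114 := d3_1 D110381 (iv6 F93282) (iv2 F166130)
theorem F170737 : act 3 n110381 = n110350 := d7_1 D110381 F170614 (iv3 F166131)
theorem F170738 : act 7 n110381 = n110350 := d14_2 F166179 D110381 F170614 (iv7 F166159) (iv6 F166182)
theorem F170739 : act 0 n110381 = n50935 := d21_4 (iv5 F167256) F170735 (iv5 D110380) D110381 (iv6 D50935) D50934 (iv1 F93614) F46451 F45500 (iv1 F93179)
theorem F170740 : act 5 n110381 = n51922 := d21_6 F9868 D12005 F20273 D24755 D50898 D110381 (iv1 F81970) F39812 (iv6 D25252) (iv1 F19820)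
def n110382 : Q := act 4 n50899
theorem D110382 : act 4 n50899 = n110382 := rfl
theorem F170741 : act 6 n110382 = n68306 := d10_2 F166123 D110382 (iv4 D68306)
theorem F170742 : act 7 n110382 = n68298 := d11_2 (iv7 F166121) D110382 (iv4 D68298)
theorem F170743 : act 0 n110382 = n50910 := d18_2 (iv1 F82239) D110382 F80320 (iv5 D49495) (iv4 F78244) (iv0 F85113) (iv4 D53962) F76886 (iv5 F82236)
theorem F170744 : act 1 n110379 = n50910 := d15_0 (iv0 F170743) F170742 (iv2 F170732)
def n110383 : Q := act 3 n50901
theorem D110383 : act 3 n50901 = n110383 := rfl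
theorem F170745 : act 4 n110383 = n50903 := d5_2 D50901 D110383 (iv3 D50903) (iv4 D24757) D24756
theorem F170746 : act 6 n110383 = n108881 := d7_2 (iv6 F81205) D110383 (iv3 D108881)
theorem F170747 : act 7 n110383 = n51368 := d8_2 (iv7 F80304) D110383 (iv3 D51368)
def n110385 : Q := act 1 n50903
theorem D110385 : act 1 n50903 = n110385 := rfl
def n110386 : Q := act 2 n50903
theorem D110386 : act 2 n50903 = n110386 := rfl
def n110387 : Q := act 5 n50903
theorem D110387 : act 5 n50903 = n110387 := rfl
theorem F170748 : act 3 n110387 = n50904 := d6_1 D110387 (iv5 D50904) D50903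
def n110388 : Q := act 6 n50903
theorem D110388 : act 6 n50903 = n110388 := rfl
theorem F170749 : act 3 n110388 = n50905 := d7_1 D110388 (iv6 D50905) D50903
theorem F170750 : act 4 n110388 = n108881 := d10_1 D110388 (iv6 F170746) F170745
def n110389 : Q := act 6 n50904
theorem D110389 : act 6 n50904 = n110389 := rfl
def n110390 : Q := act 1 n50905
theorem D110390 : act 1 n50905 = n110390 := rfl
theorem F170751 : act 1 n110390 = n51027 := d15_1 D110390 F82221 F82219
theorem F170752 : act 7 n110390 = n51403 := d15_2 (iv0 F94238) D110390 (iv2 F82674)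
theorem F170753 : act 4 n51406 = n110390 := d20_0 (iv1 D110390) F80311 (iv3 F80308) F80309 (iv3 F81141) (iv4 F100446) F100448 (iv4 D50554) D50553 (iv1 F81164)
def n110391 : Q := act 5 n50905
theorem D110391 : act 5 n50905 = n110391 := rfl
def n110392 : Q := act 7 n50905
theorem D110392 : act 7 n50905 = n110392 := rfl
theorem F170754 : act 2 n110392 = n51027 := d4_1 D110392 F82221 F82219
theorem F170755 : act 4 n110392 = n50907 := d11_1 D110392 (iv7 D50907) (iv4 F80311)
theorem F170756 : act 0 n51403 = n110392 := d20_7 F168878 (iv1 F168876) (iv4 D50277) (iv3 F39228) (iv1 D24996) (iv3 F39209) (iv4 F81150) F170755 (iv3 F101542) (iv1 F101544)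
def n110393 : Q := act 4 n50906
theorem D110393 : act 4 n50906 = n110393 := rfl
theorem F170757 : act 2 n110393 = n51025 := d1_1 D110393 F80486 F80314
theorem F170758 : act 7 n110393 = n50994 := d11_2 (iv7 F80313) D110393 F80439
theorem F170759 : act 0 n110393 = n50913 := d20_7 (iv4 F79904) (iv1 F169344) F169342 (iv3 D52053) F82015 (iv3 F82013) D110393 F81158 F81154 F39423
theorem F170760 : act 0 n51022 = n110393 := d20_1 F167739 (iv4 D110393) F82013 (iv1 D51939) (iv3 F49287) (iv4 F81186) (iv1 D51418) F39224 (iv3 F39209) D51404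
def n110394 : Q := act 0 n50908
theorem D110394 : act 0 n50908 = n110394 := rfl
def n110395 : Q := act 1 n50908
theorem D110395 : act 1 n50908 = n110395 := rfl
def n110396 : Q := act 2 n50908
theorem D110396 : act 2 n50908 = n110396 := rfl
theorem F170761 : act 4 n110396 = n107170 := d1_2 (iv4 F80318) D110396 (iv2 D107170)
def n110397 : Q := act 5 n50908
theorem D110397 : act 5 n50908 = n110397 := rfl
theorem F170762 : act 3 n110397 = n50909 := d6_1 D110397 (iv5 D50909) D50908
def n110398 : Q := act 6 n50908
theorem D110398 : act 6 n50908 = n110398 := rfl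
theorem F170763 : act 3 n110398 = n50910 := d7_1 D110398 (iv6 D50910) D50908
theorem F170764 : act 4 n110398 = n107165 := d10_1 D110398 F165159 (iv4 F80318)
def n110399 : Q := act 6 n50909
theorem D110399 : act 6 n50909 = n110399 := rfl
def n110400 : Q := act 5 n50910
theorem D110400 : act 5 n50910 = n110400 := rfl
theorem F170765 : act 0 n58984 = n110400 := d21_7 D52025 F82204 F80333 F45300 (iv1 D28028) D28030 D58984 (iv5 D110400) (iv6 D50910) (iv1 F39816)
def n110401 : Q := act 7 n50910
theorem D110401 : act 7 n50910 = n110401 := rfl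
theorem F170766 : act 4 n110401 = n107135 := d11_1 D110401 (iv7 D107135) (iv4 F80320)
theorem F170767 : act 6 n110401 = n51022 := d14_1 D110401 F167740 (iv6 D52040) (iv7 F39857) D50910
theorem F170768 : act 0 n68298 = n110401 := d18_2 F166177 D68298 F170766 F165119 (iv4 F104425) (iv0 D68273) (iv4 D31770) (iv0 F50061) (iv5 F39853)
def n110402 : Q := act 0 n50911
theorem D110402 : act 0 n50911 = n110402 := rfl
def n110403 : Q := act 1 n50911
theorem D110403 : act 1 n50911 = n110403 := rfl
def n110404 : Q := act 2 n50911
theorem D110404 : act 2 n50911 = n110404 := rfl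
def n110405 : Q := act 5 n50911
theorem D110405 : act 5 n50911 = n110405 := rfl
theorem F170769 : act 3 n110405 = n50912 := d6_1 D110405 (iv5 D50912) D50911
def n110406 : Q := act 6 n50911
theorem D110406 : act 6 n50911 = n110406 := rfl
theorem F170770 : act 3 n110406 = n50913 := d7_1 D110406 (iv6 D50913) D50911
def n110407 : Q := act 6 n50912
theorem D110407 : act 6 n50912 = n110407 := rfl
theorem F170771 : act 4 n110407 = n65540 := d10_1 D110407 (iv6 D65540) (iv4 F80321)
def n110408 : Q := act 5 n50913
theorem D110408 : act 5 n50913 = n110408 := rfl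
def n110409 : Q := act 2 n50914
theorem D110409 : act 2 n50914 = n110409 := rfl
theorem F170772 : act 7 n50915 = n110409 := d15_2 (iv0 D50914) D50915 (iv2 D110409)
theorem F170773 : act 4 n110409 = n109604 := d11_1 F170772 (iv7 D109604) F80323
def n110410 : Q := act 4 n50914
theorem D110410 : act 4 n50914 = n110410 := rfl
theorem F170774 : act 2 n110410 = n109604 := d1_1 D110410 (iv4 F170773) (iv2 D110409)
theorem F170775 : act 1 n110410 = n59074 := d18_8 D59070 F93253 (iv1 F81848) (iv4 D51830) (iv5 F39893) (iv4 F82259) F82261 D110410 (iv5 D59074)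
theorem E17102 : n109600 = n59074 := ((c15_1 F170775 (iv0 D109600) D109604 (iv2 F170774))).symm
theorem F170776 : act 1 n59074 = n50561 := (sb E17102 (iv0 D109600))
theorem F170777 : act 0 n50917 = n110025 := d17_2 (iv1 D50915) D50917 (iv5 D110025) D110024 F170158 (iv0 D59070) D59074 F170776 F80323
theorem F170778 : act 3 n109618 = n110410 := d0_0 F170774 F169610 F79936 D50566 D109618
theorem F170779 : act 7 n109602 = n110410 := d4_0 F170774 (iv7 D109604) D109602
theorem F170780 : act 1 n109601 = n110410 := d15_1 D109601 (iv7 F170779) (iv2 D109602)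
theorem F170781 : act 4 n108860 = n109618 := d5_0 F170778 (iv4 D110410) F168865 (iv4 D108861) D108860
theorem F170782 : act 2 n109619 = n108860 := d1_3 F170781 (iv2 D109618) D109619
def n110411 : Q := act 5 n50914
theorem D110411 : act 5 n50914 = n110411 := rfl
theorem F170783 : act 0 n110411 = n110018 := d17_2 D50914 D110411 (iv5 D110018) (iv4 D50745) (iv5 F38849) F39722 (iv5 F105477) (iv0 D24781) (iv4 F38755)
theorem F170784 : act 1 n110411 = n51857 := d15_1 (iv0 F170783) F81895 (iv2 F170146)
def n110412 : Q := act 6 n50914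
theorem D110412 : act 6 n50914 = n110412 := rfl
def n110413 : Q := act 7 n50914
theorem D110413 : act 7 n50914 = n110413 := rfl
theorem F170785 : act 2 n110413 = n50915 := d4_1 D110413 F170772 (iv2 D110409)
theorem F170786 : act 4 n110413 = n109602 := d11_1 D110413 F170779 (iv4 D110410)
def n110414 : Q := act 3 n50915
theorem D110414 : act 3 n50915 = n110414 := rfl
theorem F170787 : act 4 n110414 = n109607 := d5_2 F80323 D110414 (iv3 D109607) (iv4 D50562) D50561
def n110415 : Q := act 5 n50915
theorem D110415 : act 5 n50915 = n110415 := rfl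
theorem F170788 : act 0 n110415 = n51857 := d17_2 (iv1 F82262) D110415 (iv5 D51857) (iv4 D25170) (iv5 F19752) D25219 (iv5 F105480) F39897 (iv4 F82259)
def n110416 : Q := act 6 n50915
theorem D110416 : act 6 n50915 = n110416 := rfl
def n110417 : Q := act 5 n50916
theorem D110417 : act 5 n50916 = n110417 := rfl
theorem F170790 : act 2 n110417 = n50917 := d2_1 D110417 (iv5 D50917) D50916
def n110419 : Q := act 4 n50917
theorem D110419 : act 4 n50917 = n110419 := rfl
def n110420 : Q := act 6 n50917
theorem D110420 : act 6 n50917 = n110420 := rfl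
def n110425 : Q := act 3 n50919
theorem D110425 : act 3 n50919 = n110425 := rfl
theorem F170797 : act 5 n110425 = n52244 := d6_2 (iv5 F80328) D110425 F82602
theorem F170798 : act 7 n110425 = n52243 := d8_2 F80330 D110425 F82601
def n110426 : Q := act 6 n50919
theorem D110426 : act 6 n50919 = n110426 := rfl
theorem F170799 : act 2 n110426 = n53351 := d3_1 D110426 (iv6 D53351) F80329
theorem F170800 : act 4 n110426 = n53188 := d10_1 D110426 (iv6 D53188) F80331
def n110427 : Q := act 3 n50920
theorem D110427 : act 3 n50920 = n110427 := rfl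
theorem F170801 : act 5 n110427 = n52220 := d6_2 (iv5 F80333) D110427 (iv3 D52220)
theorem F170802 : act 7 n110427 = n53350 := d8_2 (iv7 F80332) D110427 (iv3 D53350)
def n110428 : Q := act 6 n50920
theorem D110428 : act 6 n50920 = n110428 := rfl
theorem F170803 : act 2 n110428 = n52246 := d3_1 D110428 (iv6 D52246) F80334
theorem F170804 : act 4 n110428 = n53355 := d10_1 D110428 (iv6 D53355) F80335
def n110429 : Q := act 3 n50921
theorem D110429 : act 3 n50921 = n110429 := rfl
theorem F170805 : act 5 n110429 = n53165 := d6_2 (iv5 F80338) D110429 (iv3 D53165)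
theorem F170806 : act 7 n110429 = n53213 := d8_2 (iv7 F80337) D110429 F84055
def n110430 : Q := act 6 n50921
theorem D110430 : act 6 n50921 = n110430 := rfl
theorem F170807 : act 2 n110430 = n53241 := d3_1 D110430 (iv6 D53241) (iv2 F80336)
theorem F170808 : act 4 n110430 = n50922 := d10_1 D110430 (iv6 D50922) D50921
def n110431 : Q := act 0 n50922
theorem D110431 : act 0 n50922 = n110431 := rfl
def n110432 : Q := act 1 n50922
theorem D110432 : act 1 n50922 = n110432 := rfl
def n110433 : Q := act 5 n50922
theorem D110433 : act 5 n50922 = n110433 := rfl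
def n110434 : Q := act 7 n50922
theorem D110434 : act 7 n50922 = n110434 := rfl
def n110435 : Q := act 3 n50923
theorem D110435 : act 3 n50923 = n110435 := rfl
def n110436 : Q := act 5 n50923
theorem D110436 : act 5 n50923 = n110436 := rfl
def n110437 : Q := act 6 n50923
theorem D110437 : act 6 n50923 = n110437 := rfl
def n110438 : Q := act 3 n50924
theorem D110438 : act 3 n50924 = n110438 := rfl
def n110439 : Q := act 5 n50924
theorem D110439 : act 5 n50924 = n110439 := rfl
def n110440 : Q := act 6 n50924
theorem D110440 : act 6 n50924 = n110440 := rfl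
def n110445 : Q := act 0 n50928
theorem D110445 : act 0 n50928 = n110445 := rfl
def n110446 : Q := act 4 n50928
theorem D110446 : act 4 n50928 = n110446 := rfl
theorem F170813 : act 2 n110446 = n51574 := d1_1 D110446 (iv4 F170677) F170676
theorem F170814 : act 6 n110446 = n109260 := d10_2 F82059 D110446 (iv4 F169235)
theorem F170815 : act 7 n110446 = n51575 := d11_2 F170678 D110446 (iv4 F169874)
theorem F170816 : act 0 n110446 = n51577 := d18_2 F170699 D110446 F81408 (iv5 F48024) (iv4 F98448) F99238 (iv4 F99240) (iv0 F168437) (iv5 F161394)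
theorem F170817 : act 0 n51545 = n110446 := d20_7 (iv4 F170631) (iv1 F170632) (iv4 F167953) F167946 (iv1 D50420) (iv3 F39293) (iv4 F81325) (iv4 D110446) (iv3 D50928) (iv1 F80293)
def n110447 : Q := act 5 n50928
theorem D110447 : act 5 n50928 = n110447 := rfl
theorem F170818 : act 2 n110447 = n107626 := d2_1 D110447 (iv5 F166222) F170676
theorem F170819 : act 3 n110447 = n50930 := d6_1 D110447 (iv5 D50930) D50928
theorem F170820 : act 7 n110447 = n60722 := d13_2 F170678 D110447 F169870
theorem F170821 : act 0 n110447 = n58891 := d21_1 D110447 (iv5 D58891) (iv6 D27998) (iv1 F45094) F45093 (iv5 D24324) (iv1 F36934) D48671 D105279 F170699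
theorem F170822 : act 1 n110447 = n107627 := d15_1 (iv0 F170821) (iv7 D107627) (iv2 F93112)
theorem F170823 : act 4 n110447 = n61321 := d20_6 D29052 F80099 F46480 (iv3 F46450) (iv1 F80343) (iv3 F170819) (iv1 D61321) F46673 F23074 D13823
def n110448 : Q := act 0 n50929
theorem D110448 : act 0 n50929 = n110448 := rfl
theorem F170824 : act 4 n110448 = n108598 := d20_2 D50929 D110448 F167956 (iv1 F79456) (iv3 F164319) D24612 F80097 F19089 (iv3 F19066) D24764
theorem F170825 : act 1 n50933 = n110448 := d15_0 (iv0 D110448) (iv7 F170708) F170713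
theorem F170826 : act 6 n108837 = n110448 := d10_0 F170824 F167958 (iv4 F168816)
theorem F170827 : act 7 n108595 = n110448 := d11_0 F170824 (iv7 D108598) (iv4 F167938)
theorem F170828 : act 1 n52226 = n50933 := d15_0 F170825 (iv7 F170827) F167937
theorem F170829 : act 1 n50929 = n52226 := d15_0 F170828 F170712 F170709
theorem F170830 : act 0 n60999 = n105482 := d18_2 (iv1 F95524) D60999 F161925 (iv5 D52229) (iv4 F82583) F170828 (iv4 D50933) F80292 (iv5 F95523)
theorem E17103 : n110445 = n105283 := (c20_5 (iv4 F82583) (iv1 F170829) (iv4 D50929) D50928 D110445 F161399 (iv4 F161412) (iv1 F165649) (iv4 D52291) (iv3 F165647) (iv1 D52228))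
theorem F170831 : act 1 n105283 = n50928 := (sb E17103 (iv0 D110445))
def n110449 : Q := act 3 n50929
theorem D110449 : act 3 n50929 = n110449 := rfl
def n110450 : Q := act 5 n50929
theorem D110450 : act 5 n50929 = n110450 := rfl
def n110451 : Q := act 4 n50930
theorem D110451 : act 4 n50930 = n110451 := rfl
theorem F170832 : act 2 n110451 = n60726 := d1_1 D110451 (iv4 D60726) (iv2 F170653)
theorem F170833 : act 7 n110451 = n60723 := d11_2 (iv7 F170654) D110451 (iv4 D60723)
theorem F170834 : act 0 n110451 = n63686 := d20_1 D110451 F99025 F48286 F164313 (iv3 D29051) D29052 F80099 F46480 (iv3 F46450) (iv1 F80343)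
def n110452 : Q := act 6 n50930
theorem D110452 : act 6 n50930 = n110452 := rfl
theorem F170835 : act 2 n110452 = n60727 := d3_1 D110452 (iv6 D60727) (iv2 F170653)
theorem F170836 : act 1 n110452 = n62484 := d15_0 (iv0 F101903) F96696 (iv2 F170835)
theorem F170837 : act 0 n62200 = n105587 := d21_1 D62200 F162199 F97376 (iv1 F170836) (iv6 D110452) (iv5 D50930) (iv1 F80293) (iv5 F95523) (iv6 F96940) (iv1 F96941)
def n110453 : Q := act 2 n50932
theorem D110453 : act 2 n50932 = n110453 := rfl
def n110454 : Q := act 4 n50932
theorem D110454 : act 4 n50932 = n110454 := rfl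
theorem F170838 : act 7 n110454 = n51382 := d11_2 (iv7 F170711) D110454 F168455
theorem F170839 : act 1 n110454 = n51385 := d18_6 F164125 (iv4 F47969) D63009 F168001 F168000 D110454 F81111 F164128 (iv5 F46693)
theorem F170840 : act 1 n51321 = n110454 := d15_0 F170839 (iv7 D51385) (iv2 F80972)
theorem F170841 : act 4 n60998 = n63469 := d18_1 (iv1 F168464) (iv1 D63469) F48182 (iv5 F39147) (iv4 F80973) F170840 (iv4 D110454) F168004 (iv5 F167633)
theorem F170842 : act 6 n63469 = n63062 := d10_2 F168466 F170841 F168468
def n110455 : Q := act 6 n50932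
theorem D110455 : act 6 n50932 = n110455 := rfl
theorem F170843 : act 3 n110455 = n50935 := d7_1 D110455 (iv6 D50935) D50932
def n110456 : Q := act 3 n50933
theorem D110456 : act 3 n50933 = n110456 := rfl
def n110457 : Q := act 5 n50933
theorem D110457 : act 5 n50933 = n110457 := rfl
def n110458 : Q := act 6 n50933
theorem D110458 : act 6 n50933 = n110458 := rfl
theorem F170844 : act 4 n110458 = n50935 := d10_1 D110458 (iv6 D50935) D50933
def n110459 : Q := act 4 n50934
theorem D110459 : act 4 n50934 = n110459 := rfl
theorem F170845 : act 2 n110459 = n60723 := d1_1 D110459 (iv4 D60723) (iv2 F170644)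
theorem F170846 : act 7 n110459 = n60726 := d11_2 (iv7 F170645) D110459 (iv4 D60726)
theorem F170847 : act 1 n110459 = n63686 := d18_6 (iv1 F167960) (iv4 F170824) (iv1 F170825) (iv4 D50933) D50934 D110459 F99025 D63688 (iv5 F163882)
theorem F170848 : act 1 n60723 = n63702 := d15_0 (iv0 F168459) (iv7 F170846) F170845
def n110460 : Q := act 6 n50936
theorem D110460 : act 6 n50936 = n110460 := rfl
theorem F170849 : act 2 n110460 = n60556 := d3_1 D110460 F95173 (iv2 F80346)
theorem F170850 : act 3 n110460 = n62984 := d7_1 D110460 (iv6 D62984) (iv3 F80347)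
theorem F170851 : act 5 n110460 = n59328 := d12_1 D110460 (iv6 D59328) (iv5 D28175) (iv6 F38760) D50936
def n110461 : Q := act 0 n50937
theorem D110461 : act 0 n50937 = n110461 := rfl
theorem F170852 : act 1 n109398 = n110461 := d15_0 (iv0 D110461) F80352 (iv2 F169384)
def n110462 : Q := act 1 n50937
theorem D110462 : act 1 n50937 = n110462 := rfl
def n110463 : Q := act 2 n50937
theorem D110463 : act 2 n50937 = n110463 := rfl
theorem F170853 : act 4 n110463 = n50945 := d1_2 (iv4 F80351) D110463 (iv2 D50945)
theorem F170854 : act 7 n110463 = n109398 := d4_2 (iv7 F80352) D110463 F169384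
theorem F170855 : act 1 n110463 = n109400 := d15_0 (iv0 D109400) (iv7 F80352) D110463
theorem F170856 : act 1 n110462 = n109398 := d15_1 D110462 (iv7 F170854) (iv2 D110463)
theorem F170857 : act 1 n109401 = n110463 := d15_1 D109401 F170854 F169384
theorem E17104 : n109391 = n28072 := (c18_10 (iv1 F45338) (iv4 F45418) F80172 (iv4 D50793) D50794 F169603 F170857 F170853 F80363 D109391)
theorem E17105 : n59098 = n50473 := ((D59098).symm.trans (sb E17104 (iv5 D109391)))
theorem F170858 : act 5 n50473 = n28072 := (sb E17105 (iv5 D59098))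
theorem F170860 : act 5 n51507 = n109389 := d6_2 F170858 (iv3 F81280) (iv3 D109389)
theorem F170861 : act 5 n59100 = n109393 := d13_3 (iv7 D109393) F170858 D59100
theorem E17106 : n109396 = n28073 := (c2_3 F170861 F169383 D109396 (iv2 F93272))
theorem E17107 : n59102 = n50474 := ((D59102).symm.trans (sb E17106 (iv5 D109396)))
theorem F170862 : act 5 n50474 = n28073 := (sb E17107 (iv5 D59102))
theorem F170863 : act 5 n59101 = n109394 := d6_2 F170862 D59101 (iv3 D109394)
theorem F170864 : act 5 n58945 = n109401 := d17_7 (iv1 F80365) F170862 (iv1 D28073) (iv5 D13388) (iv4 F22237) D28015 D58945 F170857 F170853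
theorem F170865 : act 0 n110139 = n107540 := d17_2 F80172 D110139 F165919 F80392 F38790 D50474 F170862 F45339 (iv4 F45418)
theorem F170866 : act 0 n50957 = n59296 := d21_4 (iv5 F170862) (iv1 D50474) (iv5 F38790) D50957 (iv6 D59296) (iv5 D28150) (iv1 F45337) (iv5 D28071) (iv6 F22356) (iv1 F45339)
def n110464 : Q := act 5 n50937
theorem D110464 : act 5 n50937 = n110464 := rfl
theorem F170868 : act 3 n110464 = n50938 := d6_1 D110464 (iv5 D50938) D50937
theorem F170869 : act 7 n110464 = n109402 := d13_2 (iv7 F80352) D110464 (iv5 D109402)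
def n110465 : Q := act 6 n50937
theorem D110465 : act 6 n50937 = n110465 := rfl
theorem F170870 : act 3 n110465 = n50939 := d7_1 D110465 (iv6 D50939) D50937
theorem F170871 : act 4 n110465 = n50946 := d10_1 D110465 (iv6 D50946) (iv4 F80351)
def n110466 : Q := act 6 n50938
theorem D110466 : act 6 n50938 = n110466 := rfl
def n110467 : Q := act 0 n50939
theorem D110467 : act 0 n50939 = n110467 := rfl
def n110468 : Q := act 1 n50939
theorem D110468 : act 1 n50939 = n110468 := rfl
theorem F170872 : act 4 n110468 = n64450 := d18_7 (iv1 D52331) D52332 F82709 F41250 (iv5 F38773) (iv4 F80355) D110468 F100374 F82706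
theorem F170873 : act 6 n68191 = n110468 := d10_0 F170872 F165155 (iv4 F104342)
def n110469 : Q := act 5 n50939
theorem D110469 : act 5 n50939 = n110469 := rfl
theorem F170874 : act 1 n110469 = n52320 := d17_6 (iv1 D49074) F41252 (iv1 D26078) (iv5 F38773) (iv4 F80355) D110469 (iv5 D52320) D52319 F165833
def n110470 : Q := act 7 n50939
theorem D110470 : act 7 n50939 = n110470 := rfl
theorem F170875 : act 4 n110470 = n50942 := d11_1 D110470 (iv7 D50942) (iv4 F80355)
theorem F170876 : act 6 n110470 = n51047 := d14_1 D110470 F82079 (iv6 D51968) F39717 D50939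
def n110471 : Q := act 3 n50940
theorem D110471 : act 3 n50940 = n110471 := rfl
def n110472 : Q := act 4 n50940
theorem D110472 : act 4 n50940 = n110472 := rfl
def n110473 : Q := act 5 n50940
theorem D110473 : act 5 n50940 = n110473 := rfl
theorem F170877 : act 2 n110473 = n108227 := d2_1 D110473 F167346 (iv2 F166433)
theorem F170878 : act 6 n110473 = n52094 := d12_2 F93411 D110473 (iv5 F93413) (iv6 D59210) D59209
theorem F170879 : act 7 n110473 = n59672 := d13_2 (iv7 F166431) D110473 F94074
theorem F170880 : act 0 n110473 = n59141 := d21_1 D110473 (iv5 D59141) F78378 (iv1 D28003) (iv6 D13364) (iv5 F23670) (iv1 D12363) (iv5 F19069) D24771 D50940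
theorem F170881 : act 0 n59145 = n110473 := d21_10 (iv5 D110473) (iv1 F92980) F92976 F78425 (iv1 F49626) D31399 D67602 (iv1 F168076) (iv5 D59799) F168088
def n110474 : Q := act 3 n50941
theorem D110474 : act 3 n50941 = n110474 := rfl
theorem F170882 : act 6 n110474 = n68187 := d7_2 F104340 D110474 (iv3 D68187)
def n110475 : Q := act 4 n50941
theorem D110475 : act 4 n50941 = n110475 := rfl
theorem F170883 : act 6 n110475 = n68188 := d10_2 F104340 D110475 (iv4 D68188)
def n110476 : Q := act 5 n50941
theorem D110476 : act 5 n50941 = n110476 := rfl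
theorem F170884 : act 2 n110476 = n59672 := d2_1 D110476 F94074 F166432
theorem F170885 : act 6 n110476 = n59659 := d12_2 F104340 D110476 F94054 (iv6 F104338) (iv5 D68189)
theorem F170886 : act 7 n110476 = n108227 := d13_2 F166427 D110476 F167346
theorem F170887 : act 0 n110476 = n59145 := d21_1 D110476 (iv5 D59145) D59146 F167343 F167341 (iv5 D107760) (iv1 F80706) F80703 (iv6 F92977) (iv1 F92979)
theorem F170888 : act 0 n59141 = n110476 := d21_10 (iv5 D110476) (iv1 D50941) F38773 (iv6 D12361) D12358 D26068 F41228 D28775 D60602 F95221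
def n110478 : Q := act 3 n50943
theorem D110478 : act 3 n50943 = n110478 := rfl
theorem F170890 : act 4 n110478 = n108732 := d20_6 (iv4 D5457) D5455 D11728 D24772 D50943 D110478 (iv1 D108732) F79561 (iv3 D24595) F18978
theorem F170891 : act 0 n109618 = n110478 := d20_10 F170890 (iv1 D108732) F79561 (iv3 D24595) F18978 D11733 (iv4 F38755) D50914 D110410 (iv3 F170778)
def n110480 : Q := act 5 n50943
theorem D110480 : act 5 n50943 = n110480 := rfl
def n110487 : Q := act 6 n50945
theorem D110487 : act 6 n50945 = n110487 := rfl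
theorem F170893 : act 2 n110487 = n50946 := d3_1 D110487 (iv6 D50946) D50945
def n110488 : Q := act 0 n50946
theorem D110488 : act 0 n50946 = n110488 := rfl
def n110489 : Q := act 1 n50946
theorem D110489 : act 1 n50946 = n110489 := rfl
def n110490 : Q := act 7 n50946
theorem D110490 : act 7 n50946 = n110490 := rfl
theorem F170895 : act 3 n110490 = n50949 := d8_1 D110490 (iv7 D50949) (iv3 F80366)
def n110491 : Q := act 3 n50947
theorem D110491 : act 3 n50947 = n110491 := rfl
theorem F170898 : act 7 n110491 = n66175 := d8_2 (iv7 F80375) D110491 (iv3 D66175)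
def n110492 : Q := act 5 n50947
theorem D110492 : act 5 n50947 = n110492 := rfl
theorem F170899 : act 2 n110492 = n66170 := d2_1 D110492 (iv5 D66170) F80372
theorem F170903 : act 1 n110492 = n51739 := d17_6 (iv1 F19686) D25133 F53722 F53719 (iv4 F80373) D110492 (iv5 D51739) F39491 F38662
def n110493 : Q := act 3 n50948
theorem D110493 : act 3 n50948 = n110493 := rfl
theorem F170905 : act 6 n110493 = n66175 := d7_2 F80370 D110493 (iv3 D66175)
def n110494 : Q := act 5 n50948
theorem D110494 : act 5 n50948 = n110494 := rfl
theorem F170908 : act 7 n110494 = n66170 := d13_2 F80371 D110494 (iv5 D66170)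
theorem F170910 : act 1 n110494 = n51737 := d17_6 D11935 D25129 (iv1 F39540) F39341 (iv4 F80368) D110494 (iv5 D51737) (iv0 D25122) F19685
def n110495 : Q := act 4 n50950
theorem D110495 : act 4 n50950 = n110495 := rfl
theorem F170911 : act 7 n110495 = n68306 := d11_2 (iv7 F80389) D110495 (iv4 D68306)
theorem F170912 : act 0 n51013 = n110495 := d20_7 (iv4 F50084) (iv1 F80367) F80368 (iv3 F161282) (iv1 D51554) (iv3 F48784) (iv4 F80472) (iv4 D110495) (iv3 D50950) (iv1 F38782)
theorem E17108 : n107161 = n64464 := (c20_10 (iv4 F80472) F170912 (iv4 D110495) (iv3 D50950) (iv1 F38782) (iv3 F50044) (iv4 F104365) (iv1 F165149) (iv4 D107162) D107161 (iv1 D64464))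
theorem F170913 : act 2 n64464 = n66008 := (sb E17108 F165145)
theorem F170914 : act 3 n64464 = n49510 := (sb E17108 (iv3 D107161))
theorem F170915 : act 6 n64464 = n108827 := (sb E17108 F168800)
theorem F170916 : act 7 n64463 = n66008 := d15_2 F168833 F168834 (iv2 F170913)
theorem F170917 : act 3 n51362 = n64463 := d8_3 F170916 (iv3 D66008) (iv7 F102469)
def n110496 : Q := act 0 n50952
theorem D110496 : act 0 n50952 = n110496 := rfl
theorem F170918 : act 5 n110496 = n59192 := d17_1 D110496 (iv1 F163298) F163296 (iv4 D59094) (iv5 D28071) (iv0 F169960) (iv5 F170326) (iv0 D50954) (iv4 F80392)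
theorem F170919 : act 1 n68197 = n110496 := d15_0 (iv0 D110496) F80393 D68197
def n110497 : Q := act 1 n50952
theorem D110497 : act 1 n50952 = n110497 := rfl
def n110498 : Q := act 2 n50952
theorem D110498 : act 2 n50952 = n110498 := rfl
theorem F170920 : act 4 n110498 = n50956 := d1_2 (iv4 F80392) D110498 (iv2 D50956)
theorem F170921 : act 7 n110498 = n68197 := d4_2 (iv7 F80393) D110498 (iv2 D68197)
theorem F170922 : act 1 n110498 = n68195 := d15_0 (iv0 D68195) (iv7 F80393) D110498
theorem F170923 : act 1 n110497 = n68197 := d15_1 D110497 (iv7 F170921) (iv2 D110498)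
theorem F170924 : act 5 n59193 = n110497 := d17_7 (iv1 F80400) F170329 (iv1 F169957) F22254 (iv4 F22312) D28112 D59193 F170923 F104367
theorem F170925 : act 4 n51875 = n110497 := d18_5 F169960 (iv4 F45275) F81915 (iv4 D51874) D51875 F170923 F104367 F80395 F170326
theorem E17109 : n51884 = n50470 := (c20_5 (iv4 F104367) (iv1 F170923) (iv4 F170925) F81917 D51884 (iv3 F169600) D110170 (iv1 F170322) (iv4 F170323) (iv3 F170325) (iv1 F80395))
theorem E17110 : n51592 = n25184 := (((iv1 F81433)).symm.trans (sb E17109 (iv1 F81929)))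
theorem E17111 : n51591 = n25179 := ((F81428).symm.trans (sb E17109 (iv0 D51884)))
theorem E17112 : n51885 = n25060 := (((iv1 F81926)).symm.trans (sb E17110 (iv1 D51592)))
theorem F170926 : act 1 n25184 = n50470 := (sb E17110 F81433)
theorem F170927 : act 0 n25179 = n50470 := (sb E17111 (iv1 F81428))
theorem F170928 : act 0 n25060 = n25179 := (sb E17112 (iv1 D51885))
theorem F170929 : act 1 n25060 = n25184 := (sb E17112 F81926)
theorem F170930 : act 0 n51508 = n66021 := d17_2 (iv1 F80196) D51508 (iv5 D66021) F49346 (iv5 F39336) F170929 (iv5 D25184) F38700 D50838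
theorem F170931 : act 3 n108748 = n51903 := d20_5 (iv4 D30824) (iv1 F40216) (iv4 F40220) D50213 D108748 (iv4 D51903) (iv1 F170929) (iv4 F81421) (iv3 D51587) (iv1 F49247)
theorem F170932 : act 6 n66181 = n110291 := d21_5 D25184 (iv1 F170929) F39336 (iv6 F49368) D66181 (iv5 D110291) (iv1 F80213) (iv5 F80200) (iv6 D50839) (iv1 F38700)
theorem E17113 : n109666 = n109380 := (c21_5 D25179 F170927 (iv5 F169601) D110171 (iv1 F170337) (iv6 D109380) (iv5 F170048) (iv1 D24731) (iv5 D11699) (iv6 F8572) D11950)
theorem F170934 : act 0 n109380 = n50581 := (sb E17113 (iv1 D109666))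
theorem F170935 : act 1 n109380 = n110171 := (sb E17113 F170337)
theorem F170936 : act 7 n109665 = n51887 := d15_2 F170935 F170336 F170453
theorem E17114 : n110193 = n110053 := ((c21_7 F38690 (iv1 F38703) F170048 D109380 F170934 (iv6 F101797) (iv5 F170174) (iv1 D110193) (iv5 D50810) (iv6 D24721) D24716)).symm
theorem F170937 : act 0 n110053 = n50810 := (sb E17114 (iv1 D110193))
theorem F170938 : act 2 n66184 = n110192 := d15_3 (iv0 D110192) (iv0 F170937) F170175
theorem F170939 : act 5 n110192 = n66183 := d2_2 D66184 F170938 (iv2 D66183)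
theorem E17115 : n51599 = n50788 := (c21_11 (iv5 D50788) F170126 F19027 F8572 D11696 D24721 D50810 D110192 F170939 F101794 (iv1 F81450))
theorem E17116 : n110125 = n25065 := ((D110125).symm.trans (sb E17115 (iv1 D51599)))
theorem E17117 : n110126 = n30940 := ((D110126).symm.trans (sb E17115 F81450))
theorem E17118 : n51598 = n50807 := ((D51598).symm.trans (sb E17116 (iv1 F170267)))
theorem F170940 : act 1 n25065 = n50788 := (sb E17116 (iv0 D110125))
theorem F170941 : act 0 n30940 = n50788 := (sb E17117 (iv1 D110126))
theorem F170942 : act 0 n50807 = n30940 := (sb E17118 (iv1 F81445))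
theorem F170943 : act 1 n50807 = n25065 := (sb E17118 (iv0 D51598))
theorem F170944 : act 4 n110144 = n110462 := d20_6 (iv4 D5594) (iv1 F8509) D11907 D25065 (iv1 F170943) (iv3 F170300) (iv1 D110462) F80351 (iv3 D24772) F19073
theorem F170945 : act 7 n110462 = n109401 := d11_2 D110144 F170944 (iv4 F169603)
theorem E17119 : n110480 = n13434 := (c18_10 (iv1 F45337) D59094 F93265 (iv4 F170123) (iv5 F170301) F170944 F170856 (iv4 D109398) F80359 D110480)
theorem E17120 : n50943 = n28150 := (((D28150).symm.trans (sb E17119 (iv5 D110480)))).symm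
theorem E17121 : n59293 = n50475 := ((D59293).symm.trans (sb E17120 (iv1 F80359)))
theorem E17122 : n59294 = n24772 := ((D59294).symm.trans (sb E17120 (iv0 D50943)))
theorem E17124 : n110478 = n59284 := ((((iv3 F93513)).symm.trans (sb E17120 D110478))).symm
theorem E17128 : n50944 = n28155 := (((iv1 F80364)).symm.trans (sb E17121 (iv1 F93525)))
theorem F170946 : act 1 n50475 = n28150 := (sb E17121 (iv0 D59293))
theorem F170947 : act 0 n24772 = n28150 := (sb E17122 (iv1 D59294))
theorem F170948 : act 1 n59284 = n109618 := (sb E17124 (iv0 F170891))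
theorem E17129 : n109167 = n108732 := (((iv4 F169151)).symm.trans (sb E17124 F170890))
theorem F170949 : act 0 n28155 = n24772 := (sb E17128 (iv1 D50944))
theorem F170950 : act 1 n28155 = n50475 := (sb E17128 F80364)
theorem F170951 : act 4 n108732 = n59284 := (sb E17129 F169151)
theorem F170952 : act 5 n108732 = n50384 := (sb E17129 (iv5 D109167))
theorem F170953 : act 1 n68198 = n59189 := d17_6 (iv1 F45336) D28155 F170949 F38774 (iv4 F50048) D68198 (iv5 D59189) (iv0 F93265) (iv4 D59094)
theorem F170954 : act 4 n110461 = n110136 := d18_3 F170949 (iv4 F80351) D110461 (iv5 D110136) F170120 (iv0 D28109) F22312 D13435 D28155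
theorem F170955 : act 2 n109401 = n110461 := d1_3 F170954 F170289 F169603
theorem F170956 : act 7 n109400 = n110461 := d15_2 F170857 F170855 (iv2 F170955)
theorem F170957 : act 2 n110462 = n109400 := d4_3 F170956 (iv2 F170955) (iv7 F170945)
theorem F170958 : act 1 n59185 = n68198 := d15_0 F170953 (iv7 F170295) F170294
theorem F170959 : act 0 n109107 = n108734 := d17_2 F169973 D109107 (iv5 D108734) F79561 (iv5 F39348) F170940 (iv5 D50788) F170127 (iv4 F38547)
theorem E17134 : n109382 = n50806 := (c21_5 D50788 (iv1 F170940) F39348 D50471 D109382 (iv6 D50806) (iv5 D24720) D24716 F38690 F19715 (iv1 F170127))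
theorem E17135 : n110178 = n50471 := ((D110178).symm.trans (sb E17134 (iv0 D109382)))
theorem F170960 : act 0 n50471 = n50806 := (sb E17135 (iv1 D110178))
theorem F170961 : act 7 n109383 = n110128 := d15_2 (iv0 F170960) D109383 F170271
theorem F170962 : act 2 n51689 = n110177 := d15_3 (iv0 D110177) (iv0 F170960) (iv7 F81607)
theorem F170964 : act 7 n110177 = n109381 := d4_2 (iv7 F81607) F170962 F169375
theorem F170965 : act 1 n51689 = n110128 := d15_0 (iv0 F170272) (iv7 F170964) (iv2 F170962)
theorem F170969 : act 1 n109126 = n108734 := d15_0 (iv0 F170959) F169102 (iv2 F169118)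
theorem F170970 : act 0 n59284 = n109442 := d17_0 (iv5 D109442) D109438 F170345 F169114 (iv5 F169119) F170969 (iv5 D108734) D108732 F170951
theorem F170971 : act 0 n51903 = n108860 := d20_1 D51903 F170781 F170778 (iv1 F170780) (iv3 F169595) (iv4 F169596) (iv1 F170332) (iv4 D110170) F169600 (iv1 F170926)
theorem F170972 : act 5 n108860 = n110161 := d17_1 F170971 (iv1 D110161) (iv5 D50800) (iv4 D24719) D24720 F169597 (iv5 F39336) F170929 D51903
theorem F170973 : act 1 n51886 = n108860 := d15_0 (iv0 F170971) F170451 (iv2 F170452)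
theorem F170974 : act 3 n110161 = n108862 := d6_1 F170972 (iv5 D108862) D108860
theorem F170975 : act 7 n110497 = n68196 := d11_2 F170454 F170925 (iv4 F169373)
theorem F170976 : act 7 n106260 = n59193 := d13_2 F170975 (iv5 F170286) F170924
theorem F170977 : act 2 n68196 = n110496 := d15_3 (iv0 D110496) D110497 F170975
theorem F170978 : act 2 n110497 = n68195 := d15_3 (iv0 D68195) D68196 (iv7 F170975)
theorem F170979 : act 7 n68195 = n110496 := d4_2 (iv7 F170975) F170978 (iv2 F170977)
theorem F170980 : act 1 n68196 = n110498 := d15_0 F170922 F170979 (iv2 F170977)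
theorem E17136 : n68323 = n13386 := (c17_2 (iv1 F80401) D68323 (iv1 D13386) D13388 D28074 (iv5 F77524) D106260 F170286 F170980 F170920)
theorem E17137 : n31790 = n28067 := (((D28067).symm.trans (sb E17136 (iv5 D68323)))).symm
theorem E17138 : n59061 = n14953 := (((iv1 F93248)).symm.trans (sb E17137 (iv1 D31790)))
theorem E17139 : n59060 = n50956 := ((F93251).symm.trans (sb E17137 F80401))
theorem E17145 : n31789 = n28062 := ((D31789).symm.trans (sb E17138 (iv1 D59061)))
theorem F170981 : act 1 n14953 = n28067 := (sb E17138 F93248)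
theorem F170982 : act 0 n50956 = n28067 := (sb E17139 (iv1 F93251))
theorem F170983 : act 0 n28062 = n50956 := (sb E17145 (iv1 F80399))
theorem F170984 : act 1 n28062 = n14953 := (sb E17145 (iv0 D31789))
theorem F170985 : act 5 n68195 = n106259 := d17_1 D68195 (iv1 F163294) (iv5 D59191) F45418 (iv5 F45326) (iv0 D28058) D28062 F170984 (iv4 F50048)
theorem F170986 : act 2 n106259 = n59193 := d2_1 F170985 F170924 F170978
theorem F170987 : act 7 n106259 = n59192 := d13_2 (iv7 F170979) F170985 (iv5 F170918)
theorem F170988 : act 2 n59192 = n106260 := d4_1 F170987 F170976 (iv2 F170986)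
theorem F170989 : act 0 n58940 = n110464 := d17_2 (iv1 F93145) D58940 (iv5 D110464) F80351 F38774 F170981 (iv5 D28067) F45328 (iv4 F93143)
def n110499 : Q := act 6 n50952
theorem D110499 : act 6 n50952 = n110499 := rfl
theorem F170990 : act 3 n110499 = n50953 := d7_1 D110499 (iv6 D50953) D50952
theorem F170991 : act 4 n110499 = n50957 := d10_1 D110499 (iv6 D50957) (iv4 F80392)
def n110500 : Q := act 1 n50953
theorem D110500 : act 1 n50953 = n110500 := rfl
theorem F170993 : act 7 n110500 = n58847 := d15_2 (iv0 F82617) D110500 F93050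
theorem F170994 : act 4 n110500 = n58849 := d18_7 (iv1 F82547) F167332 (iv1 D108219) F79063 (iv5 F38789) (iv4 F80394) D110500 F93066 (iv5 F82619)
theorem F170995 : act 6 n108702 = n110500 := d10_0 F170994 F93064 (iv4 F168641)
def n110501 : Q := act 5 n50953
theorem D110501 : act 5 n50953 = n110501 := rfl
def n110502 : Q := act 4 n50954
theorem D110502 : act 4 n50954 = n110502 := rfl
theorem F170997 : act 7 n110502 = n59062 := d11_2 (iv7 F170327) D110502 (iv4 D59062)
def n110504 : Q := act 3 n50955
theorem D110504 : act 3 n50955 = n110504 := rfl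
theorem F171000 : act 5 n110504 = n59044 := d6_2 (iv5 F170329) D110504 (iv3 D59044)
def n110505 : Q := act 4 n50955
theorem D110505 : act 4 n50955 = n110505 := rfl
theorem F171002 : act 2 n110505 = n59062 := d1_1 D110505 (iv4 D59062) (iv2 F170328)
theorem F171003 : act 7 n110505 = n59079 := d11_2 (iv7 F170330) D110505 (iv4 D59079)
theorem F171004 : act 3 n107168 = n110505 := d20_5 (iv4 D23715) (iv1 F18534) D24168 D49513 D107168 (iv4 D110505) (iv1 D50955) (iv4 F80392) (iv3 D50952) F38786
def n110506 : Q := act 6 n50955
theorem D110506 : act 6 n50955 = n110506 := rfl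
theorem F171005 : act 2 n110506 = n59063 := d3_1 D110506 (iv6 D59063) (iv2 F170328)
theorem F171006 : act 0 n109399 = n110506 := d21_4 D28062 F170983 F80397 D109399 (iv6 D110506) F170329 (iv1 F169957) F22254 F10412 D13385
theorem F171007 : act 7 n109405 = n110506 := d15_2 F170331 D109405 F171005
def n110507 : Q := act 6 n50956
theorem D110507 : act 6 n50956 = n110507 := rfl
theorem F171008 : act 2 n110507 = n50957 := d3_1 D110507 (iv6 D50957) D50956
theorem F171010 : act 0 n110507 = n109397 := d21_4 D28150 (iv1 F170946) (iv5 F80397) D110507 (iv6 D109397) F170862 (iv1 D28073) (iv5 D13388) (iv6 F10412) D13434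
theorem F171011 : act 7 n109648 = n110507 := d4_0 F171008 (iv7 F80403) D109648
theorem E17150 : n109647 = n109397 := (c15_1 D109647 (iv0 F171010) (iv7 F171011) (iv2 D109648))
theorem F171013 : act 0 n109397 = n50575 := (sb E17150 (iv1 D109647))
def n110508 : Q := act 1 n50957
theorem D110508 : act 1 n50957 = n110508 := rfl
def n110509 : Q := act 5 n50957
theorem D110509 : act 5 n50957 = n110509 := rfl
theorem F171016 : act 3 n110509 = n50958 := d6_1 D110509 (iv5 D50958) (iv3 F80402)
def n110510 : Q := act 0 n50958
theorem D110510 : act 0 n50958 = n110510 := rfl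
theorem F171019 : act 5 n110510 = n65143 := d17_3 (iv1 F38795) D50958 D110510 (iv4 D65143) (iv5 D30585) (iv0 D14506) (iv5 F19615) F19617 (iv4 F38634)
def n110511 : Q := act 4 n50958
theorem D110511 : act 4 n50958 = n110511 := rfl
theorem F171023 : act 2 n110511 = n109409 := d1_1 D110511 (iv4 D109409) (iv2 F80404)
theorem F171024 : act 6 n110511 = n109409 := d10_2 (iv6 F80405) D110511 (iv4 D109409)
def n110513 : Q := act 1 n50959
theorem D110513 : act 1 n50959 = n110513 := rfl
theorem F171027 : act 1 n110513 = n50964 := d15_1 D110513 (iv7 D50964) D50959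
def n110514 : Q := act 3 n50959
theorem D110514 : act 3 n50959 = n110514 := rfl
theorem F171028 : act 7 n110514 = n50965 := d8_2 F80407 D110514 (iv3 D50965)
def n110515 : Q := act 4 n50959
theorem D110515 : act 4 n50959 = n110515 := rfl
theorem F171029 : act 2 n110515 = n50961 := d1_1 D110515 (iv4 D50961) D50959
theorem F171030 : act 7 n110515 = n50966 := d11_2 F80407 D110515 (iv4 D50966)
def n110517 : Q := act 0 n50960
theorem D110517 : act 0 n50960 = n110517 := rfl
def n110518 : Q := act 1 n50960
theorem D110518 : act 1 n50960 = n110518 := rfl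
theorem F171032 : act 5 n110518 = n51896 := d17_7 (iv1 F81633) D109883 (iv1 F169899) (iv5 F105469) (iv4 F82081) F105476 D110518 F170439 F170364
theorem F171033 : act 2 n51898 = n110518 := d2_3 F171032 (iv2 D51896) D51898
theorem F171034 : act 4 n109423 = n110518 := d18_3 (iv1 F39449) D50486 (iv1 F169408) F171032 F170441 F170057 (iv4 D50704) F39489 F39485
def n110519 : Q := act 2 n50960
theorem D110519 : act 2 n50960 = n110519 := rfl
def n110520 : Q := act 6 n50960
theorem D110520 : act 6 n50960 = n110520 := rfl
def n110521 : Q := act 7 n50960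
theorem D110521 : act 7 n50960 = n110521 := rfl
theorem F171036 : act 3 n110521 = n50964 := d8_1 D110521 (iv7 D50964) D50960
def n110522 : Q := act 0 n50961
theorem D110522 : act 0 n50961 = n110522 := rfl
theorem F171037 : act 4 n110522 = n110504 := d18_3 D24781 D50961 D110522 F171000 (iv4 F170182) (iv0 D110060) (iv4 D50761) (iv0 D24707) (iv5 F19088)
def n110523 : Q := act 1 n50961
theorem D110523 : act 1 n50961 = n110523 := rfl
theorem F171038 : act 1 n110523 = n50966 := d15_1 D110523 (iv7 F171030) F171029
def n110527 : Q := act 7 n50961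
theorem D110527 : act 7 n50961 = n110527 := rfl
theorem F171040 : act 2 n110527 = n50966 := d4_1 D110527 (iv7 F171030) F171029
theorem F171041 : act 4 n110527 = n50964 := d11_1 D110527 (iv7 D50964) D50961
theorem F171042 : act 1 n50966 = n110522 := d15_0 (iv0 D110522) D110527 F171040
def n110533 : Q := act 0 n50965
theorem D110533 : act 0 n50965 = n110533 := rfl
theorem F171044 : act 4 n110533 = n109400 := d20_0 (iv1 F170855) F170853 F80360 (iv1 F80400) D110504 (iv4 F171037) (iv1 F171042) (iv4 D50966) D50965 D110533
theorem F171045 : act 2 n110144 = n110533 := d1_3 F171044 (iv2 F170957) (iv4 F170944)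
theorem F171046 : act 7 n110136 = n110533 := d11_0 F171044 F170956 F170954
theorem F171047 : act 5 n110068 = n110533 := d18_4 (iv1 D28073) D28074 D59104 (iv4 F170195) F171044 (iv0 D109400) (iv4 D50476) D50474 F170862
theorem F171048 : act 5 n58944 = n109400 := d17_3 (iv1 D28013) D28015 D58944 (iv4 F171044) (iv5 F171047) (iv0 D110068) F81313 (iv0 F170287) F80203
theorem F171049 : act 3 n110533 = n110203 := d20_9 F82081 (iv1 D50541) F38625 (iv3 D11665) (iv1 F18982) D24597 D50476 D109400 (iv4 F171044) F170376
theorem F171050 : act 1 n110142 = n110533 := d15_1 D110142 (iv7 F171046) F170289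
theorem F171051 : act 2 n110514 = n110142 := d15_3 F171050 (iv0 D110533) (iv7 F171028)
theorem E17151 : n110519 = n109325 := ((c0_3 D110514 F171051 (iv3 F170298) (iv2 D110519) (iv3 D50960) D50959)).symm
theorem F171052 : act 2 n109325 = n50960 := (sb E17151 (iv2 D110519))
theorem E17152 : n109323 = n51656 := ((c1_3 D109325 F171052 F81558 (iv2 D109323))).symm
theorem F171053 : act 2 n51656 = n50449 := (sb E17152 (iv2 D109323))
theorem F171054 : act 7 n51656 = n50450 := (sb E17152 (iv7 F169345))
theorem F171055 : act 1 n51898 = n110521 := d15_1 F169347 (iv7 D110521) (iv2 F171052)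
theorem E17153 : n110521 = n52061 := ((c11_2 F171054 (iv4 F82282) (iv7 D110521) F81558)).symm
theorem F171056 : act 0 n52061 = n51898 := (sb E17153 (iv1 F171055))
theorem E17154 : n50964 = n25274 := ((((iv3 D52061)).symm.trans (sb E17153 F171036))).symm
theorem F171057 : act 7 n52061 = n50960 := (sb E17153 (iv7 D110521))
theorem E17155 : n110513 = n24783 := ((((iv1 F39891)).symm.trans (sb E17154 (iv1 F171027)))).symm
theorem E17157 : n52060 = n24782 := ((D52060).symm.trans (sb E17154 F80408))
theorem E17158 : n110527 = n52062 := (((D52062).symm.trans (sb E17154 (iv4 F171041)))).symm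
theorem E17161 : n52065 = n24781 := ((D52065).symm.trans (sb E17154 (iv7 D50964)))
theorem E17162 : n50959 = n25275 := ((((iv1 F39896)).symm.trans (sb E17155 (iv1 D110513)))).symm
theorem F171058 : act 2 n24782 = n25274 := (sb E17157 (iv2 D52060))
theorem F171059 : act 2 n52062 = n50966 := (sb E17158 F171040)
theorem F171060 : act 7 n52062 = n50961 := (sb E17158 (iv7 D110527))
theorem F171063 : act 7 n24781 = n25274 := (sb E17161 (iv7 D52065))
theorem F171064 : act 2 n25275 = n24781 := (sb E17162 (iv2 D50959))
theorem E17163 : n110514 = n52066 := (((D52066).symm.trans (sb E17162 D110514))).symm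
theorem E17164 : n110515 = n52067 := (((D52067).symm.trans (sb E17162 D110515))).symm
theorem E17165 : n52068 = n51969 := ((D52068).symm.trans (sb E17162 (iv5 F105478)))
theorem F171065 : act 7 n25275 = n24782 := (sb E17162 (iv7 F80407))
theorem F171066 : act 2 n52066 = n110142 := (sb E17163 F171051)
theorem F171067 : act 7 n52066 = n50965 := (sb E17163 F171028)
theorem F171069 : act 7 n52067 = n50966 := (sb E17164 F171030)
theorem F171070 : act 5 n51969 = n25275 := (sb E17165 (iv5 D52068))
theorem F171072 : act 7 n109330 = n109719 := d13_2 F171054 D109330 F169709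
theorem E17167 : n109328 = n51655 := (c15_4 (iv0 D51655) D51656 F171054 (iv2 F169348))
theorem F171073 : act 2 n51655 = n50450 := (sb E17167 F169348)
theorem F171074 : act 7 n51655 = n50449 := (sb E17167 (iv7 D109328))
theorem F171075 : act 2 n109330 = n109718 := d15_3 (iv0 D109718) D109719 (iv7 F171072)
theorem F171076 : act 5 n109718 = n51655 := d2_2 D109330 F171075 F171073
theorem F171077 : act 7 n109326 = n109718 := d13_0 F171076 F171074 D109326
theorem F171078 : act 2 n109719 = n109326 := d4_3 F171077 (iv2 F171075) F171072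
theorem E17168 : n109712 = n109334 := (c17_6 F171056 (iv5 D51898) D51894 (iv5 F169705) (iv4 D109711) D109712 (iv0 D109334) (iv5 D50452) D50450 (iv4 F82282))
theorem F171079 : act 5 n109334 = n50602 := (sb E17168 (iv5 D109712))
theorem E17169 : n110141 = n50965 := ((c15_1 (iv0 D110533) (iv0 D110141) D110144 F171045)).symm
theorem F171080 : act 1 n50965 = n50794 := (sb E17169 (iv0 D110141))
def n110534 : Q := act 2 n50965
theorem D110534 : act 2 n50965 = n110534 := rfl
def n110535 : Q := act 4 n50965
theorem D110535 : act 4 n50965 = n110535 := rfl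
theorem F171082 : act 0 n110535 = n59311 := d18_2 (iv1 F171080) D110535 (iv4 D59311) (iv5 D28155) D28154 F93521 F93516 F170036 D50794
theorem F171083 : act 0 n59295 = n110535 := d20_1 D59295 (iv4 D110535) (iv3 D50965) (iv1 D24782) (iv3 D11733) (iv4 D5457) D5455 D11728 D24772 F170947
def n110536 : Q := act 6 n50965
theorem D110536 : act 6 n50965 = n110536 := rfl
def n110537 : Q := act 3 n50966
theorem D110537 : act 3 n50966 = n110537 := rfl
theorem F171085 : act 0 n108819 = n110537 := d20_4 F38754 (iv1 F38464) D50245 D108819 (iv3 D110537) (iv4 D50966) (iv1 D24782) (iv4 F38755) (iv3 D24761) D24759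
def n110538 : Q := act 5 n50966
theorem D110538 : act 5 n50966 = n110538 := rfl
def n110562 : Q := act 0 n50974
theorem D110562 : act 0 n50974 = n110562 := rfl
theorem F171099 : act 4 n110562 = n51618 := d18_3 F80078 D50974 D110562 F81464 F79883 (iv0 D13431) (iv4 F19023) F80082 D50734
def n110563 : Q := act 1 n50974
theorem D110563 : act 1 n50974 = n110563 := rfl
theorem F171103 : act 4 n110563 = n51619 := d18_7 (iv1 F79860) (iv4 D24794) (iv1 D11736) (iv4 F19089) D24787 D50974 D110563 F81468 F79890
def n110565 : Q := act 5 n50974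
theorem D110565 : act 5 n50974 = n110565 := rfl
theorem F171106 : act 4 n110565 = n62290 := d16_2 D50974 D110565 F97119 F47253 F23372 (iv4 F39734) (iv5 F82092) (iv7 D51985) F39731
def n110568 : Q := act 0 n50979
theorem D110568 : act 0 n50979 = n110568 := rfl
theorem F171114 : act 4 n110568 = n58802 := d20_8 F167953 (iv1 D50924) F38756 F19066 D11735 D24790 D50979 D110568 F92961 (iv1 F167940)
theorem F171115 : act 2 n108702 = n110568 := d15_3 (iv0 D110568) (iv0 F164307) D108702
theorem F171116 : act 1 n108700 = n110568 := d15_0 (iv0 D110568) (iv7 F82110) F168638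
theorem F171117 : act 7 n110568 = n58799 := d15_2 D108700 F171116 F92954
def n110569 : Q := act 3 n50979
theorem D110569 : act 3 n50979 = n110569 := rfl
theorem F171118 : act 4 n110569 = n50980 := d5_2 D50979 D110569 (iv3 D50980) (iv4 D24791) D24790
def n110570 : Q := act 5 n50979
theorem D110570 : act 5 n50979 = n110570 := rfl
theorem F171121 : act 0 n110570 = n52348 := d17_2 F164307 D110570 (iv5 D52348) F40202 (iv5 F37523) D49190 (iv5 F79540) (iv0 D50189) (iv4 F79539)
def n110574 : Q := act 3 n50984
theorem D110574 : act 3 n50984 = n110574 := rfl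
theorem F171129 : act 4 n110574 = n50986 := d5_2 D50984 D110574 (iv3 D50986) (iv4 D24794) D24793
def n110575 : Q := act 5 n50984
theorem D110575 : act 5 n50984 = n110575 := rfl
theorem F171131 : act 1 n110575 = n58930 := d17_6 (iv1 D28003) D28004 F164067 F47099 D50984 D110575 (iv5 D58930) (iv0 F168559) (iv4 D58909)
def n110576 : Q := act 6 n50984
theorem D110576 : act 6 n50984 = n110576 := rfl
theorem F171132 : act 4 n110576 = n50985 := d10_1 D110576 (iv6 D50985) D50984
def n110580 : Q := act 6 n50986
theorem D110580 : act 6 n50986 = n110580 := rfl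
theorem F171139 : act 3 n110580 = n50987 := d7_1 D110580 (iv6 D50987) D50986
def n110581 : Q := act 0 n50989
theorem D110581 : act 0 n50989 = n110581 := rfl
theorem F171142 : act 2 n108017 = n110581 := d15_3 (iv0 D110581) (iv0 F169104) (iv7 F169982)
theorem F171143 : act 1 n108018 = n110581 := d15_0 (iv0 D110581) F80431 D108018
theorem F171144 : act 7 n110581 = n108016 := d4_2 (iv7 F169982) F171142 (iv2 F169983)
theorem F171145 : act 1 n109112 = n108018 := d15_0 F171143 F171144 (iv2 F169983)
def n110582 : Q := act 2 n50989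
theorem D110582 : act 2 n50989 = n110582 := rfl
theorem F171146 : act 3 n110582 = n69205 := d0_2 D50989 D110582 (iv2 F105499) (iv3 D51919) F39648
theorem F171147 : act 4 n110582 = n108915 := d1_2 (iv4 F80430) D110582 (iv2 D108915)
theorem F171148 : act 7 n110582 = n108018 := d4_2 (iv7 F80431) D110582 (iv2 D108018)
theorem F171149 : act 1 n110582 = n108016 := d15_0 (iv0 D108016) (iv7 F80431) D110582
def n110583 : Q := act 5 n50989
theorem D110583 : act 5 n50989 = n110583 := rfl
theorem F171151 : act 3 n110583 = n50990 := d6_1 D110583 (iv5 D50990) D50989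
theorem F171152 : act 7 n110583 = n108019 := d13_2 (iv7 F80431) D110583 (iv5 D108019)
def n110584 : Q := act 6 n50989
theorem D110584 : act 6 n50989 = n110584 := rfl
theorem F171153 : act 3 n110584 = n50991 := d7_1 D110584 (iv6 D50991) D50989
theorem F171154 : act 4 n110584 = n108916 := d10_1 D110584 (iv6 D108916) (iv4 F80430)
def n110585 : Q := act 6 n50990
theorem D110585 : act 6 n50990 = n110585 := rfl
theorem F171155 : act 4 n110585 = n109564 := d10_1 D110585 (iv6 D109564) (iv4 F80432)
def n110586 : Q := act 5 n50991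
theorem D110586 : act 5 n50991 = n110586 := rfl
def n110587 : Q := act 0 n50992
theorem D110587 : act 0 n50992 = n110587 := rfl
def n110588 : Q := act 1 n50992
theorem D110588 : act 1 n50992 = n110588 := rfl
def n110589 : Q := act 2 n50992
theorem D110589 : act 2 n50992 = n110589 := rfl
theorem F171156 : act 3 n110589 = n51016 := d0_2 D50992 D110589 (iv2 D51016) (iv3 D24813) (iv2 F38814)
def n110590 : Q := act 5 n50992
theorem D110590 : act 5 n50992 = n110590 := rfl
theorem F171157 : act 3 n110590 = n50993 := d6_1 D110590 (iv5 D50993) D50992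
theorem F171158 : act 7 n110590 = n109566 := d13_2 F81973 D110590 F169518
def n110591 : Q := act 6 n50992
theorem D110591 : act 6 n50992 = n110591 := rfl
theorem F171159 : act 3 n110591 = n50994 := d7_1 D110591 (iv6 D50994) D50992
def n110592 : Q := act 6 n50993
theorem D110592 : act 6 n50993 = n110592 := rfl
theorem F171160 : act 2 n110592 = n51021 := d3_1 D110592 (iv6 D51021) (iv2 F80435)
theorem F171161 : act 4 n110592 = n51573 := d10_1 D110592 (iv6 D51573) (iv4 F80436)
def n110593 : Q := act 5 n50994
theorem D110593 : act 5 n50994 = n110593 := rfl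
theorem F171162 : act 2 n110593 = n51024 := d2_1 D110593 (iv5 D51024) (iv2 F80438)
def n110594 : Q := act 1 n50995
theorem D110594 : act 1 n50995 = n110594 := rfl
theorem F171163 : act 1 n110594 = n52472 := d15_1 D110594 F93034 F93027
theorem F171164 : act 7 n110594 = n51399 := d15_2 (iv0 F80443) D110594 F81140
theorem F171165 : act 3 n65880 = n110594 := d20_3 D50276 D108887 (iv4 F168878) (iv1 D110594) F80440 (iv4 F80450) F80451 F79629 F38481 D24520
theorem F171166 : act 2 n110594 = n52473 := d0_1 F171165 F82850 (iv2 F45886) (iv3 F49304) (iv2 F101536)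
def n110595 : Q := act 3 n50996
theorem D110595 : act 3 n50996 = n110595 := rfl
theorem F171167 : act 4 n110595 = n51319 := d5_2 (iv4 F80444) D110595 (iv3 D51319) (iv4 D24955) (iv3 F39132)
theorem F171168 : act 7 n110595 = n51401 := d8_2 (iv7 F80447) D110595 (iv3 D51401)
def n110596 : Q := act 6 n50996
theorem D110596 : act 6 n50996 = n110596 := rfl
theorem F171169 : act 2 n110596 = n105181 := d3_1 D110596 (iv6 D105181) F80445
theorem F171170 : act 4 n110596 = n51317 := d10_1 D110596 (iv6 D51317) (iv4 F80444)
def n110597 : Q := act 0 n50997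
theorem D110597 : act 0 n50997 = n110597 := rfl
theorem F171171 : act 5 n110597 = n66846 := d19_1 D110597 (iv4 D66846) (iv3 D31150) (iv1 F24381) (iv5 D7024) F7601 (iv3 F11489) (iv1 D5538) (iv5 D2294) F2031 F1275 D685 D1118 D2349 D5647 D11976 (iv5 F22592) D24806 D50997
theorem E17170 : n53771 = n53401 := (c17_2 (iv1 F41100) D53771 (iv1 D53401) (iv5 F49499) D66846 (iv5 F171171) (iv0 D110597) (iv5 F84783) F84781 F51136)
theorem F171172 : act 5 n53401 = n26007 := (sb E17170 (iv5 D53771))
theorem F171173 : act 3 n68741 = n110597 := d6_3 F171171 F102684 D68741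
def n110598 : Q := act 1 n50997
theorem D110598 : act 1 n50997 = n110598 := rfl
def n110599 : Q := act 6 n50997
theorem D110599 : act 6 n50997 = n110599 := rfl
theorem F171174 : act 3 n110599 = n50999 := d7_1 D110599 (iv6 D50999) D50997
theorem F171175 : act 4 n110599 = n109319 := d10_1 D110599 (iv6 D109319) (iv4 F80448)
def n110600 : Q := act 6 n50998
theorem D110600 : act 6 n50998 = n110600 := rfl
theorem F171176 : act 4 n110600 = n109543 := d10_1 D110600 (iv6 D109543) (iv4 F80449)
def n110601 : Q := act 1 n50999
theorem D110601 : act 1 n50999 = n110601 := rfl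
theorem F171177 : act 1 n110601 = n108835 := d15_1 D110601 F168815 F82008
theorem F171178 : act 7 n110601 = n108820 := d15_2 (iv0 F80451) D110601 F168776
theorem F171179 : act 4 n108821 = n110601 := d20_0 (iv1 D110601) F80450 (iv3 F80440) F80443 F40265 (iv4 F40266) (iv1 F94228) (iv4 D52308) (iv3 F81587) (iv1 F168784)
theorem F171180 : act 2 n110601 = n108837 := d1_1 F171179 F168816 (iv2 F168780)
theorem F171181 : act 4 n108098 = n74257 := d18_7 (iv1 F168784) F171179 (iv1 D110601) F80450 F38826 (iv4 F78973) D108098 F168825 (iv5 D108838)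
theorem F171182 : act 0 n51109 = n65897 := d20_4 (iv4 F82647) F92906 F92905 (iv3 F80627) F101583 (iv4 F168814) (iv1 F171177) (iv4 F171179) F168781 (iv1 F82626)
def n110602 : Q := act 5 n50999
theorem D110602 : act 5 n50999 = n110602 := rfl
def n110603 : Q := act 0 n51001
theorem D110603 : act 0 n51001 = n110603 := rfl
def n110604 : Q := act 1 n51001
theorem D110604 : act 1 n51001 = n110604 := rfl
theorem F171183 : act 1 n110604 = n65903 := d15_1 D110604 (iv7 D65903) (iv2 F80453)
def n110605 : Q := act 7 n51001
theorem D110605 : act 7 n51001 = n110605 := rfl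
theorem F171184 : act 2 n110605 = n65903 := d4_1 D110605 (iv7 D65903) (iv2 F80453)
theorem F171185 : act 3 n110605 = n51007 := d8_1 D110605 (iv7 D51007) (iv3 F80454)
theorem F171186 : act 4 n110605 = n108747 := d11_1 D110605 (iv7 D108747) (iv4 F80455)
theorem F171187 : act 5 n110605 = n59494 := d13_1 D110605 (iv7 D59494) (iv5 F80456)
theorem F171188 : act 6 n110605 = n65897 := d14_1 D110605 (iv7 D65897) (iv6 D30837) F38833 D51001
theorem F171189 : act 1 n65903 = n110603 := d15_0 (iv0 D110603) D110605 F171184
theorem F171190 : act 1 n65902 = n110605 := d15_1 D65902 (iv7 D110605) F80453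
theorem F171191 : act 4 n108725 = n65902 := d18_7 (iv1 F93919) (iv4 F111664) F111665 F81168 F39222 (iv4 F79560) D108725 F171190 F171187
theorem F171192 : act 1 n110605 = n65901 := d15_0 (iv0 D65901) D65903 (iv2 F171184)
def n110606 : Q := act 0 n51002
theorem D110606 : act 0 n51002 = n110606 := rfl
def n110607 : Q := act 1 n51002
theorem D110607 : act 1 n51002 = n110607 := rfl
def n110608 : Q := act 2 n51002
theorem D110608 : act 2 n51002 = n110608 := rfl
theorem F171193 : act 4 n110608 = n108741 := d1_2 (iv4 F80458) D110608 (iv2 D108741)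
def n110609 : Q := act 5 n51002
theorem D110609 : act 5 n51002 = n110609 := rfl
theorem F171194 : act 3 n110609 = n51003 := d6_1 D110609 (iv5 D51003) D51002
def n110610 : Q := act 6 n51002
theorem D110610 : act 6 n51002 = n110610 := rfl
theorem F171195 : act 3 n110610 = n51004 := d7_1 D110610 (iv6 D51004) D51002
theorem F171196 : act 4 n110610 = n108743 := d10_1 D110610 (iv6 D108743) (iv4 F80458)
def n110611 : Q := act 6 n51003
theorem D110611 : act 6 n51003 = n110611 := rfl
def n110612 : Q := act 0 n51004
theorem D110612 : act 0 n51004 = n110612 := rfl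
def n110613 : Q := act 1 n51004
theorem D110613 : act 1 n51004 = n110613 := rfl
def n110614 : Q := act 5 n51004
theorem D110614 : act 5 n51004 = n110614 := rfl
def n110615 : Q := act 7 n51004
theorem D110615 : act 7 n51004 = n110615 := rfl
theorem F171198 : act 4 n110615 = n51007 := d11_1 D110615 (iv7 D51007) (iv4 F80460)
theorem F171199 : act 6 n110615 = n108835 := d14_1 D110615 F168815 (iv6 D51938) F39681 D51004
def n110616 : Q := act 4 n51006
theorem D110616 : act 4 n51006 = n110616 := rfl
theorem F171200 : act 2 n110616 = n68306 := d1_1 D110616 (iv4 D68306) (iv2 F166158)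
theorem F171201 : act 0 n110616 = n51013 := d18_2 (iv1 F82002) D110616 F80472 (iv5 D30353) (iv4 F48781) (iv0 F166350) (iv4 D59510) F85096 (iv5 F85098)
def n110617 : Q := act 5 n51006
theorem D110617 : act 5 n51006 = n110617 := rfl
theorem F171202 : act 2 n110617 = n59560 := d2_1 D110617 (iv5 F166122) (iv2 F166158)
theorem F171203 : act 0 n110617 = n59232 := d21_1 D110617 (iv5 D59232) D59233 F167359 F167356 (iv5 D107764) F166078 (iv5 F82016) F82017 (iv1 F82002)
theorem F171204 : act 6 n110617 = n59422 := d21_3 (iv5 F85098) (iv1 F82002) D110617 (iv1 F93797) (iv6 F93784) (iv5 F95307) (iv1 F95308) (iv5 F85109) (iv6 D53961) D53958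
theorem F171205 : act 0 n59227 = n110617 := d21_10 (iv5 D110617) (iv1 D51006) F38835 (iv6 D13491) (iv1 F22561) D26030 F41148 D28888 D60914 F95460
def n110618 : Q := act 0 n51008
theorem D110618 : act 0 n51008 = n110618 := rfl
theorem F171206 : act 1 n69152 = n110618 := d15_0 (iv0 D110618) (iv7 F82023) (iv2 F105447)
def n110619 : Q := act 1 n51008
theorem D110619 : act 1 n51008 = n110619 := rfl
def n110620 : Q := act 2 n51008
theorem D110620 : act 2 n51008 = n110620 := rfl
theorem F171207 : act 3 n110620 = n69070 := d0_2 D51008 D110620 F105302 F51123 (iv2 F39688)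
theorem F171208 : act 7 n110620 = n69152 := d4_2 F82023 D110620 F105447
theorem F171209 : act 1 n110619 = n69152 := d15_1 D110619 (iv7 F171208) (iv2 D110620)
theorem F171210 : act 5 n69069 = n110620 := d13_3 F171208 (iv5 D69152) (iv7 F105301)
def n110621 : Q := act 5 n51008
theorem D110621 : act 5 n51008 = n110621 := rfl
theorem F171211 : act 2 n110621 = n69069 := d2_1 D110621 F171210 (iv2 D110620)
theorem F171212 : act 3 n110621 = n51009 := d6_1 D110621 (iv5 D51009) D51008
theorem F171213 : act 7 n110621 = n69151 := d13_2 F82023 D110621 (iv5 F105446)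
theorem F171214 : act 1 n69150 = n110621 := d15_1 D69150 F171213 (iv2 D69151)
theorem F171215 : act 1 n110621 = n69149 := d15_0 (iv0 D69149) (iv7 F105301) (iv2 F171211)
def n110622 : Q := act 6 n51008
theorem D110622 : act 6 n51008 = n110622 := rfl
theorem F171216 : act 3 n110622 = n51010 := d7_1 D110622 (iv6 D51010) D51008
def n110623 : Q := act 6 n51009
theorem D110623 : act 6 n51009 = n110623 := rfl
theorem F171217 : act 2 n110623 = n69118 := d3_1 D110623 (iv6 D69118) (iv2 F80462)
theorem F171218 : act 4 n110623 = n64527 := d10_1 D110623 (iv6 D64527) (iv4 F80463)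
def n110624 : Q := act 5 n51010
theorem D110624 : act 5 n51010 = n110624 := rfl
def n110625 : Q := act 6 n51011
theorem D110625 : act 6 n51011 = n110625 := rfl
theorem F171219 : act 2 n110625 = n69154 := d3_1 D110625 (iv6 D69154) (iv2 F80467)
theorem F171220 : act 3 n110625 = n51013 := d7_1 D110625 (iv6 D51013) D51011
def n110626 : Q := act 6 n51012
theorem D110626 : act 6 n51012 = n110626 := rfl
theorem F171221 : act 3 n110626 = n69077 := d7_1 D110626 (iv6 D69077) (iv3 F80468)
theorem F171222 : act 4 n110626 = n109529 := d10_1 D110626 (iv6 D109529) (iv4 F80469)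
def n110627 : Q := act 5 n51013
theorem D110627 : act 5 n51013 = n110627 := rfl
def n110628 : Q := act 7 n51013
theorem D110628 : act 7 n51013 = n110628 := rfl
theorem F171223 : act 4 n110628 = n64465 := d11_1 D110628 (iv7 D64465) (iv4 F80472)
theorem F171224 : act 1 n68306 = n110628 := d15_1 (iv0 F166126) (iv7 D110628) (iv2 F82029)
def n110629 : Q := act 2 n51014
theorem D110629 : act 2 n51014 = n110629 := rfl
theorem F171225 : act 7 n51015 = n110629 := d15_2 (iv0 D51014) D51015 (iv2 D110629)
theorem F171226 : act 4 n110629 = n109421 := d11_1 F171225 (iv7 D109421) F80473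
def n110630 : Q := act 3 n51014
theorem D110630 : act 3 n51014 = n110630 := rfl
def n110631 : Q := act 4 n51014
theorem D110631 : act 4 n51014 = n110631 := rfl
theorem F171227 : act 2 n110631 = n109421 := d1_1 D110631 (iv4 F171226) (iv2 D110629)
theorem F171228 : act 3 n109440 = n110631 := d0_0 F171227 F169406 F79837 D50485 D109440
theorem F171229 : act 7 n109418 = n110631 := d4_0 F171227 (iv7 D109421) D109418
theorem F171230 : act 1 n110631 = n109416 := d15_0 (iv0 D109416) D109421 (iv2 F171227)
theorem F171231 : act 5 n109416 = n59277 := d18_9 F170510 (iv4 D110024) (iv1 F81888) (iv4 D51853) (iv5 F39724) (iv4 F82036) F82038 D110631 F171230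
theorem F171233 : act 7 n59307 = n109416 := d13_0 F171231 F93506 D59307
theorem F171235 : act 1 n109417 = n110631 := d15_0 F171230 (iv7 F171233) (iv2 F170509)
theorem F171236 : act 0 n109440 = n109138 := d20_10 F170323 (iv1 D66019) F49346 (iv3 D14647) F11259 D11760 (iv4 F38837) D51014 D110631 (iv3 F171228)
theorem F171237 : act 1 n109440 = n109119 := d15_1 (iv0 F171236) (iv7 F170346) (iv2 F170344)
theorem F171238 : act 1 n109119 = n109412 := d15_1 F171237 F169398 D109440
theorem F171239 : act 1 n109412 = n109138 := d15_1 F171238 F169991 F169990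
def n110632 : Q := act 5 n51014
theorem D110632 : act 5 n51014 = n110632 := rfl
def n110633 : Q := act 6 n51014
theorem D110633 : act 6 n51014 = n110633 := rfl
def n110634 : Q := act 7 n51014
theorem D110634 : act 7 n51014 = n110634 := rfl
theorem F171240 : act 2 n110634 = n51015 := d4_1 D110634 F171225 (iv2 D110629)
theorem F171241 : act 4 n110634 = n109418 := d11_1 D110634 F171229 (iv4 D110631)
def n110635 : Q := act 3 n51015
theorem D110635 : act 3 n51015 = n110635 := rfl
theorem F171242 : act 4 n110635 = n109424 := d5_2 F80473 D110635 (iv3 D109424) (iv4 D50481) D50480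
def n110636 : Q := act 5 n51015
theorem D110636 : act 5 n51015 = n110636 := rfl
def n110637 : Q := act 6 n51015
theorem D110637 : act 6 n51015 = n110637 := rfl
def n110638 : Q := act 5 n51016
theorem D110638 : act 5 n51016 = n110638 := rfl
theorem F171244 : act 2 n110638 = n51017 := d2_1 D110638 (iv5 D51017) D51016
def n110639 : Q := act 6 n51016
theorem D110639 : act 6 n51016 = n110639 := rfl
def n110641 : Q := act 6 n51017
theorem D110641 : act 6 n51017 = n110641 := rfl
theorem F171247 : act 3 n110641 = n51021 := d7_1 D110641 (iv6 D51021) (iv3 F80475)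
def n110646 : Q := act 6 n51019
theorem D110646 : act 6 n51019 = n110646 := rfl
theorem F171251 : act 4 n110646 = n109517 := d10_1 D110646 (iv6 D109517) F80480
theorem F171252 : act 5 n110646 = n52246 := d12_1 D110646 (iv6 D52246) (iv5 D25376) (iv6 F40097) (iv5 F80478)
def n110647 : Q := act 3 n51020
theorem D110647 : act 3 n51020 = n110647 := rfl
theorem F171253 : act 5 n110647 = n51544 := d6_2 (iv5 F80482) D110647 (iv3 D51544)
theorem F171254 : act 7 n110647 = n109522 := d8_2 (iv7 F80483) D110647 F169478
def n110648 : Q := act 6 n51020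
theorem D110648 : act 6 n51020 = n110648 := rfl
theorem F171255 : act 2 n110648 = n51573 := d3_1 D110648 (iv6 D51573) (iv2 F80481)
theorem F171256 : act 4 n110648 = n51021 := d10_1 D110648 (iv6 D51021) D51020
def n110649 : Q := act 0 n51021
theorem D110649 : act 0 n51021 = n110649 := rfl
def n110650 : Q := act 1 n51021
theorem D110650 : act 1 n51021 = n110650 := rfl
def n110651 : Q := act 5 n51021
theorem D110651 : act 5 n51021 = n110651 := rfl
theorem F171257 : act 6 n110651 = n51024 := d12_2 D51021 D110651 (iv5 D51024) (iv6 D24815) D24814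
def n110652 : Q := act 7 n51021
theorem D110652 : act 7 n51021 = n110652 := rfl
def n110653 : Q := act 3 n51022
theorem D110653 : act 3 n51022 = n110653 := rfl
def n110654 : Q := act 5 n51022
theorem D110654 : act 5 n51022 = n110654 := rfl
def n110655 : Q := act 0 n51024
theorem D110655 : act 0 n51024 = n110655 := rfl
def n110656 : Q := act 1 n51024
theorem D110656 : act 1 n51024 = n110656 := rfl
def n110657 : Q := act 4 n51024
theorem D110657 : act 4 n51024 = n110657 := rfl
def n110658 : Q := act 7 n51024
theorem D110658 : act 7 n51024 = n110658 := rfl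
theorem F171258 : act 5 n110658 = n51025 := d13_1 D110658 (iv7 D51025) D51024
def n110659 : Q := act 4 n51026
theorem D110659 : act 4 n51026 = n110659 := rfl
theorem F171259 : act 2 n110659 = n51664 := d1_1 D110659 F101545 (iv2 F93042)
theorem F171260 : act 6 n110659 = n109545 := d10_2 F170722 D110659 (iv4 F170720)
theorem F171261 : act 7 n110659 = n51565 := d11_2 (iv7 F82213) D110659 (iv4 F82210)
theorem F171262 : act 0 n110659 = n51667 := d20_1 D110659 F81581 F39435 (iv1 F19669) (iv3 F38447) (iv4 F79565) F101701 F101700 F93895 (iv1 F93044)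
theorem F171263 : act 0 n51639 = n110659 := d20_7 D110393 F170759 F81158 F81154 F39423 (iv3 F39404) (iv4 F81521) (iv4 D110659) (iv3 D51026) (iv1 F80312)
def n110660 : Q := act 3 n51027
theorem D110660 : act 3 n51027 = n110660 := rfl
def n110661 : Q := act 5 n51027
theorem D110661 : act 5 n51027 = n110661 := rfl
def n110663 : Q := act 1 n51028
theorem D110663 : act 1 n51028 = n110663 := rfl
theorem F171265 : act 1 n110663 = n51033 := d15_1 D110663 (iv7 D51033) D51028
def n110664 : Q := act 3 n51028
theorem D110664 : act 3 n51028 = n110664 := rfl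
theorem F171266 : act 7 n110664 = n51034 := d8_2 F80487 D110664 (iv3 D51034)
def n110665 : Q := act 4 n51028
theorem D110665 : act 4 n51028 = n110665 := rfl
theorem F171267 : act 2 n110665 = n51030 := d1_1 D110665 (iv4 D51030) D51028
theorem F171268 : act 7 n110665 = n51035 := d11_2 F80487 D110665 (iv4 D51035)
def n110668 : Q := act 0 n51029
theorem D110668 : act 0 n51029 = n110668 := rfl
def n110669 : Q := act 1 n51029
theorem D110669 : act 1 n51029 = n110669 := rfl
theorem F171272 : act 5 n110669 = n109997 := d18_9 (iv1 D109997) F81761 (iv1 D51771) F39555 F19698 (iv4 F39312) D51567 (iv4 F81389) D110669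
theorem F171273 : act 3 n110136 = n110669 := d20_9 F81389 (iv1 D51567) F39312 (iv3 D11909) (iv1 F19074) D24772 (iv4 F80351) D110461 F170954 (iv1 D110669)
theorem F171274 : act 2 n110669 = n110120 := d0_1 F171273 F170254 F80168 (iv3 F80173) (iv2 F170289)
theorem F171275 : act 7 n110669 = n110203 := d8_2 (iv7 F171046) F171273 (iv3 F171049)
theorem E17171 : n110209 = n51029 := (c15_1 D110209 D110669 F171275 F170375)
theorem E17172 : n110668 = n50817 := ((D110668).symm.trans (sb E17171 (iv1 D110209)))
theorem F171276 : act 1 n50817 = n51029 := (sb E17172 (iv0 D110668))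
theorem F171277 : act 1 n110669 = n110208 := d15_0 (iv0 D110208) (iv7 F170255) (iv2 F171274)
theorem F171278 : act 0 n109553 = n59861 := d17_2 (iv1 F81388) D109553 (iv5 F94318) (iv4 F81634) F81310 D109997 (iv5 F171272) F171277 F170381
theorem F171279 : act 4 n109606 = n110669 := d18_3 (iv1 F39360) D50567 (iv1 F169612) F171272 F170116 F169767 (iv4 D50631) F39567 F39563
def n110670 : Q := act 2 n51029
theorem D110670 : act 2 n51029 = n110670 := rfl
theorem F171280 : act 7 n110208 = n110670 := d15_2 D110669 F171277 (iv2 D110670)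
def n110671 : Q := act 5 n51029
theorem D110671 : act 5 n51029 = n110671 := rfl
theorem F171281 : act 3 n110671 = n51031 := d6_1 D110671 (iv5 D51031) D51029
def n110672 : Q := act 6 n51029
theorem D110672 : act 6 n51029 = n110672 := rfl
theorem F171282 : act 3 n110672 = n51032 := d7_1 D110672 (iv6 D51032) D51029
def n110673 : Q := act 7 n51029
theorem D110673 : act 7 n51029 = n110673 := rfl
theorem F171283 : act 2 n110673 = n110208 := d4_1 D110673 F171280 (iv2 D110670)
theorem F171284 : act 3 n110673 = n51033 := d8_1 D110673 (iv7 D51033) D51029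
def n110674 : Q := act 0 n51030
theorem D110674 : act 0 n51030 = n110674 := rfl
theorem F171285 : act 4 n110674 = n59307 := d18_3 D24821 D51030 D110674 (iv5 D59307) D59306 (iv0 F93529) (iv4 D50737) (iv0 D24698) (iv5 F19110)
def n110675 : Q := act 1 n51030
theorem D110675 : act 1 n51030 = n110675 := rfl
theorem F171286 : act 1 n110675 = n51035 := d15_1 D110675 (iv7 F171268) F171267
def n110676 : Q := act 3 n51030
theorem D110676 : act 3 n51030 = n110676 := rfl
def n110677 : Q := act 5 n51030
theorem D110677 : act 5 n51030 = n110677 := rfl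
def n110678 : Q := act 6 n51030
theorem D110678 : act 6 n51030 = n110678 := rfl
theorem F171287 : act 4 n110678 = n51032 := d10_1 D110678 (iv6 D51032) D51030
def n110679 : Q := act 7 n51030
theorem D110679 : act 7 n51030 = n110679 := rfl
theorem F171288 : act 2 n110679 = n51035 := d4_1 D110679 (iv7 F171268) F171267
theorem F171289 : act 4 n110679 = n51033 := d11_1 D110679 (iv7 D51033) D51030
theorem F171290 : act 1 n51035 = n110674 := d15_0 (iv0 D110674) D110679 F171288
def n110684 : Q := act 7 n51031
theorem D110684 : act 7 n51031 = n110684 := rfl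
theorem F171293 : act 5 n110684 = n51033 := d13_1 D110684 (iv7 D51033) D51031
def n110690 : Q := act 0 n51034
theorem D110690 : act 0 n51034 = n110690 := rfl
theorem F171296 : act 4 n110690 = n68195 := d20_0 (iv1 F170922) F170920 F80396 (iv1 F170950) (iv3 F93530) (iv4 F171285) (iv1 F171290) (iv4 D51035) D51034 D110690
theorem F171297 : act 2 n51875 = n110690 := d1_3 F171296 (iv2 F170978) (iv4 F170925)
theorem F171298 : act 5 n51873 = n110690 := d17_3 (iv1 F170036) F81313 (iv1 F170446) F171296 F170985 (iv0 D106259) F77524 (iv0 F80171) (iv4 D50793)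
theorem F171299 : act 1 n51034 = n109372 := d15_1 (iv0 D110690) F170454 F171297
def n110691 : Q := act 2 n51034
theorem D110691 : act 2 n51034 = n110691 := rfl
theorem F171300 : act 3 n110691 = n110208 := d0_2 D51034 D110691 (iv2 F171283) F171284 F80488
theorem F171301 : act 0 n110691 = n51875 := d20_10 F170925 (iv1 D110497) F80392 (iv3 D24779) F19084 D11909 (iv4 F39312) D51566 (iv4 F170381) (iv3 F171300)
theorem F171302 : act 5 n110142 = n110691 := d18_9 F171301 F170925 (iv1 D110497) F80392 F38790 D50476 D109401 (iv4 F169603) D110142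
theorem F171303 : act 5 n51034 = n52066 := d2_2 F171302 (iv2 D110691) F171066
theorem F171304 : act 5 n110208 = n109325 := d6_2 F171302 F171300 F170298
theorem E17173 : n110673 = n51970 := ((c2_3 F171304 F171052 (iv5 F105476) F171283)).symm
theorem F171305 : act 2 n51970 = n110208 := (sb E17173 F171283)
theorem E17174 : n51033 = n25218 := ((((iv3 D51970)).symm.trans (sb E17173 F171284))).symm
theorem E17175 : n110663 = n24823 := ((((iv1 F39722)).symm.trans (sb E17174 (iv1 F171265)))).symm
theorem E17177 : n51969 = n24822 := ((D51969).symm.trans (sb E17174 F80488))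
theorem E17178 : n110679 = n51971 := (((D51971).symm.trans (sb E17174 (iv4 F171289)))).symm
theorem E17179 : n110684 = n24781 := ((((iv5 F105477)).symm.trans (sb E17174 (iv5 F171293)))).symm
theorem E17181 : n51974 = n24821 := ((D51974).symm.trans (sb E17174 (iv7 D51033)))
theorem E17182 : n51028 = n25219 := ((((iv1 F39727)).symm.trans (sb E17175 (iv1 D110663)))).symm
theorem F171307 : act 2 n24822 = n25218 := (sb E17177 (iv2 D51969))
theorem E17183 : n51036 = n25275 := ((D51036).symm.trans (sb E17177 F171070))
theorem F171308 : act 2 n51971 = n51035 := (sb E17178 F171288)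
theorem F171309 : act 7 n51971 = n51030 := (sb E17178 (iv7 D110679))
theorem E17184 : n51031 = n25274 := (((F171063).symm.trans (sb E17179 (iv7 D110684)))).symm
theorem F171311 : act 7 n24821 = n25218 := (sb E17181 (iv7 D51974))
theorem E17185 : n110664 = n51975 := (((D51975).symm.trans (sb E17182 D110664))).symm
theorem E17186 : n110665 = n51976 := (((D51976).symm.trans (sb E17182 D110665))).symm
theorem F171314 : act 5 n25275 = n24822 := (sb E17183 (iv5 D51036))
theorem E17191 : n110671 = n52061 := (((D52061).symm.trans (sb E17184 (iv3 F171281)))).symm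
theorem F171315 : act 5 n25274 = n24821 := (sb E17184 (iv5 D51031))
theorem F171316 : act 7 n51975 = n51034 := (sb E17185 F171266)
theorem F171317 : act 2 n51976 = n51030 := (sb E17186 F171267)
theorem F171318 : act 7 n51976 = n51035 := (sb E17186 F171268)
theorem F171320 : act 5 n52061 = n51029 := (sb E17191 (iv5 D110671))
theorem F171321 : act 1 n109326 = n51773 := d17_6 F105380 D50817 D110208 F171304 (iv4 D109325) D109326 (iv5 D51773) D51771 (iv4 F81761)
theorem E17194 : n109551 = n51566 := (c17_4 (iv1 D50676) D50678 D109885 F169898 (iv4 F170381) F171304 F169347 (iv5 D51898) (iv0 F105374) F81843)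
theorem F171322 : act 2 n51566 = n50541 := (sb E17194 F169502)
theorem F171323 : act 5 n51566 = n109885 := (sb E17194 (iv5 F169898))
theorem F171324 : act 7 n51566 = n50540 := (sb E17194 (iv7 D109551))
theorem E17195 : n109429 = n11909 := (c18_1 (iv1 F169413) (iv4 F39312) D51566 (iv4 F170381) F171304 (iv4 D109325) (iv0 D50449) F38601 D24600 D50487)
theorem E17196 : n50482 = n25067 := (((D25067).symm.trans (sb E17195 (iv1 D109429)))).symm
theorem E17197 : n50487 = n25068 := (((D25068).symm.trans (sb E17195 F169413))).symm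
theorem E17199 : n109414 = n51603 := (((D51603).symm.trans (sb E17196 (iv2 F169401)))).symm
theorem E17200 : n109419 = n51604 := (((D51604).symm.trans (sb E17196 (iv3 F169404)))).symm
theorem E17202 : n51606 = n24599 := ((D51606).symm.trans (sb E17196 (iv5 D50482)))
theorem E17204 : n109432 = n51608 := (((D51608).symm.trans (sb E17196 D109432))).symm
theorem E17205 : n109442 = n51609 := (((D51609).symm.trans (sb E17197 (iv3 F169419)))).symm
theorem E17207 : n51611 = n24600 := ((D51611).symm.trans (sb E17197 (iv5 D50487)))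
theorem F171325 : act 5 n51603 = n50479 := (sb E17199 (iv5 D109414))
theorem F171326 : act 5 n51604 = n50480 := (sb E17200 (iv5 D109419))
theorem F171327 : act 5 n24599 = n25067 := (sb E17202 (iv5 D51606))
theorem F171328 : act 5 n51608 = n50484 := (sb E17204 F169415)
theorem F171329 : act 1 n51609 = n59284 := (sb E17205 (iv0 F170970))
theorem F171330 : act 5 n51609 = n50485 := (sb E17205 (iv5 D109442))
theorem F171331 : act 5 n24600 = n25068 := (sb E17207 (iv5 D51611))
theorem F171332 : act 1 n51773 = n109330 := d17_6 (iv1 F39449) F171331 (iv1 D25068) (iv5 F19698) (iv4 F39555) D51773 (iv5 D109330) F81563 F81559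
theorem E17209 : n109546 = n51567 := ((c17_1 (iv1 F81393) F169894 (iv1 D109886) (iv5 D50678) F38673 F19020 D24600 F171331 F39359 (iv4 F79912))).symm
theorem F171333 : act 2 n51567 = n50540 := (sb E17209 (iv2 D109546))
theorem F171334 : act 5 n51567 = n109886 := (sb E17209 F169894)
theorem F171335 : act 7 n51567 = n50541 := (sb E17209 (iv7 F169500))
theorem E17210 : n110670 = n109548 := ((c1_3 F81389 F171333 D109548 (iv2 D110670))).symm
theorem F171336 : act 2 n109548 = n51029 := (sb E17210 (iv2 D110670))
theorem F171338 : act 1 n109716 = n109326 := d17_6 D24599 F171327 (iv1 F39355) (iv5 F38659) (iv4 F79980) D109716 (iv5 D109326) (iv0 D50449) F38601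
theorem F171339 : act 1 n109330 = n109716 := d15_0 F171338 F171077 (iv2 F171075)
theorem F171340 : act 0 n110632 = n110079 := d17_2 D51014 D110632 (iv5 D110079) (iv4 D50769) (iv5 F38796) F39891 F171315 (iv0 D24821) (iv4 F38837)
theorem E17211 : n110676 = n69082 := (c19_4 D25274 F171315 D51030 D110676 F105330 (iv5 D68741) (iv4 D31983) (iv3 D15086) (iv1 D7173) (iv5 D3308) F4911 D2866 F10325 F7659 (iv4 F4320) F4319 F7711 D2364 D5664 D12000)
theorem F171341 : act 3 n69082 = n51030 := (sb E17211 (iv3 D110676))
theorem E17212 : n110677 = n69081 := (c6_3 D69082 F171341 D110677 (iv3 D69081))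
theorem F171342 : act 5 n69081 = n51030 := (sb E17212 (iv5 D110677))
theorem F171343 : act 1 n110632 = n51834 := d15_1 (iv0 F171340) F81855 (iv2 F170214)
theorem F171344 : act 5 n110031 = n52045 := d17_7 (iv1 F39896) F171314 (iv1 D24822) F19110 D24701 D50749 D110031 (iv0 F82258) F80324
theorem F171345 : act 0 n110636 = n51834 := d17_2 (iv1 F82039) D110636 (iv5 D51834) (iv4 D25161) (iv5 F19839) D25275 F171314 F39728 (iv4 F82036)
theorem F171346 : act 3 n53765 = n110636 := d20_3 (iv4 D26008) D26006 D53765 F171345 F81854 (iv4 F80023) F80024 (iv4 F80449) F84782 (iv1 D53774)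
theorem F171347 : act 5 n110635 = n53765 := d6_0 F171346 (iv5 D110636) D110635
theorem E17213 : n53766 = n53400 := ((c19_1 D53400 (iv5 D53766) D53765 F171346 F171345 (iv5 D51834) (iv4 D25161) (iv3 D11946) (iv1 F8565) F8253 (iv4 D2326) (iv3 F3670) D5572 (iv5 F19279) F11493 F11261 (iv1 F8549) (iv5 F8957) D12281 D25872)).symm
theorem F171348 : act 5 n53400 = n26006 := (sb E17213 (iv5 D53766))
theorem F171349 : act 5 n51035 = n69188 := d2_2 F105482 F171308 (iv2 D69188)
theorem F171350 : act 0 n52066 = n110136 := d17_2 (iv1 F171299) F171303 (iv5 D110136) F170120 D59185 F170958 (iv5 D68198) D68196 (iv4 F169373)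
theorem F171351 : act 1 n52066 = n110144 := d15_1 (iv0 F171350) (iv7 D110144) (iv2 F170289)
theorem F171352 : act 1 n110534 = n110136 := d15_0 (iv0 F171350) F171067 D110534
theorem F171354 : act 0 n110464 = n58936 := d17_2 (iv1 D110462) D110464 (iv5 D58936) (iv4 F170447) F171298 (iv0 D110690) F171303 F171351 F170944
def n110692 : Q := act 4 n51034
theorem D110692 : act 4 n51034 = n110692 := rfl
theorem F171356 : act 0 n110502 = n110692 := d20_1 D110502 (iv4 D110692) (iv3 D51034) (iv1 D24822) (iv3 D11760) (iv4 D5497) (iv1 F8281) D11731 D24779 D50954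
def n110693 : Q := act 6 n51034
theorem D110693 : act 6 n51034 = n110693 := rfl
def n110694 : Q := act 3 n51035
theorem D110694 : act 3 n51035 = n110694 := rfl
theorem F171358 : act 0 n105179 = n110694 := d20_4 F39303 (iv1 F39208) D48636 D105179 (iv3 D110694) (iv4 D51035) (iv1 D24822) (iv4 F38837) (iv3 D24813) D24811
def n110695 : Q := act 6 n51035
theorem D110695 : act 6 n51035 = n110695 := rfl
def n110722 : Q := act 0 n51045
theorem D110722 : act 0 n51045 = n110722 := rfl
theorem F171373 : act 4 n110722 = n51685 := d18_3 (iv1 D51044) D51045 D110722 F81598 F80005 (iv0 F45520) (iv4 F80237) (iv0 F81825) F81826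
theorem F171374 : act 2 n109654 = n110722 := d1_3 F171373 F81677 D109654
def n110723 : Q := act 1 n51045
theorem D110723 : act 1 n51045 = n110723 := rfl
theorem F171376 : act 7 n110723 = n109654 := d15_2 (iv0 D110722) D110723 F171374
theorem F171377 : act 4 n110723 = n51686 := d18_7 (iv1 F38795) F38793 F19087 (iv4 F19111) D24826 D51045 D110723 F81600 F79940
theorem F171378 : act 2 n109657 = n110723 := d1_3 F171377 F81680 D109657
def n110725 : Q := act 5 n51045
theorem D110725 : act 5 n51045 = n110725 := rfl
theorem F171381 : act 7 n110725 = n65652 := d16_8 (iv4 D67663) (iv5 D31423) F24477 F11309 (iv4 F19111) D24826 D51045 D110725 (iv2 F103682)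
def n110726 : Q := act 7 n51045
theorem D110726 : act 7 n51045 = n110726 := rfl
theorem F171383 : act 4 n110726 = n51046 := d11_1 D110726 (iv7 D51046) D51045
theorem F171384 : act 5 n110726 = n65652 := d13_1 D110726 (iv7 F171381) (iv5 D110725)
theorem F171385 : act 1 n109657 = n110726 := d15_1 (iv0 F169635) (iv7 D110726) (iv2 F82298)
theorem F171386 : act 1 n110726 = n109654 := d15_1 F171385 (iv7 F171376) (iv2 F171378)
def n110729 : Q := act 5 n51047
theorem D110729 : act 5 n51047 = n110729 := rfl
def n110730 : Q := act 0 n51048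
theorem D110730 : act 0 n51048 = n110730 := rfl
theorem F171390 : act 1 n109399 = n110730 := d15_0 (iv0 D110730) F80496 (iv2 F169385)
theorem F171391 : act 7 n110730 = n59063 := d15_2 (iv0 F171006) F171390 (iv2 F171005)
theorem F171392 : act 2 n109405 = n110730 := d4_3 F171391 (iv2 F171005) (iv7 F171007)
theorem F171393 : act 1 n51048 = n110506 := d15_1 (iv0 D110730) (iv7 F171007) F171392
def n110733 : Q := act 4 n51049
theorem D110733 : act 4 n51049 = n110733 := rfl
theorem F171401 : act 7 n110733 = n109409 := d11_2 (iv7 F80498) D110733 (iv4 D109409)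
theorem F171402 : act 5 n110733 = n65242 := d16_1 D110733 (iv4 D65242) (iv5 D30621) F24159 (iv5 F19086) (iv4 F38793) D50958 F80406 (iv2 F80497)
def n110735 : Q := act 0 n51050
theorem D110735 : act 0 n51050 = n110735 := rfl
theorem F171405 : act 1 n64554 = n110735 := d15_0 (iv0 D110735) F80500 D64554
def n110736 : Q := act 1 n51050
theorem D110736 : act 1 n51050 = n110736 := rfl
theorem F171406 : act 4 n107366 = n110736 := d20_6 (iv4 D23994) (iv1 F18295) (iv4 F18548) (iv3 F37906) (iv1 F78336) D107366 (iv1 D110736) F80499 (iv3 D24834) (iv1 F37509)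
theorem F171407 : act 0 n64554 = n110736 := d20_7 (iv4 F78110) D106914 (iv4 F164781) (iv3 D51227) D51225 (iv3 F80825) (iv4 F100501) (iv4 F171406) (iv3 D107366) (iv1 D49597)
def n110737 : Q := act 2 n51050
theorem D110737 : act 2 n51050 = n110737 := rfl
theorem F171408 : act 3 n110737 = n64559 := d0_2 D51050 D110737 (iv2 D64559) (iv3 D30387) (iv2 F38872)
theorem F171409 : act 4 n110737 = n51054 := d1_2 (iv4 F80499) D110737 (iv2 D51054)
theorem F171410 : act 7 n110737 = n64554 := d4_2 (iv7 F80500) D110737 (iv2 D64554)
theorem F171411 : act 1 n110737 = n64552 := d15_0 (iv0 D64552) (iv7 F80500) D110737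
theorem F171412 : act 1 n64553 = n110737 := d15_1 D64553 F171410 (iv2 D64554)
def n110738 : Q := act 5 n51050
theorem D110738 : act 5 n51050 = n110738 := rfl
theorem F171413 : act 3 n110738 = n51051 := d6_1 D110738 (iv5 D51051) D51050
theorem F171414 : act 7 n110738 = n64370 := d13_2 (iv7 F80500) D110738 F100312
def n110739 : Q := act 6 n51051
theorem D110739 : act 6 n51051 = n110739 := rfl
theorem F171415 : act 2 n110739 = n64373 := d3_1 D110739 (iv6 D64373) (iv2 F80501)
def n110740 : Q := act 3 n51052
theorem D110740 : act 3 n51052 = n110740 := rfl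
theorem F171416 : act 4 n110740 = n107382 := d20_6 (iv4 F18616) F18614 D11769 D24834 D51052 D110740 (iv1 D107382) (iv4 D49601) F37904 (iv1 F18545)
def n110741 : Q := act 5 n51052
theorem D110741 : act 5 n51052 = n110741 := rfl
def n110742 : Q := act 6 n51052
theorem D110742 : act 6 n51052 = n110742 := rfl
def n110743 : Q := act 5 n51053
theorem D110743 : act 5 n51053 = n110743 := rfl
def n110744 : Q := act 6 n51053
theorem D110744 : act 6 n51053 = n110744 := rfl
def n110745 : Q := act 1 n51057
theorem D110745 : act 1 n51057 = n110745 := rfl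
theorem F171417 : act 1 n110745 = n61286 := d15_1 D110745 F95768 (iv2 F80518)
theorem F171418 : act 7 n110745 = n106709 := d15_2 (iv0 F164405) D110745 (iv2 F164464)
theorem F171419 : act 4 n76300 = n110745 := d20_0 (iv1 D110745) F80519 F77968 (iv1 F55488) (iv3 F87473) F87471 F93549 F93546 F80522 F114392
theorem F171420 : act 3 n61282 = n110745 := d20_3 (iv4 F37656) (iv1 F114359) F114361 (iv1 D110745) (iv3 D51057) F55492 (iv1 F104018) F104014 F82807 (iv1 D49217)
theorem F171421 : act 2 n110745 = n76300 := d0_1 F171420 F114391 F106606 F114360 (iv2 F114362)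
theorem F171422 : act 6 n110745 = n55261 := d7_2 (iv6 F114363) F171420 (iv3 F87464)
def n110746 : Q := act 5 n51057
theorem D110746 : act 5 n51057 = n110746 := rfl
theorem F171423 : act 2 n110746 = n106710 := d2_1 D110746 (iv5 D106710) (iv2 F80518)
theorem F171424 : act 3 n110746 = n51058 := d6_1 D110746 (iv5 D51058) D51057
theorem F171425 : act 7 n110746 = n106717 := d13_2 F80520 D110746 (iv5 D106717)
theorem F171426 : act 1 n110746 = n93780 := d17_6 F77561 D52118 F164456 (iv5 D106707) (iv4 F80519) D110746 (iv5 D93780) (iv0 F69408) (iv4 F77560)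
def n110747 : Q := act 4 n51058
theorem D110747 : act 4 n51058 = n110747 := rfl
def n110748 : Q := act 6 n51058
theorem D110748 : act 6 n51058 = n110748 := rfl
def n110749 : Q := act 7 n51058
theorem D110749 : act 7 n51058 = n110749 := rfl
theorem F171427 : act 2 n110749 = n51060 := d4_1 D110749 (iv7 F167459) F167457
theorem F171428 : act 3 n110749 = n106717 := d8_1 D110749 (iv7 F171425) F171424
theorem F171429 : act 5 n110749 = n51059 := d13_1 D110749 (iv7 D51059) D51058
theorem F171430 : act 1 n71477 = n110749 := d15_1 F167461 (iv7 D110749) (iv2 F167457)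
theorem F171431 : act 1 n110749 = n62731 := d15_1 F171430 F97859 (iv2 F108005)
def n110750 : Q := act 4 n51060
theorem D110750 : act 4 n51060 = n110750 := rfl
def n110751 : Q := act 6 n51060
theorem D110751 : act 6 n51060 = n110751 := rfl
def n110752 : Q := act 0 n51062
theorem D110752 : act 0 n51062 = n110752 := rfl
theorem F171432 : act 5 n110752 = n52871 := d17_3 (iv1 F80523) D51062 D110752 F83533 (iv5 F79169) (iv0 F106295) (iv5 D69873) (iv0 F93548) F93546
theorem F171433 : act 1 n51067 = n110752 := d15_0 (iv0 D110752) (iv7 F108018) F108016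
theorem F171434 : act 2 n51063 = n110752 := d2_3 F171432 F83531 (iv5 F80527)
theorem F171435 : act 3 n52874 = n110752 := d6_3 F171432 F83532 D52874
theorem F171436 : act 7 n51064 = n110752 := d13_0 F171432 (iv7 F97844) F97847
def n110753 : Q := act 1 n51062
theorem D110753 : act 1 n51062 = n110753 := rfl
theorem F171437 : act 1 n110753 = n51067 := d15_1 D110753 (iv7 D51067) (iv2 F80525)
theorem F171438 : act 7 n110753 = n51063 := d15_2 (iv0 D110752) D110753 F171434
theorem F171439 : act 5 n110753 = n52975 := d17_7 (iv1 F42132) (iv5 F86250) (iv1 F86251) (iv5 F42153) (iv4 F38879) D51062 D110753 F83700 (iv4 D26395)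
theorem F171440 : act 2 n51064 = n110753 := d2_3 F171439 F97848 F97847
def n110754 : Q := act 4 n51062
theorem D110754 : act 4 n51062 = n110754 := rfl
theorem F171441 : act 2 n110754 = n51065 := d1_1 D110754 (iv4 D51065) (iv2 F80525)
theorem F171442 : act 0 n110754 = n52128 := d18_2 (iv1 D110753) D110754 (iv4 D52128) (iv5 D25311) F19878 D12598 D26398 F83699 (iv5 F171439)
def n110755 : Q := act 6 n51062
theorem D110755 : act 6 n51062 = n110755 := rfl
theorem F171443 : act 2 n110755 = n51066 := d3_1 D110755 (iv6 D51066) (iv2 F80525)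
theorem F171444 : act 3 n110755 = n107549 := d7_1 D110755 (iv6 D107549) (iv3 F80526)
theorem F171445 : act 5 n110755 = n52886 := d12_1 D110755 (iv6 D52886) F40594 (iv6 F38880) D51062
def n110756 : Q := act 4 n51063
theorem D110756 : act 4 n51063 = n110756 := rfl
def n110757 : Q := act 6 n51063
theorem D110757 : act 6 n51063 = n110757 := rfl
theorem F171446 : act 5 n110757 = n71776 := d12_1 D110757 (iv6 D71776) (iv5 D33177) D33178 (iv5 F80527)
def n110758 : Q := act 4 n51064
theorem D110758 : act 4 n51064 = n110758 := rfl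
def n110759 : Q := act 6 n51064
theorem D110759 : act 6 n51064 = n110759 := rfl
def n110760 : Q := act 0 n51065
theorem D110760 : act 0 n51065 = n110760 := rfl
theorem F171447 : act 4 n110760 = n52125 := d18_3 (iv1 D51064) D51065 D110760 (iv5 D52125) F39971 F27012 (iv4 F47688) (iv0 F97845) F97847
theorem F171448 : act 2 n52128 = n110760 := d1_3 F171447 F82401 D52128
def n110761 : Q := act 1 n51065
theorem D110761 : act 1 n51065 = n110761 := rfl
theorem F171449 : act 7 n110761 = n52128 := d15_2 (iv0 D110760) D110761 F171448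
theorem F171450 : act 4 n52130 = n110761 := d20_6 (iv4 F77871) (iv1 D49277) F37606 F40037 (iv1 F40039) (iv3 F82405) (iv1 D110761) (iv4 D51065) F38881 (iv1 F37646)
def n110762 : Q := act 3 n51065
theorem D110762 : act 3 n51065 = n110762 := rfl
theorem F171451 : act 4 n110762 = n51068 := d5_2 D51065 D110762 (iv3 D51068) (iv4 D24841) (iv3 F38881)
theorem F171452 : act 7 n106798 = n110762 := d11_0 F171451 F80533 D106798
def n110763 : Q := act 5 n51065
theorem D110763 : act 5 n51065 = n110763 := rfl
def n110764 : Q := act 6 n51065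
theorem D110764 : act 6 n51065 = n110764 := rfl
theorem F171453 : act 4 n110764 = n51066 := d10_1 D110764 (iv6 D51066) D51065
def n110765 : Q := act 7 n51065
theorem D110765 : act 7 n51065 = n110765 := rfl
theorem F171454 : act 3 n110765 = n106798 := d8_1 D110765 F171452 (iv3 D110762)
theorem F171455 : act 4 n110765 = n51067 := d11_1 D110765 (iv7 D51067) D51065
theorem F171456 : act 0 n52128 = n110765 := d18_2 (iv1 D52127) D52128 F171455 F80531 F38883 (iv0 F26716) D29570 (iv0 F51517) F82402
def n110766 : Q := act 0 n51066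
theorem D110766 : act 0 n51066 = n110766 := rfl
def n110767 : Q := act 1 n51066
theorem D110767 : act 1 n51066 = n110767 := rfl
def n110768 : Q := act 7 n51066
theorem D110768 : act 7 n51066 = n110768 := rfl
theorem F171457 : act 3 n110768 = n51072 := d8_1 D110768 (iv7 D51072) (iv3 F80528)
theorem F171458 : act 5 n110768 = n55265 := d13_1 D110768 (iv7 D55265) (iv5 F80529)
def n110769 : Q := act 6 n51067
theorem D110769 : act 6 n51067 = n110769 := rfl
theorem F171459 : act 3 n110769 = n51073 := d7_1 D110769 (iv6 D51073) (iv3 F80530)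
def n110770 : Q := act 0 n51068
theorem D110770 : act 0 n51068 = n110770 := rfl
theorem F171460 : act 1 n106795 = n110770 := d15_0 (iv0 D110770) F80533 (iv2 F164592)
def n110771 : Q := act 1 n51068
theorem D110771 : act 1 n51068 = n110771 := rfl
def n110772 : Q := act 2 n51068
theorem D110772 : act 2 n51068 = n110772 := rfl
theorem F171461 : act 3 n110772 = n107564 := d0_2 D51068 D110772 (iv2 D107564) (iv3 D49694) (iv2 F38884)
theorem F171462 : act 5 n110772 = n106782 := d2_2 (iv5 F80532) D110772 (iv2 F164585)
theorem F171463 : act 7 n110772 = n106795 := d4_2 (iv7 F80533) D110772 F164592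
theorem F171464 : act 1 n110772 = n106796 := d15_0 (iv0 D106796) (iv7 F80533) D110772
theorem F171465 : act 1 n110771 = n106795 := d15_1 D110771 (iv7 F171463) (iv2 D110772)
theorem F171466 : act 1 n106797 = n110772 := d15_1 D106797 F171463 F164592
def n110773 : Q := act 6 n51068
theorem D110773 : act 6 n51068 = n110773 := rfl
theorem F171467 : act 3 n110773 = n51069 := d7_1 D110773 (iv6 D51069) D51068
def n110774 : Q := act 0 n51069
theorem D110774 : act 0 n51069 = n110774 := rfl
def n110775 : Q := act 1 n51069
theorem D110775 : act 1 n51069 = n110775 := rfl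
theorem F171468 : act 1 n110775 = n107569 := d15_1 D110775 (iv7 D107569) (iv2 F80534)
def n110776 : Q := act 5 n51069
theorem D110776 : act 5 n51069 = n110776 := rfl
theorem F171470 : act 6 n110776 = n106804 := d12_2 D51069 D110776 (iv5 D106804) (iv6 D49348) (iv5 F38885)
def n110777 : Q := act 7 n51069
theorem D110777 : act 7 n51069 = n110777 := rfl
theorem F171471 : act 2 n110777 = n107569 := d4_1 D110777 (iv7 D107569) (iv2 F80534)
theorem F171472 : act 4 n110777 = n51072 := d11_1 D110777 (iv7 D51072) (iv4 F80535)
theorem F171473 : act 6 n110777 = n106803 := d14_1 D110777 (iv7 D106803) (iv6 D49347) F38886 D51069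
theorem F171474 : act 1 n107569 = n110774 := d15_0 (iv0 D110774) D110777 F171471
theorem F171475 : act 1 n107567 = n110777 := d15_1 D107567 (iv7 D110777) F80534
theorem F171476 : act 1 n110777 = n107566 := d15_0 (iv0 D107566) D107569 (iv2 F171471)
def n110778 : Q := act 3 n51070
theorem D110778 : act 3 n51070 = n110778 := rfl
theorem F171477 : act 7 n110778 = n107573 := d8_2 F161769 D110778 (iv3 D107573)
def n110779 : Q := act 4 n51070
theorem D110779 : act 4 n51070 = n110779 := rfl
theorem F171478 : act 2 n110779 = n107571 := d1_1 D110779 (iv4 D107571) (iv2 F161770)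
theorem F171479 : act 7 n110779 = n107574 := d11_2 F161769 D110779 (iv4 D107574)
def n110780 : Q := act 6 n51070
theorem D110780 : act 6 n51070 = n110780 := rfl
theorem F171480 : act 2 n110780 = n107572 := d3_1 D110780 (iv6 D107572) (iv2 F161770)
theorem F171481 : act 5 n110780 = n110336 := d21_6 (iv5 D24062) F18427 D11773 D24842 D51070 D110780 (iv1 D110336) (iv5 F163718) (iv6 D106469) F77691
theorem F171482 : act 2 n110336 = n62735 := d2_1 F171481 (iv5 F165960) (iv2 F171480)
theorem F171483 : act 7 n62734 = n110336 := d15_2 F170577 F170578 F171482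
theorem F171484 : act 7 n110335 = n62735 := d15_2 F170573 F170576 (iv2 F171482)
theorem F171485 : act 2 n62734 = n110335 := d4_3 F171484 (iv2 F171482) (iv7 F171483)
def n110781 : Q := act 3 n51071
theorem D110781 : act 3 n51071 = n110781 := rfl
theorem F171486 : act 5 n110781 = n105454 := d6_2 F80537 D110781 F161849
theorem F171487 : act 7 n110781 = n107570 := d8_2 (iv7 F161789) D110781 (iv3 D107570)
def n110782 : Q := act 4 n51071
theorem D110782 : act 4 n51071 = n110782 := rfl
theorem F171488 : act 2 n110782 = n107574 := d1_1 D110782 (iv4 D107574) F161771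
theorem F171489 : act 7 n110782 = n107571 := d11_2 (iv7 F161789) D110782 (iv4 D107571)
def n110783 : Q := act 6 n51071
theorem D110783 : act 6 n51071 = n110783 := rfl
theorem F171490 : act 2 n110783 = n107575 := d3_1 D110783 (iv6 D107575) F161771
theorem F171491 : act 5 n110783 = n105463 := d12_1 D110783 (iv6 D105463) (iv5 D48762) D48763 F80537
def n110784 : Q := act 6 n51072
theorem D110784 : act 6 n51072 = n110784 := rfl
theorem F171492 : act 2 n110784 = n107576 := d3_1 D110784 (iv6 D107576) (iv2 F80538)
theorem F171493 : act 4 n110784 = n106803 := d10_1 D110784 (iv6 F171473) F171472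
theorem F171494 : act 7 n110784 = n51073 := d14_2 D51072 D110784 (iv6 D51073) (iv7 D24843) D24842
theorem F171495 : act 1 n107577 = n110784 := d15_1 D107577 F171494 F80543
theorem F171496 : act 1 n110784 = n94323 := d15_0 (iv0 F157310) (iv7 F165964) (iv2 F171492)
def n110785 : Q := act 0 n51073
theorem D110785 : act 0 n51073 = n110785 := rfl
theorem F171497 : act 6 n110785 = n94317 := d21_5 (iv5 D24014) (iv1 F19133) (iv5 F38891) D51073 D110785 (iv5 D94317) F157273 D76498 F114664 (iv1 D49207)
theorem F171498 : act 1 n107576 = n110785 := d15_0 (iv0 D110785) (iv7 F171494) F171492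
theorem F171499 : act 2 n94323 = n110785 := d3_3 F171497 F145461 D94323
theorem F171500 : act 7 n107577 = n110785 := d15_2 (iv0 F157310) D107577 (iv2 F171499)
def n110786 : Q := act 1 n51073
theorem D110786 : act 1 n51073 = n110786 := rfl
theorem F171501 : act 1 n110786 = n107576 := d15_1 D110786 F165964 (iv2 F80543)
theorem F171502 : act 7 n110786 = n94323 := d15_2 (iv0 D110785) D110786 F171499
theorem F171503 : act 2 n107577 = n110786 := d4_3 F171502 F171499 (iv7 F171500)
theorem F171504 : act 3 n94332 = n110786 := d8_3 F171502 F145465 D94332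
def n110787 : Q := act 3 n51075
theorem D110787 : act 3 n51075 = n110787 := rfl
theorem F171505 : act 5 n110787 = n63137 := d6_2 (iv5 F80552) D110787 (iv3 D63137)
def n110788 : Q := act 6 n51075
theorem D110788 : act 6 n51075 = n110788 := rfl
theorem F171506 : act 2 n110788 = n61841 := d3_1 D110788 (iv6 D61841) (iv2 F80551)
theorem F171507 : act 4 n110788 = n51076 := d10_1 D110788 (iv6 D51076) D51075
theorem F171508 : act 0 n61378 = n110788 := d18_2 (iv1 F164126) D61378 F171507 (iv5 F98659) F98658 F163208 (iv4 D51817) (iv0 F168275) (iv5 F79721)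
theorem F171509 : act 1 n63015 = n110788 := d15_0 (iv0 F171508) (iv7 F97524) (iv2 F164135)
def n110789 : Q := act 0 n51076
theorem D110789 : act 0 n51076 = n110789 := rfl
theorem F171510 : act 4 n110789 = n109029 := d18_1 D110789 (iv1 F169039) F98324 (iv5 F79494) (iv4 F168549) F168555 D109011 (iv0 F169931) F98659
theorem F171511 : act 6 n110789 = n108409 := d21_5 (iv5 D11778) D11776 D24845 D51076 D110789 F167594 (iv1 D52424) (iv5 F77829) (iv6 D49258) F37591
theorem F171512 : act 5 n110789 = n58795 := d21_0 (iv1 D58795) (iv5 F79253) (iv6 D50063) (iv1 D24417) (iv6 F19138) (iv5 D11778) D11776 D24845 D51076 D110789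
theorem F171513 : act 2 n61842 = n110789 := d15_3 (iv0 D110789) (iv0 F168457) F170714
theorem E17214 : n110453 = n58795 := ((c2_3 (iv5 F168000) F171513 F171512 (iv2 D110453))).symm
theorem F171514 : act 2 n58795 = n50932 := (sb E17214 (iv2 D110453))
theorem F171515 : act 7 n61843 = n110789 := d15_2 (iv0 D61842) D61843 (iv2 F171513)
theorem F171516 : act 2 n60725 = n61843 := d4_3 F171515 (iv2 F171513) (iv7 F170714)
theorem F171517 : act 4 n63010 = n61843 := d11_3 F171515 F171510 F170718
theorem F171518 : act 1 n61844 = n110789 := d15_1 F168458 (iv7 F171515) (iv2 F171516)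
theorem F171519 : act 3 n61843 = n107626 := d0_2 D60725 F171516 (iv2 F170818) F170819 F170653
theorem F171520 : act 0 n108408 = n63408 := d20_7 (iv4 F169037) (iv1 F169040) F171517 F171519 (iv1 D107626) (iv3 F79237) (iv4 F167593) (iv4 D63408) F164116 (iv1 F79725)
theorem F171521 : act 0 n107624 = n61326 := d20_1 (iv4 F166220) (iv4 D61326) D61325 (iv1 F169000) F168996 (iv4 F169037) (iv1 F169040) F171517 F171519 (iv1 D107626)
theorem F171522 : act 1 n108408 = n62554 := d15_1 (iv0 F171520) F97532 F164136
theorem E17215 : n109988 = n51349 := (c18_3 F163891 D50732 D109988 (iv4 F98198) F98199 (iv4 F167593) F171522 (iv4 D62554) (iv0 F164107) F81248)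
theorem F171523 : act 1 n51349 = n50732 := (sb E17215 (iv0 D109988))
theorem E17216 : n109989 = n51499 := (c15_2 F171523 D109989 (iv7 D51499) (iv2 F81048))
theorem F171524 : act 0 n51499 = n50732 := (sb E17216 (iv1 D109989))
def n110790 : Q := act 7 n51076
theorem D110790 : act 7 n51076 = n110790 := rfl
theorem F171525 : act 2 n110790 = n61844 := d4_1 D110790 (iv7 D61844) (iv2 F80556)
theorem F171526 : act 1 n61843 = n110790 := d15_1 D61843 (iv7 D110790) F80556
theorem F171527 : act 1 n110790 = n61842 := d15_1 F171526 (iv7 F170714) F171516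
def n110791 : Q := act 0 n51077
theorem D110791 : act 0 n51077 = n110791 := rfl
theorem F171528 : act 6 n110791 = n108421 := d21_5 F46937 (iv1 F78074) F78071 D51077 D110791 F167630 (iv1 D106203) F77457 (iv6 D29305) D29302
def n110792 : Q := act 7 n51077
theorem D110792 : act 7 n51077 = n110792 := rfl
theorem F171529 : act 2 n110792 = n61906 := d4_1 D110792 (iv7 D61906) (iv2 F80557)
theorem F171530 : act 4 n110792 = n63108 := d11_1 D110792 (iv7 D63108) (iv4 F80558)
theorem F171531 : act 5 n110792 = n107653 := d13_1 D110792 F166271 F93900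
theorem F171532 : act 1 n61906 = n110791 := d15_0 (iv0 D110791) D110792 F171529
theorem F171533 : act 1 n61905 = n110792 := d15_1 D61905 (iv7 D110792) F80557
theorem F171534 : act 0 n63559 = n63108 := d18_2 (iv1 F168256) D63559 (iv4 F171530) F171531 F166269 (iv0 D74418) F53591 (iv0 F26147) (iv5 F47919)
theorem F171535 : act 1 n110792 = n61904 := d15_0 (iv0 D61904) D61906 (iv2 F171529)
def n110793 : Q := act 0 n51078
theorem D110793 : act 0 n51078 = n110793 := rfl
def n110794 : Q := act 1 n51078
theorem D110794 : act 1 n51078 = n110794 := rfl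
theorem F171536 : act 4 n62124 = n110794 := d20_6 F45628 (iv1 F23827) F47230 (iv3 F48359) (iv1 F48362) (iv3 F96842) (iv1 D110794) F80559 (iv3 D28206) D28204
def n110795 : Q := act 2 n51078
theorem D110795 : act 2 n51078 = n110795 := rfl
theorem F171537 : act 4 n110795 = n59394 := d1_2 (iv4 F80559) D110795 (iv2 D59394)
theorem F171538 : act 6 n110795 = n108425 := d3_2 (iv6 F80560) D110795 (iv2 D108425)
def n110796 : Q := act 5 n51078
theorem D110796 : act 5 n51078 = n110796 := rfl
theorem F171539 : act 3 n110796 = n51079 := d6_1 D110796 (iv5 D51079) D51078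
def n110797 : Q := act 6 n51079
theorem D110797 : act 6 n51079 = n110797 := rfl
theorem F171540 : act 5 n110797 = n108427 := d12_1 D110797 (iv6 D108427) (iv5 D50065) (iv6 F38904) D51079
def n110798 : Q := act 6 n51081
theorem D110798 : act 6 n51081 = n110798 := rfl
theorem F171541 : act 2 n110798 = n59333 := d3_1 D110798 (iv6 D59333) (iv2 F80564)
theorem F171542 : act 3 n110798 = n51087 := d7_1 D110798 (iv6 D51087) (iv3 F80565)
theorem F171543 : act 4 n110798 = n63160 := d10_1 D110798 (iv6 D63160) (iv4 F80566)
theorem F171544 : act 5 n110798 = n110798 := d12_1 D110798 (iv6 D110798) F80567 F38914 (iv5 F80567)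
theorem F171545 : act 7 n110798 = n59339 := d14_2 D51081 D110798 (iv6 D59339) (iv7 D28184) (iv6 F38910)
theorem F171546 : act 0 n60690 = n110798 := d20_10 F171543 (iv1 F102044) (iv4 D63891) (iv3 F102021) (iv1 F48365) F40743 (iv4 F78016) (iv1 F103576) (iv4 D60691) D60690
theorem F171547 : act 1 n60690 = n59374 := d15_1 (iv0 F171546) F93665 (iv2 F171541)
def n110799 : Q := act 3 n51082
theorem D110799 : act 3 n51082 = n110799 := rfl
theorem F171548 : act 7 n110799 = n110787 := d8_2 (iv7 F80571) D110799 (iv3 D110787)
def n110800 : Q := act 6 n51082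
theorem D110800 : act 6 n51082 = n110800 := rfl
theorem F171549 : act 2 n110800 = n74400 := d3_1 D110800 (iv6 D74400) (iv2 F80570)
theorem F171550 : act 4 n110800 = n51083 := d10_1 D110800 (iv6 D51083) D51082
theorem F171551 : act 0 n53524 = n110800 := d21_4 D60580 (iv1 F97501) (iv5 D62530) (iv6 F84438) (iv6 D110800) (iv5 F98269) (iv1 D62975) (iv5 D29788) (iv6 F23732) F46410
def n110801 : Q := act 0 n51083
theorem D110801 : act 0 n51083 = n110801 := rfl
def n110802 : Q := act 7 n51083
theorem D110802 : act 7 n51083 = n110802 := rfl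
theorem F171552 : act 2 n110802 = n74403 := d4_1 D110802 (iv7 D74403) (iv2 F80573)
theorem F171553 : act 6 n110802 = n110790 := d14_1 D110802 (iv7 D110790) (iv6 D51076) (iv7 F38918) D51083
theorem F171554 : act 1 n74403 = n110801 := d15_0 (iv0 D110801) D110802 F171552
theorem F171555 : act 1 n60506 = n110802 := d15_1 (iv0 F95119) (iv7 D110802) F80573
theorem F171556 : act 7 n110801 = n60506 := d15_2 F111653 F171554 (iv2 F96653)
theorem F171557 : act 3 n60554 = n110801 := d20_3 (iv4 F47586) D62651 (iv4 F102085) (iv1 F171554) F111651 (iv4 F163849) (iv1 F163851) F96475 F77905 F47382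
theorem F171558 : act 2 n110801 = n74401 := d15_3 (iv0 D74401) (iv0 F95119) (iv7 F171556)
theorem F171559 : act 3 n74401 = n59378 := d0_2 F171557 F171558 F93680 D62130 F96851
theorem F171560 : act 7 n74401 = n62027 := d4_2 (iv7 F171556) F171558 F96653
theorem F171561 : act 1 n110802 = n74401 := d15_1 F171555 F171560 F96653
def n110803 : Q := act 0 n51084
theorem D110803 : act 0 n51084 = n110803 := rfl
theorem F171562 : act 4 n110803 = n63087 := d18_1 D110803 (iv1 F168750) F168744 F79589 (iv4 F79578) F168445 F170696 (iv0 D106859) (iv5 F80575)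
def n110804 : Q := act 7 n51084
theorem D110804 : act 7 n51084 = n110804 := rfl
theorem F171563 : act 2 n110804 = n106596 := d4_1 D110804 (iv7 D106596) (iv2 F80574)
theorem F171564 : act 5 n110804 = n106861 := d13_1 D110804 (iv7 D106861) (iv5 F80575)
theorem F171565 : act 6 n110804 = n110792 := d14_1 D110804 (iv7 D110792) (iv6 D51077) F38925 D51084
theorem F171566 : act 1 n106596 = n110803 := d15_0 (iv0 D110803) D110804 F171563
theorem F171567 : act 1 n106595 = n110804 := d15_1 D106595 (iv7 D110804) F80574
theorem F171568 : act 4 n108807 = n106595 := d18_7 (iv1 F164682) F169240 (iv1 D50225) F38451 D24497 D50239 D108807 F171567 F171564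
theorem F171569 : act 1 n110804 = n106594 := d15_0 (iv0 D106594) D106596 (iv2 F171563)
def n110805 : Q := act 0 n51085
theorem D110805 : act 0 n51085 = n110805 := rfl
theorem F171570 : act 3 n110805 = n63255 := d20_5 F47922 (iv1 D24855) D24856 D51085 D110805 (iv4 D63255) (iv1 F48035) (iv4 F48005) F48004 (iv1 F47920)
def n110806 : Q := act 1 n51085
theorem D110806 : act 1 n51085 = n110806 := rfl
def n110807 : Q := act 2 n51085
theorem D110807 : act 2 n51085 = n110807 := rfl
theorem F171571 : act 3 n110807 = n110795 := d0_2 D51085 D110807 (iv2 D110795) (iv3 D51078) (iv2 F38928)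
theorem F171572 : act 6 n110807 = n108518 := d3_2 (iv6 F80576) D110807 (iv2 D108518)
theorem F171573 : act 1 n110807 = n63244 := d15_0 (iv0 F168753) F168752 D110807
def n110808 : Q := act 5 n51085
theorem D110808 : act 5 n51085 = n110808 := rfl
theorem F171574 : act 3 n110808 = n51086 := d6_1 D110808 (iv5 D51086) D51085
def n110809 : Q := act 6 n51086
theorem D110809 : act 6 n51086 = n110809 := rfl
theorem F171575 : act 2 n110809 = n110797 := d3_1 D110809 (iv6 D110797) (iv2 F80577)
theorem F171576 : act 5 n110809 = n108521 := d12_1 D110809 (iv6 D108521) (iv5 D50110) (iv6 F38929) D51086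
def n110810 : Q := act 7 n51088
theorem D110810 : act 7 n51088 = n110810 := rfl
theorem F171577 : act 2 n110810 = n51106 := d4_1 D110810 (iv7 D51106) (iv2 F80583)
theorem F171578 : act 5 n110810 = n63374 := d13_1 D110810 (iv7 D63374) (iv5 F80584)
theorem F171579 : act 6 n110810 = n51115 := d14_1 D110810 (iv7 D51115) (iv6 D24878) (iv7 F38937) D51088
theorem F171580 : act 1 n51105 = n110810 := d15_1 D51105 (iv7 D110810) F80583
theorem F171581 : act 1 n110810 = n51104 := d15_1 F171580 (iv7 F168673) F168671
theorem F171582 : act 4 n108105 = n65161 := d18_1 (iv1 F167181) (iv1 D65161) F49038 F24154 (iv4 F24191) D30698 (iv4 F111413) F171580 F171578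
theorem F171583 : act 3 n51181 = n108105 := d20_5 D30608 (iv1 F53845) F53842 (iv3 F78411) (iv1 F80736) F171582 (iv1 D65161) F49038 F24153 D14514
theorem F171584 : act 6 n108105 = n105663 := d7_2 F92827 F171583 (iv3 D105663)
theorem F171585 : act 7 n108105 = n63372 := d8_2 F103541 F171583 F167834
theorem F171586 : act 7 n108540 = n65161 := d11_2 F171585 F167835 (iv4 F171582)
theorem F171587 : act 2 n63372 = n108104 := d15_3 (iv0 D108104) D108105 F171585
theorem F171588 : act 2 n108105 = n63373 := d15_3 F167187 F167188 (iv7 F171585)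
theorem F171589 : act 2 n108541 = n65161 := d1_3 (iv4 F171582) F171588 F168677
theorem F171590 : act 7 n63373 = n108104 := d4_2 (iv7 F171585) F171588 (iv2 F171587)
theorem F171591 : act 7 n65160 = n108541 := d11_2 F171590 (iv4 F167848) (iv4 F168677)
theorem F171592 : act 2 n108540 = n65160 := d4_3 F171591 F171589 (iv7 F171586)
theorem F171593 : act 6 n106877 = n65161 := d10_2 F171584 (iv4 F164719) (iv4 F171582)
theorem F171594 : act 5 n108105 = n107686 := d21_6 (iv5 F45741) F49183 (iv5 F49182) D64734 F164721 (iv6 F171584) (iv1 D107686) F78617 (iv6 D24483) D24480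
theorem F171595 : act 3 n107686 = n58746 := d6_1 F171594 (iv5 F92826) F171583
theorem F171596 : act 7 n107686 = n67604 := d13_2 (iv7 F171585) F171594 (iv5 F167836)
theorem F171597 : act 6 n59633 = n107686 := d21_5 F38988 D30826 F49249 D51089 F102036 (iv5 F171594) (iv1 D108105) F78976 (iv6 D24871) D24869
theorem F171598 : act 2 n67604 = n107685 := d15_3 (iv0 D107685) D107686 F171596
theorem F171599 : act 5 n107685 = n108104 := d2_2 F167836 F171598 (iv2 F171587)
theorem F171600 : act 4 n74521 = n107685 := d18_3 (iv1 D34176) (iv4 F53736) D74521 F171599 (iv4 F167848) (iv0 D65160) F49038 D30594 (iv5 F80930)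
theorem F171601 : act 5 n74521 = n65491 := d17_5 (iv1 D51105) (iv5 F78976) D108104 (iv5 F171599) (iv4 F171600) (iv0 D65491) (iv5 D30699) D30698 (iv4 F111413)
theorem F171602 : act 4 n107686 = n74522 := d20_6 D34188 (iv1 F53778) F49094 (iv3 F49662) (iv1 F92825) (iv3 F171595) (iv1 D74522) F53736 F26184 D16548
theorem F171603 : act 6 n74522 = n66203 := d10_2 F171597 F171602 (iv4 F101811)
theorem F171604 : act 2 n66253 = n74522 := d3_3 F171603 F103603 D66253
theorem F171605 : act 5 n74522 = n65492 := d21_6 D30686 (iv1 F49374) (iv5 D30942) D30943 D66203 (iv6 F171603) (iv1 D65492) (iv5 D30699) (iv6 D14549) D14545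
def n110811 : Q := act 1 n51089
theorem D110811 : act 1 n51089 = n110811 := rfl
theorem F171606 : act 1 n110811 = n51122 := d15_1 D110811 (iv7 D51122) (iv2 F80585)
theorem F171607 : act 7 n110811 = n51119 := d15_2 (iv0 F102036) D110811 F103608
theorem F171608 : act 3 n64595 = n110811 := d20_3 (iv4 F99541) (iv1 F99544) D64595 (iv1 D110811) (iv3 F84154) F84155 (iv1 F102033) (iv4 D53272) (iv3 F102015) (iv1 F48534)
theorem F171609 : act 2 n110811 = n51120 := d0_1 F171608 F101843 (iv2 F103535) D59637 F103593
theorem F171610 : act 4 n66204 = n110811 := d20_2 (iv4 F49393) (iv1 F101805) (iv3 F171608) F100529 F76889 (iv4 F76896) D105580 F162186 F111140 (iv1 F49379)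
def n110812 : Q := act 7 n51089
theorem D110812 : act 7 n51089 = n110812 := rfl
theorem F171611 : act 2 n110812 = n51122 := d4_1 D110812 (iv7 D51122) (iv2 F80585)
theorem F171612 : act 5 n110812 = n108511 := d13_1 D110812 F167758 F96392
theorem F171613 : act 6 n110812 = n51130 := d14_1 D110812 (iv7 D51130) (iv6 D24884) (iv7 F38954) D51089
theorem F171614 : act 1 n51120 = n110812 := d15_1 D51120 (iv7 D110812) F80585
theorem F171615 : act 1 n110812 = n51119 := d15_1 F171614 (iv7 F171607) F171609
def n110813 : Q := act 0 n51090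
theorem D110813 : act 0 n51090 = n110813 := rfl
theorem F171616 : act 1 n66217 = n110813 := d15_0 (iv0 D110813) F80587 D66217
def n110814 : Q := act 1 n51090
theorem D110814 : act 1 n51090 = n110814 := rfl
def n110815 : Q := act 2 n51090
theorem D110815 : act 2 n51090 = n110815 := rfl
theorem F171617 : act 3 n110815 = n51136 := d0_2 D51090 D110815 (iv2 D51136) (iv3 D24886) (iv2 F38947)
theorem F171618 : act 4 n110815 = n64559 := d1_2 (iv4 F80586) D110815 (iv2 D64559)
theorem F171619 : act 7 n110815 = n66217 := d4_2 (iv7 F80587) D110815 (iv2 D66217)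
theorem F171620 : act 1 n110815 = n66215 := d15_0 (iv0 D66215) (iv7 F80587) D110815
theorem F171621 : act 1 n110814 = n66217 := d15_1 D110814 (iv7 F171619) (iv2 D110815)
theorem F171622 : act 1 n66216 = n110815 := d15_1 D66216 F171619 (iv2 D66217)
def n110816 : Q := act 5 n51090
theorem D110816 : act 5 n51090 = n110816 := rfl
theorem F171623 : act 3 n110816 = n51091 := d6_1 D110816 (iv5 D51091) D51090
theorem F171624 : act 7 n110816 = n51519 := d13_2 (iv7 F80587) D110816 F81284
def n110817 : Q := act 6 n51091
theorem D110817 : act 6 n51091 = n110817 := rfl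
theorem F171625 : act 2 n110817 = n51141 := d3_1 D110817 (iv6 D51141) (iv2 F80588)
theorem F171626 : act 4 n110817 = n51524 := d10_1 D110817 (iv6 D51524) (iv4 F80590)
def n110818 : Q := act 0 n51092
theorem D110818 : act 0 n51092 = n110818 := rfl
theorem F171627 : act 1 n51097 = n110818 := d15_0 (iv0 D110818) (iv7 F98292) F98289
def n110819 : Q := act 0 n51093
theorem D110819 : act 0 n51093 = n110819 := rfl
def n110820 : Q := act 1 n51093
theorem D110820 : act 1 n51093 = n110820 := rfl
theorem F171628 : act 4 n110820 = n65093 := d17_9 (iv1 D65093) D65094 F101159 (iv5 D65449) (iv4 F80615) F80616 (iv0 F80309) (iv5 F80597) D110820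
theorem F171629 : act 3 n51156 = n110820 := d20_5 D30584 (iv1 F53826) F53823 (iv3 F78635) (iv1 F80701) F171628 (iv1 D65093) F48989 F24148 D14506
theorem F171630 : act 7 n110820 = n107758 := d8_2 (iv7 F166417) F171629 (iv3 D107758)
theorem F171631 : act 2 n107758 = n110819 := d15_3 (iv0 D110819) D110820 F171630
theorem F171632 : act 6 n110819 = n51128 := d3_2 (iv6 F166492) F171631 (iv2 F166458)
def n110821 : Q := act 1 n51094
theorem D110821 : act 1 n51094 = n110821 := rfl
theorem F171633 : act 1 n110821 = n107687 := d15_1 D110821 (iv7 D107687) (iv2 F80598)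
theorem F171634 : act 7 n110821 = n107685 := d15_2 (iv0 F167840) D110821 (iv2 F171598)
theorem F171635 : act 5 n110821 = n63373 := d18_9 (iv1 D63373) (iv4 F79279) (iv1 F167851) (iv4 D65166) F80934 D74525 (iv0 F165805) F80882 D110821
theorem F171636 : act 2 n107686 = n110821 := d2_3 F171635 (iv2 F171588) F171594
theorem F171637 : act 6 n51119 = n110821 := d21_5 (iv5 D14610) D14608 (iv5 F38959) D24881 D51119 F171635 (iv1 D63373) (iv5 F80584) (iv6 D51088) F38938
theorem F171638 : act 4 n110821 = n66253 := d10_1 F171637 (iv6 D66253) (iv4 F103610)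
theorem F171639 : act 7 n66253 = n74521 := d11_2 (iv7 F171634) F171638 F171600
theorem F171640 : act 0 n66253 = n51299 := d18_2 (iv1 F171633) F171638 F80922 F39115 (iv4 F78083) D106868 (iv4 F167974) F167969 (iv5 F166324)
theorem F171641 : act 1 n66253 = n74524 := d18_6 (iv1 F79388) (iv4 F100941) (iv1 F167841) (iv4 F168677) (iv5 F171635) F171638 F111909 (iv0 F80924) F80923
def n110822 : Q := act 7 n51094
theorem D110822 : act 7 n51094 = n110822 := rfl
theorem F171642 : act 2 n110822 = n107687 := d4_1 D110822 (iv7 D107687) (iv2 F80598)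
theorem F171643 : act 5 n110822 = n108602 := d13_1 D110822 (iv7 D108602) (iv5 F80599)
theorem F171644 : act 1 n107686 = n110822 := d15_1 D107686 (iv7 D110822) F80598
theorem F171645 : act 1 n110822 = n107685 := d15_1 F171644 (iv7 F171634) (iv2 F171636)
def n110823 : Q := act 0 n51095
theorem D110823 : act 0 n51095 = n110823 := rfl
def n110824 : Q := act 1 n51095
theorem D110824 : act 1 n51095 = n110824 := rfl
def n110825 : Q := act 2 n51095
theorem D110825 : act 2 n51095 = n110825 := rfl
theorem F171646 : act 4 n110825 = n51160 := d1_2 (iv4 F80600) D110825 (iv2 D51160)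
theorem F171647 : act 6 n110825 = n51136 := d3_2 (iv6 F80601) D110825 (iv2 D51136)
def n110826 : Q := act 5 n51095
theorem D110826 : act 5 n51095 = n110826 := rfl
theorem F171648 : act 3 n110826 = n51096 := d6_1 D110826 (iv5 D51096) D51095
def n110827 : Q := act 6 n51096
theorem D110827 : act 6 n51096 = n110827 := rfl
theorem F171649 : act 5 n110827 = n51141 := d12_1 D110827 (iv6 D51141) (iv5 D24887) (iv6 F38969) D51096
def n110828 : Q := act 3 n51098
theorem D110828 : act 3 n51098 = n110828 := rfl
theorem F171650 : act 4 n110828 = n105523 := d5_2 D51098 D110828 (iv3 D105523) (iv4 D48789) (iv3 F38975)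
theorem F171651 : act 5 n110828 = n51515 := d6_2 (iv5 F80608) D110828 (iv3 D51515)
theorem F171652 : act 7 n110828 = n66016 := d8_2 (iv7 F80607) D110828 (iv3 D66016)
def n110829 : Q := act 6 n51098
theorem D110829 : act 6 n51098 = n110829 := rfl
theorem F171653 : act 2 n110829 = n58793 := d3_1 D110829 (iv6 D58793) (iv2 F80606)
theorem F171654 : act 4 n110829 = n51099 := d10_1 D110829 (iv6 D51099) D51098
theorem F171655 : act 0 n110829 = n51388 := d21_4 D11884 D25030 (iv5 F80608) D110829 F81115 D108798 F168720 (iv5 D51498) (iv6 D25025) (iv1 D11882)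
theorem F171656 : act 1 n110829 = n51391 := d15_1 (iv0 F171655) F164335 (iv2 F164348)
def n110830 : Q := act 0 n51099
theorem D110830 : act 0 n51099 = n110830 := rfl
theorem F171657 : act 5 n110830 = n61843 := d17_1 D110830 (iv1 D61843) (iv5 F77457) F77456 D50367 D109098 (iv5 F169087) (iv0 F171655) F171654
theorem F171658 : act 6 n110830 = n106859 := d21_5 (iv5 D14146) F19350 D24867 D51099 D110830 F164675 (iv1 D60512) (iv5 F81277) (iv6 D51494) (iv1 F39260)
theorem F171659 : act 2 n58794 = n110830 := d15_3 (iv0 D110830) (iv0 F168003) F170711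
theorem F171660 : act 3 n110830 = n105281 := d0_2 F168453 F171659 F170676 (iv3 D50928) F170647
theorem F171661 : act 7 n110830 = n58795 := d4_2 F170711 F171659 F171514
theorem F171662 : act 1 n58796 = n110830 := d15_1 F168004 F171661 F171514
def n110831 : Q := act 7 n51099
theorem D110831 : act 7 n51099 = n110831 := rfl
theorem F171663 : act 2 n110831 = n58796 := d4_1 D110831 (iv7 D58796) (iv2 F80611)
theorem F171664 : act 3 n110831 = n105527 := d8_1 D110831 (iv7 D105527) (iv3 F80612)
theorem F171665 : act 5 n110831 = n108515 := d13_1 D110831 (iv7 D108515) (iv5 F80613)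
theorem F171666 : act 1 n58795 = n110831 := d15_1 D58795 (iv7 D110831) F80611
theorem F171667 : act 1 n110831 = n58794 := d15_1 F171666 (iv7 F170711) (iv2 F171514)
theorem F171668 : act 4 n109497 = n110831 := d20_8 (iv4 D109357) (iv1 D50458) F38602 F18971 D11641 D24608 D50510 D109497 F171664 (iv1 F169872)
theorem F171669 : act 7 n110829 = n109497 := d11_0 F171668 (iv7 D110831) (iv4 F171654)
def n110832 : Q := act 0 n51100
theorem D110832 : act 0 n51100 = n110832 := rfl
theorem F171670 : act 4 n110832 = n108894 := d18_1 D110832 (iv1 F168896) F101113 (iv5 F79467) (iv4 F168491) F168494 F101603 (iv0 D65879) (iv5 F80616)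
def n110833 : Q := act 7 n51100
theorem D110833 : act 7 n51100 = n110833 := rfl
theorem F171671 : act 2 n110833 = n65916 := d4_1 D110833 (iv7 D65916) (iv2 F80614)
theorem F171672 : act 4 n110833 = n65450 := d11_1 D110833 (iv7 D65450) (iv4 F80615)
theorem F171673 : act 5 n110833 = n65880 := d13_1 D110833 (iv7 D65880) (iv5 F80616)
theorem F171674 : act 6 n110833 = n107653 := d14_1 D110833 F166271 (iv6 D59489) F45746 D51100
theorem F171675 : act 1 n65916 = n110832 := d15_0 (iv0 D110832) D110833 F171671
theorem F171676 : act 1 n65915 = n110833 := d15_1 D65915 (iv7 D110833) F80614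
theorem F171677 : act 4 n65417 = n65915 := d18_7 (iv1 F101538) (iv4 F81102) F98654 F79462 F38405 (iv4 F49132) D65417 F171676 F171673
theorem F171678 : act 1 n110833 = n65914 := d15_0 (iv0 D65914) D65916 (iv2 F171671)
def n110834 : Q := act 0 n51101
theorem D110834 : act 0 n51101 = n110834 := rfl
theorem F171679 : act 5 n110834 = n109087 := d19_1 D110834 (iv4 D109087) F79741 (iv1 F79736) F79738 (iv4 D25058) (iv3 D11904) (iv1 F8506) (iv5 D2322) (iv4 F4876) F9986 (iv1 D1105) F1276 (iv4 F2031) (iv3 F3659) D5520 D11793 D24870 D51101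
def n110835 : Q := act 1 n51101
theorem D110835 : act 1 n51101 = n110835 := rfl
def n110836 : Q := act 2 n51101
theorem D110836 : act 2 n51101 = n110836 := rfl
def n110837 : Q := act 5 n51101
theorem D110837 : act 5 n51101 = n110837 := rfl
theorem F171680 : act 3 n110837 = n51102 := d6_1 D110837 (iv5 D51102) D51101
def n110838 : Q := act 6 n51101
theorem D110838 : act 6 n51101 = n110838 := rfl
theorem F171681 : act 3 n110838 = n51103 := d7_1 D110838 (iv6 D51103) D51101
def n110839 : Q := act 6 n51102
theorem D110839 : act 6 n51102 = n110839 := rfl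
theorem F171682 : act 4 n110839 = n51518 := d10_1 D110839 (iv6 D51518) F80618
def n110840 : Q := act 5 n51103
theorem D110840 : act 5 n51103 = n110840 := rfl
def n110841 : Q := act 6 n51105
theorem D110841 : act 6 n51105 = n110841 := rfl
theorem F171683 : act 3 n110841 = n51179 := d7_1 D110841 (iv6 D51179) (iv3 F111412)
theorem F171684 : act 4 n110841 = n65490 := d10_1 D110841 (iv6 D65490) (iv4 F111413)
theorem F171685 : act 0 n65490 = n67398 := d20_7 D67412 F103276 F101295 F100234 (iv1 F100275) (iv3 F171683) F171684 (iv4 D67398) F49580 D31333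
def n110842 : Q := act 0 n51107
theorem D110842 : act 0 n51107 = n110842 := rfl
theorem F171686 : act 3 n110842 = n65988 := d20_5 D53470 F100756 F80631 (iv3 F80621) D110842 (iv4 D65988) (iv1 F101560) F101558 (iv3 F81176) (iv1 F81179)
theorem F171687 : act 2 n107489 = n110842 := d15_3 (iv0 D110842) (iv0 F85074) (iv7 F165843)
theorem F171688 : act 7 n110842 = n107617 := d4_2 (iv7 F165843) F171687 F166049
theorem E17217 : n108824 = n107489 := ((c15_4 (iv0 D108824) (iv0 F166053) (iv7 F171688) (iv2 F171687))).symm
theorem F171689 : act 1 n107489 = n50248 := (sb E17217 (iv0 D108824))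
theorem F171690 : act 1 n108825 = n110842 := d15_1 F168796 F171688 F166049
theorem F171691 : act 4 n53242 = n110842 := d20_2 (iv4 F40800) D53242 F171686 (iv1 F101676) F165863 F165859 (iv1 F100433) (iv4 D30368) (iv3 F40803) (iv1 D25818)
theorem F171692 : act 7 n74229 = n53242 := d11_0 F171691 F171688 F166051
def n110843 : Q := act 7 n51107
theorem D110843 : act 7 n51107 = n110843 := rfl
theorem F171693 : act 2 n110843 = n108825 := d4_1 D110843 (iv7 D108825) (iv2 F80620)
theorem F171694 : act 3 n110843 = n51115 := d8_1 D110843 (iv7 D51115) (iv3 F80621)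
theorem F171695 : act 1 n107617 = n110843 := d15_1 (iv0 F166053) (iv7 D110843) F80620
theorem F171696 : act 1 n110843 = n107489 := d15_1 F171695 F165843 (iv2 F166049)
def n110844 : Q := act 3 n51108
theorem D110844 : act 3 n51108 = n110844 := rfl
theorem F171697 : act 4 n110844 = n58771 := d5_2 D51108 D110844 (iv3 D58771) (iv4 D27944) (iv3 F39001)
theorem F171698 : act 5 n110844 = n51517 := d6_2 (iv5 F80624) D110844 (iv3 D51517)
theorem F171699 : act 7 n110844 = n58792 := d8_2 (iv7 F80623) D110844 (iv3 D58792)
def n110845 : Q := act 6 n51108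
theorem D110845 : act 6 n51108 = n110845 := rfl
theorem F171700 : act 2 n110845 = n66017 := d3_1 D110845 (iv6 D66017) (iv2 F80622)
theorem F171701 : act 4 n110845 = n51109 := d10_1 D110845 (iv6 D51109) D51108
theorem F171702 : act 0 n51423 = n110845 := d21_4 D24552 D50352 F79732 (iv6 F81196) (iv6 D110845) F80624 (iv1 D25031) (iv5 D11884) F8491 D11615
theorem F171703 : act 7 n108737 = n110845 := d11_0 F171701 (iv7 F101580) F168691
theorem F171704 : act 1 n51421 = n110845 := d18_6 F167338 (iv4 F167337) F167339 F111767 (iv5 F79382) D51421 F171701 (iv0 F82768) (iv5 F98569)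
def n110846 : Q := act 1 n51110
theorem D110846 : act 1 n51110 = n110846 := rfl
def n110847 : Q := act 2 n51110
theorem D110847 : act 2 n51110 = n110847 := rfl
def n110848 : Q := act 5 n51110
theorem D110848 : act 5 n51110 = n110848 := rfl
theorem F171705 : act 3 n110848 = n51111 := d6_1 D110848 (iv5 D51111) D51110
def n110849 : Q := act 6 n51110
theorem D110849 : act 6 n51110 = n110849 := rfl
theorem F171706 : act 3 n110849 = n51112 := d7_1 D110849 (iv6 D51112) D51110
def n110850 : Q := act 6 n51111
theorem D110850 : act 6 n51111 = n110850 := rfl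
theorem F171707 : act 4 n110850 = n51516 := d10_1 D110850 (iv6 D51516) (iv4 F80629)
def n110851 : Q := act 5 n51112
theorem D110851 : act 5 n51112 = n110851 := rfl
def n110852 : Q := act 7 n51112
theorem D110852 : act 7 n51112 = n110852 := rfl
theorem F171708 : act 4 n110852 = n51115 := d11_1 D110852 (iv7 D51115) (iv4 F80631)
theorem F171709 : act 1 n51448 = n110852 := d15_1 (iv0 F93911) (iv7 D110852) (iv2 F93909)
def n110853 : Q := act 0 n51116
theorem D110853 : act 0 n51116 = n110853 := rfl
theorem F171710 : act 5 n110853 = n109194 := d19_1 D110853 (iv4 D109194) (iv3 D50391) (iv1 D24563) (iv5 D11618) (iv4 D5396) F3588 D2230 F4970 (iv4 D2687) (iv3 F4272) (iv1 F9996) F8291 (iv4 F10504) (iv3 F11247) D14608 (iv5 F38959) D24880 D51116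
def n110854 : Q := act 1 n51116
theorem D110854 : act 1 n51116 = n110854 := rfl
def n110855 : Q := act 2 n51116
theorem D110855 : act 2 n51116 = n110855 := rfl
def n110856 : Q := act 5 n51116
theorem D110856 : act 5 n51116 = n110856 := rfl
theorem F171711 : act 3 n110856 = n51117 := d6_1 D110856 (iv5 D51117) D51116
def n110857 : Q := act 6 n51116
theorem D110857 : act 6 n51116 = n110857 := rfl
theorem F171712 : act 3 n110857 = n51118 := d7_1 D110857 (iv6 D51118) D51116
def n110858 : Q := act 6 n51117
theorem D110858 : act 6 n51117 = n110858 := rfl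
theorem F171713 : act 4 n110858 = n51495 := d10_1 D110858 (iv6 D51495) (iv4 F80635)
def n110859 : Q := act 5 n51118
theorem D110859 : act 5 n51118 = n110859 := rfl
def n110860 : Q := act 5 n51119
theorem D110860 : act 5 n51119 = n110860 := rfl
def n110861 : Q := act 5 n51120
theorem D110861 : act 5 n51120 = n110861 := rfl
theorem F171714 : act 3 n110861 = n51208 := d6_1 D110861 (iv5 D51208) (iv3 F101843)
theorem F171715 : act 6 n110861 = n61999 := d21_3 (iv5 F171612) (iv1 F171614) D110861 F103577 (iv6 D50066) F38298 (iv1 F18842) D24436 D50105 D108511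
def n110862 : Q := act 6 n51120
theorem D110862 : act 6 n51120 = n110862 := rfl
theorem F171716 : act 3 n110862 = n51209 := d7_1 D110862 (iv6 D51209) (iv3 F101843)
theorem F171717 : act 4 n110862 = n66257 := d10_1 D110862 (iv6 D66257) (iv4 F101844)
def n110863 : Q := act 0 n51123
theorem D110863 : act 0 n51123 = n110863 := rfl
theorem F171718 : act 5 n110863 = n64670 := d21_0 (iv1 F166475) (iv5 F166218) F166219 (iv1 D67507) (iv6 D31367) F39931 F45101 F45100 D51123 D110863
theorem F171719 : act 3 n66543 = n110863 := d6_3 F171718 F166470 F166463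
theorem F171720 : act 4 n53286 = n110863 := d18_3 (iv1 D25835) (iv4 F40818) D53286 F171718 (iv4 D64670) (iv0 D30426) F24103 D14454 (iv5 F83877)
theorem F171721 : act 0 n53597 = n51126 := d20_1 D53597 F80646 (iv3 F80642) D110863 (iv3 F171719) (iv4 D66543) (iv1 F102387) F102383 (iv3 F84527) (iv1 F84530)
def n110864 : Q := act 7 n51123
theorem D110864 : act 7 n51123 = n110864 := rfl
theorem F171722 : act 3 n110864 = n51130 := d8_1 D110864 (iv7 D51130) (iv3 F80642)
def n110865 : Q := act 1 n51124
theorem D110865 : act 1 n51124 = n110865 := rfl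
def n110866 : Q := act 2 n51124
theorem D110866 : act 2 n51124 = n110866 := rfl
def n110867 : Q := act 5 n51124
theorem D110867 : act 5 n51124 = n110867 := rfl
theorem F171723 : act 3 n110867 = n51125 := d6_1 D110867 (iv5 D51125) D51124
def n110868 : Q := act 6 n51124
theorem D110868 : act 6 n51124 = n110868 := rfl
theorem F171724 : act 3 n110868 = n51126 := d7_1 D110868 (iv6 D51126) D51124
def n110869 : Q := act 6 n51125
theorem D110869 : act 6 n51125 = n110869 := rfl
theorem F171725 : act 4 n110869 = n51483 := d10_1 D110869 (iv6 D51483) (iv4 F80643)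
def n110870 : Q := act 5 n51126
theorem D110870 : act 5 n51126 = n110870 := rfl
def n110871 : Q := act 7 n51126
theorem D110871 : act 7 n51126 = n110871 := rfl
theorem F171726 : act 4 n110871 = n51130 := d11_1 D110871 (iv7 D51130) (iv4 F80646)
def n110872 : Q := act 4 n51127
theorem D110872 : act 4 n51127 = n110872 := rfl
theorem F171727 : act 2 n110872 = n53587 := d1_1 D110872 F166465 (iv2 F166457)
theorem F171728 : act 7 n110872 = n53588 := d11_2 F166456 D110872 (iv4 F166139)
theorem F171729 : act 0 n110872 = n53590 := d18_2 D51127 D110872 F84544 (iv5 F53528) (iv4 F111578) (iv0 F167650) F167648 (iv0 F111421) (iv5 D51129)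
theorem F171730 : act 1 n110872 = n51133 := d18_6 (iv1 D31044) (iv4 F49451) D66495 (iv4 F102386) (iv5 F166202) D110872 F80657 D53579 (iv5 F95818)
def n110873 : Q := act 6 n51127
theorem D110873 : act 6 n51127 = n110873 := rfl
theorem F171731 : act 3 n110873 = n51221 := d7_1 D110873 (iv6 D51221) (iv3 F166201)
theorem F171732 : act 5 n110873 = n110604 := d21_6 (iv5 F49258) (iv1 F49259) F24274 D24884 D51127 D110873 (iv1 D110604) F80456 (iv6 D28250) D28248
theorem E17218 : n110604 = n107523 := (c6_1 F171732 (iv3 D107523) (iv5 F80814) (iv3 F171731))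
theorem F171733 : act 0 n107523 = n51001 := (sb E17218 (iv1 D110604))
theorem F171734 : act 1 n107523 = n65903 := (sb E17218 F171183)
theorem F171735 : act 5 n107523 = n110873 := (sb E17218 (iv5 F171732))
theorem E17219 : n108745 = n108729 := (c20_2 F80455 D108745 (iv4 D108729) D108728 F169190 F165118 (iv4 F165160) (iv1 F165893) (iv4 D107524) D107523 F171733)
theorem F171736 : act 1 n108729 = n50212 := (sb E17219 (iv0 D108745))
theorem F171737 : act 2 n68183 = n110603 := d15_3 (iv0 D110603) (iv0 F171733) F166484
def n110874 : Q := act 4 n51128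
theorem D110874 : act 4 n51128 = n110874 := rfl
theorem F171738 : act 2 n110874 = n53588 := d1_1 D110874 (iv4 F166139) F166458
theorem F171739 : act 7 n110874 = n53587 := d11_2 (iv7 F166459) D110874 F166465
theorem F171740 : act 0 n53590 = n110874 := d20_7 F48878 (iv1 F166059) (iv4 D30432) (iv3 F161293) (iv1 F20447) (iv3 F41015) (iv4 F84544) (iv4 D110874) F166473 (iv1 D64776)
theorem F171741 : act 1 n51133 = n110874 := d15_0 (iv0 F171740) (iv7 D53590) (iv2 F80656)
def n110875 : Q := act 5 n51128
theorem D110875 : act 5 n51128 = n110875 := rfl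
theorem F171742 : act 2 n110875 = n66548 := d2_1 D110875 (iv5 F166140) F166458
theorem F171743 : act 7 n110875 = n66543 := d13_2 (iv7 F166459) D110875 (iv5 F166463)
theorem F171744 : act 4 n110875 = n66496 := d18_5 F84524 (iv4 F84544) F171740 (iv4 D110874) D110875 F102380 F49467 F49454 (iv5 F84523)
theorem F171745 : act 0 n110875 = n60452 := d18_0 F94995 (iv1 F166088) (iv4 D31063) (iv5 F80864) D53593 (iv0 F166482) F80646 D51128 D110875
theorem F171746 : act 6 n63368 = n110875 := d21_5 (iv5 D34130) F46509 F38994 D29941 D63368 (iv5 D110875) (iv1 D51128) D51129 F80648 (iv1 F53571)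
theorem F171747 : act 2 n108222 = n63368 := d3_3 F171746 F171742 (iv6 F167336)
theorem F171748 : act 7 n63369 = n108222 := d15_2 (iv0 D63368) D63369 F171747
theorem F171749 : act 3 n52094 = n63369 := d8_3 F171748 (iv3 D108222) F166440
theorem F171750 : act 4 n63369 = n74458 := d20_6 D34165 F53705 F49089 (iv3 F79064) (iv1 F82347) F171749 (iv1 D74458) F53636 F26168 D16540
theorem F171751 : act 7 n74458 = n66550 := d11_2 (iv7 F171748) F171750 F167337
theorem F171752 : act 2 n66550 = n74457 := d15_3 (iv0 D74457) D74458 F171751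
theorem F171753 : act 2 n74458 = n108448 := d15_3 F167679 (iv0 F167339) (iv7 F171751)
theorem F171754 : act 7 n108448 = n74457 := d4_2 (iv7 F171751) F171753 (iv2 F171752)
theorem F171755 : act 4 n74457 = n63368 := d1_2 (iv4 F167337) F171752 (iv2 F171747)
theorem F171756 : act 6 n74457 = n66496 := d3_2 D66550 F171752 F166460
theorem F171757 : act 1 n110875 = n105590 := d15_1 (iv0 F171745) (iv7 D105590) (iv2 F94994)
def n110876 : Q := act 1 n51129
theorem D110876 : act 1 n51129 = n110876 := rfl
theorem F171758 : act 1 n110876 = n63360 := d15_1 D110876 (iv7 D63360) (iv2 F80647)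
theorem F171759 : act 7 n110876 = n63358 := d15_2 (iv0 F111421) D110876 (iv2 F112155)
theorem F171760 : act 5 n62987 = n110876 := d21_0 (iv1 D110876) (iv5 D51129) (iv6 D24884) (iv1 D11800) (iv6 F19166) (iv5 D11790) (iv1 F19525) D14160 D29799 D62987
theorem F171761 : act 2 n110876 = n63359 := d2_1 F171760 (iv5 F112152) F112148
theorem F171762 : act 3 n107621 = n110876 := d0_0 F171761 F112153 F103504 (iv3 F167018) (iv2 F167031)
theorem F171763 : act 4 n108436 = n110876 := d1_0 F171761 F112157 F167656
theorem F171764 : act 1 n63360 = n67583 := d15_1 F171758 (iv7 F112154) (iv2 F171761)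
theorem F171765 : act 5 n66551 = n108436 := d17_3 (iv1 D31058) D31059 D66551 F171763 (iv5 F171760) (iv0 D62987) (iv5 F76898) (iv0 F166498) (iv4 D66548)
theorem E17220 : n65486 = n64971 := (c18_6 (iv1 F79265) (iv4 F111578) (iv1 F167654) F171763 (iv5 F171760) (iv4 F112150) (iv0 D64971) F48917 D30525 (iv5 F79261))
theorem F171766 : act 4 n64971 = n62987 := (sb E17220 F112150)
theorem F171767 : act 6 n64971 = n30697 := (sb E17220 (iv6 D65486))
def n110877 : Q := act 4 n51129
theorem D110877 : act 4 n51129 = n110877 := rfl
theorem F171768 : act 2 n110877 = n63357 := d1_1 D110877 F98661 (iv2 F80647)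
theorem F171769 : act 6 n110877 = n60504 := d10_2 (iv6 F80648) D110877 (iv4 D60504)
theorem F171770 : act 1 n110877 = n74363 := d18_6 (iv1 F84530) D53597 F171721 F80646 D51129 D110877 (iv4 D74363) F79266 (iv5 F84528)
theorem F171771 : act 0 n110877 = n74362 := d20_1 D110877 (iv4 D74362) F111338 F100082 F78142 (iv4 F100586) (iv1 F111095) F167032 F171762 (iv1 D110876)
def n110878 : Q := act 7 n51129
theorem D110878 : act 7 n51129 = n110878 := rfl
theorem F171772 : act 2 n110878 = n63360 := d4_1 D110878 (iv7 D63360) (iv2 F80647)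
theorem F171773 : act 5 n110878 = n51130 := d13_1 D110878 (iv7 D51130) D51129
theorem F171774 : act 6 n110878 = n63367 := d14_1 D110878 (iv7 D63367) (iv6 D29939) (iv7 F46363) (iv6 F80648)
theorem F171775 : act 1 n63359 = n110878 := d15_1 D63359 (iv7 D110878) F80647
theorem F171776 : act 1 n110878 = n63358 := d15_1 F171775 (iv7 F171759) F171761
theorem F171777 : act 0 n108222 = n63370 := d21_4 F171773 (iv1 F93969) F166140 (iv6 F167336) (iv6 F167185) F167184 (iv1 F168676) (iv5 D108716) (iv6 F112156) (iv1 F171776)
theorem F171778 : act 0 n52148 = n108223 := d20_7 (iv4 F167694) (iv1 F167695) (iv4 D74465) D74464 (iv1 F165262) F79310 (iv4 F82436) (iv4 D108223) D108222 F171777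
def n110879 : Q := act 0 n51131
theorem D110879 : act 0 n51131 = n110879 := rfl
theorem F171779 : act 1 n66199 = n110879 := d15_0 (iv0 D110879) F80650 D66199
def n110880 : Q := act 1 n51131
theorem D110880 : act 1 n51131 = n110880 := rfl
def n110881 : Q := act 2 n51131
theorem D110881 : act 2 n51131 = n110881 := rfl
theorem F171780 : act 3 n110881 = n53583 := d0_2 D51131 D110881 (iv2 D53583) (iv3 D25948) F39016
theorem F171781 : act 4 n110881 = n66491 := d1_2 (iv4 F80649) D110881 (iv2 D66491)
theorem F171782 : act 7 n110881 = n66199 := d4_2 (iv7 F80650) D110881 (iv2 D66199)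
theorem F171783 : act 1 n110881 = n66197 := d15_0 (iv0 D66197) (iv7 F80650) D110881
theorem F171784 : act 1 n110880 = n66199 := d15_1 D110880 (iv7 F171782) (iv2 D110881)
theorem F171785 : act 1 n66198 = n110881 := d15_1 D66198 F171782 (iv2 D66199)
def n110882 : Q := act 5 n51131
theorem D110882 : act 5 n51131 = n110882 := rfl
theorem F171786 : act 3 n110882 = n51132 := d6_1 D110882 (iv5 D51132) D51131
theorem F171787 : act 7 n110882 = n66200 := d13_2 (iv7 F80650) D110882 (iv5 D66200)
def n110883 : Q := act 6 n51131
theorem D110883 : act 6 n51131 = n110883 := rfl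
theorem F171788 : act 3 n110883 = n51133 := d7_1 D110883 (iv6 D51133) D51131
theorem F171789 : act 4 n110883 = n66493 := d10_1 D110883 (iv6 D66493) (iv4 F80649)
def n110884 : Q := act 6 n51132
theorem D110884 : act 6 n51132 = n110884 := rfl
theorem F171790 : act 2 n110884 = n53586 := d3_1 D110884 (iv6 D53586) (iv2 F80651)
theorem F171791 : act 4 n110884 = n51434 := d10_1 D110884 (iv6 D51434) (iv4 F80652)
def n110885 : Q := act 5 n51133
theorem D110885 : act 5 n51133 = n110885 := rfl
theorem F171792 : act 2 n110885 = n53589 := d2_1 D110885 (iv5 D53589) (iv2 F80656)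
def n110886 : Q := act 7 n51133
theorem D110886 : act 7 n51133 = n110886 := rfl
theorem F171793 : act 2 n110886 = n53590 := d4_1 D110886 (iv7 D53590) (iv2 F80656)
theorem F171794 : act 4 n110886 = n53580 := d11_1 D110886 (iv7 D53580) (iv4 F80657)
theorem F171795 : act 6 n110886 = n66206 := d14_1 D110886 (iv7 D66206) (iv6 D30943) (iv7 F39014) D51133
theorem F171796 : act 1 n53588 = n110886 := d15_1 D53588 (iv7 D110886) F80656
theorem F171797 : act 1 n110886 = n53587 := d15_1 F171796 (iv7 F171739) F171738
def n110887 : Q := act 0 n51134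
theorem D110887 : act 0 n51134 = n110887 := rfl
theorem F171798 : act 2 n51138 = n110887 := d15_3 (iv0 D110887) (iv0 D51134) D51138
theorem F171799 : act 3 n110887 = n66217 := d0_2 (iv3 F80660) F171798 (iv2 D66217) (iv3 D30947) (iv2 F39019)
theorem F171800 : act 4 n110887 = n51225 := d1_2 (iv4 F80661) F171798 (iv2 F80816)
theorem F171801 : act 7 n110887 = n51136 := d4_2 D51138 F171798 (iv2 D51136)
theorem F171802 : act 1 n51135 = n110887 := d15_1 D51135 F171801 (iv2 D51136)
def n110888 : Q := act 2 n51134
theorem D110888 : act 2 n51134 = n110888 := rfl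
theorem F171803 : act 7 n51135 = n110888 := d15_2 (iv0 D51134) D51135 (iv2 D110888)
def n110889 : Q := act 3 n51134
theorem D110889 : act 3 n51134 = n110889 := rfl
def n110890 : Q := act 4 n51134
theorem D110890 : act 4 n51134 = n110890 := rfl
theorem F171804 : act 0 n107281 = n110890 := d20_10 (iv4 D110890) D110887 F171800 (iv3 F80825) (iv1 F80827) F102756 F102753 F100688 F84559 D107281
def n110891 : Q := act 5 n51134
theorem D110891 : act 5 n51134 = n110891 := rfl
def n110892 : Q := act 6 n51134
theorem D110892 : act 6 n51134 = n110892 := rfl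
def n110893 : Q := act 7 n51134
theorem D110893 : act 7 n51134 = n110893 := rfl
theorem F171805 : act 2 n110893 = n51135 := d4_1 D110893 F171803 (iv2 D110888)
def n110894 : Q := act 3 n51135
theorem D110894 : act 3 n51135 = n110894 := rfl
def n110895 : Q := act 5 n51135
theorem D110895 : act 5 n51135 = n110895 := rfl
def n110896 : Q := act 6 n51135
theorem D110896 : act 6 n51135 = n110896 := rfl
def n110897 : Q := act 0 n51136
theorem D110897 : act 0 n51136 = n110897 := rfl
theorem F171806 : act 4 n110897 = n106433 := d20_2 (iv4 F80658) D110897 (iv3 D106433) (iv1 F78341) F78338 (iv4 F164772) (iv1 F164774) D106911 (iv3 F164779) (iv1 D51237)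
theorem F171807 : act 0 n106433 = n66936 := d20_1 F171806 F102889 (iv3 D66331) F49553 D67110 F103071 (iv1 F100505) (iv4 F171618) F171617 D110897
theorem F171808 : act 1 n51138 = n110897 := d15_0 (iv0 D110897) (iv7 F171801) (iv2 F171798)
def n110898 : Q := act 1 n51136
theorem D110898 : act 1 n51136 = n110898 := rfl
theorem F171809 : act 1 n110898 = n51138 := d15_1 D110898 (iv7 D51138) D51136
def n110899 : Q := act 5 n51136
theorem D110899 : act 5 n51136 = n110899 := rfl
theorem F171810 : act 2 n110899 = n51137 := d2_1 D110899 (iv5 D51137) D51136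
def n110900 : Q := act 0 n51137
theorem D110900 : act 0 n51137 = n110900 := rfl
def n110901 : Q := act 1 n51137
theorem D110901 : act 1 n51137 = n110901 := rfl
def n110902 : Q := act 4 n51137
theorem D110902 : act 4 n51137 = n110902 := rfl
def n110903 : Q := act 6 n51137
theorem D110903 : act 6 n51137 = n110903 := rfl
theorem F171811 : act 3 n110903 = n51141 := d7_1 D110903 (iv6 D51141) (iv3 F80659)
def n110904 : Q := act 7 n51137
theorem D110904 : act 7 n51137 = n110904 := rfl
theorem F171812 : act 3 n110904 = n51142 := d8_1 D110904 (iv7 D51142) (iv3 F80659)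
theorem F171813 : act 5 n110904 = n51138 := d13_1 D110904 (iv7 D51138) D51137
def n110905 : Q := act 6 n51138
theorem D110905 : act 6 n51138 = n110905 := rfl
theorem F171814 : act 3 n110905 = n51143 := d7_1 D110905 (iv6 D51143) (iv3 F80660)
theorem F171815 : act 4 n110905 = n51242 := d10_1 D110905 (iv6 D51242) (iv4 F80661)
def n110906 : Q := act 3 n51139
theorem D110906 : act 3 n51139 = n110906 := rfl
theorem F171816 : act 5 n110906 = n51407 := d6_2 (iv5 F80664) D110906 (iv3 D51407)
theorem F171817 : act 7 n110906 = n65394 := d8_2 (iv7 F80663) D110906 F101089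
def n110907 : Q := act 6 n51139
theorem D110907 : act 6 n51139 = n110907 := rfl
theorem F171819 : act 4 n110907 = n51381 := d10_1 D110907 (iv6 D51381) F80666
def n110908 : Q := act 3 n51140
theorem D110908 : act 3 n51140 = n110908 := rfl
theorem F171820 : act 5 n110908 = n51354 := d6_2 (iv5 F80668) D110908 F81053
theorem F171821 : act 7 n110908 = n51353 := d8_2 (iv7 F80671) D110908 F81052
def n110909 : Q := act 6 n51140
theorem D110909 : act 6 n51140 = n110909 := rfl
theorem F171822 : act 2 n110909 = n51524 := d3_1 D110909 (iv6 D51524) (iv2 F80667)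
theorem F171823 : act 4 n110909 = n51141 := d10_1 D110909 (iv6 D51141) D51140
def n110910 : Q := act 0 n51141
theorem D110910 : act 0 n51141 = n110910 := rfl
def n110911 : Q := act 1 n51141
theorem D110911 : act 1 n51141 = n110911 := rfl
def n110912 : Q := act 7 n51141
theorem D110912 : act 7 n51141 = n110912 := rfl
def n110913 : Q := act 6 n51142
theorem D110913 : act 6 n51142 = n110913 := rfl
theorem F171824 : act 2 n110913 = n51520 := d3_1 D110913 (iv6 D51520) (iv2 F80672)
theorem F171825 : act 4 n110913 = n51357 := d10_1 D110913 (iv6 D51357) (iv4 F80673)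
def n110914 : Q := act 1 n51143
theorem D110914 : act 1 n51143 = n110914 := rfl
theorem F171826 : act 1 n110914 = n65083 := d15_1 D110914 F100871 (iv2 F80677)
theorem F171827 : act 7 n110914 = n65384 := d15_2 (iv0 F101319) D110914 F168214
theorem F171828 : act 4 n51288 = n110914 := d20_0 (iv1 D110914) F80678 F39023 D24924 F168098 D67462 (iv1 F168337) F82520 F40062 D51288
theorem F171829 : act 2 n110914 = n53839 := d1_1 F171828 (iv4 D53839) (iv2 F168217)
theorem F171830 : act 0 n59516 = n107755 := d20_7 (iv4 F100870) (iv1 F171826) (iv4 F171828) F168218 (iv1 D30823) (iv3 F48642) (iv4 F93940) (iv4 D107755) (iv3 F168333) (iv1 F98294)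
def n110915 : Q := act 5 n51143
theorem D110915 : act 5 n51143 = n110915 := rfl
theorem F171831 : act 2 n110915 = n66221 := d2_1 D110915 (iv5 D66221) (iv2 F80677)
def n110916 : Q := act 2 n51144
theorem D110916 : act 2 n51144 = n110916 := rfl
theorem F171832 : act 7 n51145 = n110916 := d15_2 (iv0 D51144) D51145 (iv2 D110916)
def n110917 : Q := act 5 n51144
theorem D110917 : act 5 n51144 = n110917 := rfl
theorem F171833 : act 3 n110917 = n107756 := d6_1 D110917 (iv5 D107756) (iv3 F168333)
theorem F171834 : act 0 n110841 = n110917 := d21_10 (iv5 D110917) (iv1 F98294) F98291 (iv6 D62983) F47950 D51094 F80599 F111420 (iv5 F111414) D110841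
def n110918 : Q := act 6 n51144
theorem D110918 : act 6 n51144 = n110918 := rfl
theorem F171835 : act 3 n110918 = n60919 := d7_1 D110918 (iv6 F95464) (iv3 F168333)
theorem F171836 : act 5 n110918 = n60917 := d21_6 (iv5 D24858) (iv1 F19157) (iv5 F19180) D24889 D51144 D110918 (iv1 F166287) (iv5 F93900) (iv6 D59489) (iv1 F45745)
def n110919 : Q := act 7 n51144
theorem D110919 : act 7 n51144 = n110919 := rfl
theorem F171837 : act 2 n110919 = n51145 := d4_1 D110919 F171832 (iv2 D110916)
theorem F171838 : act 3 n110919 = n107749 := d8_1 D110919 (iv7 F166385) (iv3 F168333)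
theorem F171839 : act 2 n107750 = n110339 := d0_3 F171838 (iv2 D107749) D107750 F170584 (iv2 F171837)
theorem F171840 : act 2 n74340 = n53357 := d1_3 (iv4 F166386) F171839 F170583
theorem F171841 : act 7 n59624 = n107750 := d15_2 F170582 F168125 F171839
theorem E17221 : n107753 = n28295 := (c8_3 F171841 (iv3 D107750) D107753 D59624)
theorem E17222 : n59623 = n49774 := ((D59623).symm.trans (sb E17221 F166390))
theorem E17223 : n59628 = n49773 := ((D59628).symm.trans (sb E17221 (iv7 D107753)))
theorem F171842 : act 2 n49774 = n28295 := (sb E17222 (iv2 D59623))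
theorem E17224 : n107749 = n28296 := ((F166385).symm.trans (sb E17222 (iv7 F94031)))
theorem F171843 : act 7 n49773 = n28295 := (sb E17223 (iv7 D59628))
theorem F171844 : act 2 n28296 = n49773 := (sb E17224 (iv2 D107749))
theorem E17225 : n110919 = n59629 := (((D59629).symm.trans (sb E17224 (iv3 F171838)))).symm
theorem F171845 : act 7 n28296 = n49774 := (sb E17224 (iv7 F166385))
theorem F171846 : act 2 n59629 = n51145 := (sb E17225 F171837)
theorem F171847 : act 7 n59629 = n51144 := (sb E17225 (iv7 D110919))
theorem F171848 : act 7 n53357 = n74341 := d11_2 F171841 F166386 (iv4 F111536)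
theorem F171849 : act 2 n74341 = n53356 := d15_3 (iv0 D53356) D53357 F171848
theorem F171850 : act 7 n74340 = n53356 := d4_2 (iv7 F171848) (iv2 F171840) (iv2 F171849)
theorem E17226 : n110916 = n110818 := (c15_4 (iv0 D110818) (iv0 F166987) F171847 D110916)
theorem F171851 : act 2 n110818 = n51144 := (sb E17226 (iv2 D110916))
theorem F171852 : act 7 n110818 = n51145 := (sb E17226 (iv7 F171832))
theorem F171853 : act 7 n107755 = n59630 := d11_2 F171845 D107755 (iv4 D59630)
theorem F171854 : act 7 n107756 = n59631 := d13_2 F171845 D107756 (iv5 D59631)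
theorem F171855 : act 2 n59631 = n67638 := d15_3 (iv0 F112195) (iv0 F166392) F171854
theorem F171856 : act 2 n107756 = n59626 := d15_3 (iv0 F101935) (iv0 F112196) (iv7 F171854)
theorem F171857 : act 2 n60849 = n107631 := d3_3 (iv6 F166391) F171856 (iv6 F95406)
theorem F171858 : act 7 n59626 = n67638 := d4_2 (iv7 F171854) F171856 (iv2 F171855)
theorem F171859 : act 7 n107632 = n60849 := d15_2 (iv0 D107631) D107632 F171857
theorem F171860 : act 7 n60850 = n107631 := d15_2 (iv0 D60849) D60850 (iv2 F171857)
theorem F171861 : act 2 n107632 = n60850 := d4_3 F171860 (iv2 F171857) (iv7 F171859)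
theorem E17227 : n67634 = n59453 := ((c14_4 F171860 (iv6 F166391) F171854 F94035 (iv7 F103657) (iv6 F166321))).symm
theorem F171862 : act 2 n59453 = n31414 := (sb E17227 (iv2 D67634))
theorem F171863 : act 7 n59453 = n31415 := (sb E17227 (iv7 F103657))
theorem F171864 : act 7 n67640 = n65914 := d8_2 F171863 D67640 F168900
theorem F171865 : act 7 n67642 = n59233 := d13_2 F171863 D67642 (iv5 F93846)
theorem E17228 : n67639 = n59454 := (c15_4 F93847 F93851 F171863 (iv2 F103660))
theorem F171866 : act 2 n59454 = n31415 := (sb E17228 F103660)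
theorem F171867 : act 7 n59454 = n31414 := (sb E17228 (iv7 D67639))
theorem F171868 : act 7 n67637 = n59262 := d13_2 F171867 D67637 F93848
theorem F171869 : act 2 n59262 = n67642 := d15_3 (iv0 F166322) (iv0 F166315) F171868
theorem F171870 : act 2 n67637 = n59233 := d4_1 (iv7 F171868) (iv7 F171865) (iv2 F171869)
theorem E17229 : n59229 = n59217 := (c3_4 (iv6 F103658) F171870 (iv6 D59233) (iv2 F93432))
theorem F171871 : act 2 n59217 = n28123 := (sb E17229 F93432)
theorem F171872 : act 7 n59217 = n28122 := (sb E17229 (iv7 D59229))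
theorem F171873 : act 7 n59225 = n106194 := d8_2 F171872 D59225 (iv3 F169336)
theorem F171874 : act 7 n59227 = n107752 := d13_2 F171872 D59227 F166388
theorem E17230 : n59263 = n59228 := ((c14_2 F171872 D59228 (iv7 D59263) D59262 (iv7 F171868) F103658)).symm
theorem F171875 : act 2 n59228 = n28140 := (sb E17230 F93484)
theorem E17231 : n60997 = n60915 := (((F95459).symm.trans (sb E17230 (iv5 F95544)))).symm
theorem F171876 : act 7 n59228 = n28139 := (sb E17230 (iv7 D59263))
theorem F171877 : act 2 n60915 = n28917 := (sb E17231 F95543)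
theorem F171878 : act 7 n60915 = n28916 := (sb E17231 (iv7 D60997))
theorem E17232 : n59224 = n59216 := (c15_4 (iv0 D59216) D59217 F171872 D59224)
theorem F171879 : act 2 n59216 = n28122 := (sb E17232 (iv2 D59224))
theorem F171880 : act 7 n59216 = n28123 := (sb E17232 (iv7 F93431))
theorem F171881 : act 7 n59230 = n58860 := d8_2 F171880 D59230 (iv3 F168470)
theorem E17233 : n59258 = n59249 := ((c14_4 F171880 D59233 (iv7 F171865) F103662 (iv7 F93483) (iv6 F93476))).symm
theorem F171882 : act 2 n59249 = n28139 := (sb E17233 (iv2 D59258))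
theorem E17234 : n60993 = n60977 := ((((iv5 F95519)).symm.trans (sb E17233 (iv5 F95540)))).symm
theorem F171883 : act 7 n59249 = n28140 := (sb E17233 (iv7 F93483))
theorem F171884 : act 2 n60977 = n28916 := (sb E17234 (iv2 D60993))
theorem F171885 : act 7 n60977 = n28917 := (sb E17234 (iv7 F95541))
theorem F171886 : act 7 n59264 = n106202 := d8_2 F171883 D59264 F168554
theorem E17235 : n109009 = n108644 := ((c11_2 F171886 F168553 (iv7 F169010) (iv4 F168462))).symm
theorem F171887 : act 2 n108644 = n50329 := (sb E17235 (iv2 D109009))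
theorem F171888 : act 7 n108644 = n50330 := (sb E17235 (iv7 F169010))
theorem F171889 : act 2 n106202 = n109011 := d15_3 (iv0 F169931) F168465 F171886
theorem F171890 : act 7 n106203 = n109011 := d15_2 (iv0 D106202) D106203 (iv2 F171889)
theorem F171891 : act 2 n59264 = n106203 := d4_3 F171890 (iv2 F171889) (iv7 F171886)
theorem F171892 : act 4 n109014 = n106203 := d11_3 F171890 (iv4 D109011) D109014
theorem F171893 : act 7 n108513 = n108421 := d13_2 F171890 F169932 F167630
theorem F171894 : act 2 n108421 = n60998 := d15_3 F168464 F167768 F171893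
theorem F171895 : act 2 n108513 = n108420 := d15_3 (iv0 D108420) D108421 (iv7 F171893)
theorem F171896 : act 5 n108420 = n106202 := d2_2 F169932 F171895 F171889
theorem F171897 : act 7 n108420 = n60998 := d4_2 (iv7 F171893) F171895 (iv2 F171894)
theorem F171898 : act 3 n60977 = n108420 := d8_3 F171897 (iv3 D60998) (iv7 F171885)
theorem F171899 : act 2 n61928 = n60994 := d0_3 F171898 (iv2 F171895) (iv3 F168379) (iv3 D60994) (iv2 F171884)
theorem F171900 : act 2 n63831 = n63189 := d1_3 (iv4 F168378) F171899 F99240
theorem F171901 : act 7 n61929 = n60994 := d15_2 (iv0 D61928) D61929 (iv2 F171899)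
theorem F171902 : act 3 n60915 = n61929 := d8_3 F171901 (iv3 D60994) (iv7 F171878)
theorem F171903 : act 6 n61929 = n60912 := d7_2 D60915 F171902 (iv3 D60912)
theorem F171904 : act 4 n61929 = n63190 := d20_6 (iv4 F80112) (iv1 F47255) F46568 (iv3 F46563) F95456 F171902 (iv1 D63190) F48022 F23699 D14193
theorem F171905 : act 7 n63190 = n63831 := d11_2 (iv7 F171901) F171904 (iv4 F99240)
theorem F171906 : act 2 n63190 = n63832 := d15_3 F99233 F99238 (iv7 F171905)
theorem F171907 : act 7 n63832 = n63189 := d4_2 (iv7 F171905) F171906 (iv2 F171900)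
theorem F171908 : act 2 n61904 = n110791 := d3_3 F171528 F171894 (iv6 F168466)
theorem F171909 : act 7 n60917 = n61904 := d15_2 (iv0 D110791) F166287 F171908
theorem F171910 : act 7 n61905 = n110791 := d15_2 (iv0 D61904) D61905 (iv2 F171908)
theorem F171911 : act 2 n60917 = n61905 := d4_3 F171910 (iv2 F171908) (iv7 F171909)
theorem E17236 : n60911 = n59347 := ((c8_2 F171909 (iv3 F168467) (iv7 F95454) D60917)).symm
theorem F171912 : act 2 n59347 = n28888 := (sb E17236 (iv2 D60911))
theorem F171913 : act 7 n59347 = n28889 := (sb E17236 (iv7 F95454))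
theorem E17237 : n60916 = n59348 := (c15_4 F93623 (iv0 F93622) F171913 (iv2 F95463))
theorem F171914 : act 2 n59348 = n28889 := (sb E17237 F95463)
theorem F171915 : act 7 n59348 = n28888 := (sb E17237 (iv7 D60916))
theorem F171916 : act 7 n60914 = n59627 := d13_2 F171915 D60914 F94033
theorem F171917 : act 2 n60919 = n59627 := d2_3 F94033 F171914 D60919
theorem E17238 : n109014 = n108645 := (c15_4 F168546 F168551 F171888 (iv2 F169011))
theorem F171918 : act 2 n108645 = n50330 := (sb E17238 F169011)
theorem F171919 : act 4 n108645 = n106203 := (sb E17238 F171892)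
theorem F171920 : act 7 n108645 = n50329 := (sb E17238 (iv7 D109014))
theorem F171921 : act 2 n107752 = n59232 := d15_3 (iv0 F171203) (iv0 F171205) F171874
theorem F171922 : act 2 n59225 = n106193 := d15_3 (iv0 D106193) D106194 (iv7 F171873)
theorem F171923 : act 7 n65416 = n108895 := d11_2 F171864 (iv4 F168899) F168890
theorem F171924 : act 2 n65914 = n110832 := d15_3 (iv0 D110832) F165729 F171864
theorem F171925 : act 2 n67640 = n65915 := d15_3 F171676 F171678 (iv7 F171864)
theorem F171926 : act 2 n65417 = n108895 := d1_3 F168890 F171925 (iv4 F171677)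
theorem F171927 : act 7 n65915 = n110832 := d4_2 (iv7 F171864) F171925 (iv2 F171924)
theorem F171928 : act 7 n108894 = n65417 := d11_2 F171927 F171670 F171677
theorem F171929 : act 2 n65416 = n108894 := d4_3 F171928 F171926 (iv7 F171923)
theorem F171930 : act 2 n107755 = n59625 := d15_3 (iv0 F168126) (iv0 F166984) (iv7 F171853)
theorem F171931 : act 7 n107751 = n59625 := d15_2 (iv0 F171830) (iv0 F166387) (iv2 F171930)
theorem F171932 : act 2 n59630 = n107751 := d4_3 F171931 (iv2 F171930) F171853
def n110920 : Q := act 5 n51145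
theorem D110920 : act 5 n51145 = n110920 := rfl
theorem F171933 : act 0 n110920 = n110841 := d18_0 F171684 F171685 (iv4 D67398) (iv5 D31326) D31325 (iv0 F101319) F80678 D51145 D110920
theorem F171934 : act 6 n110920 = n110832 := d21_3 F98291 (iv1 F98293) D110920 (iv1 F171675) (iv6 F101615) F101619 F166286 (iv5 F171836) (iv6 D110918) (iv1 F98294)
def n110921 : Q := act 6 n51145
theorem D110921 : act 6 n51145 = n110921 := rfl
theorem F171935 : act 5 n110921 = n58861 := d21_6 (iv5 D14160) D14159 D29795 D62983 (iv1 F98293) D110921 (iv1 D58861) (iv5 F78457) F78458 (iv1 D29797)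
def n110922 : Q := act 0 n51146
theorem D110922 : act 0 n51146 = n110922 := rfl
def n110923 : Q := act 1 n51146
theorem D110923 : act 1 n51146 = n110923 := rfl
def n110924 : Q := act 2 n51146
theorem D110924 : act 2 n51146 = n110924 := rfl
theorem F171936 : act 3 n110924 = n74720 := d0_2 D51146 D110924 (iv2 D74720) (iv3 D34238) (iv2 F39025)
def n110925 : Q := act 5 n51146
theorem D110925 : act 5 n51146 = n110925 := rfl
theorem F171937 : act 3 n110925 = n51147 := d6_1 D110925 (iv5 D51147) D51146
theorem F171938 : act 7 n110925 = n107034 := d13_2 F92819 D110925 F164972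
def n110926 : Q := act 6 n51146
theorem D110926 : act 6 n51146 = n110926 := rfl
theorem F171939 : act 3 n110926 = n51148 := d7_1 D110926 (iv6 D51148) D51146
def n110927 : Q := act 6 n51147
theorem D110927 : act 6 n51147 = n110927 := rfl
theorem F171940 : act 2 n110927 = n74723 := d3_1 D110927 (iv6 D74723) (iv2 F80679)
theorem F171941 : act 4 n110927 = n108199 := d10_1 D110927 (iv6 D108199) (iv4 F80681)
def n110928 : Q := act 0 n51148
theorem D110928 : act 0 n51148 = n110928 := rfl
theorem F171942 : act 4 n110928 = n59128 := d20_8 (iv4 F167659) (iv1 F167660) (iv4 F112157) F112153 (iv1 D52089) F39941 (iv4 F80685) D110928 (iv3 F111338) (iv1 F79267)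
theorem F171943 : act 2 n74724 = n110928 := d1_3 F171942 F111337 (iv4 F165073)
theorem F171944 : act 6 n51169 = n110928 := d10_0 F171942 (iv6 D59128) (iv4 F111182)
theorem F171945 : act 7 n74725 = n110928 := d11_0 F171942 (iv7 F111336) F112143
theorem F171946 : act 1 n74727 = n110928 := d18_6 F82462 D107271 F165320 F94070 (iv5 F53886) (iv4 F112144) F171942 (iv0 F93304) F77632
def n110929 : Q := act 1 n51148
theorem D110929 : act 1 n51148 = n110929 := rfl
theorem F171947 : act 1 n110929 = n74727 := d15_1 D110929 (iv7 D74727) (iv2 F80684)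
theorem F171948 : act 7 n110929 = n74724 := d15_2 (iv0 D110928) D110929 F171943
theorem F171949 : act 4 n110929 = n106403 := d18_7 F99519 D107277 (iv1 F165333) F94053 F45823 (iv4 F80685) D110929 F163567 F78143
theorem F171950 : act 2 n74725 = n110929 := d1_3 F171949 F163570 F112143
def n110930 : Q := act 5 n51148
theorem D110930 : act 5 n51148 = n110930 := rfl
theorem F171951 : act 2 n110930 = n74726 := d2_1 D110930 (iv5 D74726) (iv2 F80684)
theorem F171952 : act 0 n110930 = n107269 := d17_2 (iv1 D110929) D110930 (iv5 D107269) (iv4 D49560) D49561 (iv0 F82462) (iv5 F77632) D106403 (iv4 F171949)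
theorem F171953 : act 1 n110930 = n107276 := d17_6 (iv1 F78475) F94057 (iv1 D59660) F45823 (iv4 F80685) D110930 (iv5 D107276) F104357 F80807
theorem E17239 : n107003 = n106983 := (c21_5 (iv5 F164943) (iv1 D107001) (iv5 D49434) D49435 D107003 F164899 D107276 (iv1 F171953) (iv5 D110930) (iv6 D51148) (iv1 F79040))
theorem F171954 : act 1 n106983 = n49435 := (sb E17239 (iv0 D107003))
def n110931 : Q := act 7 n51148
theorem D110931 : act 7 n51148 = n110931 := rfl
theorem F171955 : act 2 n110931 = n74727 := d4_1 D110931 (iv7 D74727) (iv2 F80684)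
theorem F171956 : act 4 n110931 = n51151 := d11_1 D110931 (iv7 D51151) (iv4 F80685)
theorem F171957 : act 6 n110931 = n107075 := d14_1 D110931 F165056 (iv6 D58744) F45115 D51148
theorem F171958 : act 1 n74725 = n110931 := d15_1 D74725 (iv7 D110931) F80684
theorem F171959 : act 1 n110931 = n74724 := d15_1 F171958 (iv7 F171948) (iv2 F171950)
def n110932 : Q := act 6 n51150
theorem D110932 : act 6 n51150 = n110932 := rfl
theorem F171960 : act 2 n110932 = n74732 := d3_1 D110932 (iv6 D74732) (iv2 F103508)
theorem F171961 : act 5 n110932 = n51179 := d12_1 D110932 (iv6 D51179) (iv5 F39044) D31395 F80689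
theorem F171962 : act 7 n110932 = n51179 := d14_2 (iv7 F103506) D110932 (iv6 D51179) F103495 (iv6 F53884)
theorem F171963 : act 0 n110932 = n68116 := d21_10 (iv5 D68116) (iv1 D31714) F24573 (iv6 D14918) (iv1 F11419) D11825 (iv5 F38179) F49659 F80689 D110932
theorem F171964 : act 0 n59787 = n110932 := d21_4 D59639 (iv1 F103613) F96530 F100205 (iv6 D110932) (iv5 F80689) (iv1 F82340) F82335 F78478 (iv1 F45804)
def n110933 : Q := act 0 n51152
theorem D110933 : act 0 n51152 = n110933 := rfl
theorem F171965 : act 1 n107008 = n110933 := d15_0 (iv0 D110933) F80695 D107008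
def n110934 : Q := act 1 n51152
theorem D110934 : act 1 n51152 = n110934 := rfl
def n110935 : Q := act 2 n51152
theorem D110935 : act 2 n51152 = n110935 := rfl
theorem F171966 : act 3 n110935 = n74567 := d0_2 D51152 D110935 F111964 F53814 (iv2 F39027)
theorem F171967 : act 7 n110935 = n107008 := d4_2 (iv7 F80695) D110935 (iv2 D107008)
theorem F171968 : act 1 n110935 = n107006 := d15_0 (iv0 D107006) (iv7 F80695) D110935
theorem F171969 : act 1 n110934 = n107008 := d15_1 D110934 (iv7 F171967) (iv2 D110935)
theorem F171970 : act 1 n107007 = n110935 := d15_1 D107007 F171967 (iv2 D107008)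
def n110936 : Q := act 5 n51152
theorem D110936 : act 5 n51152 = n110936 := rfl
theorem F171971 : act 3 n110936 = n51153 := d6_1 D110936 (iv5 D51153) D51152
theorem F171972 : act 7 n110936 = n107009 := d13_2 (iv7 F80695) D110936 (iv5 D107009)
def n110937 : Q := act 6 n51152
theorem D110937 : act 6 n51152 = n110937 := rfl
theorem F171973 : act 3 n110937 = n51154 := d7_1 D110937 (iv6 D51154) D51152
def n110938 : Q := act 6 n51153
theorem D110938 : act 6 n51153 = n110938 := rfl
theorem F171974 : act 2 n110938 = n107002 := d3_1 D110938 (iv6 D107002) (iv2 F80696)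
theorem F171975 : act 4 n110938 = n67623 := d10_1 D110938 (iv6 D67623) (iv4 F80698)
def n110939 : Q := act 0 n51154
theorem D110939 : act 0 n51154 = n110939 := rfl
theorem F171976 : act 4 n110939 = n74461 := d20_8 (iv4 F167683) (iv1 F167684) (iv4 F171750) (iv3 F171749) (iv1 D52094) F39947 (iv4 F80700) D110939 (iv3 D74461) (iv1 F79275)
theorem F171977 : act 2 n106983 = n110939 := d1_3 F171976 (iv2 F111770) D106983
theorem F171978 : act 6 n51214 = n110939 := d10_0 F171976 (iv6 F163594) F163592
theorem F171979 : act 7 n106985 = n110939 := d11_0 F171976 (iv7 F111771) D106985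
theorem F171980 : act 1 n107005 = n110939 := d18_6 (iv1 D48647) (iv4 F76512) F80495 (iv4 D51047) (iv5 F78636) (iv4 F164946) F171976 (iv0 F163597) F77634
def n110940 : Q := act 1 n51154
theorem D110940 : act 1 n51154 = n110940 := rfl
theorem F171981 : act 1 n110940 = n107005 := d15_1 D110940 (iv7 D107005) (iv2 F80699)
theorem F171982 : act 7 n110940 = n106983 := d15_2 (iv0 D110939) D110940 F171977
theorem F171983 : act 4 n110940 = n106405 := d18_7 (iv1 F76518) (iv4 F82685) (iv1 F82857) (iv4 D52482) (iv5 F40268) (iv4 F80700) D110940 F163601 F78159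
theorem F171984 : act 2 n106985 = n110940 := d1_3 F171983 F163604 D106985
def n110941 : Q := act 5 n51154
theorem D110941 : act 5 n51154 = n110941 := rfl
theorem F171985 : act 2 n110941 = n107004 := d2_1 D110941 (iv5 D107004) (iv2 F80699)
theorem F171986 : act 0 n110941 = n68150 := d17_2 (iv1 D110940) D110941 (iv5 D68150) F50033 F39775 D48647 (iv5 F77634) D106405 (iv4 F171983)
def n110942 : Q := act 7 n51154
theorem D110942 : act 7 n51154 = n110942 := rfl
theorem F171987 : act 2 n110942 = n107005 := d4_1 D110942 (iv7 D107005) (iv2 F80699)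
theorem F171988 : act 4 n110942 = n51157 := d11_1 D110942 (iv7 D51157) (iv4 F80700)
theorem F171989 : act 6 n110942 = n107013 := d14_1 D110942 (iv7 D107013) (iv6 D49438) (iv7 F39028) D51154
theorem F171990 : act 1 n106985 = n110942 := d15_1 (iv0 F164902) (iv7 D110942) F80699
theorem F171991 : act 1 n110942 = n106983 := d15_1 F171990 (iv7 F171982) (iv2 F171984)
def n110943 : Q := act 5 n51155
theorem D110943 : act 5 n51155 = n110943 := rfl
theorem F171992 : act 2 n110943 = n107760 := d2_1 D110943 (iv5 D107760) (iv2 F166410)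
theorem F171993 : act 7 n110943 = n59215 := d13_2 (iv7 F166411) D110943 F93418
theorem F171994 : act 0 n110943 = n59157 := d21_1 D110943 F93340 F100158 F100278 (iv6 D31406) (iv5 D14802) F24436 F24433 D24893 D51155
theorem F171995 : act 0 n107435 = n110943 := d21_10 (iv5 D110943) (iv1 F80704) F78636 (iv6 F80358) (iv1 F92973) (iv6 F94075) (iv5 F80814) F104275 F104274 (iv6 F165735)
def n110944 : Q := act 0 n51158
theorem D110944 : act 0 n51158 = n110944 := rfl
theorem F171996 : act 2 n51162 = n110944 := d15_3 (iv0 D110944) (iv0 D51158) D51162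
theorem F171997 : act 7 n110944 = n51160 := d4_2 D51162 F171996 (iv2 D51160)
theorem F171998 : act 1 n51159 = n110944 := d15_1 D51159 F171997 (iv2 D51160)
def n110945 : Q := act 2 n51158
theorem D110945 : act 2 n51158 = n110945 := rfl
theorem F171999 : act 7 n51159 = n110945 := d15_2 (iv0 D51158) D51159 (iv2 D110945)
def n110946 : Q := act 3 n51158
theorem D110946 : act 3 n51158 = n110946 := rfl
theorem F172000 : act 4 n110946 = n108480 := d20_6 (iv4 D14807) F19422 D11815 D24894 D51158 D110946 (iv1 F167708) F79284 F78169 (iv1 F37814)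
def n110947 : Q := act 4 n51158
theorem D110947 : act 4 n51158 = n110947 := rfl
def n110948 : Q := act 5 n51158
theorem D110948 : act 5 n51158 = n110948 := rfl
def n110949 : Q := act 6 n51158
theorem D110949 : act 6 n51158 = n110949 := rfl
def n110950 : Q := act 7 n51158
theorem D110950 : act 7 n51158 = n110950 := rfl
theorem F172001 : act 2 n110950 = n51159 := d4_1 D110950 F171999 (iv2 D110945)
def n110951 : Q := act 3 n51159
theorem D110951 : act 3 n51159 = n110951 := rfl
def n110952 : Q := act 4 n51159
theorem D110952 : act 4 n51159 = n110952 := rfl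
def n110953 : Q := act 5 n51159
theorem D110953 : act 5 n51159 = n110953 := rfl
def n110954 : Q := act 6 n51159
theorem D110954 : act 6 n51159 = n110954 := rfl
def n110955 : Q := act 0 n51160
theorem D110955 : act 0 n51160 = n110955 := rfl
theorem F172002 : act 1 n51162 = n110955 := d15_0 (iv0 D110955) (iv7 F171997) (iv2 F171996)
def n110956 : Q := act 1 n51160
theorem D110956 : act 1 n51160 = n110956 := rfl
theorem F172003 : act 1 n110956 = n51162 := d15_1 D110956 (iv7 D51162) D51160
theorem F172004 : act 3 n110956 = n108477 := d20_5 F37808 (iv1 F22152) (iv4 F39033) (iv3 F80709) (iv1 F172003) (iv4 D108477) (iv1 D50086) F38303 (iv3 D24131) D24129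
def n110957 : Q := act 5 n51160
theorem D110957 : act 5 n51160 = n110957 := rfl
theorem F172005 : act 2 n110957 = n51161 := d2_1 D110957 (iv5 D51161) D51160
def n110958 : Q := act 0 n51161
theorem D110958 : act 0 n51161 = n110958 := rfl
def n110959 : Q := act 1 n51161
theorem D110959 : act 1 n51161 = n110959 := rfl
def n110960 : Q := act 4 n51161
theorem D110960 : act 4 n51161 = n110960 := rfl
def n110961 : Q := act 6 n51161
theorem D110961 : act 6 n51161 = n110961 := rfl
theorem F172006 : act 3 n110961 = n51163 := d7_1 D110961 (iv6 D51163) (iv3 F80708)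
theorem F172007 : act 5 n110961 = n51241 := d12_1 D110961 (iv6 D51241) (iv5 D24920) (iv6 F39032) D51161
def n110962 : Q := act 6 n51162
theorem D110962 : act 6 n51162 = n110962 := rfl
theorem F172008 : act 3 n110962 = n51164 := d7_1 D110962 (iv6 D51164) (iv3 F80709)
theorem F172009 : act 7 n110962 = n51242 := d14_2 D51162 D110962 (iv6 D51242) (iv7 D24921) (iv6 F39032)
def n110963 : Q := act 0 n51163
theorem D110963 : act 0 n51163 = n110963 := rfl
def n110964 : Q := act 1 n51163
theorem D110964 : act 1 n51163 = n110964 := rfl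
def n110965 : Q := act 7 n51163
theorem D110965 : act 7 n51163 = n110965 := rfl
theorem F172010 : act 5 n110965 = n51245 := d13_1 D110965 (iv7 D51245) (iv5 F80710)
def n110966 : Q := act 5 n51164
theorem D110966 : act 5 n51164 = n110966 := rfl
theorem F172011 : act 2 n110966 = n110965 := d2_1 D110966 F172010 F80835
theorem F172012 : act 7 n110966 = n51248 := d13_2 (iv7 F80712) D110966 (iv5 D51248)
theorem F172013 : act 1 n110964 = n110966 := d15_1 D110964 F172012 F80841
theorem F172014 : act 1 n110966 = n110963 := d15_0 (iv0 D110963) D110965 (iv2 F172011)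
def n110967 : Q := act 2 n51165
theorem D110967 : act 2 n51165 = n110967 := rfl
theorem F172015 : act 7 n51166 = n110967 := d15_2 (iv0 D51165) D51166 (iv2 D110967)
def n110968 : Q := act 3 n51165
theorem D110968 : act 3 n51165 = n110968 := rfl
theorem F172016 : act 4 n110968 = n107126 := d20_6 (iv4 D14920) (iv1 F11421) D11817 D24898 D51165 D110968 (iv1 D107126) F78239 (iv3 D24162) (iv1 F24579)
def n110969 : Q := act 4 n51165
theorem D110969 : act 4 n51165 = n110969 := rfl
def n110970 : Q := act 5 n51165
theorem D110970 : act 5 n51165 = n110970 := rfl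
def n110971 : Q := act 6 n51165
theorem D110971 : act 6 n51165 = n110971 := rfl
def n110972 : Q := act 7 n51165
theorem D110972 : act 7 n51165 = n110972 := rfl
def n110973 : Q := act 3 n51166
theorem D110973 : act 3 n51166 = n110973 := rfl
def n110974 : Q := act 4 n51166
theorem D110974 : act 4 n51166 = n110974 := rfl
theorem F172018 : act 3 n64438 = n110974 := d20_5 F41245 (iv1 D14398) D14399 D30343 D64438 (iv4 D110974) (iv1 D51166) (iv4 F49615) (iv3 D31353) (iv1 F41243)
def n110975 : Q := act 5 n51166
theorem D110975 : act 5 n51166 = n110975 := rfl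
def n110976 : Q := act 6 n51166
theorem D110976 : act 6 n51166 = n110976 := rfl
def n110977 : Q := act 6 n51167
theorem D110977 : act 6 n51167 = n110977 := rfl
def n110980 : Q := act 5 n51168
theorem D110980 : act 5 n51168 = n110980 := rfl
theorem F172021 : act 3 n110980 = n51171 := d6_1 D110980 (iv5 D51171) (iv3 F80720)
theorem F172022 : act 6 n110980 = n66941 := d12_2 D51168 D110980 (iv5 D66941) (iv6 D31177) (iv5 F39036)
def n110981 : Q := act 7 n51168
theorem D110981 : act 7 n51168 = n110981 := rfl
theorem F172023 : act 3 n110981 = n51172 := d8_1 D110981 (iv7 D51172) (iv3 F80720)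
theorem F172024 : act 6 n110981 = n107504 := d14_1 D110981 (iv7 D107504) (iv6 D49660) (iv7 F39037) D51168
def n110982 : Q := act 3 n51169
theorem D110982 : act 3 n51169 = n110982 := rfl
theorem F172025 : act 7 n110982 = n107104 := d8_2 F111263 D110982 (iv3 D107104)
def n110983 : Q := act 5 n51169
theorem D110983 : act 5 n51169 = n110983 := rfl
theorem F172026 : act 2 n110983 = n107102 := d2_1 D110983 (iv5 D107102) F111271
theorem F172027 : act 7 n110983 = n107105 := d13_2 F111263 D110983 (iv5 D107105)
theorem F172028 : act 0 n110983 = n67612 := d17_2 D51169 D110983 (iv5 D67612) (iv4 D31402) (iv5 D14798) D14797 (iv5 F39040) (iv0 D24900) (iv4 F39039)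
def n110984 : Q := act 3 n51170
theorem D110984 : act 3 n51170 = n110984 := rfl
theorem F172029 : act 7 n110984 = n107101 := d8_2 F111272 D110984 (iv3 D107101)
def n110985 : Q := act 5 n51170
theorem D110985 : act 5 n51170 = n110985 := rfl
theorem F172030 : act 2 n110985 = n107105 := d2_1 D110985 (iv5 D107105) F111262
theorem F172031 : act 7 n110985 = n107102 := d13_2 F111272 D110985 (iv5 D107102)
theorem F172032 : act 1 n110985 = n67612 := d17_6 (iv1 D74274) F53493 F93306 (iv5 D59132) (iv4 F111189) D110985 (iv5 D67612) D67611 (iv4 F111176)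
def n110986 : Q := act 6 n51170
theorem D110986 : act 6 n51170 = n110986 := rfl
theorem F172033 : act 2 n110986 = n107106 := d3_1 D110986 (iv6 D107106) F111262
theorem F172034 : act 4 n110986 = n59133 := d10_1 D110986 (iv6 D59133) (iv4 F111189)
def n110987 : Q := act 0 n51171
theorem D110987 : act 0 n51171 = n110987 := rfl
theorem F172035 : act 5 n110987 = n106996 := d17_3 (iv1 D51170) D51171 D110987 (iv4 D106996) F82514 (iv0 D52185) F40057 D28087 (iv4 F111189)
theorem F172036 : act 2 n107459 = n110987 := d2_3 F172035 F164913 (iv5 F165775)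
theorem F172037 : act 7 n107460 = n110987 := d13_0 F172035 F164911 (iv5 F165776)
theorem F172038 : act 1 n107462 = n110987 := d17_6 D58745 F92823 (iv1 F80741) F78412 (iv4 F78406) (iv5 F165778) F172035 F164935 F78166
def n110988 : Q := act 1 n51171
theorem D110988 : act 1 n51171 = n110988 := rfl
theorem F172039 : act 1 n110988 = n107462 := d15_1 D110988 (iv7 D107462) (iv2 F80722)
theorem F172040 : act 7 n110988 = n107459 := d15_2 (iv0 D110987) D110988 F172036
theorem F172041 : act 5 n110988 = n106999 := d17_7 (iv1 F92825) (iv5 F92826) (iv1 D51181) (iv5 D24902) (iv4 F39039) D51171 D110988 F164934 F103620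
theorem F172042 : act 2 n107460 = n110988 := d2_3 F172041 F164930 (iv5 F165776)
def n110989 : Q := act 4 n51171
theorem D110989 : act 4 n51171 = n110989 := rfl
theorem F172043 : act 2 n110989 = n107461 := d1_1 D110989 (iv4 D107461) (iv2 F80722)
def n110990 : Q := act 7 n51171
theorem D110990 : act 7 n51171 = n110990 := rfl
theorem F172044 : act 2 n110990 = n107462 := d4_1 D110990 (iv7 D107462) (iv2 F80722)
theorem F172045 : act 5 n110990 = n51172 := d13_1 D110990 (iv7 D51172) D51171
theorem F172046 : act 1 n107460 = n110990 := d15_1 D107460 (iv7 D110990) F80722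
theorem F172047 : act 1 n110990 = n107459 := d15_1 F172046 (iv7 F172040) (iv2 F172042)
def n110991 : Q := act 3 n51180
theorem D110991 : act 3 n51180 = n110991 := rfl
theorem F172048 : act 7 n110991 = n107472 := d8_2 F103544 D110991 (iv3 D107472)
theorem F172049 : act 4 n110991 = n64417 := d20_6 D106999 F164933 F78166 F45120 D51180 D110991 (iv1 F111485) F111482 (iv3 F111465) (iv1 F111468)
theorem F172050 : act 7 n64417 = n74283 := d11_2 (iv7 F172048) F172049 (iv4 F165797)
theorem F172051 : act 0 n52140 = n110991 := d18_0 F172049 (iv1 F111485) F111482 F53500 (iv4 F99458) F99462 (iv4 F111282) (iv0 F111394) (iv5 F82420)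
theorem F172052 : act 2 n74283 = n64418 := d15_3 F111484 F111485 F172050
theorem F172053 : act 2 n64417 = n74282 := d15_3 (iv0 D74282) D74283 (iv7 F172050)
theorem F172054 : act 7 n74282 = n64418 := d4_2 (iv7 F172050) F172053 (iv2 F172052)
theorem F172055 : act 6 n64418 = n107181 := d3_2 (iv6 F165798) F172052 (iv2 F165198)
def n110992 : Q := act 6 n51180
theorem D110992 : act 6 n51180 = n110992 := rfl
theorem F172056 : act 2 n110992 = n107471 := d3_1 D110992 (iv6 D107471) (iv2 F103545)
theorem F172057 : act 7 n110992 = n105668 := d14_2 F103544 D110992 (iv6 D105668) F103549 F82355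
theorem F172058 : act 5 n110992 = n60732 := d21_6 F27058 F19049 D11819 (iv6 F39043) D51180 D110992 (iv1 D60732) F46455 (iv6 D16585) D16583
theorem F172059 : act 0 n110992 = n60606 := d21_10 (iv5 D60606) (iv1 D28776) (iv5 F41228) (iv6 D26068) (iv1 F20541) D14781 (iv5 F45121) D58745 F92823 D110992
theorem F172060 : act 0 n60602 = n110992 := d21_4 (iv5 D28095) D28093 D59141 (iv6 F95221) (iv6 D110992) (iv5 F92823) F92824 F49663 (iv6 F41254) (iv1 F45400)
def n110993 : Q := act 0 n51182
theorem D110993 : act 0 n51182 = n110993 := rfl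
theorem F172061 : act 4 n110993 = n52185 := d18_3 (iv1 D51181) D51182 D110993 (iv5 F82514) D106996 F164935 F78166 D58746 (iv5 F92826)
theorem F172062 : act 2 n107107 = n110993 := d1_3 F172061 F111459 D107107
theorem F172063 : act 7 n107109 = n110993 := d11_0 F172061 (iv7 F111458) D107109
def n110994 : Q := act 1 n51182
theorem D110994 : act 1 n51182 = n110994 := rfl
theorem F172065 : act 1 n110994 = n107475 := d15_1 D110994 (iv7 D107475) (iv2 F80737)
theorem F172066 : act 7 n110994 = n107107 := d15_2 (iv0 D110993) D110994 F172062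
theorem F172067 : act 4 n110994 = n52186 := d18_7 (iv1 F45371) (iv4 F111189) (iv1 D51170) F39039 D24902 D51182 D110994 F82508 F78227
theorem F172068 : act 2 n107109 = n110994 := d1_3 F172067 (iv2 F111452) D107109
theorem F172069 : act 6 n105659 = n110994 := d10_0 F172067 (iv6 F99515) (iv4 F162255)
def n110995 : Q := act 3 n51182
theorem D110995 : act 3 n51182 = n110995 := rfl
theorem F172070 : act 4 n110995 = n107010 := d5_2 D51182 D110995 F164950 F78166 F45120
theorem F172071 : act 6 n110995 = n51184 := d7_2 (iv6 F80738) D110995 (iv3 D51184)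
def n110996 : Q := act 5 n51182
theorem D110996 : act 5 n51182 = n110996 := rfl
theorem F172072 : act 2 n110996 = n107474 := d2_1 D110996 (iv5 D107474) (iv2 F80737)
theorem F172073 : act 0 n110996 = n67568 := d17_2 (iv1 D110994) D110996 (iv5 D67568) (iv4 F111179) (iv5 D59127) (iv0 D28086) (iv5 F40057) D52186 (iv4 F172067)
theorem F172074 : act 1 n110996 = n67565 := d17_6 D14796 F39044 (iv1 D24901) D24902 D51182 D110996 (iv5 D67565) (iv0 D31388) F24445
def n110997 : Q := act 7 n51182
theorem D110997 : act 7 n51182 = n110997 := rfl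
theorem F172075 : act 2 n110997 = n107475 := d4_1 D110997 (iv7 D107475) (iv2 F80737)
theorem F172076 : act 4 n110997 = n51183 := d11_1 D110997 (iv7 D51183) D51182
theorem F172077 : act 1 n107109 = n110997 := d15_1 (iv0 F165083) (iv7 D110997) F80737
theorem F172078 : act 1 n110997 = n107107 := d15_1 F172077 (iv7 F172066) (iv2 F172068)
theorem E17240 : n64592 = n64183 := (c20_7 D107107 (iv1 F172078) F172076 (iv3 F92830) (iv1 F92833) D67608 (iv4 F103618) (iv1 D64183) F48630 (iv3 F37852) D49481)
theorem F172079 : act 4 n64183 = n67608 := (sb E17240 F103618)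
theorem F172080 : act 6 n64183 = n30396 := (sb E17240 (iv6 D64592))
theorem F172081 : act 1 n64385 = n64184 := d17_6 F165799 F98679 F168669 F168670 (iv4 D64384) D64385 (iv5 D64184) D64183 F172079
def n110998 : Q := act 0 n51184
theorem D110998 : act 0 n51184 = n110998 := rfl
def n110999 : Q := act 1 n51184
theorem D110999 : act 1 n51184 = n110999 := rfl
def n111000 : Q := act 2 n51184
theorem D111000 : act 2 n51184 = n111000 := rfl
theorem F172082 : act 3 n111000 = n74596 := d0_2 D51184 D111000 F112002 F53833 (iv2 F39050)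
theorem F172083 : act 4 n111000 = n107008 := d1_2 (iv4 F80745) D111000 (iv2 D107008)
def n111001 : Q := act 5 n51184
theorem D111001 : act 5 n51184 = n111001 := rfl
theorem F172084 : act 3 n111001 = n51185 := d6_1 D111001 (iv5 D51185) D51184
theorem F172085 : act 7 n111001 = n107477 := d13_2 F82342 D111001 F165810
def n111002 : Q := act 6 n51185
theorem D111002 : act 6 n51185 = n111002 := rfl
theorem F172087 : act 4 n111002 = n52162 := d10_1 D111002 (iv6 D52162) (iv4 F80747)
def n111003 : Q := act 0 n51186
theorem D111003 : act 0 n51186 = n111003 := rfl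
theorem F172088 : act 4 n111003 = n66899 := d18_3 (iv1 D51193) (iv4 F80749) D111003 (iv5 D66899) (iv4 D31164) (iv0 D14726) D14729 D31176 (iv5 F166927)
theorem F172089 : act 1 n107303 = n111003 := d15_0 (iv0 D111003) F80750 (iv2 F165361)
def n111004 : Q := act 1 n51186
theorem D111004 : act 1 n51186 = n111004 := rfl
theorem F172090 : act 1 n111004 = n107303 := d15_1 D111004 F165363 F102643
theorem F172091 : act 4 n66918 = n111004 := d18_5 (iv1 F78320) F78318 (iv1 F41050) D31169 D66918 F172090 (iv4 D107303) F80765 F166921
theorem F172092 : act 3 n66918 = n106423 := d20_9 (iv4 F165175) (iv1 F165178) (iv4 F165337) (iv3 D107278) (iv1 F78317) (iv3 F78326) D107303 (iv1 F172090) (iv4 F172091) (iv1 F163671)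
theorem F172093 : act 5 n106423 = n66917 := d6_2 D66918 F172092 (iv3 D66917)
theorem F172094 : act 2 n107249 = n106423 := d2_3 F172093 F163634 D107249
theorem F172095 : act 7 n107245 = n106423 := d13_0 F172093 F102875 D107245
theorem F172096 : act 5 n107294 = n107278 := d18_4 (iv1 F102877) (iv4 F165276) (iv1 F165280) (iv4 F165359) F165337 F165178 F165175 F163671 F172093
theorem E17241 : n107279 = n49576 := (c6_3 F172096 (iv3 D107278) D107279 D107294)
theorem E17242 : n107293 = n51193 := ((D107293).symm.trans (sb E17241 (iv2 F166926)))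
theorem E17243 : n107296 = n49568 := ((D107296).symm.trans (sb E17241 (iv5 D107279)))
theorem E17244 : n107298 = n51192 := ((D107298).symm.trans (sb E17241 (iv7 F166922)))
theorem F172097 : act 2 n51193 = n49576 := (sb E17242 (iv2 D107293))
theorem E17245 : n107282 = n49577 := ((F166928).symm.trans (sb E17242 (iv7 F165358)))
theorem F172098 : act 5 n49568 = n49576 := (sb E17243 (iv5 D107296))
theorem F172099 : act 7 n51192 = n49576 := (sb E17244 (iv7 D107298))
theorem F172100 : act 2 n49577 = n51192 := (sb E17245 (iv2 F166920))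
theorem E17246 : n107301 = n49569 := ((D107301).symm.trans (sb E17245 (iv5 D107282)))
theorem F172101 : act 7 n49577 = n51193 := (sb E17245 (iv7 F166928))
theorem F172102 : act 5 n49569 = n49577 := (sb E17246 (iv5 D107301))
theorem F172103 : act 5 n107299 = n107281 := d6_2 F172102 D107299 (iv3 D107281)
theorem E17247 : n53784 = n53653 := (c17_7 (iv1 F78321) F172102 (iv1 D49577) (iv5 F37927) F37926 (iv5 F41105) D53784 (iv5 D53653) F41049 D31172)
theorem F172104 : act 0 n53653 = n26011 := (sb E17247 (iv1 D53784))
theorem F172105 : act 1 n53653 = n31292 := (sb E17247 F84802)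
theorem E17248 : n53783 = n53648 := (c15_2 F172105 F84797 F102855 (iv2 F102864))
theorem F172106 : act 0 n53648 = n31292 := (sb E17248 (iv1 F84797))
theorem F172107 : act 1 n53648 = n26011 := (sb E17248 (iv0 D53783))
theorem F172108 : act 5 n107188 = n53652 := d18_4 (iv1 F80769) (iv4 F102644) (iv1 F165367) (iv4 F165368) (iv4 D53652) F41049 D31172 F78317 F172098
theorem F172109 : act 2 n66899 = n107188 := d2_3 F172108 F102862 D66899
theorem E17249 : n107245 = n49522 := (c6_3 F172108 (iv3 F84647) D107245 D107188)
theorem E17250 : n107190 = n49550 := ((D107190).symm.trans (sb E17249 (iv5 D107245)))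
theorem E17251 : n107192 = n106423 := ((D107192).symm.trans (sb E17249 F172095))
theorem F172110 : act 5 n49550 = n49522 := (sb E17250 (iv5 D107190))
theorem E17252 : n107249 = n49523 := (((iv2 F172094)).symm.trans (sb E17251 F165212))
theorem F172111 : act 7 n106423 = n49522 := (sb E17251 (iv7 D107192))
theorem F172112 : act 2 n49523 = n106423 := (sb E17252 F172094)
theorem E17253 : n107195 = n49551 := ((D107195).symm.trans (sb E17252 (iv5 D107249)))
theorem F172113 : act 5 n49551 = n49523 := (sb E17253 (iv5 D107195))
theorem F172114 : act 7 n66918 = n107188 := d13_0 F172108 F102863 D66918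
theorem F172115 : act 7 n107306 = n111004 := d11_2 F172114 F165368 (iv4 F172091)
theorem F172116 : act 2 n111004 = n107305 := d15_3 (iv0 D107305) D107306 F172115
theorem F172117 : act 2 n107306 = n111003 := d15_3 (iv0 D111003) D111004 (iv7 F172115)
theorem F172118 : act 7 n111003 = n107305 := d4_2 (iv7 F172115) F172117 (iv2 F172116)
theorem F172119 : act 5 n107193 = n107247 := d6_2 F172113 D107193 (iv3 D107247)
theorem F172120 : act 5 n107187 = n106413 := d13_3 (iv7 F163633) F172113 F165211
theorem E17254 : n107187 = n106424 := ((c15_2 (iv0 D106423) D106424 (iv7 F165211) F172112)).symm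
theorem F172121 : act 2 n106424 = n49522 := (sb E17254 (iv2 D107187))
theorem F172122 : act 5 n106424 = n106413 := (sb E17254 F172120)
theorem F172123 : act 7 n106424 = n49523 := (sb E17254 (iv7 F165211))
def n111005 : Q := act 5 n51186
theorem D111005 : act 5 n51186 = n111005 := rfl
theorem F172124 : act 3 n111005 = n51187 := d6_1 D111005 (iv5 D51187) D51186
theorem F172125 : act 7 n111005 = n107307 := d13_2 (iv7 F80750) D111005 (iv5 D107307)
def n111006 : Q := act 6 n51186
theorem D111006 : act 6 n51186 = n111006 := rfl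
theorem F172126 : act 3 n111006 = n51188 := d7_1 D111006 (iv6 D51188) D51186
theorem F172127 : act 4 n111006 = n51195 := d10_1 D111006 (iv6 D51195) (iv4 F80749)
def n111007 : Q := act 6 n51187
theorem D111007 : act 6 n51187 = n111007 := rfl
theorem F172128 : act 2 n111007 = n105658 := d3_1 D111007 (iv6 D105658) (iv2 F80751)
theorem F172129 : act 4 n111007 = n59664 := d10_1 D111007 (iv6 D59664) (iv4 F80752)
def n111008 : Q := act 1 n51188
theorem D111008 : act 1 n51188 = n111008 := rfl
theorem F172130 : act 1 n111008 = n105662 := d15_1 D111008 (iv7 D105662) (iv2 F80756)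
theorem F172131 : act 7 n111008 = n105659 := d15_2 (iv0 F101857) D111008 (iv2 F162254)
theorem F172132 : act 2 n105660 = n111008 := d4_3 F172131 (iv2 F162254) (iv7 F162253)
def n111009 : Q := act 5 n51188
theorem D111009 : act 5 n51188 = n111009 := rfl
theorem F172133 : act 2 n111009 = n105661 := d2_1 D111009 (iv5 D105661) (iv2 F80756)
def n111010 : Q := act 7 n51188
theorem D111010 : act 7 n51188 = n111010 := rfl
theorem F172134 : act 2 n111010 = n105662 := d4_1 D111010 (iv7 D105662) (iv2 F80756)
theorem F172135 : act 4 n111010 = n51191 := d11_1 D111010 (iv7 D51191) (iv4 F80757)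
theorem F172136 : act 1 n105660 = n111010 := d15_1 D105660 (iv7 D111010) F80756
theorem F172137 : act 1 n111010 = n105659 := d15_1 F172136 (iv7 F172131) (iv2 F172132)
def n111011 : Q := act 4 n51189
theorem D111011 : act 4 n51189 = n111011 := rfl
theorem F172138 : act 2 n111011 = n105664 := d1_1 D111011 (iv4 D105664) F103547
theorem F172139 : act 6 n111011 = n107473 := d10_2 (iv6 F82355) D111011 (iv4 D107473)
theorem F172140 : act 7 n111011 = n105667 := d11_2 F103549 D111011 (iv4 D105667)
theorem F172141 : act 1 n105664 = n60469 := d15_0 (iv0 F162264) (iv7 F172140) F172138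
def n111012 : Q := act 5 n51189
theorem D111012 : act 5 n51189 = n111012 := rfl
theorem F172142 : act 2 n111012 = n105665 := d2_1 D111012 (iv5 D105665) F103547
theorem F172143 : act 6 n111012 = n51203 := d12_2 (iv6 F82355) D111012 (iv5 D51203) (iv6 F82354) F82353
theorem F172144 : act 7 n111012 = n62006 := d13_2 F103549 D111012 F96592
theorem F172145 : act 0 n111012 = n61944 := d21_1 D111012 (iv5 F168048) F168049 (iv1 D31364) (iv6 D14787) F22179 (iv1 F24654) F24652 D24906 D51189
theorem F172146 : act 1 n60607 = n62006 := d15_1 (iv0 F162263) (iv7 F172144) F172142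
def n111013 : Q := act 3 n51190
theorem D111013 : act 3 n51190 = n111013 := rfl
theorem F172147 : act 7 n111013 = n105663 := d8_2 (iv7 F103548) D111013 (iv3 D105663)
theorem F172148 : act 4 n111013 = n53512 := d20_6 D25939 F47163 (iv4 F37138) (iv3 F76920) (iv1 F80758) D111013 (iv1 D53512) F40978 F20413 D12305
theorem F172149 : act 7 n53512 = n106877 := d11_2 (iv7 F172147) F172148 F164719
theorem F172150 : act 2 n106877 = n53511 := d15_3 (iv0 D53511) D53512 F172149
theorem F172151 : act 2 n53512 = n106878 := d15_3 F164722 (iv0 F164720) (iv7 F172149)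
theorem F172152 : act 7 n106878 = n53511 := d4_2 (iv7 F172149) F172151 (iv2 F172150)
theorem F172153 : act 6 n53511 = n108541 := d3_2 (iv6 F171593) F172150 F171589
def n111014 : Q := act 4 n51190
theorem D111014 : act 4 n51190 = n111014 := rfl
theorem F172154 : act 2 n111014 = n105667 := d1_1 D111014 (iv4 D105667) (iv2 F103550)
theorem F172155 : act 7 n111014 = n105664 := d11_2 (iv7 F103548) D111014 (iv4 D105664)
theorem F172156 : act 0 n111014 = n60455 := d18_2 (iv1 F80758) D111014 F95003 F77904 (iv4 F96475) F163851 F163849 F77810 F77802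
theorem F172157 : act 1 n111011 = n60455 := d15_0 (iv0 F172156) F172155 (iv2 F172138)
def n111015 : Q := act 6 n51190
theorem D111015 : act 6 n51190 = n111015 := rfl
theorem F172158 : act 2 n111015 = n105668 := d3_1 D111015 (iv6 D105668) (iv2 F103550)
theorem F172159 : act 5 n111015 = n60731 := d12_1 D111015 F95334 (iv5 D60687) D60688 F95280
theorem F172160 : act 7 n111015 = n107471 := d14_2 (iv7 F103548) D111015 (iv6 D107471) F103541 (iv6 F92827)
theorem F172161 : act 0 n111015 = n60602 := d21_4 F168048 F96540 F95280 D111015 F95221 (iv5 D59141) (iv1 F77454) F78429 (iv6 F96496) (iv1 F168046)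
theorem F172162 : act 1 n111015 = n60606 := d15_1 (iv0 F172161) F168086 (iv2 F168130)
def n111016 : Q := act 3 n51192
theorem D111016 : act 3 n51192 = n111016 := rfl
theorem F172163 : act 5 n111016 = n66933 := d6_2 (iv5 F166921) D111016 (iv3 D66933)
theorem F172164 : act 7 n111016 = n107294 := d8_2 (iv7 F172099) D111016 (iv3 D107294)
theorem F172165 : act 4 n111016 = n107233 := d20_6 (iv4 D5539) D5537 D11822 D24907 D51192 D111016 (iv1 D107233) F78303 (iv3 D24180) F18541
theorem F172166 : act 7 n107233 = n105610 := d11_2 (iv7 F172164) F172165 (iv4 F165359)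
theorem F172167 : act 2 n105610 = n107232 := d15_3 (iv0 D107232) D107233 F172166
theorem F172168 : act 2 n107233 = n105609 := d15_3 (iv0 D105609) D105610 (iv7 F172166)
theorem F172169 : act 7 n105609 = n107232 := d4_2 (iv7 F172166) F172168 (iv2 F172167)
def n111017 : Q := act 4 n51192
theorem D111017 : act 4 n51192 = n111017 := rfl
theorem F172170 : act 2 n111017 = n107300 := d1_1 D111017 (iv4 D107300) F172100
theorem F172171 : act 7 n111017 = n107295 := d11_2 (iv7 F172099) D111017 (iv4 D107295)
def n111018 : Q := act 6 n51192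
theorem D111018 : act 6 n51192 = n111018 := rfl
theorem F172172 : act 2 n111018 = n107302 := d3_1 D111018 (iv6 D107302) F172100
def n111019 : Q := act 3 n51193
theorem D111019 : act 3 n51193 = n111019 := rfl
theorem F172173 : act 5 n111019 = n66936 := d6_2 (iv5 F166927) D111019 (iv3 D66936)
theorem F172174 : act 7 n111019 = n107299 := d8_2 F172101 D111019 (iv3 D107299)
def n111020 : Q := act 4 n51193
theorem D111020 : act 4 n51193 = n111020 := rfl
theorem F172175 : act 2 n111020 = n107295 := d1_1 D111020 (iv4 D107295) (iv2 F172097)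
theorem F172176 : act 7 n111020 = n107300 := d11_2 F172101 D111020 (iv4 D107300)
theorem F172177 : act 3 n64625 = n111020 := d20_5 F45826 (iv1 F24037) D14447 D30414 D64625 (iv4 D111020) (iv1 D51193) (iv4 F80749) (iv3 D51186) (iv1 F45824)
def n111021 : Q := act 6 n51193
theorem D111021 : act 6 n51193 = n111021 := rfl
theorem F172178 : act 2 n111021 = n107297 := d3_1 D111021 (iv6 D107297) (iv2 F172097)
def n111022 : Q := act 6 n51194
theorem D111022 : act 6 n51194 = n111022 := rfl
theorem F172179 : act 2 n111022 = n51195 := d3_1 D111022 (iv6 D51195) D51194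
theorem F172180 : act 3 n111022 = n107284 := d7_1 D111022 (iv6 D107284) (iv3 F80766)
def n111023 : Q := act 0 n51195
theorem D111023 : act 0 n51195 = n111023 := rfl
def n111024 : Q := act 1 n51195
theorem D111024 : act 1 n51195 = n111024 := rfl
def n111025 : Q := act 5 n51195
theorem D111025 : act 5 n51195 = n111025 := rfl
theorem F172181 : act 3 n111025 = n51198 := d6_1 D111025 (iv5 D51198) (iv3 F80772)
theorem F172182 : act 6 n111025 = n68164 := d12_2 D51195 D111025 (iv5 D68164) (iv6 D31732) (iv5 F39055)
def n111026 : Q := act 7 n51195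
theorem D111026 : act 7 n51195 = n111026 := rfl
theorem F172183 : act 3 n111026 = n51199 := d8_1 D111026 (iv7 D51199) (iv3 F80772)
theorem F172184 : act 6 n111026 = n107312 := d14_1 D111026 (iv7 D107312) (iv6 D49580) (iv7 F39056) D51195
def n111027 : Q := act 3 n51196
theorem D111027 : act 3 n51196 = n111027 := rfl
theorem F172185 : act 7 n111027 = n107219 := d8_2 F102166 D111027 (iv3 D107219)
def n111028 : Q := act 5 n51196
theorem D111028 : act 5 n51196 = n111028 := rfl
theorem F172186 : act 2 n111028 = n107214 := d2_1 D111028 (iv5 D107214) F102176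
theorem F172187 : act 7 n111028 = n107220 := d13_2 F102166 D111028 (iv5 D107220)
def n111029 : Q := act 3 n51197
theorem D111029 : act 3 n51197 = n111029 := rfl
theorem F172188 : act 7 n111029 = n107213 := d8_2 F102177 D111029 (iv3 D107213)
def n111030 : Q := act 5 n51197
theorem D111030 : act 5 n51197 = n111030 := rfl
theorem F172189 : act 2 n111030 = n107220 := d2_1 D111030 (iv5 D107220) F102170
theorem F172190 : act 7 n111030 = n107214 := d13_2 F102177 D111030 (iv5 D107214)
def n111031 : Q := act 6 n51197
theorem D111031 : act 6 n51197 = n111031 := rfl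
theorem F172191 : act 2 n111031 = n107221 := d3_1 D111031 (iv6 D107221) F102170
theorem F172192 : act 4 n111031 = n106420 := d10_1 D111031 (iv6 D106420) F102172
def n111032 : Q := act 0 n51198
theorem D111032 : act 0 n51198 = n111032 := rfl
theorem F172193 : act 5 n111032 = n108193 := d17_3 (iv1 D51197) D51198 D111032 F167301 (iv5 D60561) (iv0 F77657) (iv5 D49174) D49173 F102172
theorem F172194 : act 2 n107289 = n111032 := d2_3 F172193 F167300 (iv5 F165355)
theorem F172195 : act 7 n107290 = n111032 := d13_0 F172193 F167302 F165356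
theorem F172196 : act 0 n111032 = n107292 := d21_7 D107276 (iv1 F171953) (iv5 D110930) (iv6 D51148) (iv1 F79040) D108193 (iv5 F172193) F165357 (iv6 F80808) (iv1 F104357)
def n111033 : Q := act 1 n51198
theorem D111033 : act 1 n51198 = n111033 := rfl
theorem F172197 : act 1 n111033 = n107292 := d15_1 D111033 (iv7 D107292) (iv2 F80774)
theorem F172198 : act 7 n111033 = n107289 := d15_2 (iv0 D111032) D111033 F172194
theorem F172199 : act 5 n68168 = n111033 := d21_6 F18549 (iv1 F19200) F19198 D14928 D31733 D68168 (iv1 D111033) (iv5 D51198) (iv6 D24908) F19199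
theorem F172200 : act 2 n111033 = n107290 := d2_1 F172199 (iv5 F165356) F165131
def n111034 : Q := act 4 n51198
theorem D111034 : act 4 n51198 = n111034 := rfl
theorem F172201 : act 2 n111034 = n107291 := d1_1 D111034 (iv4 D107291) (iv2 F80774)
theorem F172202 : act 6 n111034 = n68173 := d10_2 (iv6 F80775) D111034 (iv4 D68173)
def n111035 : Q := act 7 n51198
theorem D111035 : act 7 n51198 = n111035 := rfl
theorem F172203 : act 2 n111035 = n107292 := d4_1 D111035 (iv7 D107292) (iv2 F80774)
theorem F172204 : act 5 n111035 = n51199 := d13_1 D111035 (iv7 D51199) D51198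
theorem F172205 : act 1 n107290 = n111035 := d15_1 D107290 (iv7 D111035) F80774
theorem F172206 : act 1 n111035 = n107289 := d15_1 F172205 (iv7 F172198) F172200
def n111036 : Q := act 5 n51201
theorem D111036 : act 5 n51201 = n111036 := rfl
theorem F172207 : act 3 n111036 = n51203 := d6_1 D111036 (iv5 D51203) D51201
def n111037 : Q := act 4 n51203
theorem D111037 : act 4 n51203 = n111037 := rfl
def n111038 : Q := act 4 n51208
theorem D111038 : act 4 n51208 = n111038 := rfl
def n111039 : Q := act 1 n51211
theorem D111039 : act 1 n51211 = n111039 := rfl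
theorem F172209 : act 1 n111039 = n60572 := d15_1 D111039 F95183 F94039
theorem F172210 : act 7 n111039 = n106809 := d15_2 (iv0 F96552) D111039 F164603
theorem F172211 : act 4 n111039 = n106421 := d18_7 (iv1 F77654) F102172 (iv1 D51197) F39058 D24911 D51211 D111039 F163657 F78298
theorem F172212 : act 2 n107224 = n111039 := d1_3 F172211 F163661 D107224
def n111040 : Q := act 3 n51211
theorem D111040 : act 3 n51211 = n111040 := rfl
theorem F172213 : act 6 n111040 = n106553 := d7_2 (iv6 F80795) D111040 (iv3 D106553)
def n111041 : Q := act 5 n51211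
theorem D111041 : act 5 n51211 = n111041 := rfl
def n111042 : Q := act 7 n51211
theorem D111042 : act 7 n51211 = n111042 := rfl
theorem F172214 : act 2 n111042 = n60572 := d4_1 D111042 F95183 F94039
theorem F172215 : act 4 n111042 = n51212 := d11_1 D111042 (iv7 D51212) D51211
theorem F172216 : act 1 n107224 = n111042 := d15_1 (iv0 F165242) (iv7 D111042) (iv2 F94039)
theorem F172217 : act 1 n111042 = n106809 := d15_1 F172216 (iv7 F172210) (iv2 F172212)
def n111043 : Q := act 3 n51213
theorem D111043 : act 3 n51213 = n111043 := rfl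
theorem F172218 : act 7 n111043 = n107275 := d8_2 F104359 D111043 (iv3 D107275)
def n111044 : Q := act 5 n51213
theorem D111044 : act 5 n51213 = n111044 := rfl
theorem F172219 : act 2 n111044 = n107269 := d2_1 D111044 (iv5 D107269) F104349
theorem F172220 : act 7 n111044 = n107276 := d13_2 F104359 D111044 (iv5 D107276)
theorem F172221 : act 1 n111044 = n74726 := d17_6 (iv1 D49411) F37782 D30417 F82456 F163588 D111044 (iv5 D74726) D74725 (iv4 F112143)
def n111045 : Q := act 6 n51213
theorem D111045 : act 6 n51213 = n111045 := rfl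
theorem F172222 : act 2 n111045 = n107270 := d3_1 D111045 (iv6 D107270) F104349
theorem F172223 : act 4 n111045 = n106431 := d10_1 D111045 (iv6 D106431) F163588
theorem F172224 : act 5 n111045 = n107506 := d21_6 F37845 (iv1 F24587) (iv5 F19202) D24913 D51213 D111045 (iv1 D107506) (iv5 D49661) (iv6 D24218) (iv1 F37848)
theorem F172225 : act 2 n107506 = n68172 := d2_1 F172224 (iv5 F165316) (iv2 F172222)
theorem F172226 : act 7 n68171 = n107506 := d15_2 F165857 F165858 F172225
theorem F172227 : act 7 n107505 = n68172 := d15_2 F165851 F165856 (iv2 F172225)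
theorem F172228 : act 2 n68171 = n107505 := d4_3 F172227 (iv2 F172225) (iv7 F172226)
theorem F172229 : act 1 n107401 = n111045 := d18_6 (iv1 F82160) (iv4 F93138) (iv1 F168922) F168924 (iv5 F104274) (iv4 F165451) F172223 (iv0 F168931) (iv5 D108912)
def n111046 : Q := act 3 n51214
theorem D111046 : act 3 n51214 = n111046 := rfl
theorem F172230 : act 7 n111046 = n107268 := d8_2 F104350 D111046 (iv3 D107268)
def n111047 : Q := act 5 n51214
theorem D111047 : act 5 n51214 = n111047 := rfl
theorem F172231 : act 2 n111047 = n107276 := d2_1 D111047 (iv5 D107276) F104358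
theorem F172232 : act 7 n111047 = n107269 := d13_2 F104350 D111047 (iv5 D107269)
theorem F172233 : act 0 n111047 = n74726 := d17_2 (iv1 F80803) D111047 (iv5 D74726) F53883 F26238 D28317 (iv5 F80801) F78480 F78477
def n111048 : Q := act 0 n51215
theorem D111048 : act 0 n51215 = n111048 := rfl
theorem F172234 : act 5 n111048 = n110929 := d17_3 (iv1 D51214) D51215 D111048 F171949 (iv5 F163569) (iv0 D52112) F39958 D49179 F163592
theorem F172235 : act 2 n107313 = n111048 := d2_3 F172234 (iv2 F171950) (iv5 F165374)
theorem F172236 : act 7 n107314 = n111048 := d13_0 F172234 F171948 (iv5 F165375)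
theorem F172237 : act 1 n107316 = n111048 := d17_6 (iv1 F80688) (iv5 F80689) (iv1 F82340) F82335 F78477 (iv5 F165376) F172234 F171947 F112144
def n111049 : Q := act 1 n51215
theorem D111049 : act 1 n51215 = n111049 := rfl
theorem F172238 : act 1 n111049 = n107316 := d15_1 D111049 (iv7 D107316) (iv2 F80804)
theorem F172239 : act 7 n111049 = n107313 := d15_2 (iv0 D111048) D111049 F172235
theorem F172240 : act 5 n111049 = n110928 := d17_7 D51149 F80687 (iv1 D49960) F38179 (iv4 F39062) D51215 D111049 (iv0 D110928) F80685
theorem F172241 : act 2 n107314 = n111049 := d2_3 F172240 (iv2 F171943) (iv5 F165375)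
def n111050 : Q := act 4 n51215
theorem D111050 : act 4 n51215 = n111050 := rfl
theorem F172242 : act 2 n111050 = n107315 := d1_1 D111050 (iv4 D107315) (iv2 F80804)
theorem F172243 : act 6 n111050 = n110989 := d10_2 (iv6 F80805) D111050 (iv4 D110989)
def n111051 : Q := act 7 n51215
theorem D111051 : act 7 n51215 = n111051 := rfl
theorem F172244 : act 2 n111051 = n107316 := d4_1 D111051 (iv7 D107316) (iv2 F80804)
theorem F172245 : act 5 n111051 = n51216 := d13_1 D111051 (iv7 D51216) D51215
theorem F172246 : act 1 n107314 = n111051 := d15_1 D107314 (iv7 D111051) F80804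
theorem F172247 : act 1 n111051 = n107313 := d15_1 F172246 (iv7 F172239) (iv2 F172241)
def n111052 : Q := act 6 n51225
theorem D111052 : act 6 n51225 = n111052 := rfl
theorem F172248 : act 2 n111052 = n51242 := d3_1 D111052 (iv6 D51242) F80816
def n111053 : Q := act 0 n51226
theorem D111053 : act 0 n51226 = n111053 := rfl
theorem F172249 : act 1 n51231 = n111053 := d15_0 (iv0 D111053) (iv7 F80820) (iv2 F80821)
def n111054 : Q := act 1 n51226
theorem D111054 : act 1 n51226 = n111054 := rfl
def n111055 : Q := act 3 n51226
theorem D111055 : act 3 n51226 = n111055 := rfl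
theorem F172251 : act 7 n111055 = n51232 := d8_2 F80820 D111055 (iv3 D51232)
def n111056 : Q := act 4 n51226
theorem D111056 : act 4 n51226 = n111056 := rfl
theorem F172252 : act 2 n111056 = n51228 := d1_1 D111056 (iv4 D51228) D51226
theorem F172253 : act 7 n111056 = n51233 := d11_2 F80820 D111056 (iv4 D51233)
def n111057 : Q := act 5 n51226
theorem D111057 : act 5 n51226 = n111057 := rfl
theorem F172254 : act 2 n111057 = n51229 := d2_1 D111057 (iv5 D51229) D51226
theorem F172255 : act 7 n111057 = n51234 := d13_2 F80820 D111057 (iv5 D51234)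
def n111058 : Q := act 6 n51226
theorem D111058 : act 6 n51226 = n111058 := rfl
theorem F172256 : act 2 n111058 = n51230 := d3_1 D111058 (iv6 D51230) D51226
def n111059 : Q := act 0 n51227
theorem D111059 : act 0 n51227 = n111059 := rfl
def n111060 : Q := act 2 n51227
theorem D111060 : act 2 n51227 = n111060 := rfl
def n111061 : Q := act 5 n51227
theorem D111061 : act 5 n51227 = n111061 := rfl
theorem F172257 : act 3 n111061 = n51229 := d6_1 D111061 (iv5 D51229) D51227
def n111062 : Q := act 6 n51227
theorem D111062 : act 6 n51227 = n111062 := rfl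
theorem F172258 : act 3 n111062 = n51230 := d7_1 D111062 (iv6 D51230) D51227
def n111063 : Q := act 7 n51227
theorem D111063 : act 7 n51227 = n111063 := rfl
theorem F172259 : act 3 n111063 = n51231 := d8_1 D111063 (iv7 D51231) D51227
def n111064 : Q := act 1 n51228
theorem D111064 : act 1 n51228 = n111064 := rfl
theorem F172260 : act 1 n111064 = n51233 := d15_1 D111064 (iv7 F172253) F172252
def n111065 : Q := act 3 n51228
theorem D111065 : act 3 n51228 = n111065 := rfl
def n111066 : Q := act 5 n51228
theorem D111066 : act 5 n51228 = n111066 := rfl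
def n111067 : Q := act 6 n51228
theorem D111067 : act 6 n51228 = n111067 := rfl
theorem F172261 : act 4 n111067 = n51230 := d10_1 D111067 (iv6 D51230) D51228
def n111068 : Q := act 7 n51228
theorem D111068 : act 7 n51228 = n111068 := rfl
theorem F172262 : act 2 n111068 = n51233 := d4_1 D111068 (iv7 F172253) F172252
theorem F172263 : act 4 n111068 = n51231 := d11_1 D111068 (iv7 D51231) D51228
def n111069 : Q := act 0 n51229
theorem D111069 : act 0 n51229 = n111069 := rfl
def n111070 : Q := act 1 n51229
theorem D111070 : act 1 n51229 = n111070 := rfl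
theorem F172264 : act 1 n111070 = n51234 := d15_1 D111070 (iv7 F172255) F172254
def n111071 : Q := act 4 n51229
theorem D111071 : act 4 n51229 = n111071 := rfl
def n111072 : Q := act 6 n51229
theorem D111072 : act 6 n51229 = n111072 := rfl
def n111073 : Q := act 7 n51229
theorem D111073 : act 7 n51229 = n111073 := rfl
theorem F172265 : act 2 n111073 = n51234 := d4_1 D111073 (iv7 F172255) F172254
theorem F172266 : act 5 n111073 = n51231 := d13_1 D111073 (iv7 D51231) D51229
theorem F172267 : act 1 n51234 = n111069 := d15_0 (iv0 D111069) D111073 F172265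
def n111074 : Q := act 0 n51230
theorem D111074 : act 0 n51230 = n111074 := rfl
def n111075 : Q := act 1 n51230
theorem D111075 : act 1 n51230 = n111075 := rfl
def n111076 : Q := act 5 n51230
theorem D111076 : act 5 n51230 = n111076 := rfl
def n111077 : Q := act 7 n51230
theorem D111077 : act 7 n51230 = n111077 := rfl
def n111078 : Q := act 6 n51231
theorem D111078 : act 6 n51231 = n111078 := rfl
theorem F172268 : act 2 n111078 = n51235 := d3_1 D111078 (iv6 D51235) (iv2 F80821)
def n111079 : Q := act 0 n51232
theorem D111079 : act 0 n51232 = n111079 := rfl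
theorem F172269 : act 4 n111079 = n107305 := d20_0 (iv1 F165366) F102644 F80766 (iv1 F78322) D66936 F102889 F102247 (iv4 D51233) D51232 D111079
theorem F172270 : act 2 n66918 = n111079 := d1_3 F172269 (iv2 F172116) (iv4 F172091)
theorem F172271 : act 7 n66899 = n111079 := d11_0 F172269 (iv7 F172118) F172088
theorem F172272 : act 5 n53647 = n111079 := d18_4 (iv1 D49569) F37901 D25971 D53647 F172269 (iv0 D107305) (iv4 D49579) D49577 (iv5 F172102)
theorem F172273 : act 1 n51232 = n107188 := d15_1 (iv0 D111079) (iv7 F172114) F172270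
def n111080 : Q := act 2 n51232
theorem D111080 : act 2 n51232 = n111080 := rfl
def n111081 : Q := act 4 n51232
theorem D111081 : act 4 n51232 = n111081 := rfl
theorem F172274 : act 0 n111017 = n111081 := d20_1 D111017 (iv4 D111081) (iv3 D51232) (iv1 D24918) (iv3 D11826) (iv4 D5539) D5537 D11822 D24907 D51192
theorem F172275 : act 1 n111020 = n111081 := d15_0 (iv0 F172274) F172171 (iv2 F172175)
def n111082 : Q := act 5 n51232
theorem D111082 : act 5 n51232 = n111082 := rfl
theorem F172276 : act 3 n111082 = n51234 := d6_1 D111082 (iv5 D51234) D51232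
theorem F172277 : act 1 n111082 = n53853 := d17_8 (iv1 D26032) (iv5 F41105) (iv1 F172107) (iv5 D53648) D53647 F172272 (iv0 D111079) D111082 (iv4 D53853)
theorem F172278 : act 4 n111082 = n65691 := d18_5 D51192 D111017 F172274 (iv4 D111081) D111082 F104308 (iv4 D68154) (iv0 D31729) (iv5 F39055)
theorem F172279 : act 0 n111082 = n53848 := d18_0 (iv4 D53848) (iv1 F41149) (iv4 F50035) (iv5 F80767) (iv4 F102644) F165366 (iv4 F172269) (iv0 D111079) D111082
theorem E17255 : n111070 = n31720 := (c20_5 D68154 (iv1 F104308) (iv4 F172278) F172276 (iv1 F172264) (iv3 D31720) (iv4 D14923) (iv1 D7109) D7110 D14927 D31729)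
theorem E17256 : n68129 = n51229 := ((D68129).symm.trans (sb E17255 (iv1 D111070)))
theorem E17257 : n68130 = n51234 := ((D68130).symm.trans (sb E17255 F172264))
theorem E17258 : n111069 = n107440 := ((D111069).symm.trans (sb E17256 (iv1 F165749)))
theorem F172280 : act 1 n51229 = n31720 := (sb E17256 (iv0 D68129))
theorem F172281 : act 0 n51234 = n31720 := (sb E17257 (iv1 D68130))
theorem F172282 : act 0 n107440 = n51234 := (sb E17258 (iv1 F172267))
theorem F172283 : act 1 n107440 = n51229 := (sb E17258 (iv0 D111069))
theorem F172284 : act 1 n66243 = n110895 := d17_6 (iv1 F80819) D51234 F172281 (iv5 F78365) (iv4 F84350) (iv5 F101835) (iv5 D110895) F171802 F171800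
def n111083 : Q := act 6 n51232
theorem D111083 : act 6 n51232 = n111083 := rfl
theorem F172285 : act 3 n111083 = n51235 := d7_1 D111083 (iv6 D51235) D51232
def n111084 : Q := act 5 n51233
theorem D111084 : act 5 n51233 = n111084 := rfl
def n111085 : Q := act 6 n51233
theorem D111085 : act 6 n51233 = n111085 := rfl
theorem F172286 : act 4 n111085 = n51235 := d10_1 D111085 (iv6 D51235) D51233
def n111086 : Q := act 4 n51234
theorem D111086 : act 4 n51234 = n111086 := rfl
theorem F172287 : act 3 n64324 = n111086 := d20_5 (iv4 D6894) (iv1 F11150) D14381 D30299 D64324 (iv4 D111086) F172281 F50029 (iv3 D30303) (iv1 F24027)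
theorem F172288 : act 5 n111086 = n64854 := d6_2 (iv5 F103147) F172287 (iv3 D64854)
def n111087 : Q := act 6 n51234
theorem D111087 : act 6 n51234 = n111087 := rfl
def n111088 : Q := act 0 n51235
theorem D111088 : act 0 n51235 = n111088 := rfl
def n111089 : Q := act 1 n51235
theorem D111089 : act 1 n51235 = n111089 := rfl
def n111090 : Q := act 5 n51235
theorem D111090 : act 5 n51235 = n111090 := rfl
def n111091 : Q := act 7 n51235
theorem D111091 : act 7 n51235 = n111091 := rfl
def n111093 : Q := act 3 n51236
theorem D111093 : act 3 n51236 = n111093 := rfl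
def n111094 : Q := act 4 n51236
theorem D111094 : act 4 n51236 = n111094 := rfl
theorem F172290 : act 3 n62936 = n111094 := d20_5 (iv4 D12310) F19551 D14147 D29773 D62936 (iv4 D111094) (iv1 F80822) (iv4 F80661) F80660 (iv1 F39021)
def n111101 : Q := act 6 n51238
theorem D111101 : act 6 n51238 = n111101 := rfl
theorem F172292 : act 2 n111101 = n51241 := d3_1 D111101 (iv6 D51241) (iv2 F80824)
theorem F172293 : act 3 n111101 = n111052 := d7_1 D111101 (iv6 D111052) (iv3 F80825)
def n111102 : Q := act 3 n51239
theorem D111102 : act 3 n51239 = n111102 := rfl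
theorem F172294 : act 7 n111102 = n110740 := d8_2 (iv7 F102790) D111102 (iv3 D110740)
theorem F172295 : act 4 n111102 = n106397 := d20_6 (iv4 D11822) (iv1 F11420) (iv4 F19211) (iv3 F39064) D51239 D111102 (iv1 D106397) F77623 (iv3 D23998) (iv1 F19200)
def n111103 : Q := act 4 n51239
theorem D111103 : act 4 n51239 = n111103 := rfl
theorem F172296 : act 2 n111103 = n64809 := d1_1 D111103 F102786 F102789
theorem F172297 : act 7 n111103 = n64806 := d11_2 (iv7 F102790) D111103 (iv4 F102791)
theorem F172298 : act 1 n64805 = n111103 := d15_1 D64805 F172297 (iv2 D64806)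
theorem F172299 : act 4 n111019 = n64805 := d18_5 D24917 D51228 F102890 (iv4 F102889) (iv5 F172173) F172298 (iv4 D111103) (iv0 D51239) (iv5 D24920)
theorem F172300 : act 3 n64828 = n111103 := d0_0 F172296 F100653 F48884 D30478 D64828
theorem F172301 : act 1 n111103 = n64804 := d15_0 (iv0 D64804) D64809 (iv2 F172296)
def n111104 : Q := act 5 n51239
theorem D111104 : act 5 n51239 = n111104 := rfl
theorem F172302 : act 2 n111104 = n110743 := d2_1 D111104 (iv5 D110743) F102789
theorem F172303 : act 7 n111104 = n110741 := d13_2 (iv7 F102790) D111104 (iv5 D110741)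
def n111105 : Q := act 6 n51239
theorem D111105 : act 6 n51239 = n111105 := rfl
theorem F172304 : act 2 n111105 = n110744 := d3_1 D111105 (iv6 D110744) F102789
def n111106 : Q := act 3 n51240
theorem D111106 : act 3 n51240 = n111106 := rfl
theorem F172305 : act 4 n111106 = n64812 := d5_2 F80831 D111106 (iv3 D64812) (iv4 D30474) D30473
theorem F172306 : act 7 n111106 = n66897 := d8_2 F102787 D111106 (iv3 F102756)
theorem F172307 : act 0 n111106 = n53647 := d20_10 (iv4 D53647) (iv1 F41045) D31172 (iv3 F78326) (iv1 F80770) D111019 F172299 (iv1 D64805) F80831 D111106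
theorem F172308 : act 1 n111106 = n53652 := d15_1 (iv0 F172307) F102863 (iv2 F102852)
theorem F172309 : act 2 n66896 = n111106 := d15_3 F172308 F102867 (iv7 F102762)
def n111107 : Q := act 5 n51240
theorem D111107 : act 5 n51240 = n111107 := rfl
theorem F172310 : act 2 n111107 = n110741 := d2_1 D111107 (iv5 D110741) (iv2 F102788)
theorem F172311 : act 7 n111107 = n110743 := d13_2 F102787 D111107 (iv5 D110743)
def n111108 : Q := act 6 n51240
theorem D111108 : act 6 n51240 = n111108 := rfl
theorem F172312 : act 2 n111108 = n110742 := d3_1 D111108 (iv6 D110742) (iv2 F102788)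
theorem F172313 : act 4 n111108 = n64808 := d10_1 D111108 (iv6 D64808) F80831
def n111109 : Q := act 0 n51241
theorem D111109 : act 0 n51241 = n111109 := rfl
def n111110 : Q := act 1 n51241
theorem D111110 : act 1 n51241 = n111110 := rfl
def n111111 : Q := act 7 n51241
theorem D111111 : act 7 n51241 = n111111 := rfl
theorem F172314 : act 3 n111111 = n51245 := d8_1 D111111 (iv7 D51245) (iv3 F80832)
theorem F172315 : act 6 n111111 = n58758 := d14_1 D111111 (iv7 D58758) F45130 F39065 D51241
def n111112 : Q := act 0 n51242
theorem D111112 : act 0 n51242 = n111112 := rfl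
def n111113 : Q := act 1 n51242
theorem D111113 : act 1 n51242 = n111113 := rfl
def n111114 : Q := act 5 n51242
theorem D111114 : act 5 n51242 = n111114 := rfl
theorem F172316 : act 3 n111114 = n51248 := d6_1 D111114 (iv5 D51248) (iv3 F80833)
theorem F172317 : act 6 n111114 = n58757 := d12_2 D51242 D111114 (iv5 D58757) F45130 (iv5 F39067)
def n111115 : Q := act 3 n51243
theorem D111115 : act 3 n51243 = n111115 := rfl
theorem F172318 : act 7 n111115 = n107422 := d8_2 F165549 D111115 (iv3 D107422)
def n111116 : Q := act 5 n51243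
theorem D111116 : act 5 n51243 = n111116 := rfl
theorem F172319 : act 2 n111116 = n107412 := d2_1 D111116 (iv5 D107412) (iv2 F165542)
theorem F172320 : act 7 n111116 = n107423 := d13_2 F165549 D111116 (iv5 D107423)
def n111117 : Q := act 6 n51243
theorem D111117 : act 6 n51243 = n111117 := rfl
theorem F172321 : act 2 n111117 = n107413 := d3_1 D111117 (iv6 D107413) (iv2 F165542)
theorem F172322 : act 4 n111117 = n106446 := d10_1 D111117 (iv6 D106446) (iv4 F165543)
def n111118 : Q := act 3 n51244
theorem D111118 : act 3 n51244 = n111118 := rfl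
theorem F172323 : act 7 n111118 = n107411 := d8_2 F165541 D111118 (iv3 D107411)
def n111119 : Q := act 5 n51244
theorem D111119 : act 5 n51244 = n111119 := rfl
theorem F172324 : act 2 n111119 = n107423 := d2_1 D111119 (iv5 D107423) F165548
theorem F172325 : act 7 n111119 = n107412 := d13_2 F165541 D111119 (iv5 D107412)
def n111120 : Q := act 6 n51244
theorem D111120 : act 6 n51244 = n111120 := rfl
theorem F172326 : act 2 n111120 = n107424 := d3_1 D111120 (iv6 D107424) F165548
theorem F172327 : act 4 n111120 = n106451 := d10_1 D111120 (iv6 D106451) (iv4 F165545)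
theorem F172328 : act 0 n107259 = n111120 := d20_1 (iv4 F165305) F172327 F165552 F111165 F161258 (iv4 F111866) F111869 (iv4 D59239) (iv3 F93443) F100266
def n111121 : Q := act 0 n51248
theorem D111121 : act 0 n51248 = n111121 := rfl
theorem F172329 : act 5 n111121 = n107415 := d17_3 F165546 D51248 D111121 (iv4 D107415) (iv5 D49613) (iv0 D24196) F18550 D24197 D49617
theorem F172330 : act 1 n110965 = n111121 := d15_0 (iv0 D111121) (iv7 F172012) F172011
def n111122 : Q := act 1 n51248
theorem D111122 : act 1 n51248 = n111122 := rfl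
theorem F172331 : act 1 n111122 = n110965 := d15_1 D111122 (iv7 D110965) (iv2 F80841)
theorem F172332 : act 5 n107425 = n111122 := d21_6 F37512 (iv1 F37915) F37913 D31721 D68133 F165716 (iv1 D111122) (iv5 D51248) (iv6 D24923) (iv1 F37515)
def n111123 : Q := act 4 n51248
theorem D111123 : act 4 n51248 = n111123 := rfl
theorem F172333 : act 2 n111123 = n107041 := d1_1 D111123 F164978 (iv2 F80841)
theorem F172334 : act 6 n111123 = n58761 := d10_2 (iv6 F80842) D111123 (iv4 D58761)
def n111124 : Q := act 4 n51252
theorem D111124 : act 4 n51252 = n111124 := rfl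
theorem F172335 : act 5 n111124 = n107038 := d17_5 (iv1 D24925) F19218 D24924 D51252 D111124 (iv0 D107038) F78174 D49605 F163988
theorem F172336 : act 1 n111124 = n110986 := d18_6 (iv1 D49185) (iv4 F37908) D49604 F163993 D51252 D111124 F172034 F164851 (iv5 D106450)
def n111125 : Q := act 4 n51257
theorem D111125 : act 4 n51257 = n111125 := rfl
theorem F172337 : act 6 n111125 = n67664 := d10_2 F100154 D111125 (iv4 D67664)
theorem F172338 : act 5 n111125 = n107039 := d17_5 (iv1 F45140) F45137 (iv1 F45139) D51257 D111125 F164981 (iv5 D107042) F78352 F163993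
def n111126 : Q := act 0 n51259
theorem D111126 : act 0 n51259 = n111126 := rfl
def n111127 : Q := act 1 n51259
theorem D111127 : act 1 n51259 = n111127 := rfl
def n111128 : Q := act 2 n51259
theorem D111128 : act 2 n51259 = n111128 := rfl
theorem F172339 : act 3 n111128 = n64966 := d0_2 D51259 D111128 (iv2 D64966) (iv3 D30521) (iv2 F39071)
theorem F172340 : act 4 n111128 = n108431 := d1_2 (iv4 F80849) D111128 (iv2 D108431)
def n111129 : Q := act 5 n51259
theorem D111129 : act 5 n51259 = n111129 := rfl
theorem F172341 : act 3 n111129 = n51260 := d6_1 D111129 (iv5 D51260) D51259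
def n111130 : Q := act 6 n51259
theorem D111130 : act 6 n51259 = n111130 := rfl
theorem F172342 : act 3 n111130 = n51261 := d7_1 D111130 (iv6 D51261) D51259
theorem F172343 : act 4 n111130 = n108433 := d10_1 D111130 (iv6 D108433) (iv4 F80849)
def n111131 : Q := act 6 n51260
theorem D111131 : act 6 n51260 = n111131 := rfl
theorem F172344 : act 2 n111131 = n64970 := d3_1 D111131 (iv6 D64970) (iv2 F80850)
theorem F172345 : act 4 n111131 = n63140 := d10_1 D111131 (iv6 D63140) (iv4 F80851)
def n111132 : Q := act 0 n51261
theorem D111132 : act 0 n51261 = n111132 := rfl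
theorem F172346 : act 4 n111132 = n74728 := d18_3 (iv1 D51263) (iv4 F80853) D111132 F112152 F112157 F167660 F167659 F79267 F80857
theorem F172347 : act 2 n64971 = n111132 := d1_3 F172346 F112148 (iv4 F171766)
theorem F172348 : act 6 n65397 = n111132 := d10_0 F172346 F112146 F101098
theorem F172349 : act 7 n64972 = n111132 := d11_0 F172346 F112147 F111424
theorem F172350 : act 1 n64974 = n111132 := d18_6 F166200 F102386 (iv1 F102384) F49467 (iv5 F48919) (iv4 F100771) F172346 (iv0 F112151) F98224
def n111133 : Q := act 1 n51261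
theorem D111133 : act 1 n51261 = n111133 := rfl
theorem F172351 : act 1 n111133 = n64974 := d15_1 D111133 (iv7 D64974) (iv2 F80852)
theorem F172352 : act 7 n111133 = n64971 := d15_2 (iv0 D111132) D111133 F172347
theorem F172353 : act 2 n64972 = n111133 := d4_3 F172352 F172347 (iv7 F172349)
def n111134 : Q := act 5 n51261
theorem D111134 : act 5 n51261 = n111134 := rfl
theorem F172354 : act 2 n111134 = n64973 := d2_1 D111134 (iv5 D64973) (iv2 F80852)
def n111135 : Q := act 7 n51261
theorem D111135 : act 7 n51261 = n111135 := rfl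
theorem F172355 : act 2 n111135 = n64974 := d4_1 D111135 (iv7 D64974) (iv2 F80852)
theorem F172356 : act 4 n111135 = n51264 := d11_1 D111135 (iv7 D51264) (iv4 F80853)
theorem F172357 : act 6 n111135 = n65440 := d14_1 D111135 F101154 (iv6 D51296) F39096 D51261
theorem F172358 : act 1 n64972 = n111135 := d15_1 D64972 (iv7 D111135) F80852
theorem F172359 : act 1 n111135 = n64971 := d15_1 F172358 (iv7 F172352) (iv2 F172353)
def n111136 : Q := act 4 n51262
theorem D111136 : act 4 n51262 = n111136 := rfl
theorem F172360 : act 2 n111136 = n64977 := d1_1 D111136 (iv4 D64977) (iv2 F101219)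
theorem F172361 : act 6 n111136 = n65403 := d10_2 (iv6 F80854) D111136 (iv4 D65403)
theorem F172362 : act 7 n111136 = n64980 := d11_2 (iv7 F101220) D111136 (iv4 D64980)
def n111137 : Q := act 4 n51263
theorem D111137 : act 4 n51263 = n111137 := rfl
theorem F172363 : act 2 n111137 = n64980 := d1_1 D111137 (iv4 D64980) (iv2 F101222)
theorem F172364 : act 7 n111137 = n64977 := d11_2 (iv7 F101223) D111137 (iv4 D64977)
theorem F172365 : act 0 n111137 = n62986 := d18_2 (iv1 F80856) D111137 F98296 (iv5 F76898) (iv4 F98548) (iv0 F166196) (iv4 D66504) F49452 (iv5 F48919)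
theorem F172366 : act 1 n111136 = n62986 := d15_0 (iv0 F172365) F172364 (iv2 F172360)
def n111138 : Q := act 0 n51265
theorem D111138 : act 0 n51265 = n111138 := rfl
def n111139 : Q := act 1 n51265
theorem D111139 : act 1 n51265 = n111139 := rfl
def n111140 : Q := act 2 n51265
theorem D111140 : act 2 n51265 = n111140 := rfl
theorem F172367 : act 3 n111140 = n65086 := d0_2 D51265 D111140 (iv2 D65086) (iv3 D30566) (iv2 F39075)
theorem F172368 : act 4 n111140 = n108444 := d1_2 (iv4 F80866) D111140 (iv2 D108444)
def n111141 : Q := act 5 n51265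
theorem D111141 : act 5 n51265 = n111141 := rfl
theorem F172369 : act 3 n111141 = n51266 := d6_1 D111141 (iv5 D51266) D51265
def n111142 : Q := act 6 n51265
theorem D111142 : act 6 n51265 = n111142 := rfl
theorem F172370 : act 3 n111142 = n51267 := d7_1 D111142 (iv6 D51267) D51265
theorem F172371 : act 4 n111142 = n108446 := d10_1 D111142 (iv6 D108446) (iv4 F80866)
def n111143 : Q := act 6 n51266
theorem D111143 : act 6 n51266 = n111143 := rfl
theorem F172372 : act 2 n111143 = n65091 := d3_1 D111143 (iv6 D65091) (iv2 F80867)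
theorem F172373 : act 4 n111143 = n63114 := d10_1 D111143 (iv6 D63114) (iv4 F80868)
def n111144 : Q := act 0 n51267
theorem D111144 : act 0 n51267 = n111144 := rfl
theorem F172374 : act 4 n111144 = n107758 := d20_8 (iv4 F171988) (iv1 F171990) (iv4 D106985) (iv3 F111772) (iv1 D50077) (iv3 F39077) (iv4 F80870) D111144 (iv3 D107758) (iv1 F80706)
theorem F172375 : act 6 n53588 = n111144 := d10_0 F172374 F166492 F166139
theorem F172376 : act 7 n65093 = n111144 := d11_0 F172374 (iv7 F171630) F171628
theorem F172377 : act 1 n65095 = n111144 := d18_6 (iv1 D30844) (iv4 F49301) F79651 (iv4 D50276) F49342 (iv4 F100886) F172374 (iv0 F166497) (iv5 D65913)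
theorem F172378 : act 2 n111144 = n65092 := d15_3 (iv0 D65092) D65093 F172376
theorem F172379 : act 4 n65092 = n110819 := d1_2 (iv4 F172374) F172378 (iv2 F171631)
theorem F172380 : act 6 n65092 = n110874 := d3_2 F172375 F172378 F171738
def n111145 : Q := act 1 n51267
theorem D111145 : act 1 n51267 = n111145 := rfl
theorem F172381 : act 1 n111145 = n65095 := d15_1 D111145 (iv7 D65095) (iv2 F80869)
theorem F172382 : act 7 n111145 = n65092 := d15_2 (iv0 D111144) D111145 (iv2 F172378)
theorem F172383 : act 2 n65093 = n111145 := d4_3 F172382 (iv2 F172378) (iv7 F172376)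
def n111146 : Q := act 5 n51267
theorem D111146 : act 5 n51267 = n111146 := rfl
theorem F172384 : act 2 n111146 = n65094 := d2_1 D111146 (iv5 D65094) (iv2 F80869)
def n111147 : Q := act 7 n51267
theorem D111147 : act 7 n51267 = n111147 := rfl
theorem F172385 : act 2 n111147 = n65095 := d4_1 D111147 (iv7 D65095) (iv2 F80869)
theorem F172386 : act 4 n111147 = n51270 := d11_1 D111147 (iv7 D51270) (iv4 F80870)
theorem F172387 : act 1 n65093 = n111147 := d15_1 D65093 (iv7 D111147) F80869
theorem F172388 : act 1 n111147 = n65092 := d15_1 F172387 (iv7 F172382) (iv2 F172383)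
def n111148 : Q := act 4 n51268
theorem D111148 : act 4 n51268 = n111148 := rfl
theorem F172389 : act 2 n111148 = n65098 := d1_1 D111148 (iv4 D65098) (iv2 F102479)
theorem F172390 : act 6 n111148 = n53597 := d10_2 F84549 D111148 (iv4 D53597)
theorem F172391 : act 7 n111148 = n65102 := d11_2 (iv7 F102480) D111148 (iv4 D65102)
theorem F172392 : act 1 n65098 = n51304 := d15_0 (iv0 F101612) (iv7 F172391) F172389
def n111149 : Q := act 4 n51269
theorem D111149 : act 4 n51269 = n111149 := rfl
theorem F172393 : act 2 n111149 = n65102 := d1_1 D111149 (iv4 D65102) (iv2 F102476)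
theorem F172394 : act 7 n111149 = n65098 := d11_2 (iv7 F102477) D111149 (iv4 D65098)
theorem F172395 : act 0 n111149 = n51273 := d18_2 (iv1 F80873) D111149 F80880 F80597 (iv4 F81208) F168493 F168491 F79470 F49342
theorem F172396 : act 1 n111148 = n51273 := d15_0 (iv0 F172395) F172394 (iv2 F172389)
def n111150 : Q := act 6 n51269
theorem D111150 : act 6 n51269 = n111150 := rfl
theorem F172397 : act 2 n111150 = n65103 := d3_1 D111150 (iv6 D65103) (iv2 F102476)
theorem F172398 : act 5 n111150 = n51589 := d12_1 D111150 F81425 (iv5 D51531) D51532 F81292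
theorem F172399 : act 7 n111150 = n53594 := d14_2 (iv7 F102477) D111150 (iv6 D53594) (iv7 F102448) F95819
theorem F172400 : act 0 n111150 = n51442 := d21_4 (iv5 F79712) F81293 F81292 D111150 (iv6 F98382) (iv5 D63069) F98255 F98252 (iv6 F79657) (iv1 F79659)
theorem F172401 : act 0 n51446 = n111150 := d21_4 (iv5 F100777) (iv1 F168220) (iv5 D53840) (iv6 F168223) (iv6 D111150) (iv5 F81292) F101116 (iv5 D65422) D65423 F101141
def n111151 : Q := act 0 n51271
theorem D111151 : act 0 n51271 = n111151 := rfl
def n111152 : Q := act 1 n51271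
theorem D111152 : act 1 n51271 = n111152 := rfl
def n111153 : Q := act 2 n51271
theorem D111153 : act 2 n51271 = n111153 := rfl
def n111154 : Q := act 5 n51271
theorem D111154 : act 5 n51271 = n111154 := rfl
theorem F172402 : act 3 n111154 = n51272 := d6_1 D111154 (iv5 D51272) D51271
def n111155 : Q := act 6 n51271
theorem D111155 : act 6 n51271 = n111155 := rfl
theorem F172403 : act 3 n111155 = n51273 := d7_1 D111155 (iv6 D51273) D51271
def n111156 : Q := act 6 n51272
theorem D111156 : act 6 n51272 = n111156 := rfl
theorem F172404 : act 4 n111156 = n63086 := d10_1 D111156 (iv6 D63086) (iv4 F80879)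
def n111157 : Q := act 5 n51273
theorem D111157 : act 5 n51273 = n111157 := rfl
theorem F172405 : act 0 n111157 = n108897 := d17_2 F172395 D111157 (iv5 D108897) (iv4 D50280) (iv5 D24522) D24521 (iv5 F39078) D51269 D111149
def n111158 : Q := act 7 n51273
theorem D111158 : act 7 n51273 = n111158 := rfl
theorem F172406 : act 4 n111158 = n65911 := d11_1 D111158 F101605 (iv4 F80880)
theorem F172407 : act 1 n65102 = n111158 := d15_1 (iv0 F101612) (iv7 D111158) (iv2 F80940)
theorem F172408 : act 1 n111158 = n65098 := d15_1 F172407 (iv7 F172394) F172393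
theorem F172409 : act 0 n107758 = n65911 := d20_10 (iv4 F172406) (iv1 F172407) (iv4 D65102) D65101 F169196 F80904 (iv4 F92841) (iv1 F166511) (iv4 D107759) D107758
def n111159 : Q := act 0 n51274
theorem D111159 : act 0 n51274 = n111159 := rfl
theorem F172410 : act 3 n111159 = n65111 := d20_5 F48986 F47950 (iv4 F39123) D51274 D111159 (iv4 D65111) (iv1 D30573) (iv4 F48988) (iv3 D30566) D30565
def n111160 : Q := act 1 n51274
theorem D111160 : act 1 n51274 = n111160 := rfl
def n111161 : Q := act 2 n51274
theorem D111161 : act 2 n51274 = n111161 := rfl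
theorem F172411 : act 4 n111161 = n74314 := d1_2 F111022 D111161 (iv2 F167143)
def n111162 : Q := act 5 n51274
theorem D111162 : act 5 n51274 = n111162 := rfl
theorem F172412 : act 3 n111162 = n51275 := d6_1 D111162 (iv5 D51275) D51274
def n111163 : Q := act 6 n51274
theorem D111163 : act 6 n51274 = n111163 := rfl
theorem F172413 : act 3 n111163 = n51276 := d7_1 D111163 (iv6 D51276) D51274
def n111164 : Q := act 6 n51275
theorem D111164 : act 6 n51275 = n111164 := rfl
theorem F172414 : act 4 n111164 = n63061 := d10_1 D111164 (iv6 D63061) (iv4 F80881)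
def n111165 : Q := act 5 n51276
theorem D111165 : act 5 n51276 = n111165 := rfl
def n111166 : Q := act 7 n51276
theorem D111166 : act 7 n51276 = n111166 := rfl
theorem F172415 : act 4 n111166 = n110822 := d11_1 D111166 (iv7 D110822) (iv4 F80882)
theorem F172416 : act 1 n66278 = n111166 := d15_1 (iv0 F101922) (iv7 D111166) (iv2 F80945)
def n111167 : Q := act 0 n51277
theorem D111167 : act 0 n51277 = n111167 := rfl
theorem F172417 : act 2 n51281 = n111167 := d15_3 (iv0 D111167) (iv0 D51277) D51281
theorem F172418 : act 7 n111167 = n51279 := d4_2 D51281 F172417 (iv2 D51279)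
theorem F172419 : act 1 n51278 = n111167 := d15_1 D51278 F172418 (iv2 D51279)
def n111168 : Q := act 2 n51277
theorem D111168 : act 2 n51277 = n111168 := rfl
theorem F172420 : act 7 n51278 = n111168 := d15_2 (iv0 D51277) D51278 (iv2 D111168)
def n111169 : Q := act 3 n51277
theorem D111169 : act 3 n51277 = n111169 := rfl
theorem F172421 : act 4 n111169 = n110955 := d20_6 (iv4 D16543) F11940 D11835 D24932 D51277 D111169 (iv1 F172002) (iv4 F111874) (iv3 D74513) (iv1 D34171)
def n111170 : Q := act 4 n51277
theorem D111170 : act 4 n51277 = n111170 := rfl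
def n111171 : Q := act 5 n51277
theorem D111171 : act 5 n51277 = n111171 := rfl
def n111172 : Q := act 6 n51277
theorem D111172 : act 6 n51277 = n111172 := rfl
def n111173 : Q := act 7 n51277
theorem D111173 : act 7 n51277 = n111173 := rfl
theorem F172422 : act 2 n111173 = n51278 := d4_1 D111173 F172420 (iv2 D111168)
def n111174 : Q := act 3 n51278
theorem D111174 : act 3 n51278 = n111174 := rfl
def n111175 : Q := act 4 n51278
theorem D111175 : act 4 n51278 = n111175 := rfl
def n111176 : Q := act 5 n51278
theorem D111176 : act 5 n51278 = n111176 := rfl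
def n111177 : Q := act 6 n51278
theorem D111177 : act 6 n51278 = n111177 := rfl
def n111178 : Q := act 0 n51279
theorem D111178 : act 0 n51279 = n111178 := rfl
theorem F172423 : act 1 n51281 = n111178 := d15_0 (iv0 D111178) (iv7 F172418) (iv2 F172417)
def n111179 : Q := act 1 n51279
theorem D111179 : act 1 n51279 = n111179 := rfl
theorem F172424 : act 1 n111179 = n51281 := d15_1 D111179 (iv7 D51281) D51279
theorem F172425 : act 3 n111179 = n110952 := d20_5 (iv4 D14501) (iv1 F19244) (iv4 F39080) (iv3 F80884) (iv1 F172424) (iv4 D110952) (iv1 D51159) (iv4 F80600) (iv3 D51095) F38970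
def n111180 : Q := act 5 n51279
theorem D111180 : act 5 n51279 = n111180 := rfl
theorem F172426 : act 2 n111180 = n51280 := d2_1 D111180 (iv5 D51280) D51279
def n111181 : Q := act 0 n51280
theorem D111181 : act 0 n51280 = n111181 := rfl
def n111182 : Q := act 1 n51280
theorem D111182 : act 1 n51280 = n111182 := rfl
def n111183 : Q := act 4 n51280
theorem D111183 : act 4 n51280 = n111183 := rfl
def n111184 : Q := act 6 n51280
theorem D111184 : act 6 n51280 = n111184 := rfl
def n111185 : Q := act 7 n51280
theorem D111185 : act 7 n51280 = n111185 := rfl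
theorem F172428 : act 3 n111185 = n51286 := d8_1 D111185 (iv7 D51286) (iv3 F80883)
theorem F172429 : act 5 n111185 = n51281 := d13_1 D111185 (iv7 D51281) D51280
def n111186 : Q := act 6 n51281
theorem D111186 : act 6 n51281 = n111186 := rfl
theorem F172430 : act 3 n111186 = n51287 := d7_1 D111186 (iv6 D51287) (iv3 F80884)
theorem F172431 : act 7 n111186 = n65377 := d14_2 D51281 D111186 (iv6 D65377) F49113 F47891
def n111187 : Q := act 3 n51282
theorem D111187 : act 3 n51282 = n111187 := rfl
theorem F172432 : act 5 n111187 = n62985 := d6_2 (iv5 F80885) D111187 (iv3 D62985)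
def n111188 : Q := act 6 n51282
theorem D111188 : act 6 n51282 = n111188 := rfl
theorem F172433 : act 4 n111188 = n63038 := d10_1 D111188 (iv6 D63038) F80886
def n111189 : Q := act 3 n51283
theorem D111189 : act 3 n51283 = n111189 := rfl
theorem F172434 : act 5 n111189 = n63027 := d6_2 (iv5 F80889) D111189 (iv3 D63027)
def n111190 : Q := act 6 n51283
theorem D111190 : act 6 n51283 = n111190 := rfl
theorem F172435 : act 4 n111190 = n63008 := d10_1 D111190 (iv6 D63008) F80890
def n111191 : Q := act 3 n51284
theorem D111191 : act 3 n51284 = n111191 := rfl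
theorem F172436 : act 5 n111191 = n62974 := d6_2 (iv5 F80892) D111191 F98266
theorem F172437 : act 7 n111191 = n62973 := d8_2 (iv7 F80895) D111191 F98265
def n111192 : Q := act 6 n51284
theorem D111192 : act 6 n51284 = n111192 := rfl
def n111196 : Q := act 6 n51286
theorem D111196 : act 6 n51286 = n111196 := rfl
theorem F172440 : act 2 n111196 = n63142 := d3_1 D111196 (iv6 D63142) (iv2 F80896)
theorem F172441 : act 4 n111196 = n62976 := d10_1 D111196 (iv6 D62976) (iv4 F80897)
def n111197 : Q := act 0 n51287
theorem D111197 : act 0 n51287 = n111197 := rfl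
theorem F172442 : act 4 n111197 = n59629 := d20_2 (iv4 F80899) D111197 (iv3 D59629) (iv1 D28296) F22652 (iv4 F22666) F94129 (iv4 D14768) D14767 (iv1 F168225)
theorem F172443 : act 1 n53450 = n111197 := d15_0 (iv0 D111197) F80900 (iv2 F84336)
theorem F172444 : act 2 n65380 = n111197 := d1_3 F172442 F171846 F170585
theorem F172445 : act 7 n65379 = n111197 := d11_0 F172442 F171847 F168334
def n111198 : Q := act 1 n51287
theorem D111198 : act 1 n51287 = n111198 := rfl
theorem F172446 : act 1 n111198 = n53450 := d15_1 D111198 F84338 F80958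
theorem F172447 : act 7 n111198 = n65380 := d15_2 (iv0 D111197) D111198 F172444
theorem F172448 : act 4 n110818 = n111198 := d20_0 (iv1 D111198) F80899 (iv3 F40062) F168339 (iv3 D30512) D30513 (iv1 F101321) F99527 F93828 D110818
theorem F172449 : act 2 n111198 = n65379 := d1_1 F172448 (iv4 F168334) (iv2 F171851)
def n111199 : Q := act 5 n51287
theorem D111199 : act 5 n51287 = n111199 := rfl
theorem F172450 : act 7 n111199 = n65381 := d13_2 (iv7 F80900) D111199 (iv5 D65381)
def n111200 : Q := act 6 n51288
theorem D111200 : act 6 n51288 = n111200 := rfl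
theorem F172451 : act 2 n111200 = n51446 := d3_1 D111200 F168223 (iv2 F168217)
theorem F172452 : act 3 n111200 = n65876 := d7_1 D111200 (iv6 D65876) (iv3 F168218)
theorem F172453 : act 5 n111200 = n51336 := d12_1 D111200 (iv6 F101115) (iv5 D65422) D65423 F101142
theorem F172454 : act 7 n111200 = n51442 := d14_2 (iv7 F101134) D111200 (iv6 F98382) F101129 (iv6 D65386)
theorem F172455 : act 0 n111200 = n65103 := d21_4 (iv5 F168317) (iv1 F168320) F101142 D111200 (iv6 D65103) (iv5 F79769) F101241 (iv5 F81223) F168231 F168219
theorem F172456 : act 0 n53594 = n111200 := d21_4 F24125 D14692 (iv5 F80864) D53594 (iv6 D111200) (iv5 F101142) F101141 (iv5 F100777) (iv6 D64981) (iv1 D30525)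
def n111201 : Q := act 0 n51290
theorem D111201 : act 0 n51290 = n111201 := rfl
theorem F172457 : act 6 n111201 = n107230 := d21_5 (iv5 D29961) (iv1 F24024) (iv5 F39086) D51290 D111201 F165260 F161385 (iv5 F53425) (iv6 D34047) F48167
theorem F172458 : act 2 n74256 = n111201 := d15_3 (iv0 D111201) (iv0 F169196) (iv7 F163556)
theorem F172459 : act 1 n74258 = n111201 := d15_0 (iv0 D111201) (iv7 F168821) F168819
theorem F172460 : act 7 n111201 = n74257 := d15_2 (iv0 F169195) F172459 (iv2 F168826)
theorem F172461 : act 3 n52182 = n111201 := d8_3 F172460 F168827 (iv7 F161364)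
def n111202 : Q := act 0 n51291
theorem D111202 : act 0 n51291 = n111202 := rfl
def n111203 : Q := act 1 n51291
theorem D111203 : act 1 n51291 = n111203 := rfl
def n111204 : Q := act 2 n51291
theorem D111204 : act 2 n51291 = n111204 := rfl
theorem F172462 : act 4 n111204 = n51310 := d1_2 (iv4 F80906) D111204 (iv2 D51310)
def n111205 : Q := act 5 n51291
theorem D111205 : act 5 n51291 = n111205 := rfl
theorem F172463 : act 3 n111205 = n51292 := d6_1 D111205 (iv5 D51292) D51291
def n111206 : Q := act 6 n51292
theorem D111206 : act 6 n51292 = n111206 := rfl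
def n111207 : Q := act 0 n51294
theorem D111207 : act 0 n51294 = n111207 := rfl
theorem F172464 : act 1 n111128 = n111207 := d15_0 (iv0 D111207) F80911 D111128
def n111208 : Q := act 1 n51294
theorem D111208 : act 1 n51294 = n111208 := rfl
def n111209 : Q := act 2 n51294
theorem D111209 : act 2 n51294 = n111209 := rfl
theorem F172465 : act 3 n111209 = n74412 := d0_2 D51294 D111209 (iv2 D74412) (iv3 D34134) (iv2 F39095)
theorem F172466 : act 4 n111209 = n108526 := d1_2 (iv4 F80910) D111209 (iv2 D108526)
theorem F172467 : act 7 n111209 = n111128 := d4_2 (iv7 F80911) D111209 (iv2 D111128)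
theorem F172468 : act 1 n111209 = n111126 := d15_0 (iv0 D111126) (iv7 F80911) D111209
theorem F172469 : act 1 n111208 = n111128 := d15_1 D111208 (iv7 F172467) (iv2 D111209)
theorem F172470 : act 1 n111127 = n111209 := d15_1 D111127 F172467 (iv2 D111128)
def n111210 : Q := act 5 n51294
theorem D111210 : act 5 n51294 = n111210 := rfl
theorem F172471 : act 3 n111210 = n51295 := d6_1 D111210 (iv5 D51295) D51294
theorem F172472 : act 7 n111210 = n111129 := d13_2 (iv7 F80911) D111210 (iv5 D111129)
def n111211 : Q := act 6 n51294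
theorem D111211 : act 6 n51294 = n111211 := rfl
theorem F172473 : act 3 n111211 = n51296 := d7_1 D111211 (iv6 D51296) D51294
theorem F172474 : act 4 n111211 = n108528 := d10_1 D111211 (iv6 D108528) (iv4 F80910)
def n111212 : Q := act 6 n51295
theorem D111212 : act 6 n51295 = n111212 := rfl
def n111213 : Q := act 5 n51296
theorem D111213 : act 5 n51296 = n111213 := rfl
theorem F172476 : act 2 n111213 = n74419 := d2_1 D111213 (iv5 D74419) (iv2 F80915)
def n111214 : Q := act 0 n51297
theorem D111214 : act 0 n51297 = n111214 := rfl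
theorem F172477 : act 1 n111140 = n111214 := d15_0 (iv0 D111214) F80918 D111140
def n111215 : Q := act 1 n51297
theorem D111215 : act 1 n51297 = n111215 := rfl
def n111216 : Q := act 2 n51297
theorem D111216 : act 2 n51297 = n111216 := rfl
theorem F172478 : act 3 n111216 = n74517 := d0_2 D51297 D111216 (iv2 D74517) (iv3 D34172) (iv2 F39110)
theorem F172479 : act 4 n111216 = n108536 := d1_2 (iv4 F80917) D111216 (iv2 D108536)
theorem F172480 : act 7 n111216 = n111140 := d4_2 (iv7 F80918) D111216 (iv2 D111140)
theorem F172481 : act 1 n111216 = n111138 := d15_0 (iv0 D111138) (iv7 F80918) D111216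
theorem F172482 : act 1 n111215 = n111140 := d15_1 D111215 (iv7 F172480) (iv2 D111216)
theorem F172483 : act 1 n111139 = n111216 := d15_1 D111139 F172480 (iv2 D111140)
def n111217 : Q := act 5 n51297
theorem D111217 : act 5 n51297 = n111217 := rfl
theorem F172484 : act 3 n111217 = n51298 := d6_1 D111217 (iv5 D51298) D51297
theorem F172485 : act 7 n111217 = n111141 := d13_2 (iv7 F80918) D111217 (iv5 D111141)
def n111218 : Q := act 6 n51297
theorem D111218 : act 6 n51297 = n111218 := rfl
theorem F172486 : act 3 n111218 = n51299 := d7_1 D111218 (iv6 D51299) D51297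
theorem F172487 : act 4 n111218 = n108538 := d10_1 D111218 (iv6 D108538) (iv4 F80917)
def n111219 : Q := act 6 n51298
theorem D111219 : act 6 n51298 = n111219 := rfl
theorem F172488 : act 2 n111219 = n74520 := d3_1 D111219 (iv6 D74520) (iv2 F80919)
def n111220 : Q := act 0 n51299
theorem D111220 : act 0 n51299 = n111220 := rfl
theorem F172489 : act 4 n111220 = n67604 := d18_3 (iv1 F79380) (iv4 F80922) D111220 (iv5 F167836) F167835 (iv0 D108540) F79376 D50122 (iv5 F79378)
theorem F172490 : act 2 n74521 = n111220 := d15_3 (iv0 D111220) (iv0 F171640) F171639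
theorem F172491 : act 7 n111220 = n74522 := d4_2 F171639 F172490 (iv2 F171604)
theorem F172492 : act 1 n74524 = n111220 := d15_1 F171641 F172491 (iv2 F171604)
def n111221 : Q := act 5 n51299
theorem D111221 : act 5 n51299 = n111221 := rfl
theorem F172493 : act 2 n111221 = n74523 := d2_1 D111221 (iv5 D74523) (iv2 F80921)
theorem F172494 : act 0 n111221 = n65489 := d17_2 F171640 D111221 (iv5 D65489) (iv4 F111413) F111414 (iv0 F111420) (iv5 F80599) D110821 F171638
theorem F172495 : act 1 n111221 = n65485 := d17_6 D14550 D30704 F49144 (iv5 F39115) (iv4 F80922) D111221 (iv5 D65485) (iv0 D30697) F24191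
def n111222 : Q := act 7 n51299
theorem D111222 : act 7 n51299 = n111222 := rfl
theorem F172496 : act 2 n111222 = n74524 := d4_1 D111222 (iv7 D74524) (iv2 F80921)
theorem F172497 : act 4 n111222 = n51301 := d11_1 D111222 (iv7 D51301) (iv4 F80922)
theorem F172498 : act 6 n111222 = n111147 := d14_1 D111222 (iv7 D111147) (iv6 D51267) (iv7 F39111) D51299
theorem F172499 : act 1 n74522 = n111222 := d15_1 D74522 (iv7 D111222) F80921
theorem F172500 : act 1 n111222 = n74521 := d15_1 F172499 (iv7 F171639) F171604
def n111223 : Q := act 4 n51300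
theorem D111223 : act 4 n51300 = n111223 := rfl
theorem F172501 : act 2 n111223 = n74525 := d1_1 D111223 (iv4 D74525) (iv2 F102165)
theorem F172502 : act 7 n111223 = n74527 := d11_2 F102108 D111223 (iv4 D74527)
theorem F172503 : act 1 n111223 = n51307 := d18_6 (iv1 D108105) (iv4 F79401) (iv1 F167862) (iv4 D108544) (iv5 F80923) D111223 F80946 D107686 (iv5 F171594)
theorem F172504 : act 1 n111166 = n111223 := d15_1 F172416 F172502 F111917
def n111224 : Q := act 0 n51302
theorem D111224 : act 0 n51302 = n111224 := rfl
theorem F172505 : act 3 n111224 = n74535 := d20_5 F53723 D51074 F80546 D51302 D111224 (iv4 D74535) (iv1 D34179) (iv4 F53732) (iv3 D34172) D34170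
theorem F172506 : act 1 n111161 = n111224 := d15_0 (iv0 D111224) F80936 D111161
def n111225 : Q := act 1 n51302
theorem D111225 : act 1 n51302 = n111225 := rfl
def n111226 : Q := act 2 n51302
theorem D111226 : act 2 n51302 = n111226 := rfl
theorem F172507 : act 3 n111226 = n111153 := d0_2 D51302 D111226 (iv2 D111153) (iv3 D51271) F39119
theorem F172508 : act 4 n111226 = n74291 := d1_2 (iv4 F80935) D111226 (iv2 D74291)
theorem F172509 : act 7 n111226 = n111161 := d4_2 (iv7 F80936) D111226 (iv2 D111161)
theorem F172510 : act 1 n111226 = n111159 := d15_0 (iv0 D111159) (iv7 F80936) D111226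
theorem F172511 : act 1 n111225 = n111161 := d15_1 D111225 (iv7 F172509) (iv2 D111226)
theorem F172512 : act 1 n111160 = n111226 := d15_1 D111160 F172509 (iv2 D111161)
def n111227 : Q := act 5 n51302
theorem D111227 : act 5 n51302 = n111227 := rfl
theorem F172513 : act 3 n111227 = n51303 := d6_1 D111227 (iv5 D51303) D51302
theorem F172514 : act 7 n111227 = n111162 := d13_2 (iv7 F80936) D111227 (iv5 D111162)
def n111228 : Q := act 6 n51302
theorem D111228 : act 6 n51302 = n111228 := rfl
theorem F172515 : act 3 n111228 = n51304 := d7_1 D111228 (iv6 D51304) D51302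
theorem F172516 : act 4 n111228 = n74293 := d10_1 D111228 (iv6 D74293) (iv4 F80935)
def n111229 : Q := act 6 n51303
theorem D111229 : act 6 n51303 = n111229 := rfl
theorem F172517 : act 2 n111229 = n111156 := d3_1 D111229 (iv6 D111156) (iv2 F80937)
theorem F172518 : act 4 n111229 = n108818 := d10_1 D111229 (iv6 D108818) (iv4 F80939)
def n111230 : Q := act 5 n51304
theorem D111230 : act 5 n51304 = n111230 := rfl
theorem F172519 : act 2 n111230 = n111157 := d2_1 D111230 (iv5 D111157) (iv2 F80940)
theorem F172520 : act 0 n111230 = n65418 := d17_2 F101612 D111230 (iv5 D65418) F49132 (iv5 F38405) (iv0 F39189) F39188 D30570 D65102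
def n111231 : Q := act 7 n51304
theorem D111231 : act 7 n51304 = n111231 := rfl
theorem F172521 : act 2 n111231 = n111158 := d4_1 D111231 (iv7 D111158) (iv2 F80940)
theorem F172522 : act 6 n111231 = n111166 := d14_1 D111231 (iv7 D111166) (iv6 D51276) F39120 D51304
theorem F172523 : act 1 n111149 = n111231 := d15_1 (iv0 F172395) (iv7 D111231) F80940
theorem F172524 : act 1 n111231 = n111148 := d15_1 F172523 F172391 (iv2 F172393)
def n111232 : Q := act 0 n51305
theorem D111232 : act 0 n51305 = n111232 := rfl
theorem F172525 : act 1 n111153 = n111232 := d15_0 (iv0 D111232) F80942 D111153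
def n111233 : Q := act 1 n51305
theorem D111233 : act 1 n51305 = n111233 := rfl
def n111234 : Q := act 2 n51305
theorem D111234 : act 2 n51305 = n111234 := rfl
theorem F172526 : act 3 n111234 = n111161 := d0_2 D51305 D111234 (iv2 D111161) (iv3 D51274) (iv2 F39121)
theorem F172527 : act 4 n111234 = n107690 := d1_2 (iv4 F80941) D111234 (iv2 D107690)
theorem F172528 : act 7 n111234 = n111153 := d4_2 (iv7 F80942) D111234 (iv2 D111153)
theorem F172529 : act 1 n111234 = n111151 := d15_0 (iv0 D111151) (iv7 F80942) D111234
theorem F172530 : act 1 n111233 = n111153 := d15_1 D111233 (iv7 F172528) (iv2 D111234)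
theorem F172531 : act 1 n111152 = n111234 := d15_1 D111152 F172528 (iv2 D111153)
def n111235 : Q := act 5 n51305
theorem D111235 : act 5 n51305 = n111235 := rfl
theorem F172532 : act 3 n111235 = n51306 := d6_1 D111235 (iv5 D51306) D51305
theorem F172533 : act 7 n111235 = n111154 := d13_2 (iv7 F80942) D111235 (iv5 D111154)
def n111236 : Q := act 6 n51305
theorem D111236 : act 6 n51305 = n111236 := rfl
theorem F172534 : act 3 n111236 = n51307 := d7_1 D111236 (iv6 D51307) D51305
theorem F172535 : act 4 n111236 = n107692 := d10_1 D111236 (iv6 D107692) (iv4 F80941)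
def n111237 : Q := act 6 n51306
theorem D111237 : act 6 n51306 = n111237 := rfl
theorem F172536 : act 2 n111237 = n111164 := d3_1 D111237 (iv6 D111164) (iv2 F80943)
def n111238 : Q := act 5 n51307
theorem D111238 : act 5 n51307 = n111238 := rfl
theorem F172537 : act 2 n111238 = n111165 := d2_1 D111238 (iv5 D111165) (iv2 F80945)
theorem F172538 : act 0 n111238 = n65522 := d17_2 F101922 D111238 (iv5 D65522) (iv4 D30707) D30708 (iv0 F49148) (iv5 F39115) F79380 (iv4 F101861)
theorem F172539 : act 1 n111238 = n65509 := d17_6 F111369 (iv5 F111365) (iv1 D50199) (iv5 F78617) (iv4 F80946) D111238 (iv5 D65509) (iv0 F101949) F101110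
def n111239 : Q := act 7 n51307
theorem D111239 : act 7 n51307 = n111239 := rfl
theorem F172540 : act 2 n111239 = n111166 := d4_1 D111239 (iv7 D111166) (iv2 F80945)
theorem F172541 : act 4 n111239 = n107687 := d11_1 D111239 (iv7 D107687) (iv4 F80946)
theorem F172542 : act 6 n111239 = n111158 := d14_1 D111239 (iv7 D111158) (iv6 D51273) F39118 D51307
theorem F172543 : act 1 n74527 = n111239 := d15_1 (iv0 F167967) (iv7 D111239) F80945
theorem F172544 : act 1 n111239 = n74525 := d15_1 F172543 F111911 (iv2 F111917)
def n111240 : Q := act 0 n51308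
theorem D111240 : act 0 n51308 = n111240 := rfl
theorem F172545 : act 2 n51312 = n111240 := d15_3 (iv0 D111240) (iv0 D51308) D51312
theorem F172546 : act 3 n111240 = n111167 := d0_2 (iv3 F80949) F172545 (iv2 F172417) F80884 (iv2 F39125)
theorem F172547 : act 7 n111240 = n51310 := d4_2 D51312 F172545 (iv2 D51310)
theorem F172548 : act 1 n51309 = n111240 := d15_1 D51309 F172547 (iv2 D51310)
def n111241 : Q := act 2 n51308
theorem D111241 : act 2 n51308 = n111241 := rfl
theorem F172549 : act 7 n51309 = n111241 := d15_2 (iv0 D51308) D51309 (iv2 D111241)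
def n111242 : Q := act 3 n51308
theorem D111242 : act 3 n51308 = n111242 := rfl
def n111243 : Q := act 4 n51308
theorem D111243 : act 4 n51308 = n111243 := rfl
def n111244 : Q := act 5 n51308
theorem D111244 : act 5 n51308 = n111244 := rfl
def n111245 : Q := act 6 n51308
theorem D111245 : act 6 n51308 = n111245 := rfl
def n111246 : Q := act 7 n51308
theorem D111246 : act 7 n51308 = n111246 := rfl
theorem F172550 : act 2 n111246 = n51309 := d4_1 D111246 F172549 (iv2 D111241)
def n111247 : Q := act 3 n51309
theorem D111247 : act 3 n51309 = n111247 := rfl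
def n111248 : Q := act 4 n51309
theorem D111248 : act 4 n51309 = n111248 := rfl
theorem F172551 : act 3 n108139 = n111248 := d20_5 (iv4 D49890) (iv1 F38123) (iv4 F38173) (iv3 F78986) (iv1 F167223) (iv4 D111248) (iv1 D51309) (iv4 F80906) (iv3 D51291) (iv1 F78892)
def n111249 : Q := act 5 n51309
theorem D111249 : act 5 n51309 = n111249 := rfl
def n111250 : Q := act 6 n51309
theorem D111250 : act 6 n51309 = n111250 := rfl
def n111251 : Q := act 0 n51310
theorem D111251 : act 0 n51310 = n111251 := rfl
theorem F172552 : act 1 n51312 = n111251 := d15_0 (iv0 D111251) (iv7 F172547) (iv2 F172545)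
theorem F172553 : act 4 n108131 = n111251 := d20_6 (iv4 D24351) (iv1 D11476) D11477 D24355 D49944 D108131 (iv1 F172552) (iv4 F167122) (iv3 D108087) (iv1 F78970)
def n111252 : Q := act 1 n51310
theorem D111252 : act 1 n51310 = n111252 := rfl
theorem F172554 : act 1 n111252 = n51312 := d15_1 D111252 (iv7 D51312) D51310
def n111253 : Q := act 5 n51310
theorem D111253 : act 5 n51310 = n111253 := rfl
theorem F172555 : act 2 n111253 = n51311 := d2_1 D111253 (iv5 D51311) D51310
theorem F172556 : act 3 n111253 = n111180 := d6_1 D111253 (iv5 D111180) (iv3 F80947)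
def n111254 : Q := act 0 n51311
theorem D111254 : act 0 n51311 = n111254 := rfl
def n111255 : Q := act 1 n51311
theorem D111255 : act 1 n51311 = n111255 := rfl
def n111256 : Q := act 4 n51311
theorem D111256 : act 4 n51311 = n111256 := rfl
def n111257 : Q := act 6 n51311
theorem D111257 : act 6 n51311 = n111257 := rfl
theorem F172557 : act 3 n111257 = n51315 := d7_1 D111257 (iv6 D51315) (iv3 F80948)
def n111258 : Q := act 6 n51312
theorem D111258 : act 6 n51312 = n111258 := rfl
theorem F172558 : act 3 n111258 = n51316 := d7_1 D111258 (iv6 D51316) (iv3 F80949)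
def n111259 : Q := act 3 n51313
theorem D111259 : act 3 n51313 = n111259 := rfl
theorem F172559 : act 7 n111259 = n111189 := d8_2 (iv7 F80956) D111259 (iv3 D111189)
def n111260 : Q := act 6 n51313
theorem D111260 : act 6 n51313 = n111260 := rfl
theorem F172560 : act 2 n111260 = n111188 := d3_1 D111260 (iv6 D111188) F80955
def n111261 : Q := act 3 n51314
theorem D111261 : act 3 n51314 = n111261 := rfl
theorem F172561 : act 5 n111261 = n107651 := d6_2 (iv5 F80952) D111261 (iv3 D107651)
theorem F172562 : act 7 n111261 = n111187 := d8_2 F80954 D111261 (iv3 D111187)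
def n111262 : Q := act 6 n51314
theorem D111262 : act 6 n51314 = n111262 := rfl
theorem F172563 : act 2 n111262 = n111190 := d3_1 D111262 (iv6 D111190) F80953
def n111263 : Q := act 0 n51315
theorem D111263 : act 0 n51315 = n111263 := rfl
def n111264 : Q := act 1 n51315
theorem D111264 : act 1 n51315 = n111264 := rfl
def n111265 : Q := act 7 n51315
theorem D111265 : act 7 n51315 = n111265 := rfl
def n111266 : Q := act 5 n51316
theorem D111266 : act 5 n51316 = n111266 := rfl
theorem F172569 : act 2 n111266 = n111199 := d2_1 D111266 (iv5 D111199) (iv2 F80958)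
def n111267 : Q := act 0 n51317
theorem D111267 : act 0 n51317 = n111267 := rfl
theorem F172570 : act 6 n111267 = n105194 := d21_5 (iv5 D16484) F22439 D24952 D51317 D111267 F167949 (iv1 D63704) F48314 (iv6 D25416) F26000
theorem F172571 : act 5 n111267 = n64089 := d21_0 (iv1 D64089) (iv5 F79700) (iv6 D50315) (iv1 F38532) (iv6 F25999) (iv5 D16484) F22439 D24952 D51317 D111267
theorem F172572 : act 2 n51579 = n111267 := d2_3 F172571 F168990 (iv5 F168988)
theorem F172573 : act 3 n58800 = n111267 := d6_3 F172571 F165574 (iv5 F92956)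
theorem F172574 : act 7 n105183 = n111267 := d13_0 F172571 (iv7 F165669) F165661
theorem F172575 : act 4 n51953 = n111267 := d20_2 (iv4 F39695) D51953 (iv3 F172573) (iv1 F92963) F79543 (iv4 F79578) (iv1 F167991) (iv4 F167996) (iv3 D51962) (iv1 D25209)
theorem E17259 : n110437 = n51953 := (c10_1 D110437 F172575 F172570 (iv4 F164134))
theorem F172576 : act 6 n51953 = n50923 := (sb E17259 (iv6 D110437))
theorem F172577 : act 0 n111267 = n105184 := d21_4 (iv5 F99029) (iv1 F99054) (iv5 F167949) (iv6 F172570) F161106 (iv5 F100091) (iv1 F100094) (iv5 F169925) (iv6 D109914) F168388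
def n111268 : Q := act 1 n51317
theorem D111268 : act 1 n51317 = n111268 := rfl
theorem F172578 : act 1 n111268 = n105184 := d15_1 D111268 (iv7 D105184) (iv2 F80960)
theorem F172579 : act 7 n111268 = n51579 := d15_2 (iv0 D111267) D111268 F172572
theorem F172580 : act 5 n61325 = n111268 := d21_0 (iv1 D111268) F80962 (iv6 D29977) F36905 (iv6 F11106) (iv5 D6849) D6847 D14335 D30206 (iv1 F165670)
theorem F172581 : act 2 n111268 = n105183 := d2_1 F172580 (iv5 F165661) F165660
theorem F172582 : act 3 n111268 = n51547 := d6_1 F172580 (iv5 F81330) D61325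
theorem F172583 : act 4 n111268 = n51954 := d20_6 F79865 (iv1 F39369) F39365 (iv3 F39316) (iv1 F81329) (iv3 F172582) (iv1 D51954) F39695 F19741 D11970
def n111269 : Q := act 7 n51317
theorem D111269 : act 7 n51317 = n111269 := rfl
theorem F172584 : act 2 n111269 = n105184 := d4_1 D111269 (iv7 D105184) (iv2 F80960)
theorem F172585 : act 3 n111269 = n51324 := d8_1 D111269 (iv7 D51324) (iv3 F80961)
theorem F172586 : act 5 n111269 = n63461 := d13_1 D111269 (iv7 D63461) (iv5 F80962)
theorem F172587 : act 6 n111269 = n51406 := d14_1 D111269 (iv7 D51406) (iv6 D24988) (iv7 F39133) D51317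
theorem F172588 : act 1 n105183 = n111269 := d15_1 D105183 (iv7 D111269) F80960
theorem F172589 : act 1 n111269 = n51579 := d15_1 F172588 (iv7 F172579) F172581
def n111270 : Q := act 3 n51318
theorem D111270 : act 3 n51318 = n111270 := rfl
theorem F172590 : act 4 n111270 = n108603 := d5_2 D51318 D111270 (iv3 D108603) (iv4 D50145) F39142
theorem F172591 : act 6 n111270 = n108890 := d7_2 (iv6 F80964) D111270 (iv3 D108890)
theorem F172592 : act 7 n111270 = n51359 := d8_2 (iv7 F80965) D111270 (iv3 D51359)
def n111271 : Q := act 0 n51319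
theorem D111271 : act 0 n51319 = n111271 := rfl
theorem F172593 : act 1 n51413 = n111271 := d15_0 (iv0 D111271) F80968 D51413
def n111272 : Q := act 1 n51319
theorem D111272 : act 1 n51319 = n111272 := rfl
theorem F172594 : act 4 n110630 = n111272 := d20_6 (iv4 D24809) (iv1 D11754) D11755 D24813 D51014 D110630 (iv1 D111272) (iv4 F171167) (iv3 D110595) (iv1 F80446)
def n111273 : Q := act 2 n51319
theorem D111273 : act 2 n51319 = n111273 := rfl
theorem F172595 : act 3 n111273 = n51376 := d0_2 D51319 D111273 (iv2 D51376) (iv3 D24976) (iv2 F39144)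
theorem F172596 : act 7 n111273 = n51413 := d4_2 (iv7 F80968) D111273 (iv2 D51413)
theorem F172597 : act 1 n111273 = n51411 := d15_0 (iv0 D51411) (iv7 F80968) D111273
theorem F172598 : act 1 n111272 = n51413 := d15_1 D111272 (iv7 F172596) (iv2 D111273)
theorem F172599 : act 1 n51412 = n111273 := d15_1 D51412 F172596 (iv2 D51413)
def n111274 : Q := act 5 n51319
theorem D111274 : act 5 n51319 = n111274 := rfl
theorem F172600 : act 3 n111274 = n51320 := d6_1 D111274 (iv5 D51320) D51319
theorem F172601 : act 7 n111274 = n51414 := d13_2 (iv7 F80968) D111274 (iv5 D51414)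
def n111275 : Q := act 6 n51319
theorem D111275 : act 6 n51319 = n111275 := rfl
theorem F172602 : act 3 n111275 = n51321 := d7_1 D111275 (iv6 D51321) D51319
def n111276 : Q := act 6 n51320
theorem D111276 : act 6 n51320 = n111276 := rfl
theorem F172603 : act 2 n111276 = n51381 := d3_1 D111276 (iv6 D51381) (iv2 F80969)
theorem F172604 : act 4 n111276 = n53463 := d10_1 D111276 (iv6 D53463) (iv4 F80971)
def n111277 : Q := act 0 n51321
theorem D111277 : act 0 n51321 = n111277 := rfl
theorem F172605 : act 4 n111277 = n110830 := d18_3 (iv1 D51323) (iv4 F80973) D111277 F171657 (iv4 F171517) F169040 F169037 F79725 F80977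
theorem F172606 : act 2 n51382 = n111277 := d15_3 (iv0 D111277) F170840 F170838
theorem F172607 : act 6 n111277 = n108610 := d3_2 F168456 F172606 F170695
theorem F172608 : act 7 n51383 = n111277 := d15_2 (iv0 D51382) D51383 (iv2 F172606)
theorem F172609 : act 2 n110454 = n51383 := d4_3 F172608 (iv2 F172606) (iv7 F170838)
theorem F172610 : act 4 n58795 = n51383 := d11_3 F172608 F172605 F171661
theorem F172611 : act 1 n51385 = n111277 := d15_1 F170839 (iv7 F172608) (iv2 F172609)
theorem F172612 : act 5 n51383 = n109017 := d17_5 (iv1 F168465) F98659 D110789 F171512 F172610 (iv0 D109017) (iv5 D50331) D50330 (iv4 F168462)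
def n111278 : Q := act 5 n51321
theorem D111278 : act 5 n51321 = n111278 := rfl
theorem F172613 : act 2 n111278 = n51384 := d2_1 D111278 (iv5 D51384) (iv2 F80972)
theorem F172614 : act 0 n111278 = n109012 := d17_2 (iv1 F170840) D111278 (iv5 D109012) D109011 F169932 (iv0 D108513) (iv5 F80613) (iv0 F168003) D110454
theorem F172615 : act 1 n111278 = n109016 := d17_6 (iv1 F79497) F79498 (iv1 D29982) (iv5 F39147) (iv4 F80973) D111278 (iv5 D109016) F168552 F168549
def n111279 : Q := act 7 n51321
theorem D111279 : act 7 n51321 = n111279 := rfl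
theorem F172616 : act 2 n111279 = n51385 := d4_1 D111279 (iv7 D51385) (iv2 F80972)
theorem F172617 : act 4 n111279 = n51324 := d11_1 D111279 (iv7 D51324) (iv4 F80973)
theorem F172618 : act 6 n111279 = n51420 := d14_1 D111279 (iv7 D51420) (iv6 D24994) (iv7 F39145) D51321
theorem F172619 : act 1 n51383 = n111279 := d15_1 D51383 (iv7 D111279) F80972
theorem F172620 : act 1 n111279 = n51382 := d15_1 F172619 (iv7 F170838) F172609
theorem E17260 : n108703 = n58823 := (c20_7 (iv4 F168455) (iv1 F172620) F172617 (iv3 F172585) (iv1 F172588) F165663 D108703 (iv1 D58823) F45223 (iv3 F45190) D58794)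
theorem F172621 : act 4 n58823 = n50190 := (sb E17260 (iv4 D108703))
def n111280 : Q := act 4 n51323
theorem D111280 : act 4 n51323 = n111280 := rfl
theorem F172622 : act 2 n111280 = n51391 := d1_1 D111280 (iv4 D51391) (iv2 F164330)
theorem F172623 : act 7 n111280 = n51388 := d11_2 (iv7 F164331) D111280 (iv4 D51388)
theorem F172624 : act 0 n111280 = n58793 := d18_2 (iv1 F80976) D111280 F92944 (iv5 F79253) F79252 (iv0 F168416) (iv4 D63478) F81131 F81129
theorem F172625 : act 1 n111280 = n109497 := d18_6 F168457 (iv4 F171507) (iv1 F171509) (iv4 D63015) F80977 D111280 F171668 F171667 F168454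
def n111281 : Q := act 0 n51325
theorem D111281 : act 0 n51325 = n111281 := rfl
theorem F172626 : act 1 n51376 = n111281 := d15_0 (iv0 D111281) F80985 D51376
def n111282 : Q := act 1 n51325
theorem D111282 : act 1 n51325 = n111282 := rfl
def n111283 : Q := act 2 n51325
theorem D111283 : act 2 n51325 = n111283 := rfl
theorem F172627 : act 3 n111283 = n51413 := d0_2 D51325 D111283 (iv2 D51413) (iv3 D24992) (iv2 F39148)
theorem F172628 : act 4 n111283 = n105202 := d1_2 (iv4 F80984) D111283 (iv2 D105202)
theorem F172629 : act 7 n111283 = n51376 := d4_2 (iv7 F80985) D111283 (iv2 D51376)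
theorem F172630 : act 1 n111283 = n51374 := d15_0 (iv0 D51374) (iv7 F80985) D111283
theorem F172631 : act 1 n111282 = n51376 := d15_1 D111282 (iv7 F172629) (iv2 D111283)
theorem F172632 : act 1 n51375 = n111283 := d15_1 D51375 F172629 (iv2 D51376)
def n111284 : Q := act 5 n51325
theorem D111284 : act 5 n51325 = n111284 := rfl
theorem F172633 : act 3 n111284 = n51326 := d6_1 D111284 (iv5 D51326) D51325
theorem F172634 : act 7 n111284 = n51377 := d13_2 (iv7 F80985) D111284 (iv5 D51377)
def n111285 : Q := act 6 n51325
theorem D111285 : act 6 n51325 = n111285 := rfl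
theorem F172635 : act 3 n111285 = n51327 := d7_1 D111285 (iv6 D51327) D51325
theorem F172636 : act 4 n111285 = n105203 := d10_1 D111285 (iv6 D105203) (iv4 F80984)
def n111286 : Q := act 6 n51326
theorem D111286 : act 6 n51326 = n111286 := rfl
theorem F172637 : act 2 n111286 = n51416 := d3_1 D111286 (iv6 D51416) (iv2 F80986)
theorem F172638 : act 4 n111286 = n65396 := d10_1 D111286 (iv6 D65396) (iv4 F80987)
def n111287 : Q := act 0 n51327
theorem D111287 : act 0 n51327 = n111287 := rfl
theorem F172639 : act 4 n111287 = n65897 := d18_3 F39152 (iv4 F80990) D111287 F101584 (iv4 F167694) F167696 (iv4 D74462) (iv0 D34151) (iv5 F38448)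
theorem F172640 : act 2 n108755 = n111287 := d15_3 (iv0 D111287) (iv0 F94230) D108755
theorem F172641 : act 7 n111287 = n51418 := d4_2 D108755 F172640 F81185
theorem E17261 : n108755 = n51417 := (c15_4 (iv0 D51417) D51418 (iv7 F172641) (iv2 F172640))
theorem F172642 : act 2 n51417 = n111287 := (sb E17261 F172640)
theorem F172643 : act 7 n51417 = n50215 := (sb E17261 (iv7 D108755))
theorem F172644 : act 6 n108747 = n111287 := d14_5 F172641 (iv6 F81184) F49284 D50212 D108747
theorem F172645 : act 1 n51420 = n111287 := d15_1 F94231 F172641 F81185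
def n111288 : Q := act 5 n51327
theorem D111288 : act 5 n51327 = n111288 := rfl
theorem F172646 : act 2 n111288 = n51419 := d2_1 D111288 (iv5 D51419) (iv2 F80989)
def n111289 : Q := act 7 n51327
theorem D111289 : act 7 n51327 = n111289 := rfl
theorem F172647 : act 2 n111289 = n51420 := d4_1 D111289 (iv7 D51420) (iv2 F80989)
theorem F172648 : act 4 n111289 = n51329 := d11_1 D111289 (iv7 D51329) (iv4 F80990)
theorem F172649 : act 6 n111289 = n51385 := d14_1 D111289 (iv7 D51385) (iv6 D24978) (iv7 F39149) D51327
theorem F172650 : act 1 n51418 = n111289 := d15_1 D51418 (iv7 D111289) F80989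
theorem F172651 : act 1 n111289 = n51417 := d15_1 F172650 F172643 (iv2 F81185)
def n111290 : Q := act 4 n51328
theorem D111290 : act 4 n51328 = n111290 := rfl
theorem F172652 : act 2 n111290 = n51421 := d1_1 D111290 (iv4 D51421) F80992
theorem F172653 : act 6 n111290 = n108727 := d10_2 F80995 D111290 F168684
theorem F172654 : act 7 n111290 = n51423 := d11_2 (iv7 F80994) D111290 (iv4 D51423)
theorem F172655 : act 1 n111290 = n66017 := d18_6 D63368 (iv4 F171755) (iv1 F167685) F167683 (iv5 F80991) D111290 F101700 (iv0 F93897) F49288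
theorem F172656 : act 0 n111290 = n108737 := d20_1 D111290 (iv4 F168691) (iv3 F101581) (iv1 F82305) F45256 D52482 (iv1 F82856) F76512 (iv3 F39151) D51328
def n111291 : Q := act 0 n51330
theorem D111291 : act 0 n51330 = n111291 := rfl
theorem F172657 : act 6 n111291 = n105225 := d21_5 (iv5 D14408) D14407 (iv5 F39279) D51330 D111291 F168425 (iv1 D63697) (iv5 F76496) (iv6 D48637) F36879
theorem F172658 : act 2 n51712 = n111291 := d3_3 F172657 F168165 (iv6 F168168)
theorem F172659 : act 3 n105169 = n111291 := d7_3 F172657 (iv3 D105225) (iv6 F161074)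
theorem F172660 : act 0 n111291 = n105210 := d21_4 F172586 (iv1 F99041) (iv5 F168425) (iv6 F172657) F161148 (iv5 F99057) (iv1 F99060) (iv5 F163882) (iv6 F81412) (iv1 F172589)
theorem F172662 : act 4 n58982 = n111291 := d20_2 (iv4 F45301) D58982 (iv3 F172659) (iv1 F161075) F78256 (iv4 F79683) (iv1 F168514) F168515 (iv3 D58992) (iv1 D28032)
def n111292 : Q := act 1 n51330
theorem D111292 : act 1 n51330 = n111292 := rfl
theorem F172663 : act 1 n111292 = n105210 := d15_1 D111292 (iv7 D105210) (iv2 F81002)
theorem F172664 : act 7 n111292 = n51712 := d15_2 (iv0 D111291) D111292 F172658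
theorem F172665 : act 4 n111292 = n58983 := d17_9 (iv1 D58983) D58984 F170765 (iv5 D110400) F80320 (iv5 D49495) D49494 (iv5 F81004) D111292
theorem F172666 : act 3 n51695 = n111292 := d20_5 (iv4 F46780) (iv1 F39499) F39495 (iv3 F39481) (iv1 F81620) F172665 (iv1 D58983) F45301 F22244 D13376
theorem F172667 : act 2 n111292 = n105209 := d0_1 F172666 F168336 (iv2 F165555) (iv3 D51717) (iv2 F99279)
def n111293 : Q := act 7 n51330
theorem D111293 : act 7 n51330 = n111293 := rfl
theorem F172668 : act 2 n111293 = n105210 := d4_1 D111293 (iv7 D105210) (iv2 F81002)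
theorem F172669 : act 3 n111293 = n51337 := d8_1 D111293 (iv7 D51337) (iv3 F81003)
theorem F172670 : act 5 n111293 = n107120 := d13_1 D111293 F165099 (iv5 F81004)
theorem F172671 : act 6 n111293 = n51454 := d14_1 D111293 (iv7 D51454) (iv6 D25008) (iv7 F39154) D51330
theorem F172672 : act 1 n105209 = n111293 := d15_1 D105209 (iv7 D111293) F81002
theorem F172673 : act 1 n111293 = n51712 := d15_1 F172672 (iv7 F172664) F172667
def n111294 : Q := act 3 n51331
theorem D111294 : act 3 n51331 = n111294 := rfl
theorem F172674 : act 4 n111294 = n51697 := d5_2 (iv4 F81005) D111294 (iv3 D51697) (iv4 F39644) (iv3 F40899)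
theorem F172675 : act 7 n111294 = n51426 := d8_2 (iv7 F81008) D111294 (iv3 D51426)
theorem F172676 : act 0 n111294 = n51900 := d20_4 D25018 (iv1 F40902) (iv4 F81005) D111294 (iv3 D51900) (iv4 D25183) (iv1 D11951) (iv4 F19568) (iv3 D11883) D11881
def n111295 : Q := act 6 n51331
theorem D111295 : act 6 n51331 = n111295 := rfl
theorem F172677 : act 2 n111295 = n51425 := d3_1 D111295 (iv6 D51425) F81006
theorem F172678 : act 4 n111295 = n53447 := d10_1 D111295 (iv6 D53447) (iv4 F81005)
theorem F172679 : act 7 n111295 = n65894 := d14_2 (iv7 F81008) D111295 (iv6 D65894) F49279 (iv6 F39239)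
theorem F172680 : act 1 n51530 = n111295 := d15_1 (iv0 F166171) F172679 F101576
theorem F172681 : act 1 n111295 = n51535 := d15_1 F172680 F102482 F102474
theorem F172682 : act 0 n59212 = n51918 := d20_4 (iv4 F93082) (iv1 F93084) F161334 D59212 (iv3 F84328) (iv4 F172678) (iv1 F172680) (iv4 D51530) F161325 (iv1 F76491)
theorem F172683 : act 1 n59212 = n51917 := d15_1 (iv0 F172682) F81957 (iv2 F81958)
def n111296 : Q := act 0 n51332
theorem D111296 : act 0 n51332 = n111296 := rfl
theorem F172684 : act 1 n51457 = n111296 := d15_0 (iv0 D111296) F81009 D51457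
def n111297 : Q := act 1 n51332
theorem D111297 : act 1 n51332 = n111297 := rfl
theorem F172685 : act 3 n51879 = n111297 := d20_3 D110274 (iv1 F170512) (iv4 F169979) (iv1 D111297) (iv3 D51332) (iv4 D24960) (iv1 F19276) (iv4 F19570) (iv3 F38704) D50850
theorem F172686 : act 4 n110085 = n111297 := d20_6 (iv4 D24799) (iv1 F19488) D13429 (iv3 F38686) D50771 D110085 (iv1 D111297) (iv4 F166882) (iv3 D108008) (iv1 F78874)
def n111298 : Q := act 2 n51332
theorem D111298 : act 2 n51332 = n111298 := rfl
theorem F172687 : act 3 n111298 = n51429 := d0_2 D51332 D111298 (iv2 D51429) (iv3 D25000) (iv2 F39156)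
theorem F172688 : act 7 n111298 = n51457 := d4_2 (iv7 F81009) D111298 (iv2 D51457)
theorem F172689 : act 1 n111298 = n51455 := d15_0 (iv0 D51455) (iv7 F81009) D111298
theorem F172690 : act 1 n111297 = n51457 := d15_1 D111297 (iv7 F172688) (iv2 D111298)
theorem F172691 : act 1 n51456 = n111298 := d15_1 D51456 F172688 (iv2 D51457)
def n111299 : Q := act 5 n51332
theorem D111299 : act 5 n51332 = n111299 := rfl
theorem F172692 : act 3 n111299 = n51333 := d6_1 D111299 (iv5 D51333) D51332
theorem F172693 : act 7 n111299 = n51458 := d13_2 (iv7 F81009) D111299 (iv5 D51458)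
def n111300 : Q := act 6 n51332
theorem D111300 : act 6 n51332 = n111300 := rfl
theorem F172694 : act 3 n111300 = n51334 := d7_1 D111300 (iv6 D51334) D51332
def n111301 : Q := act 6 n51333
theorem D111301 : act 6 n51333 = n111301 := rfl
theorem F172695 : act 2 n111301 = n51434 := d3_1 D111301 (iv6 D51434) (iv2 F81010)
theorem F172696 : act 4 n111301 = n53586 := d10_1 D111301 (iv6 D53586) (iv4 F81012)
def n111302 : Q := act 0 n51334
theorem D111302 : act 0 n51334 = n111302 := rfl
def n111303 : Q := act 1 n51334
theorem D111303 : act 1 n51334 = n111303 := rfl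
theorem F172697 : act 1 n111303 = n51438 := d15_1 D111303 (iv7 D51438) (iv2 F81013)
theorem F172698 : act 4 n111303 = n59230 := d20_2 (iv4 F81215) (iv1 F172697) (iv3 D59230) (iv1 D28123) F22326 (iv4 F19022) (iv1 F48934) (iv4 D24666) D24665 (iv1 F168265)
theorem F172699 : act 7 n51435 = n111303 := d11_0 F172698 F171881 (iv4 F168471)
theorem F172700 : act 2 n51435 = n111302 := d15_3 (iv0 D111302) D111303 (iv7 F172699)
theorem F172701 : act 6 n111302 = n108645 := d3_2 F168472 F172700 F171918
theorem F172702 : act 7 n51436 = n111302 := d15_2 (iv0 D51435) D51436 (iv2 F172700)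
theorem F172703 : act 2 n111303 = n51436 := d4_3 F172702 (iv2 F172700) F172699
theorem F172704 : act 1 n51438 = n111302 := d15_1 F172697 (iv7 F172702) (iv2 F172703)
theorem F172705 : act 2 n58861 = n59230 := d1_3 (iv4 F172698) F172703 (iv4 F168696)
def n111304 : Q := act 5 n51334
theorem D111304 : act 5 n51334 = n111304 := rfl
theorem F172706 : act 2 n111304 = n51437 := d2_1 D111304 (iv5 D51437) (iv2 F81013)
def n111305 : Q := act 7 n51334
theorem D111305 : act 7 n51334 = n111305 := rfl
theorem F172707 : act 2 n111305 = n51438 := d4_1 D111305 (iv7 D51438) (iv2 F81013)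
theorem F172708 : act 4 n111305 = n51337 := d11_1 D111305 (iv7 D51337) (iv4 F81014)
theorem F172709 : act 6 n111305 = n51464 := d14_1 D111305 (iv7 D51464) (iv6 D25011) (iv7 F39157) D51334
theorem F172710 : act 1 n51436 = n111305 := d15_1 D51436 (iv7 D111305) F81013
theorem F172711 : act 1 n111305 = n51435 := d15_1 F172710 F172699 F172703
def n111306 : Q := act 4 n51336
theorem D111306 : act 4 n51336 = n111306 := rfl
theorem F172712 : act 2 n111306 = n51445 := d1_1 D111306 (iv4 D51445) (iv2 F101117)
theorem F172713 : act 7 n111306 = n51441 := d11_2 (iv7 F101118) D111306 (iv4 D51441)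
theorem F172714 : act 0 n111306 = n51346 := d20_1 D111306 F81044 F45258 D27993 F168037 D59140 F163191 F82698 F40195 (iv1 F81015)
theorem F172715 : act 1 n111306 = n51487 := d15_1 (iv0 F172714) (iv7 D51487) (iv2 F81043)
theorem E17262 : n109835 = n51487 := ((c15_1 F172715 (iv0 D109835) (iv7 F168245) (iv2 F172712))).symm
theorem F172716 : act 1 n51487 = n50651 := (sb E17262 (iv0 D109835))
def n111307 : Q := act 0 n51338
theorem D111307 : act 0 n51338 = n111307 := rfl
theorem F172717 : act 1 n51429 = n111307 := d15_0 (iv0 D111307) F81022 D51429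
def n111308 : Q := act 1 n51338
theorem D111308 : act 1 n51338 = n111308 := rfl
def n111309 : Q := act 2 n51338
theorem D111309 : act 2 n51338 = n111309 := rfl
theorem F172718 : act 3 n111309 = n51457 := d0_2 D51338 D111309 (iv2 D51457) (iv3 D25009) (iv2 F39159)
theorem F172719 : act 4 n111309 = n59174 := d1_2 (iv4 F81021) D111309 (iv2 D59174)
theorem F172720 : act 7 n111309 = n51429 := d4_2 (iv7 F81022) D111309 (iv2 D51429)
theorem F172721 : act 1 n111309 = n51427 := d15_0 (iv0 D51427) (iv7 F81022) D111309
theorem F172722 : act 1 n111308 = n51429 := d15_1 D111308 (iv7 F172720) (iv2 D111309)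
theorem F172723 : act 1 n51428 = n111309 := d15_1 D51428 F172720 (iv2 D51429)
def n111310 : Q := act 5 n51338
theorem D111310 : act 5 n51338 = n111310 := rfl
theorem F172724 : act 3 n111310 = n51339 := d6_1 D111310 (iv5 D51339) D51338
theorem F172725 : act 7 n111310 = n51430 := d13_2 (iv7 F81022) D111310 (iv5 D51430)
def n111311 : Q := act 6 n51338
theorem D111311 : act 6 n51338 = n111311 := rfl
theorem F172726 : act 3 n111311 = n51340 := d7_1 D111311 (iv6 D51340) D51338
theorem F172727 : act 4 n111311 = n59176 := d10_1 D111311 (iv6 D59176) (iv4 F81021)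
def n111312 : Q := act 6 n51339
theorem D111312 : act 6 n51339 = n111312 := rfl
theorem F172728 : act 2 n111312 = n51460 := d3_1 D111312 (iv6 D51460) (iv2 F81023)
theorem F172729 : act 4 n111312 = n66202 := d10_1 D111312 (iv6 D66202) (iv4 F81024)
def n111313 : Q := act 0 n51340
theorem D111313 : act 0 n51340 = n111313 := rfl
def n111314 : Q := act 1 n51340
theorem D111314 : act 1 n51340 = n111314 := rfl
theorem F172730 : act 1 n111314 = n51464 := d15_1 D111314 (iv7 D51464) (iv2 F81026)
theorem F172731 : act 5 n108793 = n111314 := d17_7 F163891 (iv5 F48244) (iv1 F163900) (iv5 D24497) (iv4 F38451) D50226 D108793 F172730 F81237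
theorem F172732 : act 6 n108632 = n111314 := d21_5 D50211 F79567 (iv5 D50159) D50160 D108632 (iv5 F172731) (iv1 D108793) (iv5 D50226) (iv6 D24494) D24490
def n111315 : Q := act 5 n51340
theorem D111315 : act 5 n51340 = n111315 := rfl
theorem F172733 : act 2 n111315 = n51463 := d2_1 D111315 (iv5 D51463) (iv2 F81026)
def n111316 : Q := act 7 n51340
theorem D111316 : act 7 n51340 = n111316 := rfl
theorem F172734 : act 2 n111316 = n51464 := d4_1 D111316 (iv7 D51464) (iv2 F81026)
theorem F172735 : act 4 n111316 = n51343 := d11_1 D111316 (iv7 D51343) (iv4 F81027)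
theorem F172736 : act 6 n111316 = n51438 := d14_1 D111316 (iv7 D51438) (iv6 D25002) (iv7 F39160) D51340
theorem F172737 : act 1 n51464 = n111313 := d15_0 (iv0 D111313) D111316 F172734
theorem F172738 : act 1 n51462 = n111316 := d15_1 D51462 (iv7 D111316) F81026
theorem E17263 : n108952 = n51462 := (c18_6 (iv1 F79596) (iv4 F168744) (iv1 F168747) (iv4 F168008) F97078 (iv4 F168956) F172738 F172735 F81038 F79597)
theorem F172739 : act 4 n51462 = n59028 := (sb E17263 F168956)
theorem F172740 : act 6 n51462 = n50300 := (sb E17263 (iv6 D108952))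
theorem F172741 : act 1 n108790 = n51463 := d17_6 F168010 F98199 D108409 F167594 F169240 D108790 (iv5 D51463) D51462 F172739
theorem F172742 : act 1 n111316 = n51461 := d15_0 (iv0 D51461) D51464 (iv2 F172734)
def n111317 : Q := act 4 n51341
theorem D111317 : act 4 n51341 = n111317 := rfl
theorem F172743 : act 2 n111317 = n51467 := d1_1 D111317 (iv4 D51467) (iv2 F101653)
theorem F172744 : act 7 n111317 = n51471 := d11_2 (iv7 F101654) D111317 (iv4 D51471)
theorem F172745 : act 1 n111317 = n51349 := d18_6 (iv1 F168011) (iv4 F98263) (iv1 F168733) (iv4 D108804) (iv5 F81028) D111317 (iv4 F98198) (iv0 F168010) (iv5 F97078)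
theorem F172746 : act 0 n108980 = n59029 := d20_7 F98198 (iv1 F172745) (iv4 D111317) (iv3 F168283) (iv1 F79496) (iv3 F79707) (iv4 F168982) (iv4 D59029) D59028 F168010
theorem F172747 : act 0 n64066 = n51783 := d20_7 (iv4 F168982) F172746 (iv4 D59029) D59028 F168010 F98197 (iv4 F99661) (iv4 D51783) D51782 (iv1 F168429)
theorem F172748 : act 1 n107583 = n59029 := d15_0 (iv0 F172746) (iv7 D108980) (iv2 F165981)
theorem F172749 : act 0 n62052 = n64087 := d18_2 (iv1 F96617) D62052 F99700 (iv5 F79700) (iv4 F165982) F172748 (iv4 D59029) F93217 (iv5 F96614)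
theorem F172750 : act 1 n51499 = n111317 := d15_1 (iv0 F171524) F172744 F164018
def n111318 : Q := act 0 n51344
theorem D111318 : act 0 n51344 = n111318 := rfl
theorem F172751 : act 1 n51490 = n111318 := d15_0 (iv0 D111318) F81040 D51490
def n111319 : Q := act 1 n51344
theorem D111319 : act 1 n51344 = n111319 := rfl
def n111320 : Q := act 2 n51344
theorem D111320 : act 2 n51344 = n111320 := rfl
theorem F172752 : act 3 n111320 = n51476 := d0_2 D51344 D111320 (iv2 D51476) (iv3 D25017) (iv2 F39255)
theorem F172753 : act 4 n111320 = n58867 := d1_2 (iv4 F81039) D111320 (iv2 D58867)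
theorem F172754 : act 7 n111320 = n51490 := d4_2 (iv7 F81040) D111320 (iv2 D51490)
theorem F172755 : act 1 n111320 = n51488 := d15_0 (iv0 D51488) (iv7 F81040) D111320
theorem F172756 : act 1 n111319 = n51490 := d15_1 D111319 (iv7 F172754) (iv2 D111320)
theorem F172757 : act 1 n51489 = n111320 := d15_1 D51489 F172754 (iv2 D51490)
def n111321 : Q := act 5 n51344
theorem D111321 : act 5 n51344 = n111321 := rfl
theorem F172758 : act 3 n111321 = n51345 := d6_1 D111321 (iv5 D51345) D51344
theorem F172759 : act 7 n111321 = n51492 := d13_2 (iv7 F81040) D111321 (iv5 D51492)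
def n111322 : Q := act 6 n51344
theorem D111322 : act 6 n51344 = n111322 := rfl
theorem F172760 : act 3 n111322 = n51346 := d7_1 D111322 (iv6 D51346) D51344
theorem F172761 : act 4 n111322 = n58869 := d10_1 D111322 (iv6 D58869) (iv4 F81039)
def n111323 : Q := act 6 n51345
theorem D111323 : act 6 n51345 = n111323 := rfl
theorem F172762 : act 2 n111323 = n51483 := d3_1 D111323 (iv6 D51483) (iv2 F81041)
def n111324 : Q := act 5 n51346
theorem D111324 : act 5 n51346 = n111324 := rfl
theorem F172763 : act 2 n111324 = n51486 := d2_1 D111324 (iv5 D51486) (iv2 F81043)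
def n111325 : Q := act 7 n51346
theorem D111325 : act 7 n51346 = n111325 := rfl
theorem F172764 : act 2 n111325 = n51487 := d4_1 D111325 (iv7 D51487) (iv2 F81043)
theorem F172765 : act 4 n111325 = n58862 := d11_1 D111325 (iv7 D58862) (iv4 F81044)
theorem F172766 : act 6 n111325 = n51499 := d14_1 D111325 (iv7 D51499) (iv6 D25025) (iv7 F39256) D51346
theorem F172767 : act 1 n51445 = n111325 := d15_1 (iv0 F111668) (iv7 D111325) F81043
def n111326 : Q := act 0 n51347
theorem D111326 : act 0 n51347 = n111326 := rfl
theorem F172769 : act 1 n51476 = n111326 := d15_0 (iv0 D111326) F81045 D51476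
def n111327 : Q := act 1 n51347
theorem D111327 : act 1 n51347 = n111327 := rfl
def n111328 : Q := act 2 n51347
theorem D111328 : act 2 n51347 = n111328 := rfl
theorem F172770 : act 3 n111328 = n51490 := d0_2 D51347 D111328 (iv2 D51490) (iv3 D25022) (iv2 F39257)
theorem F172771 : act 7 n111328 = n51476 := d4_2 (iv7 F81045) D111328 (iv2 D51476)
theorem F172772 : act 1 n111328 = n51474 := d15_0 (iv0 D51474) (iv7 F81045) D111328
theorem F172773 : act 1 n111327 = n51476 := d15_1 D111327 (iv7 F172771) (iv2 D111328)
theorem F172774 : act 1 n51475 = n111328 := d15_1 D51475 F172771 (iv2 D51476)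
def n111329 : Q := act 5 n51347
theorem D111329 : act 5 n51347 = n111329 := rfl
theorem F172775 : act 3 n111329 = n51348 := d6_1 D111329 (iv5 D51348) D51347
theorem F172776 : act 7 n111329 = n51478 := d13_2 (iv7 F81045) D111329 (iv5 D51478)
def n111330 : Q := act 6 n51347
theorem D111330 : act 6 n51347 = n111330 := rfl
theorem F172777 : act 3 n111330 = n51349 := d7_1 D111330 (iv6 D51349) D51347
def n111331 : Q := act 6 n51348
theorem D111331 : act 6 n51348 = n111331 := rfl
theorem F172778 : act 2 n111331 = n51495 := d3_1 D111331 (iv6 D51495) (iv2 F81046)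
def n111332 : Q := act 5 n51349
theorem D111332 : act 5 n51349 = n111332 := rfl
theorem F172779 : act 2 n111332 = n51498 := d2_1 D111332 (iv5 D51498) (iv2 F81048)
def n111333 : Q := act 7 n51349
theorem D111333 : act 7 n51349 = n111333 := rfl
theorem F172780 : act 2 n111333 = n51499 := d4_1 D111333 (iv7 D51499) (iv2 F81048)
theorem F172781 : act 6 n111333 = n51487 := d14_1 D111333 (iv7 D51487) (iv6 D25020) (iv7 F39258) D51349
theorem F172782 : act 1 n51471 = n111333 := d15_1 (iv0 F168440) (iv7 D111333) F81048
theorem F172783 : act 1 n111333 = n51467 := d15_1 F172782 F163896 (iv2 F164018)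
def n111334 : Q := act 2 n51350
theorem D111334 : act 2 n51350 = n111334 := rfl
theorem F172784 : act 7 n51351 = n111334 := d15_2 (iv0 D51350) D51351 (iv2 D111334)
def n111335 : Q := act 3 n51350
theorem D111335 : act 3 n51350 = n111335 := rfl
def n111336 : Q := act 4 n51350
theorem D111336 : act 4 n51350 = n111336 := rfl
theorem F172785 : act 0 n108927 = n111336 := d20_10 (iv4 D111336) (iv1 F170398) F170395 F168604 (iv1 F79746) D50376 D109135 F169125 (iv4 D108928) D108927
def n111337 : Q := act 5 n51350
theorem D111337 : act 5 n51350 = n111337 := rfl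
def n111338 : Q := act 6 n51350
theorem D111338 : act 6 n51350 = n111338 := rfl
def n111339 : Q := act 7 n51350
theorem D111339 : act 7 n51350 = n111339 := rfl
theorem F172786 : act 2 n111339 = n51351 := d4_1 D111339 F172784 (iv2 D111334)
def n111340 : Q := act 3 n51351
theorem D111340 : act 3 n51351 = n111340 := rfl
def n111341 : Q := act 4 n51351
theorem D111341 : act 4 n51351 = n111341 := rfl
theorem F172787 : act 3 n108913 = n111341 := d20_5 F38418 F38810 F38809 D50289 D108913 (iv4 D111341) (iv1 D51351) F39168 (iv3 D24470) D24468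
def n111342 : Q := act 5 n51351
theorem D111342 : act 5 n51351 = n111342 := rfl
def n111343 : Q := act 6 n51351
theorem D111343 : act 6 n51351 = n111343 := rfl
def n111344 : Q := act 0 n51352
theorem D111344 : act 0 n51352 = n111344 := rfl
theorem F172788 : act 1 n51354 = n111344 := d15_0 (iv0 D111344) (iv7 F170396) F170394
def n111345 : Q := act 1 n51352
theorem D111345 : act 1 n51352 = n111345 := rfl
theorem F172789 : act 1 n111345 = n51354 := d15_1 D111345 (iv7 D51354) D51352
def n111346 : Q := act 5 n51352
theorem D111346 : act 5 n51352 = n111346 := rfl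
theorem F172790 : act 2 n111346 = n51353 := d2_1 D111346 (iv5 D51353) D51352
theorem F172791 : act 3 n111346 = n51510 := d6_1 D111346 (iv5 D51510) (iv3 F81049)
def n111347 : Q := act 0 n51353
theorem D111347 : act 0 n51353 = n111347 := rfl
def n111348 : Q := act 1 n51353
theorem D111348 : act 1 n51353 = n111348 := rfl
def n111349 : Q := act 4 n51353
theorem D111349 : act 4 n51353 = n111349 := rfl
def n111350 : Q := act 6 n51353
theorem D111350 : act 6 n51353 = n111350 := rfl
theorem F172792 : act 3 n111350 = n51357 := d7_1 D111350 (iv6 D51357) (iv3 F81052)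
theorem F172793 : act 5 n111350 = n108683 := d12_1 D111350 (iv6 D108683) (iv5 D50179) (iv6 F39169) D51353
def n111351 : Q := act 6 n51354
theorem D111351 : act 6 n51354 = n111351 := rfl
theorem F172794 : act 3 n111351 = n51358 := d7_1 D111351 (iv6 D51358) (iv3 F81053)
def n111352 : Q := act 3 n51355
theorem D111352 : act 3 n51355 = n111352 := rfl
theorem F172797 : act 5 n111352 = n58792 := d6_2 (iv5 F81055) D111352 (iv3 D58792)
theorem F172798 : act 7 n111352 = n51517 := d8_2 F81058 D111352 (iv3 D51517)
def n111353 : Q := act 6 n51355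
theorem D111353 : act 6 n51355 = n111353 := rfl
theorem F172799 : act 2 n111353 = n51516 := d3_1 D111353 (iv6 D51516) F81057
def n111354 : Q := act 3 n51356
theorem D111354 : act 3 n51356 = n111354 := rfl
theorem F172800 : act 5 n111354 = n66016 := d6_2 (iv5 F81061) D111354 (iv3 D66016)
theorem F172801 : act 7 n111354 = n51515 := d8_2 (iv7 F81060) D111354 (iv3 D51515)
def n111355 : Q := act 6 n51356
theorem D111355 : act 6 n51356 = n111355 := rfl
theorem F172802 : act 2 n111355 = n51518 := d3_1 D111355 (iv6 D51518) F81062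
def n111356 : Q := act 0 n51357
theorem D111356 : act 0 n51357 = n111356 := rfl
def n111357 : Q := act 1 n51357
theorem D111357 : act 1 n51357 = n111357 := rfl
theorem F172803 : act 1 n111357 = n51523 := d15_1 D111357 (iv7 D51523) (iv2 F81063)
def n111358 : Q := act 7 n51357
theorem D111358 : act 7 n51357 = n111358 := rfl
theorem F172804 : act 2 n111358 = n51523 := d4_1 D111358 (iv7 D51523) (iv2 F81063)
theorem F172805 : act 5 n111358 = n108691 := d13_1 D111358 (iv7 D108691) (iv5 F81064)
theorem F172806 : act 1 n51523 = n111356 := d15_0 (iv0 D111356) D111358 F172804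
theorem F172807 : act 1 n51522 = n111358 := d15_1 D51522 (iv7 D111358) F81063
theorem F172808 : act 1 n111358 = n51521 := d15_0 (iv0 D51521) D51523 (iv2 F172804)
def n111359 : Q := act 5 n51358
theorem D111359 : act 5 n51358 = n111359 := rfl
theorem F172809 : act 2 n111359 = n51527 := d2_1 D111359 (iv5 D51527) (iv2 F81065)
theorem F172810 : act 7 n111359 = n108692 := d13_2 (iv7 F81067) D111359 (iv5 D108692)
theorem F172812 : act 1 n111359 = n109229 := d15_0 (iv0 D109229) (iv7 F81289) (iv2 F172809)
def n111360 : Q := act 0 n51359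
theorem D111360 : act 0 n51359 = n111360 := rfl
def n111361 : Q := act 1 n51359
theorem D111361 : act 1 n51359 = n111361 := rfl
def n111362 : Q := act 2 n51359
theorem D111362 : act 2 n51359 = n111362 := rfl
theorem F172813 : act 3 n111362 = n66020 := d0_2 D51359 D111362 (iv2 D66020) (iv3 D30888) (iv2 F39181)
theorem F172814 : act 4 n111362 = n108720 := d1_2 (iv4 F81070) D111362 (iv2 D108720)
def n111363 : Q := act 5 n51359
theorem D111363 : act 5 n51359 = n111363 := rfl
theorem F172815 : act 3 n111363 = n51360 := d6_1 D111363 (iv5 D51360) D51359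
def n111364 : Q := act 6 n51359
theorem D111364 : act 6 n51359 = n111364 := rfl
theorem F172816 : act 3 n111364 = n51361 := d7_1 D111364 (iv6 D51361) D51359
theorem F172817 : act 4 n111364 = n108722 := d10_1 D111364 (iv6 D108722) (iv4 F81070)
def n111365 : Q := act 6 n51360
theorem D111365 : act 6 n51360 = n111365 := rfl
theorem F172818 : act 2 n111365 = n66022 := d3_1 D111365 (iv6 D66022) (iv2 F81071)
theorem F172819 : act 4 n111365 = n65456 := d10_1 D111365 (iv6 D65456) (iv4 F81072)
def n111366 : Q := act 0 n51361
theorem D111366 : act 0 n51361 = n111366 := rfl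
theorem F172820 : act 4 n111366 = n110471 := d20_2 (iv4 F81076) D111366 (iv3 D110471) (iv1 F92980) F92975 (iv4 F165898) (iv1 F165899) F104342 (iv3 F104343) (iv1 D51363)
theorem F172821 : act 0 n111366 = n66015 := d20_7 (iv4 F80368) (iv1 D50948) F38777 (iv3 F38772) D50940 D110471 (iv4 F172820) F101698 F49338 (iv1 F39340)
theorem E17264 : n110471 = n108849 := ((c17_9 F172821 F169075 (iv1 D109070) (iv5 D50357) (iv4 F79730) F79731 F162138 F162136 F168860 (iv4 F172820))).symm
theorem F172822 : act 3 n108849 = n50940 := (sb E17264 (iv3 D110471))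
theorem F172823 : act 4 n108849 = n111366 := (sb E17264 (iv4 F172820))
def n111367 : Q := act 1 n51361
theorem D111367 : act 1 n51361 = n111367 := rfl
theorem F172824 : act 1 n111367 = n66015 := d15_1 D111367 (iv7 D66015) (iv2 F81075)
theorem F172825 : act 4 n111367 = n108850 := d18_7 (iv1 F162138) (iv4 F100838) F100839 F49263 (iv5 F39184) (iv4 F81076) D111367 F168853 (iv5 F162136)
def n111368 : Q := act 7 n51361
theorem D111368 : act 7 n51361 = n111368 := rfl
theorem F172826 : act 2 n111368 = n66015 := d4_1 D111368 (iv7 D66015) (iv2 F81075)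
theorem F172827 : act 4 n111368 = n51364 := d11_1 D111368 (iv7 D51364) (iv4 F81076)
theorem F172828 : act 6 n111368 = n108624 := d14_1 D111368 F168496 (iv6 F80964) F80965 D51361
theorem F172829 : act 1 n66012 = n111368 := d15_1 D66012 (iv7 D111368) F81075
theorem F172830 : act 1 n111368 = n66011 := d15_0 (iv0 D66011) D66015 (iv2 F172826)
def n111369 : Q := act 4 n51362
theorem D111369 : act 4 n51362 = n111369 := rfl
theorem F172831 : act 2 n111369 = n66005 := d1_1 D111369 (iv4 D66005) (iv2 F102468)
theorem F172832 : act 7 n111369 = n66009 := d11_2 (iv7 F102469) D111369 (iv4 D66009)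
theorem F172833 : act 0 n111369 = n108880 := d17_0 F168960 (iv1 D108959) (iv5 D50302) F38516 D24537 F38528 (iv5 F49339) F81083 D111369
theorem F172834 : act 1 n66005 = n108851 := d15_0 F168856 (iv7 F172832) F172831
def n111370 : Q := act 4 n51363
theorem D111370 : act 4 n51363 = n111370 := rfl
theorem F172835 : act 2 n111370 = n66009 := d1_1 D111370 (iv4 D66009) (iv2 F102432)
theorem F172836 : act 6 n111370 = n108730 := d10_2 (iv6 F84554) D111370 (iv4 D108730)
theorem F172837 : act 7 n111370 = n66005 := d11_2 (iv7 F102433) D111370 (iv4 D66005)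
theorem F172838 : act 0 n111370 = n51370 := d18_2 (iv1 F81077) D111370 (iv4 F82225) F82226 (iv4 F162129) (iv0 F162130) (iv4 D50314) F38528 (iv5 F49339)
theorem F172839 : act 1 n111370 = n108880 := d15_1 (iv0 F172838) F168873 F168854
theorem F172840 : act 1 n111369 = n51370 := d15_0 (iv0 F172838) F172837 (iv2 F172831)
def n111371 : Q := act 0 n51365
theorem D111371 : act 0 n51365 = n111371 := rfl
theorem F172841 : act 5 n111371 = n51511 := d17_1 D111371 (iv1 F170402) (iv5 D110246) (iv4 D50838) (iv5 D24729) F170124 (iv5 F80184) F170943 (iv4 F81086)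
theorem F172842 : act 4 n111371 = n109438 := d18_3 (iv1 F170940) (iv4 F81086) D111371 F170345 F169114 F169977 F38550 (iv0 F170126) D50788
theorem F172843 : act 1 n66020 = n111371 := d15_0 (iv0 D111371) F81087 D66020
theorem F172844 : act 2 n66019 = n111371 := d1_3 F172842 (iv2 F170344) F170323
theorem F172845 : act 7 n66018 = n111371 := d11_0 F172842 F170346 (iv4 F169596)
theorem E17265 : n109780 = n51507 := (c17_9 (iv1 D25027) D25029 D51511 (iv5 F172841) F172842 F170345 F169970 (iv5 F81887) D109780 (iv4 D51507))
theorem F172846 : act 0 n51507 = n50630 := (sb E17265 (iv1 D109780))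
theorem E17266 : n109617 = n109389 := (((F170860).symm.trans (sb E17265 (iv5 F170458)))).symm
theorem F172847 : act 0 n109389 = n50566 := (sb E17266 (iv1 D109617))
theorem F172848 : act 7 n51511 = n110281 := d13_2 F172845 F172841 F170518
theorem F172849 : act 2 n110281 = n51512 := d15_3 F170401 F170402 F172848
theorem F172850 : act 2 n51511 = n110282 := d15_3 F170520 F170519 (iv7 F172848)
theorem F172851 : act 7 n110282 = n51512 := d4_2 (iv7 F172848) F172850 (iv2 F172849)
def n111372 : Q := act 1 n51365
theorem D111372 : act 1 n51365 = n111372 := rfl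
theorem F172852 : act 1 n111372 = n66020 := d15_1 D111372 (iv7 F170321) F170320
theorem F172853 : act 7 n111372 = n66019 := d15_2 (iv0 D111371) D111372 F172844
theorem F172854 : act 4 n59051 = n111372 := d20_6 (iv4 D5640) F7713 D7122 D14953 (iv1 F170984) (iv3 F93239) (iv1 D111372) F81086 (iv3 D25065) F19612
theorem F172855 : act 2 n111372 = n66018 := d1_1 F172854 F169596 (iv2 F169990)
theorem F172856 : act 5 n51512 = n111372 := d2_0 F172855 (iv5 F170518) F172849
def n111373 : Q := act 5 n51365
theorem D111373 : act 5 n51365 = n111373 := rfl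
theorem F172857 : act 3 n111373 = n51366 := d6_1 D111373 (iv5 D51366) D51365
theorem F172858 : act 7 n111373 = n66021 := d13_2 (iv7 F81087) D111373 (iv5 D66021)
theorem F172859 : act 1 n111373 = n110279 := d17_6 (iv1 F38703) F170048 (iv1 D50469) (iv5 F39348) (iv4 F81086) D111373 (iv5 D110279) F80206 F39263
def n111374 : Q := act 6 n51365
theorem D111374 : act 6 n51365 = n111374 := rfl
theorem F172860 : act 3 n111374 = n51367 := d7_1 D111374 (iv6 D51367) D51365
theorem F172861 : act 4 n111374 = n51601 := d10_1 D111374 (iv6 D51601) (iv4 F81086)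
theorem F172862 : act 7 n108888 = n111374 := d11_0 F172861 (iv7 F81453) (iv4 F168879)
def n111375 : Q := act 6 n51366
theorem D111375 : act 6 n51366 = n111375 := rfl
theorem F172863 : act 4 n111375 = n65446 := d10_1 D111375 (iv6 D65446) (iv4 F81088)
def n111376 : Q := act 5 n51367
theorem D111376 : act 5 n51367 = n111376 := rfl
theorem F172864 : act 2 n111376 = n108891 := d2_1 D111376 (iv5 D108891) (iv2 F81092)
theorem F172865 : act 7 n111376 = n108889 := d13_2 F81094 D111376 (iv5 D108889)
def n111377 : Q := act 0 n51368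
theorem D111377 : act 0 n51368 = n111377 := rfl
def n111378 : Q := act 1 n51368
theorem D111378 : act 1 n51368 = n111378 := rfl
def n111379 : Q := act 2 n51368
theorem D111379 : act 2 n51368 = n111379 := rfl
def n111380 : Q := act 5 n51368
theorem D111380 : act 5 n51368 = n111380 := rfl
theorem F172866 : act 3 n111380 = n51369 := d6_1 D111380 (iv5 D51369) D51368
def n111381 : Q := act 6 n51368
theorem D111381 : act 6 n51368 = n111381 := rfl
theorem F172867 : act 3 n111381 = n51370 := d7_1 D111381 (iv6 D51370) D51368
def n111382 : Q := act 6 n51369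
theorem D111382 : act 6 n51369 = n111382 := rfl
theorem F172868 : act 4 n111382 = n65436 := d10_1 D111382 (iv6 D65436) (iv4 F81095)
def n111383 : Q := act 7 n51370
theorem D111383 : act 7 n51370 = n111383 := rfl
theorem F172869 : act 2 n111383 = n108880 := d4_1 D111383 F168873 F168854
theorem F172870 : act 4 n111383 = n65912 := d11_1 D111383 F101607 F82225
theorem F172871 : act 6 n111383 = n65910 := d14_1 D111383 F101599 (iv6 F81205) F80304 D51370
theorem F172872 : act 1 n66009 = n111383 := d15_1 F168856 (iv7 D111383) (iv2 F168854)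
theorem F172873 : act 1 n111383 = n66005 := d15_1 F172872 (iv7 F172837) F172835
def n111384 : Q := act 1 n51371
theorem D111384 : act 1 n51371 = n111384 := rfl
def n111385 : Q := act 2 n51371
theorem D111385 : act 2 n51371 = n111385 := rfl
theorem F172874 : act 4 n111385 = n109534 := d1_2 (iv4 F81098) D111385 (iv2 D109534)
def n111386 : Q := act 5 n51371
theorem D111386 : act 5 n51371 = n111386 := rfl
theorem F172875 : act 3 n111386 = n51372 := d6_1 D111386 (iv5 D51372) D51371
def n111387 : Q := act 6 n51371
theorem D111387 : act 6 n51371 = n111387 := rfl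
theorem F172876 : act 3 n111387 = n51373 := d7_1 D111387 (iv6 D51373) D51371
theorem F172877 : act 4 n111387 = n109536 := d10_1 D111387 (iv6 D109536) (iv4 F81098)
theorem F172878 : act 7 n108878 = n111387 := d8_0 F172876 (iv7 F101604) D108878
def n111388 : Q := act 6 n51372
theorem D111388 : act 6 n51372 = n111388 := rfl
theorem F172879 : act 4 n111388 = n65415 := d10_1 D111388 (iv6 D65415) (iv4 F81099)
def n111389 : Q := act 5 n51373
theorem D111389 : act 5 n51373 = n111389 := rfl
theorem F172880 : act 2 n111389 = n108882 := d2_1 D111389 (iv5 D108882) F81207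
theorem F172881 : act 7 n111389 = n108879 := d13_2 F101604 D111389 (iv5 D108879)
def n111390 : Q := act 2 n51374
theorem D111390 : act 2 n51374 = n111390 := rfl
theorem F172882 : act 7 n51375 = n111390 := d15_2 (iv0 D51374) D51375 (iv2 D111390)
def n111391 : Q := act 3 n51374
theorem D111391 : act 3 n51374 = n111391 := rfl
def n111392 : Q := act 4 n51374
theorem D111392 : act 4 n51374 = n111392 := rfl
def n111393 : Q := act 5 n51374
theorem D111393 : act 5 n51374 = n111393 := rfl
theorem F172883 : act 4 n111393 = n106896 := d19_2 D51374 D111393 F164765 (iv1 F84197) (iv5 D53369) (iv4 D25860) (iv3 F20338) (iv1 D11981) (iv5 D5653) (iv4 D2360) (iv3 D1121) (iv1 D686) F1112 (iv4 F1280) (iv3 F2044) D2310 D5565 D11859 D24976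
theorem F172884 : act 3 n108935 = n111393 := d5_5 F172883 F164765 F78109 (iv3 F79671) D108935
theorem F172885 : act 5 n111391 = n108935 := d6_0 F172884 (iv5 D111393) D111391
def n111394 : Q := act 6 n51374
theorem D111394 : act 6 n51374 = n111394 := rfl
def n111395 : Q := act 7 n51374
theorem D111395 : act 7 n51374 = n111395 := rfl
theorem F172886 : act 2 n111395 = n51375 := d4_1 D111395 F172882 (iv2 D111390)
def n111396 : Q := act 3 n51375
theorem D111396 : act 3 n51375 = n111396 := rfl
def n111397 : Q := act 4 n51375
theorem D111397 : act 4 n51375 = n111397 := rfl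
theorem F172887 : act 3 n59820 = n111397 := d20_5 (iv4 D14935) F11434 D13539 D28379 D59820 (iv4 D111397) (iv1 D51375) (iv4 F40166) (iv3 D25393) (iv1 F24604)
def n111398 : Q := act 5 n51375
theorem D111398 : act 5 n51375 = n111398 := rfl
def n111399 : Q := act 6 n51375
theorem D111399 : act 6 n51375 = n111399 := rfl
def n111400 : Q := act 5 n51376
theorem D111400 : act 5 n51376 = n111400 := rfl
theorem F172888 : act 2 n111400 = n51377 := d2_1 D111400 (iv5 D51377) D51376
def n111401 : Q := act 6 n51376
theorem D111401 : act 6 n51376 = n111401 := rfl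
theorem F172889 : act 2 n111401 = n51378 := d3_1 D111401 (iv6 D51378) D51376
def n111402 : Q := act 0 n51377
theorem D111402 : act 0 n51377 = n111402 := rfl
def n111403 : Q := act 1 n51377
theorem D111403 : act 1 n51377 = n111403 := rfl
def n111404 : Q := act 4 n51377
theorem D111404 : act 4 n51377 = n111404 := rfl
def n111405 : Q := act 6 n51377
theorem D111405 : act 6 n51377 = n111405 := rfl
theorem F172890 : act 3 n111405 = n51381 := d7_1 D111405 (iv6 D51381) (iv3 F81103)
def n111406 : Q := act 0 n51378
theorem D111406 : act 0 n51378 = n111406 := rfl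
def n111407 : Q := act 1 n51378
theorem D111407 : act 1 n51378 = n111407 := rfl
def n111408 : Q := act 5 n51378
theorem D111408 : act 5 n51378 = n111408 := rfl
theorem F172891 : act 3 n111408 = n51384 := d6_1 D111408 (iv5 D51384) (iv3 F81104)
def n111409 : Q := act 7 n51378
theorem D111409 : act 7 n51378 = n111409 := rfl
theorem F172892 : act 3 n111409 = n51385 := d8_1 D111409 (iv7 D51385) (iv3 F81104)
def n111410 : Q := act 3 n51379
theorem D111410 : act 3 n51379 = n111410 := rfl
theorem F172893 : act 5 n111410 = n51424 := d6_2 (iv5 F81105) D111410 (iv3 D51424)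
def n111411 : Q := act 6 n51379
theorem D111411 : act 6 n51379 = n111411 := rfl
theorem F172894 : act 4 n111411 = n62952 := d10_1 D111411 (iv6 D62952) (iv4 F81106)
def n111412 : Q := act 3 n51380
theorem D111412 : act 3 n51380 = n111412 := rfl
theorem F172895 : act 5 n111412 = n51426 := d6_2 (iv5 F81109) D111412 (iv3 D51426)
def n111413 : Q := act 6 n51380
theorem D111413 : act 6 n51380 = n111413 := rfl
theorem F172896 : act 4 n111413 = n65378 := d10_1 D111413 (iv6 D65378) F81110
theorem F172897 : act 5 n111413 = n108779 := d12_1 D111413 (iv6 D108779) F79577 (iv6 F39239) (iv5 F81109)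
def n111414 : Q := act 0 n51381
theorem D111414 : act 0 n51381 = n111414 := rfl
def n111415 : Q := act 1 n51381
theorem D111415 : act 1 n51381 = n111415 := rfl
def n111416 : Q := act 5 n51381
theorem D111416 : act 5 n51381 = n111416 := rfl
theorem F172898 : act 6 n111416 = n51384 := d12_2 D51381 D111416 (iv5 D51384) (iv6 D24978) D24977
def n111417 : Q := act 7 n51381
theorem D111417 : act 7 n51381 = n111417 := rfl
def n111418 : Q := act 3 n51382
theorem D111418 : act 3 n51382 = n111418 := rfl
theorem F172899 : act 6 n111418 = n108785 := d7_2 F168456 D111418 (iv3 D108785)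
def n111419 : Q := act 3 n51383
theorem D111419 : act 3 n51383 = n111419 := rfl
def n111420 : Q := act 6 n51383
theorem D111420 : act 6 n51383 = n111420 := rfl
theorem F172900 : act 7 n111420 = n108791 := d14_2 (iv7 F172608) D111420 (iv6 D108791) (iv7 F170697) (iv6 F172607)
def n111421 : Q := act 0 n51384
theorem D111421 : act 0 n51384 = n111421 := rfl
theorem F172901 : act 5 n111421 = n108644 := d17_3 (iv1 D51383) D51384 D111421 (iv4 F168553) (iv5 F171896) (iv0 D108420) F79253 D58795 F172610
theorem F172902 : act 2 n109012 = n111421 := d2_3 F172901 F171887 D109012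
theorem F172903 : act 7 n109016 = n111421 := d13_0 F172901 F171888 D109016
def n111422 : Q := act 1 n51384
theorem D111422 : act 1 n51384 = n111422 := rfl
theorem F172904 : act 7 n111422 = n109012 := d15_2 (iv0 D111421) D111422 F172902
theorem F172905 : act 5 n111422 = n108645 := d17_7 F168275 (iv5 F48029) (iv1 F168277) (iv5 D24981) (iv4 F39194) D51384 D111422 F168546 F79710
theorem F172906 : act 2 n109016 = n111422 := d2_3 F172905 F171918 D109016
def n111423 : Q := act 4 n51384
theorem D111423 : act 4 n51384 = n111423 := rfl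
def n111424 : Q := act 7 n51384
theorem D111424 : act 7 n51384 = n111424 := rfl
theorem F172907 : act 5 n111424 = n51385 := d13_1 D111424 (iv7 D51385) D51384
theorem F172908 : act 1 n109016 = n111424 := d15_1 F172615 (iv7 D111424) (iv2 F172613)
theorem F172909 : act 1 n111424 = n109012 := d15_1 F172908 (iv7 F172904) (iv2 F172906)
def n111425 : Q := act 0 n51388
theorem D111425 : act 0 n51388 = n111425 := rfl
theorem F172910 : act 4 n111425 = n58796 := d20_2 D51388 D111425 F92945 F164077 F164093 (iv4 F164339) (iv1 D52282) F40170 F19982 D24979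
theorem F172911 : act 2 n109497 = n111425 := d15_3 (iv0 D111425) (iv0 F171655) F171669
theorem F172912 : act 1 n51391 = n111425 := d15_0 (iv0 D111425) (iv7 F172623) F172622
theorem F172913 : act 7 n111425 = n58793 := d15_2 F171656 F172912 (iv2 F171653)
theorem F172914 : act 6 n108737 = n111425 := d14_5 F172913 (iv6 D58793) (iv7 F80623) D110845 (iv7 F171703)
def n111426 : Q := act 3 n51388
theorem D111426 : act 3 n51388 = n111426 := rfl
theorem F172915 : act 4 n111426 = n108797 := d5_2 D51388 D111426 (iv3 D108797) (iv4 D50230) F164332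
theorem F172916 : act 6 n111426 = n108797 := d7_2 (iv6 F81115) D111426 (iv3 D108797)
def n111427 : Q := act 3 n51391
theorem D111427 : act 3 n51391 = n111427 := rfl
theorem F172917 : act 4 n111427 = n51632 := d5_2 D51391 D111427 (iv3 D51632) (iv4 D25080) F164334
def n111428 : Q := act 6 n51391
theorem D111428 : act 6 n51391 = n111428 := rfl
theorem F172919 : act 4 n111428 = n51392 := d10_1 D111428 (iv6 D51392) D51391
theorem F172920 : act 7 n111428 = n108803 := d14_2 (iv7 F164335) D111428 (iv6 D108803) F164320 F81484
def n111429 : Q := act 4 n51393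
theorem D111429 : act 4 n51393 = n111429 := rfl
theorem F172921 : act 2 n111429 = n63474 := d1_1 D111429 (iv4 D63474) (iv2 F101135)
theorem F172924 : act 1 n111429 = n63341 := d18_6 (iv1 F168465) F98658 (iv1 F168560) (iv4 D108648) (iv5 F81120) D111429 F98617 (iv0 F168463) F95545
def n111430 : Q := act 0 n51395
theorem D111430 : act 0 n51395 = n111430 := rfl
theorem F172925 : act 4 n111430 = n108420 := d18_3 (iv1 F168277) D51395 D111430 F171896 F168553 (iv0 D108644) F79491 F168274 (iv5 F48029)
theorem F172926 : act 2 n63468 = n111430 := d1_3 F172925 (iv2 F171895) F169933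
theorem F172927 : act 7 n63469 = n111430 := d11_0 F172925 F171897 F170841
theorem F172928 : act 1 n63471 = n111430 := d18_6 D58794 (iv4 F168455) (iv1 F172620) F172617 F80979 (iv4 F98799) F172925 (iv0 D108420) F79253
def n111431 : Q := act 1 n51395
theorem D111431 : act 1 n51395 = n111431 := rfl
theorem F172929 : act 1 n111431 = n63471 := d15_1 D111431 (iv7 D63471) (iv2 F81125)
theorem F172930 : act 7 n111431 = n63468 := d15_2 (iv0 D111430) D111431 F172926
theorem F172931 : act 4 n111431 = n108421 := d18_7 (iv1 F171666) F172610 (iv1 D51383) F39194 D24981 D51395 D111431 F167769 (iv5 F171665)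
theorem F172932 : act 2 n63469 = n111431 := d1_3 F172931 F171894 F170841
def n111432 : Q := act 3 n51395
theorem D111432 : act 3 n51395 = n111432 := rfl
theorem F172934 : act 6 n111432 = n51397 := d7_2 (iv6 F81126) D111432 (iv3 D51397)
def n111433 : Q := act 5 n51395
theorem D111433 : act 5 n51395 = n111433 := rfl
theorem F172935 : act 2 n111433 = n63470 := d2_1 D111433 (iv5 D63470) (iv2 F81125)
def n111434 : Q := act 7 n51395
theorem D111434 : act 7 n51395 = n111434 := rfl
theorem F172936 : act 2 n111434 = n63471 := d4_1 D111434 (iv7 D63471) (iv2 F81125)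
theorem F172937 : act 4 n111434 = n51396 := d11_1 D111434 (iv7 D51396) D51395
theorem F172938 : act 6 n111434 = n63449 := d14_1 D111434 (iv7 D63449) (iv6 D29973) (iv7 F39199) (iv6 F81126)
theorem F172939 : act 1 n63469 = n111434 := d15_1 D63469 (iv7 D111434) F81125
theorem F172940 : act 1 n111434 = n63468 := d15_1 F172939 (iv7 F172930) (iv2 F172932)
def n111435 : Q := act 0 n51397
theorem D111435 : act 0 n51397 = n111435 := rfl
theorem F172941 : act 1 n63440 = n111435 := d15_0 (iv0 D111435) F81136 D63440
def n111436 : Q := act 1 n51397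
theorem D111436 : act 1 n51397 = n111436 := rfl
def n111437 : Q := act 2 n51397
theorem D111437 : act 2 n51397 = n111437 := rfl
theorem F172942 : act 3 n111437 = n63464 := d0_2 D51397 D111437 (iv2 D63464) (iv3 D29978) (iv2 F39198)
theorem F172943 : act 4 n111437 = n61961 := d1_2 (iv4 F81135) D111437 (iv2 D61961)
theorem F172944 : act 7 n111437 = n63440 := d4_2 (iv7 F81136) D111437 (iv2 D63440)
theorem F172945 : act 1 n111437 = n63438 := d15_0 (iv0 D63438) (iv7 F81136) D111437
theorem F172946 : act 1 n111436 = n63440 := d15_1 D111436 (iv7 F172944) (iv2 D111437)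
theorem F172947 : act 1 n63439 = n111437 := d15_1 D63439 F172944 (iv2 D63440)
def n111438 : Q := act 5 n51397
theorem D111438 : act 5 n51397 = n111438 := rfl
theorem F172948 : act 3 n111438 = n51398 := d6_1 D111438 (iv5 D51398) D51397
theorem F172949 : act 7 n111438 = n63441 := d13_2 (iv7 F81136) D111438 (iv5 D63441)
def n111439 : Q := act 6 n51398
theorem D111439 : act 6 n51398 = n111439 := rfl
theorem F172950 : act 2 n111439 = n63467 := d3_1 D111439 (iv6 D63467) (iv2 F81137)
theorem F172951 : act 4 n111439 = n108447 := d10_1 D111439 (iv6 D108447) (iv4 F81139)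
def n111440 : Q := act 0 n51401
theorem D111440 : act 0 n51401 = n111440 := rfl
def n111441 : Q := act 1 n51401
theorem D111441 : act 1 n51401 = n111441 := rfl
def n111442 : Q := act 2 n51401
theorem D111442 : act 2 n51401 = n111442 := rfl
theorem F172952 : act 4 n111442 = n51413 := d1_2 (iv4 F81148) D111442 (iv2 D51413)
def n111443 : Q := act 5 n51401
theorem D111443 : act 5 n51401 = n111443 := rfl
theorem F172953 : act 3 n111443 = n51402 := d6_1 D111443 (iv5 D51402) D51401
def n111444 : Q := act 6 n51401
theorem D111444 : act 6 n51401 = n111444 := rfl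
theorem F172954 : act 3 n111444 = n51403 := d7_1 D111444 (iv6 D51403) D51401
theorem F172955 : act 4 n111444 = n51415 := d10_1 D111444 (iv6 D51415) (iv4 F81148)
def n111445 : Q := act 6 n51402
theorem D111445 : act 6 n51402 = n111445 := rfl
def n111446 : Q := act 5 n51403
theorem D111446 : act 5 n51403 = n111446 := rfl
def n111447 : Q := act 0 n51407
theorem D111447 : act 0 n51407 = n111447 := rfl
theorem F172956 : act 1 n65393 = n111447 := d15_0 (iv0 D111447) F81166 D65393
def n111448 : Q := act 1 n51407
theorem D111448 : act 1 n51407 = n111448 := rfl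
def n111449 : Q := act 2 n51407
theorem D111449 : act 2 n51407 = n111449 := rfl
theorem F172957 : act 3 n111449 = n53460 := d0_2 D51407 D111449 (iv2 D53460) (iv3 D25899) (iv2 F39216)
theorem F172958 : act 4 n111449 = n65883 := d1_2 (iv4 F81165) D111449 (iv2 D65883)
theorem F172959 : act 7 n111449 = n65393 := d4_2 (iv7 F81166) D111449 (iv2 D65393)
theorem F172960 : act 1 n111449 = n65391 := d15_0 (iv0 D65391) (iv7 F81166) D111449
theorem F172961 : act 1 n111448 = n65393 := d15_1 D111448 (iv7 F172959) (iv2 D111449)
theorem F172962 : act 1 n65392 = n111449 := d15_1 D65392 F172959 (iv2 D65393)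
def n111450 : Q := act 6 n51407
theorem D111450 : act 6 n51407 = n111450 := rfl
theorem F172963 : act 3 n111450 = n51408 := d7_1 D111450 (iv6 D51408) D51407
theorem F172964 : act 4 n111450 = n65885 := d10_1 D111450 (iv6 D65885) (iv4 F81165)
def n111451 : Q := act 5 n51408
theorem D111451 : act 5 n51408 = n111451 := rfl
def n111452 : Q := act 7 n51408
theorem D111452 : act 7 n51408 = n111452 := rfl
theorem F172966 : act 2 n111452 = n53467 := d4_1 D111452 (iv7 D53467) (iv2 F81167)
theorem F172967 : act 4 n111452 = n51410 := d11_1 D111452 (iv7 D51410) (iv4 F81168)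
theorem F172968 : act 6 n111452 = n65400 := d14_1 D111452 (iv7 D65400) (iv6 D30667) (iv7 F39217) D51408
theorem F172969 : act 1 n53465 = n111452 := d15_1 D53465 (iv7 D111452) F81167
theorem F172970 : act 1 n111452 = n53464 := d15_1 F172969 (iv7 F111667) F111663
def n111453 : Q := act 4 n51409
theorem D111453 : act 4 n51409 = n111453 := rfl
theorem F172972 : act 7 n111453 = n53470 := d11_2 (iv7 F81171) D111453 (iv4 D53470)
theorem F172974 : act 0 n111453 = n110852 := d20_1 D111453 F171708 (iv3 F171694) (iv1 F171695) F166050 (iv4 F100838) F100839 F49263 (iv3 F39221) D51409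
def n111454 : Q := act 2 n51411
theorem D111454 : act 2 n51411 = n111454 := rfl
theorem F172975 : act 7 n51412 = n111454 := d15_2 (iv0 D51411) D51412 (iv2 D111454)
def n111455 : Q := act 3 n51411
theorem D111455 : act 3 n51411 = n111455 := rfl
def n111456 : Q := act 4 n51411
theorem D111456 : act 4 n51411 = n111456 := rfl
def n111457 : Q := act 5 n51411
theorem D111457 : act 5 n51411 = n111457 := rfl
def n111458 : Q := act 6 n51411
theorem D111458 : act 6 n51411 = n111458 := rfl
def n111459 : Q := act 7 n51411
theorem D111459 : act 7 n51411 = n111459 := rfl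
theorem F172976 : act 2 n111459 = n51412 := d4_1 D111459 F172975 (iv2 D111454)
def n111460 : Q := act 3 n51412
theorem D111460 : act 3 n51412 = n111460 := rfl
def n111461 : Q := act 4 n51412
theorem D111461 : act 4 n51412 = n111461 := rfl
theorem F172977 : act 3 n51945 = n111461 := d20_5 (iv4 D25201) (iv1 D11960) D11961 D25205 D51945 (iv4 D111461) (iv1 D51412) (iv4 F81148) (iv3 D51401) (iv1 F39682)
def n111462 : Q := act 5 n51412
theorem D111462 : act 5 n51412 = n111462 := rfl
def n111463 : Q := act 6 n51412
theorem D111463 : act 6 n51412 = n111463 := rfl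
def n111464 : Q := act 5 n51413
theorem D111464 : act 5 n51413 = n111464 := rfl
theorem F172978 : act 2 n111464 = n51414 := d2_1 D111464 (iv5 D51414) D51413
def n111465 : Q := act 6 n51413
theorem D111465 : act 6 n51413 = n111465 := rfl
theorem F172979 : act 2 n111465 = n51415 := d3_1 D111465 (iv6 D51415) D51413
def n111466 : Q := act 0 n51414
theorem D111466 : act 0 n51414 = n111466 := rfl
def n111467 : Q := act 1 n51414
theorem D111467 : act 1 n51414 = n111467 := rfl
def n111468 : Q := act 4 n51414
theorem D111468 : act 4 n51414 = n111468 := rfl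
theorem F172980 : act 3 n111468 = n65472 := d5_1 D111468 (iv4 D65472) F49139 (iv4 F39223) (iv3 F81181)
def n111469 : Q := act 6 n51414
theorem D111469 : act 6 n51414 = n111469 := rfl
theorem F172981 : act 3 n111469 = n51416 := d7_1 D111469 (iv6 D51416) (iv3 F81181)
def n111470 : Q := act 0 n51415
theorem D111470 : act 0 n51415 = n111470 := rfl
def n111471 : Q := act 1 n51415
theorem D111471 : act 1 n51415 = n111471 := rfl
def n111472 : Q := act 5 n51415
theorem D111472 : act 5 n51415 = n111472 := rfl
theorem F172982 : act 3 n111472 = n51419 := d6_1 D111472 (iv5 D51419) (iv3 F81182)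
def n111473 : Q := act 7 n51415
theorem D111473 : act 7 n51415 = n111473 := rfl
theorem F172983 : act 3 n111473 = n51420 := d8_1 D111473 (iv7 D51420) (iv3 F81182)
def n111474 : Q := act 0 n51416
theorem D111474 : act 0 n51416 = n111474 := rfl
def n111475 : Q := act 1 n51416
theorem D111475 : act 1 n51416 = n111475 := rfl
def n111476 : Q := act 5 n51416
theorem D111476 : act 5 n51416 = n111476 := rfl
theorem F172984 : act 6 n111476 = n51419 := d12_2 D51416 D111476 (iv5 D51419) (iv6 D24994) D24993
def n111477 : Q := act 7 n51416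
theorem D111477 : act 7 n51416 = n111477 := rfl
theorem F172985 : act 4 n111477 = n65481 := d11_1 D111477 (iv7 D65481) (iv4 F81183)
def n111478 : Q := act 3 n51417
theorem D111478 : act 3 n51417 = n111478 := rfl
theorem F172986 : act 7 n111478 = n108752 := d8_2 (iv7 F172643) D111478 F168698
def n111479 : Q := act 4 n51417
theorem D111479 : act 4 n51417 = n111479 := rfl
theorem F172987 : act 2 n111479 = n65897 := d1_1 D111479 (iv4 F172639) (iv2 F172642)
theorem F172988 : act 7 n111479 = n52420 := d11_2 (iv7 F172643) D111479 F82767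
theorem F172989 : act 3 n111479 = n52472 := d20_3 (iv4 F39224) D51417 D111479 (iv1 F171163) (iv3 F171165) F168878 (iv1 F168876) (iv4 D50277) (iv3 F39228) (iv1 D24996)
theorem F172990 : act 4 n111478 = n109572 := d5_2 (iv4 D111479) D111478 (iv3 D109572) (iv4 F169331) (iv3 F172989)
theorem F172991 : act 0 n111479 = n65896 := d20_10 F168691 (iv1 D108737) F79565 F38447 F18981 (iv3 F18999) (iv4 F38626) D50549 (iv4 F169331) (iv3 F172989)
theorem F172992 : act 6 n65903 = n111479 := d14_5 F172988 (iv6 D52420) F40217 D30840 D65903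
theorem F172993 : act 0 n59488 = n111479 := d21_4 (iv5 D14532) F22639 D28246 D59488 (iv6 F172992) F101593 (iv1 F80634) F78457 (iv6 D27988) F39232
def n111480 : Q := act 5 n51417
theorem D111480 : act 5 n51417 = n111480 := rfl
theorem F172994 : act 7 n111480 = n108754 := d13_2 (iv7 F172643) D111480 (iv5 D108754)
def n111481 : Q := act 6 n51417
theorem D111481 : act 6 n51417 = n111481 := rfl
theorem F172995 : act 2 n111481 = n108747 := d3_1 D111481 F172644 (iv2 F172642)
theorem F172996 : act 4 n111481 = n65903 := d10_1 D111481 F172992 (iv4 D111479)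
theorem F172997 : act 7 n111481 = n65900 := d14_2 (iv7 F172643) D111481 (iv6 D65900) F49296 D50215
theorem F172998 : act 1 n108730 = n111481 := d15_1 (iv0 F168685) F172997 F101591
theorem F172999 : act 0 n108729 = n111481 := d18_2 D50204 D108729 F172996 F101593 (iv4 F171708) (iv0 F172974) (iv4 D111453) (iv0 D51409) F39222
def n111482 : Q := act 3 n51418
theorem D111482 : act 3 n51418 = n111482 := rfl
theorem F173000 : act 6 n111482 = n65895 := d7_2 F81184 D111482 (iv3 D65895)
def n111483 : Q := act 5 n51418
theorem D111483 : act 5 n51418 = n111483 := rfl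
def n111484 : Q := act 0 n51419
theorem D111484 : act 0 n51419 = n111484 := rfl
theorem F173002 : act 5 n111484 = n108957 := d21_2 D51419 D111484 (iv6 D108957) (iv1 D50301) (iv6 D24532) D24531 D50297 F79673 F81184 (iv1 D51418)
def n111485 : Q := act 1 n51419
theorem D111485 : act 1 n51419 = n111485 := rfl
def n111486 : Q := act 4 n51419
theorem D111486 : act 4 n51419 = n111486 := rfl
def n111487 : Q := act 7 n51419
theorem D111487 : act 7 n51419 = n111487 := rfl
theorem F173003 : act 5 n111487 = n51420 := d13_1 D111487 (iv7 D51420) D51419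
def n111488 : Q := act 0 n51421
theorem D111488 : act 0 n51421 = n111488 := rfl
theorem F173004 : act 2 n108737 = n111488 := d15_3 (iv0 D111488) F171704 (iv7 F171703)
theorem F173005 : act 1 n51423 = n111488 := d15_0 (iv0 D111488) F81188 (iv2 F81195)
theorem F173006 : act 7 n111488 = n66017 := d15_2 (iv0 F171702) F173005 (iv2 F171700)
theorem F173007 : act 6 n109497 = n111488 := d14_5 F173006 (iv6 D66017) (iv7 F80607) D110829 F171669
def n111489 : Q := act 3 n51421
theorem D111489 : act 3 n51421 = n111489 := rfl
theorem F173008 : act 4 n111489 = n51689 := d5_2 D51421 D111489 (iv3 D51689) (iv4 D25107) (iv3 F79381)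
def n111490 : Q := act 5 n51421
theorem D111490 : act 5 n51421 = n111490 := rfl
theorem F173010 : act 7 n111490 = n108738 := d13_2 (iv7 F81188) D111490 (iv5 D108738)
def n111491 : Q := act 6 n51421
theorem D111491 : act 6 n51421 = n111491 := rfl
theorem F173011 : act 2 n111491 = n108727 := d3_1 D111491 (iv6 F172653) F172652
theorem F173012 : act 4 n111491 = n51422 := d10_1 D111491 (iv6 D51422) D51421
theorem F173013 : act 7 n111491 = n51588 := d14_2 (iv7 F81188) D111491 (iv6 D51588) F39332 D50209
theorem F173014 : act 1 n108725 = n111491 := d15_1 D108725 F173013 F81423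
theorem F173015 : act 3 n65902 = n110367 := d20_3 (iv4 F173012) (iv1 F173014) F171191 (iv1 D110367) F80294 (iv4 F80298) D110375 F170727 (iv3 D108728) F81193
theorem F173016 : act 0 n108724 = n111491 := d20_7 D30932 F49366 (iv4 D14951) (iv3 F24593) D31742 D68183 (iv4 F168682) F173012 F81190 (iv1 F39346)
theorem E17267 : n68183 = n65901 := (c18_8 (iv1 F93914) D68175 F104322 F84367 (iv5 F81191) (iv4 F173012) (iv0 F173016) F168682 (iv0 D65901) F49299)
theorem F173017 : act 2 n65901 = n110603 := (sb E17267 F171737)
theorem F173018 : act 3 n65901 = n31742 := (sb E17267 (iv3 D68183))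
theorem F173019 : act 4 n65901 = n108724 := (sb E17267 (iv4 F168682))
theorem F173020 : act 7 n65901 = n107523 := (sb E17267 (iv7 F166484))
theorem F173021 : act 2 n107523 = n65902 := d15_3 F171190 F171192 F173020
theorem F173022 : act 7 n110603 = n65902 := d4_2 (iv7 F173020) F173017 (iv2 F173021)
theorem F173023 : act 2 n110367 = n68187 := d0_3 D107523 F173021 F173015 (iv3 D68187) (iv2 F166396)
def n111492 : Q := act 3 n51423
theorem D111492 : act 3 n51423 = n111492 := rfl
theorem F173024 : act 4 n111492 = n108890 := d5_2 D51423 D111492 (iv3 D108890) (iv4 D50277) (iv3 F39228)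
theorem F173025 : act 6 n111492 = n108603 := d7_2 (iv6 F81196) D111492 (iv3 D108603)
def n111493 : Q := act 5 n51423
theorem D111493 : act 5 n51423 = n111493 := rfl
def n111494 : Q := act 0 n51424
theorem D111494 : act 0 n51424 = n111494 := rfl
theorem F173027 : act 3 n111494 = n108674 := d20_5 F39164 F39232 (iv4 F39230) D51424 D111494 (iv4 D108674) (iv1 D50177) (iv4 F39168) (iv3 D24966) D24964
def n111495 : Q := act 1 n51424
theorem D111495 : act 1 n51424 = n111495 := rfl
def n111496 : Q := act 2 n51424
theorem D111496 : act 2 n51424 = n111496 := rfl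
def n111497 : Q := act 6 n51424
theorem D111497 : act 6 n51424 = n111497 := rfl
theorem F173028 : act 3 n111497 = n51425 := d7_1 D111497 (iv6 D51425) D51424
theorem F173029 : act 7 n111497 = n108916 := d14_2 F98179 D111497 (iv6 D108916) (iv7 F98648) F98647
def n111498 : Q := act 5 n51425
theorem D111498 : act 5 n51425 = n111498 := rfl
theorem F173030 : act 7 n111498 = n108917 := d13_2 (iv7 F81198) D111498 (iv5 D108917)
def n111499 : Q := act 1 n51426
theorem D111499 : act 1 n51426 = n111499 := rfl
def n111500 : Q := act 2 n51426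
theorem D111500 : act 2 n51426 = n111500 := rfl
theorem F173031 : act 4 n111500 = n109873 := d1_2 (iv4 F81199) D111500 (iv2 D109873)
theorem F173032 : act 6 n111500 = n108920 := d3_2 (iv6 F81200) D111500 (iv2 D108920)
theorem F173033 : act 1 n111500 = n51900 := d15_0 (iv0 F172676) F172675 D111500
def n111501 : Q := act 2 n51427
theorem D111501 : act 2 n51427 = n111501 := rfl
theorem F173034 : act 7 n51428 = n111501 := d15_2 (iv0 D51427) D51428 (iv2 D111501)
def n111502 : Q := act 3 n51427
theorem D111502 : act 3 n51427 = n111502 := rfl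
def n111503 : Q := act 4 n51427
theorem D111503 : act 4 n51427 = n111503 := rfl
def n111504 : Q := act 5 n51427
theorem D111504 : act 5 n51427 = n111504 := rfl
theorem F173035 : act 4 n111504 = n106925 := d19_2 D51427 D111504 (iv3 D106925) (iv1 D49398) (iv5 D24107) (iv4 D11319) F7793 D5241 (iv5 F10139) (iv4 D5444) F3602 D2253 F3610 (iv4 F4903) (iv3 F4950) D6985 F19279 D11875 D25000
theorem F173036 : act 3 n108770 = n111504 := d5_5 F173035 (iv3 D106925) (iv4 F78119) (iv3 F79572) D108770
theorem F173037 : act 5 n111502 = n108770 := d6_0 F173036 (iv5 D111504) D111502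
theorem F173038 : act 0 n51880 = n111502 := d19_0 F173037 (iv4 D108770) F79572 D50221 F79574 (iv4 F38809) F38807 (iv1 F19488) F10409 (iv4 F10366) (iv3 D6363) (iv1 F5142) (iv5 F8505) D11905 D25060 F170928 (iv5 D25179) D25178 D51880
def n111505 : Q := act 6 n51427
theorem D111505 : act 6 n51427 = n111505 := rfl
def n111506 : Q := act 7 n51427
theorem D111506 : act 7 n51427 = n111506 := rfl
theorem F173039 : act 2 n111506 = n51428 := d4_1 D111506 F173034 (iv2 D111501)
def n111507 : Q := act 3 n51428
theorem D111507 : act 3 n51428 = n111507 := rfl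
def n111508 : Q := act 4 n51428
theorem D111508 : act 4 n51428 = n111508 := rfl
theorem F173040 : act 3 n111508 = n105234 := d20_9 (iv4 F168569) (iv1 F168573) D109080 (iv3 F169079) (iv1 F93351) (iv3 F93373) (iv4 F172719) (iv1 F172723) D111508 (iv1 F161174)
def n111509 : Q := act 5 n51428
theorem D111509 : act 5 n51428 = n111509 := rfl
def n111510 : Q := act 6 n51428
theorem D111510 : act 6 n51428 = n111510 := rfl
def n111511 : Q := act 5 n51429
theorem D111511 : act 5 n51429 = n111511 := rfl
theorem F173041 : act 2 n111511 = n51430 := d2_1 D111511 (iv5 D51430) D51429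
def n111512 : Q := act 6 n51429
theorem D111512 : act 6 n51429 = n111512 := rfl
theorem F173042 : act 2 n111512 = n51431 := d3_1 D111512 (iv6 D51431) D51429
def n111513 : Q := act 0 n51430
theorem D111513 : act 0 n51430 = n111513 := rfl
def n111514 : Q := act 1 n51430
theorem D111514 : act 1 n51430 = n111514 := rfl
def n111515 : Q := act 4 n51430
theorem D111515 : act 4 n51430 = n111515 := rfl
def n111516 : Q := act 6 n51430
theorem D111516 : act 6 n51430 = n111516 := rfl
theorem F173043 : act 3 n111516 = n51434 := d7_1 D111516 (iv6 D51434) (iv3 F81201)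
def n111517 : Q := act 0 n51431
theorem D111517 : act 0 n51431 = n111517 := rfl
def n111518 : Q := act 1 n51431
theorem D111518 : act 1 n51431 = n111518 := rfl
def n111519 : Q := act 5 n51431
theorem D111519 : act 5 n51431 = n111519 := rfl
theorem F173044 : act 3 n111519 = n51437 := d6_1 D111519 (iv5 D51437) (iv3 F81202)
def n111520 : Q := act 7 n51431
theorem D111520 : act 7 n51431 = n111520 := rfl
theorem F173045 : act 3 n111520 = n51438 := d8_1 D111520 (iv7 D51438) (iv3 F81202)
def n111521 : Q := act 3 n51432
theorem D111521 : act 3 n51432 = n111521 := rfl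
theorem F173046 : act 5 n111521 = n110383 := d6_2 (iv5 F81203) D111521 (iv3 D110383)
theorem F173047 : act 7 n111521 = n111380 := d8_2 F81210 D111521 F172866
def n111522 : Q := act 6 n51432
theorem D111522 : act 6 n51432 = n111522 := rfl
theorem F173048 : act 2 n111522 = n111388 := d3_1 D111522 (iv6 D111388) F81209
theorem F173049 : act 4 n111522 = n108903 := d10_1 D111522 (iv6 D108903) (iv4 F81204)
def n111523 : Q := act 3 n51433
theorem D111523 : act 3 n51433 = n111523 := rfl
theorem F173050 : act 5 n111523 = n108853 := d6_2 (iv5 F81213) D111523 (iv3 D108853)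
theorem F173051 : act 7 n111523 = n111386 := d8_2 (iv7 F81212) D111523 F172875
def n111524 : Q := act 6 n51433
theorem D111524 : act 6 n51433 = n111524 := rfl
theorem F173052 : act 2 n111524 = n111382 := d3_1 D111524 (iv6 D111382) F81214
def n111525 : Q := act 0 n51434
theorem D111525 : act 0 n51434 = n111525 := rfl
def n111526 : Q := act 1 n51434
theorem D111526 : act 1 n51434 = n111526 := rfl
def n111527 : Q := act 5 n51434
theorem D111527 : act 5 n51434 = n111527 := rfl
theorem F173053 : act 6 n111527 = n51437 := d12_2 D51434 D111527 (iv5 D51437) (iv6 D25002) D25001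
def n111528 : Q := act 7 n51434
theorem D111528 : act 7 n51434 = n111528 := rfl
def n111529 : Q := act 3 n51435
theorem D111529 : act 3 n51435 = n111529 := rfl
theorem F173054 : act 6 n111529 = n109015 := d7_2 F168472 D111529 (iv3 D109015)
def n111530 : Q := act 5 n51435
theorem D111530 : act 5 n51435 = n111530 := rfl
def n111531 : Q := act 3 n51436
theorem D111531 : act 3 n51436 = n111531 := rfl
def n111532 : Q := act 5 n51436
theorem D111532 : act 5 n51436 = n111532 := rfl
def n111533 : Q := act 6 n51436
theorem D111533 : act 6 n51436 = n111533 := rfl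
theorem F173055 : act 7 n111533 = n109013 := d14_2 (iv7 F172702) D111533 (iv6 D109013) (iv7 F171920) (iv6 F172701)
theorem F173056 : act 5 n108883 = n111533 := d21_2 D50274 D108883 (iv6 D111533) (iv1 D51436) (iv6 D25002) D25001 D51432 F81203 F81205 (iv1 D50273)
def n111534 : Q := act 1 n51437
theorem D111534 : act 1 n51437 = n111534 := rfl
theorem F173057 : act 5 n111534 = n111481 := d17_7 F81193 F81191 (iv1 F40939) (iv5 D25005) (iv4 F39240) D51437 D111534 (iv0 F172999) (iv4 D108729)
def n111535 : Q := act 4 n51437
theorem D111535 : act 4 n51437 = n111535 := rfl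
def n111536 : Q := act 7 n51437
theorem D111536 : act 7 n51437 = n111536 := rfl
def n111537 : Q := act 3 n51441
theorem D111537 : act 3 n51441 = n111537 := rfl
theorem F173059 : act 4 n111537 = n108962 := d5_2 D51441 D111537 (iv3 D108962) (iv4 D50307) F168273
theorem F173060 : act 6 n111537 = n109025 := d7_2 (iv6 F81219) D111537 (iv3 D109025)
def n111538 : Q := act 5 n51441
theorem D111538 : act 5 n51441 = n111538 := rfl
def n111539 : Q := act 0 n51442
theorem D111539 : act 0 n51442 = n111539 := rfl
theorem F173062 : act 5 n111539 = n51590 := d21_2 D51442 D111539 (iv6 F101694) (iv1 D30884) F24303 (iv5 D6987) D6985 F19279 D11876 D25003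
theorem F173063 : act 6 n111539 = n53578 := d21_5 F40921 D29831 D63069 F98382 D111539 F84523 (iv1 F49454) (iv5 F48919) (iv6 F53600) (iv1 F53601)
theorem F173064 : act 2 n53594 = n111539 := d15_3 (iv0 D111539) (iv0 F172400) F172399
theorem F173065 : act 1 n51446 = n111539 := d15_0 (iv0 D111539) (iv7 F172454) F172451
theorem F173066 : act 7 n111539 = n65103 := d15_2 (iv0 F172401) F173065 (iv2 F172397)
def n111540 : Q := act 4 n51442
theorem D111540 : act 4 n51442 = n111540 := rfl
theorem F173067 : act 2 n111540 = n109838 := d1_1 D111540 (iv4 D109838) F168305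
def n111541 : Q := act 3 n51445
theorem D111541 : act 3 n51445 = n111541 := rfl
theorem F173068 : act 4 n111541 = n51758 := d5_2 D51445 D111541 (iv3 D51758) (iv4 D25132) F168244
def n111542 : Q := act 5 n51445
theorem D111542 : act 5 n51445 = n111542 := rfl
def n111543 : Q := act 6 n51445
theorem D111543 : act 6 n51445 = n111543 := rfl
theorem F173071 : act 4 n111543 = n51447 := d10_1 D111543 (iv6 D51447) D51445
theorem F173072 : act 7 n111543 = n109023 := d14_2 (iv7 F168245) D111543 (iv6 D109023) F168286 F81834
def n111544 : Q := act 4 n51446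
theorem D111544 : act 4 n51446 = n111544 := rfl
theorem F173073 : act 6 n111544 = n53839 := d10_2 (iv6 F168223) D111544 (iv4 D53839)
theorem F173074 : act 7 n111544 = n109838 := d11_2 (iv7 F168224) D111544 (iv4 D109838)
def n111545 : Q := act 3 n51448
theorem D111545 : act 3 n51448 = n111545 := rfl
theorem F173075 : act 6 n111545 = n74404 := d7_2 (iv6 F81228) D111545 (iv3 D74404)
def n111546 : Q := act 5 n51448
theorem D111546 : act 5 n51448 = n111546 := rfl
def n111547 : Q := act 0 n51449
theorem D111547 : act 0 n51449 = n111547 := rfl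
def n111548 : Q := act 1 n51449
theorem D111548 : act 1 n51449 = n111548 := rfl
def n111549 : Q := act 2 n51449
theorem D111549 : act 2 n51449 = n111549 := rfl
theorem F173076 : act 4 n111549 = n51457 := d1_2 (iv4 F81229) D111549 (iv2 D51457)
def n111550 : Q := act 5 n51449
theorem D111550 : act 5 n51449 = n111550 := rfl
theorem F173077 : act 3 n111550 = n51450 := d6_1 D111550 (iv5 D51450) D51449
def n111551 : Q := act 6 n51449
theorem D111551 : act 6 n51449 = n111551 := rfl
theorem F173078 : act 3 n111551 = n51451 := d7_1 D111551 (iv6 D51451) D51449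
theorem F173079 : act 4 n111551 = n51459 := d10_1 D111551 (iv6 D51459) (iv4 F81229)
def n111552 : Q := act 6 n51450
theorem D111552 : act 6 n51450 = n111552 := rfl
def n111553 : Q := act 0 n51451
theorem D111553 : act 0 n51451 = n111553 := rfl
def n111554 : Q := act 1 n51451
theorem D111554 : act 1 n51451 = n111554 := rfl
theorem F173080 : act 4 n111554 = n59228 := d18_7 (iv1 F80343) D110451 F170834 F99025 F48287 (iv4 F81232) D111554 F95458 (iv5 F46451)
theorem F173081 : act 2 n59265 = n111554 := d1_3 F173080 F171875 D59265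
theorem F173082 : act 6 n59226 = n111554 := d10_0 F173080 (iv6 D59228) D59226
theorem F173083 : act 7 n59260 = n111554 := d11_0 F173080 F171876 D59260
theorem F173084 : act 2 n59260 = n111553 := d15_3 (iv0 D111553) D111554 (iv7 F173083)
theorem F173085 : act 4 n111553 = n59249 := d1_2 D59260 F173084 F171882
theorem F173086 : act 7 n111553 = n59265 := d4_2 (iv7 F173083) F173084 F173081
theorem F173087 : act 1 n59260 = n52336 := d15_0 F168460 (iv7 F173086) (iv2 F173084)
theorem F173088 : act 0 n105482 = n60995 := d18_2 (iv1 F168392) (iv4 F161925) (iv4 D60995) F93678 D59260 F173087 F82720 D52338 (iv5 F168384)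
theorem F173089 : act 0 n60994 = n61930 := d20_4 (iv4 F161925) F173088 (iv4 D60995) D60994 F96532 (iv4 F96536) (iv1 F164187) F165656 D106780 (iv1 F168392)
theorem F173090 : act 0 n58885 = n59259 := d21_10 (iv5 F95542) F173089 (iv5 F161400) F161401 (iv1 F93032) (iv6 D58840) (iv5 F78581) (iv1 D49722) (iv5 F45265) D58885
def n111555 : Q := act 5 n51451
theorem D111555 : act 5 n51451 = n111555 := rfl
theorem F173092 : act 1 n111555 = n110450 := d17_6 (iv1 F163881) F163882 (iv1 D63688) F48287 (iv4 F81232) D111555 (iv5 D110450) F170829 F82583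
theorem F173093 : act 0 n105181 = n51959 := d21_4 D49886 (iv1 F161101) (iv5 D105180) D105181 F82060 D110450 (iv1 F173092) (iv5 D111555) (iv6 D51451) F39243
def n111556 : Q := act 7 n51451
theorem D111556 : act 7 n51451 = n111556 := rfl
theorem F173094 : act 4 n111556 = n51454 := d11_1 D111556 (iv7 D51454) (iv4 F81232)
theorem F173095 : act 1 n59265 = n111556 := d15_1 F168460 (iv7 D111556) (iv2 F82719)
theorem F173096 : act 1 n111556 = n59260 := d15_1 F173095 F173083 (iv2 F173081)
def n111557 : Q := act 6 n51452
theorem D111557 : act 6 n51452 = n111557 := rfl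
theorem F173097 : act 2 n111557 = n109914 := d3_1 D111557 (iv6 D109914) (iv2 F163873)
theorem F173098 : act 5 n111557 = n64282 := d21_6 F38621 (iv1 F24062) (iv5 F23804) D25008 D51452 D111557 (iv1 D64282) F48694 (iv6 D25401) F38623
def n111558 : Q := act 2 n51455
theorem D111558 : act 2 n51455 = n111558 := rfl
theorem F173099 : act 7 n51456 = n111558 := d15_2 (iv0 D51455) D51456 (iv2 D111558)
def n111559 : Q := act 3 n51455
theorem D111559 : act 3 n51455 = n111559 := rfl
def n111560 : Q := act 4 n51455
theorem D111560 : act 4 n51455 = n111560 := rfl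
def n111561 : Q := act 5 n51455
theorem D111561 : act 5 n51455 = n111561 := rfl
def n111562 : Q := act 6 n51455
theorem D111562 : act 6 n51455 = n111562 := rfl
def n111563 : Q := act 7 n51455
theorem D111563 : act 7 n51455 = n111563 := rfl
theorem F173100 : act 2 n111563 = n51456 := d4_1 D111563 F173099 (iv2 D111558)
def n111564 : Q := act 3 n51456
theorem D111564 : act 3 n51456 = n111564 := rfl
def n111565 : Q := act 4 n51456
theorem D111565 : act 4 n51456 = n111565 := rfl
theorem F173101 : act 3 n51832 = n111565 := d20_5 (iv4 D24326) F22339 D13374 (iv3 F39596) D51832 (iv4 D111565) (iv1 D51456) (iv4 F81229) (iv3 D51449) F39243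
theorem F173102 : act 7 n111565 = n110085 := d8_2 F169951 F173101 (iv3 D110085)
theorem E17268 : n111558 = n111297 := ((c11_2 F173102 F172686 (iv7 F173099) D111565)).symm
theorem F173103 : act 2 n111297 = n51455 := (sb E17268 (iv2 D111558))
theorem F173104 : act 7 n111297 = n51456 := (sb E17268 (iv7 F173099))
theorem E17269 : n111564 = n110255 := (c8_2 F173104 D111564 F170463 F172685)
theorem F173105 : act 3 n110255 = n51456 := (sb E17269 (iv3 D111564))
theorem E17270 : n111563 = n111296 := (c15_4 (iv0 D111296) D111297 F173104 (iv2 F173100))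
theorem F173106 : act 2 n111296 = n51456 := (sb E17270 F173100)
theorem F173107 : act 7 n111296 = n51455 := (sb E17270 (iv7 D111563))
theorem F173108 : act 2 n111560 = n110085 := d1_3 F172686 F173103 D111560
def n111566 : Q := act 5 n51456
theorem D111566 : act 5 n51456 = n111566 := rfl
def n111567 : Q := act 6 n51456
theorem D111567 : act 6 n51456 = n111567 := rfl
def n111568 : Q := act 5 n51457
theorem D111568 : act 5 n51457 = n111568 := rfl
theorem F173109 : act 2 n111568 = n51458 := d2_1 D111568 (iv5 D51458) D51457
def n111569 : Q := act 6 n51457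
theorem D111569 : act 6 n51457 = n111569 := rfl
theorem F173110 : act 2 n111569 = n51459 := d3_1 D111569 (iv6 D51459) D51457
def n111570 : Q := act 0 n51458
theorem D111570 : act 0 n51458 = n111570 := rfl
def n111571 : Q := act 1 n51458
theorem D111571 : act 1 n51458 = n111571 := rfl
def n111572 : Q := act 4 n51458
theorem D111572 : act 4 n51458 = n111572 := rfl
theorem F173111 : act 3 n111572 = n66235 := d5_1 D111572 (iv4 D66235) F49383 (iv4 F39245) (iv3 F81234)
def n111573 : Q := act 6 n51458
theorem D111573 : act 6 n51458 = n111573 := rfl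
theorem F173112 : act 3 n111573 = n51460 := d7_1 D111573 (iv6 D51460) (iv3 F81234)
def n111574 : Q := act 0 n51459
theorem D111574 : act 0 n51459 = n111574 := rfl
def n111575 : Q := act 1 n51459
theorem D111575 : act 1 n51459 = n111575 := rfl
def n111576 : Q := act 5 n51459
theorem D111576 : act 5 n51459 = n111576 := rfl
theorem F173113 : act 3 n111576 = n51463 := d6_1 D111576 (iv5 D51463) (iv3 F81235)
def n111577 : Q := act 7 n51459
theorem D111577 : act 7 n51459 = n111577 := rfl
theorem F173114 : act 3 n111577 = n51464 := d8_1 D111577 (iv7 D51464) (iv3 F81235)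
def n111578 : Q := act 0 n51460
theorem D111578 : act 0 n51460 = n111578 := rfl
def n111579 : Q := act 1 n51460
theorem D111579 : act 1 n51460 = n111579 := rfl
def n111580 : Q := act 5 n51460
theorem D111580 : act 5 n51460 = n111580 := rfl
theorem F173115 : act 6 n111580 = n51463 := d12_2 D51460 D111580 (iv5 D51463) (iv6 D25011) D25010
def n111581 : Q := act 7 n51460
theorem D111581 : act 7 n51460 = n111581 := rfl
theorem F173116 : act 4 n111581 = n66248 := d11_1 D111581 (iv7 D66248) (iv4 F81236)
def n111582 : Q := act 2 n51461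
theorem D111582 : act 2 n51461 = n111582 := rfl
theorem F173117 : act 7 n51462 = n111582 := d15_2 (iv0 D51461) D51462 (iv2 D111582)
def n111583 : Q := act 3 n51461
theorem D111583 : act 3 n51461 = n111583 := rfl
def n111584 : Q := act 4 n51461
theorem D111584 : act 4 n51461 = n111584 := rfl
theorem F173118 : act 5 n111584 = n110803 := d18_4 (iv1 D25013) (iv4 F39246) D51461 D111584 F171562 (iv0 D63087) F48001 D29840 F79593
theorem F173119 : act 0 n62944 = n111584 := d20_10 (iv4 D111584) (iv1 F172742) F172735 F81031 (iv1 F76538) (iv3 F165559) D51787 (iv1 F169229) F99661 (iv3 F98197)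
theorem F173120 : act 3 n59151 = n111584 := d20_5 D52357 F165560 F40206 (iv3 F45405) D59151 (iv4 D111584) (iv1 F172742) F172735 F81031 (iv1 F76538)
theorem F173121 : act 4 n111583 = n109903 := d5_4 F169876 F173120 (iv4 D111584) D111583 (iv3 D109903)
def n111585 : Q := act 5 n51461
theorem D111585 : act 5 n51461 = n111585 := rfl
theorem F173122 : act 0 n111585 = n108795 := d17_2 D51461 D111585 F168715 F79578 (iv5 F79589) F79596 (iv5 F79597) (iv0 D25012) (iv4 F39246)
theorem F173123 : act 1 n111585 = n108612 := d17_6 F167994 (iv5 F80575) D110803 (iv5 F173118) (iv4 D111584) D111585 (iv5 D108612) D108611 (iv4 F167996)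
def n111586 : Q := act 6 n51461
theorem D111586 : act 6 n51461 = n111586 := rfl
def n111587 : Q := act 7 n51461
theorem D111587 : act 7 n51461 = n111587 := rfl
theorem F173124 : act 2 n111587 = n51462 := d4_1 D111587 F173117 (iv2 D111582)
theorem F173125 : act 6 n108949 = n111587 := d3_0 F173124 F172740 D108949
theorem F173126 : act 7 n111586 = n108957 := d14_4 F168955 F173125 (iv7 D111587) D111586 (iv6 D108957)
def n111588 : Q := act 3 n51462
theorem D111588 : act 3 n51462 = n111588 := rfl
theorem F173127 : act 6 n111588 = n108950 := d7_2 (iv6 F172740) D111588 (iv3 D108950)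
def n111589 : Q := act 5 n51462
theorem D111589 : act 5 n51462 = n111589 := rfl
theorem F173128 : act 0 n111589 = n108612 := d17_2 (iv1 F172738) D111589 (iv5 D108612) F79447 F38401 D29840 F79593 F81035 (iv4 F172735)
theorem F173129 : act 1 n111589 = n108795 := d17_6 (iv1 F164681) (iv5 F164172) F168007 F97078 (iv4 F172739) D111589 F168715 F168445 F170696
def n111590 : Q := act 4 n51463
theorem D111590 : act 4 n51463 = n111590 := rfl
def n111591 : Q := act 7 n51463
theorem D111591 : act 7 n51463 = n111591 := rfl
theorem F173130 : act 5 n111591 = n51464 := d13_1 D111591 (iv7 D51464) D51463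
def n111592 : Q := act 3 n51467
theorem D111592 : act 3 n51467 = n111592 := rfl
def n111593 : Q := act 5 n51467
theorem D111593 : act 5 n51467 = n111593 := rfl
theorem F173133 : act 7 n111593 = n109991 := d13_2 (iv7 F163896) D111593 (iv5 D109991)
def n111594 : Q := act 6 n51467
theorem D111594 : act 6 n51467 = n111594 := rfl
theorem F173134 : act 4 n111594 = n51468 := d10_1 D111594 (iv6 D51468) D51467
theorem F173135 : act 7 n111594 = n108967 := d14_2 (iv7 F163896) D111594 (iv6 D108967) F163936 F81699
def n111595 : Q := act 3 n51471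
theorem D111595 : act 3 n51471 = n111595 := rfl
theorem F173136 : act 4 n111595 = n109025 := d5_2 D51471 D111595 (iv3 D109025) (iv4 D50340) (iv3 F168280)
theorem F173137 : act 6 n111595 = n108962 := d7_2 (iv6 F81244) D111595 (iv3 D108962)
def n111596 : Q := act 5 n51471
theorem D111596 : act 5 n51471 = n111596 := rfl
theorem F173138 : act 2 n111596 = n109991 := d2_1 D111596 (iv5 D109991) (iv2 F164018)
def n111597 : Q := act 0 n51472
theorem D111597 : act 0 n51472 = n111597 := rfl
theorem F173139 : act 4 n111597 = n108409 := d18_3 F79580 D51472 D111597 F167594 F169240 F168446 F168443 F79457 D50231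
theorem F173140 : act 2 n63402 = n111597 := d1_3 F173139 F170684 (iv4 F167993)
theorem F173141 : act 6 n109029 = n111597 := d10_0 F173139 (iv6 F171511) F171510
theorem F173142 : act 1 n63405 = n111597 := d18_6 F173119 (iv4 D111584) (iv1 F172742) F172735 F81032 (iv4 F98715) F173139 (iv0 D108409) (iv5 F98199)
theorem F173143 : act 7 n63403 = n111597 := d15_2 (iv0 D63402) D63403 (iv2 F173140)
theorem F173144 : act 4 n60512 = n63403 := d11_3 F173143 F173139 (iv7 F170686)
def n111598 : Q := act 1 n51472
theorem D111598 : act 1 n51472 = n111598 := rfl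
theorem F173145 : act 1 n111598 = n63405 := d15_1 D111598 (iv7 D63405) (iv2 F81245)
theorem F173146 : act 7 n111598 = n63402 := d15_2 (iv0 D111597) D111598 F173140
theorem F173147 : act 2 n63403 = n111598 := d4_3 F173146 F173140 (iv7 F173143)
theorem F173148 : act 4 n62051 = n111598 := d11_3 F173146 F167993 (iv7 F170687)
def n111599 : Q := act 3 n51472
theorem D111599 : act 3 n51472 = n111599 := rfl
theorem F173149 : act 6 n111599 = n63328 := d7_2 (iv6 F81246) D111599 (iv3 D63328)
def n111600 : Q := act 5 n51472
theorem D111600 : act 5 n51472 = n111600 := rfl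
theorem F173150 : act 2 n111600 = n63404 := d2_1 D111600 (iv5 D63404) (iv2 F81245)
def n111601 : Q := act 7 n51472
theorem D111601 : act 7 n51472 = n111601 := rfl
theorem F173151 : act 2 n111601 = n63405 := d4_1 D111601 (iv7 D63405) (iv2 F81245)
theorem F173152 : act 4 n111601 = n51473 := d11_1 D111601 (iv7 D51473) D51472
theorem F173153 : act 6 n111601 = n63428 := d14_1 D111601 (iv7 D63428) (iv6 D29964) (iv7 F48076) (iv6 F81246)
theorem F173154 : act 1 n63403 = n111601 := d15_1 D63403 (iv7 D111601) F81245
theorem F173155 : act 1 n111601 = n63402 := d15_1 F173154 (iv7 F173146) (iv2 F173147)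
theorem F173156 : act 4 n62981 = n60540 := d20_6 (iv4 F167993) (iv1 F173155) F173152 (iv3 F99028) (iv1 F99054) F167951 (iv1 D60540) F46382 (iv3 F46369) D60511
def n111602 : Q := act 2 n51474
theorem D111602 : act 2 n51474 = n111602 := rfl
theorem F173157 : act 7 n51475 = n111602 := d15_2 (iv0 D51474) D51475 (iv2 D111602)
def n111603 : Q := act 3 n51474
theorem D111603 : act 3 n51474 = n111603 := rfl
theorem F173158 : act 4 n111603 = n59173 := d20_6 (iv4 D29772) (iv1 F39250) (iv4 D25018) D25017 D51474 D111603 (iv1 D59173) (iv4 F81021) (iv3 D51338) (iv1 F47890)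
def n111604 : Q := act 4 n51474
theorem D111604 : act 4 n51474 = n111604 := rfl
def n111605 : Q := act 5 n51474
theorem D111605 : act 5 n51474 = n111605 := rfl
def n111606 : Q := act 6 n51474
theorem D111606 : act 6 n51474 = n111606 := rfl
def n111607 : Q := act 7 n51474
theorem D111607 : act 7 n51474 = n111607 := rfl
theorem F173159 : act 2 n111607 = n51475 := d4_1 D111607 F173157 (iv2 D111602)
def n111608 : Q := act 3 n51475
theorem D111608 : act 3 n51475 = n111608 := rfl
def n111609 : Q := act 4 n51475
theorem D111609 : act 4 n51475 = n111609 := rfl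
def n111610 : Q := act 5 n51475
theorem D111610 : act 5 n51475 = n111610 := rfl
def n111611 : Q := act 6 n51475
theorem D111611 : act 6 n51475 = n111611 := rfl
def n111612 : Q := act 4 n51476
theorem D111612 : act 4 n51476 = n111612 := rfl
theorem F173160 : act 2 n111612 = n51477 := d1_1 D111612 (iv4 D51477) D51476
theorem F173161 : act 1 n111612 = n109784 := d15_0 (iv0 F169779) F99656 (iv2 F173160)
def n111613 : Q := act 5 n51476
theorem D111613 : act 5 n51476 = n111613 := rfl
theorem F173162 : act 2 n111613 = n51478 := d2_1 D111613 (iv5 D51478) D51476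
def n111614 : Q := act 6 n51476
theorem D111614 : act 6 n51476 = n111614 := rfl
theorem F173163 : act 2 n111614 = n51479 := d3_1 D111614 (iv6 D51479) D51476
def n111615 : Q := act 0 n51477
theorem D111615 : act 0 n51477 = n111615 := rfl
theorem F173164 : act 3 n111615 = n51794 := d20_5 (iv4 F45095) F81261 F81259 (iv3 F81260) D111615 (iv4 D51794) (iv1 D25146) (iv4 F39555) (iv3 D25139) D25137
theorem F173165 : act 7 n109784 = n111615 := d8_0 F173164 F170009 D109784
def n111616 : Q := act 1 n51477
theorem D111616 : act 1 n51477 = n111616 := rfl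
theorem F173166 : act 4 n111559 = n111616 := d20_6 F39172 (iv1 F19277) D11878 D25009 D51455 D111559 (iv1 D111616) (iv4 D51477) (iv3 D25017) (iv1 F39174)
def n111617 : Q := act 5 n51477
theorem D111617 : act 5 n51477 = n111617 := rfl
theorem F173167 : act 3 n111617 = n64074 := d6_1 D111617 (iv5 D64074) (iv3 F81260)
def n111618 : Q := act 6 n51477
theorem D111618 : act 6 n51477 = n111618 := rfl
theorem F173168 : act 3 n111618 = n64075 := d7_1 D111618 (iv6 D64075) (iv3 F81260)
theorem F173169 : act 4 n111618 = n51479 := d10_1 D111618 (iv6 D51479) D51477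
def n111619 : Q := act 0 n51478
theorem D111619 : act 0 n51478 = n111619 := rfl
def n111620 : Q := act 1 n51478
theorem D111620 : act 1 n51478 = n111620 := rfl
def n111621 : Q := act 4 n51478
theorem D111621 : act 4 n51478 = n111621 := rfl
def n111622 : Q := act 6 n51478
theorem D111622 : act 6 n51478 = n111622 := rfl
theorem F173170 : act 3 n111622 = n51483 := d7_1 D111622 (iv6 D51483) (iv3 F81253)
def n111623 : Q := act 0 n51479
theorem D111623 : act 0 n51479 = n111623 := rfl
def n111624 : Q := act 1 n51479
theorem D111624 : act 1 n51479 = n111624 := rfl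
def n111625 : Q := act 5 n51479
theorem D111625 : act 5 n51479 = n111625 := rfl
theorem F173171 : act 3 n111625 = n51486 := d6_1 D111625 (iv5 D51486) (iv3 F81254)
def n111626 : Q := act 7 n51479
theorem D111626 : act 7 n51479 = n111626 := rfl
theorem F173172 : act 3 n111626 = n51487 := d8_1 D111626 (iv7 D51487) (iv3 F81254)
def n111627 : Q := act 6 n51480
theorem D111627 : act 6 n51480 = n111627 := rfl
theorem F173173 : act 2 n111627 = n58774 := d3_1 D111627 (iv6 D58774) (iv2 F81255)
theorem F173174 : act 3 n111627 = n51481 := d7_1 D111627 (iv6 D51481) D51480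
theorem F173175 : act 4 n111627 = n64075 := d10_1 D111627 (iv6 D64075) (iv4 F81259)
theorem F173176 : act 5 n111627 = n59498 := d12_1 D111627 (iv6 F93924) F78913 (iv6 F45684) (iv5 F81256)
theorem F173177 : act 1 n58987 = n111627 := d18_8 (iv1 D59498) (iv4 F93922) F93923 (iv4 D30366) F48512 (iv4 F79992) F169688 (iv4 F169690) F173176
theorem F173178 : act 5 n59152 = n60609 := d21_6 F49290 F39881 (iv5 F81256) D111627 (iv1 F173177) (iv6 F170707) (iv1 D60609) (iv5 F92875) (iv6 D58763) (iv1 F49293)
theorem F173179 : act 3 n60609 = n59384 := d6_1 F173178 (iv5 F93696) (iv3 F170705)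
theorem F173180 : act 6 n62194 = n60609 := d21_5 F77752 D51966 F82068 D59336 F168315 (iv5 F173178) (iv1 D59152) (iv5 F77767) (iv6 D49237) D49235
theorem F173181 : act 4 n60609 = n63573 := d20_6 (iv4 F80121) (iv1 F47257) F47253 (iv3 F47236) (iv1 F93692) (iv3 F173179) (iv1 D63573) F48231 F23778 D14251
theorem F173182 : act 6 n63573 = n63738 := d10_2 F173180 F173181 (iv4 F99107)
def n111628 : Q := act 0 n51481
theorem D111628 : act 0 n51481 = n111628 := rfl
theorem F173183 : act 4 n111628 = n111302 := d18_1 D111628 (iv1 F172704) F81215 (iv5 F81036) D53468 (iv0 F99504) F80631 D51114 (iv5 F81264)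
theorem F173184 : act 6 n111628 = n106203 := d21_5 F39843 (iv1 F49310) F49308 D51481 D111628 (iv5 F167630) (iv1 D108421) F79253 (iv6 D27957) F39846
theorem F173185 : act 2 n58860 = n111628 := d3_3 F173184 (iv2 F171891) (iv6 F168469)
theorem F173186 : act 3 n111628 = n106193 := d0_2 F168470 F173185 (iv2 F171922) (iv3 D59225) (iv2 F171879)
theorem F173187 : act 7 n111628 = n58861 := d4_2 F171881 F173185 F172705
theorem F173188 : act 1 n51481 = n59230 := d15_1 (iv0 D111628) F171881 F173185
theorem F173189 : act 1 n59230 = n58862 := d15_1 F173188 (iv7 D58862) (iv2 F81262)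
theorem F173190 : act 1 n58862 = n111628 := d15_1 F173189 F173187 F172705
theorem F173191 : act 4 n51707 = n106193 := d20_8 (iv4 F172765) (iv1 F172767) (iv4 D51445) (iv3 F168244) (iv1 D11936) (iv3 F19681) (iv4 F39480) D51707 (iv3 F173186) (iv1 F173190)
def n111629 : Q := act 7 n51481
theorem D111629 : act 7 n51481 = n111629 := rfl
theorem F173192 : act 2 n111629 = n58862 := d4_1 D111629 (iv7 D58862) (iv2 F81262)
theorem F173193 : act 4 n111629 = n51487 := d11_1 D111629 (iv7 D51487) (iv4 F81263)
theorem F173194 : act 5 n111629 = n59493 := d13_1 D111629 F93913 (iv5 F81264)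
theorem F173195 : act 1 n58861 = n111629 := d15_1 D58861 (iv7 D111629) F81262
theorem F173196 : act 1 n111629 = n58860 := d15_1 F173195 (iv7 F171881) (iv2 F172705)
def n111630 : Q := act 3 n51482
theorem D111630 : act 3 n51482 = n111630 := rfl
theorem F173197 : act 5 n111630 = n111270 := d6_2 (iv5 F81265) D111630 (iv3 D111270)
theorem F173198 : act 7 n111630 = n111363 := d8_2 (iv7 F81270) D111630 F172815
def n111631 : Q := act 6 n51482
theorem D111631 : act 6 n51482 = n111631 := rfl
theorem F173199 : act 2 n111631 = n111375 := d3_1 D111631 (iv6 D111375) F81268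
theorem F173200 : act 4 n111631 = n66244 := d10_1 D111631 (iv6 D66244) (iv4 F81266)
def n111632 : Q := act 0 n51483
theorem D111632 : act 0 n51483 = n111632 := rfl
def n111633 : Q := act 1 n51483
theorem D111633 : act 1 n51483 = n111633 := rfl
def n111634 : Q := act 5 n51483
theorem D111634 : act 5 n51483 = n111634 := rfl
theorem F173201 : act 6 n111634 = n51486 := d12_2 D51483 D111634 (iv5 D51486) (iv6 D25020) D25019
def n111635 : Q := act 7 n51483
theorem D111635 : act 7 n51483 = n111635 := rfl
def n111636 : Q := act 1 n51486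
theorem D111636 : act 1 n51486 = n111636 := rfl
theorem F173202 : act 5 n111636 = n111491 := d17_7 (iv1 F171192) F171187 (iv1 F93919) (iv5 F81264) F81263 D51486 D111636 (iv0 F173016) (iv4 F173019)
def n111637 : Q := act 4 n51486
theorem D111637 : act 4 n51486 = n111637 := rfl
def n111638 : Q := act 7 n51486
theorem D111638 : act 7 n51486 = n111638 := rfl
theorem F173203 : act 5 n111638 = n51487 := d13_1 D111638 (iv7 D51487) D51486
def n111639 : Q := act 2 n51488
theorem D111639 : act 2 n51488 = n111639 := rfl
theorem F173204 : act 7 n51489 = n111639 := d15_2 (iv0 D51488) D51489 (iv2 D111639)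
def n111640 : Q := act 3 n51488
theorem D111640 : act 3 n51488 = n111640 := rfl
def n111641 : Q := act 4 n51488
theorem D111641 : act 4 n51488 = n111641 := rfl
def n111642 : Q := act 5 n51488
theorem D111642 : act 5 n51488 = n111642 := rfl
theorem F173205 : act 4 n111642 = n109165 := d19_2 D51488 D111642 (iv3 D109165) (iv1 D50384) (iv5 D24560) F18957 (iv3 D5429) D5427 (iv5 F8381) (iv4 D5497) (iv3 F8379) D11753 F22592 D25236 F39762 (iv1 F39261) F39253 (iv4 D25023) D25022
def n111643 : Q := act 6 n51488
theorem D111643 : act 6 n51488 = n111643 := rfl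
def n111644 : Q := act 7 n51488
theorem D111644 : act 7 n51488 = n111644 := rfl
theorem F173206 : act 2 n111644 = n51489 := d4_1 D111644 F173204 (iv2 D111639)
def n111645 : Q := act 3 n51489
theorem D111645 : act 3 n51489 = n111645 := rfl
def n111646 : Q := act 4 n51489
theorem D111646 : act 4 n51489 = n111646 := rfl
theorem F173207 : act 3 n58912 = n111646 := d20_5 (iv4 D23710) D23708 F36868 D28006 D58912 (iv4 D111646) (iv1 D51489) D51491 F81271 F45169
def n111647 : Q := act 5 n51489
theorem D111647 : act 5 n51489 = n111647 := rfl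
def n111648 : Q := act 6 n51489
theorem D111648 : act 6 n51489 = n111648 := rfl
def n111649 : Q := act 4 n51490
theorem D111649 : act 4 n51490 = n111649 := rfl
theorem F173208 : act 2 n111649 = n51491 := d1_1 D111649 (iv4 D51491) D51490
theorem F173209 : act 7 n111649 = n58867 := d11_2 F172754 D111649 (iv4 F172753)
theorem F173210 : act 1 n58866 = n111649 := d15_1 D58866 F173209 (iv2 D58867)
theorem F173211 : act 3 n58895 = n111649 := d0_0 F173208 F81271 F45167 D27999 D58895
theorem F173212 : act 1 n111649 = n58865 := d15_0 (iv0 D58865) (iv7 F81272) (iv2 F173208)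
def n111650 : Q := act 5 n51490
theorem D111650 : act 5 n51490 = n111650 := rfl
theorem F173213 : act 2 n111650 = n51492 := d2_1 D111650 (iv5 D51492) D51490
def n111651 : Q := act 6 n51490
theorem D111651 : act 6 n51490 = n111651 := rfl
theorem F173214 : act 2 n111651 = n51493 := d3_1 D111651 (iv6 D51493) D51490
def n111652 : Q := act 0 n51491
theorem D111652 : act 0 n51491 = n111652 := rfl
theorem F173215 : act 3 n111652 = n108928 := d20_5 F22238 (iv1 F22184) D27949 (iv3 F81271) D111652 (iv4 D108928) (iv1 D50293) (iv4 F79664) (iv3 D50284) F38503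
theorem F173216 : act 1 n58867 = n111652 := d15_0 (iv0 D111652) F81272 D58867
def n111653 : Q := act 1 n51491
theorem D111653 : act 1 n51491 = n111653 := rfl
theorem F173217 : act 1 n111653 = n58867 := d15_1 D111653 (iv7 F173209) F173208
theorem F173218 : act 4 n111502 = n111653 := d20_0 (iv1 D111653) (iv4 D51491) (iv3 D25022) (iv1 D11882) D11883 F19568 D11950 D25178 D51880 F173038
def n111654 : Q := act 5 n51491
theorem D111654 : act 5 n51491 = n111654 := rfl
theorem F173219 : act 3 n111654 = n58780 := d6_1 D111654 (iv5 D58780) (iv3 F81271)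
theorem F173220 : act 7 n111654 = n58868 := d13_2 (iv7 F81272) D111654 (iv5 D58868)
def n111655 : Q := act 6 n51491
theorem D111655 : act 6 n51491 = n111655 := rfl
theorem F173221 : act 3 n111655 = n58781 := d7_1 D111655 (iv6 D58781) (iv3 F81271)
theorem F173222 : act 4 n111655 = n51493 := d10_1 D111655 (iv6 D51493) D51491
def n111656 : Q := act 0 n51492
theorem D111656 : act 0 n51492 = n111656 := rfl
def n111657 : Q := act 1 n51492
theorem D111657 : act 1 n51492 = n111657 := rfl
def n111658 : Q := act 6 n51492
theorem D111658 : act 6 n51492 = n111658 := rfl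
theorem F173223 : act 3 n111658 = n51495 := d7_1 D111658 (iv6 D51495) (iv3 F81273)
def n111659 : Q := act 0 n51493
theorem D111659 : act 0 n51493 = n111659 := rfl
def n111660 : Q := act 1 n51493
theorem D111660 : act 1 n51493 = n111660 := rfl
def n111661 : Q := act 5 n51493
theorem D111661 : act 5 n51493 = n111661 := rfl
theorem F173224 : act 3 n111661 = n51498 := d6_1 D111661 (iv5 D51498) (iv3 F81274)
def n111662 : Q := act 7 n51493
theorem D111662 : act 7 n51493 = n111662 := rfl
theorem F173225 : act 3 n111662 = n51499 := d8_1 D111662 (iv7 D51499) (iv3 F81274)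
def n111663 : Q := act 0 n51494
theorem D111663 : act 0 n51494 = n111663 := rfl
theorem F173226 : act 4 n111663 = n111313 := d18_1 D111663 (iv1 F172737) F81237 (iv5 F81248) (iv4 F173152) F173155 F167993 (iv0 D60511) (iv5 F81277)
theorem F173227 : act 5 n111663 = n106594 := d21_0 (iv1 F171569) F171564 F164680 (iv1 F101538) (iv6 F49311) (iv5 F45186) (iv1 F39261) F39253 D51494 D111663
theorem F173228 : act 3 n59012 = n111663 := d6_3 F173227 F168749 F93690
theorem F173229 : act 5 n108792 = n111313 := d17_3 (iv1 D50225) D50226 D108792 (iv4 F173226) F173227 (iv0 D106594) F77829 D52424 F169240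
def n111664 : Q := act 1 n51494
theorem D111664 : act 1 n51494 = n111664 := rfl
theorem F173230 : act 5 n111664 = n106595 := d18_9 (iv1 D106595) F77828 (iv1 F168417) (iv4 D63093) (iv5 F79597) D51467 F168439 (iv4 F81276) D111664
theorem F173231 : act 6 n108417 = n106595 := d21_5 F46364 D30710 F49149 D50062 D108417 (iv5 F173230) (iv1 D111664) F81277 (iv6 D28737) D28734
theorem F173232 : act 4 n111314 = n111664 := d18_3 (iv1 F81034) (iv4 F81237) (iv1 F172730) F173230 (iv4 F171568) F168739 F98393 F79591 (iv5 F81028)
theorem F173233 : act 6 n109059 = n111664 := d21_5 F38827 D28251 F45754 D50351 D109059 F173230 (iv1 D106595) F77829 (iv6 D25442) (iv1 F38829)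
def n111665 : Q := act 7 n51494
theorem D111665 : act 7 n51494 = n111665 := rfl
theorem F173234 : act 3 n111665 = n58784 := d8_1 D111665 (iv7 D58784) (iv3 F81275)
theorem F173235 : act 4 n111665 = n51499 := d11_1 D111665 (iv7 D51499) (iv4 F81276)
theorem F173236 : act 5 n111665 = n60513 := d13_1 D111665 (iv7 D60513) (iv5 F81277)
theorem F173237 : act 6 n111665 = n58862 := d14_1 D111665 (iv7 D58862) (iv6 D27988) F39254 D51494
theorem F173238 : act 1 n59028 = n111665 := d15_1 (iv0 F168010) (iv7 D111665) (iv2 F98196)
theorem F173239 : act 0 n111584 = n111665 := d21_1 (iv5 F173118) F173236 (iv6 F167614) (iv1 F167615) F80640 F46440 (iv1 F39708) F38923 D51084 D110803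
def n111666 : Q := act 0 n51495
theorem D111666 : act 0 n51495 = n111666 := rfl
def n111667 : Q := act 1 n51495
theorem D111667 : act 1 n51495 = n111667 := rfl
def n111668 : Q := act 5 n51495
theorem D111668 : act 5 n51495 = n111668 := rfl
theorem F173240 : act 6 n111668 = n51498 := d12_2 D51495 D111668 (iv5 D51498) (iv6 D25025) D25024
def n111669 : Q := act 7 n51495
theorem D111669 : act 7 n51495 = n111669 := rfl
def n111670 : Q := act 4 n51498
theorem D111670 : act 4 n51498 = n111670 := rfl
def n111671 : Q := act 7 n51498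
theorem D111671 : act 7 n51498 = n111671 := rfl
theorem F173241 : act 5 n111671 = n51499 := d13_1 D111671 (iv7 D51499) D51498
def n111674 : Q := act 3 n51500
theorem D111674 : act 3 n51500 = n111674 := rfl
theorem F173244 : act 7 n111674 = n51506 := d8_2 F81278 D111674 (iv3 D51506)
def n111675 : Q := act 4 n51500
theorem D111675 : act 4 n51500 = n111675 := rfl
theorem F173245 : act 2 n111675 = n51502 := d1_1 D111675 (iv4 D51502) D51500
theorem F173246 : act 7 n111675 = n51507 := d11_2 F81278 D111675 (iv4 D51507)
theorem F173247 : act 3 n59100 = n111675 := d8_3 F173246 F81280 D59100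
def n111676 : Q := act 5 n51500
theorem D111676 : act 5 n51500 = n111676 := rfl
theorem F173248 : act 2 n111676 = n51503 := d2_1 D111676 (iv5 D51503) D51500
theorem F173249 : act 7 n111676 = n51508 := d13_2 F81278 D111676 (iv5 D51508)
theorem F173250 : act 1 n51503 = n66021 := d15_0 (iv0 F170930) (iv7 F173249) F173248
def n111677 : Q := act 6 n51500
theorem D111677 : act 6 n51500 = n111677 := rfl
theorem F173251 : act 2 n111677 = n51504 := d3_1 D111677 (iv6 D51504) D51500
def n111678 : Q := act 0 n51501
theorem D111678 : act 0 n51501 = n111678 := rfl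
def n111679 : Q := act 1 n51501
theorem D111679 : act 1 n51501 = n111679 := rfl
def n111680 : Q := act 2 n51501
theorem D111680 : act 2 n51501 = n111680 := rfl
def n111681 : Q := act 4 n51501
theorem D111681 : act 4 n51501 = n111681 := rfl
theorem F173252 : act 0 n111681 = n52021 := d20_7 (iv4 D11878) (iv1 D5573) D5574 D11883 D25026 D51501 D111681 F82192 (iv3 D51424) (iv1 F39231)
def n111682 : Q := act 5 n51501
theorem D111682 : act 5 n51501 = n111682 := rfl
theorem F173253 : act 3 n111682 = n51503 := d6_1 D111682 (iv5 D51503) D51501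
def n111683 : Q := act 6 n51501
theorem D111683 : act 6 n51501 = n111683 := rfl
theorem F173254 : act 3 n111683 = n51504 := d7_1 D111683 (iv6 D51504) D51501
def n111684 : Q := act 7 n51501
theorem D111684 : act 7 n51501 = n111684 := rfl
theorem F173255 : act 3 n111684 = n51505 := d8_1 D111684 (iv7 D51505) D51501
def n111685 : Q := act 0 n51502
theorem D111685 : act 0 n51502 = n111685 := rfl
theorem F173256 : act 5 n111685 = n59049 := d17_1 D111685 (iv1 D59049) D59051 F172854 (iv5 F172856) F170401 (iv5 D110246) F80197 D51502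
theorem F173257 : act 4 n111685 = n110255 := d20_2 D51502 D111685 F173105 (iv1 D51456) (iv3 D25009) (iv4 D11878) (iv1 D5573) D5574 D11883 D25026
theorem F173258 : act 2 n51793 = n111685 := d15_3 (iv0 D111685) (iv0 F169772) (iv7 F170007)
theorem F173259 : act 3 n111685 = n109767 := d0_2 D51793 F173258 (iv2 D109767) (iv3 D50625) (iv2 F170003)
theorem F173260 : act 7 n111685 = n59282 := d4_2 (iv7 F170007) F173258 F169993
theorem F173261 : act 1 n51507 = n111685 := d15_1 (iv0 F172846) F173260 F169993
def n111686 : Q := act 3 n51502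
theorem D111686 : act 3 n51502 = n111686 := rfl
theorem F173262 : act 2 n111686 = n59101 := d0_1 D111686 (iv3 D59101) (iv2 F93272) F173247 F173245
theorem F173264 : act 4 n111686 = n109999 := d20_6 D50816 (iv1 F169771) (iv4 D50631) D50630 F169772 D111686 (iv1 D109999) (iv4 D50737) D50736 F105380
theorem F173265 : act 3 n111681 = n109999 := d5_5 (iv4 F173264) (iv3 D111686) (iv4 D51502) D51501 D111681
theorem F173266 : act 0 n59303 = n111686 := d20_4 D24724 (iv1 F80177) (iv4 F170032) (iv3 F93528) (iv3 D111686) (iv4 D51502) (iv1 F80197) (iv4 D50838) F38698 (iv1 F38692)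
theorem E17271 : n59277 = n59101 := (c15_3 (iv0 F173266) (iv0 D59303) (iv7 F93506) (iv2 F173262))
theorem F173267 : act 0 n59101 = n110024 := (sb E17271 F170510)
theorem F173268 : act 1 n59101 = n50698 := (sb E17271 F170511)
theorem E17272 : n28147 = n28073 := ((((iv3 D59101)).symm.trans (sb E17271 (iv3 D59277)))).symm
theorem E17273 : n109416 = n109394 := (((F170863).symm.trans (sb E17271 (iv5 F171231)))).symm
theorem F173269 : act 7 n59101 = n28153 := (sb E17271 F93506)
theorem E17274 : n59275 = n13388 := ((((iv1 D28073)).symm.trans (sb E17272 D59275))).symm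
theorem E17276 : n59100 = n13434 := (((iv2 F93272)).symm.trans (sb E17272 (iv2 D28147)))
theorem E17277 : n59278 = n52383 := ((((iv4 F82749)).symm.trans (sb E17272 D59278))).symm
theorem E17280 : n59096 = n13435 := ((F93271).symm.trans (sb E17272 (iv7 F45513)))
theorem F173270 : act 0 n109394 = n110631 := (sb E17273 (iv1 F171230))
theorem F173271 : act 1 n109394 = n50480 := (sb E17273 (iv0 D109416))
theorem E17281 : n28152 = n28072 := (((D28072).symm.trans (sb E17274 (iv1 F93504)))).symm
theorem F173273 : act 2 n13434 = n28073 := (sb E17276 F93272)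
theorem E17282 : n111675 = n28148 := (((D28148).symm.trans (sb E17276 F173247))).symm
theorem E17283 : n109393 = n28150 := (((D28150).symm.trans (sb E17276 F170861))).symm
theorem F173274 : act 2 n52383 = n28149 := (sb E17277 F93507)
theorem F173275 : act 7 n52383 = n28154 := (sb E17277 F93508)
theorem F173277 : act 7 n13435 = n28073 := (sb E17280 (iv7 F93271))
theorem F173278 : act 2 n28072 = n13435 := (sb E17281 F45514)
theorem E17285 : n59286 = n51507 := ((((iv3 F81280)).symm.trans (sb E17281 (iv3 F93515)))).symm
theorem E17286 : n59292 = n59097 := (((D59097).symm.trans (sb E17281 (iv4 F93520)))).symm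
theorem E17287 : n59297 = n50473 := ((((iv5 F170858)).symm.trans (sb E17281 (iv5 F93524)))).symm
theorem F173279 : act 7 n28072 = n13434 := (sb E17281 (iv7 D28152))
theorem E17289 : n59283 = n51502 := ((D59283).symm.trans (sb E17282 F173245))
theorem E17290 : n51500 = n50851 := (((F80207).symm.trans (sb E17282 (iv4 D111675)))).symm
theorem F173280 : act 2 n28150 = n50474 := (sb E17283 F169383)
theorem E17291 : n110272 = n25027 := ((((iv4 D51507)).symm.trans (sb E17285 (iv4 F170500)))).symm
theorem F173284 : act 2 n59097 = n28154 := (sb E17286 F93519)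
theorem F173285 : act 7 n59097 = n28149 := (sb E17286 (iv7 D59292))
theorem F173286 : act 2 n50473 = n28155 := (sb E17287 F93523)
theorem F173287 : act 7 n50473 = n28150 := (sb E17287 (iv7 D59297))
theorem F173289 : act 2 n51502 = n28148 := (sb E17289 (iv2 D59283))
theorem E17292 : n110277 = n25026 := ((((iv4 D51502)).symm.trans (sb E17289 (iv4 F170515)))).symm
theorem F173290 : act 7 n51502 = n110274 := (sb E17289 (iv7 F170513))
theorem E17295 : n111674 = n110278 := (((D110278).symm.trans (sb E17290 D111674))).symm
theorem E17296 : n111676 = n110279 := (((D110279).symm.trans (sb E17290 D111676))).symm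
theorem E17297 : n111677 = n110280 := (((D110280).symm.trans (sb E17290 D111677))).symm
theorem E17298 : n51505 = n50850 := (((iv2 F81279)).symm.trans (sb E17291 (iv2 D110272)))
theorem F173291 : act 7 n25027 = n50851 := (sb E17291 (iv7 F170499))
theorem F173292 : act 2 n25026 = n50851 := (sb E17292 F170514)
theorem F173293 : act 7 n110278 = n51506 := (sb E17295 F173244)
theorem F173294 : act 2 n110279 = n51503 := (sb E17296 F173248)
theorem F173295 : act 7 n110279 = n51508 := (sb E17296 F173249)
theorem F173296 : act 2 n110280 = n51504 := (sb E17297 F173251)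
theorem F173297 : act 2 n50850 = n25027 := (sb E17298 F81279)
theorem E17299 : n111684 = n110273 := (((D110273).symm.trans (sb E17298 (iv3 F173255)))).symm
theorem F173298 : act 7 n50850 = n25026 := (sb E17298 (iv7 D51505))
theorem F173299 : act 7 n110273 = n51501 := (sb E17299 (iv7 D111684))
theorem F173300 : act 7 n111681 = n107592 := d11_2 F173299 D111681 (iv4 F170501)
theorem F173301 : act 2 n111681 = n107591 := d15_3 (iv0 D107591) D107592 (iv7 F173300)
theorem F173302 : act 4 n107591 = n111680 := d1_2 D111681 F173301 (iv2 D111680)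
theorem F173303 : act 7 n51503 = n110275 := d13_2 F173298 D51503 (iv5 D110275)
theorem F173304 : act 2 n110275 = n51508 := d4_1 F173303 (iv7 F173295) F173294
theorem F173305 : act 1 n110275 = n111373 := d15_0 F172859 F173295 (iv2 F173304)
theorem F173308 : act 7 n59284 = n109389 := d8_2 F173287 (iv3 F93513) (iv3 D109389)
theorem F173309 : act 7 n59295 = n109390 := d11_2 F173287 D59295 (iv4 D109390)
theorem F173310 : act 2 n109390 = n59311 := d15_3 (iv0 F171082) (iv0 F171083) F173309
theorem F173311 : act 2 n59284 = n109616 := d15_3 (iv0 D109616) (iv0 F172847) (iv7 F173308)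
theorem F173312 : act 5 n109616 = n51502 := d2_2 D59284 F173311 F173289
theorem E17300 : n109412 = n51676 := (c17_1 (iv1 F171239) (iv5 F105472) D109616 F173312 (iv4 D51502) D51503 F173250 (iv5 D66021) D66019 (iv4 F170323))
theorem F173313 : act 0 n51676 = n109119 := (sb E17300 (iv1 F171238))
theorem F173314 : act 1 n51676 = n109138 := (sb E17300 F171239)
theorem E17301 : n50479 = n25101 := ((((iv3 D51676)).symm.trans (sb E17300 (iv3 D109412)))).symm
theorem F173315 : act 7 n51676 = n50485 := (sb E17300 F169398)
theorem E17302 : n109410 = n11924 := ((((iv1 D25101)).symm.trans (sb E17301 D109410))).symm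
theorem E17304 : n51675 = n24599 := (((iv2 F81592)).symm.trans (sb E17301 (iv2 D50479)))
theorem E17305 : n109413 = n51677 := (((D51677).symm.trans (sb E17301 D109413))).symm
theorem E17306 : n51603 = n24632 := (((F105470).symm.trans (sb E17301 (iv5 F171325)))).symm
theorem E17308 : n51670 = n24600 := ((F81591).symm.trans (sb E17301 (iv7 F79836)))
theorem E17309 : n50484 = n25100 := (((D25100).symm.trans (sb E17302 (iv1 F169396)))).symm
theorem F173316 : act 2 n24599 = n25101 := (sb E17304 F81592)
theorem E17310 : n50565 = n25067 := (((F171327).symm.trans (sb E17304 (iv5 F105471)))).symm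
theorem F173317 : act 2 n51677 = n50481 := (sb E17305 F169399)
theorem F173318 : act 7 n51677 = n50486 := (sb E17305 F169400)
theorem E17311 : n50560 = n25068 := ((F79935).symm.trans (sb E17306 (iv7 F81457)))
theorem F173320 : act 7 n24600 = n25101 := (sb E17308 (iv7 F81591))
theorem F173321 : act 2 n25100 = n24600 := (sb E17309 F79837)
theorem E17312 : n109421 = n51671 := (((D51671).symm.trans (sb E17309 (iv3 F169406)))).symm
theorem E17313 : n109427 = n51672 := (((D51672).symm.trans (sb E17309 (iv4 F169411)))).symm
theorem E17314 : n51608 = n24631 := (((F105474).symm.trans (sb E17309 (iv5 F171328)))).symm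
theorem F173322 : act 7 n25100 = n24599 := (sb E17309 (iv7 D50484))
theorem F173323 : act 2 n25067 = n24632 := (sb E17310 F79936)
theorem E17318 : n109604 = n51604 := (((D51604).symm.trans (sb E17310 (iv3 F169610)))).symm
theorem E17319 : n109610 = n51605 := (((D51605).symm.trans (sb E17310 (iv4 F169615)))).symm
theorem E17321 : n109597 = n51609 := (((D51609).symm.trans (sb E17311 D109597))).symm
theorem E17322 : n109598 = n51610 := (((D51610).symm.trans (sb E17311 D109598))).symm
theorem E17323 : n109599 = n51612 := (((D51612).symm.trans (sb E17311 D109599))).symm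
theorem F173324 : act 7 n25068 = n24632 := (sb E17311 (iv7 F79935))
theorem F173325 : act 2 n51671 = n110631 := (sb E17312 (iv2 F171227))
theorem E17324 : n110629 = n51946 := (((F82034).symm.trans (sb E17312 (iv4 F171226)))).symm
theorem F173326 : act 7 n51671 = n50480 := (sb E17312 (iv7 D109421))
theorem F173327 : act 2 n51672 = n50486 := (sb E17313 F169410)
theorem F173328 : act 7 n51672 = n50481 := (sb E17313 (iv7 D109427))
theorem F173329 : act 2 n24631 = n25068 := (sb E17314 F81458)
theorem F173330 : act 7 n24631 = n25067 := (sb E17314 (iv7 D51608))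
theorem F173332 : act 2 n51604 = n110410 := (sb E17318 (iv2 F170774))
theorem E17325 : n110409 = n52045 := (((F82257).symm.trans (sb E17318 (iv4 F170773)))).symm
theorem F173333 : act 7 n51604 = n50561 := (sb E17318 (iv7 D109604))
theorem F173334 : act 2 n51605 = n50567 := (sb E17319 F169614)
theorem F173335 : act 7 n51605 = n50562 := (sb E17319 (iv7 D109610))
theorem F173337 : act 7 n51609 = n50566 := (sb E17321 F169590)
theorem F173338 : act 2 n51610 = n50562 := (sb E17322 F169591)
theorem F173339 : act 7 n51610 = n50567 := (sb E17322 F169592)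
theorem F173340 : act 2 n51612 = n50564 := (sb E17323 F169593)
theorem F173341 : act 2 n51946 = n51014 := (sb E17324 (iv2 D110629))
theorem F173343 : act 2 n52045 = n50914 := (sb E17325 (iv2 D110409))
theorem F173344 : act 7 n52045 = n50915 := (sb E17325 (iv7 F170772))
theorem F173345 : act 7 n110415 = n110031 := d13_2 F173344 D110415 F171344
theorem E17326 : n110413 = n52044 := (c15_4 (iv0 D52044) D52045 F173344 (iv2 F170785))
theorem F173346 : act 2 n52044 = n50915 := (sb E17326 F170785)
theorem F173347 : act 4 n52044 = n109602 := (sb E17326 F170786)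
theorem F173348 : act 7 n52044 = n50914 := (sb E17326 (iv7 D110413))
theorem F173349 : act 5 n109602 = n110631 := d18_4 (iv1 D25275) (iv4 F39862) D52044 F173347 (iv4 D110631) (iv0 D51014) F38837 D24822 (iv5 F171314)
theorem F173350 : act 1 n109602 = n110504 := d18_8 (iv1 F170016) (iv4 F169948) (iv1 F81851) (iv4 D50769) (iv5 F38796) (iv4 F80324) F82256 F173347 F171000
theorem F173351 : act 5 n52044 = n110030 := d17_5 (iv1 F173268) F170863 F173270 (iv5 F173349) (iv4 F173347) (iv0 D110030) (iv5 D50749) D50748 (iv4 F80127)
theorem F173352 : act 2 n110030 = n110415 := d2_1 F173351 (iv5 D110415) (iv2 F173346)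
theorem F173353 : act 7 n110030 = n110411 := d13_2 (iv7 F173348) F173351 (iv5 D110411)
theorem F173355 : act 1 n110415 = n110018 := d15_0 (iv0 F170783) (iv7 F173353) F173352
theorem F173356 : act 1 n110504 = n51604 := d15_1 F173350 F173333 D109602
theorem F173357 : act 5 n109418 = n110410 := d13_3 (iv7 F170779) F173349 (iv7 F171229)
theorem F173358 : act 0 n59307 = n109418 := d17_2 F169996 D59307 F173357 (iv4 D110410) D110411 F170784 (iv5 D51857) D51856 (iv4 F81893)
theorem F173359 : act 5 n110091 = n110634 := d17_3 (iv1 D50772) D50773 D110091 F171241 F173357 F170775 (iv5 D59074) F169989 F80144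
theorem E17327 : n110634 = n51945 := ((c18_3 (iv1 D25219) (iv4 F39692) D51945 F171241 F173357 (iv4 D110410) (iv0 D50914) F38755 D24782 F105480)).symm
theorem F173360 : act 2 n51945 = n51015 := (sb E17327 F171240)
theorem F173361 : act 4 n51945 = n109418 := (sb E17327 F171241)
theorem F173362 : act 5 n51945 = n110091 := (sb E17327 (iv5 F173359))
theorem F173363 : act 7 n51945 = n51014 := (sb E17327 (iv7 D110634))
theorem F173364 : act 7 n110630 = n111461 := d8_2 F173363 D110630 (iv3 F172977)
theorem F173365 : act 7 n110632 = n110091 := d13_2 F173363 D110632 (iv5 F173362)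
theorem E17328 : n111454 = n111272 := (c11_3 F173364 (iv4 D111461) F172975 (iv4 F172594))
theorem F173366 : act 2 n111272 = n51411 := (sb E17328 (iv2 D111454))
theorem F173367 : act 7 n111272 = n51412 := (sb E17328 (iv7 F172975))
theorem E17329 : n111459 = n111271 := (c15_4 (iv0 D111271) D111272 F173367 (iv2 F172976))
theorem F173368 : act 2 n111271 = n51412 := (sb E17329 F172976)
theorem F173369 : act 7 n111271 = n51411 := (sb E17329 (iv7 D111459))
theorem F173370 : act 2 n111456 = n110630 := d1_3 F172594 F173366 D111456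
theorem F173371 : act 2 n110091 = n110636 := d2_1 F173362 (iv5 D110636) (iv2 F173360)
theorem F173372 : act 1 n110636 = n110079 := d15_0 (iv0 F171340) F173365 F173371
theorem F173373 : act 7 n69479 = n110636 := d15_2 (iv0 D110091) (iv0 F105783) (iv2 F173371)
theorem E17330 : n69482 = n53765 := ((c8_2 F173373 (iv3 F171346) (iv7 D69482) D69479)).symm
theorem F173375 : act 2 n53765 = n32270 := (sb E17330 F105793)
theorem E17331 : n32268 = n26006 := ((((iv4 D53765)).symm.trans (sb E17330 F105794))).symm
theorem F173376 : act 7 n53765 = n32265 := (sb E17330 (iv7 D69482))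
theorem E17332 : n69466 = n15219 := ((((iv1 F41099)).symm.trans (sb E17331 (iv1 F105761)))).symm
theorem E17334 : n53763 = n15218 := ((D53763).symm.trans (sb E17331 F51191))
theorem E17335 : n69476 = n53764 := (((D53764).symm.trans (sb E17331 (iv3 F105770)))).symm
theorem E17336 : n65557 = n53400 := ((((iv5 F171348)).symm.trans (sb E17331 (iv5 F105789)))).symm
theorem E17338 : n53768 = n15217 := ((D53768).symm.trans (sb E17331 (iv7 D32268)))
theorem E17339 : n32263 = n26007 := ((((iv1 F41100)).symm.trans (sb E17332 (iv1 D69466)))).symm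
theorem F173377 : act 2 n15218 = n26006 := (sb E17334 (iv2 D53763))
theorem F173378 : act 7 n53764 = n32264 := (sb E17335 (iv7 D69476))
theorem F173379 : act 2 n53400 = n30726 := (sb E17336 F101284)
theorem F173380 : act 7 n53400 = n30725 := (sb E17336 (iv7 D65557))
theorem F173382 : act 7 n15217 = n26006 := (sb E17338 (iv7 D53768))
theorem F173383 : act 2 n26007 = n15217 := (sb E17339 (iv2 D32263))
theorem E17340 : n69467 = n53769 := (((D53769).symm.trans (sb E17339 D69467))).symm
theorem E17341 : n69468 = n53770 := (((D53770).symm.trans (sb E17339 D69468))).symm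
theorem E17342 : n65552 = n53401 := ((((iv5 F171172)).symm.trans (sb E17339 (iv5 F105786)))).symm
theorem E17343 : n69470 = n53772 := (((D53772).symm.trans (sb E17339 D69470))).symm
theorem F173384 : act 7 n26007 = n15218 := (sb E17339 (iv7 F51190))
theorem F173385 : act 7 n53769 = n32269 := (sb E17340 F105762)
theorem F173386 : act 2 n53770 = n32265 := (sb E17341 F105763)
theorem F173387 : act 7 n53770 = n32270 := (sb E17341 F105764)
theorem F173388 : act 2 n53401 = n30725 := (sb E17342 (iv2 D65552))
theorem F173389 : act 7 n53401 = n30726 := (sb E17342 (iv7 F101283))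
theorem F173390 : act 2 n53772 = n32267 := (sb E17343 F105767)
theorem F173391 : act 7 n59751 = n105809 := d11_2 F173378 F94117 (iv4 F162502)
theorem F173393 : act 2 n59751 = n105808 := d15_3 (iv0 D105808) D105809 (iv7 F173391)
theorem F173394 : act 4 n105808 = n69473 := d1_2 F94117 F173393 (iv2 D69473)
theorem F173396 : act 7 n69480 = n110635 := d13_2 F173376 D69480 F171347
theorem F173397 : act 2 n69494 = n110635 := d2_3 F171347 F173375 D69494
theorem F173398 : act 1 n59307 = n51671 := d15_1 (iv0 F173358) F173326 D109418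
theorem F173402 : act 2 n109397 = n59296 := d3_3 (iv6 D59296) F173280 D109397
theorem F173403 : act 7 n110508 = n109397 := d15_2 (iv0 F170866) D110508 F173402
theorem E17344 : n52393 = n52387 := (c8_2 F173275 (iv3 F82753) (iv7 D52387) D52383)
theorem F173406 : act 0 n52387 = n25431 := (sb E17344 (iv1 D52393))
theorem F173407 : act 1 n52387 = n25433 := (sb E17344 F82752)
theorem F173408 : act 3 n52387 = n28154 := (sb E17344 F82753)
theorem E17345 : n52392 = n52382 := (c15_2 F173407 F82751 (iv7 F82748) (iv2 F82750))
theorem F173409 : act 0 n52382 = n25433 := (sb E17345 (iv1 F82751))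
theorem F173410 : act 1 n52382 = n25431 := (sb E17345 (iv0 D52392))
def n111687 : Q := act 6 n51502
theorem D111687 : act 6 n51502 = n111687 := rfl
def n111688 : Q := act 0 n51503
theorem D111688 : act 0 n51503 = n111688 := rfl
theorem F173413 : act 5 n111688 = n110170 := d17_3 D25026 D51503 D111688 (iv4 D110170) F169601 (iv0 F170927) (iv5 D25179) (iv0 D11950) (iv4 F19568)
theorem F173414 : act 2 n111373 = n111688 := d15_3 (iv0 D111688) F173250 (iv7 F172858)
theorem F173415 : act 1 n51508 = n111688 := d15_0 (iv0 D111688) F173303 F173304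
def n111691 : Q := act 0 n51504
theorem D111691 : act 0 n51504 = n111691 := rfl
def n111692 : Q := act 1 n51504
theorem D111692 : act 1 n51504 = n111692 := rfl
def n111693 : Q := act 5 n51504
theorem D111693 : act 5 n51504 = n111693 := rfl
def n111694 : Q := act 7 n51504
theorem D111694 : act 7 n51504 = n111694 := rfl
def n111695 : Q := act 0 n51506
theorem D111695 : act 0 n51506 = n111695 := rfl
theorem F173416 : act 4 n111695 = n59172 := d20_0 (iv1 F93372) F82693 (iv3 F172687) (iv1 F172691) (iv3 F173105) (iv4 F173257) (iv1 F173261) (iv4 D51507) D51506 D111695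
def n111696 : Q := act 1 n51506
theorem D111696 : act 1 n51506 = n111696 := rfl
def n111697 : Q := act 2 n51506
theorem D111697 : act 2 n51506 = n111697 := rfl
def n111698 : Q := act 4 n51506
theorem D111698 : act 4 n51506 = n111698 := rfl
theorem F173417 : act 3 n111698 = n59097 := d5_1 D111698 (iv4 D59097) (iv3 F81280) (iv4 D51507) D51506
theorem F173418 : act 7 n111698 = n59289 := d11_2 F173293 D111698 (iv4 F170516)
theorem F173419 : act 0 n111503 = n111698 := d20_1 D111503 (iv4 D111698) (iv3 D51506) (iv1 D25027) (iv3 D11883) (iv4 D5574) D5572 D11875 D25000 D51427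
theorem F173420 : act 2 n52388 = n111698 := d0_5 F173417 F173284 (iv3 F173408) F82750 D52388
theorem F173421 : act 0 n111698 = n111508 := d20_4 (iv4 D28074) D28072 D59097 (iv3 F173417) F173040 F170308 (iv1 D110155) (iv4 F170292) (iv3 D110138) F80171
theorem F173422 : act 0 n111507 = n108669 := d20_10 (iv4 D108669) D108666 (iv4 F170395) (iv3 D110245) (iv1 F80196) D51506 D111698 F173421 (iv4 D111508) D111507
theorem F173423 : act 4 n111697 = n52388 := d1_0 F173420 (iv4 D111698) D111697
def n111699 : Q := act 5 n51506
theorem D111699 : act 5 n51506 = n111699 := rfl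
theorem F173424 : act 3 n111699 = n51508 := d6_1 D111699 (iv5 D51508) D51506
def n111700 : Q := act 6 n51506
theorem D111700 : act 6 n51506 = n111700 := rfl
def n111702 : Q := act 4 n51508
theorem D111702 : act 4 n51508 = n111702 := rfl
def n111703 : Q := act 6 n51508
theorem D111703 : act 6 n51508 = n111703 := rfl
def n111708 : Q := act 6 n51510
theorem D111708 : act 6 n51510 = n111708 := rfl
theorem F173428 : act 2 n111708 = n51514 := d3_1 D111708 (iv6 D51514) (iv2 F81281)
def n111709 : Q := act 3 n51511
theorem D111709 : act 3 n51511 = n111709 := rfl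
def n111710 : Q := act 4 n51511
theorem D111710 : act 4 n51511 = n111710 := rfl
def n111711 : Q := act 6 n51511
theorem D111711 : act 6 n51511 = n111711 := rfl
def n111712 : Q := act 3 n51512
theorem D111712 : act 3 n51512 = n111712 := rfl
def n111713 : Q := act 4 n51512
theorem D111713 : act 4 n51512 = n111713 := rfl
def n111714 : Q := act 6 n51512
theorem D111714 : act 6 n51512 = n111714 := rfl
def n111715 : Q := act 0 n51513
theorem D111715 : act 0 n51513 = n111715 := rfl
def n111716 : Q := act 1 n51513
theorem D111716 : act 1 n51513 = n111716 := rfl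
def n111717 : Q := act 3 n51513
theorem D111717 : act 3 n51513 = n111717 := rfl
theorem F173430 : act 4 n111717 = n51519 := d5_2 D51513 D111717 (iv3 D51519) (iv4 D25032) (iv3 F39265)
def n111718 : Q := act 6 n51513
theorem D111718 : act 6 n51513 = n111718 := rfl
theorem F173431 : act 4 n111718 = n51514 := d10_1 D111718 (iv6 D51514) D51513
def n111719 : Q := act 0 n51514
theorem D111719 : act 0 n51514 = n111719 := rfl
def n111720 : Q := act 1 n51514
theorem D111720 : act 1 n51514 = n111720 := rfl
def n111721 : Q := act 7 n51514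
theorem D111721 : act 7 n51514 = n111721 := rfl
theorem F173432 : act 3 n111721 = n51523 := d8_1 D111721 (iv7 D51523) (iv3 F81282)
theorem F173433 : act 5 n111721 = n109177 := d13_1 D111721 (iv7 D109177) (iv5 F81283)
def n111722 : Q := act 0 n51515
theorem D111722 : act 0 n51515 = n111722 := rfl
def n111723 : Q := act 1 n51515
theorem D111723 : act 1 n51515 = n111723 := rfl
def n111724 : Q := act 2 n51515
theorem D111724 : act 2 n51515 = n111724 := rfl
def n111725 : Q := act 4 n51515
theorem D111725 : act 4 n51515 = n111725 := rfl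
def n111726 : Q := act 6 n51515
theorem D111726 : act 6 n51515 = n111726 := rfl
theorem F173434 : act 3 n111726 = n51516 := d7_1 D111726 (iv6 D51516) D51515
def n111727 : Q := act 0 n51516
theorem D111727 : act 0 n51516 = n111727 := rfl
def n111728 : Q := act 1 n51516
theorem D111728 : act 1 n51516 = n111728 := rfl
def n111729 : Q := act 5 n51516
theorem D111729 : act 5 n51516 = n111729 := rfl
def n111730 : Q := act 7 n51516
theorem D111730 : act 7 n51516 = n111730 := rfl
def n111731 : Q := act 0 n51517
theorem D111731 : act 0 n51517 = n111731 := rfl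
def n111732 : Q := act 1 n51517
theorem D111732 : act 1 n51517 = n111732 := rfl
def n111733 : Q := act 2 n51517
theorem D111733 : act 2 n51517 = n111733 := rfl
def n111734 : Q := act 6 n51517
theorem D111734 : act 6 n51517 = n111734 := rfl
theorem F173435 : act 3 n111734 = n51518 := d7_1 D111734 (iv6 D51518) D51517
def n111735 : Q := act 0 n51518
theorem D111735 : act 0 n51518 = n111735 := rfl
def n111736 : Q := act 1 n51518
theorem D111736 : act 1 n51518 = n111736 := rfl
def n111737 : Q := act 5 n51518
theorem D111737 : act 5 n51518 = n111737 := rfl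
def n111738 : Q := act 7 n51518
theorem D111738 : act 7 n51518 = n111738 := rfl
def n111739 : Q := act 0 n51519
theorem D111739 : act 0 n51519 = n111739 := rfl
def n111740 : Q := act 1 n51519
theorem D111740 : act 1 n51519 = n111740 := rfl
def n111741 : Q := act 2 n51519
theorem D111741 : act 2 n51519 = n111741 := rfl
theorem F173436 : act 5 n111741 = n66217 := d2_2 (iv5 F81284) D111741 (iv2 D66217)
def n111742 : Q := act 6 n51519
theorem D111742 : act 6 n51519 = n111742 := rfl
theorem F173437 : act 3 n111742 = n51520 := d7_1 D111742 (iv6 D51520) D51519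
def n111743 : Q := act 0 n51520
theorem D111743 : act 0 n51520 = n111743 := rfl
def n111744 : Q := act 1 n51520
theorem D111744 : act 1 n51520 = n111744 := rfl
def n111745 : Q := act 5 n51520
theorem D111745 : act 5 n51520 = n111745 := rfl
theorem F173438 : act 6 n111745 = n66221 := d12_2 D51520 D111745 (iv5 D66221) (iv6 D30948) (iv5 F39266)
def n111746 : Q := act 7 n51520
theorem D111746 : act 7 n51520 = n111746 := rfl
theorem F173439 : act 4 n111746 = n51523 := d11_1 D111746 (iv7 D51523) (iv4 F81285)
def n111747 : Q := act 2 n51521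
theorem D111747 : act 2 n51521 = n111747 := rfl
theorem F173440 : act 7 n51522 = n111747 := d15_2 (iv0 D51521) D51522 (iv2 D111747)
def n111748 : Q := act 3 n51521
theorem D111748 : act 3 n51521 = n111748 := rfl
def n111749 : Q := act 4 n51521
theorem D111749 : act 4 n51521 = n111749 := rfl
def n111750 : Q := act 5 n51521
theorem D111750 : act 5 n51521 = n111750 := rfl
def n111751 : Q := act 6 n51521
theorem D111751 : act 6 n51521 = n111751 := rfl
def n111752 : Q := act 7 n51521
theorem D111752 : act 7 n51521 = n111752 := rfl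
theorem F173441 : act 2 n111752 = n51522 := d4_1 D111752 F173440 (iv2 D111747)
def n111753 : Q := act 3 n51522
theorem D111753 : act 3 n51522 = n111753 := rfl
def n111754 : Q := act 4 n51522
theorem D111754 : act 4 n51522 = n111754 := rfl
def n111755 : Q := act 5 n51522
theorem D111755 : act 5 n51522 = n111755 := rfl
def n111756 : Q := act 6 n51522
theorem D111756 : act 6 n51522 = n111756 := rfl
def n111757 : Q := act 6 n51523
theorem D111757 : act 6 n51523 = n111757 := rfl
theorem F173442 : act 7 n111757 = n51524 := d14_2 D51523 D111757 (iv6 D51524) (iv7 D25034) D25033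
def n111758 : Q := act 0 n51524
theorem D111758 : act 0 n51524 = n111758 := rfl
def n111759 : Q := act 1 n51524
theorem D111759 : act 1 n51524 = n111759 := rfl
def n111760 : Q := act 5 n51524
theorem D111760 : act 5 n51524 = n111760 := rfl
theorem F173443 : act 6 n111760 = n51527 := d12_2 D51524 D111760 (iv5 D51527) (iv6 D25035) (iv5 F39269)
def n111761 : Q := act 3 n51525
theorem D111761 : act 3 n51525 = n111761 := rfl
theorem F173444 : act 7 n111761 = n109222 := d8_2 F166447 D111761 (iv3 D109222)
def n111762 : Q := act 5 n51525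
theorem D111762 : act 5 n51525 = n111762 := rfl
theorem F173445 : act 2 n111762 = n109227 := d2_1 D111762 (iv5 D109227) F166445
theorem F173446 : act 7 n111762 = n109224 := d13_2 F166447 D111762 (iv5 D109224)
def n111763 : Q := act 6 n51525
theorem D111763 : act 6 n51525 = n111763 := rfl
theorem F173447 : act 2 n111763 = n109228 := d3_1 D111763 (iv6 D109228) F166445
def n111764 : Q := act 3 n51526
theorem D111764 : act 3 n51526 = n111764 := rfl
theorem F173448 : act 7 n111764 = n109226 := d8_2 (iv7 F166443) D111764 (iv3 D109226)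
def n111765 : Q := act 5 n51526
theorem D111765 : act 5 n51526 = n111765 := rfl
theorem F173449 : act 2 n111765 = n109224 := d2_1 D111765 (iv5 D109224) (iv2 F166446)
theorem F173450 : act 7 n111765 = n109227 := d13_2 (iv7 F166443) D111765 (iv5 D109227)
def n111766 : Q := act 6 n51526
theorem D111766 : act 6 n51526 = n111766 := rfl
theorem F173451 : act 2 n111766 = n109225 := d3_1 D111766 (iv6 D109225) (iv2 F166446)
def n111767 : Q := act 0 n51527
theorem D111767 : act 0 n51527 = n111767 := rfl
theorem F173452 : act 1 n108692 = n111767 := d15_0 (iv0 D111767) F81289 (iv2 F168628)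
def n111768 : Q := act 1 n51527
theorem D111768 : act 1 n51527 = n111768 := rfl
theorem F173453 : act 1 n111768 = n108692 := d15_1 D111768 (iv7 F172810) F172809
def n111769 : Q := act 4 n51527
theorem D111769 : act 4 n51527 = n111769 := rfl
theorem F173454 : act 7 n111769 = n109231 := d11_2 (iv7 F81289) D111769 (iv4 D109231)
def n111770 : Q := act 3 n51530
theorem D111770 : act 3 n51530 = n111770 := rfl
theorem F173455 : act 7 n111770 = n109232 := d8_2 F102459 D111770 (iv3 D109232)
def n111771 : Q := act 5 n51530
theorem D111771 : act 5 n51530 = n111771 := rfl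
theorem F173456 : act 2 n111771 = n109241 := d2_1 D111771 (iv5 D109241) F102474
theorem F173457 : act 7 n111771 = n109233 := d13_2 F102459 D111771 (iv5 D109233)
def n111772 : Q := act 6 n51530
theorem D111772 : act 6 n51530 = n111772 := rfl
theorem F173458 : act 2 n111772 = n109242 := d3_1 D111772 (iv6 D109242) F102474
theorem F173459 : act 4 n111772 = n51532 := d10_1 D111772 (iv6 D51532) D51530
def n111773 : Q := act 4 n51531
theorem D111773 : act 4 n51531 = n111773 := rfl
theorem F173460 : act 2 n111773 = n109243 := d1_1 D111773 (iv4 D109243) F102464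
theorem F173461 : act 7 n111773 = n109236 := d11_2 F102460 D111773 (iv4 D109236)
def n111774 : Q := act 5 n51534
theorem D111774 : act 5 n51534 = n111774 := rfl
theorem F173462 : act 3 n111774 = n51536 := d6_1 D111774 (iv5 D51536) D51534
theorem F173463 : act 7 n111774 = n109238 := d13_2 (iv7 F102481) D111774 (iv5 D109238)
theorem F173464 : act 6 n111774 = n64463 := d21_9 F168831 (iv1 F99475) F48783 (iv6 D25373) (iv1 F38459) D50244 F79608 (iv1 F161337) D111774 (iv1 F168834)
def n111775 : Q := act 6 n51534
theorem D111775 : act 6 n51534 = n111775 := rfl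
theorem F173465 : act 3 n111775 = n51537 := d7_1 D111775 (iv6 D51537) D51534
theorem F173466 : act 5 n111775 = n74464 := d21_6 (iv5 D12053) (iv1 F18911) D24500 D50244 (iv1 F161337) D111775 (iv1 F165262) (iv5 F79622) (iv6 D50249) (iv1 F38474)
theorem F173467 : act 0 n109914 = n111775 := d21_10 F173466 (iv1 F165262) (iv5 F79622) (iv6 D50249) (iv1 F38474) D25368 D52229 (iv1 F168393) F98912 D109914
def n111776 : Q := act 3 n51535
theorem D111776 : act 3 n51535 = n111776 := rfl
theorem F173468 : act 7 n111776 = n109240 := d8_2 (iv7 F102482) D111776 (iv3 D109240)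
def n111777 : Q := act 5 n51535
theorem D111777 : act 5 n51535 = n111777 := rfl
theorem F173469 : act 2 n111777 = n109233 := d2_1 D111777 (iv5 D109233) F102483
theorem F173470 : act 7 n111777 = n109241 := d13_2 (iv7 F102482) D111777 (iv5 D109241)
def n111778 : Q := act 6 n51535
theorem D111778 : act 6 n51535 = n111778 := rfl
theorem F173471 : act 2 n111778 = n109234 := d3_1 D111778 (iv6 D109234) F102483
theorem F173472 : act 4 n111778 = n51537 := d10_1 D111778 (iv6 D51537) D51535
def n111779 : Q := act 4 n51536
theorem D111779 : act 4 n51536 = n111779 := rfl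
theorem F173473 : act 2 n111779 = n109236 := d1_1 D111779 (iv4 D109236) (iv2 F102467)
theorem F173474 : act 6 n111779 = n111369 := d10_2 (iv6 F81296) D111779 (iv4 D111369)
theorem F173475 : act 7 n111779 = n109243 := d11_2 (iv7 F102466) D111779 (iv4 D109243)
def n111780 : Q := act 2 n51539
theorem D111780 : act 2 n51539 = n111780 := rfl
theorem F173476 : act 3 n111780 = n109514 := d0_2 D51539 D111780 (iv2 D109514) (iv3 D50524) (iv2 F39283)
theorem F173477 : act 4 n111780 = n68962 := d1_2 (iv4 F81302) D111780 F105143
theorem F173478 : act 5 n111780 = n68456 := d2_2 F81305 D111780 (iv2 F104653)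
theorem F173479 : act 7 n111780 = n59924 := d4_2 (iv7 F81303) D111780 (iv2 F94401)
theorem F173480 : act 1 n111780 = n59927 := d15_0 (iv0 F94412) (iv7 F81303) D111780
theorem F173481 : act 1 n59891 = n111780 := d15_0 F173480 (iv7 D59927) (iv2 F94365)
def n111781 : Q := act 6 n51539
theorem D111781 : act 6 n51539 = n111781 := rfl
theorem F173482 : act 3 n111781 = n51541 := d7_1 D111781 (iv6 D51541) D51539
theorem F173483 : act 4 n111781 = n69000 := d10_1 D111781 (iv6 D69000) (iv4 F81302)
theorem F173484 : act 7 n111781 = n109247 := d14_2 (iv7 F81303) D111781 (iv6 D109247) F79770 (iv6 F53378)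
def n111782 : Q := act 6 n51540
theorem D111782 : act 6 n51540 = n111782 := rfl
theorem F173485 : act 2 n111782 = n109517 := d3_1 D111782 (iv6 D109517) (iv2 F81314)
theorem F173486 : act 3 n111782 = n69032 := d7_1 D111782 (iv6 D69032) (iv3 F81315)
def n111783 : Q := act 0 n51541
theorem D111783 : act 0 n51541 = n111783 := rfl
theorem F173487 : act 4 n111783 = n58969 := d20_2 (iv4 F81318) D111783 (iv3 D58969) (iv1 D28024) F22239 (iv4 F22257) F80379 (iv4 D24739) D24738 (iv1 F161309)
theorem F173488 : act 1 n51636 = n111783 := d15_0 (iv0 D111783) F81319 (iv2 F81510)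
theorem F173489 : act 7 n109248 = n111783 := d11_0 F173487 (iv7 F166424) (iv4 F169205)
theorem F173490 : act 2 n111783 = n109249 := d15_3 F169207 F169206 F173489
def n111784 : Q := act 1 n51541
theorem D111784 : act 1 n51541 = n111784 := rfl
theorem F173491 : act 1 n111784 = n51636 := d15_1 D111784 F81512 (iv2 F81317)
theorem F173492 : act 7 n111784 = n109249 := d15_2 (iv0 D111783) D111784 (iv2 F173490)
theorem F173493 : act 4 n110338 = n111784 := d20_0 (iv1 D111784) F81318 (iv3 F79895) (iv1 F161339) (iv3 D50408) D50409 (iv1 F166161) F101577 (iv3 F101564) (iv1 F170579)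
theorem F173494 : act 2 n111784 = n109248 := d1_1 F173493 F169205 (iv2 F170581)
def n111785 : Q := act 5 n51541
theorem D111785 : act 5 n51541 = n111785 := rfl
theorem F173495 : act 2 n111785 = n109518 := d2_1 D111785 (iv5 D109518) (iv2 F81317)
theorem F173496 : act 7 n111785 = n109250 := d13_2 (iv7 F81319) D111785 (iv5 D109250)
def n111786 : Q := act 4 n51542
theorem D111786 : act 4 n51542 = n111786 := rfl
theorem F173497 : act 2 n111786 = n51912 := d1_1 D111786 (iv4 D51912) (iv2 F161311)
theorem F173498 : act 7 n111786 = n109251 := d11_2 (iv7 F161313) D111786 (iv4 D109251)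
theorem F173499 : act 0 n111786 = n51769 := d20_1 D111786 (iv4 F81955) F81954 D51922 (iv3 F166167) D110349 F170610 F93479 F79895 D51542
theorem F173500 : act 0 n51698 = n111786 := d20_1 F81959 (iv4 D111786) F161312 (iv1 F79772) (iv3 F76487) (iv4 F93082) (iv1 F93084) F161334 D59212 F172682
def n111787 : Q := act 6 n51542
theorem D111787 : act 6 n51542 = n111787 := rfl
theorem F173501 : act 2 n111787 = n51914 := d3_1 D111787 (iv6 D51914) (iv2 F161311)
theorem F173502 : act 3 n111787 = n109253 := d7_1 D111787 (iv6 D109253) (iv3 F161312)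
theorem F173503 : act 5 n111787 = n74198 := d12_1 D111787 (iv6 F169311) (iv5 D109294) D109295 F169317
theorem F173504 : act 7 n111787 = n74268 := d14_2 (iv7 F161313) D111787 F111155 F169217 (iv6 D109253)
theorem F173505 : act 0 n111787 = n51720 := d21_4 (iv5 F170555) (iv1 F170558) F169317 D111787 (iv6 D51720) D51719 F111165 (iv5 F161266) F81946 F169245
theorem F173506 : act 0 n51784 = n111787 := d21_4 (iv5 F23700) D29876 (iv5 F81336) D51784 (iv6 D111787) (iv5 F169317) F169316 (iv5 F81419) (iv6 D51586) (iv1 D25054)
def n111788 : Q := act 0 n51544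
theorem D111788 : act 0 n51544 = n111788 := rfl
theorem F173507 : act 1 n109521 = n111788 := d15_0 (iv0 D111788) F81323 D109521
def n111789 : Q := act 1 n51544
theorem D111789 : act 1 n51544 = n111789 := rfl
def n111790 : Q := act 2 n51544
theorem D111790 : act 2 n51544 = n111790 := rfl
theorem F173508 : act 3 n111790 = n51568 := d0_2 D51544 D111790 (iv2 D51568) (iv3 D25050) (iv2 F39288)
theorem F173509 : act 4 n111790 = n109256 := d1_2 (iv4 F81322) D111790 (iv2 D109256)
theorem F173510 : act 7 n111790 = n109521 := d4_2 (iv7 F81323) D111790 (iv2 D109521)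
theorem F173513 : act 1 n109520 = n111790 := d15_1 D109520 F173510 (iv2 D109521)
def n111791 : Q := act 6 n51544
theorem D111791 : act 6 n51544 = n111791 := rfl
theorem F173514 : act 3 n111791 = n51545 := d7_1 D111791 (iv6 D51545) D51544
theorem F173515 : act 4 n111791 = n109258 := d10_1 D111791 (iv6 D109258) (iv4 F81322)
def n111792 : Q := act 1 n51545
theorem D111792 : act 1 n51545 = n111792 := rfl
theorem F173516 : act 1 n111792 = n51577 := d15_1 D111792 (iv7 D51577) (iv2 F81324)
theorem F173517 : act 7 n111792 = n51574 := d15_2 (iv0 F170817) D111792 (iv2 F170813)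
theorem F173518 : act 2 n51575 = n111792 := d4_3 F173517 (iv2 F170813) F170815
def n111793 : Q := act 5 n51545
theorem D111793 : act 5 n51545 = n111793 := rfl
theorem F173519 : act 2 n111793 = n51576 := d2_1 D111793 (iv5 D51576) (iv2 F81324)
def n111794 : Q := act 7 n51545
theorem D111794 : act 7 n51545 = n111794 := rfl
theorem F173521 : act 4 n111794 = n51548 := d11_1 D111794 (iv7 D51548) (iv4 F81325)
theorem F173522 : act 6 n111794 = n109305 := d14_1 D111794 F169327 (iv6 D50529) (iv7 F39289) D51545
theorem F173523 : act 1 n51575 = n111794 := d15_1 D51575 (iv7 D111794) F81324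
def n111795 : Q := act 4 n51546
theorem D111795 : act 4 n51546 = n111795 := rfl
theorem F173525 : act 2 n111795 = n51580 := d1_1 D111795 (iv4 D51580) (iv2 F99974)
theorem F173526 : act 6 n111795 = n109264 := d10_2 (iv6 F81326) D111795 (iv4 D109264)
theorem F173527 : act 7 n111795 = n51584 := d11_2 (iv7 F99975) D111795 (iv4 D51584)
theorem F173528 : act 0 n64521 = n111795 := d20_7 (iv4 F171114) (iv1 F171116) (iv4 F168639) F164093 (iv1 D48679) (iv3 F76578) (iv4 F100455) (iv4 D111795) (iv3 F165634) (iv1 F92965)
def n111796 : Q := act 4 n51547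
theorem D111796 : act 4 n51547 = n111796 := rfl
theorem F173529 : act 2 n111796 = n51584 := d1_1 D111796 (iv4 D51584) (iv2 F99982)
theorem F173530 : act 7 n111796 = n51580 := d11_2 (iv7 F99983) D111796 (iv4 D51580)
theorem F173531 : act 0 n111796 = n64521 := d18_2 (iv1 F81329) D111796 F100455 F76579 (iv4 F48424) (iv0 F168171) (iv4 D63841) F48408 F48024
def n111797 : Q := act 3 n51549
theorem D111797 : act 3 n51549 = n111797 := rfl
theorem F173532 : act 4 n111797 = n106857 := d5_2 (iv4 F81340) D111797 (iv3 D106857) (iv4 D49373) (iv3 F76562)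
theorem F173533 : act 7 n111797 = n64516 := d8_2 (iv7 F81339) D111797 (iv3 D64516)
theorem F173534 : act 0 n111797 = n109621 := d20_4 (iv4 F40261) (iv1 F76565) (iv4 F81340) D111797 (iv3 D109621) (iv4 D50567) (iv1 D24632) (iv4 F38625) (iv3 D24624) D24622
def n111798 : Q := act 6 n51549
theorem D111798 : act 6 n51549 = n111798 := rfl
theorem F173535 : act 2 n111798 = n64521 := d3_1 D111798 (iv6 D64521) F81341
theorem F173536 : act 4 n111798 = n105279 := d10_1 D111798 (iv6 D105279) (iv4 F81340)
theorem F173537 : act 0 n51584 = n111798 := d18_2 (iv1 F81335) D51584 F173536 F161394 F93654 (iv0 F168432) (iv4 D63199) F48412 (iv5 F81333)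
theorem F173538 : act 1 n51580 = n111798 := d15_0 (iv0 F173537) (iv7 F173527) F173525
def n111799 : Q := act 1 n51550
theorem D111799 : act 1 n51550 = n111799 := rfl
theorem F173539 : act 1 n111799 = n109527 := d15_1 D111799 F169489 F94393
theorem F173540 : act 7 n111799 = n109526 := d15_2 F103944 D111799 (iv2 F169485)
theorem F173542 : act 4 n111799 = n68741 := d17_9 (iv1 F105337) (iv5 D69085) (iv1 D32143) D32145 (iv4 F94410) F94411 (iv0 F51115) F81344 D111799
theorem F173543 : act 2 n68457 = n111799 := d1_3 F173542 F105464 F105463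
def n111800 : Q := act 6 n51550
theorem D111800 : act 6 n51550 = n111800 := rfl
theorem F173544 : act 3 n111800 = n51552 := d7_1 D111800 (iv6 D51552) D51550
theorem F173545 : act 4 n111800 = n110625 := d10_1 D111800 (iv6 D110625) (iv4 F81342)
def n111801 : Q := act 6 n51551
theorem D111801 : act 6 n51551 = n111801 := rfl
theorem F173546 : act 2 n111801 = n64527 := d3_1 D111801 (iv6 D64527) (iv2 F81345)
theorem F173548 : act 4 n111801 = n69118 := d10_1 D111801 (iv6 D69118) (iv4 F81348)
def n111802 : Q := act 0 n51552
theorem D111802 : act 0 n51552 = n111802 := rfl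
theorem F173549 : act 4 n111802 = n107519 := d20_2 (iv4 F81350) D111802 (iv3 D107519) (iv1 F78468) F50044 (iv4 F50084) (iv1 F80367) F80368 (iv3 F161282) (iv1 D51554)
theorem F173550 : act 1 n64515 = n111802 := d18_6 (iv1 F100429) (iv4 F99487) F99488 F48797 (iv5 F48802) (iv4 F100441) F173549 F170729 F80296
def n111803 : Q := act 1 n51552
theorem D111803 : act 1 n51552 = n111803 := rfl
theorem F173551 : act 1 n111803 = n64515 := d15_1 D111803 (iv7 D64515) (iv2 F81349)
def n111804 : Q := act 5 n51552
theorem D111804 : act 5 n51552 = n111804 := rfl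
theorem F173552 : act 2 n111804 = n64514 := d2_1 D111804 (iv5 D64514) (iv2 F81349)
def n111805 : Q := act 7 n51552
theorem D111805 : act 7 n51552 = n111805 := rfl
theorem F173553 : act 2 n111805 = n64515 := d4_1 D111805 (iv7 D64515) (iv2 F81349)
theorem F173554 : act 4 n111805 = n51555 := d11_1 D111805 (iv7 D51555) (iv4 F81350)
theorem F173555 : act 6 n111805 = n51669 := d14_1 D111805 F81590 (iv6 D50532) (iv7 F39296) D51552
theorem F173556 : act 1 n64512 = n111805 := d15_1 D64512 (iv7 D111805) F81349
theorem F173557 : act 4 n64512 = n68187 := d20_2 (iv4 F173554) (iv1 F173556) (iv3 D68187) (iv1 D31743) F24593 D14951 (iv1 F80376) (iv4 D30930) F161302 (iv1 F81364)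
theorem F173558 : act 7 n111802 = n64512 := d11_0 F173557 F166488 (iv4 F173549)
theorem F173559 : act 1 n68187 = n110368 := d18_8 (iv1 F93928) (iv4 F99495) (iv1 D30363) F24064 D14415 D30371 D64512 F173557 F170721
theorem F173560 : act 1 n105280 = n68187 := d15_0 F173559 (iv7 D110368) (iv2 F161395)
theorem F173561 : act 2 n64512 = n111803 := d15_3 F173551 F173550 F173558
theorem F173562 : act 2 n111802 = n64511 := d15_3 (iv0 D64511) D64512 (iv7 F173558)
theorem F173563 : act 7 n64511 = n111803 := d4_2 (iv7 F173558) F173562 (iv2 F173561)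
theorem F173564 : act 1 n111805 = n64511 := d15_1 F173556 F173563 (iv2 F173561)
theorem F173565 : act 4 n111803 = n110367 := d1_2 (iv4 F173557) F173561 F173023
theorem E17346 : n109312 = n109293 := (c20_8 (iv4 F100441) (iv1 F173551) F173565 (iv3 F173015) (iv1 D65902) (iv3 F101586) F101587 D109312 (iv4 D109293) (iv3 F161371) (iv1 F81356))
theorem F173566 : act 1 n109293 = n50445 := (sb E17346 (iv0 D109312))
def n111806 : Q := act 4 n51553
theorem D111806 : act 4 n51553 = n111806 := rfl
theorem F173567 : act 2 n111806 = n64507 := d1_1 D111806 (iv4 D64507) (iv2 F99915)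
theorem F173568 : act 7 n111806 = n64510 := d11_2 (iv7 F99914) D111806 (iv4 D64510)
theorem F173569 : act 0 n111806 = n109545 := d17_0 F169730 (iv1 D109745) (iv5 D50612) F38650 D24654 F38655 (iv5 F48802) F81356 D111806
def n111807 : Q := act 5 n51553
theorem D111807 : act 5 n51553 = n111807 := rfl
theorem F173570 : act 2 n111807 = n64175 := d2_1 D111807 F99890 (iv2 F99915)
theorem F173571 : act 3 n111807 = n109294 := d6_1 D111807 (iv5 D109294) (iv3 F161371)
theorem F173572 : act 6 n111807 = n63900 := d12_2 F169213 D111807 (iv5 F169215) (iv6 D109253) D109252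
theorem F173573 : act 7 n111807 = n63998 := d13_2 (iv7 F99914) D111807 F99575
theorem F173574 : act 0 n111807 = n64692 := d21_1 D111807 (iv5 F100573) F83964 (iv1 D24681) (iv6 D11686) (iv5 F10367) (iv1 F22471) (iv5 F22574) D25044 D51553
theorem F173575 : act 0 n64060 = n111807 := d21_10 (iv5 D111807) (iv1 F81356) F48802 (iv6 F48495) (iv1 F48497) D30330 (iv5 F99825) F99827 (iv5 D64059) D64060
def n111808 : Q := act 4 n51554
theorem D111808 : act 4 n51554 = n111808 := rfl
theorem F173576 : act 2 n111808 = n64510 := d1_1 D111808 (iv4 D64510) F99894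
theorem F173577 : act 6 n111808 = n66174 := d10_2 (iv6 F161283) D111808 (iv4 D66174)
theorem F173578 : act 7 n111808 = n64507 := d11_2 F99891 D111808 (iv4 D64507)
theorem F173579 : act 0 n111808 = n51563 := d18_2 (iv1 F81351) D111808 (iv4 F161397) F161398 (iv4 F168839) (iv0 F168840) (iv4 D50623) F38655 (iv5 F48802)
theorem F173580 : act 0 n109545 = n111808 := d20_7 (iv4 F39339) (iv1 F78687) (iv4 D31780) D31779 F166176 (iv3 F170719) F170720 (iv4 D111808) F161282 (iv1 D25063)
theorem F173581 : act 1 n111806 = n51563 := d15_0 (iv0 F173579) F173578 (iv2 F173567)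
def n111809 : Q := act 3 n51556
theorem D111809 : act 3 n51556 = n111809 := rfl
theorem F173582 : act 4 n111809 = n51557 := d5_2 D51556 D111809 (iv3 D51557) (iv4 D25046) D25045
theorem F173583 : act 7 n111809 = n58809 := d8_2 (iv7 F81366) D111809 (iv3 D58809)
def n111810 : Q := act 0 n51557
theorem D111810 : act 0 n51557 = n111810 := rfl
theorem F173584 : act 1 n64524 = n111810 := d15_0 (iv0 D111810) F81369 D64524
def n111811 : Q := act 1 n51557
theorem D111811 : act 1 n51557 = n111811 := rfl
theorem F173585 : act 3 n109606 = n111811 := d20_3 (iv4 F170381) (iv1 F171277) (iv4 F171279) (iv1 D111811) (iv3 D51557) (iv4 D25046) (iv1 D11898) D11899 D25050 D51566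
def n111812 : Q := act 2 n51557
theorem D111812 : act 2 n51557 = n111812 := rfl
theorem F173586 : act 3 n111812 = n109527 := d0_2 D51557 D111812 (iv2 D109527) (iv3 D50530) (iv2 F39306)
theorem F173587 : act 7 n111812 = n64524 := d4_2 (iv7 F81369) D111812 (iv2 D64524)
theorem F173588 : act 1 n111812 = n64522 := d15_0 (iv0 D64522) (iv7 F81369) D111812
theorem F173589 : act 1 n111811 = n64524 := d15_1 D111811 (iv7 F173587) (iv2 D111812)
theorem F173590 : act 1 n64523 = n111812 := d15_1 D64523 F173587 (iv2 D64524)
def n111813 : Q := act 5 n51557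
theorem D111813 : act 5 n51557 = n111813 := rfl
theorem F173591 : act 3 n111813 = n51558 := d6_1 D111813 (iv5 D51558) D51557
theorem F173592 : act 7 n111813 = n64525 := d13_2 (iv7 F81369) D111813 (iv5 D64525)
def n111814 : Q := act 6 n51557
theorem D111814 : act 6 n51557 = n111814 := rfl
theorem F173593 : act 3 n111814 = n51559 := d7_1 D111814 (iv6 D51559) D51557
def n111815 : Q := act 6 n51558
theorem D111815 : act 6 n51558 = n111815 := rfl
def n111816 : Q := act 0 n51559
theorem D111816 : act 0 n51559 = n111816 := rfl
theorem F173595 : act 4 n111816 = n58839 := d18_3 (iv1 D51560) (iv4 F81373) D111816 (iv5 F168651) F168650 (iv0 F169650) (iv4 D65550) F84039 F84038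
theorem F173596 : act 6 n111816 = n51641 := d21_5 D74174 F110926 (iv5 D51558) D51559 D111816 (iv5 F99668) (iv1 D64072) (iv5 D30200) (iv6 F26001) D34028
theorem F173597 : act 2 n58843 = n111816 := d3_3 F173596 (iv2 F81530) D58843
theorem F173598 : act 7 n109530 = n111816 := d15_2 (iv0 F93041) D109530 (iv2 F173597)
theorem F173599 : act 0 n111816 = n51669 := d20_1 (iv4 F173595) (iv4 D51669) D51668 (iv1 F81585) F79633 (iv4 F79650) (iv1 F98655) F81102 (iv3 F82841) F93026
def n111817 : Q := act 1 n51559
theorem D111817 : act 1 n51559 = n111817 := rfl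
theorem F173600 : act 1 n111817 = n51669 := d15_1 D111817 F81590 (iv2 F81372)
theorem F173601 : act 7 n111817 = n58843 := d15_2 (iv0 D111816) D111817 F173597
theorem F173602 : act 4 n58845 = n111817 := d20_0 (iv1 D111817) F81373 (iv3 F40188) (iv1 D25406) (iv3 F40181) (iv4 F82675) F93076 (iv4 D51027) D51026 (iv1 F93047)
theorem F173603 : act 2 n109530 = n111817 := d4_3 F173601 F173597 (iv7 F173598)
def n111818 : Q := act 5 n51559
theorem D111818 : act 5 n51559 = n111818 := rfl
def n111819 : Q := act 7 n51559
theorem D111819 : act 7 n51559 = n111819 := rfl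
theorem F173605 : act 2 n111819 = n51669 := d4_1 D111819 F81590 (iv2 F81372)
theorem F173606 : act 4 n111819 = n51561 := d11_1 D111819 (iv7 D51561) (iv4 F81373)
theorem F173607 : act 6 n111819 = n64515 := d14_1 D111819 (iv7 D64515) F48801 (iv7 F39307) D51559
theorem F173608 : act 1 n109530 = n111819 := d15_1 D109530 (iv7 D111819) F81372
theorem F173609 : act 1 n111819 = n58843 := d15_1 F173608 (iv7 F173601) (iv2 F173603)
def n111820 : Q := act 4 n51560
theorem D111820 : act 4 n51560 = n111820 := rfl
theorem F173610 : act 2 n111820 = n51667 := d1_1 D111820 F81581 F81376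
theorem F173611 : act 6 n111820 = n109263 := d10_2 F81378 D111820 F169232
theorem F173612 : act 7 n111820 = n51639 := d11_2 (iv7 F81375) D111820 F81521
theorem F173613 : act 0 n111820 = n51565 := d20_7 (iv4 F80439) F169526 (iv4 D109578) (iv3 D50553) (iv1 F79815) F81377 D111820 (iv4 F82210) F82209 F39841
theorem F173614 : act 0 n51664 = n111820 := d20_1 (iv4 F101545) (iv4 D111820) (iv3 F81377) (iv1 D50441) (iv3 F76498) (iv4 F93073) (iv1 D58857) F45252 (iv3 F45238) D58844
def n111821 : Q := act 0 n51562
theorem D111821 : act 0 n51562 = n111821 := rfl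
theorem F173615 : act 1 n109534 = n111821 := d15_0 (iv0 D111821) F81384 D109534
def n111822 : Q := act 1 n51562
theorem D111822 : act 1 n51562 = n111822 := rfl
def n111823 : Q := act 2 n51562
theorem D111823 : act 2 n51562 = n111823 := rfl
theorem F173616 : act 3 n111823 = n109541 := d0_2 D51562 D111823 (iv2 D109541) (iv3 D50537) F39833
theorem F173617 : act 7 n111823 = n109534 := d4_2 (iv7 F81384) D111823 (iv2 D109534)
theorem F173618 : act 1 n111823 = n109532 := d15_0 (iv0 D109532) (iv7 F81384) D111823
theorem F173619 : act 1 n111822 = n109534 := d15_1 D111822 (iv7 F173617) (iv2 D111823)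
theorem F173620 : act 1 n109533 = n111823 := d15_1 D109533 F173617 (iv2 D109534)
def n111824 : Q := act 6 n51562
theorem D111824 : act 6 n51562 = n111824 := rfl
theorem F173621 : act 3 n111824 = n51563 := d7_1 D111824 (iv6 D51563) D51562
def n111825 : Q := act 7 n51563
theorem D111825 : act 7 n51563 = n111825 := rfl
theorem F173622 : act 2 n111825 = n109545 := d4_1 D111825 (iv7 D109545) (iv2 F81385)
theorem F173623 : act 6 n111825 = n51664 := d14_1 D111825 (iv7 F101546) (iv6 D50536) F39835 D51563
theorem F173624 : act 1 n64510 = n111825 := d15_1 (iv0 F100439) (iv7 D111825) F81385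
theorem F173625 : act 1 n111825 = n64507 := d15_1 F173624 (iv7 F173578) F173576
def n111826 : Q := act 0 n51564
theorem D111826 : act 0 n51564 = n111826 := rfl
theorem F173626 : act 1 n109541 = n111826 := d15_0 (iv0 D111826) F81386 D109541
def n111827 : Q := act 1 n51564
theorem D111827 : act 1 n51564 = n111827 := rfl
def n111828 : Q := act 2 n51564
theorem D111828 : act 2 n51564 = n111828 := rfl
theorem F173627 : act 3 n111828 = n109534 := d0_2 D51564 D111828 (iv2 D109534) (iv3 D50534) (iv2 F39834)
theorem F173628 : act 5 n111828 = n59958 := d2_2 (iv5 F162356) D111828 (iv2 F162336)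
theorem F173629 : act 7 n111828 = n109541 := d4_2 (iv7 F81386) D111828 (iv2 D109541)
theorem F173630 : act 1 n111828 = n109539 := d15_0 (iv0 D109539) (iv7 F81386) D111828
theorem F173631 : act 1 n111827 = n109541 := d15_1 D111827 (iv7 F173629) (iv2 D111828)
theorem F173632 : act 1 n109540 = n111828 := d15_1 D109540 F173629 (iv2 D109541)
def n111829 : Q := act 6 n51564
theorem D111829 : act 6 n51564 = n111829 := rfl
theorem F173633 : act 3 n111829 = n51565 := d7_1 D111829 (iv6 D51565) D51564
def n111830 : Q := act 5 n51565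
theorem D111830 : act 5 n51565 = n111830 := rfl
theorem F173634 : act 2 n111830 = n109538 := d2_1 D111830 (iv5 D109538) (iv2 F81387)
def n111831 : Q := act 3 n51566
theorem D111831 : act 3 n51566 = n111831 := rfl
theorem F173635 : act 7 n111831 = n109547 := d8_2 (iv7 F171324) D111831 (iv3 D109547)
theorem F173636 : act 4 n111831 = n52475 := d20_6 (iv4 D25046) (iv1 D11898) D11899 D25050 D51566 D111831 (iv1 D52475) (iv4 F82844) (iv3 D52469) F40263
theorem F173637 : act 7 n52475 = n105285 := d11_2 (iv7 F173635) F173636 (iv4 F169501)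
theorem F173638 : act 2 n105285 = n52474 := d15_3 (iv0 D52474) D52475 F173637
theorem F173639 : act 2 n52475 = n105284 := d15_3 (iv0 D105284) D105285 (iv7 F173637)
theorem F173640 : act 7 n105284 = n52474 := d4_2 (iv7 F173637) F173639 (iv2 F173638)
def n111832 : Q := act 6 n51566
theorem D111832 : act 6 n51566 = n111832 := rfl
theorem F173641 : act 2 n111832 = n109552 := d3_1 D111832 (iv6 D109552) (iv2 F171322)
def n111833 : Q := act 3 n51567
theorem D111833 : act 3 n51567 = n111833 := rfl
theorem F173642 : act 4 n111833 = n69082 := d5_2 F81389 D111833 F171341 (iv4 D51030) D51029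
theorem F173643 : act 5 n111833 = n59887 := d6_2 (iv5 F171334) D111833 F169891
theorem F173644 : act 7 n111833 = n59900 := d8_2 (iv7 F171335) D111833 F105467
theorem F173645 : act 2 n111833 = n59909 := d16_9 F94389 (iv5 D32175) D32174 F51134 F41183 F50824 D28451 D59900 (iv7 F173644)
def n111834 : Q := act 6 n51567
theorem D111834 : act 6 n51567 = n111834 := rfl
theorem F173647 : act 4 n111834 = n110672 := d10_1 D111834 (iv6 D110672) F81389
def n111835 : Q := act 5 n51568
theorem D111835 : act 5 n51568 = n111835 := rfl
theorem F173648 : act 2 n111835 = n51569 := d2_1 D111835 (iv5 D51569) D51568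
theorem F173649 : act 7 n111835 = n109553 := d13_2 (iv7 F81391) D111835 (iv5 D109553)
theorem F173650 : act 0 n111835 = n109556 := d17_2 (iv1 F81392) D111835 F169506 (iv4 F81843) (iv5 F81880) (iv0 F170200) D110203 F170377 (iv4 D109548)
theorem F173651 : act 1 n111835 = n109555 := d17_6 D24683 F81877 (iv1 F39565) F39563 (iv4 F81390) D111835 F169510 (iv0 D50675) F38673
def n111836 : Q := act 6 n51568
theorem D111836 : act 6 n51568 = n111836 := rfl
def n111837 : Q := act 0 n51569
theorem D111837 : act 0 n51569 = n111837 := rfl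
theorem F173654 : act 5 n111837 = n51700 := d17_3 (iv1 D51567) D51569 D111837 (iv4 F170364) (iv5 D110200) (iv0 D50813) D50817 F171276 F81389
theorem F173655 : act 2 n109556 = n111837 := d15_3 (iv0 D111837) (iv0 F94317) (iv7 F169508)
theorem F173656 : act 1 n109553 = n111837 := d15_0 (iv0 D111837) F81396 (iv2 F169503)
theorem F173657 : act 7 n111837 = n109555 := d15_2 (iv0 F171278) F173656 (iv2 F169509)
def n111838 : Q := act 4 n51569
theorem D111838 : act 4 n51569 = n111838 := rfl
theorem F173658 : act 7 n111838 = n109557 := d11_2 (iv7 F81396) D111838 (iv4 D109557)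
def n111839 : Q := act 6 n51569
theorem D111839 : act 6 n51569 = n111839 := rfl
theorem F173659 : act 3 n111839 = n51573 := d7_1 D111839 (iv6 D51573) (iv3 F81395)
def n111844 : Q := act 3 n51571
theorem D111844 : act 3 n51571 = n111844 := rfl
theorem F173664 : act 5 n111844 = n51697 := d6_2 (iv5 F81399) D111844 (iv3 D51697)
theorem F173665 : act 7 n111844 = n109563 := d8_2 F81403 D111844 (iv3 D109563)
def n111845 : Q := act 6 n51571
theorem D111845 : act 6 n51571 = n111845 := rfl
theorem F173666 : act 2 n111845 = n109565 := d3_1 D111845 (iv6 D109565) F81402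
theorem F173667 : act 4 n111845 = n108020 := d10_1 D111845 (iv6 D108020) (iv4 F81401)
def n111846 : Q := act 3 n51572
theorem D111846 : act 3 n51572 = n111846 := rfl
theorem F173668 : act 5 n111846 = n51699 := d6_2 (iv5 F81406) D111846 (iv3 D51699)
theorem F173669 : act 7 n111846 = n105697 := d8_2 (iv7 F81405) D111846 F162316
theorem F173670 : act 4 n66301 = n111846 := d19_2 D30972 D66301 (iv3 D111846) (iv1 D51572) (iv5 D25051) (iv4 D11899) F8502 D5582 F8505 F5144 (iv3 F7625) F10212 (iv5 D2155) D2154 (iv3 F9952) (iv1 F4922) (iv5 F7604) (iv4 F11264) D14660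
theorem E17347 : n66397 = n66301 := (c20_8 (iv4 F80436) (iv1 F82049) F82053 F81315 F51065 (iv3 F102290) (iv4 D66400) D66397 F173670 (iv3 D111846) (iv1 D51572))
theorem F173671 : act 0 n66301 = n65633 := (sb E17347 (iv1 F102283))
theorem F173672 : act 1 n66301 = n31000 := (sb E17347 (iv0 D66397))
theorem E17348 : n105699 = n66301 := (c11_1 D105699 F173670 F173669 (iv4 D105697))
theorem F173673 : act 2 n66301 = n48869 := (sb E17348 F162324)
theorem E17349 : n48866 = n30972 := ((((iv5 D66301)).symm.trans (sb E17348 F162325))).symm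
theorem F173674 : act 7 n66301 = n48864 := (sb E17348 (iv7 D105699))
theorem E17350 : n105680 = n23827 := ((((iv1 F49398)).symm.trans (sb E17349 (iv1 F162298)))).symm
theorem E17352 : n66299 = n23826 := ((D66299).symm.trans (sb E17349 F76978))
theorem E17353 : n105689 = n53334 := ((((iv3 F84175)).symm.trans (sb E17349 (iv3 F162307)))).symm
theorem E17354 : n105694 = n66300 := (((D66300).symm.trans (sb E17349 (iv4 F162311)))).symm
theorem E17355 : n105704 = n66302 := (((D66302).symm.trans (sb E17349 D105704))).symm
theorem E17356 : n66303 = n23825 := ((D66303).symm.trans (sb E17349 (iv7 D48866)))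
theorem E17357 : n48861 = n30973 := ((((iv1 F49403)).symm.trans (sb E17350 (iv1 D105680)))).symm
theorem F173675 : act 2 n23826 = n30972 := (sb E17352 (iv2 D66299))
theorem F173676 : act 7 n53334 = n48862 := (sb E17353 (iv7 D105689))
theorem F173677 : act 2 n66300 = n48868 := (sb E17354 F162310)
theorem F173678 : act 7 n66300 = n48863 := (sb E17354 (iv7 D105694))
theorem F173679 : act 2 n66302 = n48870 := (sb E17355 F162326)
theorem F173680 : act 7 n23825 = n30972 := (sb E17356 (iv7 D66303))
theorem F173681 : act 2 n30973 = n23825 := (sb E17357 (iv2 D48861))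
theorem E17358 : n105681 = n66304 := (((D66304).symm.trans (sb E17357 D105681))).symm
theorem E17359 : n105682 = n66305 := (((D66305).symm.trans (sb E17357 D105682))).symm
theorem E17360 : n105683 = n66306 := (((D66306).symm.trans (sb E17357 D105683))).symm
theorem E17361 : n105684 = n66307 := (((D66307).symm.trans (sb E17357 D105684))).symm
theorem F173682 : act 7 n30973 = n23826 := (sb E17357 (iv7 F76977))
theorem F173683 : act 7 n66304 = n48867 := (sb E17358 F162299)
theorem F173684 : act 2 n66305 = n48863 := (sb E17359 F162300)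
theorem F173685 : act 7 n66305 = n48868 := (sb E17359 F162301)
theorem F173686 : act 2 n66306 = n48864 := (sb E17360 F162302)
theorem F173687 : act 7 n66306 = n48869 := (sb E17360 F162303)
theorem F173688 : act 2 n66307 = n48865 := (sb E17361 F162304)
theorem F173689 : act 2 n105711 = n111846 := d1_3 (iv4 F173670) F173673 D105711
theorem E17362 : n66398 = n66306 := (c15_2 F173672 D66398 F173687 (iv2 F173673))
theorem F173690 : act 0 n66306 = n31000 := (sb E17362 (iv1 D66398))
theorem F173691 : act 1 n66306 = n65633 := (sb E17362 F102288)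
theorem F173692 : act 1 n67679 = n67034 := d17_6 (iv1 F49403) D66306 F173690 F49420 (iv4 F49726) D67679 (iv5 D67034) (iv0 F76906) F76905
theorem F173693 : act 6 n67700 = n107978 := d21_5 D66306 F173690 F49420 D31441 D67700 (iv5 D107978) (iv1 F79088) (iv5 D50000) F38218 (iv1 F49403)
theorem E17363 : n53337 = n53327 := (c11_2 F173676 F84177 (iv7 F84173) D53334)
theorem F173694 : act 0 n53327 = n25851 := (sb E17363 (iv1 F84176))
theorem F173695 : act 1 n53327 = n25849 := (sb E17363 (iv0 D53337))
theorem F173696 : act 4 n53327 = n48862 := (sb E17363 (iv4 F84177))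
theorem E17364 : n105686 = n53329 := (c1_2 F173696 D105686 (iv4 D53329) D53327)
theorem F173697 : act 2 n53329 = n48862 := (sb E17364 (iv2 D105686))
theorem E17365 : n66345 = n53334 := (c15_2 (iv0 F102252) D66345 F173676 (iv2 F173697))
theorem F173698 : act 0 n53334 = n30986 := (sb E17365 (iv1 D66345))
theorem E17366 : n53338 = n53332 := (c15_2 F173695 D53338 (iv7 D53332) D53327)
theorem F173699 : act 0 n53332 = n25849 := (sb E17366 (iv1 D53338))
theorem F173700 : act 1 n53332 = n25851 := (sb E17366 F84178)
def n111847 : Q := act 6 n51572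
theorem D111847 : act 6 n51572 = n111847 := rfl
theorem F173701 : act 2 n111847 = n109564 := d3_1 D111847 (iv6 D109564) F81407
theorem F173702 : act 5 n111847 = n109345 := d12_1 D111847 (iv6 D109345) F79829 (iv6 F39473) (iv5 F81406)
def n111848 : Q := act 0 n51573
theorem D111848 : act 0 n51573 = n111848 := rfl
def n111849 : Q := act 1 n51573
theorem D111849 : act 1 n51573 = n111849 := rfl
def n111850 : Q := act 5 n51573
theorem D111850 : act 5 n51573 = n111850 := rfl
theorem F173703 : act 6 n111850 = n51576 := d12_2 D51573 D111850 (iv5 D51576) (iv6 D25052) D25051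
def n111851 : Q := act 7 n51573
theorem D111851 : act 7 n51573 = n111851 := rfl
theorem F173704 : act 6 n111851 = n109571 := d14_1 D111851 (iv7 D109571) (iv6 D50548) (iv7 F39314) D51573
def n111852 : Q := act 3 n51574
theorem D111852 : act 3 n51574 = n111852 := rfl
theorem F173705 : act 6 n111852 = n109351 := d7_2 (iv6 F169860) D111852 (iv3 D109351)
def n111853 : Q := act 5 n51574
theorem D111853 : act 5 n51574 = n111853 := rfl
def n111854 : Q := act 3 n51575
theorem D111854 : act 3 n51575 = n111854 := rfl
def n111855 : Q := act 5 n51575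
theorem D111855 : act 5 n51575 = n111855 := rfl
def n111856 : Q := act 6 n51575
theorem D111856 : act 6 n51575 = n111856 := rfl
theorem F173706 : act 7 n111856 = n109359 := d14_2 F170815 D111856 (iv6 D109359) (iv7 F170662) (iv6 F170814)
def n111857 : Q := act 0 n51576
theorem D111857 : act 0 n51576 = n111857 := rfl
def n111858 : Q := act 1 n51576
theorem D111858 : act 1 n51576 = n111858 := rfl
def n111859 : Q := act 4 n51576
theorem D111859 : act 4 n51576 = n111859 := rfl
def n111861 : Q := act 4 n51579
theorem D111861 : act 4 n51579 = n111861 := rfl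
theorem F173708 : act 2 n111861 = n51953 := d1_1 D111861 F172575 (iv2 F172572)
theorem F173709 : act 6 n111861 = n109364 := d10_2 (iv6 F81412) D111861 (iv4 D109364)
theorem F173710 : act 7 n111861 = n51954 := d11_2 F172579 D111861 (iv4 F172583)
theorem F173711 : act 0 n111861 = n51956 := d20_1 D111861 F82055 F39696 (iv1 F19760) D24793 D50984 F164129 F76503 (iv3 F76495) (iv1 F163883)
theorem F173712 : act 0 n51925 = n111861 := d20_1 (iv4 F81975) (iv4 D111861) (iv3 D51579) (iv1 F81337) F81332 (iv4 F169232) (iv1 F169234) D109357 (iv3 F169364) (iv1 D51927)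
def n111862 : Q := act 0 n51580
theorem D111862 : act 0 n51580 = n111862 := rfl
theorem F173713 : act 4 n111862 = n105283 := d18_3 D25053 D51580 D111862 F161400 (iv4 F99325) (iv0 F168418) (iv4 D63195) (iv0 D29876) F23700
theorem F173714 : act 1 n51584 = n111862 := d15_0 (iv0 D111862) (iv7 F173530) F173529
theorem F173715 : act 7 n111862 = n64521 := d15_2 (iv0 F173537) F173714 (iv2 F173535)
theorem F173716 : act 6 n109302 = n111862 := d14_5 F173715 (iv6 D64521) F48807 D52471 (iv7 F169321)
def n111863 : Q := act 3 n51580
theorem D111863 : act 3 n51580 = n111863 := rfl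
theorem F173717 : act 6 n111863 = n109366 := d7_2 (iv6 F81413) D111863 (iv3 D109366)
def n111864 : Q := act 5 n51580
theorem D111864 : act 5 n51580 = n111864 := rfl
def n111865 : Q := act 4 n51581
theorem D111865 : act 4 n51581 = n111865 := rfl
theorem F173718 : act 2 n111865 = n61329 := d1_1 D111865 (iv4 D61329) (iv2 F99980)
theorem F173719 : act 7 n111865 = n61326 := d11_2 (iv7 F99981) D111865 (iv4 D61326)
def n111866 : Q := act 6 n51581
theorem D111866 : act 6 n51581 = n111866 := rfl
theorem F173720 : act 2 n111866 = n61330 := d3_1 D111866 (iv6 D61330) (iv2 F99980)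
theorem F173721 : act 5 n111866 = n63731 := d12_1 D111866 (iv6 D63731) (iv5 F48333) (iv6 F48334) D51581
theorem F173722 : act 7 n111866 = n63731 := d14_2 (iv7 F99981) D111866 (iv6 D63731) (iv7 F99973) (iv6 F79781)
theorem F173723 : act 0 n111866 = n63892 := d21_10 (iv5 D63892) (iv1 D30135) F23890 (iv6 D14303) (iv1 F22540) D14192 F23700 D25053 D51581 D111866
theorem F173724 : act 0 n63682 = n111866 := d21_4 D63554 (iv1 F99784) (iv5 F101980) (iv6 F99009) (iv6 D111866) (iv5 D51581) (iv1 F81337) F81333 F48410 (iv1 F48349)
def n111867 : Q := act 4 n51583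
theorem D111867 : act 4 n51583 = n111867 := rfl
theorem F173725 : act 2 n111867 = n58823 := d1_1 D111867 F172621 (iv2 F165654)
theorem F173726 : act 7 n111867 = n58822 := d11_2 (iv7 F165652) D111867 F165632
theorem F173727 : act 1 n111867 = n58825 := d18_6 (iv1 D29315) (iv4 F46962) D61865 F165575 (iv5 F165579) D111867 F93000 F164078 F164065
theorem F173728 : act 0 n111867 = n58767 := d20_1 D111867 F92887 (iv3 F92874) (iv1 F170674) F169361 (iv4 F170696) (iv1 F168445) F79578 (iv3 F79543) (iv1 F165578)
theorem F173729 : act 4 n52358 = n60618 := d18_1 (iv1 F99172) (iv1 D60618) F46419 (iv5 F45153) (iv4 F92887) (iv0 F173728) (iv4 D111867) F165578 (iv5 F99170)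
theorem F173730 : act 6 n60618 = n61915 := d10_2 (iv6 F82735) F173729 F165525
theorem F173731 : act 3 n60608 = n110803 := d20_5 F173729 (iv1 D60618) F46419 (iv3 F46418) D60608 F171562 (iv1 F168750) F168744 (iv3 F99168) (iv1 F99172)
theorem F173732 : act 5 n59151 = n60608 := d6_0 F173731 (iv5 F173118) (iv3 F173120)
theorem F173733 : act 4 n63572 = n60608 := d20_2 (iv4 F48231) D63572 F173731 (iv1 F171566) F164170 (iv4 F164190) (iv1 F164193) F165593 (iv3 F168184) (iv1 D30020)
theorem E17367 : n109904 = n109360 := ((c17_3 (iv1 D50458) D50459 D109360 (iv5 D109904) F169876 F173732 (iv0 D60608) (iv5 F92875) (iv0 F169871) (iv4 D109357))).symm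
theorem F173734 : act 5 n109360 = n50684 := (sb E17367 (iv5 D109904))
def n111868 : Q := act 6 n51583
theorem D111868 : act 6 n51583 = n111868 := rfl
theorem F173735 : act 2 n111868 = n108704 := d3_1 D111868 (iv6 D108704) (iv2 F165654)
theorem F173736 : act 3 n111868 = n51586 := d7_1 D111868 (iv6 D51586) D51583
theorem F173737 : act 5 n111868 = n105199 := d12_1 D111868 (iv6 D105199) (iv5 F98280) F98279 (iv5 F165579)
theorem F173738 : act 7 n111868 = n105199 := d14_2 (iv7 F165652) D111868 (iv6 D105199) F165644 F79541
theorem F173739 : act 0 n111868 = n52418 := d21_10 (iv5 D52418) (iv1 D25439) F20005 (iv6 D12092) (iv1 F18008) D23722 (iv5 F37628) D49283 (iv5 F165579) D111868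
theorem F173740 : act 1 n111868 = n52413 := d15_1 (iv0 F173739) F161353 F161345
def n111869 : Q := act 3 n51584
theorem D111869 : act 3 n51584 = n111869 := rfl
def n111870 : Q := act 5 n51584
theorem D111870 : act 5 n51584 = n111870 := rfl
def n111871 : Q := act 6 n51584
theorem D111871 : act 6 n51584 = n111871 := rfl
theorem F173741 : act 4 n111871 = n51586 := d10_1 D111871 (iv6 D51586) D51584
theorem F173742 : act 7 n111871 = n109370 := d14_2 F173527 D111871 (iv6 D109370) (iv7 F169238) (iv6 F173526)
def n111872 : Q := act 4 n51585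
theorem D111872 : act 4 n51585 = n111872 := rfl
theorem F173743 : act 2 n111872 = n61326 := d1_1 D111872 (iv4 D61326) (iv2 F99976)
theorem F173744 : act 6 n111872 = n63727 := d10_2 F81418 D111872 (iv4 D63727)
theorem F173745 : act 7 n111872 = n61329 := d11_2 (iv7 F99977) D111872 (iv4 D61329)
def n111873 : Q := act 0 n51587
theorem D111873 : act 0 n51587 = n111873 := rfl
theorem F173746 : act 5 n111873 = n109156 := d17_1 D111873 (iv1 D109156) (iv5 D50382) F38547 D24729 F38701 D25179 (iv0 F170928) (iv4 F81421)
theorem F173747 : act 4 n111873 = n109616 := d18_3 (iv1 F170929) (iv4 F81421) D111873 F173312 (iv4 D51502) (iv0 D25026) F19568 D11951 D25184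
theorem F173748 : act 1 n108733 = n111873 := d15_0 (iv0 D111873) F81422 D108733
theorem F173749 : act 2 n108732 = n111873 := d1_3 F173747 (iv2 F173311) (iv4 F170951)
theorem E17368 : n109164 = n109156 := ((c2_3 (iv5 F170952) F173749 F173746 F169150)).symm
theorem F173750 : act 2 n109156 = n50384 := (sb E17368 F169150)
theorem F173751 : act 7 n109156 = n50383 := (sb E17368 (iv7 D109164))
theorem F173752 : act 7 n108731 = n111873 := d13_2 F173751 (iv5 F170055) F173746
theorem E17369 : n109159 = n109155 := (c15_4 (iv0 D109155) D109156 F173751 D109159)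
theorem F173753 : act 2 n109155 = n50383 := (sb E17369 (iv2 D109159))
theorem F173754 : act 7 n109155 = n50384 := (sb E17369 (iv7 F169149))
def n111874 : Q := act 1 n51587
theorem D111874 : act 1 n51587 = n111874 := rfl
theorem F173756 : act 4 n111874 = n109389 := d17_9 F172847 F105472 F173313 (iv5 D109119) (iv4 D50372) D50373 (iv0 F169607) F169067 D111874
theorem F173757 : act 5 n109155 = n111874 := d17_3 F169976 D50382 D109155 F173756 (iv5 F170860) F173261 F173256 (iv0 F169969) F169114
def n111875 : Q := act 2 n51587
theorem D111875 : act 2 n51587 = n111875 := rfl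
theorem F173760 : act 3 n111875 = n108720 := d0_2 D51587 D111875 (iv2 D108720) (iv3 D50201) (iv2 F39331)
theorem F173761 : act 4 n111875 = n51593 := d1_2 (iv4 F81421) D111875 (iv2 D51593)
theorem F173762 : act 7 n111875 = n108733 := d4_2 (iv7 F81422) D111875 (iv2 D108733)
theorem F173763 : act 1 n111875 = n108731 := d15_0 (iv0 D108731) (iv7 F81422) D111875
theorem F173764 : act 1 n108732 = n111875 := d15_0 F173763 F173752 (iv2 F173749)
def n111876 : Q := act 6 n51587
theorem D111876 : act 6 n51587 = n111876 := rfl
theorem F173766 : act 4 n111876 = n51594 := d10_1 D111876 (iv6 D51594) (iv4 F81421)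
def n111877 : Q := act 0 n51588
theorem D111877 : act 0 n51588 = n111877 := rfl
theorem F173767 : act 1 n108727 = n111877 := d15_0 (iv0 D111877) (iv7 F173013) F173011
theorem F173768 : act 4 n111877 = n110603 := d18_7 D59493 (iv4 F104325) (iv1 F172970) F172967 F81177 (iv4 F168684) F173767 (iv0 D110603) F80456
theorem F173769 : act 4 n66008 = n110613 := d20_6 (iv4 F173768) (iv1 F173767) F168684 (iv3 F81080) (iv1 F81084) D66008 (iv1 D110613) F80460 (iv3 F80454) D110603
theorem F173770 : act 0 n64465 = n66008 := d18_0 F173769 (iv1 D110613) F80460 F38835 (iv4 F45763) D59507 (iv4 F100396) F49335 (iv5 F100414)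
theorem F173771 : act 1 n52294 = n66008 := d15_0 (iv0 F173770) (iv7 D64465) (iv2 F82667)
theorem F173772 : act 2 n108724 = n111877 := d1_3 F173768 (iv2 F173017) F173019
theorem F173773 : act 7 n108725 = n111877 := d11_0 F173768 F173022 (iv4 F171191)
def n111878 : Q := act 1 n51588
theorem D111878 : act 1 n51588 = n111878 := rfl
theorem F173774 : act 1 n111878 = n108727 := d15_1 D111878 (iv7 D108727) (iv2 F81423)
theorem F173775 : act 7 n111878 = n108724 := d15_2 (iv0 D111877) D111878 F173772
theorem F173776 : act 4 n111878 = n107523 := d18_7 (iv1 F80634) F84365 (iv1 D53465) F40933 (iv5 F39335) (iv4 F81424) D111878 F171734 F101593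
theorem F173777 : act 2 n108725 = n111878 := d1_3 F173776 F173021 (iv4 F171191)
def n111879 : Q := act 5 n51588
theorem D111879 : act 5 n51588 = n111879 := rfl
theorem F173778 : act 2 n111879 = n108726 := d2_1 D111879 (iv5 D108726) (iv2 F81423)
theorem F173780 : act 0 n111879 = n111638 := d17_2 (iv1 D111878) D111879 F173203 (iv4 F173193) F173194 (iv0 D59493) (iv5 F80456) (iv0 F171733) (iv4 F173776)
def n111880 : Q := act 3 n51589
theorem D111880 : act 3 n51589 = n111880 := rfl
theorem F173782 : act 6 n111880 = n52413 := d7_2 (iv6 F81425) D111880 (iv3 F161355)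
theorem F173783 : act 7 n111880 = n64450 := d8_2 (iv7 F102461) D111880 (iv3 F165156)
theorem F173784 : act 2 n64449 = n111880 := d4_3 F173783 (iv2 F165154) F165152
theorem F173785 : act 1 n64451 = n111880 := d15_1 (iv0 F165157) F173783 (iv2 F165154)
theorem F173786 : act 1 n111880 = n58797 := d15_1 F173785 F92949 (iv2 F100375)
def n111881 : Q := act 4 n51589
theorem D111881 : act 4 n51589 = n111881 := rfl
theorem F173787 : act 2 n111881 = n108729 := d1_1 D111881 (iv4 D108729) (iv2 F102463)
theorem F173788 : act 6 n111881 = n111773 := d10_2 (iv6 F81425) D111881 (iv4 D111773)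
theorem F173789 : act 7 n111881 = n108730 := d11_2 (iv7 F102461) D111881 (iv4 D108730)
theorem F173790 : act 0 n111881 = n108747 := d20_1 D111881 (iv4 F171186) F171185 F166125 (iv3 D31783) D31784 F50080 F39339 (iv3 F39334) D51589
theorem F173791 : act 0 n65900 = n111881 := d20_1 (iv4 F101592) (iv4 D111881) D111880 (iv1 F173785) F100376 (iv4 F100441) (iv1 F173551) F173565 (iv3 F173015) (iv1 D65902)
def n111882 : Q := act 3 n51590
theorem D111882 : act 3 n51590 = n111882 := rfl
theorem F173792 : act 2 n111882 = n108827 := d0_1 D111882 F168799 F165154 (iv3 F165156) F102462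
theorem F173793 : act 6 n111882 = n66008 := d7_2 F101694 D111882 (iv3 D66008)
theorem F173794 : act 7 n111882 = n108728 := d8_2 F102465 D111882 (iv3 D108728)
def n111883 : Q := act 4 n51590
theorem D111883 : act 4 n51590 = n111883 := rfl
theorem F173795 : act 2 n111883 = n108730 := d1_1 D111883 (iv4 D108730) F102462
theorem F173796 : act 6 n111883 = n66009 := d10_2 F101694 D111883 (iv4 D66009)
theorem F173797 : act 7 n111883 = n108729 := d11_2 F102465 D111883 (iv4 D108729)
theorem F173798 : act 0 n111883 = n65900 := d18_2 (iv1 F81427) D111883 F101592 F49299 (iv4 F80631) (iv0 F100756) (iv4 D53470) F81179 F81177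
theorem F173799 : act 1 n111883 = n108747 := d15_1 (iv0 F173798) (iv7 D108747) (iv2 F101591)
theorem E17370 : n111882 = n107134 := (c20_4 F171186 (iv1 F173799) (iv4 D111883) D111882 (iv1 D107134) F78247 D49511 (iv1 F166491) (iv4 D68184) (iv3 F173018) (iv1 F171192))
theorem F173800 : act 2 n107134 = n108827 := (sb E17370 F173792)
theorem F173801 : act 3 n107134 = n51590 := (sb E17370 (iv3 D111882))
theorem F173802 : act 6 n107134 = n66008 := (sb E17370 F173793)
theorem F173803 : act 7 n107134 = n108728 := (sb E17370 F173794)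
theorem F173804 : act 2 n108728 = n107133 := d15_3 (iv0 D107133) D107134 F173803
theorem F173805 : act 7 n108827 = n107133 := d4_2 (iv7 F173803) F173800 (iv2 F173804)
theorem F173806 : act 3 n107133 = n64449 := d8_1 F173805 (iv7 F165152) (iv3 F168799)
def n111884 : Q := act 6 n51593
theorem D111884 : act 6 n51593 = n111884 := rfl
theorem F173807 : act 2 n111884 = n51594 := d3_1 D111884 (iv6 D51594) D51593
theorem F173808 : act 3 n111884 = n66183 := d7_1 D111884 F101794 (iv3 F81429)
def n111885 : Q := act 0 n51594
theorem D111885 : act 0 n51594 = n111885 := rfl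
theorem F173809 : act 6 n111885 = n110301 := d21_5 D24725 F169598 (iv5 F39336) D51594 D111885 (iv5 D110301) (iv1 F80215) F80200 (iv6 D50783) (iv1 F38692)
def n111887 : Q := act 7 n51594
theorem D111887 : act 7 n51594 = n111887 := rfl
theorem F173810 : act 3 n111887 = n51595 := d8_1 D111887 (iv7 D51595) (iv3 F81435)
theorem F173811 : act 6 n111887 = n51689 := d14_1 D111887 F81607 (iv6 D50471) (iv7 F39337) D51594
def n111888 : Q := act 4 n51596
theorem D111888 : act 4 n51596 = n111888 := rfl
theorem F173812 : act 2 n111888 = n109293 := d1_1 D111888 (iv4 D109293) (iv2 F161265)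
theorem F173813 : act 7 n111888 = n66174 := d11_2 (iv7 F81441) D111888 (iv4 D66174)
theorem F173814 : act 0 n51654 = n111888 := d20_7 (iv4 F49370) (iv1 F50081) (iv4 D31784) D31783 (iv1 F166124) (iv3 F81986) F81987 (iv4 D111888) (iv3 D51596) (iv1 F39345)
def n111889 : Q := act 1 n51601
theorem D111889 : act 1 n51601 = n111889 := rfl
def n111890 : Q := act 5 n51601
theorem D111890 : act 5 n51601 = n111890 := rfl
theorem F173818 : act 3 n111890 = n51602 := d6_1 D111890 (iv5 D51602) (iv3 F81452)
theorem F173819 : act 6 n111890 = n109384 := d12_2 D51601 D111890 (iv5 D109384) (iv6 D50471) (iv5 F39348)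
theorem F173820 : act 7 n111890 = n109668 := d13_2 F81453 D111890 (iv5 D109668)
def n111891 : Q := act 0 n51602
theorem D111891 : act 0 n51602 = n111891 := rfl
def n111892 : Q := act 4 n51602
theorem D111892 : act 4 n51602 = n111892 := rfl
theorem F173825 : act 2 n111892 = n109387 := d1_1 D111892 (iv4 D109387) (iv2 F81454)
theorem F173826 : act 6 n111892 = n109387 := d10_2 (iv6 F81455) D111892 (iv4 D109387)
theorem F173827 : act 7 n111892 = n109669 := d11_2 (iv7 F81456) D111892 (iv4 D109669)
def n111893 : Q := act 1 n51604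
theorem D111893 : act 1 n51604 = n111893 := rfl
theorem F173828 : act 1 n111893 = n109602 := d15_1 D111893 F170779 (iv2 F173332)
theorem F173830 : act 5 n111893 = n59072 := d17_7 (iv1 F81851) D110079 (iv1 F173372) (iv5 D110636) (iv4 F80473) (iv5 F171326) D111893 F170015 (iv4 F169948)
theorem F173831 : act 3 n109438 = n111893 := d20_9 F82257 (iv1 D52045) F39862 (iv3 D12000) (iv1 F19613) D25065 (iv4 F81086) D111371 F172842 (iv1 D111893)
theorem F173832 : act 2 n111893 = n59074 := d0_1 F173831 F93255 (iv2 F170324) F170325 F170344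
theorem F173833 : act 4 n110523 = n111893 := d18_3 (iv1 F39897) D50966 (iv1 F171038) F173830 F170187 F170186 (iv4 D50766) F39595 (iv5 F39893)
theorem E17371 : n110517 = n109377 := (c20_11 (iv4 F169407) (iv1 F169412) (iv4 D50486) D50485 D109438 F173831 (iv4 F173833) (iv1 D110523) (iv4 D50961) D50960 D110517)
theorem F173834 : act 1 n109377 = n50960 := (sb E17371 (iv0 D110517))
def n111895 : Q := act 0 n51605
theorem D111895 : act 0 n51605 = n111895 := rfl
theorem F173836 : act 4 n111895 = n110120 := d18_3 D25067 D51605 D111895 (iv5 D110120) D110119 (iv0 F170253) (iv4 D51790) (iv0 D25145) F19698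
theorem F173837 : act 1 n51610 = n111895 := d15_0 (iv0 D111895) F173335 (iv2 F173338)
theorem F173838 : act 2 n109606 = n111895 := d1_3 F173836 (iv2 F171274) (iv4 F171279)
theorem F173839 : act 7 n109605 = n111895 := d11_0 F173836 F170255 (iv4 F169611)
def n111896 : Q := act 1 n51605
theorem D111896 : act 1 n51605 = n111896 := rfl
theorem F173841 : act 7 n111896 = n109606 := d15_2 (iv0 D111895) D111896 F173838
theorem F173842 : act 4 n110203 = n111896 := d20_6 (iv4 F171037) (iv1 F171042) (iv4 D50966) D50965 D110533 F171049 (iv1 D111896) (iv4 D51605) D51604 (iv1 F173356)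
theorem F173844 : act 3 n111896 = n64523 := d20_3 D109548 (iv1 F170377) F173842 (iv1 D64523) (iv3 D30375) (iv4 D14417) F22587 D11659 D24624 D50540
theorem F173845 : act 7 n64523 = n111811 := d8_2 (iv7 F173841) F173844 (iv3 F173585)
theorem F173846 : act 2 n111811 = n64522 := d15_3 (iv0 D64522) D64523 F173845
theorem F173847 : act 2 n64523 = n111810 := d15_3 (iv0 D111810) D111811 (iv7 F173845)
theorem F173848 : act 7 n111810 = n64522 := d4_2 (iv7 F173845) F173847 (iv2 F173846)
def n111897 : Q := act 3 n51605
theorem D111897 : act 3 n51605 = n111897 := rfl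
theorem F173849 : act 7 n111897 = n109607 := d8_2 (iv7 F173335) D111897 (iv3 D109607)
def n111898 : Q := act 5 n51605
theorem D111898 : act 5 n51605 = n111898 := rfl
theorem F173850 : act 2 n111898 = n109622 := d2_1 D111898 (iv5 D109622) (iv2 F173334)
theorem F173851 : act 7 n111898 = n109608 := d13_2 (iv7 F173335) D111898 (iv5 D109608)
def n111899 : Q := act 6 n51605
theorem D111899 : act 6 n51605 = n111899 := rfl
def n111904 : Q := act 0 n51609
theorem D111904 : act 0 n51609 = n111904 := rfl
theorem F173863 : act 4 n111904 = n108731 := d18_1 D111904 (iv1 F173763) F173761 F81430 (iv4 F101702) F172843 F172842 (iv0 D109438) (iv5 F171330)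
theorem F173864 : act 2 n109389 = n111904 := d15_3 (iv0 D111904) F171329 F173308
theorem F173865 : act 1 n109618 = n111904 := d15_0 (iv0 D111904) F173337 D109618
theorem F173867 : act 3 n111904 = n109417 := d0_2 D109389 F173864 F170509 F93530 (iv2 F173286)
def n111906 : Q := act 4 n51609
theorem D111906 : act 4 n51609 = n111906 := rfl
theorem F173873 : act 7 n111906 = n109619 := d11_2 (iv7 F173337) D111906 (iv4 D109619)
theorem F173874 : act 5 n111906 = n110160 := d17_5 (iv1 D59049) D59051 F170343 (iv5 F171330) D111906 (iv0 D110160) (iv5 D50800) D50798 (iv4 F170032)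
theorem F173875 : act 0 n111906 = n51903 := d18_2 (iv1 F171329) D111906 (iv4 D51903) (iv5 D25184) D25183 F81925 F81920 F170484 D59284
theorem F173876 : act 1 n111906 = n51886 := d18_6 (iv1 F169597) D50805 F169604 (iv4 D109441) (iv5 F171330) D111906 (iv4 D51886) (iv0 F170928) F39336
def n111907 : Q := act 6 n51609
theorem D111907 : act 6 n51609 = n111907 := rfl
theorem F173877 : act 3 n111907 = n51612 := d7_1 D111907 (iv6 D51612) D51609
def n111908 : Q := act 3 n51610
theorem D111908 : act 3 n51610 = n111908 := rfl
theorem F173878 : act 7 n111908 = n109621 := d8_2 (iv7 F173339) D111908 (iv3 D109621)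
theorem F173879 : act 0 n64516 = n111908 := d20_4 (iv4 F76573) (iv1 F76575) (iv4 F48803) D64516 (iv3 D111908) (iv4 D51610) (iv1 D25068) (iv4 F39312) (iv3 D25050) D25048
def n111909 : Q := act 5 n51610
theorem D111909 : act 5 n51610 = n111909 := rfl
theorem F173880 : act 2 n111909 = n109608 := d2_1 D111909 (iv5 D109608) (iv2 F173338)
theorem F173881 : act 7 n111909 = n109622 := d13_2 (iv7 F173339) D111909 (iv5 D109622)
def n111910 : Q := act 6 n51610
theorem D111910 : act 6 n51610 = n111910 := rfl
theorem F173882 : act 2 n111910 = n109609 := d3_1 D111910 (iv6 D109609) (iv2 F173338)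
theorem F173883 : act 4 n111910 = n51612 := d10_1 D111910 (iv6 D51612) D51610
def n111911 : Q := act 0 n51612
theorem D111911 : act 0 n51612 = n111911 := rfl
def n111912 : Q := act 1 n51612
theorem D111912 : act 1 n51612 = n111912 := rfl
theorem F173884 : act 1 n111912 = n109614 := d15_1 D111912 (iv7 D109614) (iv2 F173340)
def n111913 : Q := act 5 n51612
theorem D111913 : act 5 n51612 = n111913 := rfl
def n111914 : Q := act 7 n51612
theorem D111914 : act 7 n51612 = n111914 := rfl
theorem F173887 : act 2 n111914 = n109614 := d4_1 D111914 (iv7 D109614) (iv2 F173340)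
theorem F173889 : act 1 n109614 = n111911 := d15_0 (iv0 D111911) D111914 F173887
theorem F173891 : act 1 n111914 = n109611 := d15_0 (iv0 D109611) D109614 (iv2 F173887)
def n111933 : Q := act 3 n51618
theorem D111933 : act 3 n51618 = n111933 := rfl
theorem F173905 : act 5 n111933 = n51801 := d6_2 (iv5 F81464) D111933 (iv3 D51801)
def n111935 : Q := act 3 n51619
theorem D111935 : act 3 n51619 = n111935 := rfl
theorem F173909 : act 5 n111935 = n51803 := d6_2 (iv5 F81470) D111935 (iv3 D51803)
def n111938 : Q := act 1 n51620
theorem D111938 : act 1 n51620 = n111938 := rfl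
theorem F173920 : act 4 n111938 = n51819 := d18_7 (iv1 F80091) (iv4 D25080) (iv1 D11912) (iv4 F19620) D25073 D51620 D111938 F81841 F80414
def n111940 : Q := act 5 n51620
theorem D111940 : act 5 n51620 = n111940 := rfl
theorem F173923 : act 4 n111940 = n62367 := d9_1 D111940 F97253 F47310 F23787 (iv4 F38609) (iv5 F79890) (iv4 F169451) F169452 (iv4 D61113) (iv5 D28956) F23038 F10996 (iv4 F19620) D25073 D51620
def n111943 : Q := act 0 n51625
theorem D111943 : act 0 n51625 = n111943 := rfl
theorem F173933 : act 2 n108796 = n111943 := d15_3 (iv0 D111943) (iv0 F164100) (iv7 F168718)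
theorem F173934 : act 1 n108614 = n111943 := d15_0 (iv0 D111943) (iv7 F164320) (iv2 F168473)
theorem F173935 : act 7 n111943 = n106858 := d15_2 (iv0 F168475) F173934 F164673
theorem F173936 : act 4 n111943 = n106861 := d18_7 F168450 (iv4 F167593) F171520 (iv4 D63408) F79450 D108614 F173934 F164683 (iv5 F168452)
theorem F173937 : act 6 n108887 = n111943 := d10_0 F173936 F164680 F168878
def n111944 : Q := act 3 n51625
theorem D111944 : act 3 n51625 = n111944 := rfl
theorem F173938 : act 4 n111944 = n51626 := d5_2 D51625 D111944 (iv3 D51626) (iv4 D25077) D25076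
def n111945 : Q := act 5 n51625
theorem D111945 : act 5 n51625 = n111945 := rfl
theorem F173941 : act 2 n111945 = n108798 := d2_1 D111945 (iv5 D108798) (iv2 F164349)
theorem F173942 : act 7 n111945 = n108802 := d13_2 F164320 D111945 (iv5 D108802)
theorem F173943 : act 0 n111945 = n111332 := d17_2 F164100 D111945 (iv5 D111332) (iv4 F98198) F98199 (iv0 F168450) F168452 (iv0 D52423) (iv4 F82771)
theorem F173944 : act 1 n111945 = n111671 := d17_6 (iv1 F81034) (iv5 F81248) F164107 F47436 D51625 D111945 F173241 F172750 (iv4 D111317)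
def n111953 : Q := act 0 n51634
theorem D111953 : act 0 n51634 = n111953 := rfl
theorem F173961 : act 1 n64078 = n111953 := d15_0 (iv0 D111953) F81506 D64078
def n111954 : Q := act 1 n51634
theorem D111954 : act 1 n51634 = n111954 := rfl
theorem F173962 : act 3 n109770 = n111954 := d20_3 (iv4 F81760) (iv1 F170113) F170116 (iv1 D111954) (iv3 D51634) (iv4 D25082) (iv1 F19630) D11939 D25139 D51770
theorem F173963 : act 4 n59183 = n111954 := d20_6 F20003 (iv1 D6374) D6375 D13418 D28109 D59183 (iv1 D111954) F81505 F76553 (iv1 F36927)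
theorem F173964 : act 0 n64078 = n111954 := d20_7 (iv4 D59094) (iv1 F45336) D28154 (iv3 F173408) F173406 (iv3 F76550) (iv4 F99677) (iv4 F173963) (iv3 D59183) (iv1 F93266)
theorem F173965 : act 7 n111954 = n64077 := d8_2 F170371 F173962 (iv3 F170372)
theorem F173966 : act 2 n64077 = n111953 := d15_3 (iv0 D111953) D111954 F173965
theorem F173967 : act 2 n111954 = n64076 := d15_3 (iv0 D64076) D64077 (iv7 F173965)
theorem F173968 : act 7 n64076 = n111953 := d4_2 (iv7 F173965) F173967 (iv2 F173966)
def n111955 : Q := act 2 n51634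
theorem D111955 : act 2 n51634 = n111955 := rfl
theorem F173969 : act 3 n111955 = n109246 := d0_2 D51634 D111955 (iv2 D109246) (iv3 D50412) (iv2 F39393)
theorem F173970 : act 4 n111955 = n105244 := d1_2 (iv4 F81505) D111955 (iv2 F161196)
theorem F173971 : act 7 n111955 = n64078 := d4_2 (iv7 F81506) D111955 (iv2 D64078)
theorem F173972 : act 1 n111955 = n64076 := d15_0 (iv0 D64076) (iv7 F81506) D111955
theorem F173973 : act 1 n64077 = n111955 := d15_0 F173972 F173968 (iv2 F173966)
def n111956 : Q := act 5 n51634
theorem D111956 : act 5 n51634 = n111956 := rfl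
theorem F173974 : act 3 n111956 = n51635 := d6_1 D111956 (iv5 D51635) D51634
theorem F173975 : act 7 n111956 = n64079 := d13_2 (iv7 F81506) D111956 (iv5 D64079)
def n111957 : Q := act 6 n51634
theorem D111957 : act 6 n51634 = n111957 := rfl
theorem F173976 : act 3 n111957 = n51636 := d7_1 D111957 (iv6 D51636) D51634
theorem F173977 : act 4 n111957 = n105262 := d10_1 D111957 (iv6 D105262) (iv4 F81505)
theorem F173978 : act 7 n111957 = n109516 := d14_2 (iv7 F81506) D111957 (iv6 D109516) F79898 F53385
def n111958 : Q := act 6 n51635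
theorem D111958 : act 6 n51635 = n111958 := rfl
theorem F173979 : act 2 n111958 = n105643 := d3_1 D111958 (iv6 D105643) (iv2 F81507)
theorem F173980 : act 4 n111958 = n105518 := d10_1 D111958 (iv6 D105518) (iv4 F81508)
def n111959 : Q := act 5 n51636
theorem D111959 : act 5 n51636 = n111959 := rfl
theorem F173981 : act 2 n111959 = n109250 := d2_1 D111959 (iv5 D109250) (iv2 F81510)
theorem F173982 : act 7 n111959 = n109518 := d13_2 (iv7 F81512) D111959 (iv5 D109518)
def n111960 : Q := act 0 n51637
theorem D111960 : act 0 n51637 = n111960 := rfl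
theorem F173983 : act 1 n109256 = n111960 := d15_0 (iv0 D111960) F81514 D109256
def n111961 : Q := act 1 n51637
theorem D111961 : act 1 n51637 = n111961 := rfl
def n111962 : Q := act 2 n51637
theorem D111962 : act 2 n51637 = n111962 := rfl
theorem F173984 : act 3 n111962 = n51657 := d0_2 D51637 D111962 (iv2 D51657) (iv3 D25094) (iv2 F39399)
theorem F173985 : act 4 n111962 = n109521 := d1_2 (iv4 F81513) D111962 (iv2 D109521)
theorem F173986 : act 7 n111962 = n109256 := d4_2 (iv7 F81514) D111962 (iv2 D109256)
theorem F173987 : act 1 n111962 = n109254 := d15_0 (iv0 D109254) (iv7 F81514) D111962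
theorem F173988 : act 1 n111961 = n109256 := d15_1 D111961 (iv7 F173986) (iv2 D111962)
theorem F173989 : act 1 n109255 = n111962 := d15_1 D109255 F173986 (iv2 D109256)
def n111963 : Q := act 5 n51637
theorem D111963 : act 5 n51637 = n111963 := rfl
theorem F173990 : act 3 n111963 = n51638 := d6_1 D111963 (iv5 D51638) D51637
theorem F173991 : act 7 n111963 = n109257 := d13_2 (iv7 F81514) D111963 (iv5 D109257)
def n111964 : Q := act 6 n51637
theorem D111964 : act 6 n51637 = n111964 := rfl
theorem F173992 : act 3 n111964 = n51639 := d7_1 D111964 (iv6 D51639) D51637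
theorem F173993 : act 4 n111964 = n109523 := d10_1 D111964 (iv6 D109523) (iv4 F81513)
def n111965 : Q := act 6 n51638
theorem D111965 : act 6 n51638 = n111965 := rfl
theorem F173994 : act 2 n111965 = n51663 := d3_1 D111965 (iv6 D51663) (iv2 F81515)
theorem F173995 : act 4 n111965 = n105639 := d10_1 D111965 (iv6 D105639) (iv4 F81516)
def n111966 : Q := act 5 n51639
theorem D111966 : act 5 n51639 = n111966 := rfl
theorem F173996 : act 2 n111966 = n51666 := d2_1 D111966 (iv5 D51666) (iv2 F81520)
def n111967 : Q := act 3 n51640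
theorem D111967 : act 3 n51640 = n111967 := rfl
theorem F173997 : act 4 n111967 = n58765 := d5_2 (iv4 F81523) D111967 (iv3 D58765) (iv4 D27942) (iv3 F45142)
theorem F173998 : act 7 n111967 = n58841 := d8_2 F81526 D111967 (iv3 D58841)
def n111968 : Q := act 6 n51640
theorem D111968 : act 6 n51640 = n111968 := rfl
theorem F173999 : act 2 n111968 = n105524 := d3_1 D111968 (iv6 D105524) F81525
theorem F174000 : act 4 n111968 = n58763 := d10_1 D111968 (iv6 D58763) (iv4 F81523)
theorem F174001 : act 0 n109265 = n111968 := d20_1 D109265 F174000 F92874 F164075 (iv3 D24790) D24791 F79861 F38609 (iv3 F38603) (iv1 F79779)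
theorem F174002 : act 0 n111968 = n109264 := d20_7 (iv4 F161118) (iv1 F161121) F164339 (iv3 F164093) (iv1 F164076) (iv3 F92874) (iv4 F174000) (iv4 D109264) F165636 (iv1 F76509)
theorem F174003 : act 7 n109365 = n111968 := d15_2 F168381 F169370 F173999
theorem F174004 : act 6 n111817 = n109365 := d14_5 F174003 (iv6 D111968) (iv7 F81526) D58843 (iv7 F173601)
def n111969 : Q := act 3 n51641
theorem D111969 : act 3 n51641 = n111969 := rfl
theorem F174005 : act 4 n111969 = n66016 := d5_2 (iv4 F81529) D111969 (iv3 D66016) F49345 F45734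
theorem F174006 : act 7 n111969 = n105523 := d8_2 (iv7 F81528) D111969 (iv3 D105523)
theorem F174007 : act 0 n111969 = n109444 := d20_4 F49292 (iv1 F49294) (iv4 F81529) D111969 (iv3 D109444) (iv4 D50486) (iv1 D24600) (iv4 F38601) (iv3 D24589) D24587
def n111970 : Q := act 0 n51642
theorem D111970 : act 0 n51642 = n111970 := rfl
theorem F174008 : act 1 n109285 = n111970 := d15_0 (iv0 D111970) F81532 D109285
def n111971 : Q := act 1 n51642
theorem D111971 : act 1 n51642 = n111971 := rfl
def n111972 : Q := act 2 n51642
theorem D111972 : act 2 n51642 = n111972 := rfl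
theorem F174009 : act 3 n111972 = n109298 := d0_2 D51642 D111972 (iv2 D109298) (iv3 D50438) (iv2 F39419)
theorem F174010 : act 4 n111972 = n110404 := d1_2 (iv4 F81531) D111972 (iv2 D110404)
theorem F174011 : act 7 n111972 = n109285 := d4_2 (iv7 F81532) D111972 (iv2 D109285)
theorem F174012 : act 1 n111972 = n109283 := d15_0 (iv0 D109283) (iv7 F81532) D111972
theorem F174013 : act 1 n111971 = n109285 := d15_1 D111971 (iv7 F174011) (iv2 D111972)
theorem F174014 : act 1 n109284 = n111972 := d15_1 D109284 F174011 (iv2 D109285)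
def n111973 : Q := act 5 n51642
theorem D111973 : act 5 n51642 = n111973 := rfl
theorem F174015 : act 3 n111973 = n51643 := d6_1 D111973 (iv5 D51643) D51642
theorem F174016 : act 7 n111973 = n109286 := d13_2 (iv7 F81532) D111973 (iv5 D109286)
def n111974 : Q := act 6 n51642
theorem D111974 : act 6 n51642 = n111974 := rfl
theorem F174017 : act 3 n111974 = n51644 := d7_1 D111974 (iv6 D51644) D51642
theorem F174018 : act 4 n111974 = n110406 := d10_1 D111974 (iv6 D110406) (iv4 F81531)
theorem F174019 : act 7 n109579 = n111974 := d8_0 F174017 (iv7 F81537) D109579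
def n111975 : Q := act 6 n51643
theorem D111975 : act 6 n51643 = n111975 := rfl
theorem F174020 : act 2 n111975 = n109301 := d3_1 D111975 (iv6 D109301) (iv2 F81533)
def n111976 : Q := act 1 n51644
theorem D111976 : act 1 n51644 = n111976 := rfl
theorem F174021 : act 1 n111976 = n109304 := d15_1 D111976 (iv7 D109304) (iv2 F81535)
theorem F174022 : act 7 n111976 = n64518 := d15_2 (iv0 F82848) D111976 F100445
theorem F174023 : act 4 n110594 = n111976 := d20_0 (iv1 D111976) F81536 (iv3 F81154) (iv1 D51405) F39209 (iv4 F39224) D51417 D111479 F172989 (iv1 F171163)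
theorem F174024 : act 2 n111976 = n109302 := d1_1 F174023 (iv4 F169322) (iv2 F171166)
def n111977 : Q := act 5 n51644
theorem D111977 : act 5 n51644 = n111977 := rfl
theorem F174025 : act 2 n111977 = n109303 := d2_1 D111977 (iv5 D109303) (iv2 F81535)
theorem F174026 : act 7 n111977 = n109580 := d13_2 F81537 D111977 (iv5 D109580)
def n111978 : Q := act 0 n51645
theorem D111978 : act 0 n51645 = n111978 := rfl
theorem F174027 : act 1 n109298 = n111978 := d15_0 (iv0 D111978) F81538 D109298
def n111979 : Q := act 1 n51645
theorem D111979 : act 1 n51645 = n111979 := rfl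
def n111980 : Q := act 2 n51645
theorem D111980 : act 2 n51645 = n111980 := rfl
theorem F174028 : act 3 n111980 = n109285 := d0_2 D51645 D111980 (iv2 D109285) (iv3 D50432) (iv2 F39425)
theorem F174029 : act 7 n111980 = n109298 := d4_2 (iv7 F81538) D111980 (iv2 D109298)
theorem F174030 : act 1 n111980 = n109296 := d15_0 (iv0 D109296) (iv7 F81538) D111980
theorem F174031 : act 1 n111979 = n109298 := d15_1 D111979 (iv7 F174029) (iv2 D111980)
theorem F174032 : act 1 n109297 = n111980 := d15_1 D109297 F174029 (iv2 D109298)
def n111981 : Q := act 5 n51645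
theorem D111981 : act 5 n51645 = n111981 := rfl
theorem F174033 : act 3 n111981 = n51646 := d6_1 D111981 (iv5 D51646) D51645
theorem F174034 : act 7 n111981 = n109299 := d13_2 (iv7 F81538) D111981 (iv5 D109299)
def n111982 : Q := act 6 n51645
theorem D111982 : act 6 n51645 = n111982 := rfl
theorem F174035 : act 3 n111982 = n51647 := d7_1 D111982 (iv6 D51647) D51645
def n111983 : Q := act 6 n51646
theorem D111983 : act 6 n51646 = n111983 := rfl
theorem F174036 : act 2 n111983 = n109288 := d3_1 D111983 (iv6 D109288) (iv2 F81539)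
def n111984 : Q := act 0 n51647
theorem D111984 : act 0 n51647 = n111984 := rfl
def n111985 : Q := act 1 n51647
theorem D111985 : act 1 n51647 = n111985 := rfl
theorem F174037 : act 1 n111985 = n109292 := d15_1 D111985 (iv7 D109292) (iv2 F81541)
theorem F174038 : act 4 n110474 = n111985 := d20_6 (iv4 F165144) (iv1 F165900) F165898 (iv3 F92975) (iv1 F92979) D110474 (iv1 D111985) F81542 (iv3 F39781) D52011
theorem F174039 : act 6 n111985 = n64512 := d10_2 (iv6 F170882) F174038 F173557
theorem F174040 : act 4 n110467 = n64449 := d20_2 (iv4 F80355) D110467 (iv3 F173806) (iv1 F168807) F168802 (iv4 F169308) (iv1 F174037) (iv4 F174038) (iv3 D110474) (iv1 D50941)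
def n111986 : Q := act 5 n51647
theorem D111986 : act 5 n51647 = n111986 := rfl
theorem F174041 : act 2 n111986 = n109291 := d2_1 D111986 (iv5 D109291) (iv2 F81541)
def n111987 : Q := act 7 n51647
theorem D111987 : act 7 n51647 = n111987 := rfl
theorem F174042 : act 2 n111987 = n109292 := d4_1 D111987 (iv7 D109292) (iv2 F81541)
theorem F174043 : act 4 n111987 = n51650 := d11_1 D111987 (iv7 D51650) (iv4 F81542)
theorem F174044 : act 6 n111987 = n109304 := d14_1 D111987 (iv7 D109304) (iv6 D50440) (iv7 F39426) D51647
theorem F174045 : act 1 n109292 = n111984 := d15_0 (iv0 D111984) D111987 F174042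
theorem F174046 : act 1 n109290 = n111987 := d15_1 D109290 (iv7 D111987) F81541
theorem F174047 : act 1 n111987 = n109289 := d15_0 (iv0 D109289) D109292 (iv2 F174042)
def n111988 : Q := act 4 n51649
theorem D111988 : act 4 n51649 = n111988 := rfl
theorem F174048 : act 2 n111988 = n66174 := d1_1 D111988 (iv4 D66174) (iv2 F161281)
theorem F174049 : act 6 n111988 = n64510 := d10_2 F99578 D111988 (iv4 D64510)
theorem F174050 : act 7 n111988 = n109293 := d11_2 F99917 D111988 (iv4 D109293)
theorem F174051 : act 0 n111988 = n51654 := d18_2 (iv1 F81543) D111988 (iv4 F81987) F81988 (iv4 F168789) (iv0 F168790) (iv4 D53248) F83968 F83966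
theorem F174052 : act 1 n111988 = n109314 := d15_1 (iv0 F174051) (iv7 D109314) (iv2 F81556)
theorem F174053 : act 1 n109314 = n111888 := d15_1 F174052 F173813 (iv2 F174048)
def n111989 : Q := act 5 n51649
theorem D111989 : act 5 n51649 = n111989 := rfl
theorem F174054 : act 2 n111989 = n53293 := d2_1 D111989 (iv5 F161273) (iv2 F161281)
theorem F174055 : act 3 n111989 = n63998 := d6_1 D111989 F99575 (iv3 F161372)
theorem F174056 : act 6 n111989 = n53172 := d12_2 F99578 D111989 F83977 D63998 F99575
theorem F174057 : act 7 n111989 = n109294 := d13_2 F99917 D111989 (iv5 D109294)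
theorem F174058 : act 0 n111989 = n51719 := d21_1 D111989 (iv5 D51719) D51720 (iv1 F161376) (iv6 F111837) (iv5 D74500) (iv1 F161295) F79817 (iv6 F79818) (iv1 F81543)
theorem F174059 : act 0 n51714 = n111989 := d21_10 (iv5 D111989) (iv1 D51649) F39428 (iv6 D12260) (iv1 F20312) D25803 F40790 D29864 D63169 F98433
def n111990 : Q := act 0 n51651
theorem D111990 : act 0 n51651 = n111990 := rfl
theorem F174060 : act 1 n109308 = n111990 := d15_0 (iv0 D111990) F81551 D109308
def n111991 : Q := act 1 n51651
theorem D111991 : act 1 n51651 = n111991 := rfl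
def n111992 : Q := act 2 n51651
theorem D111992 : act 2 n51651 = n111992 := rfl
theorem F174061 : act 3 n111992 = n109317 := d0_2 D51651 D111992 (iv2 D109317) (iv3 D50446) F39672
theorem F174062 : act 4 n111992 = n108750 := d1_2 (iv4 F81550) D111992 (iv2 D108750)
theorem F174063 : act 7 n111992 = n109308 := d4_2 (iv7 F81551) D111992 (iv2 D109308)
theorem F174064 : act 1 n111992 = n109306 := d15_0 (iv0 D109306) (iv7 F81551) D111992
theorem F174065 : act 1 n111991 = n109308 := d15_1 D111991 (iv7 F174063) (iv2 D111992)
theorem F174066 : act 1 n109307 = n111992 := d15_1 D109307 F174063 (iv2 D109308)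
def n111993 : Q := act 6 n51651
theorem D111993 : act 6 n51651 = n111993 := rfl
theorem F174067 : act 3 n111993 = n51652 := d7_1 D111993 (iv6 D51652) D51651
theorem F174068 : act 4 n111993 = n108752 := d10_1 D111993 (iv6 D108752) (iv4 F81550)
theorem F174069 : act 7 n109572 = n111993 := d11_0 F174068 (iv7 F172986) F172990
def n111994 : Q := act 5 n51652
theorem D111994 : act 5 n51652 = n111994 := rfl
theorem F174070 : act 2 n111994 = n109321 := d2_1 D111994 (iv5 D109321) (iv2 F81552)
theorem F174071 : act 7 n111994 = n109573 := d13_2 F169330 D111994 (iv5 D109573)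
def n111995 : Q := act 0 n51653
theorem D111995 : act 0 n51653 = n111995 := rfl
theorem F174072 : act 1 n109317 = n111995 := d15_0 (iv0 D111995) F81555 D109317
def n111996 : Q := act 1 n51653
theorem D111996 : act 1 n51653 = n111996 := rfl
def n111997 : Q := act 2 n51653
theorem D111997 : act 2 n51653 = n111997 := rfl
theorem F174073 : act 3 n111997 = n109308 := d0_2 D51653 D111997 (iv2 D109308) (iv3 D50443) (iv2 F39673)
theorem F174074 : act 7 n111997 = n109317 := d4_2 (iv7 F81555) D111997 (iv2 D109317)
theorem F174075 : act 1 n111997 = n109315 := d15_0 (iv0 D109315) (iv7 F81555) D111997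
theorem F174076 : act 1 n111996 = n109317 := d15_1 D111996 (iv7 F174074) (iv2 D111997)
theorem F174077 : act 1 n109316 = n111997 := d15_1 D109316 F174074 (iv2 D109317)
def n111998 : Q := act 6 n51653
theorem D111998 : act 6 n51653 = n111998 := rfl
theorem F174078 : act 3 n111998 = n51654 := d7_1 D111998 (iv6 D51654) D51653
def n111999 : Q := act 5 n51654
theorem D111999 : act 5 n51654 = n111999 := rfl
theorem F174079 : act 2 n111999 = n109313 := d2_1 D111999 (iv5 D109313) (iv2 F81556)
def n112000 : Q := act 7 n51654
theorem D112000 : act 7 n51654 = n112000 := rfl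
theorem F174080 : act 2 n112000 = n109314 := d4_1 D112000 (iv7 D109314) (iv2 F81556)
theorem F174081 : act 6 n112000 = n109322 := d14_1 D112000 (iv7 D109322) (iv6 D50448) (iv7 F39670) D51654
theorem F174082 : act 1 n66174 = n112000 := d15_1 (iv0 F161386) (iv7 D112000) F81556
theorem F174083 : act 1 n112000 = n109293 := d15_1 F174082 (iv7 F174050) F174048
def n112001 : Q := act 3 n51655
theorem D112001 : act 3 n51655 = n112001 := rfl
theorem F174084 : act 7 n112001 = n109324 := d8_2 (iv7 F171074) D112001 (iv3 D109324)
def n112002 : Q := act 4 n51655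
theorem D112002 : act 4 n51655 = n112002 := rfl
theorem F174085 : act 2 n112002 = n52061 := d1_1 D112002 F82282 (iv2 F171073)
theorem F174086 : act 7 n112002 = n109325 := d11_2 (iv7 F171074) D112002 (iv4 D109325)
theorem F174087 : act 5 n112002 = n109548 := d17_5 (iv1 D50603) D50605 D109718 F171076 D112002 (iv0 F170257) (iv5 D110120) F170202 F81871
theorem F174088 : act 1 n112002 = n109377 := d18_8 (iv1 F170368) F170364 (iv1 F81633) F80035 F38676 (iv4 F79824) F81557 D112002 F170047
theorem F174090 : act 1 n110518 = n112002 := d15_0 F174088 (iv7 F170450) F171033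
theorem F174091 : act 3 n109423 = n111979 := d20_3 D112002 (iv1 F174090) (iv4 F171034) (iv1 D111979) (iv3 D51645) (iv4 D25090) (iv1 D11918) D11919 D25094 D51655
def n112003 : Q := act 6 n51655
theorem D112003 : act 6 n51655 = n112003 := rfl
def n112004 : Q := act 3 n51656
theorem D112004 : act 3 n51656 = n112004 := rfl
theorem F174094 : act 7 n112004 = n109329 := d8_2 (iv7 F171054) D112004 (iv3 D109329)
def n112005 : Q := act 6 n51656
theorem D112005 : act 6 n51656 = n112005 := rfl
def n112006 : Q := act 5 n51657
theorem D112006 : act 5 n51657 = n112006 := rfl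
theorem F174097 : act 2 n112006 = n51658 := d2_1 D112006 (iv5 D51658) D51657
theorem F174098 : act 7 n112006 = n109332 := d13_2 (iv7 F81560) D112006 (iv5 D109332)
theorem F174099 : act 1 n112006 = n109334 := d17_6 D24656 (iv5 F81877) (iv1 F39487) F39485 (iv4 F81559) D112006 F171079 (iv0 D50602) F38649
theorem F174100 : act 1 n109335 = n112006 := d15_1 D109335 F174098 F169349
def n112007 : Q := act 6 n51657
theorem D112007 : act 6 n51657 = n112007 := rfl
theorem F174101 : act 2 n112007 = n51659 := d3_1 D112007 (iv6 D51659) D51657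
def n112008 : Q := act 0 n51658
theorem D112008 : act 0 n51658 = n112008 := rfl
theorem F174103 : act 5 n112008 = n51770 := d17_3 (iv1 D51656) D51658 D112008 (iv4 F81760) D110200 F170368 (iv5 F170047) F173834 F81558
theorem F174104 : act 1 n109332 = n112008 := d15_0 (iv0 D112008) F81565 (iv2 F169349)
theorem F174105 : act 2 n109335 = n112008 := d2_3 F174103 (iv2 F105375) (iv5 F169352)
theorem F174106 : act 7 n109334 = n112008 := d13_0 F174103 (iv7 F105377) (iv5 F171079)
def n112009 : Q := act 1 n51658
theorem D112009 : act 1 n51658 = n112009 := rfl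
theorem F174107 : act 1 n112009 = n109332 := d15_1 D112009 (iv7 F174098) F174097
theorem F174108 : act 7 n112009 = n109335 := d15_2 (iv0 D112008) D112009 F174105
theorem F174109 : act 5 n112009 = n51771 := d17_7 (iv1 F39566) F81782 (iv1 D25119) F19682 (iv4 F39431) D51658 D112009 F81765 F79980
theorem F174110 : act 2 n109334 = n112009 := d2_3 F174109 F105376 (iv5 F171079)
def n112010 : Q := act 4 n51658
theorem D112010 : act 4 n51658 = n112010 := rfl
theorem F174111 : act 7 n112010 = n109336 := d11_2 (iv7 F81565) D112010 (iv4 D109336)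
def n112011 : Q := act 6 n51658
theorem D112011 : act 6 n51658 = n112011 := rfl
theorem F174112 : act 3 n112011 = n51663 := d7_1 D112011 (iv6 D51663) (iv3 F81564)
def n112012 : Q := act 0 n51659
theorem D112012 : act 0 n51659 = n112012 := rfl
def n112013 : Q := act 1 n51659
theorem D112013 : act 1 n51659 = n112013 := rfl
def n112014 : Q := act 5 n51659
theorem D112014 : act 5 n51659 = n112014 := rfl
theorem F174113 : act 3 n112014 = n51666 := d6_1 D112014 (iv5 D51666) (iv3 F81566)
def n112015 : Q := act 7 n51659
theorem D112015 : act 7 n51659 = n112015 := rfl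
theorem F174114 : act 3 n112015 = n51667 := d8_1 D112015 (iv7 D51667) (iv3 F81566)
theorem F174116 : act 6 n112015 = n109341 := d14_1 D112015 (iv7 D109341) (iv6 D50453) (iv7 F39432) D51659
def n112016 : Q := act 3 n51660
theorem D112016 : act 3 n51660 = n112016 := rfl
theorem F174117 : act 5 n112016 = n51767 := d6_2 (iv5 F81568) D112016 (iv3 D51767)
theorem F174118 : act 7 n112016 = n109342 := d8_2 F81571 D112016 (iv3 D109342)
def n112017 : Q := act 6 n51660
theorem D112017 : act 6 n51660 = n112017 := rfl
theorem F174119 : act 2 n112017 = n109345 := d3_1 D112017 (iv6 D109345) F81570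
theorem F174120 : act 5 n112017 = n109564 := d12_1 D112017 (iv6 D109564) F79916 (iv6 F39641) (iv5 F81568)
def n112018 : Q := act 3 n51661
theorem D112018 : act 3 n51661 = n112018 := rfl
theorem F174121 : act 5 n112018 = n51768 := d6_2 (iv5 F81574) D112018 (iv3 D51768)
theorem F174122 : act 7 n112018 = n109344 := d8_2 (iv7 F81573) D112018 (iv3 D109344)
theorem F174123 : act 4 n53330 = n112018 := d19_2 D25847 D53330 (iv3 D112018) (iv1 D51661) (iv5 D25095) (iv4 D11919) F8533 (iv1 F8509) F8511 F4992 D5462 F8293 (iv5 D2361) D2360 F10127 (iv1 D2429) D2430 D5818 D12270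
def n112019 : Q := act 6 n51661
theorem D112019 : act 6 n51661 = n112019 := rfl
theorem F174124 : act 2 n112019 = n109343 := d3_1 D112019 (iv6 D109343) F81575
def n112020 : Q := act 3 n51662
theorem D112020 : act 3 n51662 = n112020 := rfl
theorem F174125 : act 5 n112020 = n53190 := d6_2 (iv5 F81577) D112020 (iv3 D53190)
theorem F174126 : act 7 n112020 = n105640 := d8_2 (iv7 F81578) D112020 (iv3 D105640)
def n112021 : Q := act 6 n51662
theorem D112021 : act 6 n51662 = n112021 := rfl
theorem F174127 : act 2 n112021 = n105639 := d3_1 D112021 (iv6 D105639) (iv2 F81576)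
theorem F174128 : act 4 n112021 = n51663 := d10_1 D112021 (iv6 D51663) D51662
def n112022 : Q := act 0 n51663
theorem D112022 : act 0 n51663 = n112022 := rfl
def n112023 : Q := act 1 n51663
theorem D112023 : act 1 n51663 = n112023 := rfl
def n112024 : Q := act 5 n51663
theorem D112024 : act 5 n51663 = n112024 := rfl
theorem F174129 : act 6 n112024 = n51666 := d12_2 D51663 D112024 (iv5 D51666) (iv6 D25096) D25095
def n112025 : Q := act 7 n51663
theorem D112025 : act 7 n51663 = n112025 := rfl
theorem F174130 : act 6 n112025 = n109349 := d14_1 D112025 (iv7 D109349) (iv6 D50456) (iv7 F39433) D51663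
def n112026 : Q := act 3 n51664
theorem D112026 : act 3 n51664 = n112026 := rfl
theorem F174131 : act 4 n112026 = n108878 := d5_2 (iv4 F101545) D112026 (iv3 D108878) F101603 (iv3 F101540)
theorem F174132 : act 7 n112026 = n109536 := d8_2 F101546 D112026 F169497
def n112027 : Q := act 5 n51664
theorem D112027 : act 5 n51664 = n112027 := rfl
theorem F174133 : act 7 n112027 = n109538 := d13_2 F101546 D112027 (iv5 D109538)
def n112028 : Q := act 0 n51666
theorem D112028 : act 0 n51666 = n112028 := rfl
def n112029 : Q := act 1 n51666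
theorem D112029 : act 1 n51666 = n112029 := rfl
def n112030 : Q := act 4 n51666
theorem D112030 : act 4 n51666 = n112030 := rfl
def n112031 : Q := act 7 n51666
theorem D112031 : act 7 n51666 = n112031 := rfl
theorem F174134 : act 5 n112031 = n51667 := d13_1 D112031 (iv7 D51667) D51666
def n112032 : Q := act 4 n51668
theorem D112032 : act 4 n51668 = n112032 := rfl
theorem F174136 : act 6 n112032 = n110628 := d10_2 F100415 D112032 F171223
theorem F174137 : act 7 n112032 = n51944 := d11_2 (iv7 F81584) D112032 F82031
theorem F174138 : act 0 n112032 = n52052 := d20_1 D112032 F82267 F39868 (iv1 F19848) (iv3 F38788) (iv4 F80394) F82617 F82616 (iv3 F79614) (iv1 F81589)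
theorem F174139 : act 0 n52026 = n112032 := d20_1 (iv4 F82207) (iv4 D112032) (iv3 D51668) (iv1 F81374) (iv3 F81377) D109305 (iv1 F169328) (iv4 F80441) F80440 F39820
def n112033 : Q := act 3 n51669
theorem D112033 : act 3 n51669 = n112033 := rfl
theorem F174140 : act 7 n112033 = n109528 := d8_2 (iv7 F81590) D112033 F169491
def n112034 : Q := act 5 n51669
theorem D112034 : act 5 n51669 = n112034 := rfl
theorem F174141 : act 7 n112034 = n109531 := d13_2 (iv7 F81590) D112034 (iv5 D109531)
def n112035 : Q := act 1 n51671
theorem D112035 : act 1 n51671 = n112035 := rfl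
theorem F174142 : act 1 n112035 = n109418 := d15_1 D112035 F171229 (iv2 F173325)
theorem F174145 : act 3 n109616 = n112035 := d20_9 F82034 (iv1 D51946) F39692 (iv3 D11968) (iv1 F19606) D25060 (iv4 F81421) D111873 F173747 (iv1 D112035)
theorem F174146 : act 2 n112035 = n109394 := d0_1 F174145 (iv3 D109394) (iv2 F173280) (iv3 F93513) F173311
theorem F174147 : act 4 n112035 = n110675 := d20_6 (iv4 F169611) (iv1 F169616) (iv4 D50567) D50566 D109616 F174145 (iv1 D110675) (iv4 D51030) D51029 (iv1 F171276)
def n112037 : Q := act 0 n51672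
theorem D112037 : act 0 n51672 = n112037 := rfl
theorem F174149 : act 4 n112037 = n51898 := d18_3 D25100 D51672 D112037 (iv5 D51898) D51897 (iv0 F81933) (iv4 D51723) (iv0 D25118) F19682
theorem F174151 : act 2 n109423 = n112037 := d1_3 F174149 F171033 (iv4 F171034)
theorem F174152 : act 7 n109422 = n112037 := d11_0 F174149 F170450 (iv4 F169407)
def n112038 : Q := act 1 n51672
theorem D112038 : act 1 n51672 = n112038 := rfl
theorem F174153 : act 1 n112038 = n51677 := d15_1 D112038 F173318 (iv2 F173327)
theorem F174154 : act 7 n112038 = n109423 := d15_2 (iv0 D112037) D112038 F174151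
theorem F174155 : act 2 n109422 = n112038 := d4_3 F174154 F174151 (iv7 F174152)
def n112039 : Q := act 3 n51672
theorem D112039 : act 3 n51672 = n112039 := rfl
theorem F174156 : act 4 n112039 = n69480 := d5_2 D51672 D112039 F105791 (iv4 F82034) (iv3 D51671)
theorem F174157 : act 7 n112039 = n109424 := d8_2 (iv7 F173328) D112039 (iv3 D109424)
def n112040 : Q := act 5 n51672
theorem D112040 : act 5 n51672 = n112040 := rfl
theorem F174158 : act 2 n112040 = n109445 := d2_1 D112040 (iv5 D109445) (iv2 F173327)
theorem F174159 : act 7 n112040 = n109425 := d13_2 (iv7 F173328) D112040 (iv5 D109425)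
def n112041 : Q := act 6 n51672
theorem D112041 : act 6 n51672 = n112041 := rfl
def n112046 : Q := act 2 n51676
theorem D112046 : act 2 n51676 = n112046 := rfl
theorem F174170 : act 3 n112046 = n109418 := d0_2 D51676 D112046 (iv2 D109418) (iv3 D50480) F173316
theorem F174171 : act 5 n112046 = n109618 := d2_2 F105472 D112046 (iv2 D109618)
theorem F174173 : act 1 n112046 = n109438 := d15_0 (iv0 D109438) (iv7 F173315) D112046
theorem F174175 : act 4 n110172 = n112046 := d18_7 F169969 F170032 (iv1 D50798) (iv4 D24719) D24720 D50805 D110172 F174173 F170345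
theorem E17372 : n111460 = n110172 := ((c20_3 F172842 (iv1 F174173) (iv4 F174175) (iv3 D111460) (iv1 D51412) (iv3 D24992) (iv4 D11870) (iv1 F19289) D24972 D51365 D111371)).symm
theorem F174176 : act 3 n110172 = n51412 := (sb E17372 (iv3 D111460))
def n112047 : Q := act 4 n51676
theorem D112047 : act 4 n51676 = n112047 := rfl
theorem F174177 : act 2 n112047 = n110172 := d1_1 D112047 F174175 (iv2 D112046)
theorem F174178 : act 7 n112047 = n109441 := d11_2 (iv7 F173315) D112047 (iv4 D109441)
theorem F174179 : act 0 n112047 = n110127 := d18_2 (iv1 F173314) D112047 (iv4 D110127) (iv5 D50788) D50787 D110122 (iv4 F170261) F170026 D109138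
theorem F174180 : act 1 n112047 = n110176 := d18_6 D50468 D109373 F169618 (iv4 D109619) F105472 D112047 F170341 F170943 F39348
def n112048 : Q := act 6 n51676
theorem D112048 : act 6 n51676 = n112048 := rfl
def n112049 : Q := act 3 n51677
theorem D112049 : act 3 n51677 = n112049 := rfl
theorem F174182 : act 7 n112049 = n109444 := d8_2 (iv7 F173318) D112049 (iv3 D109444)
theorem F174183 : act 0 n105523 = n112049 := d20_4 (iv4 F45232) (iv1 F45235) D48789 D105523 (iv3 D112049) (iv4 D51677) (iv1 D25101) (iv4 F39431) (iv3 D25094) D25092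
def n112050 : Q := act 5 n51677
theorem D112050 : act 5 n51677 = n112050 := rfl
theorem F174184 : act 2 n112050 = n109425 := d2_1 D112050 (iv5 D109425) (iv2 F173317)
theorem F174185 : act 7 n112050 = n109445 := d13_2 (iv7 F173318) D112050 (iv5 D109445)
theorem F174186 : act 1 n112050 = n110206 := d17_6 (iv1 F39565) F39563 (iv1 F39360) (iv5 F105470) D51677 D112050 (iv5 D110206) (iv0 F80187) (iv4 D50626)
theorem F174187 : act 1 n110206 = n112040 := d15_1 F174186 F174159 (iv2 F174184)
def n112051 : Q := act 6 n51677
theorem D112051 : act 6 n51677 = n112051 := rfl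
theorem F174189 : act 4 n112051 = n51679 := d10_1 D112051 (iv6 D51679) D51677
def n112052 : Q := act 0 n51679
theorem D112052 : act 0 n51679 = n112052 := rfl
def n112053 : Q := act 1 n51679
theorem D112053 : act 1 n51679 = n112053 := rfl
def n112054 : Q := act 5 n51679
theorem D112054 : act 5 n51679 = n112054 := rfl
def n112055 : Q := act 7 n51679
theorem D112055 : act 7 n51679 = n112055 := rfl
def n112060 : Q := act 2 n51681
theorem D112060 : act 2 n51681 = n112060 := rfl
theorem F174207 : act 7 n51682 = n112060 := d15_2 (iv0 D51681) D51682 (iv2 D112060)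
def n112065 : Q := act 7 n51681
theorem D112065 : act 7 n51681 = n112065 := rfl
theorem F174208 : act 2 n112065 = n51682 := d4_1 D112065 F174207 (iv2 D112060)
def n112067 : Q := act 4 n51682
theorem D112067 : act 4 n51682 = n112067 := rfl
def n112068 : Q := act 5 n51682
theorem D112068 : act 5 n51682 = n112068 := rfl
def n112074 : Q := act 3 n51685
theorem D112074 : act 3 n51685 = n112074 := rfl
theorem F174211 : act 5 n112074 = n109821 := d6_2 (iv5 F81598) D112074 F169797
theorem F174212 : act 7 n112074 = n109656 := d8_2 F81681 D112074 (iv3 D109656)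
def n112076 : Q := act 3 n51686
theorem D112076 : act 3 n51686 = n112076 := rfl
theorem F174215 : act 5 n112076 = n109966 := d6_2 F81601 D112076 F170077
theorem F174216 : act 7 n112076 = n109653 := d8_2 (iv7 F81678) D112076 (iv3 D109653)
def n112078 : Q := act 0 n51687
theorem D112078 : act 0 n51687 = n112078 := rfl
theorem F174220 : act 4 n112078 = n52075 := d18_3 (iv1 D51686) D51687 D112078 F82290 F80017 (iv0 F39631) (iv4 F81951) (iv0 F81953) F81601
theorem F174223 : act 1 n109663 = n112078 := d18_6 (iv1 F39462) (iv4 D25107) (iv1 F19668) (iv4 F38634) (iv5 F79940) (iv4 F169641) F174220 (iv0 D52075) (iv5 D25278)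
def n112079 : Q := act 1 n51687
theorem D112079 : act 1 n51687 = n112079 := rfl
theorem F174226 : act 4 n112079 = n52076 := d18_7 (iv1 F39353) F39351 F19616 (iv4 F19665) D25104 D51687 D112079 F82294 F80494
def n112080 : Q := act 3 n51687
theorem D112080 : act 3 n51687 = n112080 := rfl
def n112081 : Q := act 5 n51687
theorem D112081 : act 5 n51687 = n112081 := rfl
theorem F174228 : act 2 n112081 = n109662 := d2_1 D112081 (iv5 D109662) (iv2 F81602)
theorem F174229 : act 4 n112081 = n65241 := d9_1 D112081 F100989 F79958 F38639 (iv4 F38634) (iv5 F79940) (iv4 F169641) F169642 (iv4 D65582) (iv5 D30733) F24225 F11222 (iv4 F19665) D25104 D51687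
theorem F174230 : act 7 n112081 = n109681 := d16_8 (iv4 D65582) (iv5 D30733) F24225 F11222 (iv4 F19665) D25104 D51687 D112081 F169666
theorem F174231 : act 0 n112081 = n65134 := d18_0 (iv4 D65134) (iv1 F49213) D65652 (iv5 F171384) F171383 F82293 (iv4 F174220) (iv0 D112078) D112081
def n112084 : Q := act 5 n51689
theorem D112084 : act 5 n51689 = n112084 := rfl
def n112085 : Q := act 4 n51690
theorem D112085 : act 4 n51690 = n112085 := rfl
theorem F174244 : act 5 n112085 = n65134 := d16_1 D112085 (iv4 D65134) (iv5 D30580) F24150 (iv5 F19615) (iv4 F39351) D51602 F81456 (iv2 F81608)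
def n112087 : Q := act 0 n51691
theorem D112087 : act 0 n51691 = n112087 := rfl
theorem F174247 : act 1 n109862 = n112087 := d15_0 (iv0 D112087) F81611 D109862
def n112088 : Q := act 1 n51691
theorem D112088 : act 1 n51691 = n112088 := rfl
def n112089 : Q := act 2 n51691
theorem D112089 : act 2 n51691 = n112089 := rfl
theorem F174248 : act 3 n112089 = n51702 := d0_2 D51691 D112089 (iv2 D51702) (iv3 D25112) (iv2 F39463)
theorem F174249 : act 4 n112089 = n109692 := d1_2 (iv4 F81610) D112089 (iv2 D109692)
theorem F174250 : act 7 n112089 = n109862 := d4_2 (iv7 F81611) D112089 (iv2 D109862)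
theorem F174251 : act 1 n112089 = n109860 := d15_0 (iv0 D109860) (iv7 F81611) D112089
theorem F174252 : act 1 n112088 = n109862 := d15_1 D112088 (iv7 F174250) (iv2 D112089)
theorem F174253 : act 1 n109861 = n112089 := d15_1 D109861 F174250 (iv2 D109862)
def n112090 : Q := act 5 n51691
theorem D112090 : act 5 n51691 = n112090 := rfl
theorem F174254 : act 3 n112090 = n51692 := d6_1 D112090 (iv5 D51692) D51691
def n112091 : Q := act 6 n51691
theorem D112091 : act 6 n51691 = n112091 := rfl
theorem F174256 : act 3 n112091 = n51693 := d7_1 D112091 (iv6 D51693) D51691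
theorem F174257 : act 4 n112091 = n109694 := d10_1 D112091 (iv6 D109694) (iv4 F81610)
def n112093 : Q := act 0 n51693
theorem D112093 : act 0 n51693 = n112093 := rfl
def n112094 : Q := act 1 n51693
theorem D112094 : act 1 n51693 = n112094 := rfl
theorem F174260 : act 1 n112094 = n51710 := d15_1 D112094 (iv7 D51710) (iv2 F81618)
def n112095 : Q := act 5 n51693
theorem D112095 : act 5 n51693 = n112095 := rfl
theorem F174261 : act 2 n112095 = n51709 := d2_1 D112095 (iv5 D51709) (iv2 F81618)
theorem F174262 : act 0 n112095 = n111999 := d21_7 D25095 D51660 F81568 F39641 (iv1 F39466) D51693 D112095 (iv5 D111999) (iv6 D51654) (iv1 D25093)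
def n112096 : Q := act 7 n51693
theorem D112096 : act 7 n51693 = n112096 := rfl
theorem F174263 : act 2 n112096 = n51710 := d4_1 D112096 (iv7 D51710) (iv2 F81618)
theorem F174264 : act 4 n112096 = n51696 := d11_1 D112096 (iv7 D51696) (iv4 F81619)
theorem F174265 : act 6 n112096 = n109869 := d14_1 D112096 (iv7 D109869) (iv6 D50668) (iv7 F39464) D51693
theorem F174266 : act 1 n51710 = n112093 := d15_0 (iv0 D112093) D112096 F174263
theorem F174267 : act 1 n51708 = n112096 := d15_1 D51708 (iv7 D112096) F81618
theorem F174268 : act 4 n59225 = n112093 := d20_6 D24670 F48931 F19022 (iv3 F22326) D28122 D59225 (iv1 F174266) F81649 F39481 (iv1 F19690)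
theorem F174269 : act 2 n112093 = n51707 := d1_1 F174268 F173191 (iv2 F171922)
theorem F174270 : act 7 n112093 = n51708 := d11_2 (iv7 F171873) F174268 (iv4 F169335)
theorem F174271 : act 0 n106192 = n59225 := d18_0 F174268 (iv1 F174266) F81649 (iv5 F83902) D53246 (iv0 F168791) F168789 (iv0 F166053) F166052
theorem F174272 : act 2 n51708 = n112094 := d15_3 F174260 F174266 F174270
theorem F174273 : act 7 n51707 = n112094 := d4_2 (iv7 F174270) F174269 (iv2 F174272)
theorem F174274 : act 1 n112096 = n51707 := d15_1 F174267 F174273 (iv2 F174272)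
def n112097 : Q := act 4 n51694
theorem D112097 : act 4 n51694 = n112097 := rfl
theorem F174275 : act 2 n112097 = n51713 := d1_1 D112097 (iv4 D51713) (iv2 F99277)
theorem F174276 : act 6 n112097 = n51787 := d10_2 (iv6 F81751) D112097 (iv4 D51787)
theorem F174277 : act 7 n112097 = n51718 := d11_2 (iv7 F99278) D112097 (iv4 D51718)
theorem F174278 : act 0 n74175 = n112097 := d20_7 (iv4 F93138) (iv1 F168922) F168924 F168067 (iv1 D49074) (iv3 F77448) (iv4 F110928) (iv4 D112097) (iv3 F165558) (iv1 F82160)
theorem F174279 : act 1 n51713 = n74180 := d15_0 F166054 (iv7 F174277) F174275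
def n112098 : Q := act 5 n51694
theorem D112098 : act 5 n51694 = n112098 := rfl
theorem F174280 : act 2 n112098 = n51714 := d2_1 D112098 (iv5 D51714) (iv2 F99277)
theorem F174281 : act 3 n112098 = n108912 := d6_1 D112098 (iv5 D108912) F165558
theorem F174282 : act 7 n112098 = n51719 := d13_2 (iv7 F99278) D112098 (iv5 D51719)
theorem F174283 : act 0 n112098 = n53293 := d21_1 D112098 (iv5 F161273) (iv6 F161283) (iv1 D51554) (iv6 D25044) F22574 F22470 F22361 D25109 D51694
theorem F174284 : act 0 n109294 = n112098 := d21_10 (iv5 D112098) (iv1 F81624) (iv5 F83902) D53247 (iv1 F99206) F99208 (iv5 F84035) F173506 F173503 (iv6 F169311)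
def n112099 : Q := act 4 n51695
theorem D112099 : act 4 n51695 = n112099 := rfl
theorem F174285 : act 2 n112099 = n51718 := d1_1 D112099 (iv4 D51718) (iv2 F99279)
theorem F174286 : act 7 n112099 = n51713 := d11_2 (iv7 F99280) D112099 (iv4 D51713)
theorem F174287 : act 0 n112099 = n74175 := d20_1 D112099 F110928 F77448 F168060 (iv3 D28035) (iv4 F46780) (iv1 F39499) F39495 (iv3 F39481) (iv1 F81620)
def n112100 : Q := act 0 n51697
theorem D112100 : act 0 n51697 = n112100 := rfl
theorem F174288 : act 1 n109873 = n112100 := d15_0 (iv0 D112100) F81627 D109873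
def n112101 : Q := act 1 n51697
theorem D112101 : act 1 n51697 = n112101 := rfl
theorem F174289 : act 4 n111335 = n112101 := d20_6 (iv4 D24962) (iv1 D11854) D11855 D24966 D51350 D111335 (iv1 D112101) (iv4 F172674) (iv3 D111294) (iv1 F81007)
theorem F174290 : act 0 n109873 = n112101 := d20_1 F173031 (iv4 F174289) (iv3 D111335) (iv1 F170398) (iv3 D110245) (iv4 D50838) (iv1 F38700) D25183 D51900 (iv1 F173033)
def n112102 : Q := act 2 n51697
theorem D112102 : act 2 n51697 = n112102 := rfl
theorem F174291 : act 3 n112102 = n109876 := d0_2 D51697 D112102 (iv2 D109876) (iv3 D50673) F39475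
theorem F174292 : act 7 n112102 = n109873 := d4_2 (iv7 F81627) D112102 (iv2 D109873)
theorem F174293 : act 1 n112102 = n109871 := d15_0 (iv0 D109871) (iv7 F81627) D112102
theorem F174294 : act 1 n109872 = n112102 := d15_1 D109872 F174292 (iv2 D109873)
def n112103 : Q := act 6 n51697
theorem D112103 : act 6 n51697 = n112103 := rfl
theorem F174295 : act 3 n112103 = n51698 := d7_1 D112103 (iv6 D51698) D51697
theorem F174296 : act 7 n112103 = n109705 := d14_2 (iv7 F81627) D112103 (iv6 D109705) (iv7 F81755) F81754
def n112104 : Q := act 5 n51698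
theorem D112104 : act 5 n51698 = n112104 := rfl
theorem F174297 : act 2 n112104 = n109878 := d2_1 D112104 (iv5 D109878) (iv2 F81628)
theorem F174298 : act 7 n112104 = n109706 := d13_2 (iv7 F81629) D112104 (iv5 D109706)
def n112105 : Q := act 0 n51699
theorem D112105 : act 0 n51699 = n112105 := rfl
theorem F174299 : act 1 n109876 = n112105 := d15_0 (iv0 D112105) F81632 D109876
def n112106 : Q := act 1 n51699
theorem D112106 : act 1 n51699 = n112106 := rfl
def n112107 : Q := act 2 n51699
theorem D112107 : act 2 n51699 = n112107 := rfl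
theorem F174300 : act 3 n112107 = n109873 := d0_2 D51699 D112107 (iv2 D109873) (iv3 D50672) (iv2 F39472)
theorem F174301 : act 4 n112107 = n107586 := d1_2 (iv4 F81630) D112107 (iv2 D107586)
theorem F174302 : act 5 n112107 = n105711 := d2_2 F173668 D112107 F173689
theorem F174303 : act 6 n112107 = n109709 := d3_2 (iv6 F81631) D112107 (iv2 D109709)
theorem F174304 : act 7 n112107 = n109876 := d4_2 (iv7 F81632) D112107 (iv2 D109876)
theorem F174305 : act 1 n112107 = n109874 := d15_0 (iv0 D109874) (iv7 F81632) D112107
theorem F174306 : act 1 n112106 = n109876 := d15_1 D112106 (iv7 F174304) (iv2 D112107)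
theorem F174307 : act 1 n109875 = n112107 := d15_1 D109875 F174304 (iv2 D109876)
def n112108 : Q := act 3 n51700
theorem D112108 : act 3 n51700 = n112108 := rfl
theorem F174308 : act 7 n112108 = n109879 := d8_2 (iv7 F105371) D112108 (iv3 D109879)
theorem F174309 : act 4 n112108 = n52371 := d20_6 (iv4 D16486) F22451 D11931 D25112 D51700 D112108 (iv1 D52371) D52373 F82740 F45403
theorem F174310 : act 7 n52371 = n105228 := d11_2 (iv7 F174308) F174309 (iv4 F169881)
theorem F174311 : act 2 n105228 = n52370 := d15_3 (iv0 D52370) D52371 F174310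
theorem F174312 : act 2 n52371 = n105227 := d15_3 (iv0 D105227) D105228 (iv7 F174310)
theorem F174313 : act 7 n105227 = n52370 := d4_2 (iv7 F174310) F174312 (iv2 F174311)
def n112109 : Q := act 6 n51700
theorem D112109 : act 6 n51700 = n112109 := rfl
theorem F174314 : act 2 n112109 = n109882 := d3_1 D112109 (iv6 D109882) F105370
def n112110 : Q := act 6 n51701
theorem D112110 : act 6 n51701 = n112110 := rfl
theorem F174316 : act 4 n112110 = n110059 := d10_1 D112110 (iv6 D110059) F81634
def n112111 : Q := act 5 n51702
theorem D112111 : act 5 n51702 = n112111 := rfl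
theorem F174317 : act 2 n112111 = n51703 := d2_1 D112111 (iv5 D51703) D51702
theorem F174318 : act 7 n112111 = n109883 := d13_2 (iv7 F81636) D112111 (iv5 D109883)
theorem F174319 : act 1 n112111 = n109885 := d17_6 D25067 (iv5 F171327) (iv1 F39447) (iv5 F39485) (iv4 F81635) D112111 (iv5 F171323) (iv0 D51566) F39312
theorem F174320 : act 1 n109886 = n112111 := d15_0 F174319 (iv7 F169897) (iv2 F169896)
def n112112 : Q := act 6 n51702
theorem D112112 : act 6 n51702 = n112112 := rfl
theorem F174321 : act 2 n112112 = n51704 := d3_1 D112112 (iv6 D51704) D51702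
def n112113 : Q := act 4 n51703
theorem D112113 : act 4 n51703 = n112113 := rfl
theorem F174323 : act 7 n112113 = n109887 := d11_2 (iv7 F81641) D112113 (iv4 D109887)
def n112114 : Q := act 6 n51703
theorem D112114 : act 6 n51703 = n112114 := rfl
theorem F174324 : act 3 n112114 = n51706 := d7_1 D112114 (iv6 D51706) (iv3 F81640)
def n112115 : Q := act 0 n51704
theorem D112115 : act 0 n51704 = n112115 := rfl
def n112116 : Q := act 1 n51704
theorem D112116 : act 1 n51704 = n112116 := rfl
def n112117 : Q := act 5 n51704
theorem D112117 : act 5 n51704 = n112117 := rfl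
theorem F174325 : act 3 n112117 = n51709 := d6_1 D112117 (iv5 D51709) (iv3 F81642)
def n112118 : Q := act 7 n51704
theorem D112118 : act 7 n51704 = n112118 := rfl
theorem F174326 : act 3 n112118 = n51710 := d8_1 D112118 (iv7 D51710) (iv3 F81642)
def n112119 : Q := act 3 n51705
theorem D112119 : act 3 n51705 = n112119 := rfl
theorem F174329 : act 5 n112119 = n59247 := d6_2 (iv5 F81645) D112119 (iv3 D59247)
theorem F174330 : act 7 n112119 = n109896 := d8_2 (iv7 F81646) D112119 (iv3 D109896)
def n112120 : Q := act 6 n51705
theorem D112120 : act 6 n51705 = n112120 := rfl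
theorem F174331 : act 2 n112120 = n59253 := d3_1 D112120 (iv6 D59253) (iv2 F81644)
theorem F174332 : act 4 n112120 = n51706 := d10_1 D112120 (iv6 D51706) D51705
def n112121 : Q := act 0 n51706
theorem D112121 : act 0 n51706 = n112121 := rfl
def n112122 : Q := act 1 n51706
theorem D112122 : act 1 n51706 = n112122 := rfl
def n112123 : Q := act 5 n51706
theorem D112123 : act 5 n51706 = n112123 := rfl
theorem F174333 : act 6 n112123 = n51709 := d12_2 D51706 D112123 (iv5 D51709) (iv6 D25114) D25113
def n112124 : Q := act 7 n51706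
theorem D112124 : act 7 n51706 = n112124 := rfl
theorem F174334 : act 6 n112124 = n109901 := d14_1 D112124 (iv7 D109901) (iv6 D50683) (iv7 F39479) D51706
def n112125 : Q := act 3 n51707
theorem D112125 : act 3 n51707 = n112125 := rfl
def n112126 : Q := act 5 n51707
theorem D112126 : act 5 n51707 = n112126 := rfl
def n112127 : Q := act 6 n51707
theorem D112127 : act 6 n51707 = n112127 := rfl
def n112128 : Q := act 3 n51708
theorem D112128 : act 3 n51708 = n112128 := rfl
def n112129 : Q := act 5 n51708
theorem D112129 : act 5 n51708 = n112129 := rfl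
def n112130 : Q := act 6 n51708
theorem D112130 : act 6 n51708 = n112130 := rfl
def n112131 : Q := act 1 n51709
theorem D112131 : act 1 n51709 = n112131 := rfl
theorem F174335 : act 7 n112131 = n111999 := d15_2 (iv0 F169334) D112131 F174079
theorem F174336 : act 5 n112131 = n112000 := d17_7 (iv1 F81549) F81545 (iv1 F40805) F24321 (iv4 F39480) D51709 D112131 F174083 (iv4 D109293)
def n112132 : Q := act 4 n51709
theorem D112132 : act 4 n51709 = n112132 := rfl
def n112133 : Q := act 7 n51709
theorem D112133 : act 7 n51709 = n112133 := rfl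
theorem F174337 : act 5 n112133 = n51710 := d13_1 D112133 (iv7 D51710) D51709
theorem F174338 : act 0 n111999 = n112133 := d17_2 F174051 D111999 F174337 F81649 (iv5 F83902) (iv0 D25817) (iv5 F39428) D51649 D111988
def n112134 : Q := act 4 n51712
theorem D112134 : act 4 n51712 = n112134 := rfl
theorem F174339 : act 2 n112134 = n58982 := d1_1 D112134 F172662 (iv2 F172658)
theorem F174340 : act 6 n112134 = n59019 := d10_2 (iv6 F168168) D112134 (iv4 F168169)
theorem F174341 : act 7 n112134 = n58983 := d11_2 F172664 D112134 (iv4 F172665)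
theorem F174343 : act 0 n58974 = n112134 := d20_1 (iv4 F93178) (iv4 D112134) (iv3 D51712) (iv1 F81626) F81622 (iv4 F169687) (iv1 F169689) D109741 (iv3 F169725) (iv1 D58976)
def n112135 : Q := act 5 n51712
theorem D112135 : act 5 n51712 = n112135 := rfl
theorem F174344 : act 3 n112135 = n51714 := d6_1 D112135 (iv5 D51714) D51712
def n112136 : Q := act 0 n51713
theorem D112136 : act 0 n51713 = n112136 := rfl
theorem F174345 : act 4 n112136 = n106195 := d20_2 D51713 D112136 F163186 (iv1 F77453) (iv3 F168078) (iv4 F47642) (iv1 D25123) F19685 (iv3 F19681) D25115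
theorem F174346 : act 1 n51718 = n112136 := d15_0 (iv0 D112136) (iv7 F174286) F174285
theorem F174347 : act 7 n112136 = n74175 := d15_2 F166054 F174346 (iv2 F110940)
theorem F174348 : act 6 n109915 = n112136 := d14_5 F174347 (iv6 D74175) (iv7 F53374) D59150 F169928
def n112137 : Q := act 3 n51713
theorem D112137 : act 3 n51713 = n112137 := rfl
def n112138 : Q := act 5 n51713
theorem D112138 : act 5 n51713 = n112138 := rfl
def n112139 : Q := act 6 n51713
theorem D112139 : act 6 n51713 = n112139 := rfl
theorem F174349 : act 2 n112139 = n51787 := d3_1 D112139 (iv6 F174276) F174275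
theorem F174350 : act 4 n112139 = n51715 := d10_1 D112139 (iv6 D51715) D51713
theorem F174351 : act 7 n51783 = n112139 := d11_0 F174350 F99266 D51783
theorem F174352 : act 0 n112139 = n58888 := d20_1 (iv4 F174350) F93111 F45269 D28002 (iv3 F168022) (iv4 F79851) (iv1 F39577) F39573 (iv3 F39559) F81653
def n112140 : Q := act 4 n51714
theorem D112140 : act 4 n51714 = n112140 := rfl
def n112141 : Q := act 4 n51717
theorem D112141 : act 4 n51717 = n112141 := rfl
theorem F174353 : act 2 n112141 = n58874 := d1_1 D112141 F93099 (iv2 F165555)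
theorem F174354 : act 7 n112141 = n58873 := d11_2 (iv7 F165557) D112141 F165565
theorem F174355 : act 0 n112141 = n58777 := d18_2 (iv1 F165554) D112141 F92914 F45166 D31741 F82149 F82142 F39790 D49506
theorem F174356 : act 1 n112141 = n58876 := d18_6 F100266 (iv4 F165305) F172328 F172327 (iv5 F165556) D112141 F93100 F100258 D59238
def n112142 : Q := act 6 n51717
theorem D112142 : act 6 n51717 = n112142 := rfl
theorem F174357 : act 2 n112142 = n107067 := d3_1 D112142 F165042 (iv2 F165555)
theorem F174358 : act 3 n112142 = n51720 := d7_1 D112142 (iv6 D51720) D51717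
theorem F174359 : act 5 n112142 = n51997 := d12_1 D112142 (iv6 F163705) (iv5 D106450) D106451 (iv5 F165556)
theorem F174360 : act 7 n112142 = n105223 := d14_2 (iv7 F165557) D112142 (iv6 D105223) F165496 (iv6 F92951)
theorem F174361 : act 0 n112142 = n106984 := d21_10 (iv5 D106984) (iv1 F82691) (iv5 D52309) D52310 (iv1 F100374) F165155 (iv5 F82164) F163707 (iv5 F165556) D112142
theorem F174362 : act 0 n105278 = n112142 := d21_10 F174359 (iv1 F82129) F78210 (iv6 F76506) (iv1 F76508) D52293 (iv5 F168644) F168646 (iv5 D105277) D105278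
def n112143 : Q := act 3 n51718
theorem D112143 : act 3 n51718 = n112143 := rfl
def n112144 : Q := act 5 n51718
theorem D112144 : act 5 n51718 = n112144 := rfl
def n112145 : Q := act 6 n51718
theorem D112145 : act 6 n51718 = n112145 := rfl
theorem F174363 : act 4 n112145 = n51720 := d10_1 D112145 (iv6 D51720) D51718
def n112146 : Q := act 4 n51719
theorem D112146 : act 4 n51719 = n112146 := rfl
theorem F174364 : act 6 n112146 = n53366 := d10_2 F81657 D112146 (iv4 D53366)
def n112147 : Q := act 6 n51722
theorem D112147 : act 6 n51722 = n112147 := rfl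
def n112148 : Q := act 1 n51723
theorem D112148 : act 1 n51723 = n112148 := rfl
theorem F174366 : act 1 n112148 = n51728 := d15_1 D112148 (iv7 F170017) F170023
theorem F174367 : act 7 n112148 = n109929 := d15_2 (iv0 F81933) D112148 F170442
theorem F174368 : act 4 n112148 = n110263 := d18_7 (iv1 F170201) D110202 F170373 (iv4 D51790) F81766 D51723 D112148 F170480 (iv5 F169705)
theorem F174369 : act 2 n109928 = n112148 := d1_3 F174368 (iv2 D110263) (iv4 F170045)
theorem F174370 : act 3 n109513 = n112148 := d5_5 F174368 F170478 F170447 D58934 F169469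
theorem F174371 : act 7 n74182 = n109513 := d8_0 F174370 F174367 F170367
theorem F174372 : act 2 n109513 = n74181 := d15_3 (iv0 D74181) D74182 F174371
theorem F174373 : act 2 n74182 = n109512 := d15_3 (iv0 D109512) D109513 (iv7 F174371)
theorem F174374 : act 7 n109512 = n74181 := d4_2 (iv7 F174371) F174373 (iv2 F174372)
def n112149 : Q := act 3 n51723
theorem D112149 : act 3 n51723 = n112149 := rfl
theorem F174375 : act 7 n112149 = n109930 := d8_2 (iv7 F170022) D112149 (iv3 D109930)
theorem F174376 : act 0 n112149 = n59922 := d19_4 D25145 F81766 D51723 D112149 (iv5 D59922) F45985 (iv3 D13573) F11254 (iv5 D6990) (iv4 D3159) (iv3 F4949) D6981 D14613 F24287 (iv3 D11975) F8661 F4891 D5602 D11941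
theorem F174377 : act 5 n67038 = n112149 := d18_9 F174376 F165983 (iv1 D107585) (iv4 F81630) (iv5 F173668) (iv4 F173670) F173672 D66400 (iv0 F103086)
def n112150 : Q := act 5 n51723
theorem D112150 : act 5 n51723 = n112150 := rfl
theorem F174378 : act 2 n112150 = n109938 := d2_1 D112150 (iv5 D109938) F170023
theorem F174379 : act 3 n112150 = n67038 := d6_1 D112150 F174377 (iv3 D112149)
theorem F174380 : act 7 n112150 = n109931 := d13_2 (iv7 F170022) D112150 (iv5 D109931)
theorem F174381 : act 4 n67078 = n112150 := d5_0 F174379 (iv4 D67038) F49539 D31226 D67078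
theorem F174382 : act 0 n111838 = n67078 := d20_1 D111838 F174381 F174379 F103086 F102290 (iv4 D31558) (iv1 F50766) D28416 D59861 F94317
def n112151 : Q := act 6 n51723
theorem D112151 : act 6 n51723 = n112151 := rfl
theorem F174383 : act 2 n112151 = n109939 := d3_1 D112151 (iv6 D109939) F170023
theorem F174384 : act 4 n112151 = n51725 := d10_1 D112151 (iv6 D51725) D51723
def n112152 : Q := act 0 n51725
theorem D112152 : act 0 n51725 = n112152 := rfl
def n112153 : Q := act 1 n51725
theorem D112153 : act 1 n51725 = n112153 := rfl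
def n112154 : Q := act 5 n51725
theorem D112154 : act 5 n51725 = n112154 := rfl
def n112155 : Q := act 7 n51725
theorem D112155 : act 7 n51725 = n112155 := rfl
theorem F174387 : act 2 n112155 = n109943 := d4_1 D112155 (iv7 D109943) (iv2 F170039)
theorem F174389 : act 1 n109943 = n112152 := d15_0 (iv0 D112152) D112155 F174387
def n112156 : Q := act 6 n51727
theorem D112156 : act 6 n51727 = n112156 := rfl
theorem F174392 : act 3 n112156 = n51730 := d7_1 D112156 (iv6 D51730) D51727
def n112157 : Q := act 3 n51728
theorem D112157 : act 3 n51728 = n112157 := rfl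
theorem F174393 : act 7 n112157 = n109047 := d8_2 F170017 D112157 F169048
theorem F174394 : act 0 n74176 = n112157 := d20_4 (iv4 F39644) (iv1 F45401) (iv4 F53376) D74176 (iv3 D112157) (iv4 D51728) (iv1 D25119) (iv4 F39477) (iv3 D25112) D25110
theorem F174395 : act 1 n109044 = n112157 := d15_0 (iv0 F174394) F110930 (iv2 F169045)
def n112158 : Q := act 5 n51728
theorem D112158 : act 5 n51728 = n112158 := rfl
theorem F174396 : act 2 n112158 = n109931 := d2_1 D112158 (iv5 D109931) F170018
theorem F174397 : act 7 n112158 = n109938 := d13_2 F170017 D112158 (iv5 D109938)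
def n112159 : Q := act 6 n51728
theorem D112159 : act 6 n51728 = n112159 := rfl
theorem F174399 : act 4 n112159 = n51730 := d10_1 D112159 (iv6 D51730) D51728
def n112185 : Q := act 4 n51736
theorem D112185 : act 4 n51736 = n112185 := rfl
theorem F174429 : act 3 n112185 = n59237 := d5_1 D112185 (iv4 D59237) (iv3 D28126) (iv4 F47645) D51736
theorem F174430 : act 6 n112185 = n109970 := d10_2 (iv6 F81666) D112185 (iv4 D109970)
def n112187 : Q := act 4 n51737
theorem D112187 : act 4 n51737 = n112187 := rfl
theorem F174435 : act 7 n112187 = n109822 := d11_2 (iv7 F81669) D112187 (iv4 D109822)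
def n112189 : Q := act 0 n51738
theorem D112189 : act 0 n51738 = n112189 := rfl
def n112192 : Q := act 4 n51738
theorem D112192 : act 4 n51738 = n112192 := rfl
theorem F174444 : act 3 n112192 = n59144 := d5_1 D112192 (iv4 D59144) (iv3 F168078) (iv4 F47642) D51738
def n112194 : Q := act 6 n51738
theorem D112194 : act 6 n51738 = n112194 := rfl
theorem F174448 : act 3 n112194 = n51740 := d7_1 D112194 (iv6 D51740) D51738
theorem F174449 : act 7 n112194 = n109966 := d14_2 (iv7 F81670) D112194 (iv6 D109966) (iv7 F81800) F81799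
theorem F174450 : act 5 n109653 = n112194 := d13_3 F174449 (iv5 F174215) F174216
def n112195 : Q := act 4 n51739
theorem D112195 : act 4 n51739 = n112195 := rfl
theorem F174451 : act 2 n112195 = n109822 := d1_1 D112195 (iv4 D109822) (iv2 F81671)
def n112199 : Q := act 3 n51742
theorem D112199 : act 3 n51742 = n112199 := rfl
theorem F174461 : act 6 n112199 = n112080 := d7_2 (iv6 F81687) D112199 (iv3 D112080)
def n112200 : Q := act 7 n51742
theorem D112200 : act 7 n51742 = n112200 := rfl
theorem F174463 : act 4 n112200 = n51743 := d11_1 D112200 (iv7 D51743) D51742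
theorem F174464 : act 5 n112200 = n109858 := d13_1 D112200 F169848 F101780
theorem F174465 : act 1 n109830 = n112200 := d15_1 D109830 (iv7 D112200) F81686
def n112202 : Q := act 3 n51747
theorem D112202 : act 3 n51747 = n112202 := rfl
theorem F174473 : act 7 n112202 = n108965 := d8_2 F163936 D112202 (iv3 D108965)
def n112203 : Q := act 5 n51747
theorem D112203 : act 5 n51747 = n112203 := rfl
theorem F174474 : act 2 n112203 = n108963 := d2_1 D112203 (iv5 D108963) F164017
theorem F174475 : act 7 n112203 = n108966 := d13_2 F163936 D112203 (iv5 D108966)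
def n112204 : Q := act 4 n51748
theorem D112204 : act 4 n51748 = n112204 := rfl
theorem F174476 : act 2 n112204 = n108964 := d1_1 D112204 (iv4 D108964) (iv2 F163911)
theorem F174477 : act 7 n112204 = n67432 := d11_2 (iv7 F81702) D112204 F103291
def n112207 : Q := act 2 n51749
theorem D112207 : act 2 n51749 = n112207 := rfl
theorem F174480 : act 6 n112207 = n109994 := d3_2 (iv6 F81703) D112207 (iv2 D109994)
theorem F174482 : act 1 n112207 = n109846 := d15_0 (iv0 D109846) (iv7 F81704) D112207
def n112211 : Q := act 3 n51751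
theorem D112211 : act 3 n51751 = n112211 := rfl
theorem F174491 : act 7 n112211 = n67442 := d8_2 (iv7 F81708) D112211 F103294
def n112212 : Q := act 0 n51758
theorem D112212 : act 0 n51758 = n112212 := rfl
theorem F174492 : act 1 n109841 = n112212 := d15_0 (iv0 D112212) F81723 D109841
def n112213 : Q := act 1 n51758
theorem D112213 : act 1 n51758 = n112213 := rfl
def n112214 : Q := act 2 n51758
theorem D112214 : act 2 n51758 = n112214 := rfl
theorem F174494 : act 7 n112214 = n109841 := d4_2 (iv7 F81723) D112214 (iv2 D109841)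
theorem F174497 : act 1 n109840 = n112214 := d15_1 D109840 F174494 (iv2 D109841)
def n112216 : Q := act 6 n51758
theorem D112216 : act 6 n51758 = n112216 := rfl
theorem F174500 : act 3 n112216 = n51760 := d7_1 D112216 (iv6 D51760) D51758
def n112219 : Q := act 3 n51761
theorem D112219 : act 3 n51761 = n112219 := rfl
theorem F174507 : act 6 n112219 = n53841 := d7_2 (iv6 F81732) D112219 (iv3 D53841)
theorem F174508 : act 7 n112219 = n109845 := d8_2 (iv7 F81733) D112219 (iv3 D109845)
def n112220 : Q := act 0 n51762
theorem D112220 : act 0 n51762 = n112220 := rfl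
theorem F174509 : act 3 n112220 = n111609 := d20_5 (iv4 D24570) F20249 D25135 D51762 D112220 (iv4 D111609) (iv1 D51475) D51477 F81260 (iv1 F48580)
theorem F174510 : act 1 n109692 = n112220 := d15_0 (iv0 D112220) F81736 D109692
def n112221 : Q := act 1 n51762
theorem D112221 : act 1 n51762 = n112221 := rfl
def n112222 : Q := act 2 n51762
theorem D112222 : act 2 n51762 = n112222 := rfl
theorem F174511 : act 3 n112222 = n51772 := d0_2 D51762 D112222 (iv2 D51772) (iv3 D25139) (iv2 F39547)
theorem F174512 : act 4 n112222 = n109862 := d1_2 (iv4 F81735) D112222 (iv2 D109862)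
theorem F174513 : act 7 n112222 = n109692 := d4_2 (iv7 F81736) D112222 (iv2 D109692)
theorem F174514 : act 1 n112222 = n109690 := d15_0 (iv0 D109690) (iv7 F81736) D112222
theorem F174515 : act 1 n112221 = n109692 := d15_1 D112221 (iv7 F174513) (iv2 D112222)
theorem F174516 : act 1 n109691 = n112222 := d15_1 D109691 F174513 (iv2 D109692)
def n112223 : Q := act 5 n51762
theorem D112223 : act 5 n51762 = n112223 := rfl
theorem F174517 : act 3 n112223 = n51763 := d6_1 D112223 (iv5 D51763) D51762
theorem F174518 : act 7 n112223 = n109693 := d13_2 (iv7 F81736) D112223 (iv5 D109693)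
def n112224 : Q := act 6 n51762
theorem D112224 : act 6 n51762 = n112224 := rfl
theorem F174519 : act 3 n112224 = n51764 := d7_1 D112224 (iv6 D51764) D51762
theorem F174520 : act 4 n112224 = n109864 := d10_1 D112224 (iv6 D109864) (iv4 F81735)
def n112225 : Q := act 6 n51763
theorem D112225 : act 6 n51763 = n112225 := rfl
theorem F174521 : act 2 n112225 = n51776 := d3_1 D112225 (iv6 D51776) (iv2 F81737)
theorem F174522 : act 4 n112225 = n105614 := d10_1 D112225 (iv6 D105614) (iv4 F81738)
def n112226 : Q := act 0 n51764
theorem D112226 : act 0 n51764 = n112226 := rfl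
theorem F174523 : act 4 n112226 = n59259 := d18_3 F81654 (iv4 F81743) D112226 (iv5 F95542) F99240 (iv0 D63831) F48407 D30118 (iv5 F81652)
theorem F174524 : act 0 n112226 = n51780 := d20_1 (iv4 F174523) F81776 F39559 (iv1 F19706) D24696 D50732 (iv1 F171523) (iv4 F98198) F98197 F173090
def n112227 : Q := act 1 n51764
theorem D112227 : act 1 n51764 = n112227 := rfl
theorem F174525 : act 1 n112227 = n51780 := d15_1 D112227 (iv7 D51780) (iv2 F81742)
def n112228 : Q := act 5 n51764
theorem D112228 : act 5 n51764 = n112228 := rfl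
theorem F174526 : act 2 n112228 = n51779 := d2_1 D112228 (iv5 D51779) (iv2 F81742)
theorem F174527 : act 1 n112228 = n111853 := d17_6 D25053 D51581 F81414 F40713 (iv4 F81743) D112228 (iv5 D111853) (iv0 D51574) F39315
def n112229 : Q := act 7 n51764
theorem D112229 : act 7 n51764 = n112229 := rfl
theorem F174528 : act 2 n112229 = n51780 := d4_1 D112229 (iv7 D51780) (iv2 F81742)
theorem F174529 : act 4 n112229 = n51766 := d11_1 D112229 (iv7 D51766) (iv4 F81743)
theorem F174530 : act 6 n112229 = n109699 := d14_1 D112229 (iv7 D109699) (iv6 D50595) (iv7 F39548) D51764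
theorem F174531 : act 1 n51778 = n112229 := d15_1 D51778 (iv7 D112229) F81742
theorem F174532 : act 5 n111858 = n51778 := d17_7 (iv1 F81749) F81750 (iv1 D29877) F23700 (iv4 F39315) D51576 D111858 F174531 F174529
theorem F174533 : act 6 n112093 = n51778 := d21_5 (iv5 F80039) (iv1 F81616) (iv5 D51692) D51693 D112093 (iv5 F174532) (iv1 D111858) (iv5 D51576) (iv6 D25052) D25048
theorem F174534 : act 2 n51778 = n112127 := d3_1 F174533 (iv6 D112127) (iv2 F174269)
theorem F174535 : act 1 n112229 = n51777 := d15_0 (iv0 D51777) D51780 (iv2 F174528)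
theorem F174536 : act 7 n51777 = n112127 := d15_2 F174531 F174535 (iv2 F174534)
def n112230 : Q := act 4 n51765
theorem D112230 : act 4 n51765 = n112230 := rfl
theorem F174537 : act 2 n112230 = n51783 := d1_1 D112230 (iv4 D51783) (iv2 F99261)
theorem F174538 : act 7 n112230 = n51787 := d11_2 (iv7 F99262) D112230 (iv4 D51787)
theorem F174539 : act 0 n58888 = n112230 := d20_7 (iv4 F82730) (iv1 F163887) (iv4 D59160) F168027 (iv1 D28003) (iv3 F45269) (iv4 F93111) (iv4 D112230) F165563 (iv1 F76537)
theorem F174540 : act 5 n61929 = n58890 := d18_9 (iv1 D58890) (iv4 F93111) F174539 (iv4 D112230) F81744 D63837 F168174 F48424 D61929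
theorem F174541 : act 3 n58890 = n59228 := d6_1 F174540 F95459 F171902
theorem F174542 : act 7 n58890 = n59259 := d13_2 (iv7 F171901) F174540 (iv5 F95542)
theorem F174543 : act 4 n58890 = n51778 := d18_5 (iv1 F48413) (iv4 F99236) (iv1 F99239) (iv4 F171904) F174540 F174531 F174529 F81752 F81336
theorem F174544 : act 0 n108416 = n60912 := d21_4 F93557 F48130 (iv5 F79244) D108416 (iv6 F171903) F174540 (iv1 D58890) D58891 F93114 D59325
theorem F174545 : act 6 n59225 = n58890 := d21_5 F76572 F48794 (iv5 F77444) D106192 F174271 (iv5 F174540) (iv1 D61929) (iv5 F76579) (iv6 D48674) D48673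
theorem F174546 : act 7 n51778 = n112226 := d11_2 (iv7 F174542) F174543 F174523
theorem F174547 : act 2 n112226 = n51777 := d4_1 F174546 F174536 (iv2 F174534)
theorem E17373 : n112227 = n112127 := ((c15_4 F174525 (iv0 F174524) (iv7 F174546) F174534)).symm
theorem F174548 : act 0 n112127 = n51764 := (sb E17373 (iv1 D112227))
theorem F174549 : act 1 n112127 = n51780 := (sb E17373 F174525)
theorem F174550 : act 2 n59259 = n58889 := d15_3 (iv0 D58889) D58890 F174542
theorem F174551 : act 3 n58889 = n109011 := d0_2 D59259 F174550 (iv2 F171889) F168554 F171882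
theorem F174552 : act 4 n58889 = n51777 := d1_2 F174523 F174550 (iv2 F174547)
theorem F174553 : act 5 n58889 = n61928 := d2_2 F95542 F174550 F171899
theorem F174554 : act 5 n111857 = n51777 := d17_3 (iv1 D51575) D51576 D111857 (iv4 F174552) F174553 (iv0 D61928) (iv5 F76579) D105282 F169874
theorem E17374 : n109919 = n58900 := (c20_7 F174552 (iv1 F174535) F174529 F81747 (iv1 F80032) D50693 D109919 (iv1 D58900) F45270 (iv3 F45269) D58889)
theorem F174555 : act 4 n58900 = n50693 := (sb E17374 (iv4 D109919))
theorem F174556 : act 6 n58900 = n52324 := (sb E17374 F169936)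
def n112231 : Q := act 0 n51767
theorem D112231 : act 0 n51767 = n112231 := rfl
theorem F174557 : act 1 n109704 = n112231 := d15_0 (iv0 D112231) F81755 D109704
def n112232 : Q := act 1 n51767
theorem D112232 : act 1 n51767 = n112232 := rfl
def n112233 : Q := act 2 n51767
theorem D112233 : act 2 n51767 = n112233 := rfl
theorem F174558 : act 3 n112233 = n109709 := d0_2 D51767 D112233 (iv2 D109709) (iv3 D50601) F39638
theorem F174559 : act 4 n112233 = n108920 := d1_2 (iv4 F81753) D112233 (iv2 D108920)
theorem F174560 : act 6 n112233 = n109873 := d3_2 (iv6 F81754) D112233 (iv2 D109873)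
theorem F174561 : act 7 n112233 = n109704 := d4_2 (iv7 F81755) D112233 (iv2 D109704)
theorem F174562 : act 1 n112233 = n109702 := d15_0 (iv0 D109702) (iv7 F81755) D112233
theorem F174563 : act 1 n112232 = n109704 := d15_1 D112232 (iv7 F174561) (iv2 D112233)
theorem F174564 : act 1 n109703 = n112233 := d15_1 D109703 F174561 (iv2 D109704)
def n112234 : Q := act 0 n51768
theorem D112234 : act 0 n51768 = n112234 := rfl
theorem F174565 : act 3 n112234 = n105252 := d20_5 (iv4 F81259) F81258 F39636 D51768 D112234 (iv4 D105252) (iv1 D48663) (iv4 F48582) (iv3 D30202) D30201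
theorem F174566 : act 1 n109709 = n112234 := d15_0 (iv0 D112234) F81756 D109709
def n112235 : Q := act 1 n51768
theorem D112235 : act 1 n51768 = n112235 := rfl
def n112236 : Q := act 2 n51768
theorem D112236 : act 2 n51768 = n112236 := rfl
theorem F174567 : act 3 n112236 = n109704 := d0_2 D51768 D112236 (iv2 D109704) (iv3 D50599) (iv2 F39639)
theorem F174568 : act 4 n112236 = n69205 := d1_2 F81961 D112236 (iv2 F105499)
theorem F174569 : act 7 n112236 = n109709 := d4_2 (iv7 F81756) D112236 (iv2 D109709)
theorem F174570 : act 1 n112236 = n109707 := d15_0 (iv0 D109707) (iv7 F81756) D112236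
theorem F174571 : act 1 n112235 = n109709 := d15_1 D112235 (iv7 F174569) (iv2 D112236)
theorem F174572 : act 1 n109708 = n112236 := d15_1 D109708 F174569 (iv2 D109709)
def n112237 : Q := act 6 n51768
theorem D112237 : act 6 n51768 = n112237 := rfl
theorem F174573 : act 3 n112237 = n51769 := d7_1 D112237 (iv6 D51769) D51768
theorem F174574 : act 7 n112237 = n109877 := d14_2 (iv7 F81756) D112237 (iv6 D109877) (iv7 F81632) F81631
def n112238 : Q := act 5 n51769
theorem D112238 : act 5 n51769 = n112238 := rfl
theorem F174575 : act 2 n112238 = n109706 := d2_1 D112238 (iv5 D109706) (iv2 F81757)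
theorem F174576 : act 7 n112238 = n109878 := d13_2 (iv7 F81758) D112238 (iv5 D109878)
def n112239 : Q := act 3 n51770
theorem D112239 : act 3 n51770 = n112239 := rfl
theorem F174577 : act 7 n112239 = n109710 := d8_2 F105377 D112239 (iv3 D109710)
def n112240 : Q := act 6 n51770
theorem D112240 : act 6 n51770 = n112240 := rfl
def n112241 : Q := act 3 n51771
theorem D112241 : act 3 n51771 = n112241 := rfl
theorem F174580 : act 4 n112241 = n110000 := d5_2 F81761 D112241 (iv3 D110000) (iv4 D50737) D50736
theorem F174581 : act 7 n112241 = n109714 := d8_2 (iv7 F105366) D112241 (iv3 D109714)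
def n112242 : Q := act 6 n51771
theorem D112242 : act 6 n51771 = n112242 := rfl
theorem F174582 : act 2 n112242 = n109713 := d3_1 D112242 (iv6 D109713) (iv2 F105376)
theorem F174583 : act 4 n112242 = n109998 := d10_1 D112242 (iv6 D109998) F81761
def n112243 : Q := act 5 n51772
theorem D112243 : act 5 n51772 = n112243 := rfl
theorem F174584 : act 2 n112243 = n51773 := d2_1 D112243 (iv5 D51773) D51772
theorem F174585 : act 7 n112243 = n109716 := d13_2 (iv7 F81763) D112243 (iv5 D109716)
theorem F174586 : act 0 n112243 = n109719 := d17_2 (iv1 F81764) D112243 F169709 (iv4 F81558) (iv5 F105476) (iv0 F170376) (iv5 D110203) F170201 (iv4 D109711)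
theorem F174587 : act 1 n112243 = n109718 := d17_6 D25100 F105474 (iv1 F39358) (iv5 F39563) (iv4 F81762) D112243 F171076 (iv0 D51655) F39431
def n112244 : Q := act 6 n51772
theorem D112244 : act 6 n51772 = n112244 := rfl
def n112245 : Q := act 4 n51773
theorem D112245 : act 4 n51773 = n112245 := rfl
theorem F174590 : act 7 n112245 = n109720 := d11_2 (iv7 F81769) D112245 (iv4 D109720)
def n112246 : Q := act 6 n51773
theorem D112246 : act 6 n51773 = n112246 := rfl
theorem F174591 : act 3 n112246 = n51776 := d7_1 D112246 (iv6 D51776) (iv3 F81768)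
def n112249 : Q := act 5 n51774
theorem D112249 : act 5 n51774 = n112249 := rfl
theorem F174592 : act 3 n112249 = n51779 := d6_1 D112249 (iv5 D51779) (iv3 F81770)
def n112250 : Q := act 7 n51774
theorem D112250 : act 7 n51774 = n112250 := rfl
theorem F174593 : act 3 n112250 = n51780 := d8_1 D112250 (iv7 D51780) (iv3 F81770)
def n112251 : Q := act 3 n51775
theorem D112251 : act 3 n51775 = n112251 := rfl
theorem F174596 : act 5 n112251 = n53249 := d6_2 (iv5 F81773) D112251 (iv3 D53249)
theorem F174597 : act 7 n112251 = n105620 := d8_2 (iv7 F81774) D112251 F162221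
def n112252 : Q := act 6 n51775
theorem D112252 : act 6 n51775 = n112252 := rfl
theorem F174598 : act 2 n112252 = n105614 := d3_1 D112252 (iv6 D105614) (iv2 F81772)
theorem F174599 : act 4 n112252 = n51776 := d10_1 D112252 (iv6 D51776) D51775
def n112253 : Q := act 0 n51776
theorem D112253 : act 0 n51776 = n112253 := rfl
def n112254 : Q := act 1 n51776
theorem D112254 : act 1 n51776 = n112254 := rfl
def n112255 : Q := act 5 n51776
theorem D112255 : act 5 n51776 = n112255 := rfl
theorem F174600 : act 6 n112255 = n51779 := d12_2 D51776 D112255 (iv5 D51779) (iv6 D25141) D25140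
def n112256 : Q := act 7 n51776
theorem D112256 : act 7 n51776 = n112256 := rfl
theorem F174601 : act 6 n112256 = n109733 := d14_1 D112256 (iv7 D109733) (iv6 D50609) (iv7 F39557) D51776
def n112257 : Q := act 3 n51777
theorem D112257 : act 3 n51777 = n112257 := rfl
theorem F174602 : act 4 n112257 = n109010 := d5_2 F174552 D112257 (iv3 D109010) D109011 (iv3 F174551)
def n112258 : Q := act 6 n51777
theorem D112258 : act 6 n51777 = n112258 := rfl
def n112259 : Q := act 3 n51778
theorem D112259 : act 3 n51778 = n112259 := rfl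
def n112260 : Q := act 0 n51779
theorem D112260 : act 0 n51779 = n112260 := rfl
def n112261 : Q := act 1 n51779
theorem D112261 : act 1 n51779 = n112261 := rfl
theorem F174603 : act 5 n112261 = n110446 := d17_7 D51546 F81327 (iv1 D29031) F23075 (iv4 F39558) D51779 D112261 (iv0 F170817) F81325
theorem F174604 : act 2 n111853 = n112261 := d2_3 F174603 F170813 D111853
theorem F174605 : act 7 n111855 = n112261 := d13_0 F174603 F170815 D111855
theorem F174606 : act 2 n111855 = n112260 := d15_3 (iv0 D112260) D112261 (iv7 F174605)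
theorem F174607 : act 5 n112260 = n111792 := d2_2 D111855 F174606 (iv2 F173518)
theorem F174608 : act 7 n112260 = n111853 := d4_2 (iv7 F174605) F174606 F174604
theorem F174609 : act 1 n111855 = n112228 := d15_0 F174527 (iv7 F174608) (iv2 F174606)
def n112262 : Q := act 4 n51779
theorem D112262 : act 4 n51779 = n112262 := rfl
def n112263 : Q := act 7 n51779
theorem D112263 : act 7 n51779 = n112263 := rfl
theorem F174610 : act 5 n112263 = n51780 := d13_1 D112263 (iv7 D51780) D51779
theorem F174611 : act 1 n111853 = n112263 := d15_1 F174527 (iv7 D112263) (iv2 F174526)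
theorem F174612 : act 1 n112263 = n111855 := d15_1 F174611 F174605 (iv2 F174604)
def n112264 : Q := act 4 n51782
theorem D112264 : act 4 n51782 = n112264 := rfl
theorem F174613 : act 2 n112264 = n59018 := d1_1 D112264 (iv4 F168163) F168161
theorem F174614 : act 7 n112264 = n59019 := d11_2 (iv7 F168158) D112264 (iv4 F168169)
theorem F174615 : act 0 n112264 = n59021 := d20_1 D112264 F93225 F45321 (iv1 F22349) D28145 D59274 (iv1 F168298) F82632 (iv3 F79699) (iv1 F168428)
theorem F174616 : act 0 n59011 = n112264 := d20_1 (iv4 F93213) (iv4 D112264) (iv3 D51782) (iv1 F81752) F81747 (iv4 F169862) (iv1 F169864) (iv4 F170706) F170705 F93694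
def n112265 : Q := act 6 n51782
theorem D112265 : act 6 n51782 = n112265 := rfl
theorem F174617 : act 2 n112265 = n108981 := d3_1 D112265 (iv6 D108981) F168161
theorem F174618 : act 3 n112265 = n51784 := d7_1 D112265 (iv6 D51784) D51782
theorem F174619 : act 5 n112265 = n107123 := d21_6 F38473 (iv1 F37876) (iv5 F38530) D50315 (iv1 F168428) D112265 (iv1 D107123) F78238 (iv6 D24508) D24505
theorem F174620 : act 0 n112265 = n109239 := d21_10 (iv5 F169194) F169196 (iv5 F81145) (iv6 D51400) (iv1 F39208) D48637 F76496 (iv1 F168421) F98451 D112265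
def n112266 : Q := act 0 n51783
theorem D112266 : act 0 n51783 = n112266 := rfl
theorem F174621 : act 4 n112266 = n58892 := d20_2 D51783 D112266 F93115 F168028 (iv3 D28145) (iv4 F79879) (iv1 D25150) F19701 (iv3 F19697) D25142
theorem F174622 : act 1 n51787 = n112266 := d15_0 (iv0 D112266) F174351 F174349
theorem F174623 : act 7 n112266 = n58888 := d15_2 F169229 F174622 (iv2 F99660)
theorem F174624 : act 1 n58892 = n59259 := d18_8 F173089 (iv4 F99325) (iv1 F168433) (iv4 D63199) (iv5 F81750) D51787 F174622 F174621 (iv5 F95542)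
theorem F174625 : act 6 n109750 = n112266 := d14_5 F174623 (iv6 D58888) F48575 D64063 F169741
def n112267 : Q := act 3 n51783
theorem D112267 : act 3 n51783 = n112267 := rfl
def n112268 : Q := act 5 n51783
theorem D112268 : act 5 n51783 = n112268 := rfl
def n112269 : Q := act 6 n51783
theorem D112269 : act 6 n51783 = n112269 := rfl
theorem F174626 : act 4 n112269 = n51784 := d10_1 D112269 (iv6 D51784) D51783
def n112270 : Q := act 3 n51787
theorem D112270 : act 3 n51787 = n112270 := rfl
def n112271 : Q := act 5 n51787
theorem D112271 : act 5 n51787 = n112271 := rfl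
def n112273 : Q := act 3 n51790
theorem D112273 : act 3 n51790 = n112273 := rfl
theorem F174628 : act 7 n112273 = n109771 := d8_2 (iv7 F170000) D112273 (iv3 D109771)
def n112274 : Q := act 5 n51790
theorem D112274 : act 5 n51790 = n112274 := rfl
theorem F174629 : act 2 n112274 = n109785 := d2_1 D112274 (iv5 D109785) (iv2 F169999)
theorem F174630 : act 7 n112274 = n109772 := d13_2 (iv7 F170000) D112274 (iv5 D109772)
def n112275 : Q := act 6 n51790
theorem D112275 : act 6 n51790 = n112275 := rfl
def n112278 : Q := act 5 n51791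
theorem D112278 : act 5 n51791 = n112278 := rfl
theorem F174635 : act 6 n112278 = n112154 := d12_2 D51791 D112278 (iv5 D112154) (iv6 D51725) (iv5 F81766)
def n112280 : Q := act 6 n51793
theorem D112280 : act 6 n51793 = n112280 := rfl
theorem F174641 : act 3 n112280 = n51795 := d7_1 D112280 (iv6 D51795) D51793
def n112281 : Q := act 5 n51794
theorem D112281 : act 5 n51794 = n112281 := rfl
theorem F174642 : act 2 n112281 = n109772 := d2_1 D112281 (iv5 D109772) (iv2 F170008)
theorem F174643 : act 7 n112281 = n109785 := d13_2 (iv7 F170009) D112281 (iv5 D109785)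
def n112282 : Q := act 6 n51794
theorem D112282 : act 6 n51794 = n112282 := rfl
theorem F174644 : act 2 n112282 = n109773 := d3_1 D112282 (iv6 D109773) (iv2 F170008)
theorem F174645 : act 4 n112282 = n51795 := d10_1 D112282 (iv6 D51795) D51794
def n112283 : Q := act 0 n51795
theorem D112283 : act 0 n51795 = n112283 := rfl
def n112284 : Q := act 1 n51795
theorem D112284 : act 1 n51795 = n112284 := rfl
def n112308 : Q := act 4 n51801
theorem D112308 : act 4 n51801 = n112308 := rfl
theorem F174675 : act 3 n112308 = n59156 := d5_1 D112308 (iv4 D59156) (iv3 F100174) (iv4 F79883) D51801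
def n112309 : Q := act 6 n51801
theorem D112309 : act 6 n51801 = n112309 := rfl
theorem F174677 : act 3 n112309 = n51802 := d7_1 D112309 (iv6 D51802) D51801
theorem F174678 : act 7 n112309 = n109821 := d14_2 (iv7 F81793) D112309 (iv6 D109821) (iv7 F81667) F81666
theorem F174679 : act 5 n109656 = n112309 := d13_3 F174678 (iv5 F174211) F174212
def n112313 : Q := act 4 n51803
theorem D112313 : act 4 n51803 = n112313 := rfl
theorem F174687 : act 3 n112313 = n59274 := d5_1 D112313 (iv4 D59274) (iv3 D28145) (iv4 F79879) D51803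
def n112315 : Q := act 5 n51804
theorem D112315 : act 5 n51804 = n112315 := rfl
theorem F174693 : act 7 n112315 = n62545 := d16_8 (iv4 D61368) (iv5 D29049) F23088 F10633 (iv4 F19701) D25151 D51804 D112315 F97510
def n112316 : Q := act 7 n51804
theorem D112316 : act 7 n51804 = n112316 := rfl
theorem F174695 : act 4 n112316 = n51805 := d11_1 D112316 (iv7 D51805) D51804
theorem F174696 : act 5 n112316 = n62545 := d13_1 D112316 (iv7 F174693) (iv5 D112315)
def n112324 : Q := act 3 n51817
theorem D112324 : act 3 n51817 = n112324 := rfl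
theorem F174716 : act 4 n112324 = n51818 := d5_2 D51817 D112324 (iv3 D51818) (iv4 D25157) D25156
def n112325 : Q := act 5 n51817
theorem D112325 : act 5 n51817 = n112325 := rfl
theorem F174719 : act 2 n112325 = n109026 := d2_1 D112325 (iv5 D109026) F168282
theorem F174720 : act 7 n112325 = n109022 := d13_2 F168286 D112325 (iv5 D109022)
def n112329 : Q := act 5 n51818
theorem D112329 : act 5 n51818 = n112329 := rfl
theorem F174728 : act 3 n112329 = n51819 := d6_1 D112329 (iv5 D51819) D51818
def n112331 : Q := act 6 n51821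
theorem D112331 : act 6 n51821 = n112331 := rfl
theorem F174733 : act 3 n112331 = n51824 := d7_1 D112331 (iv6 D51824) D51821
theorem F174734 : act 4 n112331 = n109882 := d10_1 D112331 (iv6 D109882) (iv4 F81843)
def n112332 : Q := act 1 n51822
theorem D112332 : act 1 n51822 = n112332 := rfl
theorem F174735 : act 1 n112332 = n51827 := d15_1 D112332 (iv7 F105381) F105384
theorem F174737 : act 4 n109118 = n112332 := d20_0 (iv1 D112332) (iv4 D51822) D51821 F105374 (iv3 D25182) D25183 (iv1 F81921) F169979 (iv3 F93512) (iv1 F169955)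
theorem F174738 : act 2 n112332 = n110060 := d1_1 F174737 F170182 F169956
theorem F174739 : act 3 n112332 = n109112 := d5_1 F174737 (iv4 D109112) (iv3 D50371) D50372 D109118
def n112333 : Q := act 5 n51822
theorem D112333 : act 5 n51822 = n112333 := rfl
theorem F174741 : act 3 n112333 = n67867 := d6_1 D112333 (iv5 F105342) (iv3 F105344)
theorem F174743 : act 4 n105753 = n112333 := d5_0 F174741 (iv4 F103924) (iv3 F51451) D48894 D105753
def n112334 : Q := act 6 n51822
theorem D112334 : act 6 n51822 = n112334 := rfl
def n112335 : Q := act 0 n51824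
theorem D112335 : act 0 n51824 = n112335 := rfl
def n112336 : Q := act 1 n51824
theorem D112336 : act 1 n51824 = n112336 := rfl
theorem F174746 : act 1 n112336 = n110077 := d15_1 D112336 (iv7 D110077) (iv2 F105388)
def n112338 : Q := act 7 n51824
theorem D112338 : act 7 n51824 = n112338 := rfl
def n112339 : Q := act 4 n51826
theorem D112339 : act 4 n51826 = n112339 := rfl
theorem F174753 : act 2 n112339 = n59288 := d1_1 D112339 F170483 (iv2 F105373)
theorem F174754 : act 7 n112339 = n59287 := d11_2 (iv7 F105358) D112339 F93516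
theorem F174755 : act 1 n112339 = n59097 := d18_6 D13385 D28061 D59054 F93242 F81885 D112339 (iv4 D59097) (iv0 D28072) (iv5 D13388)
theorem F174756 : act 0 n112339 = n52383 := d20_1 D112339 F82749 D59101 F173267 F170156 F169108 (iv1 F170133) F80180 (iv3 F80175) (iv1 F170134)
def n112340 : Q := act 6 n51826
theorem D112340 : act 6 n51826 = n112340 := rfl
def n112341 : Q := act 3 n51827
theorem D112341 : act 3 n51827 = n112341 := rfl
theorem F174759 : act 7 n112341 = n110071 := d8_2 F105381 D112341 (iv3 D110071)
theorem F174760 : act 0 n52334 = n112341 := d20_4 F45296 F39277 D25415 D52334 (iv3 D112341) (iv4 D51827) (iv1 D25159) D25161 F39596 D28027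
def n112342 : Q := act 5 n51827
theorem D112342 : act 5 n51827 = n112342 := rfl
def n112343 : Q := act 6 n51827
theorem D112343 : act 6 n51827 = n112343 := rfl
def n112348 : Q := act 3 n51830
theorem D112348 : act 3 n51830 = n112348 := rfl
theorem F174772 : act 2 n112348 = n58973 := d0_1 D112348 (iv3 D58973) F45293 (iv3 F39596) (iv2 F81845)
theorem F174773 : act 4 n112348 = n110017 := d5_2 D51830 D112348 (iv3 D110017) (iv4 D50745) (iv3 F39591)
theorem F174774 : act 7 n112348 = n110078 := d8_2 (iv7 F81846) D112348 (iv3 D110078)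
def n112349 : Q := act 5 n51830
theorem D112349 : act 5 n51830 = n112349 := rfl
def n112357 : Q := act 3 n51833
theorem D112357 : act 3 n51833 = n112357 := rfl
theorem F174795 : act 4 n112357 = n112273 := d5_2 F81853 D112357 (iv3 D112273) (iv4 D51790) D51789
theorem F174796 : act 7 n112357 = n110088 := d8_2 (iv7 F169950) D112357 (iv3 D110088)
def n112358 : Q := act 5 n51833
theorem D112358 : act 5 n51833 = n112358 := rfl
theorem F174799 : act 0 n112358 = n51948 := d17_2 (iv1 F81852) D112358 (iv5 D51948) F39692 F19752 D25168 (iv5 F81884) F39594 D50769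
theorem F174801 : act 3 n53728 = n112358 := d19_19 F174799 (iv5 D51948) F39692 (iv3 D11968) (iv1 F19606) F19604 (iv4 D6996) (iv3 F11250) (iv1 F19263) (iv5 D11851) F9909 (iv3 D2438) (iv1 D1150) D1151 D2444 D5847 D12324 D25996 D53728
theorem F174802 : act 5 n112357 = n53728 := d6_0 F174801 (iv5 D112358) D112357
def n112360 : Q := act 4 n51834
theorem D112360 : act 4 n51834 = n112360 := rfl
def n112361 : Q := act 6 n51834
theorem D112361 : act 6 n51834 = n112361 := rfl
theorem F174807 : act 3 n112361 = n58981 := d7_1 D112361 (iv6 D58981) (iv3 F81854)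
def n112380 : Q := act 3 n51840
theorem D112380 : act 3 n51840 = n112380 := rfl
theorem F174816 : act 5 n112380 = n111887 := d6_2 (iv5 F81863) D112380 F173810
theorem F174818 : act 0 n112380 = n51891 := d21_7 (iv5 D24729) (iv1 F170127) D50788 D110128 (iv1 F170965) (iv6 F173811) (iv5 F174816) (iv5 D51891) (iv6 D25180) (iv1 F38701)
def n112385 : Q := act 6 n51844
theorem D112385 : act 6 n51844 = n112385 := rfl
def n112386 : Q := act 0 n51845
theorem D112386 : act 0 n51845 = n112386 := rfl
theorem F174832 : act 4 n112386 = n59101 := d20_2 D51845 D112386 (iv3 D59101) (iv1 D28073) F22251 F9869 (iv1 F4330) (iv4 F8570) D11948 D25167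
theorem F174833 : act 1 n51850 = n112386 := d15_0 (iv0 D112386) F105362 F105359
theorem F174834 : act 3 n52384 = n112386 := d20_9 (iv4 D51850) (iv1 D25168) D25170 F39613 F22249 D25375 F40122 D25429 D52384 (iv1 F174833)
theorem F174836 : act 7 n59306 = n112386 := d11_0 F174832 F173269 D59306
def n112387 : Q := act 1 n51845
theorem D112387 : act 1 n51845 = n112387 := rfl
theorem F174837 : act 1 n112387 = n51850 := d15_1 D112387 (iv7 F105357) F105363
theorem F174839 : act 4 n112387 = n59305 := d18_7 (iv1 F169955) F174737 (iv1 D112332) (iv4 D51822) F81881 D51845 D112387 F170506 F170158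
theorem F174840 : act 2 n59306 = n112387 := d1_3 F174839 (iv2 D59305) D59306
theorem F174841 : act 3 n107592 = n112387 := d5_5 F174839 F170507 (iv4 D110274) D110273 F170501
def n112388 : Q := act 3 n51845
theorem D112388 : act 3 n51845 = n112388 := rfl
theorem F174843 : act 7 n112388 = n110000 := d8_2 (iv7 F105362) D112388 (iv3 D110000)
def n112389 : Q := act 5 n51845
theorem D112389 : act 5 n51845 = n112389 := rfl
def n112390 : Q := act 6 n51845
theorem D112390 : act 6 n51845 = n112390 := rfl
def n112395 : Q := act 6 n51849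
theorem D112395 : act 6 n51849 = n112395 := rfl
theorem F174856 : act 3 n112395 = n51852 := d7_1 D112395 (iv6 D51852) D51849
def n112396 : Q := act 3 n51850
theorem D112396 : act 3 n51850 = n112396 := rfl
theorem F174857 : act 7 n112396 = n110010 := d8_2 F105357 D112396 (iv3 D110010)
theorem F174858 : act 0 n52231 = n112396 := d20_4 (iv4 D12057) D12055 D25372 D52231 (iv3 D112396) (iv4 D51850) (iv1 D25168) D25170 F39613 F22249
def n112397 : Q := act 5 n51850
theorem D112397 : act 5 n51850 = n112397 := rfl
def n112398 : Q := act 6 n51850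
theorem D112398 : act 6 n51850 = n112398 := rfl
theorem F174862 : act 4 n112398 = n51852 := d10_1 D112398 (iv6 D51852) D51850
def n112399 : Q := act 0 n51852
theorem D112399 : act 0 n51852 = n112399 := rfl
def n112401 : Q := act 5 n51852
theorem D112401 : act 5 n51852 = n112401 := rfl
def n112402 : Q := act 7 n51852
theorem D112402 : act 7 n51852 = n112402 := rfl
def n112403 : Q := act 3 n51853
theorem D112403 : act 3 n51853 = n112403 := rfl
theorem F174871 : act 2 n112403 = n59009 := d0_1 D112403 (iv3 D59009) F45308 (iv3 F39613) (iv2 F81873)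
theorem F174872 : act 4 n112403 = n110078 := d5_2 D51853 D112403 (iv3 D110078) (iv4 D50769) (iv3 F39608)
theorem F174873 : act 7 n112403 = n110017 := d8_2 (iv7 F81874) D112403 (iv3 D110017)
def n112404 : Q := act 5 n51853
theorem D112404 : act 5 n51853 = n112404 := rfl
theorem F174874 : act 2 n112404 = n51857 := d2_1 D112404 (iv5 D51857) (iv2 F81873)
def n112405 : Q := act 6 n51853
theorem D112405 : act 6 n51853 = n112405 := rfl
def n112410 : Q := act 3 n51855
theorem D112410 : act 3 n51855 = n112410 := rfl
theorem F174889 : act 4 n112410 = n108627 := d5_2 F93527 D112410 F170034 (iv4 F170032) (iv3 F93528)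
theorem F174890 : act 7 n112410 = n108992 := d8_2 (iv7 F170042) D112410 (iv3 F169003)
theorem F174891 : act 2 n108987 = n112410 := d1_3 F174889 F170033 D108987
def n112411 : Q := act 5 n51855
theorem D112411 : act 5 n51855 = n112411 := rfl
theorem F174893 : act 7 n112411 = n110025 := d13_2 (iv7 F170042) D112411 (iv5 D110025)
theorem F174895 : act 1 n112411 = n52047 := d17_6 (iv1 F173356) F171000 (iv1 F170016) F169944 F93527 D112411 (iv5 D52047) D52045 (iv4 F82257)
def n112412 : Q := act 6 n51855
theorem D112412 : act 6 n51855 = n112412 := rfl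
def n112413 : Q := act 3 n51856
theorem D112413 : act 3 n51856 = n112413 := rfl
theorem F174897 : act 4 n112413 = n112149 := d5_2 F81893 D112413 (iv3 D112149) (iv4 D51723) D51722
theorem F174898 : act 7 n112413 = n110027 := d8_2 F170040 D112413 (iv3 D110027)
def n112414 : Q := act 5 n51856
theorem D112414 : act 5 n51856 = n112414 := rfl
theorem F174899 : act 2 n112414 = n110025 := d2_1 D112414 (iv5 D110025) (iv2 F170041)
theorem F174901 : act 0 n112414 = n52047 := d17_2 (iv1 F81892) D112414 (iv5 D52047) F39862 F19839 D25159 F81884 F39611 D50745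
def n112415 : Q := act 6 n51856
theorem D112415 : act 6 n51856 = n112415 := rfl
theorem F174903 : act 2 n112415 = n110026 := d3_1 D112415 (iv6 D110026) (iv2 F170041)
theorem F174904 : act 4 n112415 = n112147 := d10_1 D112415 (iv6 D112147) F81893
def n112416 : Q := act 4 n51857
theorem D112416 : act 4 n51857 = n112416 := rfl
theorem F174905 : act 7 n112416 = n110032 := d11_2 (iv7 F81895) D112416 (iv4 D110032)
def n112417 : Q := act 6 n51857
theorem D112417 : act 6 n51857 = n112417 := rfl
theorem F174906 : act 3 n112417 = n59017 := d7_1 D112417 (iv6 D59017) (iv3 F81894)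
def n112420 : Q := act 5 n51858
theorem D112420 : act 5 n51858 = n112420 := rfl
theorem F174907 : act 3 n112420 = n59020 := d6_1 D112420 (iv5 D59020) (iv3 F81896)
def n112421 : Q := act 7 n51858
theorem D112421 : act 7 n51858 = n112421 := rfl
theorem F174910 : act 6 n112421 = n110037 := d14_1 D112421 (iv7 D110037) (iv6 D50750) (iv7 F39614) D51858
def n112437 : Q := act 5 n51863
theorem D112437 : act 5 n51863 = n112437 := rfl
theorem F174917 : act 7 n112437 = n60801 := d16_8 (iv4 D62096) (iv5 D29398) F23297 F10785 (iv4 F19713) D25174 D51863 D112437 (iv2 F96775)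
def n112438 : Q := act 7 n51863
theorem D112438 : act 7 n51863 = n112438 := rfl
theorem F174919 : act 4 n112438 = n51864 := d11_1 D112438 (iv7 D51864) D51863
theorem F174920 : act 5 n112438 = n60801 := d13_1 D112438 (iv7 F174917) (iv5 D112437)
theorem F174921 : act 1 n109476 = n112438 := d15_1 (iv0 F169434) (iv7 D112438) F81901
theorem F174922 : act 1 n112438 = n109484 := d15_1 F174921 (iv7 F170089) F170088
def n112440 : Q := act 6 n51872
theorem D112440 : act 6 n51872 = n112440 := rfl
def n112441 : Q := act 6 n51873
theorem D112441 : act 6 n51873 = n112441 := rfl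
def n112442 : Q := act 3 n51874
theorem D112442 : act 3 n51874 = n112442 := rfl
theorem F174930 : act 4 n112442 = n51880 := d5_2 D51874 D112442 (iv3 D51880) (iv4 D25178) D25177
theorem F174931 : act 7 n112442 = n58939 := d8_2 (iv7 F170421) D112442 (iv3 D58939)
def n112443 : Q := act 5 n51874
theorem D112443 : act 5 n51874 = n112443 := rfl
theorem F174932 : act 2 n112443 = n58936 := d2_1 D112443 (iv5 D58936) (iv2 F170420)
theorem F174933 : act 7 n112443 = n58940 := d13_2 (iv7 F170421) D112443 (iv5 D58940)
theorem F174934 : act 0 n112443 = n109402 := d17_2 F81915 D112443 (iv5 D109402) (iv4 D50476) (iv5 F38790) D50955 F170329 (iv0 F169958) (iv4 F45275)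
def n112444 : Q := act 6 n51874
theorem D112444 : act 6 n51874 = n112444 := rfl
def n112445 : Q := act 0 n51875
theorem D112445 : act 0 n51875 = n112445 := rfl
def n112446 : Q := act 6 n51875
theorem D112446 : act 6 n51875 = n112446 := rfl
def n112449 : Q := act 5 n51876
theorem D112449 : act 5 n51876 = n112449 := rfl
theorem F174938 : act 3 n112449 = n51891 := d6_1 D112449 (iv5 D51891) (iv3 F81918)
def n112451 : Q := act 3 n51878
theorem D112451 : act 3 n51878 = n112451 := rfl
theorem F174940 : act 4 n112451 = n111615 := d5_2 (iv4 F81920) D112451 F173164 (iv4 D51794) D51793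
def n112452 : Q := act 5 n51878
theorem D112452 : act 5 n51878 = n112452 := rfl
def n112453 : Q := act 6 n51878
theorem D112453 : act 6 n51878 = n112453 := rfl
theorem F174941 : act 4 n112453 = n112280 := d10_1 D112453 (iv6 D112280) (iv4 F81920)
def n112454 : Q := act 5 n51879
theorem D112454 : act 5 n51879 = n112454 := rfl
def n112456 : Q := act 1 n51880
theorem D112456 : act 1 n51880 = n112456 := rfl
theorem F174942 : act 4 n111652 = n112456 := d20_0 (iv1 D112456) (iv4 F174930) (iv3 D112442) F81914 F45277 F22238 (iv1 F22184) D27949 (iv3 F81271) D111652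
def n112457 : Q := act 2 n51880
theorem D112457 : act 2 n51880 = n112457 := rfl
def n112458 : Q := act 5 n51880
theorem D112458 : act 5 n51880 = n112458 := rfl
theorem F174943 : act 3 n112458 = n51881 := d6_1 D112458 (iv5 D51881) D51880
def n112459 : Q := act 6 n51880
theorem D112459 : act 6 n51880 = n112459 := rfl
theorem F174944 : act 3 n112459 = n51882 := d7_1 D112459 (iv6 D51882) D51880
def n112460 : Q := act 0 n51881
theorem D112460 : act 0 n51881 = n112460 := rfl
theorem F174945 : act 5 n112460 = n109441 := d17_3 (iv1 D51879) D51881 D112460 (iv4 D109441) (iv5 F171330) F171329 (iv5 D59284) D59282 (iv4 F169979)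
theorem F174946 : act 1 n51901 = n112460 := d15_0 (iv0 D112460) (iv7 F170468) F170467
def n112461 : Q := act 1 n51881
theorem D112461 : act 1 n51881 = n112461 := rfl
theorem F174947 : act 1 n112461 = n51901 := d15_1 D112461 (iv7 F170489) F170488
theorem F174948 : act 5 n112461 = n110172 := d17_7 F169598 (iv5 F39336) F170928 (iv5 D25179) D25178 D51881 D112461 F170338 (iv4 D50822)
theorem F174949 : act 3 n111462 = n112461 := d6_3 F174948 F174176 D111462
def n112462 : Q := act 4 n51881
theorem D112462 : act 4 n51881 = n112462 := rfl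
def n112464 : Q := act 0 n51882
theorem D112464 : act 0 n51882 = n112464 := rfl
def n112465 : Q := act 1 n51882
theorem D112465 : act 1 n51882 = n112465 := rfl
def n112466 : Q := act 5 n51882
theorem D112466 : act 5 n51882 = n112466 := rfl
def n112467 : Q := act 7 n51882
theorem D112467 : act 7 n51882 = n112467 := rfl
def n112468 : Q := act 3 n51886
theorem D112468 : act 3 n51886 = n112468 := rfl
def n112469 : Q := act 5 n51886
theorem D112469 : act 5 n51886 = n112469 := rfl
def n112470 : Q := act 6 n51886
theorem D112470 : act 6 n51886 = n112470 := rfl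
theorem F174951 : act 4 n112470 = n51887 := d10_1 D112470 (iv6 D51887) D51886
def n112471 : Q := act 5 n51887
theorem D112471 : act 5 n51887 = n112471 := rfl
theorem F174952 : act 6 n112471 = n51891 := d12_2 D51887 D112471 (iv5 D51891) (iv6 D25180) D25179
def n112473 : Q := act 3 n51889
theorem D112473 : act 3 n51889 = n112473 := rfl
def n112482 : Q := act 0 n51891
theorem D112482 : act 0 n51891 = n112482 := rfl
def n112483 : Q := act 4 n51891
theorem D112483 : act 4 n51891 = n112483 := rfl
def n112484 : Q := act 7 n51891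
theorem D112484 : act 7 n51891 = n112484 := rfl
def n112485 : Q := act 6 n51894
theorem D112485 : act 6 n51894 = n112485 := rfl
theorem F174960 : act 2 n112485 = n110059 := d3_1 D112485 (iv6 D110059) (iv2 F105372)
def n112487 : Q := act 3 n51897
theorem D112487 : act 3 n51897 = n112487 := rfl
theorem F174964 : act 4 n112487 = n51900 := d5_2 D51897 D112487 (iv3 D51900) (iv4 D25183) D25182
def n112488 : Q := act 5 n51897
theorem D112488 : act 5 n51897 = n112488 := rfl
theorem F174965 : act 0 n112488 = n109622 := d17_2 F81933 D112488 (iv5 D109622) (iv4 D50567) (iv5 F105470) F39448 (iv5 F38676) F39483 D51723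
theorem F174966 : act 1 n112488 = n109608 := d17_6 (iv1 D110669) (iv5 F171320) F171056 (iv5 D51898) D51897 D112488 (iv5 D109608) D109606 F171279
def n112489 : Q := act 6 n51897
theorem D112489 : act 6 n51897 = n112489 := rfl
def n112495 : Q := act 2 n51900
theorem D112495 : act 2 n51900 = n112495 := rfl
def n112496 : Q := act 5 n51900
theorem D112496 : act 5 n51900 = n112496 := rfl
theorem F174971 : act 3 n112496 = n51901 := d6_1 D112496 (iv5 D51901) D51900
def n112497 : Q := act 6 n51900
theorem D112497 : act 6 n51900 = n112497 := rfl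
def n112498 : Q := act 4 n51901
theorem D112498 : act 4 n51901 = n112498 := rfl
def n112499 : Q := act 6 n51901
theorem D112499 : act 6 n51901 = n112499 := rfl
def n112504 : Q := act 5 n51903
theorem D112504 : act 5 n51903 = n112504 := rfl
def n112505 : Q := act 6 n51903
theorem D112505 : act 6 n51903 = n112505 := rfl
def n112510 : Q := act 2 n51905
theorem D112510 : act 2 n51905 = n112510 := rfl
theorem F174977 : act 7 n51906 = n112510 := d15_2 (iv0 D51905) D51906 (iv2 D112510)
def n112515 : Q := act 7 n51905
theorem D112515 : act 7 n51905 = n112515 := rfl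
theorem F174978 : act 2 n112515 = n51906 := d4_1 D112515 F174977 (iv2 D112510)
def n112516 : Q := act 3 n51906
theorem D112516 : act 3 n51906 = n112516 := rfl
def n112517 : Q := act 4 n51906
theorem D112517 : act 4 n51906 = n112517 := rfl
def n112518 : Q := act 5 n51906
theorem D112518 : act 5 n51906 = n112518 := rfl
def n112519 : Q := act 6 n51906
theorem D112519 : act 6 n51906 = n112519 := rfl
def n112524 : Q := act 3 n51912
theorem D112524 : act 3 n51912 = n112524 := rfl
theorem F174980 : act 4 n112524 = n51915 := d5_2 D51912 D112524 (iv3 D51915) (iv4 D25188) D25187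
theorem F174981 : act 7 n112524 = n110321 := d8_2 (iv7 F81943) D112524 (iv3 D110321)
def n112525 : Q := act 5 n51912
theorem D112525 : act 5 n51912 = n112525 := rfl
theorem F174982 : act 7 n112525 = n110322 := d13_2 (iv7 F81943) D112525 (iv5 D110322)
def n112526 : Q := act 6 n51912
theorem D112526 : act 6 n51912 = n112526 := rfl
theorem F174983 : act 4 n112526 = n51914 := d10_1 D112526 (iv6 D51914) D51912
def n112527 : Q := act 4 n51913
theorem D112527 : act 4 n51913 = n112527 := rfl
theorem F174984 : act 6 n112527 = n111888 := d10_2 F81946 D112527 (iv4 D111888)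
theorem F174985 : act 7 n112527 = n110325 := d11_2 (iv7 F81945) D112527 (iv4 D110325)
def n112528 : Q := act 0 n51915
theorem D112528 : act 0 n51915 = n112528 := rfl
def n112529 : Q := act 1 n51915
theorem D112529 : act 1 n51915 = n112529 := rfl
def n112530 : Q := act 2 n51915
theorem D112530 : act 2 n51915 = n112530 := rfl
def n112531 : Q := act 6 n51915
theorem D112531 : act 6 n51915 = n112531 := rfl
theorem F174992 : act 3 n112531 = n51916 := d7_1 D112531 (iv6 D51916) D51915
def n112532 : Q := act 1 n51917
theorem D112532 : act 1 n51917 = n112532 := rfl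
theorem F174993 : act 1 n112532 = n51918 := d15_1 D112532 (iv7 F101567) F101563
theorem F174994 : act 7 n112532 = n110338 := d15_2 F172683 D112532 F170581
theorem F174995 : act 3 n109223 = n112532 := d20_3 (iv4 F38554) D50399 D109223 (iv1 D112532) F81954 (iv4 F81968) F169187 (iv4 D109237) (iv3 D50408) (iv1 D24569)
theorem F174996 : act 2 n112532 = n58969 := d0_1 F174995 (iv3 D58969) F166422 D59207 (iv2 F169174)
theorem F174997 : act 4 n112532 = n109249 := d20_6 (iv4 F170603) (iv1 F170604) F80434 (iv3 F80426) (iv1 F169177) F174995 (iv1 D109249) F79771 (iv3 F79607) (iv1 F161337)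
def n112533 : Q := act 5 n51919
theorem D112533 : act 5 n51919 = n112533 := rfl
theorem F174998 : act 3 n112533 = n51920 := d6_1 D112533 (iv5 D51920) D51919
theorem F174999 : act 7 n112533 = n108013 := d13_2 (iv7 F81962) D112533 (iv5 D108013)
theorem F175000 : act 0 n112533 = n65566 := d20_4 (iv4 F79902) (iv1 F81404) (iv4 F81964) (iv3 F174998) F101287 (iv4 D31540) F50756 (iv4 F51041) F82052 (iv1 D51951)
theorem E17375 : n65564 = n25996 := (c20_2 (iv4 D65566) D65564 D53728 F174801 F174799 F82040 (iv4 F79902) (iv1 F81404) (iv4 F81964) (iv3 F174998) F175000)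
theorem E17376 : n66845 = n53726 := (((D53726).symm.trans (sb E17375 (iv1 F102681)))).symm
theorem E17377 : n53727 = n30728 := ((D53727).symm.trans (sb E17375 (iv0 D65564)))
theorem E17378 : n65565 = n26001 := ((((iv1 F84761)).symm.trans (sb E17376 (iv1 F102683)))).symm
theorem F175001 : act 2 n53726 = n31150 := (sb E17376 (iv2 D66845))
theorem F175002 : act 3 n53726 = n31224 := (sb E17376 F103078)
theorem F175003 : act 5 n53726 = n53402 := (sb E17376 F102679)
theorem F175004 : act 7 n53726 = n65562 := (sb E17376 F102680)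
theorem F175005 : act 0 n30728 = n25996 := (sb E17377 (iv1 D53727))
theorem F175006 : act 0 n26001 = n30728 := (sb E17378 (iv1 D65565))
theorem F175007 : act 1 n65538 = n53335 := d17_6 (iv1 F41089) D26001 F175006 (iv5 D30728) (iv4 F49187) D65538 (iv5 D53335) F84172 F84170
def n112534 : Q := act 6 n51919
theorem D112534 : act 6 n51919 = n112534 := rfl
theorem F175008 : act 3 n112534 = n51921 := d7_1 D112534 (iv6 D51921) D51919
theorem F175009 : act 4 n112534 = n112237 := d10_1 D112534 (iv6 D112237) (iv4 F81961)
theorem F175010 : act 7 n112534 = n110344 := d14_2 (iv7 F81962) D112534 (iv6 D110344) F80273 (iv6 F78876)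
def n112535 : Q := act 6 n51920
theorem D112535 : act 6 n51920 = n112535 := rfl
theorem F175011 : act 2 n112535 = n110585 := d3_1 D112535 (iv6 D110585) (iv2 F81963)
theorem F175012 : act 4 n112535 = n111847 := d10_1 D112535 (iv6 D111847) (iv4 F81964)
def n112536 : Q := act 1 n51921
theorem D112536 : act 1 n51921 = n112536 := rfl
theorem F175013 : act 1 n112536 = n52023 := d15_1 D112536 F82198 (iv2 F81967)
theorem F175014 : act 7 n112536 = n110347 := d15_2 (iv0 F169187) D112536 F170608
theorem F175015 : act 4 n52248 = n112536 := d20_0 (iv1 D112536) F81968 (iv3 F81954) (iv1 F172683) (iv3 D59212) (iv4 F161334) (iv1 D52408) F40215 (iv3 F40126) D52248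
theorem F175016 : act 2 n112536 = n110346 := d1_1 F175015 F170603 F161335
def n112537 : Q := act 5 n51921
theorem D112537 : act 5 n51921 = n112537 := rfl
theorem F175017 : act 2 n112537 = n110586 := d2_1 D112537 (iv5 D110586) (iv2 F81967)
theorem F175018 : act 7 n112537 = n110348 := d13_2 (iv7 F81969) D112537 (iv5 D110348)
def n112538 : Q := act 4 n51922
theorem D112538 : act 4 n51922 = n112538 := rfl
theorem F175019 : act 2 n112538 = n59113 := d1_1 D112538 (iv4 D59113) (iv2 F166149)
theorem F175020 : act 7 n112538 = n110349 := d11_2 F166168 D112538 (iv4 D110349)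
theorem F175021 : act 0 n112538 = n59016 := d20_1 D112538 F93223 F79607 D50414 (iv3 F161312) D111786 F173499 (iv4 F81955) F81954 D51922
theorem F175022 : act 0 n58979 = n112538 := d20_1 (iv4 F93187) (iv4 D112538) (iv3 F166167) (iv1 F80277) (iv3 F80426) F80427 (iv1 F166185) (iv4 D51535) D51534 (iv1 F161340)
def n112539 : Q := act 6 n51922
theorem D112539 : act 6 n51922 = n112539 := rfl
theorem F175023 : act 2 n112539 = n59115 := d3_1 D112539 (iv6 D59115) (iv2 F166149)
theorem F175024 : act 3 n112539 = n110351 := d7_1 D112539 (iv6 D110351) F166167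
theorem F175025 : act 5 n112539 = n108028 := d12_1 D112539 (iv6 F170734) (iv5 D110380) D110381 F170740
theorem F175026 : act 7 n112539 = n108102 := d14_2 F166168 D112539 F167177 F170618 (iv6 D110351)
theorem F175027 : act 0 n59026 = n112539 := d21_4 (iv5 F23358) D29461 F93704 D59026 (iv6 D112539) (iv5 F170740) F170739 (iv5 F82066) (iv6 D51965) (iv1 D25209)
theorem F175028 : act 1 n58995 = n112539 := d15_1 (iv0 F166518) F175026 F167175
def n112540 : Q := act 0 n51924
theorem D112540 : act 0 n51924 = n112540 := rfl
theorem F175029 : act 1 n110589 = n112540 := d15_0 (iv0 D112540) F81973 D110589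
def n112541 : Q := act 1 n51924
theorem D112541 : act 1 n51924 = n112541 := rfl
def n112542 : Q := act 2 n51924
theorem D112542 : act 2 n51924 = n112542 := rfl
theorem F175030 : act 3 n112542 = n51947 := d0_2 D51924 D112542 (iv2 D51947) (iv3 D25205) (iv2 F39654)
theorem F175032 : act 7 n112542 = n110589 := d4_2 (iv7 F81973) D112542 (iv2 D110589)
theorem F175033 : act 1 n112542 = n110587 := d15_0 (iv0 D110587) (iv7 F81973) D112542
theorem F175034 : act 1 n112541 = n110589 := d15_1 D112541 (iv7 F175032) (iv2 D112542)
theorem F175035 : act 1 n110588 = n112542 := d15_1 D110588 F175032 (iv2 D110589)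
def n112543 : Q := act 6 n51924
theorem D112543 : act 6 n51924 = n112543 := rfl
theorem F175036 : act 3 n112543 = n51925 := d7_1 D112543 (iv6 D51925) D51924
def n112544 : Q := act 1 n51925
theorem D112544 : act 1 n51925 = n112544 := rfl
theorem F175039 : act 7 n112544 = n51953 := d15_2 (iv0 F173712) D112544 (iv2 F173708)
theorem F175040 : act 4 n105183 = n112544 := d20_0 (iv1 D112544) F81975 F39659 D50891 F168453 (iv4 F168455) (iv1 F172620) F172617 (iv3 F172585) (iv1 F172588)
theorem F175041 : act 2 n112544 = n51954 := d1_1 F175040 (iv4 F172583) F172581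
def n112545 : Q := act 5 n51925
theorem D112545 : act 5 n51925 = n112545 := rfl
theorem F175042 : act 2 n112545 = n51955 := d2_1 D112545 (iv5 D51955) (iv2 F81974)
def n112546 : Q := act 7 n51925
theorem D112546 : act 7 n51925 = n112546 := rfl
theorem F175044 : act 4 n112546 = n51928 := d11_1 D112546 (iv7 D51928) (iv4 F81975)
theorem F175046 : act 1 n51954 = n112546 := d15_1 D51954 (iv7 D112546) F81974
theorem F175047 : act 1 n112546 = n51953 := d15_1 F175046 (iv7 F175039) F175041
def n112547 : Q := act 4 n51926
theorem D112547 : act 4 n51926 = n112547 := rfl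
theorem F175048 : act 2 n112547 = n51959 := d1_1 D112547 (iv4 D51959) (iv2 F170651)
theorem F175049 : act 6 n112547 = n110362 := d10_2 (iv6 F81976) D112547 (iv4 D110362)
theorem F175050 : act 7 n112547 = n51963 := d11_2 (iv7 F170652) D112547 (iv4 D51963)
theorem F175051 : act 0 n110596 = n112547 := d20_7 (iv4 F173936) (iv1 F173934) (iv4 D108614) (iv3 F164120) (iv1 D51323) (iv3 F80961) (iv4 F171170) (iv4 D112547) (iv3 F168449) (iv1 F164683)
def n112548 : Q := act 4 n51927
theorem D112548 : act 4 n51927 = n112548 := rfl
theorem F175052 : act 2 n112548 = n51963 := d1_1 D112548 (iv4 D51963) (iv2 F170656)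
theorem F175053 : act 7 n112548 = n51959 := d11_2 (iv7 F170657) D112548 (iv4 D51959)
theorem F175054 : act 0 n112548 = n110596 := d20_1 D112548 F171170 F80961 F164127 (iv3 D24608) D24609 (iv1 F80095) F39734 (iv3 F39696) (iv1 F81978)
def n112549 : Q := act 6 n51927
theorem D112549 : act 6 n51927 = n112549 := rfl
theorem F175055 : act 2 n112549 = n51965 := d3_1 D112549 (iv6 D51965) (iv2 F170656)
theorem F175056 : act 5 n112549 = n110365 := d12_1 D112549 (iv6 D110365) (iv5 F80288) (iv6 F80289) F81979
theorem F175057 : act 7 n112549 = n110365 := d14_2 (iv7 F170657) D112549 (iv6 D110365) (iv7 F170648) (iv6 F80342)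
theorem F175058 : act 0 n112549 = n110381 := d21_10 F170740 (iv1 F81970) F39812 (iv6 D25252) (iv1 F19820) D13381 (iv5 F23274) D29379 F81979 D112549
theorem F175059 : act 1 n112549 = n59321 := d15_1 (iv0 F175058) F93541 (iv2 F170736)
theorem F175060 : act 0 n59232 = n107684 := d21_1 D59232 F166318 F93542 (iv1 F175059) (iv6 D112549) (iv5 F81979) F96618 F96614 (iv6 F93423) (iv1 F93425)
def n112550 : Q := act 0 n51929
theorem D112550 : act 0 n51929 = n112550 := rfl
def n112551 : Q := act 1 n51929
theorem D112551 : act 1 n51929 = n112551 := rfl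
theorem F175061 : act 3 n108850 = n112551 := d20_9 F81987 F173814 (iv4 D111888) (iv3 D51596) (iv1 F39345) (iv3 F49338) (iv4 F101698) (iv1 F172824) F172825 (iv1 D112551)
theorem F175062 : act 4 n109290 = n112551 := d20_2 (iv4 F174043) (iv1 F174046) (iv3 F175061) (iv1 D108850) (iv3 F161396) F161397 (iv1 F173581) (iv4 D111806) F161371 (iv1 F81549)
def n112552 : Q := act 7 n51929
theorem D112552 : act 7 n51929 = n112552 := rfl
theorem F175063 : act 3 n112552 = n51935 := d8_1 D112552 (iv7 D51935) (iv3 F81986)
theorem F175064 : act 4 n112552 = n112000 := d11_1 D112552 (iv7 D112000) (iv4 F81987)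
theorem F175065 : act 5 n112552 = n108825 := d13_1 D112552 (iv7 D108825) (iv5 F81988)
theorem F175066 : act 6 n112552 = n52053 := d14_1 D112552 F82270 (iv6 D50995) (iv7 F39668) D51929
theorem F175067 : act 1 n110474 = n112552 := d18_8 (iv1 F168796) F85073 (iv1 D53243) F40800 (iv5 F39428) (iv4 F81542) D111985 (iv4 F174038) F175065
theorem F175068 : act 1 n65898 = n110474 := d15_0 F175067 (iv7 D112552) (iv2 F101585)
def n112553 : Q := act 0 n51930
theorem D112553 : act 0 n51930 = n112553 := rfl
theorem F175069 : act 5 n112553 = n65566 := d17_3 (iv1 F84774) F81995 D112553 (iv4 D65566) (iv5 D30728) D30726 (iv5 F105788) F41097 D53761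
theorem F175070 : act 3 n112553 = n67868 := d20_5 (iv4 D11961) D11959 D25199 D51930 D112553 (iv4 F169484) (iv1 D109526) F79905 F51123 (iv1 D25204)
theorem F175071 : act 1 n69199 = n112553 := d15_0 (iv0 D112553) F81990 (iv2 F105487)
theorem F175072 : act 7 n110597 = n112553 := d8_0 F175070 (iv7 F104936) F171173
def n112554 : Q := act 1 n51930
theorem D112554 : act 1 n51930 = n112554 := rfl
def n112555 : Q := act 2 n51930
theorem D112555 : act 2 n51930 = n112555 := rfl
theorem F175073 : act 3 n112555 = n110608 := d0_2 D51930 D112555 (iv2 D110608) (iv3 D51002) (iv2 F39676)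
theorem F175074 : act 4 n112555 = n111997 := d1_2 (iv4 F81989) D112555 (iv2 D111997)
theorem F175075 : act 5 n112555 = n53773 := d2_2 F81995 D112555 (iv2 F84785)
theorem F175076 : act 7 n112555 = n69199 := d4_2 (iv7 F81990) D112555 F105487
theorem F175077 : act 1 n112555 = n110597 := d15_0 (iv0 D110597) (iv7 F81990) D112555
theorem F175078 : act 1 n112554 = n69199 := d15_1 D112554 (iv7 F175076) (iv2 D112555)
theorem F175079 : act 2 n110597 = n112554 := d15_3 F175078 F175071 (iv7 F175072)
theorem F175080 : act 7 n110598 = n112554 := d15_2 (iv0 D110597) D110598 (iv2 F175079)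
theorem F175081 : act 2 n112553 = n110598 := d4_3 F175080 (iv2 F175079) F175072
theorem F175082 : act 1 n110598 = n112555 := d15_0 F175077 F175072 F175081
def n112556 : Q := act 6 n51930
theorem D112556 : act 6 n51930 = n112556 := rfl
theorem F175083 : act 3 n112556 = n51932 := d7_1 D112556 (iv6 D51932) D51930
theorem F175084 : act 4 n112556 = n111998 := d10_1 D112556 (iv6 D111998) (iv4 F81989)
def n112557 : Q := act 6 n51931
theorem D112557 : act 6 n51931 = n112557 := rfl
theorem F175085 : act 2 n112557 = n110611 := d3_1 D112557 (iv6 D110611) (iv2 F81991)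
theorem F175086 : act 3 n112557 = n69202 := d7_1 D112557 (iv6 D69202) (iv3 F81994)
def n112558 : Q := act 0 n51932
theorem D112558 : act 0 n51932 = n112558 := rfl
theorem F175088 : act 4 n112558 = n64463 := d20_2 (iv4 F81997) D112558 (iv3 F170917) (iv1 F81083) F49338 (iv4 F49370) (iv1 F50081) (iv4 D31784) D31783 (iv1 F166124)
theorem F175089 : act 7 n110613 = n112558 := d11_0 F175088 F170916 F173769
theorem F175090 : act 1 n110615 = n112558 := d18_6 D30351 D64459 F100393 F93933 (iv5 F80461) (iv4 F171198) F175088 (iv0 D64463) (iv5 D30353)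
theorem F175091 : act 2 n112558 = n110612 := d15_3 (iv0 D110612) D110613 F175089
def n112559 : Q := act 1 n51932
theorem D112559 : act 1 n51932 = n112559 := rfl
theorem F175093 : act 7 n112559 = n110612 := d15_2 (iv0 D112558) D112559 (iv2 F175091)
theorem F175094 : act 4 n112559 = n64464 := d18_7 (iv1 F99475) D64462 (iv1 F100412) F93773 F45651 (iv4 F81997) D112559 F168833 F168831
theorem F175095 : act 4 n112550 = n109289 := d20_0 (iv1 F174047) F174043 (iv3 F82168) (iv1 F82171) (iv3 F170914) (iv4 F175094) (iv1 D112559) F81997 (iv3 F81986) D112550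
theorem F175096 : act 3 n58806 = n112550 := d20_5 D107162 F165148 (iv4 D49671) (iv3 F45216) D58806 F175095 (iv1 F174047) F174043 (iv3 F82168) (iv1 F82171)
theorem F175097 : act 7 n112550 = n110474 := d8_2 (iv7 F166427) F175096 (iv3 D110474)
theorem F175098 : act 7 n111985 = n109289 := d11_2 F175097 F174038 (iv4 F175095)
theorem F175099 : act 2 n109289 = n111984 := d15_3 (iv0 D111984) D111985 F175098
theorem F175100 : act 2 n111985 = n109290 := d15_3 F174046 F174047 (iv7 F175098)
theorem F175101 : act 2 n112551 = n110474 := d1_3 F174038 F175100 F175062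
theorem F175102 : act 6 n109290 = n111803 := d3_2 (iv6 F174039) F175100 (iv2 F173561)
theorem F175103 : act 7 n109290 = n111984 := d4_2 (iv7 F175098) F175100 (iv2 F175099)
theorem F175104 : act 6 n110367 = n112551 := d10_2 F175102 F173565 (iv4 F175062)
theorem F175105 : act 6 n108850 = n65902 := d7_2 F175104 (iv3 F175061) F173015
theorem F175106 : act 6 n108725 = n111367 := d10_2 F175105 (iv4 F171191) F172825
theorem F175107 : act 2 n110613 = n112559 := d1_3 F175094 F170913 F173769
theorem F175108 : act 6 n110376 = n112559 := d10_0 F175094 F170915 (iv4 F170728)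
def n112560 : Q := act 5 n51932
theorem D112560 : act 5 n51932 = n112560 := rfl
def n112561 : Q := act 7 n51932
theorem D112561 : act 7 n51932 = n112561 := rfl
theorem F175111 : act 4 n112561 = n51935 := d11_1 D112561 (iv7 D51935) (iv4 F81997)
theorem F175112 : act 6 n112561 = n52054 := d14_1 D112561 F82271 (iv6 D50999) (iv7 F39677) D51932
theorem F175113 : act 1 n110613 = n112561 := d15_1 D110613 (iv7 D112561) F81996
theorem F175114 : act 1 n112561 = n110612 := d15_1 F175113 (iv7 F175093) (iv2 F175107)
def n112562 : Q := act 4 n51933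
theorem D112562 : act 4 n51933 = n112562 := rfl
theorem F175115 : act 2 n112562 = n110495 := d1_1 D112562 (iv4 D110495) F166128
theorem F175116 : act 7 n112562 = n110616 := d11_2 F166159 D112562 (iv4 D110616)
theorem F175117 : act 0 n112562 = n110628 := d20_1 D112562 F171223 F100413 (iv1 F81357) (iv3 F161372) D111988 F174051 (iv4 F81987) F81986 D51933
theorem F175118 : act 0 n51943 = n112562 := d20_1 F82668 (iv4 D112562) (iv3 F166131) (iv1 F82240) (iv3 F101606) (iv4 F172870) (iv1 F172872) (iv4 D66009) D66008 (iv1 F173771)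
def n112563 : Q := act 5 n51933
theorem D112563 : act 5 n51933 = n112563 := rfl
theorem F175119 : act 2 n112563 = n107684 := d2_1 D112563 F166318 F166128
theorem F175120 : act 3 n112563 = n110380 := d6_1 D112563 (iv5 D110380) F166131
theorem F175121 : act 6 n112563 = n107605 := d12_2 F170614 D112563 (iv5 F170616) (iv6 D110351) D110350
theorem F175122 : act 7 n112563 = n110617 := d13_2 F166159 D112563 (iv5 D110617)
theorem F175123 : act 0 n107752 = n112563 := d21_10 (iv5 D112563) (iv1 F82001) F80461 (iv6 F101933) (iv1 D53870) D53873 (iv5 F112193) F112195 F103659 D107752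
def n112564 : Q := act 0 n51936
theorem D112564 : act 0 n51936 = n112564 := rfl
theorem F175124 : act 1 n110608 = n112564 := d15_0 (iv0 D112564) F82004 D110608
def n112565 : Q := act 1 n51936
theorem D112565 : act 1 n51936 = n112565 := rfl
theorem F175125 : act 3 n110675 = n112565 := d20_3 F173361 (iv1 F174142) F174147 (iv1 D112565) (iv3 D51936) (iv4 D25201) (iv1 D11960) D11961 D25205 D51945
def n112566 : Q := act 2 n51936
theorem D112566 : act 2 n51936 = n112566 := rfl
theorem F175126 : act 3 n112566 = n69199 := d0_2 D51936 D112566 F105487 (iv3 D50997) (iv2 F39680)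
theorem F175127 : act 7 n112566 = n110608 := d4_2 (iv7 F82004) D112566 (iv2 D110608)
theorem F175128 : act 1 n112566 = n110606 := d15_0 (iv0 D110606) (iv7 F82004) D112566
theorem F175129 : act 1 n112565 = n110608 := d15_1 D112565 (iv7 F175127) (iv2 D112566)
theorem F175130 : act 1 n110607 = n112566 := d15_1 D110607 F175127 (iv2 D110608)
theorem F175131 : act 5 n69197 = n112566 := d6_0 F175126 (iv5 D69199) D69197
def n112567 : Q := act 5 n51936
theorem D112567 : act 5 n51936 = n112567 := rfl
theorem F175132 : act 2 n112567 = n69197 := d2_1 D112567 F175131 (iv2 D112566)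
theorem F175133 : act 3 n112567 = n51937 := d6_1 D112567 (iv5 D51937) D51936
theorem F175134 : act 7 n112567 = n110609 := d13_2 (iv7 F82004) D112567 (iv5 D110609)
def n112568 : Q := act 6 n51936
theorem D112568 : act 6 n51936 = n112568 := rfl
theorem F175135 : act 3 n112568 = n51938 := d7_1 D112568 (iv6 D51938) D51936
theorem F175136 : act 4 n112568 = n111482 := d10_1 D112568 F173000 F101578
def n112569 : Q := act 6 n51937
theorem D112569 : act 6 n51937 = n112569 := rfl
theorem F175137 : act 2 n112569 = n110600 := d3_1 D112569 (iv6 D110600) (iv2 F82005)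
theorem F175138 : act 4 n112569 = n109894 := d10_1 D112569 (iv6 D109894) (iv4 F82006)
def n112570 : Q := act 5 n51938
theorem D112570 : act 5 n51938 = n112570 := rfl
theorem F175139 : act 2 n112570 = n110602 := d2_1 D112570 (iv5 D110602) (iv2 F82008)
def n112571 : Q := act 4 n51939
theorem D112571 : act 4 n51939 = n112571 := rfl
theorem F175141 : act 6 n112571 = n110360 := d10_2 F82014 D112571 F170631
theorem F175142 : act 7 n112571 = n52026 := d11_2 (iv7 F82011) D112571 F82207
theorem F175143 : act 0 n112571 = n51944 := d20_1 D112571 F82031 F79632 F39405 F39404 (iv4 F79904) (iv1 F169344) F169342 (iv3 D52053) F82015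
theorem F175144 : act 0 n52050 = n112571 := d20_1 (iv4 F161138) (iv4 D112571) (iv3 F82013) (iv1 D50906) (iv3 F80308) (iv4 F81208) (iv1 D50273) F38496 (iv3 F38481) D50254
def n112572 : Q := act 0 n51941
theorem D112572 : act 0 n51941 = n112572 := rfl
theorem F175145 : act 1 n110620 = n112572 := d15_0 (iv0 D112572) F82023 D110620
def n112573 : Q := act 1 n51941
theorem D112573 : act 1 n51941 = n112573 := rfl
theorem F175146 : act 1 n112573 = n110620 := d15_1 D112573 F171208 F105447
def n112574 : Q := act 4 n51941
theorem D112574 : act 4 n51941 = n112574 := rfl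
theorem F175147 : act 3 n112574 = n58764 := d5_1 D112574 F92876 F45196 F40176 D51941
theorem F175148 : act 7 n112574 = n58812 := d11_2 (iv7 F82023) D112574 F92985
def n112575 : Q := act 6 n51941
theorem D112575 : act 6 n51941 = n112575 := rfl
theorem F175149 : act 3 n112575 = n51943 := d7_1 D112575 (iv6 D51943) D51941
def n112576 : Q := act 6 n51942
theorem D112576 : act 6 n51942 = n112576 := rfl
theorem F175150 : act 2 n112576 = n110626 := d3_1 D112576 (iv6 D110626) (iv2 F82024)
theorem F175151 : act 4 n112576 = n111815 := d10_1 D112576 (iv6 D111815) (iv4 F82025)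
def n112577 : Q := act 5 n51943
theorem D112577 : act 5 n51943 = n112577 := rfl
theorem F175152 : act 2 n112577 = n110627 := d2_1 D112577 (iv5 D110627) (iv2 F82029)
theorem F175153 : act 1 n112577 = n59222 := d17_6 (iv1 D108625) F79473 F49334 (iv5 F82669) F82668 D112577 (iv5 D59222) D59221 (iv4 F168503)
def n112578 : Q := act 7 n51943
theorem D112578 : act 7 n51943 = n112578 := rfl
theorem F175154 : act 2 n112578 = n110628 := d4_1 D112578 (iv7 D110628) (iv2 F82029)
theorem F175155 : act 4 n112578 = n108839 := d11_1 D112578 F168832 F82668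
theorem F175156 : act 6 n112578 = n52050 := d14_1 D112578 (iv7 F161139) (iv6 D51010) (iv7 F39691) D51943
theorem F175157 : act 1 n110616 = n112578 := d15_1 (iv0 F171201) (iv7 D112578) F82029
theorem F175158 : act 1 n112578 = n110495 := d15_1 F175157 F170911 (iv2 F171200)
def n112579 : Q := act 5 n51944
theorem D112579 : act 5 n51944 = n112579 := rfl
theorem F175159 : act 2 n112579 = n110624 := d2_1 D112579 (iv5 D110624) (iv2 F82030)
def n112580 : Q := act 6 n51945
theorem D112580 : act 6 n51945 = n112580 := rfl
def n112582 : Q := act 5 n51947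
theorem D112582 : act 5 n51947 = n112582 := rfl
theorem F175163 : act 2 n112582 = n51948 := d2_1 D112582 (iv5 D51948) D51947
theorem F175164 : act 7 n112582 = n110638 := d13_2 (iv7 F82037) D112582 (iv5 D110638)
theorem F175165 : act 0 n112582 = n110089 := d17_2 (iv1 F82038) D112582 (iv5 D110089) (iv4 F80144) F81876 (iv0 F170505) F170508 F171235 (iv4 D110631)
def n112585 : Q := act 6 n51948
theorem D112585 : act 6 n51948 = n112585 := rfl
theorem F175171 : act 3 n112585 = n51952 := d7_1 D112585 (iv6 D51952) (iv3 F82040)
def n112590 : Q := act 3 n51950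
theorem D112590 : act 3 n51950 = n112590 := rfl
theorem F175176 : act 2 n112590 = n68961 := d0_1 D112590 (iv3 D68961) F50700 D32096 F82047
theorem F175177 : act 5 n112590 = n58978 := d6_2 (iv5 F82044) D112590 (iv3 D58978)
theorem F175178 : act 7 n112590 = n69039 := d8_2 F82048 D112590 F105257
theorem F175179 : act 1 n69038 = n112590 := d15_1 D69038 F175178 (iv2 D69039)
theorem F175180 : act 1 n112590 = n69037 := d15_0 (iv0 D69037) (iv7 F105142) (iv2 F175176)
def n112591 : Q := act 6 n51950
theorem D112591 : act 6 n51950 = n112591 := rfl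
theorem F175181 : act 2 n112591 = n68997 := d3_1 D112591 (iv6 D68997) F82047
theorem F175182 : act 4 n112591 = n74186 := d10_1 D112591 (iv6 D74186) (iv4 F82045)
def n112592 : Q := act 6 n51951
theorem D112592 : act 6 n51951 = n112592 := rfl
theorem F175183 : act 2 n112592 = n110646 := d3_1 D112592 (iv6 D110646) F82054
theorem F175184 : act 3 n112592 = n69005 := d7_1 D112592 (iv6 D69005) F82052
theorem F175185 : act 4 n112592 = n111782 := d10_1 D112592 (iv6 D111782) (iv4 F82053)
theorem F175186 : act 5 n112592 = n110428 := d12_1 D112592 (iv6 D110428) F80333 F45300 (iv5 F82051)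
def n112593 : Q := act 0 n51952
theorem D112593 : act 0 n51952 = n112593 := rfl
def n112594 : Q := act 1 n51952
theorem D112594 : act 1 n51952 = n112594 := rfl
def n112595 : Q := act 5 n51952
theorem D112595 : act 5 n51952 = n112595 := rfl
theorem F175187 : act 6 n112595 = n51955 := d12_2 D51952 D112595 (iv5 D51955) (iv6 D25207) D25206
def n112596 : Q := act 7 n51952
theorem D112596 : act 7 n51952 = n112596 := rfl
theorem F175188 : act 6 n112596 = n110652 := d14_1 D112596 (iv7 D110652) (iv6 D51021) (iv7 F39694) D51952
def n112597 : Q := act 3 n51953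
theorem D112597 : act 3 n51953 = n112597 := rfl
theorem F175189 : act 6 n112597 = n110435 := d7_2 (iv6 F172576) D112597 (iv3 D110435)
def n112598 : Q := act 5 n51953
theorem D112598 : act 5 n51953 = n112598 := rfl
def n112599 : Q := act 3 n51954
theorem D112599 : act 3 n51954 = n112599 := rfl
def n112600 : Q := act 5 n51954
theorem D112600 : act 5 n51954 = n112600 := rfl
def n112601 : Q := act 6 n51954
theorem D112601 : act 6 n51954 = n112601 := rfl
theorem F175190 : act 7 n112601 = n110440 := d14_2 F173710 D112601 (iv6 D110440) (iv7 F169367) (iv6 F173709)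
def n112602 : Q := act 0 n51955
theorem D112602 : act 0 n51955 = n112602 := rfl
theorem F175191 : act 5 n112602 = n59018 := d17_3 (iv1 D51954) D51955 D112602 (iv4 F168163) F161107 (iv0 D63459) (iv5 F80962) D111268 F172583
def n112603 : Q := act 1 n51955
theorem D112603 : act 1 n51955 = n112603 := rfl
theorem F175192 : act 5 n59019 = n112603 := d21_6 D51942 F82027 F80046 D58974 F174343 F174340 (iv1 D112603) (iv5 D51955) (iv6 D25207) D25203
def n112604 : Q := act 4 n51955
theorem D112604 : act 4 n51955 = n112604 := rfl
def n112605 : Q := act 7 n51955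
theorem D112605 : act 7 n51955 = n112605 := rfl
def n112606 : Q := act 0 n51958
theorem D112606 : act 0 n51958 = n112606 := rfl
theorem F175194 : act 4 n112606 = n109365 := d18_1 D112606 (iv1 F169370) (iv4 D50466) (iv5 F48331) D63727 F164137 F163799 D106551 (iv5 F170671)
theorem F175195 : act 2 n105527 = n112606 := d15_3 (iv0 D112606) F170669 D105527
theorem F175196 : act 1 n105526 = n112606 := d15_0 (iv0 D112606) F170658 F170672
theorem F175197 : act 7 n112606 = n58763 := d15_2 D105526 F175196 F92873
theorem F175198 : act 3 n51991 = n112606 := d8_3 F175197 F92874 (iv7 F164061)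
theorem F175199 : act 5 n60610 = n112606 := d13_3 F175197 F92875 D60610
theorem F175200 : act 6 n58845 = n112606 := d14_5 F175197 (iv6 D58763) F45143 D27978 D58845
theorem F175201 : act 0 n62262 = n60610 := d21_1 (iv5 F97075) F175199 (iv6 F175200) (iv1 F93046) (iv6 D52468) F40260 F45579 F45578 D59148 F168984
def n112607 : Q := act 0 n51959
theorem D112607 : act 0 n51959 = n112607 := rfl
theorem F175202 : act 4 n112607 = n111269 := d20_2 D51959 D112607 F172585 (iv1 F80982) (iv3 F164334) D25080 F80090 F19755 (iv3 F19741) D25208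
theorem F175203 : act 1 n51963 = n112607 := d15_0 (iv0 D112607) (iv7 F175053) F175052
theorem F175204 : act 7 n112607 = n110596 := d15_2 (iv0 F168005) F175203 F171169
theorem F175205 : act 6 n110390 = n112607 := d14_5 F175204 (iv6 D110596) F80447 D51403 (iv7 F170752)
def n112608 : Q := act 3 n51959
theorem D112608 : act 3 n51959 = n112608 := rfl
theorem F175206 : act 6 n112608 = n110449 := d7_2 (iv6 F82060) D112608 (iv3 D110449)
def n112609 : Q := act 5 n51959
theorem D112609 : act 5 n51959 = n112609 := rfl
theorem F175207 : act 0 n112609 = n108979 := d17_2 F173093 D112609 (iv5 D108979) F79703 D50321 D108982 (iv5 F168988) F163883 (iv4 F161102)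
def n112610 : Q := act 4 n51960
theorem D112610 : act 4 n51960 = n112610 := rfl
theorem F175208 : act 2 n112610 = n62052 := d1_1 D112610 (iv4 D62052) (iv2 F170659)
theorem F175209 : act 7 n112610 = n62049 := d11_2 (iv7 F170660) D112610 (iv4 D62049)
theorem F175210 : act 0 n112610 = n108983 := d18_2 (iv1 F82062) D112610 (iv4 D108983) (iv5 D50321) (iv4 F79703) D108978 (iv4 F168980) F93695 (iv5 F47062)
def n112611 : Q := act 6 n51960
theorem D112611 : act 6 n51960 = n112611 := rfl
theorem F175211 : act 2 n112611 = n62053 := d3_1 D112611 (iv6 D62053) (iv2 F170659)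
theorem F175212 : act 5 n112611 = n110452 := d12_1 D112611 (iv6 D110452) (iv5 D50930) (iv6 F80342) D51960
theorem F175213 : act 7 n112611 = n110452 := d14_2 (iv7 F170660) D112611 (iv6 D110452) F170654 (iv6 F80289)
theorem F175214 : act 0 n61230 = n112611 := d21_1 D61230 F175212 (iv6 D110452) F80341 (iv6 D28186) (iv5 D13455) (iv1 F10453) (iv5 F22429) D28209 F101877
theorem F175215 : act 0 n60919 = n59537 := d21_1 D60919 (iv5 F101875) (iv6 F95689) F175214 (iv6 D112611) (iv5 D51960) (iv1 F81985) (iv5 F93699) F93700 (iv1 F93625)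
def n112612 : Q := act 6 n51962
theorem D112612 : act 6 n51962 = n112612 := rfl
theorem F175216 : act 3 n112612 = n51965 := d7_1 D112612 (iv6 D51965) D51962
theorem F175217 : act 5 n112612 = n110455 := d12_1 D112612 (iv6 D110455) (iv5 F168000) F164678 (iv5 F167997)
theorem F175218 : act 7 n112612 = n110455 := d14_2 (iv7 F170655) D112612 (iv6 D110455) F170711 F167597
def n112613 : Q := act 3 n51963
theorem D112613 : act 3 n51963 = n112613 := rfl
def n112614 : Q := act 5 n51963
theorem D112614 : act 5 n51963 = n112614 := rfl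
theorem F175219 : act 1 n112614 = n108979 := d17_6 F93694 (iv5 F47035) F82064 (iv5 D51964) D51963 D112614 (iv5 D108979) D108978 (iv4 F168980)
def n112615 : Q := act 6 n51963
theorem D112615 : act 6 n51963 = n112615 := rfl
theorem F175220 : act 4 n112615 = n51965 := d10_1 D112615 (iv6 D51965) D51963
theorem F175221 : act 7 n112615 = n110458 := d14_2 F175050 D112615 (iv6 D110458) F170712 (iv6 F175049)
def n112616 : Q := act 4 n51964
theorem D112616 : act 4 n51964 = n112616 := rfl
theorem F175222 : act 2 n112616 = n62049 := d1_1 D112616 (iv4 D62049) (iv2 F170649)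
theorem F175223 : act 6 n112616 = n110459 := d10_2 F82065 D112616 (iv4 D110459)
theorem F175224 : act 7 n112616 = n62052 := d11_2 (iv7 F170650) D112616 (iv4 D62052)
theorem F175225 : act 1 n112616 = n108983 := d18_6 (iv1 F172589) (iv4 F175202) (iv1 F175203) (iv4 D51963) D51964 D112616 (iv4 D108983) D108982 (iv5 F168988)
theorem F175226 : act 1 n62049 = n64087 := d15_0 (iv0 F172749) (iv7 F175224) F175222
theorem F175227 : act 0 n62048 = n106552 := d20_4 (iv4 F99700) (iv1 F175226) (iv4 D62049) D62048 F163802 (iv4 F163820) (iv1 F163823) F165573 (iv3 F165574) (iv1 D64089)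
def n112617 : Q := act 6 n51967
theorem D112617 : act 6 n51967 = n112617 := rfl
def n112618 : Q := act 5 n51968
theorem D112618 : act 5 n51968 = n112618 := rfl
theorem F175228 : act 7 n112618 = n110729 := d13_2 F82079 D112618 (iv5 D110729)
def n112620 : Q := act 0 n51971
theorem D112620 : act 0 n51971 = n112620 := rfl
theorem F175231 : act 4 n112620 = n109394 := d18_3 D25218 D51971 D112620 (iv5 F170863) (iv4 F174832) (iv0 D112386) (iv4 D51845) (iv0 D25167) (iv5 F19752)
theorem F175232 : act 1 n51976 = n112620 := d15_0 (iv0 D112620) F171309 (iv2 F171317)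
theorem F175233 : act 2 n110675 = n112620 := d1_3 F175231 (iv2 F174146) F174147
def n112621 : Q := act 1 n51971
theorem D112621 : act 1 n51971 = n112621 := rfl
theorem F175235 : act 1 n112621 = n51976 := d15_1 D112621 F171318 (iv2 F171308)
theorem F175236 : act 7 n112621 = n110675 := d15_2 (iv0 D112620) D112621 F175233
theorem F175237 : act 4 n112621 = n109417 := d17_9 (iv1 D109417) (iv5 F171326) (iv1 F173356) F171000 (iv4 F170182) (iv5 F170185) (iv0 D69186) F105482 D112621
theorem E17379 : n112445 = n51975 := (c20_5 (iv4 F170781) (iv1 F170973) (iv4 D51886) (iv3 F81917) D112445 (iv3 D51975) D51976 (iv1 F175235) F175237 (iv3 F173867) (iv1 F173865))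
theorem F175239 : act 1 n51975 = n51875 := (sb E17379 (iv0 D112445))
theorem F175240 : act 3 n112621 = n110607 := d20_3 D110631 (iv1 F171235) (iv4 F175237) (iv1 D110607) (iv3 D51002) (iv4 D24809) (iv1 D11754) D11755 D24813 D51014
theorem F175241 : act 7 n110607 = n112565 := d8_2 (iv7 F175236) F175240 (iv3 F175125)
theorem F175242 : act 2 n112565 = n110606 := d15_3 (iv0 D110606) D110607 F175241
theorem F175243 : act 2 n110607 = n112564 := d15_3 (iv0 D112564) D112565 (iv7 F175241)
theorem F175244 : act 7 n112564 = n110606 := d4_2 (iv7 F175241) F175243 (iv2 F175242)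
def n112622 : Q := act 6 n51971
theorem D112622 : act 6 n51971 = n112622 := rfl
def n112627 : Q := act 0 n51975
theorem D112627 : act 0 n51975 = n112627 := rfl
theorem F175256 : act 4 n112627 = n110496 := d18_1 D112627 (iv1 F170919) F104367 (iv5 F80361) (iv4 F170853) F170855 (iv4 F171044) (iv0 D110533) (iv5 F105481)
theorem F175257 : act 3 n112627 = n110518 := d20_5 (iv4 F175231) (iv1 F175232) (iv4 D51976) D51975 D112627 (iv4 F171034) (iv1 D109423) (iv4 D50481) D50480 (iv1 F173271)
theorem F175258 : act 2 n109372 = n112627 := d15_3 (iv0 D112627) F175239 (iv7 F170454)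
theorem F175259 : act 1 n110691 = n112627 := d15_0 (iv0 D112627) F171316 D110691
theorem F175260 : act 7 n112627 = n110690 := d15_2 (iv0 F171301) F175259 (iv2 F171297)
theorem F175261 : act 5 n110253 = n112627 := d13_3 F175260 (iv5 F171298) F170448
def n112628 : Q := act 2 n51975
theorem D112628 : act 2 n51975 = n112628 := rfl
theorem F175263 : act 5 n112628 = n110534 := d2_2 (iv5 F105481) D112628 (iv2 D110534)
theorem F175265 : act 1 n112628 = n110690 := d15_0 (iv0 D110690) (iv7 F171316) D112628
theorem F175266 : act 1 n109372 = n112628 := d15_0 F175265 (iv7 F175260) (iv2 F175258)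
def n112629 : Q := act 4 n51975
theorem D112629 : act 4 n51975 = n112629 := rfl
theorem F175268 : act 0 n112629 = n59079 := d18_2 (iv1 F175239) D112629 (iv4 D59079) (iv5 D28067) D28066 F93247 F93242 F169981 D51875
theorem F175269 : act 1 n112629 = n59062 := d18_6 F170947 D59295 F171083 (iv4 D110535) (iv5 F105481) D112629 (iv4 D59062) F170984 (iv5 F38774)
def n112631 : Q := act 3 n51976
theorem D112631 : act 3 n51976 = n112631 := rfl
theorem F175271 : act 2 n112631 = n69177 := d0_1 D112631 F105459 (iv2 F105328) F171341 (iv2 F171317)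
theorem F175272 : act 7 n112631 = n110694 := d8_2 (iv7 F171318) D112631 (iv3 D110694)
theorem F175273 : act 0 n52295 = n112631 := d20_4 (iv4 F40176) (iv1 D25399) D25400 D52295 (iv3 D112631) (iv4 D51976) (iv1 D25219) (iv4 F39692) (iv3 D25205) D25203
theorem F175274 : act 5 n69175 = n112631 := d2_0 F175271 (iv5 D69177) D69175
def n112632 : Q := act 5 n51976
theorem D112632 : act 5 n51976 = n112632 := rfl
theorem F175275 : act 2 n112632 = n69081 := d2_1 D112632 F171342 (iv2 F171317)
theorem F175276 : act 3 n112632 = n69175 := d6_1 D112632 F175274 (iv3 D112631)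
theorem F175277 : act 7 n112632 = n69188 := d13_2 (iv7 F171318) D112632 (iv5 F171349)
theorem F175279 : act 1 n112632 = n69186 := d17_6 (iv1 F39593) (iv5 F39893) (iv1 F39897) F105480 D51976 D112632 F170185 (iv0 D110060) (iv4 D50761)
def n112660 : Q := act 5 n51989
theorem D112660 : act 5 n51989 = n112660 := rfl
def n112661 : Q := act 4 n51991
theorem D112661 : act 4 n51991 = n112661 := rfl
theorem F175319 : act 2 n112661 = n58825 := d1_1 D112661 F93000 (iv2 F164058)
theorem F175320 : act 6 n112661 = n58859 := d10_2 (iv6 F164060) D112661 F93074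
theorem F175321 : act 7 n112661 = n58767 := d11_2 (iv7 F164061) D112661 F92887
theorem F175322 : act 0 n112661 = n58823 := d18_2 F164071 D112661 F172621 (iv5 F79542) D106463 F165621 F77779 D49243 (iv5 F77782)
theorem F175323 : act 0 n58822 = n112661 := d20_1 (iv4 F165632) (iv4 D112661) F175198 (iv1 F175196) F169226 F169240 (iv1 D50225) F38451 (iv3 F38433) D50189
def n112662 : Q := act 6 n51992
theorem D112662 : act 6 n51992 = n112662 := rfl
theorem F175324 : act 2 n112662 = n51994 := d3_1 D112662 (iv6 D51994) D51992
theorem F175325 : act 3 n112662 = n105298 := d7_1 D112662 (iv6 D105298) (iv3 F164093)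
theorem F175326 : act 5 n112662 = n105298 := d12_1 D112662 (iv6 D105298) (iv5 F76591) (iv6 F76592) (iv5 F164055)
theorem F175327 : act 7 n112662 = n105298 := d14_2 F164073 D112662 (iv6 D105298) (iv7 F161431) F77783
theorem F175328 : act 0 n112662 = n59214 := d21_4 F37372 D29314 (iv5 F164055) D112662 F93417 D107521 F165889 (iv5 D59238) F45445 (iv1 F100253)
theorem F175329 : act 0 n59209 = n112662 := d21_4 D59145 F170881 (iv5 D110473) (iv6 F93411) (iv6 D112662) F164055 (iv1 F77789) F77785 (iv6 F77451) (iv1 F77453)
def n112663 : Q := act 5 n51993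
theorem D112663 : act 5 n51993 = n112663 := rfl
theorem F175330 : act 7 n112663 = n110570 := d13_2 (iv7 F82110) D112663 (iv5 D110570)
theorem F175331 : act 1 n112663 = n59180 := d17_6 (iv1 D28101) (iv5 F37569) F164051 F46481 D51993 D112663 (iv5 D59180) (iv0 F163886) (iv4 D59160)
def n112664 : Q := act 6 n51993
theorem D112664 : act 6 n51993 = n112664 := rfl
theorem F175332 : act 4 n112664 = n51994 := d10_1 D112664 (iv6 D51994) D51993
theorem F175333 : act 7 n112664 = n110576 := d14_2 (iv7 F82110) D112664 (iv6 D110576) (iv7 F82103) F82102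
def n112665 : Q := act 6 n51998
theorem D112665 : act 6 n51998 = n112665 := rfl
theorem F175334 : act 2 n112665 = n106940 := d3_1 D112665 F165688 (iv2 F165509)
theorem F175335 : act 5 n112665 = n107215 := d12_1 D112665 (iv6 F165232) (iv5 D52353) D52354 F82733
theorem F175336 : act 7 n112665 = n106939 := d14_2 (iv7 F165510) D112665 F164819 F165478 (iv6 F78364)
theorem F175337 : act 0 n112665 = n60561 := d21_4 D106984 (iv1 F164901) F82733 D112665 F95178 (iv5 D28761) (iv1 F37805) (iv5 D24125) D24126 D49425
theorem F175338 : act 0 n52010 = n112665 := d21_4 (iv5 D108912) (iv1 F82160) (iv5 D52009) D52010 (iv6 D112665) (iv5 F82733) F161235 F161233 D106986 F168932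
def n112666 : Q := act 2 n52000
theorem D112666 : act 2 n52000 = n112666 := rfl
theorem F175339 : act 7 n52001 = n112666 := d15_2 (iv0 D52000) D52001 (iv2 D112666)
def n112667 : Q := act 3 n52000
theorem D112667 : act 3 n52000 = n112667 := rfl
theorem F175340 : act 4 n112667 = n67470 := d20_6 F24589 (iv1 D11981) D11982 D25240 D52000 D112667 (iv1 D67470) F49615 (iv3 D24898) (iv1 F24588)
def n112668 : Q := act 4 n52000
theorem D112668 : act 4 n52000 = n112668 := rfl
def n112669 : Q := act 5 n52000
theorem D112669 : act 5 n52000 = n112669 := rfl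
def n112670 : Q := act 6 n52000
theorem D112670 : act 6 n52000 = n112670 := rfl
def n112671 : Q := act 7 n52000
theorem D112671 : act 7 n52000 = n112671 := rfl
theorem F175341 : act 2 n112671 = n52001 := d4_1 D112671 F175339 (iv2 D112666)
def n112672 : Q := act 3 n52001
theorem D112672 : act 3 n52001 = n112672 := rfl
def n112673 : Q := act 4 n52001
theorem D112673 : act 4 n52001 = n112673 := rfl
def n112674 : Q := act 5 n52001
theorem D112674 : act 5 n52001 = n112674 := rfl
def n112675 : Q := act 6 n52001
theorem D112675 : act 6 n52001 = n112675 := rfl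
def n112676 : Q := act 6 n52002
theorem D112676 : act 6 n52002 = n112676 := rfl
theorem F175342 : act 2 n112676 = n52003 := d3_1 D112676 (iv6 D52003) D52002
theorem F175343 : act 3 n112676 = n107145 := d7_1 D112676 (iv6 D107145) (iv3 F82133)
def n112677 : Q := act 0 n52003
theorem D112677 : act 0 n52003 = n112677 := rfl
def n112678 : Q := act 1 n52003
theorem D112678 : act 1 n52003 = n112678 := rfl
def n112679 : Q := act 5 n52003
theorem D112679 : act 5 n52003 = n112679 := rfl
theorem F175344 : act 3 n112679 = n52006 := d6_1 D112679 (iv5 D52006) (iv3 F82138)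
def n112680 : Q := act 7 n52003
theorem D112680 : act 7 n52003 = n112680 := rfl
theorem F175345 : act 3 n112680 = n52007 := d8_1 D112680 (iv7 D52007) (iv3 F82138)
theorem F175346 : act 6 n112680 = n107091 := d14_1 D112680 (iv7 D107091) (iv6 D49467) (iv7 F39776) D52003
def n112681 : Q := act 0 n52006
theorem D112681 : act 0 n52006 = n112681 := rfl
def n112682 : Q := act 1 n52006
theorem D112682 : act 1 n52006 = n112682 := rfl
theorem F175347 : act 1 n112682 = n107153 := d15_1 D112682 (iv7 D107153) (iv2 F82140)
theorem F175348 : act 5 n107259 = n112682 := d21_6 F37920 F24578 (iv5 F18540) D24181 D49554 D107259 (iv1 D112682) (iv5 D52006) (iv6 D25241) (iv1 F37923)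
def n112683 : Q := act 4 n52006
theorem D112683 : act 4 n52006 = n112683 := rfl
theorem F175349 : act 2 n112683 = n107152 := d1_1 D112683 (iv4 D107152) (iv2 F82140)
def n112684 : Q := act 7 n52006
theorem D112684 : act 7 n52006 = n112684 := rfl
theorem F175350 : act 2 n112684 = n107153 := d4_1 D112684 (iv7 D107153) (iv2 F82140)
theorem F175351 : act 5 n112684 = n52007 := d13_1 D112684 (iv7 D52007) D52006
theorem F175352 : act 1 n107153 = n112681 := d15_0 (iv0 D112681) D112684 F175350
theorem F175353 : act 1 n107151 = n112684 := d15_1 D107151 (iv7 D112684) F82140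
theorem F175354 : act 1 n112684 = n107150 := d15_0 (iv0 D107150) D107153 (iv2 F175350)
def n112685 : Q := act 6 n52008
theorem D112685 : act 6 n52008 = n112685 := rfl
theorem F175355 : act 2 n112685 = n64461 := d3_1 D112685 (iv6 D64461) (iv2 F82153)
theorem F175356 : act 3 n112685 = n52010 := d7_1 D112685 (iv6 D52010) D52008
theorem F175357 : act 5 n112685 = n64551 := d12_1 D112685 (iv6 F100499) (iv5 F168971) F168972 F82593
theorem F175358 : act 7 n112685 = n61236 := d14_2 (iv7 F82151) D112685 (iv6 D61236) F47481 F48782
def n112686 : Q := act 3 n52011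
theorem D112686 : act 3 n52011 = n112686 := rfl
theorem F175359 : act 2 n112686 = n64463 := d0_1 D112686 (iv3 F170917) F102468 (iv3 F161348) F161347
theorem F175360 : act 7 n112686 = n64464 := d8_2 (iv7 F161351) D112686 F170914
theorem F175361 : act 0 n112686 = n64465 := d20_4 D31744 D68190 F165144 D112686 F100413 (iv4 F173554) (iv1 F173556) F173557 (iv3 D68187) (iv1 D31743)
theorem F175362 : act 4 n112686 = n110612 := d20_6 F174038 (iv1 D111985) F81542 (iv3 F39781) D52011 D112686 (iv1 F175114) F175111 (iv3 F175063) (iv1 F175067)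
theorem F175363 : act 1 n112686 = n52294 := d15_1 (iv0 F175361) (iv7 F168832) F168829
def n112687 : Q := act 5 n52011
theorem D112687 : act 5 n52011 = n112687 := rfl
theorem F175364 : act 2 n112687 = n106986 := d2_1 D112687 F164904 F161347
theorem F175365 : act 6 n112687 = n106405 := d12_2 F82765 D112687 (iv5 F163603) (iv6 D52419) D52418
theorem F175366 : act 7 n112687 = n106431 := d13_2 (iv7 F161351) D112687 F163697
theorem F175367 : act 0 n112687 = n107273 := d21_1 D112687 (iv5 F165326) F161074 (iv1 D48655) (iv6 D23722) (iv5 F18383) F18389 D11985 (iv6 F39782) D52011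
theorem F175368 : act 0 n106451 = n112687 := d21_10 (iv5 D112687) (iv1 F82170) F78265 (iv6 F45373) (iv1 F45375) D49480 (iv5 F164845) F164847 (iv5 D106450) D106451
def n112688 : Q := act 3 n52013
theorem D112688 : act 3 n52013 = n112688 := rfl
theorem F175369 : act 4 n112688 = n111982 := d5_2 D52013 D112688 F174035 F81542 (iv3 F39781)
theorem F175370 : act 6 n112688 = n52015 := d7_2 (iv6 F82166) D112688 (iv3 D52015)
def n112689 : Q := act 5 n52013
theorem D112689 : act 5 n52013 = n112689 := rfl
theorem F175371 : act 2 n112689 = n107166 := d2_1 D112689 (iv5 D107166) (iv2 F82165)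
theorem F175372 : act 1 n112689 = n58875 := d17_6 (iv1 D50288) F39783 (iv1 D25243) D25244 D52013 D112689 (iv5 D58875) D58874 F93099
def n112690 : Q := act 7 n52013
theorem D112690 : act 7 n52013 = n112690 := rfl
theorem F175373 : act 2 n112690 = n107167 := d4_1 D112690 (iv7 D107167) (iv2 F82165)
theorem F175374 : act 4 n112690 = n52014 := d11_1 D112690 (iv7 D52014) D52013
theorem F175375 : act 1 n68188 = n112690 := d15_1 (iv0 F104337) (iv7 D112690) F82165
theorem F175376 : act 1 n112690 = n68184 := d15_1 F175375 (iv7 F166485) F166490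
def n112691 : Q := act 0 n52015
theorem D112691 : act 0 n52015 = n112691 := rfl
def n112692 : Q := act 1 n52015
theorem D112692 : act 1 n52015 = n112692 := rfl
def n112693 : Q := act 2 n52015
theorem D112693 : act 2 n52015 = n112693 := rfl
theorem F175377 : act 3 n112693 = n107170 := d0_2 D52015 D112693 (iv2 D107170) (iv3 D49513) (iv2 F39798)
theorem F175378 : act 4 n112693 = n111980 := d1_2 (iv4 F82173) D112693 (iv2 D111980)
def n112694 : Q := act 5 n52015
theorem D112694 : act 5 n52015 = n112694 := rfl
theorem F175379 : act 3 n112694 = n52016 := d6_1 D112694 (iv5 D52016) D52015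
def n112695 : Q := act 6 n52016
theorem D112695 : act 6 n52016 = n112695 := rfl
theorem F175382 : act 4 n112695 = n52446 := d10_1 D112695 (iv6 D52446) (iv4 F82176)
def n112696 : Q := act 4 n52017
theorem D112696 : act 4 n52017 = n112696 := rfl
theorem F175383 : act 7 n112696 = n67903 := d11_2 (iv7 F82180) D112696 (iv4 D67903)
theorem F175384 : act 0 n112696 = n105751 := d18_2 (iv1 F82182) D112696 (iv4 D105751) (iv5 D48892) (iv4 D23840) (iv0 D11175) (iv4 F18046) D23746 D48693
theorem F175385 : act 1 n112696 = n105763 := d18_6 F82325 (iv4 D52085) (iv1 D25288) (iv4 F39801) D52017 D112696 (iv4 D105763) (iv0 F88618) (iv5 D55992)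
def n112697 : Q := act 6 n52017
theorem D112697 : act 6 n52017 = n112697 := rfl
theorem F175386 : act 3 n112697 = n52019 := d7_1 D112697 (iv6 D52019) (iv3 F82179)
def n112698 : Q := act 3 n52018
theorem D112698 : act 3 n52018 = n112698 := rfl
theorem F175387 : act 5 n112698 = n52270 := d6_2 (iv5 F82184) D112698 (iv3 D52270)
theorem F175388 : act 7 n112698 = n107171 := d8_2 (iv7 F82185) D112698 F165162
def n112699 : Q := act 6 n52018
theorem D112699 : act 6 n52018 = n112699 := rfl
theorem F175389 : act 2 n112699 = n67850 := d3_1 D112699 (iv6 D67850) (iv2 F82183)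
theorem F175390 : act 4 n112699 = n52019 := d10_1 D112699 (iv6 D52019) D52018
def n112700 : Q := act 1 n52019
theorem D112700 : act 1 n52019 = n112700 := rfl
theorem F175391 : act 1 n112700 = n67853 := d15_1 D112700 (iv7 D67853) (iv2 F82188)
theorem F175392 : act 7 n112700 = n67851 := d15_2 (iv0 F83765) D112700 (iv2 F161790)
theorem F175393 : act 2 n67852 = n112700 := d4_3 F175392 (iv2 F161790) (iv7 F161791)
theorem F175394 : act 1 n67853 = n53062 := d15_1 F175391 (iv7 F161791) F175393
def n112701 : Q := act 7 n52019
theorem D112701 : act 7 n52019 = n112701 := rfl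
theorem F175395 : act 2 n112701 = n67853 := d4_1 D112701 (iv7 D67853) (iv2 F82188)
theorem F175396 : act 1 n67852 = n112701 := d15_1 D67852 (iv7 D112701) F82188
theorem F175397 : act 1 n112701 = n67851 := d15_1 F175396 (iv7 F175392) (iv2 F175393)
def n112702 : Q := act 0 n52020
theorem D112702 : act 0 n52020 = n112702 := rfl
theorem F175398 : act 3 n112702 = n110818 := d20_5 D64945 (iv1 F168127) F85008 (iv3 F82190) D112702 F172448 (iv1 D111198) F80899 (iv3 F40062) F168339
theorem F175399 : act 4 n112702 = n53356 := d20_0 (iv1 F111050) F111047 F53418 (iv1 F48470) D30512 D64945 (iv1 F168127) F85008 (iv3 F82190) D112702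
theorem F175400 : act 2 n59624 = n112702 := d15_3 (iv0 D112702) F168108 (iv7 F171841)
theorem F175401 : act 1 n108042 = n112702 := d15_0 (iv0 D112702) (iv7 F82424) (iv2 F166998)
theorem F175402 : act 7 n112702 = n110339 := d15_2 (iv0 F168107) F175401 (iv2 F171839)
def n112703 : Q := act 0 n52021
theorem D112703 : act 0 n52021 = n112703 := rfl
theorem F175403 : act 3 n112703 = n52389 := d20_5 F40120 (iv1 F22324) D25251 D52021 D112703 (iv4 D52389) (iv1 D25430) (iv4 F40122) (iv3 D25375) D25374
theorem F175404 : act 2 n107592 = n112703 := d15_3 (iv0 D112703) (iv0 F173252) F173300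
theorem F175405 : act 1 n107593 = n112703 := d15_0 (iv0 D112703) F82193 D107593
theorem F175406 : act 7 n112703 = n107591 := d4_2 F173300 F175404 (iv2 F173301)
theorem F175407 : act 1 n111681 = n107593 := d15_0 F175405 F175406 (iv2 F173301)
def n112704 : Q := act 2 n52021
theorem D112704 : act 2 n52021 = n112704 := rfl
theorem F175408 : act 3 n112704 = n110342 := d0_2 D52021 D112704 (iv2 D110342) (iv3 D50883) (iv2 F39809)
theorem F175409 : act 4 n112704 = n111496 := d1_2 (iv4 F82192) D112704 (iv2 D111496)
theorem F175410 : act 7 n112704 = n107593 := d4_2 (iv7 F82193) D112704 (iv2 D107593)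
theorem F175411 : act 1 n112704 = n107591 := d15_0 (iv0 D107591) (iv7 F82193) D112704
theorem F175412 : act 1 n107592 = n112704 := d15_0 F175411 (iv7 F175406) (iv2 F175404)
def n112705 : Q := act 5 n52021
theorem D112705 : act 5 n52021 = n112705 := rfl
theorem F175413 : act 3 n112705 = n52022 := d6_1 D112705 (iv5 D52022) D52021
theorem F175414 : act 7 n112705 = n107594 := d13_2 (iv7 F82193) D112705 (iv5 D107594)
def n112706 : Q := act 6 n52021
theorem D112706 : act 6 n52021 = n112706 := rfl
theorem F175415 : act 3 n112706 = n52023 := d7_1 D112706 (iv6 D52023) D52021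
theorem F175416 : act 4 n112706 = n111497 := d10_1 D112706 (iv6 D111497) (iv4 F82192)
theorem F175417 : act 7 n112706 = n110584 := d14_2 (iv7 F82193) D112706 (iv6 D110584) F80431 F78878
def n112707 : Q := act 6 n52022
theorem D112707 : act 6 n52022 = n112707 := rfl
theorem F175418 : act 2 n112707 = n110345 := d3_1 D112707 (iv6 D110345) (iv2 F82194)
def n112708 : Q := act 5 n52023
theorem D112708 : act 5 n52023 = n112708 := rfl
theorem F175419 : act 2 n112708 = n110348 := d2_1 D112708 (iv5 D110348) (iv2 F82196)
theorem F175420 : act 7 n112708 = n110586 := d13_2 (iv7 F82198) D112708 (iv5 D110586)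
def n112711 : Q := act 2 n52024
theorem D112711 : act 2 n52024 = n112711 := rfl
theorem F175422 : act 3 n112711 = n52046 := d0_2 D52024 D112711 (iv2 D52046) (iv3 D25264) (iv2 F39814)
theorem F175423 : act 4 n112711 = n110589 := d1_2 (iv4 F82199) D112711 (iv2 D110589)
theorem F175424 : act 7 n112711 = n110354 := d4_2 (iv7 F82200) D112711 (iv2 D110354)
theorem F175425 : act 1 n112711 = n110352 := d15_0 (iv0 D110352) (iv7 F82200) D112711
theorem F175427 : act 1 n110353 = n112711 := d15_1 D110353 F175424 (iv2 D110354)
def n112712 : Q := act 5 n52024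
theorem D112712 : act 5 n52024 = n112712 := rfl
theorem F175428 : act 3 n112712 = n52025 := d6_1 D112712 (iv5 D52025) D52024
theorem F175429 : act 7 n112712 = n110355 := d13_2 (iv7 F82200) D112712 (iv5 D110355)
def n112713 : Q := act 6 n52024
theorem D112713 : act 6 n52024 = n112713 := rfl
theorem F175430 : act 3 n112713 = n52026 := d7_1 D112713 (iv6 D52026) D52024
def n112714 : Q := act 6 n52025
theorem D112714 : act 6 n52025 = n112714 := rfl
theorem F175432 : act 2 n112714 = n52049 := d3_1 D112714 (iv6 D52049) (iv2 F82201)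
theorem F175433 : act 4 n112714 = n107052 := d10_1 D112714 (iv6 D107052) (iv4 F82202)
def n112715 : Q := act 5 n52026
theorem D112715 : act 5 n52026 = n112715 := rfl
theorem F175434 : act 2 n112715 = n52051 := d2_1 D112715 (iv5 D52051) (iv2 F82206)
def n112716 : Q := act 1 n52027
theorem D112716 : act 1 n52027 = n112716 := rfl
theorem F175435 : act 1 n112716 = n58844 := d15_1 D112716 F93043 F82840
theorem F175436 : act 7 n112716 = n58839 := d15_2 (iv0 F82212) D112716 F93025
theorem F175437 : act 2 n58845 = n112716 := d4_3 F175436 F93025 D58845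
theorem F175438 : act 4 n109530 = n112716 := d11_3 F175436 (iv4 F173595) (iv7 F173598)
theorem F175439 : act 6 n105527 = n112716 := d14_5 F175436 (iv6 D58839) F45230 D48790 D105527
def n112717 : Q := act 0 n52028
theorem D112717 : act 0 n52028 = n112717 := rfl
theorem F175440 : act 1 n110371 = n112717 := d15_0 (iv0 D112717) F82215 D110371
def n112718 : Q := act 1 n52028
theorem D112718 : act 1 n52028 = n112718 := rfl
def n112719 : Q := act 2 n52028
theorem D112719 : act 2 n52028 = n112719 := rfl
theorem F175441 : act 3 n112719 = n110386 := d0_2 D52028 D112719 (iv2 D110386) (iv3 D50903) (iv2 F39836)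
theorem F175442 : act 4 n112719 = n111828 := d1_2 (iv4 F82214) D112719 (iv2 D111828)
theorem F175443 : act 7 n112719 = n110371 := d4_2 (iv7 F82215) D112719 (iv2 D110371)
theorem F175444 : act 1 n112719 = n110369 := d15_0 (iv0 D110369) (iv7 F82215) D112719
theorem F175445 : act 1 n112718 = n110371 := d15_1 D112718 (iv7 F175443) (iv2 D112719)
theorem F175446 : act 1 n110370 = n112719 := d15_1 D110370 F175443 (iv2 D110371)
def n112720 : Q := act 5 n52028
theorem D112720 : act 5 n52028 = n112720 := rfl
theorem F175447 : act 3 n112720 = n52029 := d6_1 D112720 (iv5 D52029) D52028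
theorem F175448 : act 7 n112720 = n110372 := d13_2 (iv7 F82215) D112720 (iv5 D110372)
def n112721 : Q := act 6 n52028
theorem D112721 : act 6 n52028 = n112721 := rfl
theorem F175449 : act 3 n112721 = n52030 := d7_1 D112721 (iv6 D52030) D52028
theorem F175450 : act 4 n112721 = n111829 := d10_1 D112721 (iv6 D111829) (iv4 F82214)
theorem F175451 : act 7 n110660 = n112721 := d8_0 F175449 (iv7 F82221) D110660
def n112722 : Q := act 6 n52029
theorem D112722 : act 6 n52029 = n112722 := rfl
theorem F175452 : act 2 n112722 = n110389 := d3_1 D112722 (iv6 D110389) (iv2 F82216)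
def n112723 : Q := act 1 n52030
theorem D112723 : act 1 n52030 = n112723 := rfl
theorem F175453 : act 1 n112723 = n110392 := d15_1 D112723 (iv7 D110392) (iv2 F82219)
theorem F175454 : act 7 n112723 = n52297 := d15_2 (iv0 F82222) D112723 F82674
theorem F175455 : act 4 n52298 = n112723 := d20_0 (iv1 D112723) F82220 (iv3 F82209) F82212 F45238 (iv4 F45252) D58856 F93069 F82621 (iv1 F82679)
theorem F175456 : act 2 n112723 = n110390 := d1_1 F175455 (iv4 F170753) (iv2 F82676)
theorem F175457 : act 4 n107678 = n64150 := d18_7 (iv1 F82679) F175455 (iv1 D112723) F82220 F39840 (iv4 F78615) D107678 F167736 F167735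
def n112724 : Q := act 5 n52030
theorem D112724 : act 5 n52030 = n112724 := rfl
theorem F175458 : act 2 n112724 = n110391 := d2_1 D112724 (iv5 D110391) (iv2 F82219)
theorem F175459 : act 7 n112724 = n110661 := d13_2 F82221 D112724 (iv5 D110661)
def n112725 : Q := act 0 n52031
theorem D112725 : act 0 n52031 = n112725 := rfl
theorem F175460 : act 4 n112725 = n66011 := d18_1 D112725 (iv1 F172830) F172827 F81081 (iv4 F101558) F101560 D65988 F101682 (iv5 F82226)
theorem F175461 : act 1 n108852 = n112725 := d15_0 (iv0 D112725) (iv7 F101607) (iv2 F168857)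
def n112726 : Q := act 1 n52031
theorem D112726 : act 1 n52031 = n112726 := rfl
theorem F175462 : act 1 n112726 = n108852 := d15_1 D112726 (iv7 D108852) (iv2 F82223)
theorem F175463 : act 4 n66012 = n112726 := d18_7 (iv1 F93312) F93314 (iv1 D30875) F24300 D14624 D30885 D66012 F175462 F168858
theorem F175464 : act 1 n109072 = n66014 := d17_6 (iv1 D112726) F82226 (iv1 F101682) (iv5 F169060) F169059 (iv5 F169076) (iv5 D66014) D66012 F175463
theorem F175465 : act 3 n112726 = n58807 := d20_3 (iv4 F172827) (iv1 F172829) F175463 (iv1 D58807) F45216 D49671 (iv1 F165150) (iv4 D107160) F161348 F81085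
theorem F175466 : act 2 n108850 = n112726 := d0_5 F175465 F166432 D110474 (iv2 F175101) (iv3 F175061)
theorem F175467 : act 6 n107523 = n112726 := d7_0 F175465 (iv6 F94075) D107523
theorem F175468 : act 7 n108849 = n112726 := d8_0 F175465 (iv7 F166431) (iv3 F172822)
theorem F175469 : act 7 n66012 = n111366 := d11_2 F175468 (iv4 F175463) (iv4 F172823)
theorem F175470 : act 2 n108849 = n112725 := d15_3 (iv0 D112725) D112726 (iv7 F175468)
theorem F175471 : act 2 n66011 = n111366 := d1_3 (iv4 F172823) F175470 F175460
theorem F175472 : act 7 n112725 = n108850 := d4_2 (iv7 F175468) F175470 F175466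
theorem F175473 : act 7 n111367 = n66011 := d11_2 F175472 (iv4 F172825) (iv4 F175460)
theorem F175474 : act 2 n66012 = n111367 := d4_3 F175473 F175471 (iv7 F175469)
theorem F175475 : act 6 n111878 = n66012 := d3_0 F175474 (iv6 F175106) F173777
def n112727 : Q := act 0 n52032
theorem D112727 : act 0 n52032 = n112727 := rfl
def n112728 : Q := act 1 n52032
theorem D112728 : act 1 n52032 = n112728 := rfl
theorem F175477 : act 3 n110523 = n112728 := d20_3 F173347 (iv1 F173828) (iv4 F173833) (iv1 D112728) (iv3 D52032) (iv4 D25260) (iv1 D11993) D11994 D25264 D52044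
def n112729 : Q := act 2 n52032
theorem D112729 : act 2 n52032 = n112729 := rfl
theorem F175478 : act 3 n112729 = n110371 := d0_2 D52032 D112729 (iv2 D110371) (iv3 D50895) (iv2 F39850)
theorem F175479 : act 4 n112729 = n111379 := d1_2 (iv4 F82227) D112729 (iv2 D111379)
theorem F175480 : act 7 n112729 = n110386 := d4_2 (iv7 F82228) D112729 (iv2 D110386)
theorem F175482 : act 1 n112728 = n110386 := d15_1 D112728 (iv7 F175480) (iv2 D112729)
theorem F175483 : act 1 n110385 = n112729 := d15_1 D110385 F175480 (iv2 D110386)
def n112730 : Q := act 5 n52032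
theorem D112730 : act 5 n52032 = n112730 := rfl
theorem F175484 : act 3 n112730 = n52033 := d6_1 D112730 (iv5 D52033) D52032
theorem F175485 : act 7 n112730 = n110387 := d13_2 (iv7 F82228) D112730 (iv5 D110387)
def n112731 : Q := act 6 n52032
theorem D112731 : act 6 n52032 = n112731 := rfl
theorem F175486 : act 3 n112731 = n52034 := d7_1 D112731 (iv6 D52034) D52032
theorem F175487 : act 4 n112731 = n111381 := d10_1 D112731 (iv6 D111381) (iv4 F82227)
def n112732 : Q := act 6 n52033
theorem D112732 : act 6 n52033 = n112732 := rfl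
theorem F175488 : act 2 n112732 = n110374 := d3_1 D112732 (iv6 D110374) (iv2 F82229)
def n112733 : Q := act 0 n52034
theorem D112733 : act 0 n52034 = n112733 := rfl
theorem F175489 : act 4 n112733 = n107133 := d20_2 (iv4 F82233) D112733 F173806 (iv1 F100379) (iv3 F168830) (iv4 F175155) (iv1 F175157) (iv4 D110616) F166181 (iv1 D52036)
theorem F175490 : act 2 n110375 = n112733 := d1_3 F175489 (iv2 F173804) (iv4 F170727)
theorem F175491 : act 7 n110376 = n112733 := d11_0 F175489 (iv7 F173805) (iv4 F170728)
theorem F175492 : act 1 n110378 = n112733 := d18_6 D49493 F162149 (iv1 F162148) (iv4 D68270) (iv5 F80299) (iv4 F170730) F175489 (iv0 D107133) (iv5 D49495)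
def n112734 : Q := act 1 n52034
theorem D112734 : act 1 n52034 = n112734 := rfl
theorem F175493 : act 1 n112734 = n110378 := d15_1 D112734 (iv7 D110378) (iv2 F82232)
theorem F175494 : act 7 n112734 = n110375 := d15_2 (iv0 D112733) D112734 F175490
theorem F175495 : act 4 n112734 = n107134 := d18_7 (iv1 F165104) F162143 (iv1 D105566) F76877 (iv5 F39853) (iv4 F82233) D112734 F168806 F168803
theorem F175496 : act 2 n110376 = n112734 := d1_3 F175495 F173800 (iv4 F170728)
theorem F175497 : act 6 n110613 = n112734 := d10_0 F175495 F173802 F173769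
def n112735 : Q := act 5 n52034
theorem D112735 : act 5 n52034 = n112735 := rfl
theorem F175498 : act 2 n112735 = n110377 := d2_1 D112735 (iv5 D110377) (iv2 F82232)
def n112736 : Q := act 7 n52034
theorem D112736 : act 7 n52034 = n112736 := rfl
theorem F175499 : act 2 n112736 = n110378 := d4_1 D112736 (iv7 D110378) (iv2 F82232)
theorem F175500 : act 4 n112736 = n52037 := d11_1 D112736 (iv7 D52037) (iv4 F82233)
theorem F175501 : act 6 n112736 = n110392 := d14_1 D112736 (iv7 D110392) (iv6 D50905) (iv7 F39851) D52034
theorem F175502 : act 1 n110376 = n112736 := d15_1 D110376 (iv7 D112736) F82232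
theorem F175503 : act 1 n112736 = n110375 := d15_1 F175502 (iv7 F175494) (iv2 F175496)
def n112737 : Q := act 4 n52036
theorem D112737 : act 4 n52036 = n112737 := rfl
theorem F175504 : act 2 n112737 = n110382 := d1_1 D112737 (iv4 D110382) F166180
theorem F175505 : act 6 n112737 = n110616 := d10_2 (iv6 F166182) D112737 (iv4 D110616)
theorem F175506 : act 7 n112737 = n110379 := d11_2 (iv7 F166179) D112737 (iv4 D110379)
theorem F175507 : act 0 n112737 = n52043 := d18_2 (iv1 F82234) D112737 F82255 F79626 (iv4 F103705) F162160 (iv4 D105569) F76882 (iv5 F80299)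
theorem F175508 : act 0 n110401 = n112737 := d20_1 (iv4 F170766) (iv4 D112737) (iv3 F166181) (iv1 D51006) (iv3 F80454) F80455 (iv1 F171736) (iv4 D108729) D108728 F169190
def n112738 : Q := act 5 n52036
theorem D112738 : act 5 n52036 = n112738 := rfl
theorem F175509 : act 2 n112738 = n105604 := d2_1 D112738 F162211 F166180
theorem F175510 : act 3 n112738 = n110617 := d6_1 D112738 (iv5 D110617) F166181
theorem F175511 : act 6 n112738 = n105510 := d12_2 (iv6 F166182) D112738 F161989 (iv6 F171204) (iv5 D110617)
theorem F175512 : act 7 n112738 = n110380 := d13_2 (iv7 F166179) D112738 (iv5 D110380)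
theorem F175513 : act 0 n112738 = n58994 := d21_1 D112738 (iv5 D58994) D58995 F166518 (iv6 F167356) (iv5 D108229) F166075 (iv5 F80302) F80300 (iv1 F82234)
theorem F175514 : act 0 n58989 = n112738 := d21_10 (iv5 D112738) (iv1 D52036) F39853 (iv6 D23804) F20328 D14818 F24480 D29438 D62196 F96962
def n112739 : Q := act 0 n52038
theorem D112739 : act 0 n52038 = n112739 := rfl
theorem F175515 : act 1 n110396 = n112739 := d15_0 (iv0 D112739) F82241 D110396
def n112740 : Q := act 1 n52038
theorem D112740 : act 1 n52038 = n112740 := rfl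
def n112741 : Q := act 2 n52038
theorem D112741 : act 2 n52038 = n112741 := rfl
theorem F175516 : act 3 n112741 = n110404 := d0_2 D52038 D112741 (iv2 D110404) (iv3 D50911) F39856
theorem F175517 : act 7 n112741 = n110396 := d4_2 (iv7 F82241) D112741 (iv2 D110396)
theorem F175518 : act 1 n112741 = n110394 := d15_0 (iv0 D110394) (iv7 F82241) D112741
theorem F175519 : act 1 n112740 = n110396 := d15_1 D112740 (iv7 F175517) (iv2 D112741)
theorem F175520 : act 1 n110395 = n112741 := d15_1 D110395 F175517 (iv2 D110396)
def n112742 : Q := act 5 n52038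
theorem D112742 : act 5 n52038 = n112742 := rfl
theorem F175521 : act 3 n112742 = n52039 := d6_1 D112742 (iv5 D52039) D52038
theorem F175522 : act 7 n112742 = n110397 := d13_2 (iv7 F82241) D112742 (iv5 D110397)
def n112743 : Q := act 6 n52038
theorem D112743 : act 6 n52038 = n112743 := rfl
theorem F175523 : act 3 n112743 = n52040 := d7_1 D112743 (iv6 D52040) D52038
def n112744 : Q := act 6 n52039
theorem D112744 : act 6 n52039 = n112744 := rfl
theorem F175525 : act 2 n112744 = n110407 := d3_1 D112744 (iv6 D110407) (iv2 F82242)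
def n112745 : Q := act 5 n52040
theorem D112745 : act 5 n52040 = n112745 := rfl
theorem F175526 : act 2 n112745 = n110408 := d2_1 D112745 (iv5 D110408) (iv2 F82245)
def n112746 : Q := act 0 n52041
theorem D112746 : act 0 n52041 = n112746 := rfl
theorem F175528 : act 1 n110404 = n112746 := d15_0 (iv0 D112746) F82250 D110404
def n112747 : Q := act 1 n52041
theorem D112747 : act 1 n52041 = n112747 := rfl
def n112748 : Q := act 2 n52041
theorem D112748 : act 2 n52041 = n112748 := rfl
theorem F175529 : act 3 n112748 = n110396 := d0_2 D52041 D112748 (iv2 D110396) (iv3 D50908) F39861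
theorem F175530 : act 4 n112748 = n109285 := d1_2 (iv4 F82249) D112748 (iv2 D109285)
theorem F175531 : act 7 n112748 = n110404 := d4_2 (iv7 F82250) D112748 (iv2 D110404)
theorem F175532 : act 1 n112748 = n110402 := d15_0 (iv0 D110402) (iv7 F82250) D112748
theorem F175533 : act 1 n112747 = n110404 := d15_1 D112747 (iv7 F175531) (iv2 D112748)
theorem F175534 : act 1 n110403 = n112748 := d15_1 D110403 F175531 (iv2 D110404)
def n112749 : Q := act 5 n52041
theorem D112749 : act 5 n52041 = n112749 := rfl
theorem F175535 : act 3 n112749 = n52042 := d6_1 D112749 (iv5 D52042) D52041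
theorem F175536 : act 7 n112749 = n110405 := d13_2 (iv7 F82250) D112749 (iv5 D110405)
def n112750 : Q := act 6 n52041
theorem D112750 : act 6 n52041 = n112750 := rfl
theorem F175537 : act 3 n112750 = n52043 := d7_1 D112750 (iv6 D52043) D52041
theorem F175538 : act 4 n112750 = n109287 := d10_1 D112750 (iv6 D109287) (iv4 F82249)
def n112751 : Q := act 6 n52042
theorem D112751 : act 6 n52042 = n112751 := rfl
theorem F175539 : act 2 n112751 = n110399 := d3_1 D112751 (iv6 D110399) (iv2 F82251)
def n112752 : Q := act 5 n52043
theorem D112752 : act 5 n52043 = n112752 := rfl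
theorem F175540 : act 2 n112752 = n110400 := d2_1 D112752 (iv5 D110400) (iv2 F82254)
def n112753 : Q := act 7 n52043
theorem D112753 : act 7 n52043 = n112753 := rfl
theorem F175541 : act 2 n112753 = n110401 := d4_1 D112753 (iv7 D110401) (iv2 F82254)
theorem F175542 : act 4 n112753 = n108828 := d11_1 D112753 (iv7 D108828) (iv4 F82255)
theorem F175543 : act 6 n112753 = n109578 := d14_1 D112753 F169524 (iv6 D50913) (iv7 F39859) D52043
theorem F175544 : act 1 n110382 = n112753 := d15_1 (iv0 F170743) (iv7 D112753) F82254
theorem F175545 : act 1 n112753 = n110379 := d15_1 F175544 (iv7 F175506) F175504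
def n112754 : Q := act 3 n52044
theorem D112754 : act 3 n52044 = n112754 := rfl
theorem F175546 : act 7 n112754 = n108861 := d8_2 (iv7 F173348) D112754 (iv3 F168865)
theorem F175547 : act 4 n112754 = n108605 := d20_6 (iv4 D25260) (iv1 D11993) D11994 D25264 D52044 D112754 (iv1 D108605) (iv4 F167935) (iv3 D108594) F79428
theorem E17380 : n108854 = n108605 := ((c11_2 (iv7 F175546) F175547 (iv7 F168863) D108861)).symm
theorem F175548 : act 2 n108605 = n50266 := (sb E17380 (iv2 D108854))
theorem F175549 : act 7 n108605 = n50267 := (sb E17380 (iv7 F168863))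
theorem F175550 : act 2 n112754 = n108856 := d1_1 (iv4 F175547) (iv4 D108856) (iv2 F175548)
theorem E17381 : n108859 = n108604 := (c15_4 (iv0 D108604) D108605 F175549 (iv2 F168864))
theorem F175551 : act 2 n108604 = n50267 := (sb E17381 F168864)
theorem F175552 : act 7 n108604 = n50266 := (sb E17381 (iv7 D108859))
def n112756 : Q := act 3 n52045
theorem D112756 : act 3 n52045 = n112756 := rfl
theorem F175555 : act 7 n112756 = n110414 := d8_2 (iv7 F173344) D112756 (iv3 D110414)
def n112758 : Q := act 5 n52046
theorem D112758 : act 5 n52046 = n112758 := rfl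
theorem F175558 : act 2 n112758 = n52047 := d2_1 D112758 (iv5 D52047) D52046
theorem F175561 : act 1 n112758 = n110025 := d17_6 D24698 F81308 (iv1 F39593) (iv5 F39893) (iv4 F82259) D112758 (iv5 D110025) (iv0 D50747) (iv4 D24701)
def n112760 : Q := act 4 n52047
theorem D112760 : act 4 n52047 = n112760 := rfl
theorem F175564 : act 7 n112760 = n110419 := d11_2 (iv7 F82264) D112760 (iv4 D110419)
def n112761 : Q := act 6 n52047
theorem D112761 : act 6 n52047 = n112761 := rfl
theorem F175565 : act 3 n112761 = n52049 := d7_1 D112761 (iv6 D52049) (iv3 F82263)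
def n112766 : Q := act 0 n52049
theorem D112766 : act 0 n52049 = n112766 := rfl
def n112767 : Q := act 1 n52049
theorem D112767 : act 1 n52049 = n112767 := rfl
def n112768 : Q := act 5 n52049
theorem D112768 : act 5 n52049 = n112768 := rfl
theorem F175570 : act 6 n112768 = n52051 := d12_2 D52049 D112768 (iv5 D52051) (iv6 D25266) D25265
def n112769 : Q := act 7 n52049
theorem D112769 : act 7 n52049 = n112769 := rfl
theorem F175571 : act 6 n112769 = n110434 := d14_1 D112769 (iv7 D110434) (iv6 D50922) (iv7 F39864) D52049
def n112770 : Q := act 3 n52050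
theorem D112770 : act 3 n52050 = n112770 := rfl
theorem F175572 : act 7 n112770 = n110622 := d8_2 F161139 D112770 F171216
def n112771 : Q := act 5 n52050
theorem D112771 : act 5 n52050 = n112771 := rfl
theorem F175573 : act 7 n112771 = n110624 := d13_2 F161139 D112771 (iv5 D110624)
def n112772 : Q := act 0 n52051
theorem D112772 : act 0 n52051 = n112772 := rfl
def n112773 : Q := act 1 n52051
theorem D112773 : act 1 n52051 = n112773 := rfl
def n112774 : Q := act 4 n52051
theorem D112774 : act 4 n52051 = n112774 := rfl
def n112775 : Q := act 7 n52051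
theorem D112775 : act 7 n52051 = n112775 := rfl
theorem F175574 : act 5 n112775 = n52052 := d13_1 D112775 (iv7 D52052) D52051
def n112776 : Q := act 3 n52054
theorem D112776 : act 3 n52054 = n112776 := rfl
theorem F175575 : act 7 n112776 = n110599 := d8_2 (iv7 F82271) D112776 F171174
def n112777 : Q := act 5 n52054
theorem D112777 : act 5 n52054 = n112777 := rfl
theorem F175576 : act 7 n112777 = n110602 := d13_2 (iv7 F82271) D112777 (iv5 D110602)
def n112778 : Q := act 2 n52055
theorem D112778 : act 2 n52055 = n112778 := rfl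
theorem F175577 : act 7 n52056 = n112778 := d15_2 (iv0 D52055) D52056 (iv2 D112778)
def n112779 : Q := act 3 n52055
theorem D112779 : act 3 n52055 = n112779 := rfl
theorem F175578 : act 4 n112779 = n64316 := d20_6 D30738 F49199 F24234 (iv3 F39866) D52055 D112779 (iv1 F169569) F169564 F79927 (iv1 F38642)
theorem F175579 : act 0 n59443 = n112779 := d18_0 F175578 (iv1 F169569) F169564 F79928 (iv4 F79922) F169343 F169342 F93035 (iv5 F93832)
def n112780 : Q := act 4 n52055
theorem D112780 : act 4 n52055 = n112780 := rfl
def n112781 : Q := act 5 n52055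
theorem D112781 : act 5 n52055 = n112781 := rfl
theorem F175580 : act 6 n112781 = n58976 := d12_2 F167253 D112781 (iv5 F167256) (iv6 D108161) D108160
theorem F175581 : act 0 n112781 = n108102 := d21_1 D112781 (iv5 D108102) (iv6 F95304) (iv1 D48824) (iv6 D23810) (iv5 F24295) (iv1 D11997) D11998 (iv6 F39867) D52055
theorem F175582 : act 0 n59115 = n112781 := d21_10 (iv5 D112781) (iv1 F162053) F162050 (iv6 F82014) (iv1 F80292) D50935 (iv5 F82066) F166183 (iv5 D59114) D59115
def n112782 : Q := act 7 n52055
theorem D112782 : act 7 n52055 = n112782 := rfl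
theorem F175583 : act 2 n112782 = n52056 := d4_1 D112782 F175577 (iv2 D112778)
def n112783 : Q := act 3 n52056
theorem D112783 : act 3 n52056 = n112783 := rfl
def n112784 : Q := act 4 n52056
theorem D112784 : act 4 n52056 = n112784 := rfl
theorem F175584 : act 0 n112784 = n109270 := d18_2 (iv1 F162052) D112784 F169262 F79798 (iv4 F168777) (iv0 F168778) F82009 D51939 (iv5 F162050)
def n112785 : Q := act 5 n52056
theorem D112785 : act 5 n52056 = n112785 := rfl
theorem F175585 : act 0 n112785 = n59115 := d21_1 D112785 (iv5 F166173) F166174 F166178 (iv6 F96962) (iv5 D62196) F96942 (iv5 F103699) (iv6 F162051) (iv1 F162052)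
theorem F175586 : act 6 n112785 = n59012 := d21_3 (iv5 F162050) (iv1 F162052) D112785 (iv1 F93216) (iv6 F45442) F45441 D53958 (iv5 F85098) (iv6 F82017) F82015
theorem F175587 : act 6 n62133 = n52056 := d21_5 (iv5 D58989) (iv1 F93184) F93181 D68272 (iv1 F104423) D112785 F175585 (iv5 F166173) F166174 F166178
theorem F175588 : act 0 n108102 = n112785 := d21_10 (iv5 D112785) (iv1 D52056) (iv5 D25268) (iv6 D11995) D11992 D25258 F39840 D49746 D107682 (iv6 F167177)
def n112786 : Q := act 0 n52057
theorem D112786 : act 0 n52057 = n112786 := rfl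
theorem F175589 : act 4 n112786 = n107065 := d20_8 (iv4 F104301) (iv1 F165025) F165026 F100157 (iv1 D25282) (iv3 F39866) D52057 D112786 (iv3 D107065) F82131
def n112787 : Q := act 1 n52057
theorem D112787 : act 1 n52057 = n112787 := rfl
theorem F175590 : act 4 n112787 = n107123 := d18_7 (iv1 F168783) (iv4 F82031) F82032 F39865 D25268 D52057 D112787 F169274 F169272
def n112788 : Q := act 5 n52057
theorem D112788 : act 5 n52057 = n112788 := rfl
def n112789 : Q := act 7 n52057
theorem D112789 : act 7 n52057 = n112789 := rfl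
theorem F175591 : act 4 n112789 = n52058 := d11_1 D112789 (iv7 D52058) D52057
theorem F175592 : act 6 n112789 = n67685 := d14_1 D112789 (iv7 D67685) (iv6 D31434) (iv7 F39889) (iv6 F82272)
def n112790 : Q := act 6 n52059
theorem D112790 : act 6 n52059 = n112790 := rfl
theorem F175593 : act 4 n112790 = n111975 := d10_1 D112790 (iv6 D111975) (iv4 F82278)
def n112791 : Q := act 1 n52061
theorem D112791 : act 1 n52061 = n112791 := rfl
theorem F175594 : act 1 n112791 = n109325 := d15_1 D112791 (iv7 F174086) F174085
theorem F175597 : act 4 n112791 = n112038 := d17_9 (iv1 D112038) D112040 (iv1 F174187) (iv5 D110206) (iv4 D50816) D50817 F171276 (iv5 F171320) D112791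
theorem F175598 : act 3 n110690 = n112791 := d20_9 F82282 (iv1 D50450) F38601 (iv3 D11639) (iv1 F11443) D14953 (iv4 F50048) D68195 (iv4 F171296) (iv1 D112791)
theorem F175600 : act 3 n112038 = n109297 := d20_3 D109325 (iv1 F175594) F175597 (iv1 D109297) (iv3 D50438) (iv4 D24585) (iv1 D11629) D11630 D24589 D50449
theorem F175601 : act 7 n109297 = n111979 := d8_2 (iv7 F174154) F175600 (iv3 F174091)
theorem F175602 : act 2 n111979 = n109296 := d15_3 (iv0 D109296) D109297 F175601
theorem F175603 : act 2 n109297 = n111978 := d15_3 (iv0 D111978) D111979 (iv7 F175601)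
theorem F175604 : act 7 n111978 = n109296 := d4_2 (iv7 F175601) F175603 (iv2 F175602)
def n112793 : Q := act 0 n52062
theorem D112793 : act 0 n52062 = n112793 := rfl
theorem F175607 : act 4 n112793 = n59074 := d18_3 D25274 D52062 D112793 (iv5 D59074) D59073 (iv0 F93254) (iv4 D51822) (iv0 D25158) (iv5 F19839)
theorem F175609 : act 2 n110523 = n112793 := d1_3 F175607 (iv2 F173832) (iv4 F173833)
def n112794 : Q := act 1 n52062
theorem D112794 : act 1 n52062 = n112794 := rfl
theorem F175612 : act 7 n112794 = n110523 := d15_2 (iv0 D112793) D112794 F175609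
theorem F175613 : act 4 n112794 = n109601 := d18_7 (iv1 F174142) F174147 (iv1 D110675) (iv4 D51030) (iv5 F171315) D52062 D112794 F170780 (iv5 F173357)
theorem F175615 : act 3 n112794 = n110385 := d20_3 D110410 (iv1 F170780) (iv4 F175613) (iv1 D110385) (iv3 D50903) (iv4 D24757) (iv1 D11721) D11722 D24761 D50914
theorem F175616 : act 7 n110385 = n112728 := d8_2 (iv7 F175612) F175615 (iv3 F175477)
theorem F175618 : act 2 n110385 = n112727 := d15_3 (iv0 D112727) D112728 (iv7 F175616)
def n112795 : Q := act 3 n52062
theorem D112795 : act 3 n52062 = n112795 := rfl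
theorem F175620 : act 4 n112795 = n109329 := d5_2 D52062 D112795 (iv3 D109329) (iv4 F82282) (iv3 D52061)
def n112796 : Q := act 5 n52062
theorem D112796 : act 5 n52062 = n112796 := rfl
theorem F175622 : act 2 n112796 = n110538 := d2_1 D112796 (iv5 D110538) (iv2 F171059)
def n112802 : Q := act 4 n52066
theorem D112802 : act 4 n52066 = n112802 := rfl
theorem F175634 : act 7 n112802 = n110535 := d11_2 (iv7 F171067) D112802 (iv4 D110535)
def n112804 : Q := act 3 n52067
theorem D112804 : act 3 n52067 = n112804 := rfl
theorem F175638 : act 7 n112804 = n110537 := d8_2 (iv7 F171069) D112804 (iv3 D110537)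
theorem F175639 : act 0 n52224 = n112804 := d20_4 F39854 (iv1 F38474) D25367 D52224 (iv3 D112804) (iv4 D52067) (iv1 D25275) (iv4 F39862) (iv3 D25264) D25262
def n112834 : Q := act 5 n52077
theorem D112834 : act 5 n52077 = n112834 := rfl
theorem F175679 : act 4 n112834 = n65133 := d9_1 D112834 F100908 F49709 F24478 (iv4 F38852) (iv5 F80494) (iv4 F171383) F171384 (iv4 D65652) (iv5 D30755) F24234 (iv5 D12003) (iv4 F19842) D25278 D52077
theorem F175680 : act 7 n112834 = n67663 := d16_8 (iv4 D65652) (iv5 D30755) F24234 (iv5 D12003) (iv4 F19842) D25278 D52077 D112834 F103682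
theorem F175681 : act 0 n112834 = n74585 := d17_2 F169635 D112834 (iv5 F169633) (iv4 D109651) (iv5 D50576) (iv0 D24635) D24636 D50578 D109657
def n112835 : Q := act 7 n52077
theorem D112835 : act 7 n52077 = n112835 := rfl
theorem F175683 : act 4 n112835 = n52078 := d11_1 D112835 (iv7 D52078) D52077
theorem F175684 : act 5 n112835 = n67663 := d13_1 D112835 (iv7 F175680) (iv5 D112834)
def n112837 : Q := act 4 n52079
theorem D112837 : act 4 n52079 = n112837 := rfl
theorem F175691 : act 2 n112837 = n58859 := d1_1 D112837 F93074 F82304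
theorem F175692 : act 6 n112837 = n58825 := d10_2 F82308 D112837 F93000
theorem F175693 : act 7 n112837 = n58773 := d11_2 (iv7 F82306) D112837 F92905
theorem F175694 : act 0 n112837 = n58857 := d20_1 D112837 F93073 F76498 F38600 F18999 (iv4 F19004) D24635 F38856 D25280 D52079
theorem F175695 : act 0 n58856 = n112837 := d20_1 (iv4 F93069) (iv4 D112837) F101581 (iv1 D65896) F49287 (iv4 F82009) F168778 F168777 F79614 D52253

end Cfsg.Agent.Helper17.ONTC
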