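import Cfsg.Agent.Helper17.ONTC.Facts22

set_option autoImplicit false
set_option linter.all false

noncomputable section

namespace Cfsg.Agent.Helper17.ONTC

def n112838 : Q := act 4 n52080
theorem D112838 : act 4 n52080 = n112838 := rfl
theorem F175696 : act 2 n112838 = n52081 := d1_1 D112838 (iv4 D52081) D52080
theorem F175697 : act 6 n112838 = n107527 := d10_2 (iv6 F82310) D112838 F165898
theorem F175698 : act 7 n112838 = n52274 := d11_2 (iv7 F82311) D112838 F82655
theorem F175699 : act 0 n112838 = n110500 := d20_1 D112838 F170994 F93063 (iv1 F79469) (iv3 F39228) D51423 F171702 F171701 F80627 (iv1 F82312)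
theorem F175700 : act 0 n52252 = n112838 := d20_1 (iv4 F82616) (iv4 D112838) F82309 (iv1 F45885) (iv3 F82850) F169322 (iv1 D109302) F79811 (iv3 F76498) F76500
def n112839 : Q := act 0 n52081
theorem D112839 : act 0 n52081 = n112839 := rfl
theorem F175701 : act 4 n112839 = n52255 := d20_2 D52081 D112839 (iv3 F168781) (iv1 F168783) F79632 (iv4 F79908) F93041 F93040 F45238 (iv1 F50047)
theorem F175702 : act 2 n110500 = n112839 := d15_3 (iv0 D112839) (iv0 F93053) (iv7 F170993)
theorem F175703 : act 1 n52274 = n112839 := d15_0 (iv0 D112839) F82314 (iv2 F82654)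
theorem F175704 : act 7 n112839 = n52252 := d15_2 (iv0 F93052) F175703 (iv2 F93050)
theorem F175705 : act 6 n110568 = n112839 := d14_5 F175704 (iv6 D52252) (iv7 F45201) D58799 (iv7 F171117)
def n112840 : Q := act 5 n52081
theorem D112840 : act 5 n52081 = n112840 := rfl
theorem F175706 : act 7 n112840 = n110501 := d13_2 (iv7 F82314) D112840 (iv5 D110501)
def n112841 : Q := act 4 n52082
theorem D112841 : act 4 n52082 = n112841 := rfl
theorem F175707 : act 2 n112841 = n67499 := d1_1 D112841 (iv4 D67499) F168074
theorem F175708 : act 7 n112841 = n67503 := d11_2 (iv7 F168057) D112841 (iv4 D67503)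
theorem F175709 : act 0 n53923 = n112841 := d20_7 (iv4 F49709) (iv1 F49711) (iv4 D30738) F168262 (iv1 D30676) (iv3 F48770) (iv4 F85050) (iv4 D112841) (iv3 D52082) (iv1 F39911)
def n112842 : Q := act 0 n52086
theorem D112842 : act 0 n52086 = n112842 := rfl
def n112843 : Q := act 1 n52086
theorem D112843 : act 1 n52086 = n112843 := rfl
def n112844 : Q := act 2 n52086
theorem D112844 : act 2 n52086 = n112844 := rfl
theorem F175710 : act 3 n112844 = n108168 := d0_2 D52086 D112844 (iv2 D108168) (iv3 D49957) (iv2 F39939)
theorem F175711 : act 4 n112844 = n110924 := d1_2 (iv4 F82326) D112844 (iv2 D110924)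
def n112845 : Q := act 6 n52086
theorem D112845 : act 6 n52086 = n112845 := rfl
theorem F175712 : act 3 n112845 = n52087 := d7_1 D112845 (iv6 D52087) D52086
theorem F175713 : act 4 n112845 = n110926 := d10_1 D112845 (iv6 D110926) (iv4 F82326)
def n112846 : Q := act 5 n52087
theorem D112846 : act 5 n52087 = n112846 := rfl
theorem F175714 : act 2 n112846 = n108173 := d2_1 D112846 (iv5 D108173) (iv2 F82327)
def n112847 : Q := act 7 n52087
theorem D112847 : act 7 n52087 = n112847 := rfl
theorem F175715 : act 2 n112847 = n108174 := d4_1 D112847 (iv7 D108174) (iv2 F82327)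
theorem F175716 : act 4 n112847 = n52090 := d11_1 D112847 (iv7 D52090) (iv4 F82328)
theorem F175717 : act 6 n112847 = n67518 := d14_1 D112847 F103413 (iv6 D52146) F39989 D52087
theorem F175718 : act 1 n108172 = n112847 := d15_1 D108172 (iv7 D112847) F82327
theorem F175719 : act 1 n112847 = n67566 := d15_1 F175718 (iv7 F111332) F167278
def n112848 : Q := act 4 n52088
theorem D112848 : act 4 n52088 = n112848 := rfl
theorem F175720 : act 2 n112848 = n61264 := d1_1 D112848 F165091 (iv2 F103501)
theorem F175721 : act 6 n112848 = n67480 := d10_2 (iv6 F82329) D112848 (iv4 D67480)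
theorem F175722 : act 7 n112848 = n61265 := d11_2 (iv7 F103502) D112848 (iv4 F163691)
theorem F175723 : act 0 n112848 = n61267 := d18_2 D52088 D112848 F95738 F46638 (iv4 F78314) F163688 (iv4 F165334) (iv0 D49675) (iv5 F39942)
theorem F175724 : act 1 n112848 = n52111 := d18_6 F100082 (iv4 F164841) (iv1 F164842) (iv4 D74731) (iv5 F82330) D112848 F82371 D52113 (iv5 F93303)
def n112849 : Q := act 4 n52089
theorem D112849 : act 4 n52089 = n112849 := rfl
theorem F175725 : act 2 n112849 = n61265 := d1_1 D112849 (iv4 F163691) (iv2 F103504)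
theorem F175726 : act 7 n112849 = n61264 := d11_2 (iv7 F103505) D112849 F165091
theorem F175727 : act 0 n112849 = n52111 := d18_2 (iv1 F82331) D112849 F82371 F39958 (iv4 F77667) D106428 (iv4 F163682) F78475 (iv5 F79018)
theorem F175728 : act 1 n112849 = n61267 := d18_6 (iv1 D106403) (iv4 F163565) (iv1 F164840) (iv4 D74729) F82332 D112849 F95738 F82375 F163569
def n112850 : Q := act 6 n52089
theorem D112850 : act 6 n52089 = n112850 := rfl
theorem F175729 : act 2 n112850 = n67602 := d3_1 D112850 F103482 (iv2 F103504)
theorem F175730 : act 5 n112850 = n67484 := d12_1 D112850 (iv6 D67484) (iv5 F49622) (iv6 F53884) F82332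
theorem F175731 : act 7 n112850 = n67484 := d14_2 (iv7 F103505) D112850 (iv6 D67484) (iv7 F103491) D31395
theorem F175732 : act 0 n112850 = n67501 := d21_10 F103385 (iv1 F82368) F41223 (iv6 D26066) (iv1 F20539) D13514 (iv5 F26238) D34241 F82332 D112850
theorem F175733 : act 0 n67601 = n112850 := d21_4 (iv5 F96592) (iv1 F172146) (iv5 F96489) F103481 (iv6 D112850) (iv5 F82332) (iv1 F80694) (iv5 F94062) F94063 (iv1 F80763)
def n112851 : Q := act 0 n52091
theorem D112851 : act 0 n52091 = n112851 := rfl
theorem F175734 : act 1 n111000 = n112851 := d15_0 (iv0 D112851) F82342 D111000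
def n112852 : Q := act 1 n52091
theorem D112852 : act 1 n52091 = n112852 := rfl
def n112853 : Q := act 2 n52091
theorem D112853 : act 2 n52091 = n112853 := rfl
theorem F175735 : act 3 n112853 = n65222 := d0_2 D52091 D112853 F100975 F49085 (iv2 F39943)
theorem F175736 : act 4 n112853 = n110935 := d1_2 (iv4 F82341) D112853 (iv2 D110935)
theorem F175737 : act 7 n112853 = n111000 := d4_2 (iv7 F82342) D112853 (iv2 D111000)
theorem F175738 : act 1 n112853 = n110998 := d15_0 (iv0 D110998) (iv7 F82342) D112853
theorem F175739 : act 1 n112852 = n111000 := d15_1 D112852 (iv7 F175737) (iv2 D112853)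
theorem F175740 : act 1 n110999 = n112853 := d15_1 D110999 F175737 (iv2 D111000)
def n112854 : Q := act 6 n52091
theorem D112854 : act 6 n52091 = n112854 := rfl
theorem F175741 : act 3 n112854 = n52092 := d7_1 D112854 (iv6 D52092) D52091
theorem F175742 : act 4 n112854 = n110937 := d10_1 D112854 (iv6 D110937) (iv4 F82341)
def n112855 : Q := act 0 n52092
theorem D112855 : act 0 n52092 = n112855 := rfl
theorem F175743 : act 4 n112855 = n52204 := d20_2 (iv4 F82344) D112855 F161366 (iv1 F80878) F80875 (iv4 F167683) (iv1 F167684) (iv4 F171750) (iv3 F171749) (iv1 D52094)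
theorem F175744 : act 6 n59666 = n112855 := d10_0 F175743 F163581 (iv4 F163578)
theorem F175745 : act 7 n108219 = n112855 := d11_0 F175743 F161367 F167332
theorem F175746 : act 1 n108221 = n112855 := d18_6 F45250 (iv4 F93051) F93053 (iv4 D52081) (iv5 F79065) (iv4 F167334) F175743 (iv0 D52204) (iv5 F40161)
theorem F175747 : act 2 n112855 = n108218 := d15_3 (iv0 D108218) D108219 F175745
theorem F175748 : act 4 n108218 = n52182 := d1_2 (iv4 F175743) F175747 (iv2 F161365)
theorem F175749 : act 6 n108218 = n107277 := d3_2 F175744 F175747 F165330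
def n112856 : Q := act 1 n52092
theorem D112856 : act 1 n52092 = n112856 := rfl
theorem F175750 : act 1 n112856 = n108221 := d15_1 D112856 (iv7 D108221) (iv2 F82343)
theorem F175751 : act 7 n112856 = n108218 := d15_2 (iv0 D112855) D112856 (iv2 F175747)
theorem F175752 : act 4 n112856 = n52205 := d18_7 (iv1 F93059) (iv4 F175701) (iv1 F175703) F82655 (iv5 F45254) (iv4 F82344) D112856 F82543 (iv5 F93057)
theorem F175753 : act 2 n108219 = n112856 := d1_3 F175752 F161363 F167332
def n112857 : Q := act 5 n52092
theorem D112857 : act 5 n52092 = n112857 := rfl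
theorem F175754 : act 2 n112857 = n108220 := d2_1 D112857 (iv5 D108220) (iv2 F82343)
def n112858 : Q := act 7 n52092
theorem D112858 : act 7 n52092 = n112858 := rfl
theorem F175755 : act 2 n112858 = n108221 := d4_1 D112858 (iv7 D108221) (iv2 F82343)
theorem F175756 : act 4 n112858 = n52095 := d11_1 D112858 (iv7 D52095) (iv4 F82344)
theorem F175757 : act 6 n112858 = n110997 := d14_1 D112858 (iv7 D110997) F80738 (iv7 F39944) D52092
theorem F175758 : act 1 n108219 = n112858 := d15_1 D108219 (iv7 D112858) F82343
theorem F175759 : act 1 n112858 = n108218 := d15_1 F175758 (iv7 F175751) (iv2 F175753)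
def n112859 : Q := act 4 n52093
theorem D112859 : act 4 n52093 = n112859 := rfl
theorem F175760 : act 2 n112859 = n108223 := d1_1 D112859 (iv4 D108223) (iv2 F166441)
theorem F175761 : act 6 n112859 = n59675 := d10_2 (iv6 F82345) D112859 (iv4 D59675)
theorem F175762 : act 7 n112859 = n108226 := d11_2 (iv7 F166439) D112859 (iv4 D108226)
def n112860 : Q := act 5 n52093
theorem D112860 : act 5 n52093 = n112860 := rfl
theorem F175763 : act 2 n112860 = n108224 := d2_1 D112860 (iv5 D108224) (iv2 F166441)
theorem F175764 : act 6 n112860 = n110943 := d12_2 (iv6 F82345) D112860 (iv5 D110943) F80802 F80801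
theorem F175765 : act 7 n112860 = n58972 := d13_2 (iv7 F166439) D112860 F93175
theorem F175766 : act 0 n112860 = n58906 := d21_1 D112860 F93120 (iv6 F168049) F168045 F77806 (iv5 D24035) (iv1 F19194) (iv5 F19864) D25293 D52093
theorem F175767 : act 0 n67500 = n112860 := d21_10 (iv5 D112860) F82346 F79065 (iv6 F50046) (iv1 F78463) F94075 (iv5 F94074) F163202 (iv5 D106201) (iv6 F103359)
def n112861 : Q := act 4 n52094
theorem D112861 : act 4 n52094 = n112861 := rfl
theorem F175768 : act 2 n112861 = n108226 := d1_1 D112861 (iv4 D108226) F166438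
theorem F175769 : act 7 n112861 = n108223 := d11_2 F166440 D112861 (iv4 D108223)
theorem F175770 : act 0 n112861 = n52097 := d18_2 (iv1 F82347) D112861 F82358 (iv5 F76499) (iv4 F93073) (iv0 F175694) (iv4 D112837) (iv0 D52079) (iv5 F79065)
theorem F175771 : act 1 n112859 = n52097 := d15_0 (iv0 F175770) F175769 (iv2 F175760)
def n112862 : Q := act 0 n52096
theorem D112862 : act 0 n52096 = n112862 := rfl
theorem F175772 : act 1 n107117 = n112862 := d15_0 (iv0 D112862) F82357 D107117
def n112863 : Q := act 1 n52096
theorem D112863 : act 1 n52096 = n112863 := rfl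
def n112864 : Q := act 2 n52096
theorem D112864 : act 2 n52096 = n112864 := rfl
theorem F175773 : act 7 n112864 = n107117 := d4_2 (iv7 F82357) D112864 (iv2 D107117)
theorem F175774 : act 1 n112864 = n107115 := d15_0 (iv0 D107115) (iv7 F82357) D112864
theorem F175775 : act 1 n112863 = n107117 := d15_1 D112863 (iv7 F175773) (iv2 D112864)
theorem F175776 : act 1 n107116 = n112864 := d15_1 D107116 F175773 (iv2 D107117)
def n112865 : Q := act 6 n52096
theorem D112865 : act 6 n52096 = n112865 := rfl
theorem F175777 : act 3 n112865 = n52097 := d7_1 D112865 (iv6 D52097) D52096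
def n112866 : Q := act 5 n52097
theorem D112866 : act 5 n52097 = n112866 := rfl
def n112867 : Q := act 7 n52097
theorem D112867 : act 7 n52097 = n112867 := rfl
theorem F175778 : act 4 n112867 = n52184 := d11_1 D112867 (iv7 D52184) (iv4 F82358)
theorem F175779 : act 6 n112867 = n107114 := d14_1 D112867 (iv7 D107114) F78225 F39949 D52097
theorem F175780 : act 1 n108226 = n112867 := d15_1 (iv0 F167345) (iv7 D112867) (iv2 F82435)
theorem F175781 : act 1 n112867 = n108223 := d15_1 F175780 (iv7 F175769) F175768
theorem F175782 : act 0 n108225 = n52139 := d20_4 (iv4 F175778) (iv1 F175780) (iv4 D108226) D108225 (iv3 F101609) (iv4 F101611) (iv1 F172392) (iv4 D65098) (iv3 F161366) (iv1 F82546)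
theorem F175783 : act 1 n108225 = n107666 := d15_1 (iv0 F175782) (iv7 D107666) (iv2 F82416)
def n112868 : Q := act 0 n52098
theorem D112868 : act 0 n52098 = n112868 := rfl
theorem F175784 : act 3 n112868 = n65219 := d20_5 F40082 (iv1 F19951) (iv4 F39950) D52098 D112868 (iv4 D65219) (iv1 D30614) D30616 F49085 (iv1 F40084)
def n112869 : Q := act 1 n52098
theorem D112869 : act 1 n52098 = n112869 := rfl
def n112870 : Q := act 2 n52098
theorem D112870 : act 2 n52098 = n112870 := rfl
theorem F175785 : act 3 n112870 = n107117 := d0_2 D52098 D112870 (iv2 D107117) (iv3 D49485) F39951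
def n112871 : Q := act 5 n52098
theorem D112871 : act 5 n52098 = n112871 := rfl
theorem F175786 : act 3 n112871 = n52099 := d6_1 D112871 (iv5 D52099) D52098
theorem F175787 : act 7 n112871 = n110333 := d13_2 F82434 D112871 F170570
def n112872 : Q := act 6 n52098
theorem D112872 : act 6 n52098 = n112872 := rfl
theorem F175788 : act 3 n112872 = n52100 := d7_1 D112872 (iv6 D52100) D52098
def n112873 : Q := act 6 n52099
theorem D112873 : act 6 n52099 = n112873 := rfl
theorem F175789 : act 2 n112873 = n61523 := d3_1 D112873 (iv6 D61523) (iv2 F82359)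
theorem F175790 : act 4 n112873 = n52117 := d10_1 D112873 (iv6 D52117) (iv4 F82360)
def n112874 : Q := act 5 n52100
theorem D112874 : act 5 n52100 = n112874 := rfl
def n112875 : Q := act 7 n52100
theorem D112875 : act 7 n52100 = n112875 := rfl
theorem F175792 : act 2 n112875 = n107114 := d4_1 D112875 (iv7 D107114) (iv2 F82362)
theorem F175793 : act 4 n112875 = n52187 := d11_1 D112875 (iv7 D52187) (iv4 F82363)
theorem F175794 : act 1 n107111 = n112875 := d15_1 D107111 (iv7 D112875) F82362
theorem F175795 : act 1 n112875 = n107110 := d15_1 F175794 (iv7 F165802) F165801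
theorem F175796 : act 4 n108113 = n64303 := d20_8 (iv4 F175793) (iv1 F175794) F165085 F171583 (iv1 D108105) F78975 (iv4 F78978) D108113 (iv3 F164928) (iv1 F82515)
theorem F175797 : act 4 n109281 = n107694 := d18_5 (iv1 D49936) (iv4 F78978) D108113 F175796 (iv5 F169295) (iv0 D107694) F78618 D49754 (iv5 F93885)
def n112876 : Q := act 0 n52101
theorem D112876 : act 0 n52101 = n112876 := rfl
theorem F175798 : act 2 n52105 = n112876 := d15_3 (iv0 D112876) (iv0 D52101) D52105
theorem F175799 : act 7 n112876 = n52103 := d4_2 D52105 F175798 (iv2 D52103)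
theorem F175800 : act 1 n52102 = n112876 := d15_1 D52102 F175799 (iv2 D52103)
def n112877 : Q := act 2 n52101
theorem D112877 : act 2 n52101 = n112877 := rfl
theorem F175801 : act 7 n52102 = n112877 := d15_2 (iv0 D52101) D52102 (iv2 D112877)
def n112878 : Q := act 3 n52101
theorem D112878 : act 3 n52101 = n112878 := rfl
theorem F175802 : act 4 n112878 = n111178 := d20_6 (iv4 D24211) F18563 D12011 D25296 D52101 D112878 (iv1 F172423) (iv4 F82519) F82518 (iv1 F40060)
def n112879 : Q := act 4 n52101
theorem D112879 : act 4 n52101 = n112879 := rfl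
def n112880 : Q := act 5 n52101
theorem D112880 : act 5 n52101 = n112880 := rfl
def n112881 : Q := act 6 n52101
theorem D112881 : act 6 n52101 = n112881 := rfl
def n112882 : Q := act 7 n52101
theorem D112882 : act 7 n52101 = n112882 := rfl
theorem F175803 : act 2 n112882 = n52102 := d4_1 D112882 F175801 (iv2 D112877)
def n112883 : Q := act 3 n52102
theorem D112883 : act 3 n52102 = n112883 := rfl
def n112884 : Q := act 4 n52102
theorem D112884 : act 4 n52102 = n112884 := rfl
theorem F175804 : act 3 n108481 = n112884 := d20_5 (iv4 D16535) F19431 (iv4 F38305) (iv3 F79283) (iv1 F167709) (iv4 D112884) (iv1 D52102) (iv4 F48142) (iv3 D29944) F26167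
def n112885 : Q := act 5 n52102
theorem D112885 : act 5 n52102 = n112885 := rfl
def n112886 : Q := act 6 n52102
theorem D112886 : act 6 n52102 = n112886 := rfl
def n112887 : Q := act 0 n52103
theorem D112887 : act 0 n52103 = n112887 := rfl
theorem F175805 : act 1 n52105 = n112887 := d15_0 (iv0 D112887) (iv7 F175799) (iv2 F175798)
theorem F175806 : act 4 n108471 = n112887 := d20_6 (iv4 D14509) F19436 D11527 D24426 D50085 D108471 (iv1 F175805) (iv4 F98683) F98682 (iv1 F48144)
def n112888 : Q := act 1 n52103
theorem D112888 : act 1 n52103 = n112888 := rfl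
theorem F175807 : act 1 n112888 = n52105 := d15_1 D112888 (iv7 D52105) D52103
theorem F175808 : act 3 n112888 = n111175 := d20_5 (iv4 D24370) (iv1 F19870) (iv4 F39952) (iv3 F82365) (iv1 F175807) (iv4 D111175) (iv1 D51278) (iv4 F40058) (iv3 D25348) (iv1 F38207)
def n112889 : Q := act 5 n52103
theorem D112889 : act 5 n52103 = n112889 := rfl
theorem F175809 : act 2 n112889 = n52104 := d2_1 D112889 (iv5 D52104) D52103
def n112890 : Q := act 0 n52104
theorem D112890 : act 0 n52104 = n112890 := rfl
def n112891 : Q := act 1 n52104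
theorem D112891 : act 1 n52104 = n112891 := rfl
def n112892 : Q := act 4 n52104
theorem D112892 : act 4 n52104 = n112892 := rfl
def n112893 : Q := act 6 n52104
theorem D112893 : act 6 n52104 = n112893 := rfl
theorem F175810 : act 3 n112893 = n52106 := d7_1 D112893 (iv6 D52106) (iv3 F82364)
def n112894 : Q := act 6 n52105
theorem D112894 : act 6 n52105 = n112894 := rfl
theorem F175811 : act 3 n112894 = n52107 := d7_1 D112894 (iv6 D52107) (iv3 F82365)
theorem F175812 : act 7 n112894 = n67455 := d14_2 D52105 D112894 (iv6 D67455) F49609 F46314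
def n112895 : Q := act 0 n52106
theorem D112895 : act 0 n52106 = n112895 := rfl
def n112896 : Q := act 1 n52106
theorem D112896 : act 1 n52106 = n112896 := rfl
def n112897 : Q := act 7 n52106
theorem D112897 : act 7 n52106 = n112897 := rfl
def n112898 : Q := act 1 n52107
theorem D112898 : act 1 n52107 = n112898 := rfl
theorem F175813 : act 1 n112898 = n53907 := d15_1 D112898 F85009 F82444
theorem F175814 : act 7 n112898 = n67458 := d15_2 (iv0 F168119) D112898 (iv2 F168109)
theorem F175815 : act 4 n52196 = n112898 := d20_0 (iv1 D112898) F82366 (iv3 F48146) D63382 F169259 D105657 F169256 F169255 F79791 (iv1 F82522)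
theorem F175816 : act 2 n112898 = n67457 := d1_1 F175815 (iv4 F168374) F168372
def n112899 : Q := act 5 n52107
theorem D112899 : act 5 n52107 = n112899 := rfl
theorem F175817 : act 7 n112899 = n67459 := d13_2 (iv7 F82367) D112899 (iv5 D67459)
def n112900 : Q := act 4 n52108
theorem D112900 : act 4 n52108 = n112900 := rfl
theorem F175818 : act 2 n112900 = n59798 := d1_1 D112900 (iv4 D59798) (iv2 F168093)
theorem F175819 : act 7 n112900 = n67462 := d11_2 (iv7 F103378) D112900 (iv4 D67462)
theorem F175820 : act 0 n112900 = n59663 := d20_1 D112900 F94068 F48760 D30663 (iv3 F168211) D106936 (iv1 F168121) F98684 F48146 D52108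
theorem F175821 : act 0 n52213 = n112900 := d20_1 (iv4 F82554) (iv4 D112900) F168094 (iv1 D31714) (iv3 F50015) F50016 (iv1 F100227) (iv4 D64054) (iv3 F168373) (iv1 D52215)
def n112901 : Q := act 0 n52110
theorem D112901 : act 0 n52110 = n112901 := rfl
def n112902 : Q := act 1 n52110
theorem D112902 : act 1 n52110 = n112902 := rfl
def n112903 : Q := act 2 n52110
theorem D112903 : act 2 n52110 = n112903 := rfl
theorem F175822 : act 3 n112903 = n61260 := d0_2 D52110 D112903 (iv2 D61260) (iv3 D29001) (iv2 F39956)
def n112904 : Q := act 6 n52110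
theorem D112904 : act 6 n52110 = n112904 := rfl
theorem F175823 : act 3 n112904 = n52111 := d7_1 D112904 (iv6 D52111) D52110
def n112905 : Q := act 5 n52111
theorem D112905 : act 5 n52111 = n112905 := rfl
theorem F175824 : act 2 n112905 = n61266 := d2_1 D112905 (iv5 D61266) (iv2 F82370)
def n112906 : Q := act 7 n52111
theorem D112906 : act 7 n52111 = n112906 := rfl
theorem F175825 : act 2 n112906 = n61267 := d4_1 D112906 (iv7 D61267) (iv2 F82370)
theorem F175826 : act 4 n112906 = n52114 := d11_1 D112906 (iv7 D52114) (iv4 F82371)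
theorem F175827 : act 6 n112906 = n67515 := d14_1 D112906 F103402 (iv6 D52157) F40006 D52111
theorem F175828 : act 1 n61265 = n112906 := d15_1 D61265 (iv7 D112906) F82370
theorem F175829 : act 1 n112906 = n61264 := d15_1 F175828 (iv7 F175726) F175725
def n112907 : Q := act 6 n52113
theorem D112907 : act 6 n52113 = n112907 := rfl
theorem F175830 : act 2 n112907 = n61274 := d3_1 D112907 (iv6 D61274) (iv2 F111333)
theorem F175831 : act 3 n112907 = n67396 := d7_1 D112907 F168316 (iv3 F111334)
theorem F175832 : act 0 n112907 = n64946 := d21_10 (iv5 D64946) F168338 F49606 (iv6 D31347) F37483 D30413 (iv5 F77632) F93304 F93303 D112907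
def n112908 : Q := act 4 n52115
theorem D112908 : act 4 n52115 = n112908 := rfl
theorem F175833 : act 7 n112908 = n76400 := d11_2 (iv7 F82379) D112908 (iv4 D76400)
def n112909 : Q := act 6 n52115
theorem D112909 : act 6 n52115 = n112909 := rfl
theorem F175834 : act 3 n112909 = n52116 := d7_1 D112909 (iv6 D52116) (iv3 F82378)
theorem F175835 : act 5 n112909 = n112697 := d12_1 D112909 (iv6 D112697) (iv5 D52017) (iv6 F39960) D52115
def n112910 : Q := act 1 n52116
theorem D112910 : act 1 n52116 = n112910 := rfl
theorem F175836 : act 1 n112910 = n61296 := d15_1 D112910 (iv7 D61296) (iv2 F82381)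
theorem F175837 : act 7 n112910 = n61294 := d15_2 (iv0 F157670) D112910 (iv2 F157672)
theorem F175838 : act 2 n61295 = n112910 := d4_3 F175837 (iv2 F157672) (iv7 F157673)
theorem F175839 : act 1 n61296 = n93938 := d15_1 F175836 (iv7 F157673) F175838
def n112911 : Q := act 7 n52116
theorem D112911 : act 7 n52116 = n112911 := rfl
theorem F175840 : act 2 n112911 = n61296 := d4_1 D112911 (iv7 D61296) (iv2 F82381)
theorem F175841 : act 5 n112911 = n112701 := d13_1 D112911 (iv7 D112701) (iv5 F82382)
theorem F175842 : act 1 n61295 = n112911 := d15_1 D61295 (iv7 D112911) F82381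
theorem F175843 : act 1 n112911 = n61294 := d15_1 F175842 (iv7 F175837) (iv2 F175838)
def n112912 : Q := act 0 n52117
theorem D112912 : act 0 n52117 = n112912 := rfl
theorem F175844 : act 1 n61526 = n112912 := d15_0 (iv0 D112912) F157679 F157678
def n112913 : Q := act 1 n52117
theorem D112913 : act 1 n52117 = n112913 := rfl
theorem F175845 : act 1 n112913 = n61526 := d15_1 D112913 (iv7 D61526) (iv2 F82383)
def n112914 : Q := act 4 n52118
theorem D112914 : act 4 n52118 = n112914 := rfl
def n112915 : Q := act 6 n52118
theorem D112915 : act 6 n52118 = n112915 := rfl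
theorem F175846 : act 3 n112915 = n52120 := d7_1 D112915 (iv6 D52120) (iv3 F82385)
theorem F175847 : act 5 n112915 = n90113 := d12_1 D112915 (iv6 D90113) F82388 (iv6 D52119) D52118
def n112916 : Q := act 0 n52120
theorem D112916 : act 0 n52120 = n112916 := rfl
theorem F175848 : act 5 n112916 = n92970 := d21_8 F142874 F142196 (iv5 F67731) (iv6 D43230) (iv1 F32392) D42123 (iv5 F82389) D112916 F143380 F161695
theorem F175850 : act 7 n92969 = n112916 := d13_0 F175848 (iv7 D92970) D92969
def n112917 : Q := act 1 n52120
theorem D112917 : act 1 n52120 = n112917 := rfl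
def n112918 : Q := act 7 n52120
theorem D112918 : act 7 n52120 = n112918 := rfl
theorem F175851 : act 5 n112918 = n90116 := d13_1 D112918 (iv7 D90116) (iv5 F82389)
def n112919 : Q := act 5 n52121
theorem D112919 : act 5 n52121 = n112919 := rfl
theorem F175852 : act 2 n112919 = n52130 := d2_1 D112919 F82406 F82392
theorem F175853 : act 3 n112919 = n93873 := d6_1 D112919 (iv5 D93873) (iv3 F82391)
theorem F175854 : act 7 n112919 = n52125 := d13_2 (iv7 F82394) D112919 (iv5 D52125)
theorem F175855 : act 0 n112919 = n52127 := d17_2 D52121 D112919 (iv5 F82402) F51516 D32453 D69879 F106305 F94590 (iv4 F50600)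
theorem F175856 : act 1 n112919 = n52126 := d17_6 F26716 (iv5 F42151) (iv1 F86252) F86250 (iv4 F82390) D112919 F94244 (iv0 F82869) (iv4 D29570)
def n112920 : Q := act 4 n52122
theorem D112920 : act 4 n52122 = n112920 := rfl
def n112921 : Q := act 7 n52122
theorem D112921 : act 7 n52122 = n112921 := rfl
theorem F175857 : act 2 n112921 = n52124 := d4_1 D112921 (iv7 F96219) F96218
theorem F175858 : act 3 n112921 = n106507 := d8_1 D112921 F163766 F139174
theorem F175859 : act 5 n112921 = n52123 := d13_1 D112921 (iv7 D52123) D52122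
theorem F175860 : act 0 n62556 = n112921 := d21_1 D62556 F175859 F82398 (iv1 D26511) (iv6 D12657) D12656 D26505 F42431 D32448 F51517
def n112922 : Q := act 4 n52124
theorem D112922 : act 4 n52124 = n112922 := rfl
def n112923 : Q := act 6 n52124
theorem D112923 : act 6 n52124 = n112923 := rfl
def n112924 : Q := act 0 n52125
theorem D112924 : act 0 n52125 = n112924 := rfl
theorem F175861 : act 5 n112924 = n55276 := d17_3 (iv1 F82399) D52125 D112924 F87471 F50559 (iv0 F96293) F79169 (iv0 F94564) F94562
theorem F175862 : act 2 n52126 = n112924 := d15_3 (iv0 D112924) (iv0 F120121) F120120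
theorem F175863 : act 1 n52130 = n112924 := d15_0 (iv0 D112924) (iv7 F175854) F175852
theorem F175864 : act 7 n112924 = n52127 := d15_2 F120122 F175863 (iv2 F120119)
theorem F175865 : act 3 n74828 = n112924 := d8_3 F175864 (iv3 F88606) (iv7 F112300)
def n112925 : Q := act 6 n52125
theorem D112925 : act 6 n52125 = n112925 := rfl
theorem F175866 : act 2 n112925 = n52129 := d3_1 D112925 (iv6 D52129) (iv2 F82401)
theorem F175867 : act 5 n112925 = n52712 := d12_1 D112925 (iv6 D52712) (iv5 D25587) (iv6 F39972) D52125
def n112926 : Q := act 4 n52126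
theorem D112926 : act 4 n52126 = n112926 := rfl
theorem F175868 : act 0 n112926 = n110758 := d18_2 D52126 D112926 (iv4 D110758) (iv5 F97847) F97842 F94590 (iv4 F50600) (iv0 D25308) D25311
theorem F175869 : act 1 n112926 = n110756 := d18_6 D24836 F55492 (iv1 F104018) F104014 (iv5 F94244) D112926 (iv4 D110756) (iv0 D51063) (iv5 D24839)
def n112927 : Q := act 6 n52126
theorem D112927 : act 6 n52126 = n112927 := rfl
theorem F175870 : act 5 n112927 = n68849 := d12_1 D112927 (iv6 D68849) F82883 D52450 (iv5 F94244)
theorem F175871 : act 0 n112927 = n94448 := d21_4 (iv5 D62556) F82869 (iv5 F94244) D112927 (iv6 D94448) (iv5 D44141) (iv1 F69480) D90241 F138805 (iv1 F97539)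
def n112928 : Q := act 4 n52127
theorem D112928 : act 4 n52127 = n112928 := rfl
theorem F175872 : act 0 n112928 = n110756 := d18_2 F175855 D112928 (iv4 D110756) F80527 F54249 (iv0 F54252) F50577 F82395 D112919
theorem F175873 : act 1 n112928 = n110758 := d18_6 (iv1 F80517) (iv4 F51527) (iv1 D32452) (iv4 F51516) F82402 D112928 (iv4 D110758) F108019 F108017
def n112929 : Q := act 6 n52127
theorem D112929 : act 6 n52127 = n112929 := rfl
theorem F175874 : act 5 n112929 = n54794 := d12_1 D112929 (iv6 D54794) F42431 D32448 F82402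
def n112930 : Q := act 3 n52128
theorem D112930 : act 3 n52128 = n112930 := rfl
theorem F175875 : act 4 n112930 = n52133 := d5_2 D52128 D112930 (iv3 D52133) (iv4 D25314) (iv3 F39973)
def n112931 : Q := act 5 n52128
theorem D112931 : act 5 n52128 = n112931 := rfl
def n112932 : Q := act 6 n52128
theorem D112932 : act 6 n52128 = n112932 := rfl
theorem F175876 : act 4 n112932 = n52129 := d10_1 D112932 (iv6 D52129) D52128
def n112933 : Q := act 0 n52129
theorem D112933 : act 0 n52129 = n112933 := rfl
def n112934 : Q := act 1 n52129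
theorem D112934 : act 1 n52129 = n112934 := rfl
def n112935 : Q := act 7 n52129
theorem D112935 : act 7 n52129 = n112935 := rfl
theorem F175877 : act 3 n112935 = n52137 := d8_1 D112935 (iv7 D52137) (iv3 F82403)
theorem F175878 : act 5 n112935 = n52717 := d13_1 D112935 (iv7 D52717) (iv5 F82404)
def n112936 : Q := act 6 n52130
theorem D112936 : act 6 n52130 = n112936 := rfl
theorem F175879 : act 3 n112936 = n52138 := d7_1 D112936 (iv6 D52138) (iv3 F82405)
theorem F175880 : act 5 n112936 = n71958 := d12_1 D112936 (iv6 D71958) F52481 (iv6 F39976) (iv5 F82406)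
def n112937 : Q := act 4 n52131
theorem D112937 : act 4 n52131 = n112937 := rfl
theorem F175881 : act 2 n112937 = n106733 := d1_1 D112937 F164515 (iv2 F82407)
theorem F175882 : act 7 n112937 = n106722 := d11_2 (iv7 F82409) D112937 (iv4 D106722)
theorem F175883 : act 0 n106728 = n112937 := d20_7 F40050 (iv1 F47562) (iv4 D29614) (iv3 F47551) F50921 (iv3 F83551) (iv4 F164510) (iv4 D112937) (iv3 D52131) (iv1 F40053)
theorem F175884 : act 1 n106729 = n112937 := d15_1 D106729 F175882 F164502
def n112938 : Q := act 6 n52131
theorem D112938 : act 6 n52131 = n112938 := rfl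
theorem F175885 : act 2 n112938 = n106737 := d3_1 D112938 (iv6 D106737) (iv2 F82407)
theorem F175886 : act 3 n112938 = n52132 := d7_1 D112938 (iv6 D52132) D52131
theorem F175887 : act 5 n112938 = n107539 := d12_1 D112938 (iv6 D107539) (iv5 D49679) (iv6 F77406) (iv5 F82408)
def n112939 : Q := act 0 n52132
theorem D112939 : act 0 n52132 = n112939 := rfl
def n112940 : Q := act 1 n52132
theorem D112940 : act 1 n52132 = n112940 := rfl
def n112941 : Q := act 7 n52132
theorem D112941 : act 7 n52132 = n112941 := rfl
theorem F175888 : act 5 n112941 = n107543 := d13_1 D112941 (iv7 D107543) (iv5 F82413)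
def n112942 : Q := act 0 n52133
theorem D112942 : act 0 n52133 = n112942 := rfl
def n112943 : Q := act 1 n52133
theorem D112943 : act 1 n52133 = n112943 := rfl
def n112944 : Q := act 2 n52133
theorem D112944 : act 2 n52133 = n112944 := rfl
def n112945 : Q := act 6 n52133
theorem D112945 : act 6 n52133 = n112945 := rfl
theorem F175889 : act 3 n112945 = n52134 := d7_1 D112945 (iv6 D52134) D52133
def n112946 : Q := act 0 n52134
theorem D112946 : act 0 n52134 = n112946 := rfl
def n112947 : Q := act 1 n52134
theorem D112947 : act 1 n52134 = n112947 := rfl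
theorem F175890 : act 4 n112947 = n52800 := d18_7 (iv1 F76744) (iv4 F136458) (iv1 D25651) F20190 (iv5 F39978) (iv4 F82414) D112947 F161756 F161754
def n112948 : Q := act 5 n52134
theorem D112948 : act 5 n52134 = n112948 := rfl
def n112949 : Q := act 7 n52134
theorem D112949 : act 7 n52134 = n112949 := rfl
theorem F175891 : act 4 n112949 = n52137 := d11_1 D112949 (iv7 D52137) (iv4 F82414)
def n112950 : Q := act 3 n52135
theorem D112950 : act 3 n52135 = n112950 := rfl
def n112951 : Q := act 4 n52135
theorem D112951 : act 4 n52135 = n112951 := rfl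
theorem F175892 : act 1 n112951 = n105408 := d18_6 (iv1 F161767) (iv4 F83764) (iv1 F161760) F163450 F163447 D112951 (iv4 D105408) (iv0 F114603) (iv5 D76453)
def n112952 : Q := act 6 n52135
theorem D112952 : act 6 n52135 = n112952 := rfl
def n112953 : Q := act 3 n52136
theorem D112953 : act 3 n52136 = n112953 := rfl
def n112954 : Q := act 4 n52136
theorem D112954 : act 4 n52136 = n112954 := rfl
theorem F175893 : act 0 n112954 = n105408 := d18_2 (iv1 F82500) D112954 (iv4 D105408) (iv5 D48736) F37044 D28490 F114632 F76721 (iv5 F82498)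
def n112955 : Q := act 6 n52136
theorem D112955 : act 6 n52136 = n112955 := rfl
def n112956 : Q := act 6 n52137
theorem D112956 : act 6 n52137 = n112956 := rfl
theorem F175894 : act 7 n112956 = n52138 := d14_2 D52137 D112956 (iv6 D52138) (iv7 D25316) D25315
def n112957 : Q := act 0 n52138
theorem D112957 : act 0 n52138 = n112957 := rfl
def n112958 : Q := act 1 n52138
theorem D112958 : act 1 n52138 = n112958 := rfl
def n112959 : Q := act 0 n52139
theorem D112959 : act 0 n52139 = n112959 := rfl
theorem F175895 : act 3 n112959 = n63368 := d20_5 D65102 F101612 F101611 F101609 D112959 (iv4 F171755) (iv1 F167685) F167683 (iv3 F80875) (iv1 F80877)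
theorem F175896 : act 2 n107664 = n112959 := d15_3 (iv0 D112959) (iv0 F175782) F167344
theorem F175897 : act 7 n107665 = n112959 := d15_2 (iv0 D107664) D107665 (iv2 F175896)
theorem F175898 : act 2 n108225 = n107665 := d4_3 F175897 (iv2 F175896) (iv7 F167344)
theorem F175899 : act 1 n107666 = n112959 := d15_1 F175783 (iv7 F175897) (iv2 F175898)
def n112960 : Q := act 7 n52139
theorem D112960 : act 7 n52139 = n112960 := rfl
theorem F175900 : act 2 n112960 = n107666 := d4_1 D112960 (iv7 D107666) (iv2 F82416)
theorem F175901 : act 4 n112960 = n74298 := d11_1 D112960 (iv7 D74298) (iv4 F82417)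
theorem F175902 : act 5 n112960 = n58844 := d13_1 D112960 F93043 F82843
theorem F175903 : act 1 n107665 = n112960 := d15_1 D107665 (iv7 D112960) F82416
theorem F175904 : act 1 n112960 = n107664 := d15_1 F175903 (iv7 F167344) F175898
theorem F175905 : act 4 n74263 = n107665 := d18_7 (iv1 F175435) (iv4 F175438) (iv1 D109530) F79908 F38624 (iv4 F53488) D74263 F175903 F175902
theorem F175906 : act 0 n65139 = n74298 := d18_2 F161261 D65139 (iv4 F175901) F175902 (iv4 F101545) (iv0 D51664) F39434 (iv0 F39309) (iv5 F53401)
def n112961 : Q := act 1 n52140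
theorem D112961 : act 1 n52140 = n112961 := rfl
theorem F175907 : act 3 n63373 = n112961 := d20_9 F82419 (iv1 F162015) (iv4 D74286) F101989 (iv1 F26200) (iv3 F49039) (iv4 F100941) (iv1 F167841) (iv4 F168677) (iv1 D112961)
theorem F175908 : act 2 n112961 = n107472 := d0_1 F175907 (iv3 D107472) F103546 F171583 F171588
theorem F175909 : act 4 n64418 = n112961 := d20_8 (iv4 F79279) (iv1 F167851) (iv4 D65166) (iv3 F111456) (iv1 F111469) F111465 (iv4 F111482) (iv1 F111484) (iv3 F175907) (iv1 D63373)
def n112962 : Q := act 7 n52140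
theorem D112962 : act 7 n52140 = n112962 := rfl
theorem F175910 : act 3 n112962 = n105554 := d8_1 D112962 (iv7 D105554) (iv3 F82418)
theorem F175911 : act 4 n112962 = n74309 := d11_1 D112962 (iv7 D74309) (iv4 F82419)
theorem F175912 : act 5 n112962 = n105522 := d13_1 D112962 (iv7 D105522) (iv5 F82420)
theorem F175913 : act 6 n112962 = n107666 := d14_1 D112962 (iv7 D107666) (iv6 D49741) F39982 D52140
theorem F175914 : act 1 n107472 = n112962 := d15_1 (iv0 F165800) (iv7 D112962) (iv2 F93836)
def n112963 : Q := act 0 n52141
theorem D112963 : act 0 n52141 = n112963 := rfl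
def n112964 : Q := act 1 n52141
theorem D112964 : act 1 n52141 = n112964 := rfl
def n112965 : Q := act 2 n52141
theorem D112965 : act 2 n52141 = n112965 := rfl
theorem F175915 : act 4 n112965 = n52151 := d1_2 (iv4 F82421) D112965 (iv2 D52151)
def n112966 : Q := act 5 n52141
theorem D112966 : act 5 n52141 = n112966 := rfl
theorem F175916 : act 3 n112966 = n52142 := d6_1 D112966 (iv5 D52142) D52141
theorem F175917 : act 4 n112966 = n107640 := d20_6 (iv4 D29085) F26063 D34036 D74191 F110976 (iv3 F175916) (iv1 D107640) (iv4 F166055) (iv3 D107618) F78567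
def n112967 : Q := act 6 n52142
theorem D112967 : act 6 n52142 = n112967 := rfl
def n112968 : Q := act 0 n52144
theorem D112968 : act 0 n52144 = n112968 := rfl
theorem F175918 : act 1 n112844 = n112968 := d15_0 (iv0 D112968) F82425 D112844
def n112969 : Q := act 1 n52144
theorem D112969 : act 1 n52144 = n112969 := rfl
def n112970 : Q := act 2 n52144
theorem D112970 : act 2 n52144 = n112970 := rfl
theorem F175919 : act 3 n112970 = n74765 := d0_2 D52144 D112970 (iv2 D74765) (iv3 D34257) (iv2 F39988)
theorem F175920 : act 7 n112970 = n112844 := d4_2 (iv7 F82425) D112970 (iv2 D112844)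
theorem F175921 : act 1 n112970 = n112842 := d15_0 (iv0 D112842) (iv7 F82425) D112970
theorem F175922 : act 1 n112969 = n112844 := d15_1 D112969 (iv7 F175920) (iv2 D112970)
theorem F175923 : act 1 n112843 = n112970 := d15_1 D112843 F175920 (iv2 D112844)
def n112971 : Q := act 6 n52144
theorem D112971 : act 6 n52144 = n112971 := rfl
theorem F175924 : act 3 n112971 = n52146 := d7_1 D112971 (iv6 D52146) D52144
def n112972 : Q := act 6 n52145
theorem D112972 : act 6 n52145 = n112972 := rfl
theorem F175925 : act 2 n112972 = n74768 := d3_1 D112972 (iv6 D74768) (iv2 F82426)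
theorem F175926 : act 4 n112972 = n52173 := d10_1 D112972 (iv6 D52173) (iv4 F82427)
def n112973 : Q := act 5 n52146
theorem D112973 : act 5 n52146 = n112973 := rfl
theorem F175927 : act 2 n112973 = n74770 := d2_1 D112973 (iv5 D74770) (iv2 F82431)
def n112974 : Q := act 0 n52147
theorem D112974 : act 0 n52147 = n112974 := rfl
theorem F175928 : act 3 n112974 = n74593 := d20_5 (iv4 D12043) D12042 (iv4 F39991) D52147 D112974 (iv4 D74593) (iv1 D34202) D34204 F53833 F37942
theorem F175929 : act 1 n112870 = n112974 := d15_0 (iv0 D112974) F82434 D112870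
def n112975 : Q := act 1 n52147
theorem D112975 : act 1 n52147 = n112975 := rfl
def n112976 : Q := act 2 n52147
theorem D112976 : act 2 n52147 = n112976 := rfl
theorem F175930 : act 3 n112976 = n112864 := d0_2 D52147 D112976 (iv2 D112864) (iv3 D52096) F39992
theorem F175931 : act 4 n112976 = n107703 := d1_2 (iv4 F82433) D112976 (iv2 D107703)
theorem F175932 : act 7 n112976 = n112870 := d4_2 (iv7 F82434) D112976 (iv2 D112870)
theorem F175933 : act 1 n112976 = n112868 := d15_0 (iv0 D112868) (iv7 F82434) D112976
theorem F175934 : act 1 n112975 = n112870 := d15_1 D112975 (iv7 F175932) (iv2 D112976)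
theorem F175935 : act 1 n112869 = n112976 := d15_1 D112869 F175932 (iv2 D112870)
def n112977 : Q := act 6 n52147
theorem D112977 : act 6 n52147 = n112977 := rfl
theorem F175936 : act 3 n112977 = n52148 := d7_1 D112977 (iv6 D52148) D52147
theorem F175937 : act 4 n112977 = n107705 := d10_1 D112977 (iv6 D107705) (iv4 F82433)
def n112978 : Q := act 5 n52148
theorem D112978 : act 5 n52148 = n112978 := rfl
theorem F175938 : act 2 n112978 = n112866 := d2_1 D112978 (iv5 D112866) (iv2 F82435)
theorem F175939 : act 0 n112978 = n67496 := d17_2 F167345 D112978 (iv5 D67496) F49631 (iv5 F45157) (iv0 F45158) F38789 D49982 D108226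
def n112979 : Q := act 7 n52148
theorem D112979 : act 7 n52148 = n112979 := rfl
theorem F175940 : act 2 n112979 = n112867 := d4_1 D112979 (iv7 D112867) (iv2 F82435)
theorem F175941 : act 4 n112979 = n52206 := d11_1 D112979 (iv7 D52206) (iv4 F82436)
theorem F175942 : act 6 n112979 = n112875 := d14_1 D112979 (iv7 D112875) (iv6 D52100) (iv7 F39993) D52148
theorem F175943 : act 1 n112861 = n112979 := d15_1 (iv0 F175770) (iv7 D112979) F82435
theorem F175944 : act 1 n112979 = n112859 := d15_1 F175943 F175762 (iv2 F175768)
def n112980 : Q := act 0 n52149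
theorem D112980 : act 0 n52149 = n112980 := rfl
theorem F175945 : act 2 n52153 = n112980 := d15_3 (iv0 D112980) (iv0 D52149) D52153
theorem F175946 : act 3 n112980 = n112876 := d0_2 (iv3 F82440) F175945 (iv2 F175798) F82365 (iv2 F39998)
theorem F175947 : act 5 n112980 = n112944 := d2_2 (iv5 F82441) F175945 (iv2 D112944)
theorem F175948 : act 7 n112980 = n52151 := d4_2 D52153 F175945 (iv2 D52151)
theorem F175949 : act 1 n52150 = n112980 := d15_1 D52150 F175948 (iv2 D52151)
def n112981 : Q := act 2 n52149
theorem D112981 : act 2 n52149 = n112981 := rfl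
theorem F175950 : act 4 n112981 = n74312 := d1_2 (iv4 F167210) D112981 F167149
theorem F175951 : act 7 n52150 = n112981 := d15_2 (iv0 D52149) D52150 (iv2 D112981)
theorem F175952 : act 0 n112981 = n52153 := d20_7 (iv4 D16508) (iv1 D7667) D7668 D16512 D34092 D74312 (iv4 F175950) (iv4 F111143) (iv3 D74259) (iv1 F53478)
theorem F175953 : act 1 n112981 = n52151 := d15_1 (iv0 F175952) (iv7 F175948) (iv2 F175945)
def n112982 : Q := act 3 n52149
theorem D112982 : act 3 n52149 = n112982 := rfl
theorem F175954 : act 4 n112982 = n108092 := d5_2 (iv4 F167210) D112982 F167128 F78972 (iv3 F111508)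
def n112983 : Q := act 5 n52149
theorem D112983 : act 5 n52149 = n112983 := rfl
def n112984 : Q := act 6 n52149
theorem D112984 : act 6 n52149 = n112984 := rfl
def n112985 : Q := act 7 n52149
theorem D112985 : act 7 n52149 = n112985 := rfl
theorem F175955 : act 2 n112985 = n52150 := d4_1 D112985 F175951 (iv2 D112981)
theorem F175956 : act 1 n52151 = n112985 := d15_1 F175953 (iv7 D112985) D112981
theorem F175957 : act 1 n112985 = n52153 := d15_1 F175956 (iv7 D52153) D52151
def n112986 : Q := act 3 n52150
theorem D112986 : act 3 n52150 = n112986 := rfl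
def n112987 : Q := act 4 n52150
theorem D112987 : act 4 n52150 = n112987 := rfl
theorem F175958 : act 7 n112987 = n74312 := d11_2 (iv7 F175951) D112987 (iv4 F175950)
theorem F175959 : act 3 n74316 = n112987 := d20_5 (iv4 D34038) (iv1 F26067) (iv4 F26107) (iv3 F53508) (iv1 F167134) (iv4 D112987) (iv1 D52150) (iv4 F82421) (iv3 D52141) (iv1 F53397)
def n112988 : Q := act 5 n52150
theorem D112988 : act 5 n52150 = n112988 := rfl
def n112989 : Q := act 6 n52150
theorem D112989 : act 6 n52150 = n112989 := rfl
def n112990 : Q := act 5 n52151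
theorem D112990 : act 5 n52151 = n112990 := rfl
theorem F175960 : act 2 n112990 = n52152 := d2_1 D112990 (iv5 D52152) D52151
theorem F175961 : act 3 n112990 = n112889 := d6_1 D112990 (iv5 D112889) (iv3 F82437)
theorem F175962 : act 7 n112990 = n112944 := d13_2 F175948 D112990 (iv5 F175947)
theorem F175963 : act 1 n112943 = n112990 := d15_1 D112943 F175962 (iv2 D112944)
theorem F175964 : act 1 n112990 = n112942 := d15_0 (iv0 D112942) F82439 (iv2 F175960)
def n112991 : Q := act 0 n52152
theorem D112991 : act 0 n52152 = n112991 := rfl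
theorem F175965 : act 1 n112944 = n112991 := d15_0 (iv0 D112991) (iv7 F82439) D112944
def n112992 : Q := act 1 n52152
theorem D112992 : act 1 n52152 = n112992 := rfl
theorem F175966 : act 1 n112992 = n112944 := d15_1 D112992 (iv7 F175962) F175960
def n112993 : Q := act 4 n52152
theorem D112993 : act 4 n52152 = n112993 := rfl
theorem F175967 : act 3 n112993 = n110761 := d5_1 D112993 (iv4 F171450) F82405 (iv4 F39996) (iv3 F82438)
theorem F175968 : act 7 n112993 = n112930 := d11_2 F82439 D112993 F175875
def n112994 : Q := act 6 n52152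
theorem D112994 : act 6 n52152 = n112994 := rfl
theorem F175969 : act 3 n112994 = n52154 := d7_1 D112994 (iv6 D52154) (iv3 F82438)
def n112995 : Q := act 6 n52153
theorem D112995 : act 6 n52153 = n112995 := rfl
theorem F175970 : act 3 n112995 = n52155 := d7_1 D112995 (iv6 D52155) (iv3 F82440)
def n112996 : Q := act 0 n52154
theorem D112996 : act 0 n52154 = n112996 := rfl
def n112997 : Q := act 1 n52154
theorem D112997 : act 1 n52154 = n112997 := rfl
theorem F175971 : act 1 n112997 = n112897 := d15_1 D112997 (iv7 D112897) (iv2 F82442)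
def n112998 : Q := act 7 n52154
theorem D112998 : act 7 n52154 = n112998 := rfl
theorem F175972 : act 2 n112998 = n112897 := d4_1 D112998 (iv7 D112897) (iv2 F82442)
theorem F175973 : act 4 n112998 = n112956 := d11_1 D112998 F175894 (iv4 F82443)
theorem F175974 : act 6 n112998 = n112949 := d14_1 D112998 (iv7 D112949) (iv6 D52134) F39997 D52154
theorem F175975 : act 1 n112897 = n112996 := d15_0 (iv0 D112996) D112998 F175972
theorem F175976 : act 1 n112896 = n112998 := d15_1 D112896 (iv7 D112998) F82442
theorem F175977 : act 1 n112998 = n112895 := d15_0 (iv0 D112895) D112897 (iv2 F175972)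
def n112999 : Q := act 5 n52155
theorem D112999 : act 5 n52155 = n112999 := rfl
theorem F175978 : act 2 n112999 = n112899 := d2_1 D112999 (iv5 D112899) (iv2 F82444)
theorem F175979 : act 6 n112999 = n112948 := d12_2 D52155 D112999 (iv5 D112948) (iv6 D52134) (iv5 F40000)
def n113000 : Q := act 0 n52156
theorem D113000 : act 0 n52156 = n113000 := rfl
theorem F175980 : act 1 n112903 = n113000 := d15_0 (iv0 D113000) F82447 D112903
def n113001 : Q := act 1 n52156
theorem D113001 : act 1 n52156 = n113001 := rfl
def n113002 : Q := act 2 n52156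
theorem D113002 : act 2 n52156 = n113002 := rfl
theorem F175981 : act 3 n113002 = n62593 := d0_2 D52156 D113002 (iv2 D62593) (iv3 D29596) (iv2 F40005)
theorem F175983 : act 7 n113002 = n112903 := d4_2 (iv7 F82447) D113002 (iv2 D112903)
theorem F175984 : act 1 n113002 = n112901 := d15_0 (iv0 D112901) (iv7 F82447) D113002
theorem F175985 : act 1 n113001 = n112903 := d15_1 D113001 (iv7 F175983) (iv2 D113002)
theorem F175986 : act 1 n112902 = n113002 := d15_1 D112902 F175983 (iv2 D112903)
def n113003 : Q := act 6 n52156
theorem D113003 : act 6 n52156 = n113003 := rfl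
theorem F175987 : act 3 n113003 = n52157 := d7_1 D113003 (iv6 D52157) D52156
def n113004 : Q := act 5 n52157
theorem D113004 : act 5 n52157 = n113004 := rfl
theorem F175989 : act 2 n113004 = n62598 := d2_1 D113004 (iv5 D62598) (iv2 F82448)
def n113005 : Q := act 6 n52158
theorem D113005 : act 6 n52158 = n113005 := rfl
theorem F175990 : act 2 n113005 = n62602 := d3_1 D113005 (iv6 D62602) (iv2 F82464)
theorem F175991 : act 3 n113005 = n109273 := d7_1 D113005 F169273 F164859
theorem F175992 : act 4 n113005 = n67528 := d10_1 D113005 F112214 F112212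
theorem F175993 : act 5 n113005 = n52255 := d12_1 D113005 (iv6 F92962) (iv5 F164607) F164608 F99160
theorem F175994 : act 7 n113005 = n52254 := d14_2 (iv7 F82463) D113005 F82624 (iv7 F40142) F47524
theorem F175995 : act 1 n64437 = n113005 := d15_1 D64437 F175994 F82622
theorem F175996 : act 1 n113005 = n64320 := d15_1 F175995 (iv7 F169544) (iv2 F169545)
theorem F175997 : act 4 n67495 = n64437 := d18_7 (iv1 F82626) (iv4 F82647) F92906 F92905 F45157 (iv4 F49631) D67495 F175995 F175993
theorem F175998 : act 0 n112841 = n67528 := d18_2 (iv1 F168055) D112841 (iv4 F175992) F175993 (iv4 F175701) (iv0 D112839) (iv4 D52081) F50047 (iv5 F41238)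
def n113006 : Q := act 0 n52161
theorem D113006 : act 0 n52161 = n113006 := rfl
def n113007 : Q := act 1 n52161
theorem D113007 : act 1 n52161 = n113007 := rfl
theorem F175999 : act 1 n113007 = n62626 := d15_1 D113007 (iv7 D62626) (iv2 F82468)
def n113008 : Q := act 7 n52161
theorem D113008 : act 7 n52161 = n113008 := rfl
theorem F176000 : act 2 n113008 = n62626 := d4_1 D113008 (iv7 D62626) (iv2 F82468)
theorem F176001 : act 5 n113008 = n79000 := d13_1 D113008 (iv7 D79000) (iv5 F82469)
theorem F176002 : act 6 n113008 = n112911 := d14_1 D113008 (iv7 D112911) (iv6 D52116) (iv7 F40010) D52161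
theorem F176003 : act 1 n62626 = n113006 := d15_0 (iv0 D113006) D113008 F176000
theorem F176004 : act 1 n62625 = n113008 := d15_1 D62625 (iv7 D113008) F82468
theorem F176005 : act 1 n113008 = n62624 := d15_0 (iv0 D62624) D62626 (iv2 F176000)
def n113009 : Q := act 0 n52162
theorem D113009 : act 0 n52162 = n113009 := rfl
def n113010 : Q := act 1 n52162
theorem D113010 : act 1 n52162 = n113010 := rfl
theorem F176006 : act 1 n113010 = n112918 := d15_1 D113010 (iv7 D112918) (iv2 F82470)
def n113011 : Q := act 7 n52162
theorem D113011 : act 7 n52162 = n113011 := rfl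
theorem F176007 : act 2 n113011 = n112918 := d4_1 D113011 (iv7 D112918) (iv2 F82470)
theorem F176008 : act 5 n113011 = n92421 := d13_1 D113011 (iv7 D92421) (iv5 F82471)
theorem F176009 : act 6 n113011 = n107481 := d14_1 D113011 (iv7 D107481) (iv6 D49652) (iv7 F40013) D52162
theorem F176010 : act 1 n112918 = n113009 := d15_0 (iv0 D113009) D113011 F176007
theorem F176011 : act 1 n112917 = n113011 := d15_1 D112917 (iv7 D113011) F82470
theorem F176012 : act 1 n113011 = n112916 := d15_0 (iv0 D112916) D112918 (iv2 F176007)
theorem F176013 : act 2 n92969 = n112917 := d15_3 F176011 F176012 (iv7 F175850)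
theorem F176014 : act 5 n112917 = n92962 := d2_2 D92969 F176013 F143376
theorem E17382 : n76507 = n43491 := (c21_5 F26933 F18062 D16952 D34947 D76507 D92962 (iv5 F176014) (iv1 D112917) F82389 (iv6 D42123) (iv1 D19870))
theorem E17383 : n92693 = n92631 := ((((iv1 F142738)).symm.trans (sb E17382 (iv1 F142869)))).symm
theorem E17384 : n92630 = n34947 := ((F142732).symm.trans (sb E17382 (iv0 D76507)))
theorem E17385 : n76508 = n43334 := ((((iv1 D92631)).symm.trans (sb E17383 (iv1 F142868)))).symm
theorem F176015 : act 2 n92631 = n76509 := (sb E17383 F142865)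
theorem E17386 : n96215 = n47864 := ((((iv4 F142733)).symm.trans (sb E17383 (iv4 F147973)))).symm
theorem F176016 : act 6 n92631 = n76518 := (sb E17383 F142866)
theorem F176017 : act 7 n92631 = n43359 := (sb E17383 (iv7 D92693))
theorem F176018 : act 0 n34947 = n43491 := (sb E17384 (iv1 F142732))
theorem E17387 : n90340 = n43357 := ((((iv3 F68097)).symm.trans (sb E17384 F142730))).symm
theorem E17388 : n47865 = n44520 := ((((iv4 F70039)).symm.trans (sb E17384 F142731))).symm
theorem F176019 : act 0 n43334 = n34947 := (sb E17385 (iv1 D76508))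
theorem E17389 : n95304 = n90653 := ((((iv1 F139565)).symm.trans (sb E17386 (iv1 F147976)))).symm
theorem E17390 : n95303 = n23040 := ((((iv0 D47864)).symm.trans (sb E17386 F147977))).symm
theorem E17391 : n103296 = n95306 := ((D103296).symm.trans (sb E17386 F147971))
theorem E17392 : n95300 = n48082 := (((F139008).symm.trans (sb E17386 F147972))).symm
theorem E17393 : n103298 = n48082 := ((D103298).symm.trans (sb E17386 (tr F147974 E17392)))
theorem E17394 : n103299 = n44923 := ((D103299).symm.trans (sb E17386 (iv7 D96215)))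
theorem E17395 : n92686 = n42494 := ((D92686).symm.trans (sb E17387 (iv1 F139006)))
theorem E17396 : n92687 = n42236 := ((D92687).symm.trans (sb E17387 (iv0 D90340)))
theorem E17397 : n48083 = n44925 := ((((iv4 F70606)).symm.trans (sb E17387 F139005))).symm
theorem E17398 : n103300 = n95301 := ((((iv3 F146944)).symm.trans (sb E17388 D103300))).symm
theorem F176020 : act 0 n90653 = n44520 := (sb E17389 (iv1 D95304))
theorem F176021 : act 1 n23040 = n44520 := (sb E17390 (iv0 D95303))
theorem F176022 : act 2 n95306 = n47864 := (sb E17391 (iv2 D103296))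
theorem E17401 : n96218 = n92870 := (((F143249).symm.trans (sb E17392 (iv1 F147981)))).symm
theorem E17402 : n96217 = n23207 := ((((iv0 D48082)).symm.trans (sb E17392 F147986))).symm
theorem E17403 : n103856 = n96220 := ((D103856).symm.trans (sb E17392 (iv2 F147983)))
theorem E17404 : n90341 = n76518 := ((F139007).symm.trans (sb E17392 F146943))
theorem E17405 : n103859 = n44517 := ((D103859).symm.trans (sb E17392 (iv7 D95300)))
theorem E17406 : n103858 = n47864 := ((((iv3 F139008)).symm.trans (sb E17393 (iv3 F159276)))).symm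
theorem F176023 : act 7 n44923 = n47864 := (sb E17394 (iv7 D103299))
theorem F176024 : act 1 n42494 = n43357 := (sb E17395 (iv0 D92686))
theorem F176025 : act 0 n42236 = n43357 := (sb E17396 (iv1 D92687))
theorem E17407 : n103860 = n96216 := ((((iv3 F147979)).symm.trans (sb E17397 D103860))).symm
theorem F176026 : act 0 n95301 = n103022 := (sb E17398 F158537)
theorem F176027 : act 1 n95301 = n103025 := (sb E17398 F158925)
theorem F176028 : act 0 n92870 = n44925 := (sb E17401 (iv1 D96218))
theorem F176029 : act 1 n23207 = n44925 := (sb E17402 (iv0 D96217))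
theorem F176030 : act 2 n96220 = n48082 := (sb E17403 (iv2 D103856))
theorem F176031 : act 0 n76518 = n42236 := (sb E17404 (iv1 D90341))
theorem F176032 : act 1 n76518 = n42494 := (sb E17404 F139013)
theorem F176033 : act 4 n76518 = n48082 := (sb E17404 (iv4 F139007))
theorem F176034 : act 7 n44517 = n48082 := (sb E17405 (iv7 D103859))
theorem F176035 : act 6 n47864 = n48082 := (sb E17406 (iv6 D103858))
theorem F176036 : act 0 n96216 = n103589 := (sb E17407 F159281)
theorem F176037 : act 1 n96216 = n103592 := (sb E17407 (iv0 F159282))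
theorem F176038 : act 7 n103857 = n95299 := d13_2 F176034 D103857 (iv5 D95299)
theorem F176040 : act 0 n103871 = n95563 := d21_7 D45331 F71425 F56631 D44925 (iv1 F176029) D48086 D103871 (iv5 D95563) (iv6 D44637) (iv1 F34019)
theorem F176041 : act 6 n106342 = n90343 := d21_5 (iv5 D28708) F22838 D23985 (iv6 F77602) D106342 (iv5 D90343) F176025 D92688 F142854 F83220
theorem F176042 : act 3 n90346 = n106342 := d7_3 F176041 F139015 D90346
theorem F176043 : act 0 n103311 = n96957 := d21_7 D34945 (iv1 F70038) (iv5 D44519) D44520 (iv1 F176021) D47868 D103311 (iv5 D96957) (iv6 D45328) (iv1 F34014)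
def n113012 : Q := act 4 n52164
theorem D113012 : act 4 n52164 = n113012 := rfl
theorem F176044 : act 7 n113012 = n112914 := d11_2 (iv7 F82477) D113012 (iv4 D112914)
def n113013 : Q := act 6 n52164
theorem D113013 : act 6 n52164 = n113013 := rfl
theorem F176045 : act 3 n113013 = n52165 := d7_1 D113013 (iv6 D52165) (iv3 F82476)
def n113014 : Q := act 0 n52165
theorem D113014 : act 0 n52165 = n113014 := rfl
def n113015 : Q := act 1 n52165
theorem D113015 : act 1 n52165 = n113015 := rfl
theorem F176046 : act 1 n113015 = n107481 := d15_1 D113015 (iv7 D107481) (iv2 F82479)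
theorem F176047 : act 5 n106540 = n113015 := d21_6 (iv5 D24021) (iv1 D11271) D11273 D24027 D49231 D106540 (iv1 D113015) (iv5 F163757) (iv6 D106501) (iv1 F77722)
theorem F176048 : act 2 n113015 = n107480 := d2_1 F176047 (iv5 F165812) F164562
def n113016 : Q := act 7 n52165
theorem D113016 : act 7 n52165 = n113016 := rfl
theorem F176049 : act 2 n113016 = n107481 := d4_1 D113016 (iv7 D107481) (iv2 F82479)
theorem F176050 : act 6 n113016 = n112918 := d14_1 D113016 (iv7 D112918) (iv6 D52120) (iv7 F40030) D52165
theorem F176051 : act 1 n107481 = n113014 := d15_0 (iv0 D113014) D113016 F176049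
theorem F176052 : act 1 n107480 = n113016 := d15_1 D107480 (iv7 D113016) F82479
theorem F176053 : act 7 n113014 = n107480 := d15_2 F176046 F176051 (iv2 F176048)
theorem F176054 : act 2 n113014 = n107479 := d15_3 (iv0 D107479) D107480 (iv7 F176053)
theorem F176055 : act 7 n107479 = n113015 := d4_2 (iv7 F176053) F176054 F176048
theorem F176056 : act 1 n113016 = n107479 := d15_1 F176052 F176055 F176048
def n113017 : Q := act 4 n52166
theorem D113017 : act 4 n52166 = n113017 := rfl
theorem F176057 : act 0 n113017 = n94271 := d18_2 (iv1 F152166) D113017 (iv4 D94271) F82966 F37656 D49217 (iv4 F82866) (iv0 F87479) (iv5 F152164)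
theorem F176058 : act 1 n113017 = n94269 := d18_6 D20933 D44067 (iv1 F78488) (iv4 F78490) D52166 D113017 (iv4 D94269) (iv0 D44072) (iv5 D20935)
def n113018 : Q := act 6 n52166
theorem D113018 : act 6 n52166 = n113018 := rfl
def n113019 : Q := act 0 n52167
theorem D113019 : act 0 n52167 = n113019 := rfl
theorem F176059 : act 5 n113019 = n52486 := d17_3 F52366 D52167 D113019 F82866 D106505 (iv0 F163762) (iv5 D54792) F80509 F80506
theorem F176060 : act 1 n52172 = n113019 := d15_0 (iv0 D113019) (iv7 F144707) F144706
theorem F176061 : act 2 n52168 = n113019 := d2_3 F176059 F95743 (iv5 F139270)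
theorem F176062 : act 3 n78896 = n113019 := d6_3 F176059 F82865 (iv5 F120071)
theorem F176063 : act 7 n52169 = n113019 := d13_0 F176059 F82867 F82482
def n113020 : Q := act 1 n52167
theorem D113020 : act 1 n52167 = n113020 := rfl
theorem F176064 : act 1 n113020 = n52172 := d15_1 D113020 (iv7 D52172) (iv2 F82480)
theorem F176065 : act 7 n113020 = n52168 := d15_2 (iv0 D113019) D113020 F176061
theorem F176066 : act 5 n52667 = n113020 := d21_0 (iv1 D113020) (iv5 D52167) F40032 (iv1 F37032) D25598 D52729 F163519 F163516 (iv6 D62611) F83227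
theorem F176067 : act 2 n113020 = n52169 := d2_1 F176066 (iv5 F82482) (iv2 F83224)
theorem F176068 : act 3 n113020 = n76589 := d6_1 F176066 (iv5 D76589) (iv3 F83225)
def n113021 : Q := act 4 n52167
theorem D113021 : act 4 n52167 = n113021 := rfl
theorem F176069 : act 2 n113021 = n52170 := d1_1 D113021 (iv4 D52170) (iv2 F82480)
def n113022 : Q := act 6 n52167
theorem D113022 : act 6 n52167 = n113022 := rfl
theorem F176070 : act 2 n113022 = n52171 := d3_1 D113022 (iv6 D52171) (iv2 F82480)
theorem F176071 : act 3 n113022 = n112925 := d7_1 D113022 (iv6 D112925) (iv3 F82481)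
theorem F176072 : act 5 n113022 = n105382 := d12_1 D113022 (iv6 D105382) (iv5 D48720) (iv6 F40032) D52167
def n113023 : Q := act 4 n52168
theorem D113023 : act 4 n52168 = n113023 := rfl
theorem F176073 : act 0 n113023 = n94265 := d18_2 D52168 D113023 (iv4 D94265) (iv5 D44068) D44067 (iv0 F69409) F64164 F55475 D25338
theorem F176074 : act 1 n113023 = n94267 := d18_6 F114354 (iv4 F37664) D49302 (iv4 F95742) (iv5 F139270) D113023 (iv4 D94267) (iv0 F114399) (iv5 D76302)
def n113024 : Q := act 4 n52169
theorem D113024 : act 4 n52169 = n113024 := rfl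
theorem F176075 : act 0 n113024 = n94267 := d18_2 F144708 D113024 (iv4 D94267) (iv5 D44070) F65509 D49682 (iv4 F78490) F69003 D93873
theorem F176076 : act 1 n113024 = n94265 := d18_6 (iv1 F82989) F82992 F77733 F76662 F82482 D113024 (iv4 D94265) D94264 (iv5 F145399)
def n113025 : Q := act 6 n52169
theorem D113025 : act 6 n52169 = n113025 := rfl
theorem F176077 : act 3 n113025 = n78893 := d7_1 D113025 F120064 (iv3 F82483)
theorem F176078 : act 5 n113025 = n78889 := d12_1 D113025 (iv6 D78889) (iv5 D35910) D35911 F82482
def n113026 : Q := act 0 n52170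
theorem D113026 : act 0 n52170 = n113026 := rfl
theorem F176079 : act 4 n113026 = n106682 := d18_3 (iv1 D52169) D52170 D113026 F164382 (iv4 F95753) (iv0 D61281) F46649 (iv0 F56578) F82482
def n113027 : Q := act 1 n52170
theorem D113027 : act 1 n52170 = n113027 := rfl
theorem F176080 : act 4 n113027 = n106280 := d18_7 F68917 (iv4 F68914) (iv1 F68915) F65513 D25338 D52170 D113027 F163326 (iv5 D49293)
def n113028 : Q := act 3 n52170
theorem D113028 : act 3 n52170 = n113028 := rfl
theorem F176081 : act 4 n113028 = n52175 := d5_2 D52170 D113028 (iv3 D52175) (iv4 D25342) (iv3 F40033)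
theorem F176082 : act 7 n112892 = n113028 := d11_0 F176081 F82493 D112892
def n113029 : Q := act 5 n52170
theorem D113029 : act 5 n52170 = n113029 := rfl
def n113030 : Q := act 6 n52170
theorem D113030 : act 6 n52170 = n113030 := rfl
theorem F176083 : act 4 n113030 = n52171 := d10_1 D113030 (iv6 D52171) D52170
def n113031 : Q := act 7 n52170
theorem D113031 : act 7 n52170 = n113031 := rfl
theorem F176084 : act 3 n113031 = n112892 := d8_1 D113031 F176082 (iv3 D113028)
theorem F176085 : act 4 n113031 = n52172 := d11_1 D113031 (iv7 D52172) D52170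
def n113032 : Q := act 0 n52171
theorem D113032 : act 0 n52171 = n113032 := rfl
def n113033 : Q := act 7 n52171
theorem D113033 : act 7 n52171 = n113033 := rfl
theorem F176086 : act 3 n113033 = n52179 := d8_1 D113033 (iv7 D52179) (iv3 F82484)
theorem F176087 : act 5 n113033 = n105387 := d13_1 D113033 (iv7 D105387) (iv5 F82485)
def n113034 : Q := act 6 n52172
theorem D113034 : act 6 n52172 = n113034 := rfl
theorem F176088 : act 3 n113034 = n52180 := d7_1 D113034 (iv6 D52180) (iv3 F82486)
def n113035 : Q := act 0 n52173
theorem D113035 : act 0 n52173 = n113035 := rfl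
def n113036 : Q := act 1 n52173
theorem D113036 : act 1 n52173 = n113036 := rfl
theorem F176089 : act 1 n113036 = n112941 := d15_1 D113036 (iv7 D112941) (iv2 F82488)
def n113037 : Q := act 7 n52173
theorem D113037 : act 7 n52173 = n113037 := rfl
theorem F176090 : act 2 n113037 = n112941 := d4_1 D113037 (iv7 D112941) (iv2 F82488)
theorem F176091 : act 3 n113037 = n106544 := d8_1 D113037 F163791 (iv3 F82489)
theorem F176092 : act 6 n113037 = n106519 := d14_1 D113037 (iv7 D106519) (iv6 D49224) F40038 D52173
theorem F176093 : act 1 n112941 = n113035 := d15_0 (iv0 D113035) D113037 F176090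
theorem F176094 : act 1 n112940 = n113037 := d15_1 D112940 (iv7 D113037) F82488
theorem F176095 : act 1 n113037 = n112939 := d15_0 (iv0 D112939) D112941 (iv2 F176090)
def n113038 : Q := act 0 n52174
theorem D113038 : act 0 n52174 = n113038 := rfl
def n113039 : Q := act 1 n52174
theorem D113039 : act 1 n52174 = n113039 := rfl
theorem F176096 : act 1 n113039 = n106519 := d15_1 D113039 (iv7 D106519) (iv2 F82490)
theorem F176097 : act 5 n106143 = n113039 := d21_6 (iv5 D23934) (iv1 D11213) D11215 D23936 D49058 D106143 (iv1 D113039) F82491 (iv6 D35948) (iv1 F37360)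
def n113040 : Q := act 7 n52174
theorem D113040 : act 7 n52174 = n113040 := rfl
theorem F176098 : act 2 n113040 = n106519 := d4_1 D113040 (iv7 D106519) (iv2 F82490)
theorem F176099 : act 5 n113040 = n78984 := d13_1 D113040 (iv7 D78984) (iv5 F82491)
theorem F176100 : act 6 n113040 = n112941 := d14_1 D113040 (iv7 D112941) (iv6 D52132) (iv7 F40041) D52174
theorem F176101 : act 1 n106519 = n113038 := d15_0 (iv0 D113038) D113040 F176098
theorem F176102 : act 1 n106518 = n113040 := d15_1 D106518 (iv7 D113040) F82490
theorem F176103 : act 1 n113040 = n106517 := d15_0 (iv0 D106517) D106519 (iv2 F176098)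
def n113041 : Q := act 0 n52175
theorem D113041 : act 0 n52175 = n113041 := rfl
theorem F176104 : act 1 n112889 = n113041 := d15_0 (iv0 D113041) F82493 (iv2 F175809)
def n113042 : Q := act 1 n52175
theorem D113042 : act 1 n52175 = n113042 := rfl
def n113043 : Q := act 2 n52175
theorem D113043 : act 2 n52175 = n113043 := rfl
theorem F176105 : act 3 n113043 = n112944 := d0_2 D52175 D113043 (iv2 D112944) (iv3 D52133) (iv2 F40044)
theorem F176106 : act 5 n113043 = n112876 := d2_2 (iv5 F82492) D113043 (iv2 F175798)
theorem F176107 : act 7 n113043 = n112889 := d4_2 (iv7 F82493) D113043 F175809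
theorem F176108 : act 1 n113043 = n112890 := d15_0 (iv0 D112890) (iv7 F82493) D113043
theorem F176109 : act 1 n113042 = n112889 := d15_1 D113042 (iv7 F176107) (iv2 D113043)
theorem F176110 : act 1 n112891 = n113043 := d15_1 D112891 F176107 F175809
def n113044 : Q := act 6 n52175
theorem D113044 : act 6 n52175 = n113044 := rfl
theorem F176111 : act 3 n113044 = n52176 := d7_1 D113044 (iv6 D52176) D52175
def n113045 : Q := act 0 n52176
theorem D113045 : act 0 n52176 = n113045 := rfl
def n113046 : Q := act 1 n52176
theorem D113046 : act 1 n52176 = n113046 := rfl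
theorem F176112 : act 1 n113046 = n112949 := d15_1 D113046 (iv7 D112949) (iv2 F82494)
theorem F176113 : act 4 n113046 = n76453 := d18_7 (iv1 F76737) F145381 (iv1 D34413) (iv4 F37036) (iv5 F40048) (iv4 F82495) D113046 (iv0 F114604) F83399
theorem F176114 : act 2 n112947 = n113046 := d1_3 F176113 F153456 (iv4 F175890)
def n113047 : Q := act 5 n52176
theorem D113047 : act 5 n52176 = n113047 := rfl
theorem F176116 : act 6 n113047 = n112899 := d12_2 D52176 D113047 (iv5 D112899) (iv6 D52107) (iv5 F40045)
def n113048 : Q := act 7 n52176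
theorem D113048 : act 7 n52176 = n113048 := rfl
theorem F176117 : act 2 n113048 = n112949 := d4_1 D113048 (iv7 D112949) (iv2 F82494)
theorem F176118 : act 4 n113048 = n52179 := d11_1 D113048 (iv7 D52179) (iv4 F82495)
theorem F176119 : act 6 n113048 = n112897 := d14_1 D113048 (iv7 D112897) (iv6 D52106) F40046 D52176
theorem F176120 : act 1 n112949 = n113045 := d15_0 (iv0 D113045) D113048 F176117
theorem F176121 : act 1 n112947 = n113048 := d15_1 D112947 (iv7 D113048) F82494
theorem F176122 : act 7 n113045 = n112947 := d15_2 F176112 F176120 F176114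
theorem F176123 : act 4 n113045 = n105407 := d18_7 D48734 F136453 (iv1 F54602) F40548 (iv5 F82415) (iv4 F175891) F176120 (iv0 D105407) (iv5 D48736)
theorem F176124 : act 2 n113045 = n112946 := d15_3 (iv0 D112946) D112947 (iv7 F176122)
theorem F176125 : act 4 n112946 = n52799 := d1_2 (iv4 F176123) F176124 (iv2 F161794)
theorem F176126 : act 7 n112946 = n113046 := d4_2 (iv7 F176122) F176124 (iv2 F176114)
theorem F176127 : act 1 n113048 = n112946 := d15_1 F176121 F176126 (iv2 F176114)
def n113049 : Q := act 3 n52177
theorem D113049 : act 3 n52177 = n113049 := rfl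
theorem F176128 : act 7 n113049 = n112953 := d8_2 (iv7 F161684) D113049 (iv3 D112953)
def n113050 : Q := act 4 n52177
theorem D113050 : act 4 n52177 = n113050 := rfl
theorem F176129 : act 2 n113050 = n112951 := d1_1 D113050 (iv4 D112951) (iv2 F161686)
theorem F176130 : act 7 n113050 = n112954 := d11_2 (iv7 F161684) D113050 (iv4 D112954)
def n113051 : Q := act 6 n52177
theorem D113051 : act 6 n52177 = n113051 := rfl
theorem F176131 : act 2 n113051 = n112952 := d3_1 D113051 (iv6 D112952) (iv2 F161686)
def n113052 : Q := act 3 n52178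
theorem D113052 : act 3 n52178 = n113052 := rfl
theorem F176132 : act 7 n113052 = n112950 := d8_2 F161685 D113052 (iv3 D112950)
def n113053 : Q := act 4 n52178
theorem D113053 : act 4 n52178 = n113053 := rfl
theorem F176133 : act 2 n113053 = n112954 := d1_1 D113053 (iv4 D112954) F161683
theorem F176134 : act 7 n113053 = n112951 := d11_2 F161685 D113053 (iv4 D112951)
theorem F176135 : act 0 n113053 = n52801 := d18_2 (iv1 F82496) D113053 (iv4 D52801) (iv5 D25626) F20182 D25610 (iv4 F161722) F76716 (iv5 F82415)
theorem F176136 : act 1 n113050 = n52801 := d15_0 (iv0 F176135) F176134 (iv2 F176129)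
def n113054 : Q := act 6 n52178
theorem D113054 : act 6 n52178 = n113054 := rfl
theorem F176137 : act 2 n113054 = n112955 := d3_1 D113054 (iv6 D112955) F161683
def n113055 : Q := act 6 n52179
theorem D113055 : act 6 n52179 = n113055 := rfl
theorem F176138 : act 2 n113055 = n112956 := d3_1 D113055 (iv6 D112956) (iv2 F82497)
theorem F176139 : act 4 n113055 = n112897 := d10_1 D113055 (iv6 F176119) F176118
theorem F176140 : act 7 n113055 = n52180 := d14_2 D52179 D113055 (iv6 D52180) (iv7 D25344) D25343
theorem F176141 : act 1 n112958 = n113055 := d15_1 D112958 F176140 F82502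
theorem F176142 : act 1 n113055 = n112957 := d15_0 (iv0 D112957) (iv7 F175894) (iv2 F176138)
def n113056 : Q := act 0 n52180
theorem D113056 : act 0 n52180 = n113056 := rfl
theorem F176143 : act 1 n112956 = n113056 := d15_0 (iv0 D113056) (iv7 F176140) F176138
def n113057 : Q := act 1 n52180
theorem D113057 : act 1 n52180 = n113057 := rfl
theorem F176144 : act 1 n113057 = n112956 := d15_1 D113057 F175894 (iv2 F82502)
def n113058 : Q := act 0 n52181
theorem D113058 : act 0 n52181 = n113058 := rfl
def n113059 : Q := act 1 n52181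
theorem D113059 : act 1 n52181 = n113059 := rfl
def n113060 : Q := act 2 n52181
theorem D113060 : act 2 n52181 = n113060 := rfl
theorem F176145 : act 4 n113060 = n62938 := d1_2 (iv4 F82504) D113060 (iv2 D62938)
theorem F176146 : act 6 n113060 = n52190 := d3_2 (iv6 F82505) D113060 (iv2 D52190)
def n113061 : Q := act 5 n52182
theorem D113061 : act 5 n52182 = n113061 := rfl
theorem F176147 : act 6 n113061 = n106984 := d12_2 (iv6 F82506) D113061 (iv5 D106984) F99520 D49566
theorem F176148 : act 7 n113061 = n105273 := d13_2 (iv7 F161364) D113061 F161230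
theorem F176149 : act 0 n105219 = n113061 := d21_10 (iv5 D113061) F82548 F82619 F82618 (iv1 F82163) (iv6 F165155) (iv5 F165323) (iv1 F168340) (iv5 F168341) D105219
def n113062 : Q := act 6 n52183
theorem D113062 : act 6 n52183 = n113062 := rfl
theorem F176150 : act 3 n113062 = n111150 := d7_1 D113062 (iv6 D111150) F161359
theorem F176151 : act 5 n113062 = n111880 := d12_1 D113062 F173782 (iv5 D52413) D52414 F82763
theorem F176152 : act 7 n113062 = n107272 := d14_2 F161367 D113062 (iv6 D107272) F163583 (iv6 F163581)
theorem F176153 : act 1 n52325 = n113062 := d15_1 (iv0 F165153) F176152 F165321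
theorem F176154 : act 1 n113062 = n52329 := d15_1 F176153 F168349 F168350
theorem F176155 : act 0 n105273 = n52330 := d21_4 F173737 F161229 (iv5 D105272) D105273 (iv6 D52330) D52329 (iv1 F176154) F176151 F173782 (iv1 F173740)
def n113063 : Q := act 6 n52185
theorem D113063 : act 6 n52185 = n113063 := rfl
theorem F176156 : act 2 n113063 = n107108 := d3_1 D113063 (iv6 D107108) (iv2 F111459)
theorem F176157 : act 3 n113063 = n74526 := d7_1 D113063 (iv6 D74526) (iv3 F111460)
theorem F176158 : act 5 n113063 = n106656 := d21_6 F23053 (iv1 D13395) F19924 D25347 D52185 D113063 (iv1 D106656) F77879 (iv6 D25329) (iv1 F23052)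
def n113064 : Q := act 0 n52188
theorem D113064 : act 0 n52188 = n113064 := rfl
theorem F176159 : act 2 n52192 = n113064 := d15_3 (iv0 D113064) (iv0 D52188) D52192
theorem F176160 : act 4 n113064 = n111167 := d1_2 (iv4 F82519) F176159 (iv2 F172417)
theorem F176161 : act 7 n113064 = n52190 := d4_2 D52192 F176159 (iv2 D52190)
theorem F176162 : act 1 n52189 = n113064 := d15_1 D52189 F176161 (iv2 D52190)
def n113065 : Q := act 2 n52188
theorem D113065 : act 2 n52188 = n113065 := rfl
theorem F176163 : act 7 n52189 = n113065 := d15_2 (iv0 D52188) D52189 (iv2 D113065)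
def n113066 : Q := act 3 n52188
theorem D113066 : act 3 n52188 = n113066 := rfl
def n113067 : Q := act 4 n52188
theorem D113067 : act 4 n52188 = n113067 := rfl
def n113068 : Q := act 5 n52188
theorem D113068 : act 5 n52188 = n113068 := rfl
def n113069 : Q := act 6 n52188
theorem D113069 : act 6 n52188 = n113069 := rfl
def n113070 : Q := act 7 n52188
theorem D113070 : act 7 n52188 = n113070 := rfl
theorem F176164 : act 2 n113070 = n52189 := d4_1 D113070 F176163 (iv2 D113065)
def n113071 : Q := act 3 n52189
theorem D113071 : act 3 n52189 = n113071 := rfl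
def n113072 : Q := act 4 n52189
theorem D113072 : act 4 n52189 = n113072 := rfl
def n113073 : Q := act 5 n52189
theorem D113073 : act 5 n52189 = n113073 := rfl
def n113074 : Q := act 6 n52189
theorem D113074 : act 6 n52189 = n113074 := rfl
def n113075 : Q := act 0 n52190
theorem D113075 : act 0 n52190 = n113075 := rfl
theorem F176165 : act 1 n52192 = n113075 := d15_0 (iv0 D113075) (iv7 F176161) (iv2 F176159)
def n113076 : Q := act 1 n52190
theorem D113076 : act 1 n52190 = n113076 := rfl
theorem F176166 : act 1 n113076 = n52192 := d15_1 D113076 (iv7 D52192) D52190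
def n113077 : Q := act 5 n52190
theorem D113077 : act 5 n52190 = n113077 := rfl
theorem F176167 : act 2 n113077 = n52191 := d2_1 D113077 (iv5 D52191) D52190
def n113078 : Q := act 0 n52191
theorem D113078 : act 0 n52191 = n113078 := rfl
def n113079 : Q := act 1 n52191
theorem D113079 : act 1 n52191 = n113079 := rfl
def n113080 : Q := act 4 n52191
theorem D113080 : act 4 n52191 = n113080 := rfl
def n113081 : Q := act 6 n52191
theorem D113081 : act 6 n52191 = n113081 := rfl
theorem F176168 : act 3 n113081 = n52193 := d7_1 D113081 (iv6 D52193) (iv3 F82517)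
def n113082 : Q := act 6 n52192
theorem D113082 : act 6 n52192 = n113082 := rfl
theorem F176169 : act 3 n113082 = n52194 := d7_1 D113082 (iv6 D52194) (iv3 F82518)
theorem F176170 : act 4 n113082 = n111186 := d10_1 D113082 (iv6 D111186) (iv4 F82519)
def n113083 : Q := act 0 n52193
theorem D113083 : act 0 n52193 = n113083 := rfl
def n113084 : Q := act 1 n52193
theorem D113084 : act 1 n52193 = n113084 := rfl
def n113085 : Q := act 7 n52193
theorem D113085 : act 7 n52193 = n113085 := rfl
def n113086 : Q := act 5 n52194
theorem D113086 : act 5 n52194 = n113086 := rfl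
def n113087 : Q := act 5 n52196
theorem D113087 : act 5 n52196 = n113087 := rfl
theorem F176171 : act 6 n113087 = n62587 := d21_3 F49606 (iv1 F82522) D113087 (iv1 F97599) F95713 F82712 (iv1 F76528) F168341 (iv6 D64947) F168338
theorem F176172 : act 0 n107103 = n113087 := d21_10 (iv5 D113087) (iv1 D52196) F40063 (iv6 D25351) (iv1 F19928) (iv6 F37853) (iv5 D24148) D24146 D49475 D107103
theorem F176173 : act 1 n112907 = n113087 := d15_0 (iv0 F176172) F165076 (iv2 F175830)
def n113088 : Q := act 6 n52196
theorem D113088 : act 6 n52196 = n113088 := rfl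
theorem F176174 : act 5 n113088 = n63051 := d21_6 (iv5 D14308) F11289 D14777 D31347 (iv1 F82522) D113088 (iv1 D63051) F82452 (iv6 F82451) (iv1 F40915)
theorem F176175 : act 0 n107108 = n113088 := d21_10 F176174 (iv1 D63051) F82452 (iv6 F82451) (iv1 F40915) D30147 (iv5 F53493) D74273 F111166 D107108
def n113089 : Q := act 0 n52197
theorem D113089 : act 0 n52197 = n113089 := rfl
theorem F176176 : act 3 n113089 = n108233 := d20_5 (iv4 D30292) F24020 D25352 D52197 D113089 (iv4 D108233) F167155 (iv4 F78987) F78986 (iv1 F48725)
theorem F176177 : act 2 n108092 = n113089 := d0_5 F176176 F167371 F167053 F166953 (iv3 F167128)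
theorem F176178 : act 7 n108258 = n113089 := d8_0 F176176 F167372 D108258
theorem F176179 : act 5 n113089 = n108091 := d2_2 D108092 F176177 (iv2 D108091)
def n113090 : Q := act 1 n52197
theorem D113090 : act 1 n52197 = n113090 := rfl
theorem F176180 : act 7 n113090 = n108092 := d15_2 (iv0 D113089) D113090 F176177
theorem F176181 : act 3 n59487 = n113090 := d20_3 F167044 (iv1 F111019) F111017 (iv1 D113090) (iv3 D52197) (iv4 D25352) F26096 D34069 (iv3 F100352) (iv1 F167047)
theorem F176182 : act 2 n113090 = n108258 := d0_1 F176181 (iv3 D108258) (iv2 F167192) F167189 (iv2 F93892)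
theorem F176183 : act 5 n113090 = n59486 := d6_2 D59487 F176181 (iv3 D59486)
def n113091 : Q := act 2 n52197
theorem D113091 : act 2 n52197 = n113091 := rfl
theorem F176184 : act 3 n113091 = n111204 := d0_2 D52197 D113091 (iv2 D111204) (iv3 D51291) (iv2 F40064)
theorem F176185 : act 4 n113091 = n52209 := d1_2 (iv4 F82523) D113091 (iv2 D52209)
theorem F176186 : act 0 n108258 = n113091 := d20_4 F167218 (iv1 F79079) D49995 D108258 F176184 F172462 D111251 (iv4 F172553) (iv3 D108131) D108129
theorem F176187 : act 1 n108092 = n113091 := d15_0 (iv0 F176186) F176178 (iv2 F176177)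
def n113092 : Q := act 7 n52197
theorem D113092 : act 7 n52197 = n113092 := rfl
theorem F176188 : act 3 n113092 = n52199 := d8_1 D113092 (iv7 D52199) D52197
theorem F176189 : act 4 n113092 = n52211 := d11_1 D113092 (iv7 D52211) (iv4 F82523)
theorem F176190 : act 1 n108258 = n113092 := d15_1 (iv0 F176186) (iv7 D113092) D113091
theorem F176191 : act 1 n113092 = n108092 := d15_1 F176190 (iv7 F176180) F176182
def n113093 : Q := act 6 n52198
theorem D113093 : act 6 n52198 = n113093 := rfl
theorem F176192 : act 2 n113093 = n111206 := d3_1 D113093 (iv6 D111206) (iv2 F82524)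
def n113094 : Q := act 7 n52198
theorem D113094 : act 7 n52198 = n113094 := rfl
theorem F176193 : act 2 n113094 = n108064 := d4_1 D113094 F167081 (iv2 F82524)
theorem F176194 : act 4 n113094 = n74231 := d11_1 D113094 F111090 F100341
theorem F176195 : act 5 n113094 = n52199 := d13_1 D113094 (iv7 D52199) D52198
theorem F176196 : act 1 n108024 = n113094 := d15_1 (iv0 F166950) (iv7 D113094) F82524
theorem F176197 : act 1 n113094 = n108022 := d15_1 F176196 F166943 (iv2 F166947)
def n113095 : Q := act 6 n52199
theorem D113095 : act 6 n52199 = n113095 := rfl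
theorem F176198 : act 2 n113095 = n108088 := d3_1 D113095 (iv6 D108088) (iv2 F82527)
theorem F176199 : act 4 n113095 = n52200 := d10_1 D113095 (iv6 D52200) (iv4 F82528)
theorem F176200 : act 7 n113095 = n109269 := d14_2 D52199 D113095 (iv6 D109269) F79787 F48585
theorem F176201 : act 1 n108159 = n113095 := d15_1 (iv0 F168321) F176200 F169254
theorem F176202 : act 0 n108164 = n113095 := d20_1 D108164 F176199 F82532 D52214 F168204 F166383 (iv1 F166381) F93820 (iv3 F76830) (iv1 F79008)
def n113096 : Q := act 1 n52201
theorem D113096 : act 1 n52201 = n113096 := rfl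
theorem F176203 : act 1 n113096 = n63961 := d15_1 D113096 (iv7 D63961) (iv2 F82535)
theorem F176204 : act 7 n113096 = n63959 := d15_2 (iv0 F101881) D113096 F111461
theorem F176205 : act 5 n106856 = n113096 := d21_0 (iv1 D113096) F82537 (iv6 F77694) (iv1 D29791) D29793 (iv5 F76482) D105171 F161077 D106778 (iv1 F164670)
theorem F176206 : act 2 n113096 = n63960 := d2_1 F176205 (iv5 F164601) (iv2 F164669)
theorem F176207 : act 3 n53252 = n113096 := d0_0 F176206 F111462 F102116 D30967 (iv2 F163613)
theorem F176208 : act 4 n111008 = n113096 := d1_0 F176206 F162252 F172132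
def n113097 : Q := act 0 n52202
theorem D113097 : act 0 n52202 = n113097 := rfl
def n113098 : Q := act 1 n52202
theorem D113098 : act 1 n52202 = n113098 := rfl
def n113099 : Q := act 2 n52202
theorem D113099 : act 2 n52202 = n113099 := rfl
theorem F176209 : act 3 n113099 = n113060 := d0_2 D52202 D113099 (iv2 D113060) (iv3 D52181) (iv2 F40075)
theorem F176210 : act 6 n113099 = n52209 := d3_2 (iv6 F82538) D113099 (iv2 D52209)
def n113100 : Q := act 5 n52202
theorem D113100 : act 5 n52202 = n113100 := rfl
theorem F176211 : act 3 n113100 = n52203 := d6_1 D113100 (iv5 D52203) D52202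
theorem F176212 : act 7 n113100 = n67554 := d13_2 F103303 D113100 F103443
def n113101 : Q := act 6 n52203
theorem D113101 : act 6 n52203 = n113101 := rfl
theorem F176213 : act 2 n113101 = n67557 := d3_1 D113101 (iv6 D67557) (iv2 F82539)
theorem F176214 : act 5 n113101 = n52212 := d12_1 D113101 (iv6 D52212) (iv5 D25358) (iv6 F40076) D52203
def n113102 : Q := act 5 n52204
theorem D113102 : act 5 n52204 = n113102 := rfl
theorem F176215 : act 2 n113102 = n113061 := d2_1 D113102 (iv5 D113061) (iv2 F161365)
theorem F176216 : act 3 n113102 = n65099 := d6_1 D113102 (iv5 D65099) (iv3 F161366)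
theorem F176217 : act 7 n113102 = n52414 := d13_2 (iv7 F161367) D113102 F82763
theorem F176218 : act 0 n52330 = n113102 := d21_10 (iv5 D113102) (iv1 F82546) (iv5 F93057) F93054 (iv1 F82171) D107163 F165151 F100553 (iv5 D52329) D52330
def n113103 : Q := act 6 n52205
theorem D113103 : act 6 n52205 = n113103 := rfl
theorem F176219 : act 2 n113103 = n113062 := d3_1 D113103 (iv6 D113062) (iv2 F161363)
theorem F176220 : act 5 n113103 = n64449 := d12_1 D113103 (iv6 F161228) (iv5 D105272) D105273 F161230
theorem F176221 : act 7 n113103 = n64638 := d14_2 F161364 D113103 (iv6 D64638) (iv7 F163585) (iv6 F82506)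
theorem F176222 : act 1 n105214 = n113103 := d15_1 (iv0 F165325) F176221 (iv2 F165321)
theorem F176223 : act 1 n113103 = n64947 := d15_1 F176222 (iv7 F168201) (iv2 F168350)
def n113104 : Q := act 0 n52207
theorem D113104 : act 0 n52207 = n113104 := rfl
theorem F176224 : act 2 n52211 = n113104 := d15_3 (iv0 D113104) (iv0 D52207) D52211
theorem F176225 : act 3 n113104 = n113064 := d0_2 (iv3 F82551) F176224 (iv2 F176159) F82518 (iv2 F40081)
theorem F176226 : act 7 n113104 = n52209 := d4_2 D52211 F176224 (iv2 D52209)
theorem F176227 : act 1 n52208 = n113104 := d15_1 D52208 F176226 (iv2 D52209)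
def n113105 : Q := act 2 n52207
theorem D113105 : act 2 n52207 = n113105 := rfl
theorem F176228 : act 7 n52208 = n113105 := d15_2 (iv0 D52207) D52208 (iv2 D113105)
def n113106 : Q := act 3 n52207
theorem D113106 : act 3 n52207 = n113106 := rfl
def n113107 : Q := act 4 n52207
theorem D113107 : act 4 n52207 = n113107 := rfl
def n113108 : Q := act 5 n52207
theorem D113108 : act 5 n52207 = n113108 := rfl
def n113109 : Q := act 6 n52207
theorem D113109 : act 6 n52207 = n113109 := rfl
def n113110 : Q := act 7 n52207
theorem D113110 : act 7 n52207 = n113110 := rfl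
theorem F176229 : act 2 n113110 = n52208 := d4_1 D113110 F176228 (iv2 D113105)
def n113111 : Q := act 3 n52208
theorem D113111 : act 3 n52208 = n113111 := rfl
def n113112 : Q := act 4 n52208
theorem D113112 : act 4 n52208 = n113112 := rfl
def n113113 : Q := act 5 n52208
theorem D113113 : act 5 n52208 = n113113 := rfl
def n113114 : Q := act 6 n52208
theorem D113114 : act 6 n52208 = n113114 := rfl
def n113115 : Q := act 0 n52209
theorem D113115 : act 0 n52209 = n113115 := rfl
theorem F176230 : act 1 n52211 = n113115 := d15_0 (iv0 D113115) (iv7 F176226) (iv2 F176224)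
def n113116 : Q := act 1 n52209
theorem D113116 : act 1 n52209 = n113116 := rfl
theorem F176231 : act 1 n113116 = n52211 := d15_1 D113116 (iv7 D52211) D52209
def n113117 : Q := act 5 n52209
theorem D113117 : act 5 n52209 = n113117 := rfl
theorem F176232 : act 2 n113117 = n52210 := d2_1 D113117 (iv5 D52210) D52209
theorem F176233 : act 3 n113117 = n113077 := d6_1 D113117 (iv5 D113077) (iv3 F82549)
def n113118 : Q := act 0 n52210
theorem D113118 : act 0 n52210 = n113118 := rfl
def n113119 : Q := act 1 n52210
theorem D113119 : act 1 n52210 = n113119 := rfl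
def n113120 : Q := act 4 n52210
theorem D113120 : act 4 n52210 = n113120 := rfl
theorem F176234 : act 3 n113120 = n71490 := d5_1 D113120 F108022 F52299 F40530 (iv3 F82550)
theorem F176235 : act 7 n113120 = n71488 := d11_2 F83401 D113120 F108021
def n113121 : Q := act 6 n52210
theorem D113121 : act 6 n52210 = n113121 := rfl
theorem F176236 : act 3 n113121 = n52212 := d7_1 D113121 (iv6 D52212) (iv3 F82550)
def n113122 : Q := act 6 n52211
theorem D113122 : act 6 n52211 = n113122 := rfl
theorem F176237 : act 3 n113122 = n52213 := d7_1 D113122 (iv6 D52213) (iv3 F82551)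
def n113123 : Q := act 0 n52212
theorem D113123 : act 0 n52212 = n113123 := rfl
def n113124 : Q := act 1 n52212
theorem D113124 : act 1 n52212 = n113124 := rfl
theorem F176238 : act 1 n113124 = n113085 := d15_1 D113124 (iv7 D113085) (iv2 F82552)
def n113125 : Q := act 7 n52212
theorem D113125 : act 7 n52212 = n113125 := rfl
theorem F176239 : act 2 n113125 = n113085 := d4_1 D113125 (iv7 D113085) (iv2 F82552)
theorem F176240 : act 1 n113085 = n113123 := d15_0 (iv0 D113123) D113125 F176239
theorem F176241 : act 1 n113084 = n113125 := d15_1 D113084 (iv7 D113125) F82552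
theorem F176242 : act 1 n113125 = n113083 := d15_0 (iv0 D113083) D113085 (iv2 F176239)
def n113126 : Q := act 5 n52213
theorem D113126 : act 5 n52213 = n113126 := rfl
theorem F176243 : act 2 n113126 = n113086 := d2_1 D113126 (iv5 D113086) (iv2 F82553)
def n113127 : Q := act 5 n52214
theorem D113127 : act 5 n52214 = n113127 := rfl
theorem F176244 : act 2 n113127 = n64946 := d2_1 D113127 (iv5 D64946) (iv2 F168203)
theorem F176245 : act 7 n113127 = n113087 := d13_2 F168370 D113127 (iv5 D113087)
theorem F176246 : act 0 n61274 = n113127 := d21_10 (iv5 D113127) (iv1 F82555) F48761 (iv6 D30339) (iv1 F24037) D14448 (iv5 F37782) D49410 F78139 D61274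
def n113128 : Q := act 5 n52215
theorem D113128 : act 5 n52215 = n113128 := rfl
theorem F176247 : act 2 n113128 = n113087 := d2_1 D113128 (iv5 D113087) (iv2 F168372)
theorem F176248 : act 3 n113128 = n64055 := d6_1 D113128 (iv5 D64055) (iv3 F168373)
theorem F176249 : act 7 n113128 = n64946 := d13_2 (iv7 F168375) D113128 (iv5 D64946)
theorem F176250 : act 0 n113128 = n61274 := d21_1 D113128 (iv5 F165075) (iv6 D107103) F78221 (iv6 D30277) (iv5 D14370) F11159 D14394 D30339 (iv1 F82556)
theorem F176251 : act 6 n113128 = n61246 := d21_3 F48761 (iv1 F82556) D113128 (iv1 F97601) F97598 F82702 (iv1 F76532) D52329 (iv6 F82701) (iv1 F82555)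
def n113129 : Q := act 6 n52215
theorem D113129 : act 6 n52215 = n113129 := rfl
theorem F176252 : act 2 n113129 = n113088 := d3_1 D113129 (iv6 D113088) (iv2 F168372)
theorem F176253 : act 3 n113129 = n63554 := d7_1 D113129 (iv6 F98870) (iv3 F168373)
theorem F176254 : act 5 n113129 = n63552 := d21_6 (iv5 D14370) F11159 D14394 D30339 (iv1 F82556) D113129 F168149 F48369 (iv6 F47524) (iv1 F24045)
theorem F176255 : act 0 n113063 = n113129 := d21_4 F48674 D49431 F82514 D113063 (iv6 D113129) D113128 F176250 (iv5 F165075) (iv6 D107103) F78221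
def n113130 : Q := act 0 n52216
theorem D113130 : act 0 n52216 = n113130 := rfl
theorem F176256 : act 3 n113130 = n107813 := d20_5 F78550 F38591 D25361 D52216 D113130 (iv4 D107813) (iv1 F78703) (iv4 F78624) F78623 (iv1 F78548)
def n113131 : Q := act 1 n52216
theorem D113131 : act 1 n52216 = n113131 := rfl
def n113132 : Q := act 2 n52216
theorem D113132 : act 2 n52216 = n113132 := rfl
theorem F176257 : act 3 n113132 = n108507 := d0_2 D52216 D113132 (iv2 D108507) (iv3 D50101) (iv2 F40087)
theorem F176258 : act 4 n113132 = n106408 := d1_2 (iv4 F82557) D113132 (iv2 D106408)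
theorem F176259 : act 6 n113132 = n106398 := d3_2 (iv6 F82558) D113132 (iv2 D106398)
theorem F176260 : act 0 n107802 = n113132 := d20_4 F166359 (iv1 F78700) D49795 D107802 F176257 F167751 D108574 (iv4 F167908) (iv3 D107721) D107719
def n113133 : Q := act 5 n52216
theorem D113133 : act 5 n52216 = n113133 := rfl
theorem F176261 : act 3 n113133 = n52217 := d6_1 D113133 (iv5 D52217) D52216
def n113134 : Q := act 7 n52216
theorem D113134 : act 7 n52216 = n113134 := rfl
theorem F176262 : act 3 n113134 = n52218 := d8_1 D113134 (iv7 D52218) D52216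
theorem F176263 : act 4 n113134 = n106410 := d11_1 D113134 (iv7 D106410) (iv4 F82557)
theorem F176264 : act 1 n107802 = n113134 := d15_1 (iv0 F176260) (iv7 D113134) D113132
def n113135 : Q := act 6 n52217
theorem D113135 : act 6 n52217 = n113135 := rfl
theorem F176265 : act 2 n113135 = n108509 := d3_1 D113135 (iv6 D108509) (iv2 F82559)
theorem F176266 : act 5 n113135 = n106400 := d12_1 D113135 (iv6 D106400) (iv5 D49161) (iv6 F40088) D52217
def n113136 : Q := act 7 n52217
theorem D113136 : act 7 n52217 = n113136 := rfl
theorem F176267 : act 2 n113136 = n107644 := d4_1 D113136 F166254 (iv2 F82559)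
theorem F176268 : act 4 n113136 = n59332 := d11_1 D113136 (iv7 F97732) (iv4 F97735)
theorem F176269 : act 5 n113136 = n52218 := d13_1 D113136 (iv7 D52218) D52217
theorem F176270 : act 1 n107599 = n113136 := d15_1 (iv0 F166008) (iv7 D113136) F82559
theorem F176271 : act 1 n113136 = n107597 := d15_1 F176270 F166001 (iv2 F166005)
def n113137 : Q := act 6 n52218
theorem D113137 : act 6 n52218 = n113137 := rfl
theorem F176272 : act 2 n113137 = n107668 := d3_1 D113137 (iv6 D107668) (iv2 F82562)
theorem F176273 : act 4 n113137 = n52219 := d10_1 D113137 (iv6 D52219) (iv4 F82563)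
theorem F176274 : act 7 n113137 = n64273 := d14_2 D52218 D113137 (iv6 D64273) F48663 (iv6 F40088)
theorem F176275 : act 1 n107751 = n113137 := d15_1 (iv0 F166387) F176274 F100069
theorem F176276 : act 1 n113137 = n107755 := d15_1 F176275 F171853 F171932
def n113138 : Q := act 0 n52220
theorem D113138 : act 0 n52220 = n113138 := rfl
def n113139 : Q := act 1 n52220
theorem D113139 : act 1 n52220 = n113139 := rfl
def n113140 : Q := act 0 n52221
theorem D113140 : act 0 n52221 = n113140 := rfl
def n113141 : Q := act 1 n52221
theorem D113141 : act 1 n52221 = n113141 := rfl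
def n113142 : Q := act 3 n52222
theorem D113142 : act 3 n52222 = n113142 := rfl
theorem F176277 : act 4 n113142 = n65408 := d5_2 D52222 D113142 (iv3 D65408) (iv4 F49130) (iv3 F40100)
theorem F176278 : act 5 n113142 = n53346 := d6_2 (iv5 F82575) D113142 (iv3 D53346)
theorem F176279 : act 7 n113142 = n65533 := d8_2 (iv7 F82574) D113142 (iv3 D65533)
def n113143 : Q := act 6 n52222
theorem D113143 : act 6 n52222 = n113143 := rfl
theorem F176280 : act 2 n113143 = n59438 := d3_1 D113143 (iv6 D59438) (iv2 F82573)
theorem F176281 : act 4 n113143 = n52223 := d10_1 D113143 (iv6 D52223) D52222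
theorem F176282 : act 0 n53227 = n113143 := d18_2 (iv1 F78197) D53227 F176281 (iv5 F98679) (iv4 F99400) (iv0 F167837) (iv4 D74555) F101966 (iv5 F78194)
theorem F176283 : act 0 n113143 = n53224 := d20_1 (iv4 F176281) (iv4 D53224) F111207 (iv1 F48498) (iv3 F99428) F111212 (iv1 F103470) (iv4 D31398) D31397 (iv1 F111378)
theorem F176284 : act 7 n65819 = n113143 := d15_2 (iv0 F111275) F111449 F176280
def n113144 : Q := act 7 n52223
theorem D113144 : act 7 n52223 = n113144 := rfl
theorem F176285 : act 2 n113144 = n59441 := d4_1 D113144 (iv7 D59441) (iv2 F82578)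
theorem F176286 : act 3 n113144 = n110810 := d8_1 D113144 (iv7 D110810) (iv3 F82579)
theorem F176287 : act 4 n113144 = n65819 := d11_1 D113144 F176284 F176281
theorem F176288 : act 6 n113144 = n110843 := d14_1 D113144 (iv7 D110843) (iv6 D51107) (iv7 F40101) D52223
theorem F176289 : act 1 n59440 = n113144 := d15_1 D59440 (iv7 D113144) F82578
theorem F176290 : act 1 n113144 = n59439 := d15_1 F176289 F111433 (iv2 F111439)
def n113145 : Q := act 1 n52224
theorem D113145 : act 1 n52224 = n113145 := rfl
def n113146 : Q := act 2 n52224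
theorem D113146 : act 2 n52224 = n113146 := rfl
theorem F176291 : act 1 n113146 = n110537 := d15_0 (iv0 F171085) F168775 D113146
def n113147 : Q := act 5 n52224
theorem D113147 : act 5 n52224 = n113147 := rfl
theorem F176292 : act 3 n113147 = n52225 := d6_1 D113147 (iv5 D52225) D52224
def n113148 : Q := act 6 n52224
theorem D113148 : act 6 n52224 = n113148 := rfl
theorem F176293 : act 3 n113148 = n52226 := d7_1 D113148 (iv6 D52226) D52224
def n113149 : Q := act 6 n52225
theorem D113149 : act 6 n52225 = n113149 := rfl
theorem F176294 : act 4 n113149 = n53349 := d10_1 D113149 (iv6 D53349) (iv4 F82580)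
def n113150 : Q := act 5 n52226
theorem D113150 : act 5 n52226 = n113150 := rfl
def n113151 : Q := act 7 n52226
theorem D113151 : act 7 n52226 = n113151 := rfl
theorem F176296 : act 4 n113151 = n52230 := d11_1 D113151 (iv7 D52230) (iv4 F82583)
theorem F176297 : act 6 n113151 = n110601 := d14_1 D113151 F171178 (iv6 D108820) F79610 D52226
theorem F176298 : act 1 n110364 = n113151 := d15_1 (iv0 F170638) (iv7 D113151) (iv2 F167937)
def n113152 : Q := act 6 n52228
theorem D113152 : act 6 n52228 = n113152 := rfl
theorem F176300 : act 3 n113152 = n52293 := d7_1 D113152 (iv6 D52293) (iv3 F165647)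
def n113153 : Q := act 7 n52229
theorem D113153 : act 7 n52229 = n113153 := rfl
theorem F176301 : act 2 n113153 = n63080 := d4_1 D113153 (iv7 D63080) (iv2 F82584)
theorem F176302 : act 3 n113153 = n106810 := d8_1 D113153 (iv7 D106810) (iv3 F82585)
theorem F176303 : act 5 n113153 = n52230 := d13_1 D113153 (iv7 D52230) D52229
theorem F176304 : act 6 n113153 = n64095 := d14_1 D113153 (iv7 D64095) (iv6 D30208) F40706 (iv6 F82586)
theorem F176305 : act 1 n63079 = n113153 := d15_1 D63079 (iv7 D113153) F82584
theorem F176306 : act 1 n113153 = n63078 := d15_1 F176305 F168383 F168377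
theorem F176307 : act 0 n106768 = n64095 := d21_4 F168997 F168426 F168425 F168430 (iv6 F176304) F176303 (iv1 F167940) (iv5 F167944) F97484 (iv1 F169000)
def n113154 : Q := act 1 n52231
theorem D113154 : act 1 n52231 = n113154 := rfl
def n113155 : Q := act 2 n52231
theorem D113155 : act 2 n52231 = n113155 := rfl
theorem F176308 : act 4 n113155 = n58914 := d1_2 (iv4 F82587) D113155 (iv2 D58914)
theorem F176309 : act 1 n113155 = n110010 := d15_0 (iv0 F170143) F165975 D113155
def n113156 : Q := act 5 n52231
theorem D113156 : act 5 n52231 = n113156 := rfl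
theorem F176310 : act 3 n113156 = n52232 := d6_1 D113156 (iv5 D52232) D52231
def n113157 : Q := act 6 n52231
theorem D113157 : act 6 n52231 = n113157 := rfl
theorem F176311 : act 3 n113157 = n52233 := d7_1 D113157 (iv6 D52233) D52231
theorem F176312 : act 4 n113157 = n58916 := d10_1 D113157 (iv6 D58916) (iv4 F82587)
def n113158 : Q := act 6 n52232
theorem D113158 : act 6 n52232 = n113158 := rfl
theorem F176313 : act 4 n113158 = n53321 := d10_1 D113158 (iv6 D53321) (iv4 F82588)
def n113159 : Q := act 0 n52233
theorem D113159 : act 0 n52233 = n113159 := rfl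
def n113160 : Q := act 5 n52233
theorem D113160 : act 5 n52233 = n113160 := rfl
theorem F176314 : act 0 n113160 = n112560 := d17_2 (iv1 F100411) D113160 (iv5 D112560) F81997 (iv5 F45651) (iv0 F45652) F24609 D28123 D59231
def n113161 : Q := act 7 n52233
theorem D113161 : act 7 n52233 = n113161 := rfl
theorem F176315 : act 4 n113161 = n52236 := d11_1 D113161 (iv7 D52236) (iv4 F82591)
def n113162 : Q := act 4 n52235
theorem D113162 : act 4 n52235 = n113162 := rfl
theorem F176316 : act 2 n113162 = n59221 := d1_1 D113162 (iv4 F168503) (iv2 F168501)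
theorem F176317 : act 7 n113162 = n59220 := d11_2 (iv7 F168363) D113162 F168411
theorem F176318 : act 0 n113162 = n52239 := d20_1 D113162 F82599 F45437 D58975 F168013 (iv4 F168014) F168522 F168518 (iv3 F100399) (iv1 F100402)
theorem F176319 : act 0 n59223 = n113162 := d20_1 (iv4 F93429) (iv4 D113162) F168362 (iv1 D25412) F19999 (iv4 F39240) D51435 F168471 (iv3 F168470) (iv1 F93424)
def n113163 : Q := act 5 n52235
theorem D113163 : act 5 n52235 = n113163 := rfl
theorem F176320 : act 3 n113163 = n52329 := d6_1 D113163 (iv5 D52329) (iv3 F168362)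
theorem F176321 : act 6 n113163 = n64275 := d21_3 D64460 (iv1 F100402) D113163 (iv1 D64275) (iv6 D30275) (iv5 D14369) (iv1 F11143) D6892 D14406 D30351
def n113164 : Q := act 6 n52235
theorem D113164 : act 6 n52235 = n113164 := rfl
theorem F176322 : act 3 n113164 = n52330 := d7_1 D113164 (iv6 D52330) (iv3 F168362)
theorem F176323 : act 7 n113164 = n111557 := d14_2 (iv7 F168363) D113164 (iv6 D111557) (iv7 F168387) (iv6 F168394)
theorem F176324 : act 5 n113164 = n64246 := d21_6 (iv5 F172580) (iv1 F169000) F168997 F100401 (iv1 F100402) D113164 (iv1 F100101) F100091 (iv6 F161106) (iv1 F172578)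
def n113165 : Q := act 0 n52237
theorem D113165 : act 0 n52237 = n113165 := rfl
theorem F176325 : act 1 n112403 = n113165 := d15_0 (iv0 D113165) (iv7 F93206) (iv2 F174871)
def n113166 : Q := act 1 n52237
theorem D113166 : act 1 n52237 = n113166 := rfl
theorem F176326 : act 1 n113166 = n112403 := d15_1 D113166 F174873 F170145
def n113167 : Q := act 5 n52237
theorem D113167 : act 5 n52237 = n113167 := rfl
theorem F176327 : act 3 n113167 = n52238 := d6_1 D113167 (iv5 D52238) D52237
def n113168 : Q := act 6 n52237
theorem D113168 : act 6 n52237 = n113168 := rfl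
theorem F176328 : act 3 n113168 = n52239 := d7_1 D113168 (iv6 D52239) D52237
def n113169 : Q := act 6 n52238
theorem D113169 : act 6 n52238 = n113169 := rfl
theorem F176329 : act 2 n113169 = n59219 := d3_1 D113169 (iv6 D59219) (iv2 F82594)
theorem F176330 : act 4 n113169 = n53285 := d10_1 D113169 (iv6 D53285) (iv4 F82595)
def n113170 : Q := act 5 n52239
theorem D113170 : act 5 n52239 = n113170 := rfl
theorem F176331 : act 2 n113170 = n59222 := d2_1 D113170 (iv5 D59222) (iv2 F82598)
theorem F176332 : act 0 n113170 = n110627 := d17_2 F176318 D113170 (iv5 D110627) F80472 (iv5 D30353) D30352 F48783 D52235 D113162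
def n113171 : Q := act 7 n52239
theorem D113171 : act 7 n52239 = n113171 := rfl
theorem F176333 : act 2 n113171 = n59223 := d4_1 D113171 (iv7 D59223) (iv2 F82598)
theorem F176334 : act 4 n113171 = n59218 := d11_1 D113171 (iv7 D59218) (iv4 F82599)
theorem F176335 : act 1 n59221 = n113171 := d15_1 D59221 (iv7 D113171) F82598
theorem F176336 : act 1 n113171 = n59220 := d15_1 F176335 (iv7 F176317) F176316
def n113172 : Q := act 0 n52240
theorem D113172 : act 0 n52240 = n113172 := rfl
theorem F176337 : act 2 n52244 = n113172 := d15_3 (iv0 D113172) (iv0 D52240) D52244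
theorem F176338 : act 4 n113172 = n52381 := d1_2 (iv4 F82603) F176337 (iv2 F82745)
theorem F176339 : act 7 n113172 = n52242 := d4_2 D52244 F176337 (iv2 D52242)
theorem F176340 : act 1 n52241 = n113172 := d15_1 D52241 F176339 (iv2 D52242)
def n113173 : Q := act 2 n52240
theorem D113173 : act 2 n52240 = n113173 := rfl
theorem F176341 : act 7 n52241 = n113173 := d15_2 (iv0 D52240) D52241 (iv2 D113173)
def n113174 : Q := act 3 n52240
theorem D113174 : act 3 n52240 = n113174 := rfl
theorem F176342 : act 4 n113174 = n109875 := d20_6 (iv4 D24540) F38138 D12057 D25375 D52240 D113174 (iv1 D109875) (iv4 F80272) (iv3 D50883) F38736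
theorem F176343 : act 0 n113174 = n112413 := d20_1 (iv4 F176342) F174897 (iv3 D112149) F81933 D112487 F174964 (iv1 F173033) F173031 (iv3 F174300) (iv1 F174307)
def n113175 : Q := act 4 n52240
theorem D113175 : act 4 n52240 = n113175 := rfl
def n113176 : Q := act 5 n52240
theorem D113176 : act 5 n52240 = n113176 := rfl
def n113177 : Q := act 6 n52240
theorem D113177 : act 6 n52240 = n113177 := rfl
def n113178 : Q := act 7 n52240
theorem D113178 : act 7 n52240 = n113178 := rfl
theorem F176344 : act 2 n113178 = n52241 := d4_1 D113178 F176341 (iv2 D113173)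
def n113179 : Q := act 3 n52241
theorem D113179 : act 3 n52241 = n113179 := rfl
def n113180 : Q := act 4 n52241
theorem D113180 : act 4 n52241 = n113180 := rfl
theorem F176345 : act 3 n113180 = n106218 := d20_3 (iv4 F176338) (iv1 F176340) D113180 (iv1 D106218) F77465 F45418 (iv1 F45339) (iv4 F82749) (iv3 D52383) D52381
def n113181 : Q := act 5 n52241
theorem D113181 : act 5 n52241 = n113181 := rfl
def n113182 : Q := act 6 n52241
theorem D113182 : act 6 n52241 = n113182 := rfl
def n113183 : Q := act 0 n52242
theorem D113183 : act 0 n52242 = n113183 := rfl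
theorem F176346 : act 4 n113183 = n106208 := d20_2 (iv4 F82600) D113183 (iv3 D106208) D106206 F163212 (iv4 D59094) (iv1 F45336) D28154 (iv3 F173408) F173406
theorem F176347 : act 1 n52244 = n113183 := d15_0 (iv0 D113183) (iv7 F176339) (iv2 F176337)
def n113184 : Q := act 1 n52242
theorem D113184 : act 1 n52242 = n113184 := rfl
theorem F176348 : act 1 n113184 = n52244 := d15_1 D113184 (iv7 D52244) D52242
def n113185 : Q := act 5 n52242
theorem D113185 : act 5 n52242 = n113185 := rfl
theorem F176349 : act 2 n113185 = n52243 := d2_1 D113185 (iv5 D52243) D52242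
def n113186 : Q := act 0 n52243
theorem D113186 : act 0 n52243 = n113186 := rfl
def n113187 : Q := act 1 n52243
theorem D113187 : act 1 n52243 = n113187 := rfl
def n113188 : Q := act 4 n52243
theorem D113188 : act 4 n52243 = n113188 := rfl
def n113189 : Q := act 6 n52243
theorem D113189 : act 6 n52243 = n113189 := rfl
theorem F176350 : act 3 n113189 = n52246 := d7_1 D113189 (iv6 D52246) (iv3 F82601)
def n113190 : Q := act 6 n52244
theorem D113190 : act 6 n52244 = n113190 := rfl
theorem F176351 : act 3 n113190 = n52247 := d7_1 D113190 (iv6 D52247) (iv3 F82602)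
def n113191 : Q := act 3 n52245
theorem D113191 : act 3 n52245 = n113191 := rfl
theorem F176353 : act 5 n113191 = n53185 := d6_2 (iv5 F82605) D113191 F84001
theorem F176354 : act 7 n113191 = n53184 := d8_2 (iv7 F82606) D113191 F84000
def n113192 : Q := act 6 n52245
theorem D113192 : act 6 n52245 = n113192 := rfl
theorem F176355 : act 2 n113192 = n53355 := d3_1 D113192 (iv6 D53355) (iv2 F82604)
theorem F176356 : act 4 n113192 = n52246 := d10_1 D113192 (iv6 D52246) D52245
def n113193 : Q := act 0 n52246
theorem D113193 : act 0 n52246 = n113193 := rfl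
def n113194 : Q := act 1 n52246
theorem D113194 : act 1 n52246 = n113194 := rfl
def n113195 : Q := act 7 n52246
theorem D113195 : act 7 n52246 = n113195 := rfl
def n113196 : Q := act 5 n52247
theorem D113196 : act 5 n52247 = n113196 := rfl
def n113197 : Q := act 5 n52248
theorem D113197 : act 5 n52248 = n113197 := rfl
theorem F176357 : act 2 n113197 = n111774 := d2_1 D113197 (iv5 D111774) F161335
theorem F176358 : act 3 n113197 = n52418 := d6_1 D113197 (iv5 D52418) (iv3 F161329)
theorem F176359 : act 6 n113197 = n112686 := d21_3 F40127 D52248 D113197 F175361 F100415 (iv5 F111137) F169195 F169194 (iv6 D109239) F161338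
theorem F176360 : act 0 n113152 = n113197 := d21_10 (iv5 D113197) (iv1 F82610) F79896 (iv6 D50523) F38614 D25008 (iv5 F48287) D63687 F99026 D113152
theorem F176361 : act 1 n113152 = n109238 := d15_1 (iv0 F176360) (iv7 F173463) (iv2 F176357)
def n113198 : Q := act 6 n52248
theorem D113198 : act 6 n52248 = n113198 := rfl
theorem F176362 : act 2 n113198 = n111775 := d3_1 D113198 (iv6 D111775) F161335
theorem F176363 : act 3 n113198 = n52419 := d7_1 D113198 (iv6 D52419) (iv3 F161329)
theorem F176364 : act 5 n113198 = n64150 := d21_6 (iv5 D24454) F18864 (iv5 F19974) D25378 D52248 D113198 (iv1 D64150) F81152 (iv6 F81151) (iv1 F39418)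
theorem F176365 : act 0 n111557 = n113198 := d21_10 F176364 (iv1 D64150) F81152 (iv6 F81151) (iv1 F39418) D50142 F79432 D63078 F99061 D111557
def n113199 : Q := act 0 n52250
theorem D113199 : act 0 n52250 = n113199 := rfl
def n113200 : Q := act 1 n52250
theorem D113200 : act 1 n52250 = n113200 := rfl
def n113201 : Q := act 2 n52250
theorem D113201 : act 2 n52250 = n113201 := rfl
def n113202 : Q := act 5 n52250
theorem D113202 : act 5 n52250 = n113202 := rfl
theorem F176366 : act 3 n113202 = n52251 := d6_1 D113202 (iv5 D52251) D52250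
theorem F176367 : act 7 n113202 = n58950 := d13_2 F92953 D113202 F93155
def n113203 : Q := act 6 n52250
theorem D113203 : act 6 n52250 = n113203 := rfl
theorem F176368 : act 3 n113203 = n52252 := d7_1 D113203 (iv6 D52252) D52250
def n113204 : Q := act 6 n52251
theorem D113204 : act 6 n52251 = n113204 := rfl
theorem F176369 : act 2 n113204 = n58953 := d3_1 D113204 (iv6 D58953) (iv2 F82612)
def n113205 : Q := act 5 n52252
theorem D113205 : act 5 n52252 = n113205 := rfl
def n113206 : Q := act 0 n52254
theorem D113206 : act 0 n52254 = n113206 := rfl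
theorem F176370 : act 5 n113206 = n52330 := d21_2 D52254 D113206 (iv6 D52330) (iv1 D25412) (iv6 D12083) (iv5 F18528) (iv1 F19808) (iv5 F36889) D48638 F76500
theorem F176371 : act 6 n113206 = n113127 := d21_5 F19469 (iv1 F37786) D25382 (iv6 F82624) D113206 (iv5 D113127) (iv1 F82555) F48761 (iv6 D30339) (iv1 F24037)
theorem F176372 : act 2 n64320 = n113206 := d15_3 (iv0 D113206) (iv0 F169546) F169544
theorem F176373 : act 1 n62602 = n113206 := d15_0 (iv0 D113206) (iv7 F175994) F175990
theorem F176374 : act 7 n113206 = n64437 := d15_2 F169547 F176373 F169545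
theorem F176375 : act 3 n64246 = n113206 := d8_3 F176374 (iv3 F169548) (iv7 F169536)
theorem F176376 : act 4 n67630 = n64246 := d20_2 (iv4 F49688) D67630 F176375 (iv1 F176373) F97619 (iv4 F101113) (iv1 F168889) F168890 (iv3 D67640) (iv1 D31415)
def n113207 : Q := act 0 n52256
theorem D113207 : act 0 n52256 = n113207 := rfl
theorem F176377 : act 1 n58914 = n113207 := d15_0 (iv0 D113207) F82627 D58914
def n113208 : Q := act 1 n52256
theorem D113208 : act 1 n52256 = n113208 := rfl
def n113209 : Q := act 2 n52256
theorem D113209 : act 2 n52256 = n113209 := rfl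
theorem F176378 : act 3 n113209 = n58924 := d0_2 D52256 D113209 (iv2 D58924) (iv3 D28009) (iv2 F40149)
theorem F176379 : act 7 n113209 = n58914 := d4_2 (iv7 F82627) D113209 (iv2 D58914)
theorem F176380 : act 1 n113209 = n58912 := d15_0 (iv0 D58912) (iv7 F82627) D113209
theorem F176381 : act 1 n113208 = n58914 := d15_1 D113208 (iv7 F176379) (iv2 D113209)
theorem F176382 : act 1 n58913 = n113209 := d15_1 D58913 F176379 (iv2 D58914)
def n113210 : Q := act 5 n52256
theorem D113210 : act 5 n52256 = n113210 := rfl
theorem F176383 : act 3 n113210 = n52257 := d6_1 D113210 (iv5 D52257) D52256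
theorem F176384 : act 7 n113210 = n58915 := d13_2 (iv7 F82627) D113210 (iv5 D58915)
def n113211 : Q := act 6 n52256
theorem D113211 : act 6 n52256 = n113211 := rfl
theorem F176385 : act 3 n113211 = n52258 := d7_1 D113211 (iv6 D52258) D52256
def n113212 : Q := act 6 n52257
theorem D113212 : act 6 n52257 = n113212 := rfl
theorem F176386 : act 2 n113212 = n58927 := d3_1 D113212 (iv6 D58927) (iv2 F82628)
def n113213 : Q := act 0 n52258
theorem D113213 : act 0 n52258 = n113213 := rfl
theorem F176387 : act 4 n113213 = n58782 := d18_3 F168185 (iv4 F82632) D113213 F92922 D106608 F164209 F77857 D49362 (iv5 F168187)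
theorem F176388 : act 2 n58905 = n113213 := d15_3 (iv0 D113213) F168298 (iv7 F168023)
theorem F176389 : act 7 n113213 = n58909 := d4_2 (iv7 F168023) F176388 (iv2 F168413)
theorem F176390 : act 1 n58931 = n113213 := d15_1 (iv0 F168296) F176389 (iv2 F168413)
def n113214 : Q := act 5 n52258
theorem D113214 : act 5 n52258 = n113214 := rfl
theorem F176391 : act 2 n113214 = n58930 := d2_1 D113214 (iv5 D58930) (iv2 F82631)
theorem F176392 : act 1 n113214 = n112660 := d17_6 D25396 D52288 F82663 F46373 (iv4 F82632) D113214 (iv5 D112660) F164337 F40170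
def n113215 : Q := act 7 n52258
theorem D113215 : act 7 n52258 = n113215 := rfl
theorem F176393 : act 2 n113215 = n58931 := d4_1 D113215 (iv7 D58931) (iv2 F82631)
theorem F176394 : act 4 n113215 = n52261 := d11_1 D113215 (iv7 D52261) (iv4 F82632)
theorem F176395 : act 6 n113215 = n58921 := d14_1 D113215 (iv7 D58921) (iv6 D28008) (iv7 F40150) D52258
theorem F176396 : act 1 n58909 = n113215 := d15_1 (iv0 F168559) (iv7 D113215) F82631
theorem F176397 : act 1 n113215 = n58905 := d15_1 F176396 F168023 F168413
def n113216 : Q := act 6 n52259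
theorem D113216 : act 6 n52259 = n113216 := rfl
theorem F176398 : act 3 n113216 = n111557 := d7_1 D113216 (iv6 D111557) (iv3 F168020)
theorem F176399 : act 5 n113216 = n64437 := d12_1 D113216 (iv6 F165238) (iv5 F164635) (iv6 D106829) (iv5 F82633)
theorem F176400 : act 7 n113216 = n52330 := d14_2 (iv7 F168356) D113216 (iv6 D52330) (iv7 F168346) (iv6 F161081)
theorem F176401 : act 0 n113216 = n52414 := d21_4 (iv5 F37729) D49361 (iv5 F82633) D113216 (iv6 D52414) D52413 (iv1 F173740) F173737 (iv6 D105199) (iv1 D48642)
theorem F176402 : act 0 n113061 = n113216 := d21_4 (iv5 F40187) D49425 D106984 (iv6 F176147) (iv6 D113216) F82633 (iv1 F78050) F78013 (iv6 F76517) (iv1 F76519)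
def n113217 : Q := act 0 n52262
theorem D113217 : act 0 n52262 = n113217 := rfl
theorem F176403 : act 2 n52266 = n113217 := d15_3 (iv0 D113217) (iv0 D52262) D52266
theorem F176404 : act 7 n113217 = n52264 := d4_2 D52266 F176403 (iv2 D52264)
theorem F176405 : act 1 n52263 = n113217 := d15_1 D52263 F176404 (iv2 D52264)
theorem F176406 : act 2 n59076 = n52263 := d15_3 F176405 (iv0 D113217) F169992
def n113218 : Q := act 2 n52262
theorem D113218 : act 2 n52262 = n113218 := rfl
theorem F176407 : act 7 n113218 = n52263 := d4_2 (iv7 F169992) D113218 (iv2 F176406)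
theorem F176408 : act 1 n113218 = n52264 := d15_0 F93258 (iv7 F169992) D113218
theorem F176409 : act 1 n52266 = n113218 := d15_0 F176408 (iv7 F176404) (iv2 F176403)
def n113219 : Q := act 4 n52262
theorem D113219 : act 4 n52262 = n113219 := rfl
theorem F176410 : act 3 n113219 = n110060 := d5_1 D113219 F170182 (iv3 D59044) D59045 F169959
def n113220 : Q := act 5 n52262
theorem D113220 : act 5 n52262 = n113220 := rfl
def n113221 : Q := act 6 n52262
theorem D113221 : act 6 n52262 = n113221 := rfl
def n113222 : Q := act 3 n52263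
theorem D113222 : act 3 n52263 = n113222 := rfl
theorem F176411 : act 2 n113222 = n109135 := d0_1 D113222 (iv3 F169964) F93245 D59076 F176406
theorem F176412 : act 4 n109134 = n113222 := d1_0 F176411 (iv4 D109135) D109134
def n113223 : Q := act 4 n52263
theorem D113223 : act 4 n52263 = n113223 := rfl
theorem F176413 : act 3 n110581 = n113223 := d20_5 (iv4 D28025) (iv1 F22243) D24799 D50989 D110581 (iv4 D113223) (iv1 D52263) (iv4 F82571) (iv3 D52221) (iv1 F45294)
def n113224 : Q := act 5 n52263
theorem D113224 : act 5 n52263 = n113224 := rfl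
def n113225 : Q := act 6 n52263
theorem D113225 : act 6 n52263 = n113225 := rfl
def n113226 : Q := act 5 n52264
theorem D113226 : act 5 n52264 = n113226 := rfl
theorem F176414 : act 2 n113226 = n52265 := d2_1 D113226 (iv5 D52265) D52264
def n113227 : Q := act 0 n52265
theorem D113227 : act 0 n52265 = n113227 := rfl
def n113228 : Q := act 1 n52265
theorem D113228 : act 1 n52265 = n113228 := rfl
def n113229 : Q := act 4 n52265
theorem D113229 : act 4 n52265 = n113229 := rfl
def n113230 : Q := act 6 n52265
theorem D113230 : act 6 n52265 = n113230 := rfl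
theorem F176415 : act 3 n113230 = n52268 := d7_1 D113230 (iv6 D52268) (iv3 F82638)
theorem F176416 : act 5 n113230 = n52398 := d12_1 D113230 (iv6 D52398) (iv5 D25432) (iv6 F40153) D52265
def n113231 : Q := act 7 n52265
theorem D113231 : act 7 n52265 = n113231 := rfl
theorem F176417 : act 3 n113231 = n52267 := d8_1 D113231 (iv7 F82641) (iv3 F82638)
theorem F176418 : act 5 n113231 = n52266 := d13_1 D113231 (iv7 D52266) D52265
def n113232 : Q := act 6 n52266
theorem D113232 : act 6 n52266 = n113232 := rfl
theorem F176419 : act 3 n113232 = n52269 := d7_1 D113232 (iv6 D52269) (iv3 F82639)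
theorem F176420 : act 7 n113232 = n52399 := d14_2 D52266 D113232 (iv6 D52399) (iv7 D25433) (iv6 F40153)
def n113233 : Q := act 6 n52267
theorem D113233 : act 6 n52267 = n113233 := rfl
theorem F176421 : act 4 n113233 = n52268 := d10_1 D113233 (iv6 D52268) D52267
def n113234 : Q := act 0 n52268
theorem D113234 : act 0 n52268 = n113234 := rfl
def n113235 : Q := act 1 n52268
theorem D113235 : act 1 n52268 = n113235 := rfl
def n113236 : Q := act 7 n52268
theorem D113236 : act 7 n52268 = n113236 := rfl
theorem F176422 : act 5 n113236 = n52406 := d13_1 D113236 (iv7 D52406) (iv5 F82642)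
def n113237 : Q := act 5 n52269
theorem D113237 : act 5 n52269 = n113237 := rfl
theorem F176423 : act 7 n113237 = n52409 := d13_2 (iv7 F82644) D113237 (iv5 D52409)
def n113238 : Q := act 0 n52270
theorem D113238 : act 0 n52270 = n113238 := rfl
theorem F176424 : act 3 n113238 = n59079 := d20_5 (iv4 D12080) (iv1 F19979) D25390 D52270 D113238 (iv4 D59079) (iv1 F170981) (iv4 F50048) (iv3 D31746) F24603
theorem F176425 : act 1 n107170 = n113238 := d15_0 (iv0 D113238) F82646 D107170
theorem F176426 : act 7 n107168 = n113238 := d8_0 F176424 (iv7 F171003) (iv3 F171004)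
def n113239 : Q := act 1 n52270
theorem D113239 : act 1 n52270 = n113239 := rfl
def n113240 : Q := act 2 n52270
theorem D113240 : act 2 n52270 = n113240 := rfl
theorem F176427 : act 4 n113240 = n112741 := d1_2 (iv4 F82645) D113240 (iv2 D112741)
theorem F176428 : act 7 n113240 = n107170 := d4_2 (iv7 F82646) D113240 (iv2 D107170)
theorem F176429 : act 1 n113240 = n107168 := d15_0 (iv0 D107168) (iv7 F82646) D113240
theorem F176430 : act 1 n113239 = n107170 := d15_1 D113239 (iv7 F176428) (iv2 D113240)
theorem F176431 : act 2 n107168 = n113239 := d15_3 F176430 F176425 (iv7 F176426)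
theorem F176432 : act 7 n107169 = n113239 := d15_2 (iv0 D107168) D107169 (iv2 F176431)
theorem F176433 : act 2 n113238 = n107169 := d4_3 F176432 (iv2 F176431) F176426
theorem F176434 : act 1 n107169 = n113240 := d15_0 F176429 F176426 F176433
def n113241 : Q := act 6 n52270
theorem D113241 : act 6 n52270 = n113241 := rfl
theorem F176435 : act 3 n113241 = n52271 := d7_1 D113241 (iv6 D52271) D52270
theorem F176436 : act 4 n113241 = n112743 := d10_1 D113241 (iv6 D112743) (iv4 F82645)
def n113242 : Q := act 5 n52271
theorem D113242 : act 5 n52271 = n113242 := rfl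
def n113243 : Q := act 0 n52272
theorem D113243 : act 0 n52272 = n113243 := rfl
theorem F176437 : act 1 n107530 = n113243 := d15_0 (iv0 D113243) F82648 D107530
def n113244 : Q := act 1 n52272
theorem D113244 : act 1 n52272 = n113244 := rfl
def n113245 : Q := act 2 n52272
theorem D113245 : act 2 n52272 = n113245 := rfl
theorem F176438 : act 3 n113245 = n110498 := d0_2 D52272 D113245 (iv2 D110498) (iv3 D50952) F40165
theorem F176439 : act 7 n113245 = n107530 := d4_2 (iv7 F82648) D113245 (iv2 D107530)
theorem F176440 : act 1 n113245 = n107528 := d15_0 (iv0 D107528) (iv7 F82648) D113245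
theorem F176441 : act 1 n113244 = n107530 := d15_1 D113244 (iv7 F176439) (iv2 D113245)
theorem F176442 : act 1 n107529 = n113245 := d15_1 D107529 F176439 (iv2 D107530)
def n113246 : Q := act 5 n52272
theorem D113246 : act 5 n52272 = n113246 := rfl
theorem F176443 : act 3 n113246 = n52273 := d6_1 D113246 (iv5 D52273) D52272
theorem F176444 : act 7 n113246 = n107531 := d13_2 (iv7 F82648) D113246 (iv5 D107531)
def n113247 : Q := act 6 n52272
theorem D113247 : act 6 n52272 = n113247 := rfl
theorem F176445 : act 3 n113247 = n52274 := d7_1 D113247 (iv6 D52274) D52272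
def n113248 : Q := act 6 n52273
theorem D113248 : act 6 n52273 = n113248 := rfl
theorem F176446 : act 2 n113248 = n107541 := d3_1 D113248 (iv6 D107541) (iv2 F82649)
theorem F176447 : act 4 n113248 = n52505 := d10_1 D113248 (iv6 D52505) (iv4 F82650)
def n113249 : Q := act 5 n52274
theorem D113249 : act 5 n52274 = n113249 := rfl
theorem F176448 : act 2 n113249 = n110501 := d2_1 D113249 (iv5 D110501) (iv2 F82654)
def n113250 : Q := act 2 n52275
theorem D113250 : act 2 n52275 = n113250 := rfl
theorem F176449 : act 7 n52276 = n113250 := d15_2 (iv0 D52275) D52276 (iv2 D113250)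
def n113251 : Q := act 3 n52275
theorem D113251 : act 3 n52275 = n113251 := rfl
def n113252 : Q := act 4 n52275
theorem D113252 : act 4 n52275 = n113252 := rfl
def n113253 : Q := act 5 n52275
theorem D113253 : act 5 n52275 = n113253 := rfl
def n113254 : Q := act 6 n52275
theorem D113254 : act 6 n52275 = n113254 := rfl
def n113255 : Q := act 7 n52275
theorem D113255 : act 7 n52275 = n113255 := rfl
theorem F176450 : act 2 n113255 = n52276 := d4_1 D113255 F176449 (iv2 D113250)
def n113256 : Q := act 3 n52276
theorem D113256 : act 3 n52276 = n113256 := rfl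
def n113257 : Q := act 4 n52276
theorem D113257 : act 4 n52276 = n113257 := rfl
def n113258 : Q := act 5 n52276
theorem D113258 : act 5 n52276 = n113258 := rfl
def n113259 : Q := act 6 n52276
theorem D113259 : act 6 n52276 = n113259 := rfl
def n113260 : Q := act 5 n52277
theorem D113260 : act 5 n52277 = n113260 := rfl
theorem F176451 : act 2 n113260 = n52278 := d2_1 D113260 (iv5 D52278) D52277
def n113261 : Q := act 6 n52277
theorem D113261 : act 6 n52277 = n113261 := rfl
theorem F176452 : act 2 n113261 = n52279 := d3_1 D113261 (iv6 D52279) D52277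
theorem F176453 : act 4 n113261 = n111401 := d10_1 D113261 (iv6 D111401) (iv4 F82656)
def n113262 : Q := act 0 n52278
theorem D113262 : act 0 n52278 = n113262 := rfl
def n113263 : Q := act 1 n52278
theorem D113263 : act 1 n52278 = n113263 := rfl
def n113264 : Q := act 4 n52278
theorem D113264 : act 4 n52278 = n113264 := rfl
theorem F176454 : act 3 n113264 = n52593 := d5_1 D113264 (iv4 D52593) (iv3 D25526) (iv4 F40167) (iv3 F82657)
theorem F176455 : act 7 n113264 = n64712 := d11_2 F93401 D113264 F100589
theorem F176456 : act 5 n64012 = n113264 := d19_1 D64012 (iv4 D113264) F82657 F40168 F37407 F22314 F10404 (iv1 F4330) (iv5 F7725) (iv4 D2366) (iv3 F3708) (iv1 F8295) (iv5 F8269) D11704 D24742 F38719 (iv5 F48556) (iv4 D30183) D30182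
theorem E17410 : n64714 = n64012 := (c13_1 D64714 F176456 F176455 (iv5 D64712))
theorem F176457 : act 2 n64012 = n30445 := (sb E17410 F100590)
theorem F176458 : act 7 n64012 = n30444 := (sb E17410 (iv7 D64714))
theorem F176459 : act 2 n64717 = n113264 := d2_3 (iv5 F176456) F176457 D64717
theorem F176460 : act 4 n113260 = n64717 := d1_0 F176459 (iv4 D113264) (iv2 F176451)
theorem E17411 : n64709 = n64013 := (c15_4 F99601 F99597 F176458 D64709)
theorem F176461 : act 2 n64013 = n30444 := (sb E17411 (iv2 D64709))
theorem F176462 : act 7 n64013 = n30445 := (sb E17411 (iv7 F100587))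
theorem F176463 : act 0 n64044 = n113264 := d20_4 (iv4 F98531) F98532 F93754 D64044 F176454 (iv4 D52593) (iv1 F114373) F82951 F48744 D30315
theorem F176464 : act 1 n64878 = n113264 := d15_0 (iv0 F176463) F99632 D64878
def n113265 : Q := act 6 n52278
theorem D113265 : act 6 n52278 = n113265 := rfl
theorem F176465 : act 3 n113265 = n52280 := d7_1 D113265 (iv6 D52280) (iv3 F82657)
def n113266 : Q := act 0 n52279
theorem D113266 : act 0 n52279 = n113266 := rfl
def n113267 : Q := act 1 n52279
theorem D113267 : act 1 n52279 = n113267 := rfl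
def n113268 : Q := act 5 n52279
theorem D113268 : act 5 n52279 = n113268 := rfl
theorem F176466 : act 3 n113268 = n52283 := d6_1 D113268 (iv5 D52283) (iv3 F82658)
def n113269 : Q := act 7 n52279
theorem D113269 : act 7 n52279 = n113269 := rfl
theorem F176467 : act 3 n113269 = n52284 := d8_1 D113269 (iv7 D52284) (iv3 F82658)
theorem F176468 : act 4 n113269 = n111409 := d11_1 D113269 (iv7 D111409) (iv4 F82659)
def n113270 : Q := act 0 n52280
theorem D113270 : act 0 n52280 = n113270 := rfl
def n113271 : Q := act 1 n52280
theorem D113271 : act 1 n52280 = n113271 := rfl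
def n113272 : Q := act 5 n52280
theorem D113272 : act 5 n52280 = n113272 := rfl
theorem F176469 : act 6 n113272 = n52283 := d12_2 D52280 D113272 (iv5 D52283) (iv6 D25395) D25394
def n113273 : Q := act 7 n52280
theorem D113273 : act 7 n52280 = n113273 := rfl
theorem F176470 : act 4 n113273 = n52597 := d11_1 D113273 (iv7 D52597) (iv4 F82660)
def n113274 : Q := act 3 n52282
theorem D113274 : act 3 n52282 = n113274 := rfl
def n113275 : Q := act 5 n52282
theorem D113275 : act 5 n52282 = n113275 := rfl
theorem F176472 : act 1 n113275 = n113214 := d17_6 (iv1 F168029) F45172 D28750 F76591 (iv4 F164339) D113275 (iv5 D113214) F168298 (iv4 D59274)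
def n113276 : Q := act 6 n52282
theorem D113276 : act 6 n52282 = n113276 := rfl
theorem F176473 : act 2 n113276 = n110576 := d3_1 D113276 (iv6 D110576) (iv2 F164338)
theorem F176474 : act 4 n113276 = n105298 := d10_1 D113276 (iv6 D105298) (iv4 F164339)
def n113277 : Q := act 0 n52283
theorem D113277 : act 0 n52283 = n113277 := rfl
theorem F176475 : act 5 n113277 = n58905 := d17_3 (iv1 D52282) D52283 D113277 (iv4 D58905) F77844 (iv0 D29342) (iv5 F36945) D48679 (iv4 F164339)
def n113278 : Q := act 1 n52283
theorem D113278 : act 1 n52283 = n113278 := rfl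
theorem F176476 : act 5 n113278 = n58909 := d17_7 (iv1 F161078) (iv5 F161079) (iv1 D49340) F37705 (iv4 F40170) D52283 D113278 F176396 F176394
def n113279 : Q := act 4 n52283
theorem D113279 : act 4 n52283 = n113279 := rfl
def n113280 : Q := act 7 n52283
theorem D113280 : act 7 n52283 = n113280 := rfl
theorem F176477 : act 5 n113280 = n52284 := d13_1 D113280 (iv7 D52284) D52283
def n113281 : Q := act 3 n52287
theorem D113281 : act 3 n52287 = n113281 := rfl
def n113282 : Q := act 5 n52287
theorem D113282 : act 5 n52287 = n113282 := rfl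
theorem F176478 : act 0 n113282 = n58901 := d17_2 (iv1 F165638) D113282 (iv5 D58901) F45270 D28004 (iv0 F82777) (iv5 D52437) (iv0 D25448) (iv4 F40235)
def n113283 : Q := act 4 n52288
theorem D113283 : act 4 n52288 = n113283 := rfl
theorem F176479 : act 2 n113283 = n60540 := d1_1 D113283 (iv4 F173156) (iv2 F165641)
theorem F176481 : act 0 n113283 = n58910 := d18_2 (iv1 F98287) D113283 (iv4 D58910) (iv5 D28004) (iv4 F45270) D58900 F174555 F168186 F161085
theorem F176482 : act 1 n113283 = n60542 := d18_6 (iv1 F164084) (iv4 F40235) (iv1 F165638) (iv4 D52287) D52288 D113283 F95158 F164066 F47099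
def n113284 : Q := act 6 n52288
theorem D113284 : act 6 n52288 = n113284 := rfl
theorem F176483 : act 3 n113284 = n62522 := d7_1 D113284 (iv6 D62522) (iv3 F165642)
theorem F176484 : act 5 n113284 = n106467 := d12_1 D113284 (iv6 D106467) (iv5 F79540) (iv6 F79541) D52288
theorem F176485 : act 7 n113284 = n106467 := d14_2 (iv7 F165643) D113284 (iv6 D106467) F165626 (iv6 F98279)
theorem F176486 : act 0 n113284 = n106855 := d21_10 (iv5 D106855) (iv1 D49372) F37736 (iv6 D24095) (iv1 F18474) D24080 F37705 D25396 D52288 D113284
theorem F176487 : act 0 n106854 = n113284 := d21_4 (iv5 F163703) F165490 (iv5 F164878) F164879 (iv6 D113284) (iv5 D52288) (iv1 F76509) (iv5 F78048) F78049 (iv1 F78039)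
def n113285 : Q := act 3 n52291
theorem D113285 : act 3 n52291 = n113285 := rfl
def n113286 : Q := act 5 n52291
theorem D113286 : act 5 n52291 = n113286 := rfl
theorem F176488 : act 1 n113286 = n58901 := d17_6 F168185 (iv5 F46373) F82665 (iv5 D52292) D52291 D113286 (iv5 D58901) D58900 F174555
def n113287 : Q := act 6 n52291
theorem D113287 : act 6 n52291 = n113287 := rfl
theorem F176489 : act 4 n113287 = n52293 := d10_1 D113287 (iv6 D52293) D52291
def n113288 : Q := act 4 n52292
theorem D113288 : act 4 n52292 = n113288 := rfl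
theorem F176491 : act 6 n113288 = n106463 := d10_2 F82666 D113288 (iv4 D106463)
theorem F176492 : act 7 n113288 = n60540 := d11_2 (iv7 F165664) D113288 (iv4 F173156)
theorem F176493 : act 1 n113288 = n58910 := d18_6 (iv1 F76598) (iv4 F161412) (iv1 F165649) (iv4 D52291) D52292 D113288 (iv4 D58910) (iv0 F82777) (iv5 D52437)
theorem F176494 : act 0 n113288 = n60542 := d20_1 D113288 F95158 (iv3 F95131) (iv1 F168451) (iv3 D62051) D62052 F172749 F99700 F48590 F82665
def n113289 : Q := act 1 n52295
theorem D113289 : act 1 n52295 = n113289 := rfl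
theorem F176495 : act 7 n113289 = n69177 := d15_2 (iv0 F175273) D113289 (iv2 F175271)
theorem F176496 : act 2 n110694 = n113289 := d4_3 F176495 (iv2 F175271) F175272
theorem F176497 : act 3 n69085 = n113289 := d8_3 F176495 F105459 (iv7 F105335)
theorem F176498 : act 5 n69084 = n113289 := d13_3 F176495 (iv5 D69177) (iv7 F105333)
theorem F176499 : act 1 n105179 = n69177 := d15_1 (iv0 F171358) (iv7 F176495) (iv2 F176496)
def n113290 : Q := act 2 n52295
theorem D113290 : act 2 n52295 = n113290 := rfl
theorem F176500 : act 3 n113290 = n111442 := d0_2 D52295 D113290 (iv2 D111442) (iv3 D51401) (iv2 F40177)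
theorem F176501 : act 4 n113290 = n52301 := d1_2 (iv4 F82670) D113290 (iv2 D52301)
theorem F176502 : act 1 n113290 = n110694 := d15_0 (iv0 F171358) F161097 D113290
theorem F176503 : act 1 n69177 = n113290 := d15_0 F176502 (iv7 F175272) F175271
def n113291 : Q := act 5 n52295
theorem D113291 : act 5 n52295 = n113291 := rfl
theorem F176504 : act 3 n113291 = n52296 := d6_1 D113291 (iv5 D52296) D52295
def n113292 : Q := act 6 n52295
theorem D113292 : act 6 n52295 = n113292 := rfl
theorem F176505 : act 3 n113292 = n52297 := d7_1 D113292 (iv6 D52297) D52295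
theorem F176506 : act 4 n113292 = n52303 := d10_1 D113292 (iv6 D52303) (iv4 F82670)
def n113293 : Q := act 6 n52296
theorem D113293 : act 6 n52296 = n113293 := rfl
theorem F176507 : act 2 n113293 = n111445 := d3_1 D113293 (iv6 D111445) (iv2 F82671)
def n113294 : Q := act 5 n52297
theorem D113294 : act 5 n52297 = n113294 := rfl
theorem F176508 : act 2 n113294 = n111446 := d2_1 D113294 (iv5 D111446) (iv2 F82674)
def n113295 : Q := act 2 n52299
theorem D113295 : act 2 n52299 = n113295 := rfl
theorem F176509 : act 7 n52300 = n113295 := d15_2 (iv0 D52299) D52300 (iv2 D113295)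
def n113296 : Q := act 3 n52299
theorem D113296 : act 3 n52299 = n113296 := rfl
def n113297 : Q := act 4 n52299
theorem D113297 : act 4 n52299 = n113297 := rfl
def n113298 : Q := act 5 n52299
theorem D113298 : act 5 n52299 = n113298 := rfl
def n113299 : Q := act 6 n52299
theorem D113299 : act 6 n52299 = n113299 := rfl
def n113300 : Q := act 7 n52299
theorem D113300 : act 7 n52299 = n113300 := rfl
theorem F176510 : act 2 n113300 = n52300 := d4_1 D113300 F176509 (iv2 D113295)
def n113301 : Q := act 3 n52300
theorem D113301 : act 3 n52300 = n113301 := rfl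
def n113302 : Q := act 4 n52300
theorem D113302 : act 4 n52300 = n113302 := rfl
theorem F176511 : act 3 n112540 = n113302 := d20_5 (iv4 D24806) (iv1 F19734) D25195 D51924 D112540 (iv4 D113302) (iv1 D52300) (iv4 F82670) (iv3 D52295) F40178
def n113303 : Q := act 5 n52300
theorem D113303 : act 5 n52300 = n113303 := rfl
def n113304 : Q := act 6 n52300
theorem D113304 : act 6 n52300 = n113304 := rfl
def n113305 : Q := act 5 n52301
theorem D113305 : act 5 n52301 = n113305 := rfl
theorem F176512 : act 2 n113305 = n52302 := d2_1 D113305 (iv5 D52302) D52301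
def n113306 : Q := act 6 n52301
theorem D113306 : act 6 n52301 = n113306 := rfl
theorem F176513 : act 2 n113306 = n52303 := d3_1 D113306 (iv6 D52303) D52301
def n113307 : Q := act 0 n52302
theorem D113307 : act 0 n52302 = n113307 := rfl
def n113308 : Q := act 1 n52302
theorem D113308 : act 1 n52302 = n113308 := rfl
def n113309 : Q := act 4 n52302
theorem D113309 : act 4 n52302 = n113309 := rfl
theorem F176514 : act 3 n113309 = n52584 := d5_1 D113309 (iv4 D52584) (iv3 D25524) (iv4 F40182) (iv3 F82680)
def n113310 : Q := act 6 n52302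
theorem D113310 : act 6 n52302 = n113310 := rfl
theorem F176515 : act 3 n113310 = n52304 := d7_1 D113310 (iv6 D52304) (iv3 F82680)
def n113311 : Q := act 0 n52303
theorem D113311 : act 0 n52303 = n113311 := rfl
def n113312 : Q := act 1 n52303
theorem D113312 : act 1 n52303 = n113312 := rfl
def n113313 : Q := act 5 n52303
theorem D113313 : act 5 n52303 = n113313 := rfl
theorem F176516 : act 3 n113313 = n52306 := d6_1 D113313 (iv5 D52306) (iv3 F82681)
def n113314 : Q := act 7 n52303
theorem D113314 : act 7 n52303 = n113314 := rfl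
theorem F176517 : act 3 n113314 = n52307 := d8_1 D113314 (iv7 D52307) (iv3 F82681)
def n113315 : Q := act 0 n52304
theorem D113315 : act 0 n52304 = n113315 := rfl
def n113316 : Q := act 1 n52304
theorem D113316 : act 1 n52304 = n113316 := rfl
def n113317 : Q := act 5 n52304
theorem D113317 : act 5 n52304 = n113317 := rfl
theorem F176518 : act 6 n113317 = n52306 := d12_2 D52304 D113317 (iv5 D52306) (iv6 D25404) D25403
def n113318 : Q := act 7 n52304
theorem D113318 : act 7 n52304 = n113318 := rfl
theorem F176519 : act 4 n113318 = n52589 := d11_1 D113318 (iv7 D52589) (iv4 F82682)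
def n113319 : Q := act 3 n52305
theorem D113319 : act 3 n52305 = n113319 := rfl
def n113320 : Q := act 5 n52305
theorem D113320 : act 5 n52305 = n113320 := rfl
theorem F176520 : act 2 n113320 = n110729 := d2_1 D113320 (iv5 D110729) F82683
def n113321 : Q := act 6 n52305
theorem D113321 : act 6 n52305 = n113321 := rfl
theorem F176521 : act 2 n113321 = n110470 := d3_1 D113321 F170876 F82683
theorem F176522 : act 4 n113321 = n58808 := d10_1 D113321 F92977 (iv4 F82684)
theorem F176523 : act 7 n113321 = n58805 := d14_2 F82855 D113321 (iv6 D58805) (iv7 F79531) (iv6 F82854)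
theorem F176524 : act 1 n110468 = n113321 := d15_1 D110468 F176523 F92971
theorem F176525 : act 0 n110467 = n113321 := d18_2 D64449 (iv4 F174040) F176522 F92976 (iv4 F165838) F165841 F165827 (iv0 D30346) D30347
def n113322 : Q := act 0 n52306
theorem D113322 : act 0 n52306 = n113322 := rfl
def n113323 : Q := act 1 n52306
theorem D113323 : act 1 n52306 = n113323 := rfl
def n113324 : Q := act 4 n52306
theorem D113324 : act 4 n52306 = n113324 := rfl
def n113325 : Q := act 7 n52306
theorem D113325 : act 7 n52306 = n113325 := rfl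
theorem F176526 : act 5 n113325 = n52307 := d13_1 D113325 (iv7 D52307) D52306
def n113326 : Q := act 3 n52308
theorem D113326 : act 3 n52308 = n113326 := rfl
theorem F176527 : act 4 n113326 = n112770 := d5_2 D52308 D113326 (iv3 D112770) F161138 F81587
def n113327 : Q := act 5 n52308
theorem D113327 : act 5 n52308 = n113327 := rfl
def n113328 : Q := act 6 n52308
theorem D113328 : act 6 n52308 = n113328 := rfl
theorem F176528 : act 4 n113328 = n52310 := d10_1 D113328 (iv6 D52310) D52308
def n113329 : Q := act 4 n52309
theorem D113329 : act 4 n52309 = n113329 := rfl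
theorem F176529 : act 2 n113329 = n106981 := d1_1 D113329 F164893 (iv2 F82687)
theorem F176530 : act 6 n113329 = n106995 := d10_2 F82689 D113329 F164910
theorem F176531 : act 7 n113329 = n58750 := d11_2 (iv7 F82688) D113329 F92841
theorem F176532 : act 1 n113329 = n106978 := d18_6 (iv1 D25470) (iv4 F40266) (iv1 F94228) (iv4 D52308) D52309 D113329 F166502 (iv0 D51155) F40268
theorem F176533 : act 0 n113329 = n106979 := d20_7 (iv4 F80880) (iv1 F172396) (iv4 D111148) F163555 F168823 F168820 D113329 F164891 F171629 (iv1 D110820)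
def n113330 : Q := act 3 n52311
theorem D113330 : act 3 n52311 = n113330 := rfl
theorem F176534 : act 4 n113330 = n111814 := d5_2 D52311 D113330 F173593 F81373 (iv3 F40188)
theorem F176535 : act 6 n113330 = n111809 := d7_2 (iv6 F82692) D113330 (iv3 D111809)
def n113331 : Q := act 5 n52311
theorem D113331 : act 5 n52311 = n113331 := rfl
def n113332 : Q := act 2 n52312
theorem D113332 : act 2 n52312 = n113332 := rfl
theorem F176536 : act 7 n52313 = n113332 := d15_2 (iv0 D52312) D52313 (iv2 D113332)
def n113333 : Q := act 3 n52312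
theorem D113333 : act 3 n52312 = n113333 := rfl
def n113334 : Q := act 4 n52312
theorem D113334 : act 4 n52312 = n113334 := rfl
theorem F176537 : act 0 n113334 = n111697 := d20_1 D113334 F173423 (iv3 D52388) (iv1 D25430) (iv3 D12089) (iv4 D5725) D5723 D12082 D25408 D52312
theorem F176538 : act 0 n110278 = n113334 := d20_10 (iv4 D113334) (iv1 F93375) (iv4 F172719) F172718 (iv1 F172690) (iv3 F172685) F169979 (iv1 D59282) F80207 D110278
def n113335 : Q := act 5 n52312
theorem D113335 : act 5 n52312 = n113335 := rfl
def n113336 : Q := act 6 n52312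
theorem D113336 : act 6 n52312 = n113336 := rfl
def n113337 : Q := act 7 n52312
theorem D113337 : act 7 n52312 = n113337 := rfl
theorem F176539 : act 2 n113337 = n52313 := d4_1 D113337 F176536 (iv2 D113332)
def n113338 : Q := act 3 n52313
theorem D113338 : act 3 n52313 = n113338 := rfl
def n113339 : Q := act 4 n52313
theorem D113339 : act 4 n52313 = n113339 := rfl
theorem F176540 : act 3 n113339 = n111326 := d20_3 F172719 (iv1 F93377) D113339 (iv1 F172769) (iv3 F172752) F172753 (iv1 F173217) (iv4 F173218) (iv3 D111502) (iv1 F172721)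
def n113340 : Q := act 5 n52313
theorem D113340 : act 5 n52313 = n113340 := rfl
def n113341 : Q := act 6 n52313
theorem D113341 : act 6 n52313 = n113341 := rfl
def n113342 : Q := act 5 n52314
theorem D113342 : act 5 n52314 = n113342 := rfl
theorem F176541 : act 2 n113342 = n52315 := d2_1 D113342 (iv5 D52315) D52314
def n113343 : Q := act 6 n52314
theorem D113343 : act 6 n52314 = n113343 := rfl
theorem F176542 : act 2 n113343 = n52316 := d3_1 D113343 (iv6 D52316) D52314
theorem F176543 : act 4 n113343 = n111512 := d10_1 D113343 (iv6 D111512) (iv4 F82693)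
def n113344 : Q := act 0 n52315
theorem D113344 : act 0 n52315 = n113344 := rfl
def n113345 : Q := act 1 n52315
theorem D113345 : act 1 n52315 = n113345 := rfl
def n113346 : Q := act 6 n52315
theorem D113346 : act 6 n52315 = n113346 := rfl
theorem F176544 : act 3 n113346 = n52317 := d7_1 D113346 (iv6 D52317) (iv3 F82694)
theorem F176545 : act 4 n113346 = n92809 := d10_1 D113346 F143161 (iv4 F106586)
def n113347 : Q := act 0 n52316
theorem D113347 : act 0 n52316 = n113347 := rfl
def n113348 : Q := act 1 n52316
theorem D113348 : act 1 n52316 = n113348 := rfl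
def n113349 : Q := act 5 n52316
theorem D113349 : act 5 n52316 = n113349 := rfl
theorem F176546 : act 3 n113349 = n52320 := d6_1 D113349 (iv5 D52320) (iv3 F82695)
def n113350 : Q := act 7 n52316
theorem D113350 : act 7 n52316 = n113350 := rfl
theorem F176547 : act 3 n113350 = n52321 := d8_1 D113350 (iv7 D52321) (iv3 F82695)
theorem F176548 : act 4 n113350 = n111520 := d11_1 D113350 (iv7 D111520) (iv4 F82696)
def n113351 : Q := act 0 n52317
theorem D113351 : act 0 n52317 = n113351 := rfl
def n113352 : Q := act 1 n52317
theorem D113352 : act 1 n52317 = n113352 := rfl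
theorem F176549 : act 4 n113352 = n59841 := d18_7 D88464 F135436 (iv1 D44525) F33423 (iv5 F40335) (iv4 F82697) D113352 F94262 F82937
def n113353 : Q := act 5 n52317
theorem D113353 : act 5 n52317 = n113353 := rfl
theorem F176550 : act 6 n113353 = n52320 := d12_2 D52317 D113353 (iv5 D52320) (iv6 D25410) D25409
def n113354 : Q := act 7 n52317
theorem D113354 : act 7 n52317 = n113354 := rfl
theorem F176551 : act 4 n113354 = n52540 := d11_1 D113354 (iv7 D52540) (iv4 F82697)
def n113355 : Q := act 5 n52318
theorem D113355 : act 5 n52318 = n113355 := rfl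
def n113356 : Q := act 3 n52319
theorem D113356 : act 3 n52319 = n113356 := rfl
def n113357 : Q := act 5 n52319
theorem D113357 : act 5 n52319 = n113357 := rfl
def n113358 : Q := act 6 n52319
theorem D113358 : act 6 n52319 = n113358 := rfl
theorem F176552 : act 4 n113358 = n67500 := d10_1 D113358 F103359 (iv4 F165833)
def n113359 : Q := act 1 n52320
theorem D113359 : act 1 n52320 = n113359 := rfl
theorem F176553 : act 5 n113359 = n113321 := d17_7 (iv1 F100379) F82706 (iv1 D52331) (iv5 D25413) (iv4 F40191) D52320 D113359 (iv0 F176525) F174040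
def n113360 : Q := act 4 n52320
theorem D113360 : act 4 n52320 = n113360 := rfl
def n113361 : Q := act 7 n52320
theorem D113361 : act 7 n52320 = n113361 := rfl
theorem F176554 : act 5 n113361 = n52321 := d13_1 D113361 (iv7 D52321) D52320
def n113362 : Q := act 3 n52324
theorem D113362 : act 3 n52324 = n113362 := rfl
def n113363 : Q := act 5 n52324
theorem D113363 : act 5 n52324 = n113363 := rfl
def n113364 : Q := act 4 n52325
theorem D113364 : act 4 n52325 = n113364 := rfl
def n113365 : Q := act 6 n52325
theorem D113365 : act 6 n52325 = n113365 := rfl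
theorem F176555 : act 3 n113365 = n63745 := d7_1 D113365 F100574 (iv3 F168198)
theorem F176556 : act 5 n113365 = n63050 := d12_1 D113365 F98366 (iv5 F168187) F168188 D52325
theorem F176557 : act 7 n113365 = n113129 := d14_2 (iv7 F168201) D113365 (iv6 D113129) F168375 D64947
theorem F176558 : act 0 n113365 = n107108 := d21_4 (iv5 D25413) D25411 D52325 D113365 (iv6 D107108) (iv5 F111166) F111167 (iv5 F100078) F100079 (iv1 D52331)
theorem F176559 : act 6 n62604 = n106969 := d21_3 (iv5 F176556) F176558 F165081 (iv1 D106969) F78152 (iv5 D24122) D24121 F37796 D29826 D63050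
def n113366 : Q := act 3 n52328
theorem D113366 : act 3 n52328 = n113366 := rfl
def n113367 : Q := act 5 n52328
theorem D113367 : act 5 n52328 = n113367 := rfl
def n113368 : Q := act 6 n52328
theorem D113368 : act 6 n52328 = n113368 := rfl
theorem F176560 : act 4 n113368 = n52330 := d10_1 D113368 (iv6 D52330) D52328
def n113369 : Q := act 4 n52329
theorem D113369 : act 4 n52329 = n113369 := rfl
theorem F176561 : act 6 n113369 = n67458 := d10_2 F82701 D113369 (iv4 F168205)
def n113370 : Q := act 4 n52331
theorem D113370 : act 4 n52331 = n113370 := rfl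
theorem F176562 : act 2 n113370 = n64446 := d1_1 D113370 F100369 F82707
theorem F176563 : act 7 n113370 = n64435 := d11_2 (iv7 F82705) D113370 F100359
theorem F176564 : act 0 n113370 = n59147 := d18_2 (iv1 F82704) D113370 (iv4 D59147) (iv5 D28095) (iv4 F40204) (iv0 F168360) (iv4 D52328) F76532 (iv5 F82702)
theorem F176565 : act 0 n64444 = n113370 := d20_1 (iv4 F100366) (iv4 D113370) (iv3 F99473) (iv1 F99475) (iv3 F53447) D49508 (iv1 F78262) F37963 (iv3 F37952) D49655
def n113371 : Q := act 3 n52332
theorem D113371 : act 3 n52332 = n113371 := rfl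
theorem F176566 : act 4 n113371 = n111545 := d5_2 D52332 D113371 (iv3 D111545) (iv4 D51448) (iv3 F40192)
theorem F176567 : act 6 n113371 = n62582 := d7_2 (iv6 F82708) D113371 (iv3 D62582)
def n113372 : Q := act 5 n52332
theorem D113372 : act 5 n52332 = n113372 := rfl
def n113373 : Q := act 1 n52334
theorem D113373 : act 1 n52334 = n113373 := rfl
def n113374 : Q := act 2 n52334
theorem D113374 : act 2 n52334 = n113374 := rfl
theorem F176569 : act 4 n113374 = n52342 := d1_2 (iv4 F82715) D113374 (iv2 D52342)
theorem F176570 : act 1 n113374 = n110071 := d15_0 (iv0 F170210) F93358 D113374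
def n113375 : Q := act 6 n52334
theorem D113375 : act 6 n52334 = n113375 := rfl
theorem F176571 : act 3 n113375 = n52336 := d7_1 D113375 (iv6 D52336) D52334
def n113376 : Q := act 6 n52335
theorem D113376 : act 6 n52335 = n113376 := rfl
theorem F176573 : act 2 n113376 = n111552 := d3_1 D113376 (iv6 D111552) (iv2 F82716)
def n113377 : Q := act 5 n52336
theorem D113377 : act 5 n52336 = n113377 := rfl
theorem F176574 : act 2 n113377 = n111555 := d2_1 D113377 (iv5 D111555) (iv2 F82719)
def n113378 : Q := act 7 n52336
theorem D113378 : act 7 n52336 = n113378 := rfl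
theorem F176575 : act 2 n113378 = n111556 := d4_1 D113378 (iv7 D111556) (iv2 F82719)
theorem F176576 : act 4 n113378 = n52339 := d11_1 D113378 (iv7 D52339) (iv4 F82720)
theorem F176577 : act 1 n111554 = n113378 := d15_1 D111554 (iv7 D113378) F82719
theorem F176578 : act 1 n113378 = n111553 := d15_1 F176577 F173086 F173081
def n113379 : Q := act 4 n52338
theorem D113379 : act 4 n52338 = n113379 := rfl
theorem F176580 : act 6 n113379 = n59220 := d10_2 F168394 D113379 F168411
theorem F176582 : act 0 n113379 = n59248 := d20_1 D113379 F93468 F45492 D59012 F173228 F173226 (iv1 F172737) F81237 (iv3 F81233) (iv1 F82721)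
theorem F176583 : act 0 n59257 = n113379 := d20_1 (iv4 F93481) (iv4 D113379) F168386 (iv1 D105172) F76480 (iv4 F79491) D108644 (iv4 F168553) F168554 (iv1 F93473)
def n113380 : Q := act 2 n52340
theorem D113380 : act 2 n52340 = n113380 := rfl
theorem F176584 : act 7 n52341 = n113380 := d15_2 (iv0 D52340) D52341 (iv2 D113380)
def n113381 : Q := act 3 n52340
theorem D113381 : act 3 n52340 = n113381 := rfl
theorem F176585 : act 4 n113381 = n108651 := d20_6 F36925 (iv1 F18013) D12085 D25417 D52340 D113381 (iv1 D108651) F79502 (iv3 D25423) (iv1 F36928)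
def n113382 : Q := act 4 n52340
theorem D113382 : act 4 n52340 = n113382 := rfl
def n113383 : Q := act 5 n52340
theorem D113383 : act 5 n52340 = n113383 := rfl
def n113384 : Q := act 6 n52340
theorem D113384 : act 6 n52340 = n113384 := rfl
def n113385 : Q := act 7 n52340
theorem D113385 : act 7 n52340 = n113385 := rfl
theorem F176586 : act 2 n113385 = n52341 := d4_1 D113385 F176584 (iv2 D113380)
def n113386 : Q := act 3 n52341
theorem D113386 : act 3 n52341 = n113386 := rfl
def n113387 : Q := act 4 n52341
theorem D113387 : act 4 n52341 = n113387 := rfl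
def n113388 : Q := act 5 n52341
theorem D113388 : act 5 n52341 = n113388 := rfl
def n113389 : Q := act 6 n52341
theorem D113389 : act 6 n52341 = n113389 := rfl
def n113390 : Q := act 5 n52342
theorem D113390 : act 5 n52342 = n113390 := rfl
theorem F176587 : act 2 n113390 = n52343 := d2_1 D113390 (iv5 D52343) D52342
def n113391 : Q := act 6 n52342
theorem D113391 : act 6 n52342 = n113391 := rfl
theorem F176588 : act 2 n113391 = n52344 := d3_1 D113391 (iv6 D52344) D52342
def n113392 : Q := act 0 n52343
theorem D113392 : act 0 n52343 = n113392 := rfl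
def n113393 : Q := act 1 n52343
theorem D113393 : act 1 n52343 = n113393 := rfl
theorem F176589 : act 5 n113393 = n105186 := d17_7 (iv1 F176503) (iv5 D69177) D69173 F105457 F82715 D52343 D113393 F161112 (iv4 F176501)
def n113394 : Q := act 6 n52343
theorem D113394 : act 6 n52343 = n113394 := rfl
theorem F176590 : act 3 n113394 = n52345 := d7_1 D113394 (iv6 D52345) (iv3 F82727)
def n113395 : Q := act 0 n52344
theorem D113395 : act 0 n52344 = n113395 := rfl
def n113396 : Q := act 1 n52344
theorem D113396 : act 1 n52344 = n113396 := rfl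
def n113397 : Q := act 5 n52344
theorem D113397 : act 5 n52344 = n113397 := rfl
theorem F176591 : act 3 n113397 = n52348 := d6_1 D113397 (iv5 D52348) (iv3 F82728)
def n113398 : Q := act 7 n52344
theorem D113398 : act 7 n52344 = n113398 := rfl
theorem F176592 : act 3 n113398 = n52349 := d8_1 D113398 (iv7 D52349) (iv3 F82728)
def n113399 : Q := act 0 n52345
theorem D113399 : act 0 n52345 = n113399 := rfl
def n113400 : Q := act 1 n52345
theorem D113400 : act 1 n52345 = n113400 := rfl
def n113401 : Q := act 5 n52345
theorem D113401 : act 5 n52345 = n113401 := rfl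
theorem F176593 : act 6 n113401 = n52348 := d12_2 D52345 D113401 (iv5 D52348) (iv6 D25419) D25418
def n113402 : Q := act 7 n52345
theorem D113402 : act 7 n52345 = n113402 := rfl
theorem F176594 : act 4 n113402 = n52527 := d11_1 D113402 (iv7 D52527) (iv4 F82729)
def n113403 : Q := act 3 n52346
theorem D113403 : act 3 n52346 = n113403 := rfl
def n113404 : Q := act 5 n52346
theorem D113404 : act 5 n52346 = n113404 := rfl
def n113405 : Q := act 6 n52346
theorem D113405 : act 6 n52346 = n113405 := rfl
theorem F176595 : act 4 n113405 = n68138 := d10_1 D113405 F104296 (iv4 F164032)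
def n113406 : Q := act 5 n52347
theorem D113406 : act 5 n52347 = n113406 := rfl
def n113407 : Q := act 0 n52348
theorem D113407 : act 0 n52348 = n113407 := rfl
theorem F176596 : act 5 n113407 = n108700 := d17_3 (iv1 D52347) D52348 D113407 (iv4 F168639) F164055 (iv0 D29314) (iv5 F37372) F100253 (iv4 F164026)
theorem F176597 : act 2 n112663 = n113407 := d15_3 (iv0 D113407) (iv0 F171121) (iv7 F175330)
def n113408 : Q := act 4 n52348
theorem D113408 : act 4 n52348 = n113408 := rfl
def n113409 : Q := act 7 n52348
theorem D113409 : act 7 n52348 = n113409 := rfl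
theorem F176598 : act 5 n113409 = n52349 := d13_1 D113409 (iv7 D52349) D52348
theorem F176599 : act 0 n112663 = n113409 := d17_2 (iv1 F168642) D112663 F176598 F82730 (iv5 F77683) F77889 (iv5 F165579) F165578 (iv4 F168641)
def n113410 : Q := act 3 n52352
theorem D113410 : act 3 n52352 = n113410 := rfl
def n113411 : Q := act 5 n52352
theorem D113411 : act 5 n52352 = n113411 := rfl
def n113412 : Q := act 6 n52352
theorem D113412 : act 6 n52352 = n113412 := rfl
theorem F176600 : act 4 n113412 = n52354 := d10_1 D113412 (iv6 D52354) D52352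
def n113413 : Q := act 3 n52357
theorem D113413 : act 3 n52357 = n113413 := rfl
theorem F176601 : act 4 n113413 = n112270 := d5_2 D52357 D113413 (iv3 D112270) (iv4 D51787) F165559
def n113414 : Q := act 5 n52357
theorem D113414 : act 5 n52357 = n113414 := rfl
def n113415 : Q := act 2 n52360
theorem D113415 : act 2 n52360 = n113415 := rfl
theorem F176602 : act 7 n52361 = n113415 := d15_2 (iv0 D52360) D52361 (iv2 D113415)
def n113416 : Q := act 3 n52360
theorem D113416 : act 3 n52360 = n113416 := rfl
theorem F176603 : act 4 n113416 = n111308 := d20_6 (iv4 D6375) D6373 (iv4 F20002) D25423 D52360 D113416 (iv1 D111308) F81021 (iv3 D28106) (iv1 D13417)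
theorem F176604 : act 0 n59289 = n113416 := d20_10 F176603 (iv1 D111308) F81021 (iv3 D28106) (iv1 D13417) D13418 F22312 D13434 D28149 D59289
theorem F176605 : act 5 n113416 = n64879 := d19_1 F176604 (iv4 D64879) (iv3 D30492) (iv1 F45798) F45796 F23939 (iv3 F20295) (iv1 F20297) (iv5 F19651) (iv4 F19645) (iv3 D5668) F7723 (iv5 F8278) D11728 D24772 F170947 (iv5 D28150) D28149 D59289
theorem F176606 : act 1 n52388 = n113416 := d15_0 (iv0 F176604) (iv7 F173418) (iv2 F173420)
def n113417 : Q := act 4 n52360
theorem D113417 : act 4 n52360 = n113417 := rfl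
theorem F176607 : act 0 n113417 = n110159 := d20_1 D113417 F170312 (iv3 D59188) (iv1 D28110) (iv3 D13418) (iv4 D6375) D6373 (iv4 F20002) D25423 D52360
def n113418 : Q := act 5 n52360
theorem D113418 : act 5 n52360 = n113418 := rfl
theorem F176608 : act 3 n113418 = n64879 := d6_1 D113418 (iv5 F176605) (iv3 D113416)
theorem F176609 : act 4 n113418 = n59503 := d19_2 D52360 D113418 F93929 (iv1 F77625) (iv5 D49161) (iv4 D23987) F18282 D11247 F18292 (iv4 D6359) F4272 F2570 (iv5 D1452) (iv4 F2568) (iv3 F5049) D7112 (iv5 F11428) (iv4 F20002) D25423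
theorem F176610 : act 0 n52400 = n113418 := d20_4 (iv4 F37412) (iv1 F37414) (iv4 F40210) D52400 F176608 (iv4 D64879) (iv1 F161537) F100589 (iv3 D59198) (iv1 D28114)
def n113419 : Q := act 6 n52360
theorem D113419 : act 6 n52360 = n113419 := rfl
def n113420 : Q := act 7 n52360
theorem D113420 : act 7 n52360 = n113420 := rfl
theorem F176611 : act 2 n113420 = n52361 := d4_1 D113420 F176602 (iv2 D113415)
def n113421 : Q := act 3 n52361
theorem D113421 : act 3 n52361 = n113421 := rfl
def n113422 : Q := act 4 n52361
theorem D113422 : act 4 n52361 = n113422 := rfl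
theorem F176612 : act 3 n113422 = n108638 := d20_9 (iv4 F168912) (iv1 F168916) (iv4 F169043) (iv3 D109035) (iv1 F168590) F168588 (iv4 F161176) (iv1 F161180) D113422 (iv1 F168534)
theorem F176613 : act 0 n110159 = n113422 := d20_10 (iv4 D113422) (iv1 D52361) (iv4 F79502) (iv3 D50170) (iv1 F38420) (iv3 F38549) F38550 F170125 (iv4 F80180) (iv3 F170311)
theorem F176614 : act 1 n110156 = n113422 := d15_0 (iv0 F176613) (iv7 D110159) D110156
def n113423 : Q := act 5 n52361
theorem D113423 : act 5 n52361 = n113423 := rfl
def n113424 : Q := act 6 n52361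
theorem D113424 : act 6 n52361 = n113424 := rfl
def n113425 : Q := act 5 n52362
theorem D113425 : act 5 n52362 = n113425 := rfl
theorem F176615 : act 2 n113425 = n52363 := d2_1 D113425 (iv5 D52363) D52362
def n113426 : Q := act 6 n52362
theorem D113426 : act 6 n52362 = n113426 := rfl
theorem F176616 : act 2 n113426 = n52364 := d3_1 D113426 (iv6 D52364) D52362
def n113427 : Q := act 0 n52363
theorem D113427 : act 0 n52363 = n113427 := rfl
def n113428 : Q := act 1 n52363
theorem D113428 : act 1 n52363 = n113428 := rfl
def n113429 : Q := act 4 n52363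
theorem D113429 : act 4 n52363 = n113429 := rfl
theorem F176617 : act 3 n113429 = n52518 := d5_1 D113429 (iv4 D52518) F40311 (iv4 F40203) (iv3 F82736)
theorem F176618 : act 6 n92723 = n113429 := d7_0 F176617 F82935 D92723
def n113430 : Q := act 6 n52363
theorem D113430 : act 6 n52363 = n113430 := rfl
theorem F176619 : act 3 n113430 = n52365 := d7_1 D113430 (iv6 D52365) (iv3 F82736)
theorem F176620 : act 4 n113430 = n92723 := d10_1 D113430 F176618 (iv4 D113429)
def n113431 : Q := act 0 n52364
theorem D113431 : act 0 n52364 = n113431 := rfl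
def n113432 : Q := act 1 n52364
theorem D113432 : act 1 n52364 = n113432 := rfl
def n113433 : Q := act 5 n52364
theorem D113433 : act 5 n52364 = n113433 := rfl
theorem F176621 : act 3 n113433 = n52368 := d6_1 D113433 (iv5 D52368) (iv3 F82737)
def n113434 : Q := act 7 n52364
theorem D113434 : act 7 n52364 = n113434 := rfl
def n113435 : Q := act 0 n52365
theorem D113435 : act 0 n52365 = n113435 := rfl
def n113436 : Q := act 1 n52365
theorem D113436 : act 1 n52365 = n113436 := rfl
theorem F176623 : act 4 n113436 = n52539 := d18_7 (iv1 F143147) F143148 (iv1 D47804) F36070 (iv5 F40314) (iv4 F82738) D113436 F161503 F161500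
def n113437 : Q := act 5 n52365
theorem D113437 : act 5 n52365 = n113437 := rfl
theorem F176624 : act 6 n113437 = n52368 := d12_2 D52365 D113437 (iv5 D52368) (iv6 D25425) D25424
def n113438 : Q := act 7 n52365
theorem D113438 : act 7 n52365 = n113438 := rfl
theorem F176625 : act 4 n113438 = n52521 := d11_1 D113438 (iv7 D52521) (iv4 F82738)
def n113439 : Q := act 0 n52368
theorem D113439 : act 0 n52368 = n113439 := rfl
theorem F176626 : act 5 n113439 = n58811 := d17_3 F168360 D52368 D113439 F92984 (iv5 D30347) (iv0 F40194) (iv5 D25413) D25412 D52328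
def n113440 : Q := act 1 n52368
theorem D113440 : act 1 n52368 = n113440 := rfl
theorem F176627 : act 5 n113328 = n113440 := d21_6 F36926 (iv1 F40212) F40213 D25468 (iv1 F94228) D113328 (iv1 D113440) (iv5 D52368) (iv6 D25425) (iv1 F36928)
def n113441 : Q := act 4 n52368
theorem D113441 : act 4 n52368 = n113441 := rfl
def n113442 : Q := act 7 n52368
theorem D113442 : act 7 n52368 = n113442 := rfl
theorem F176628 : act 5 n113442 = n52369 := d13_1 D113442 (iv7 D52369) D52368
def n113443 : Q := act 3 n52370
theorem D113443 : act 3 n52370 = n113443 := rfl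
def n113444 : Q := act 4 n52370
theorem D113444 : act 4 n52370 = n113444 := rfl
theorem F176629 : act 2 n113444 = n109879 := d1_1 D113444 F169881 F174311
def n113445 : Q := act 5 n52370
theorem D113445 : act 5 n52370 = n113445 := rfl
def n113446 : Q := act 6 n52370
theorem D113446 : act 6 n52370 = n113446 := rfl
def n113447 : Q := act 3 n52371
theorem D113447 : act 3 n52371 = n113447 := rfl
theorem F176630 : act 4 n113447 = n110069 := d5_2 F174309 D113447 (iv3 F170362) F170364 D112108
theorem F176631 : act 7 n113447 = n59288 := d8_2 (iv7 F174310) D113447 F170482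
theorem F176632 : act 0 n59188 = n109075 := d20_10 (iv4 D109075) (iv1 F168571) F168569 (iv3 F161160) (iv1 F161164) D113447 F176630 (iv1 F170207) F170123 D59188
theorem F176633 : act 2 n59287 = n113447 := d4_3 F176631 (iv2 F174753) F174754
theorem F176634 : act 1 n59097 = n113447 := d15_1 F174755 F176631 (iv2 F174753)
theorem F176635 : act 1 n113447 = n52383 := d15_1 F176634 F173275 (iv2 F173284)
def n113448 : Q := act 5 n52371
theorem D113448 : act 5 n52371 = n113448 := rfl
def n113449 : Q := act 6 n52371
theorem D113449 : act 6 n52371 = n113449 := rfl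
def n113450 : Q := act 4 n52372
theorem D113450 : act 4 n52372 = n113450 := rfl
theorem F176636 : act 2 n113450 = n52373 := d1_1 D113450 (iv4 D52373) D52372
def n113451 : Q := act 5 n52372
theorem D113451 : act 5 n52372 = n113451 := rfl
theorem F176637 : act 2 n113451 = n52374 := d2_1 D113451 (iv5 D52374) D52372
def n113452 : Q := act 6 n52372
theorem D113452 : act 6 n52372 = n113452 := rfl
theorem F176638 : act 2 n113452 = n52375 := d3_1 D113452 (iv6 D52375) D52372
def n113453 : Q := act 0 n52373
theorem D113453 : act 0 n52373 = n113453 := rfl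
def n113454 : Q := act 1 n52373
theorem D113454 : act 1 n52373 = n113454 := rfl
theorem F176639 : act 4 n113333 = n113454 := d20_6 (iv4 D5725) D5723 D12082 D25408 D52312 D113333 (iv1 D113454) (iv4 D52373) (iv3 D25426) (iv1 D12088)
def n113455 : Q := act 5 n52373
theorem D113455 : act 5 n52373 = n113455 := rfl
theorem F176640 : act 3 n113455 = n59149 := d6_1 D113455 (iv5 D59149) (iv3 F82740)
def n113456 : Q := act 6 n52373
theorem D113456 : act 6 n52373 = n113456 := rfl
theorem F176641 : act 3 n113456 = n59150 := d7_1 D113456 (iv6 D59150) (iv3 F82740)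
theorem F176642 : act 4 n113456 = n52375 := d10_1 D113456 (iv6 D52375) D52373
def n113457 : Q := act 0 n52374
theorem D113457 : act 0 n52374 = n113457 := rfl
def n113458 : Q := act 1 n52374
theorem D113458 : act 1 n52374 = n113458 := rfl
def n113459 : Q := act 4 n52374
theorem D113459 : act 4 n52374 = n113459 := rfl
theorem F176643 : act 3 n113459 = n52499 := d5_1 D113459 (iv4 D52499) F40279 (iv4 F40205) (iv3 F82741)
theorem F176644 : act 7 n113459 = n68854 := d11_2 F94259 D113459 F105042
def n113460 : Q := act 6 n52374
theorem D113460 : act 6 n52374 = n113460 := rfl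
theorem F176645 : act 3 n113460 = n52376 := d7_1 D113460 (iv6 D52376) (iv3 F82741)
def n113461 : Q := act 0 n52375
theorem D113461 : act 0 n52375 = n113461 := rfl
def n113462 : Q := act 1 n52375
theorem D113462 : act 1 n52375 = n113462 := rfl
def n113463 : Q := act 5 n52375
theorem D113463 : act 5 n52375 = n113463 := rfl
theorem F176646 : act 3 n113463 = n52379 := d6_1 D113463 (iv5 D52379) (iv3 F82742)
def n113464 : Q := act 7 n52375
theorem D113464 : act 7 n52375 = n113464 := rfl
theorem F176647 : act 3 n113464 = n52380 := d8_1 D113464 (iv7 D52380) (iv3 F82742)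
def n113465 : Q := act 0 n52376
theorem D113465 : act 0 n52376 = n113465 := rfl
def n113466 : Q := act 1 n52376
theorem D113466 : act 1 n52376 = n113466 := rfl
def n113467 : Q := act 5 n52376
theorem D113467 : act 5 n52376 = n113467 := rfl
theorem F176648 : act 6 n113467 = n52379 := d12_2 D52376 D113467 (iv5 D52379) (iv6 D25428) D25427
def n113468 : Q := act 7 n52376
theorem D113468 : act 7 n52376 = n113468 := rfl
theorem F176649 : act 4 n113468 = n52509 := d11_1 D113468 (iv7 D52509) (iv4 F82743)
def n113469 : Q := act 0 n52379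
theorem D113469 : act 0 n52379 = n113469 := rfl
theorem F176650 : act 5 n113469 = n58823 := d17_3 F165560 D52379 D113469 F172621 (iv5 F79542) (iv0 D49189) F37523 D25421 D52357
def n113470 : Q := act 1 n52379
theorem D113470 : act 1 n52379 = n113470 := rfl
theorem F176651 : act 5 n113470 = n58822 := d17_7 D27970 F77782 (iv1 D49243) F37569 (iv4 F40206) D52379 D113470 (iv0 D58822) F45223
def n113471 : Q := act 4 n52379
theorem D113471 : act 4 n52379 = n113471 := rfl
def n113472 : Q := act 7 n52379
theorem D113472 : act 7 n52379 = n113472 := rfl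
theorem F176652 : act 5 n113472 = n52380 := d13_1 D113472 (iv7 D52380) D52379
def n113473 : Q := act 6 n52381
theorem D113473 : act 6 n52381 = n113473 := rfl
theorem F176653 : act 2 n113473 = n52399 := d3_1 D113473 (iv6 D52399) F82745
def n113474 : Q := act 3 n52382
theorem D113474 : act 3 n52382 = n113474 := rfl
theorem F176654 : act 2 n113474 = n59289 := d0_1 D113474 (iv3 D59289) (iv2 F173274) (iv3 D52383) D52382
theorem F176655 : act 7 n113474 = n52388 := d8_2 F82748 D113474 (iv3 D52388)
theorem F176656 : act 1 n111503 = n113474 := d15_1 (iv0 F173419) F176655 F173420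
theorem F176657 : act 1 n113474 = n111508 := d15_0 (iv0 F173421) F173418 (iv2 F176654)
def n113475 : Q := act 4 n52382
theorem D113475 : act 4 n52382 = n113475 := rfl
theorem F176658 : act 2 n113475 = n52384 := d1_1 D113475 (iv4 D52384) D52382
theorem F176659 : act 7 n113475 = n52389 := d11_2 F82748 D113475 (iv4 D52389)
theorem F176660 : act 3 n107591 = n113475 := d20_5 (iv4 D28043) (iv1 F22248) D24241 D49704 D107591 (iv4 D113475) F173409 (iv4 F82603) F82602 (iv1 F45311)
def n113476 : Q := act 5 n52382
theorem D113476 : act 5 n52382 = n113476 := rfl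
theorem F176661 : act 2 n113476 = n52385 := d2_1 D113476 (iv5 D52385) D52382
theorem F176662 : act 7 n113476 = n52390 := d13_2 F82748 D113476 (iv5 D52390)
def n113477 : Q := act 6 n52382
theorem D113477 : act 6 n52382 = n113477 := rfl
theorem F176663 : act 2 n113477 = n52386 := d3_1 D113477 (iv6 D52386) D52382
def n113478 : Q := act 5 n52383
theorem D113478 : act 5 n52383 = n113478 := rfl
theorem F176664 : act 2 n113478 = n59290 := d2_1 D113478 (iv5 D59290) (iv2 F173274)
theorem F176665 : act 3 n113478 = n52385 := d6_1 D113478 (iv5 D52385) D52383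
theorem F176666 : act 7 n113478 = n59309 := d13_2 (iv7 F173275) D113478 (iv5 D59309)
def n113479 : Q := act 6 n52383
theorem D113479 : act 6 n52383 = n113479 := rfl
theorem F176667 : act 2 n113479 = n59291 := d3_1 D113479 (iv6 D59291) (iv2 F173274)
theorem F176668 : act 3 n113479 = n52386 := d7_1 D113479 (iv6 D52386) D52383
def n113480 : Q := act 0 n52384
theorem D113480 : act 0 n52384 = n113480 := rfl
theorem F176670 : act 4 n113480 = n113386 := d20_2 D52384 D113480 (iv3 D113386) (iv1 D52341) (iv3 D25417) (iv4 D12085) (iv1 D5724) D5725 D12089 D25429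
def n113481 : Q := act 1 n52384
theorem D113481 : act 1 n52384 = n113481 := rfl
theorem F176671 : act 1 n113481 = n52389 := d15_1 D113481 (iv7 F176659) F176658
def n113482 : Q := act 5 n52384
theorem D113482 : act 5 n52384 = n113482 := rfl
def n113483 : Q := act 6 n52384
theorem D113483 : act 6 n52384 = n113483 := rfl
def n113484 : Q := act 7 n52384
theorem D113484 : act 7 n52384 = n113484 := rfl
theorem F176673 : act 2 n113484 = n52389 := d4_1 D113484 (iv7 F176659) F176658
theorem F176674 : act 3 n113484 = n59306 := d8_1 D113484 F174836 (iv3 F174834)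
theorem F176675 : act 4 n113484 = n52387 := d11_1 D113484 (iv7 D52387) D52384
theorem F176676 : act 1 n52389 = n113480 := d15_0 (iv0 D113480) D113484 F176673
def n113485 : Q := act 0 n52385
theorem D113485 : act 0 n52385 = n113485 := rfl
def n113486 : Q := act 1 n52385
theorem D113486 : act 1 n52385 = n113486 := rfl
theorem F176677 : act 1 n113486 = n52390 := d15_1 D113486 (iv7 F176662) F176661
def n113487 : Q := act 4 n52385
theorem D113487 : act 4 n52385 = n113487 := rfl
def n113488 : Q := act 6 n52385
theorem D113488 : act 6 n52385 = n113488 := rfl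
def n113489 : Q := act 7 n52385
theorem D113489 : act 7 n52385 = n113489 := rfl
theorem F176678 : act 2 n113489 = n52390 := d4_1 D113489 (iv7 F176662) F176661
theorem F176679 : act 3 n113489 = n59309 := d8_1 D113489 (iv7 F176666) F176665
theorem F176680 : act 5 n113489 = n52387 := d13_1 D113489 (iv7 D52387) D52385
theorem F176681 : act 1 n52390 = n113485 := d15_0 (iv0 D113485) D113489 F176678
def n113490 : Q := act 0 n52386
theorem D113490 : act 0 n52386 = n113490 := rfl
def n113491 : Q := act 1 n52386
theorem D113491 : act 1 n52386 = n113491 := rfl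
def n113492 : Q := act 5 n52386
theorem D113492 : act 5 n52386 = n113492 := rfl
def n113493 : Q := act 7 n52386
theorem D113493 : act 7 n52386 = n113493 := rfl
def n113494 : Q := act 6 n52387
theorem D113494 : act 6 n52387 = n113494 := rfl
theorem F176682 : act 2 n113494 = n52391 := d3_1 D113494 (iv6 D52391) (iv2 F82750)
def n113495 : Q := act 0 n52388
theorem D113495 : act 0 n52388 = n113495 := rfl
theorem F176684 : act 4 n113495 = n111307 := d20_0 (iv1 F172717) (iv4 F82693) (iv3 F93352) (iv1 F93356) D113386 (iv4 F176670) (iv1 F176676) (iv4 D52389) D52388 D113495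
theorem F176685 : act 1 n59289 = n113495 := d15_0 (iv0 D113495) (iv7 F176655) F176654
def n113496 : Q := act 5 n52388
theorem D113496 : act 5 n52388 = n113496 := rfl
theorem F176686 : act 3 n113496 = n52390 := d6_1 D113496 (iv5 D52390) D52388
def n113497 : Q := act 6 n52388
theorem D113497 : act 6 n52388 = n113497 := rfl
theorem F176687 : act 3 n113497 = n52391 := d7_1 D113497 (iv6 D52391) D52388
def n113498 : Q := act 5 n52389
theorem D113498 : act 5 n52389 = n113498 := rfl
def n113499 : Q := act 6 n52389
theorem D113499 : act 6 n52389 = n113499 := rfl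
theorem F176688 : act 4 n113499 = n52391 := d10_1 D113499 (iv6 D52391) D52389
def n113500 : Q := act 4 n52390
theorem D113500 : act 4 n52390 = n113500 := rfl
def n113501 : Q := act 6 n52390
theorem D113501 : act 6 n52390 = n113501 := rfl
def n113502 : Q := act 0 n52391
theorem D113502 : act 0 n52391 = n113502 := rfl
def n113503 : Q := act 1 n52391
theorem D113503 : act 1 n52391 = n113503 := rfl
def n113504 : Q := act 5 n52391
theorem D113504 : act 5 n52391 = n113504 := rfl
def n113505 : Q := act 7 n52391
theorem D113505 : act 7 n52391 = n113505 := rfl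
def n113506 : Q := act 4 n52394
theorem D113506 : act 4 n52394 = n113506 := rfl
theorem F176689 : act 2 n113506 = n52397 := d1_1 D113506 (iv4 D52397) (iv2 F82754)
def n113507 : Q := act 6 n52394
theorem D113507 : act 6 n52394 = n113507 := rfl
theorem F176690 : act 2 n113507 = n52398 := d3_1 D113507 (iv6 D52398) (iv2 F82754)
def n113508 : Q := act 2 n52395
theorem D113508 : act 2 n52395 = n113508 := rfl
theorem F176691 : act 7 n52396 = n113508 := d15_2 (iv0 D52395) D52396 (iv2 D113508)
def n113509 : Q := act 3 n52395
theorem D113509 : act 3 n52395 = n113509 := rfl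
def n113510 : Q := act 4 n52395
theorem D113510 : act 4 n52395 = n113510 := rfl
def n113511 : Q := act 5 n52395
theorem D113511 : act 5 n52395 = n113511 := rfl
def n113512 : Q := act 6 n52395
theorem D113512 : act 6 n52395 = n113512 := rfl
def n113513 : Q := act 7 n52395
theorem D113513 : act 7 n52395 = n113513 := rfl
theorem F176692 : act 2 n113513 = n52396 := d4_1 D113513 F176691 (iv2 D113508)
def n113514 : Q := act 3 n52396
theorem D113514 : act 3 n52396 = n113514 := rfl
def n113515 : Q := act 4 n52396
theorem D113515 : act 4 n52396 = n113515 := rfl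
def n113516 : Q := act 5 n52396
theorem D113516 : act 5 n52396 = n113516 := rfl
def n113517 : Q := act 6 n52396
theorem D113517 : act 6 n52396 = n113517 := rfl
def n113518 : Q := act 0 n52397
theorem D113518 : act 0 n52397 = n113518 := rfl
def n113519 : Q := act 1 n52397
theorem D113519 : act 1 n52397 = n113519 := rfl
def n113520 : Q := act 5 n52397
theorem D113520 : act 5 n52397 = n113520 := rfl
def n113521 : Q := act 6 n52397
theorem D113521 : act 6 n52397 = n113521 := rfl
theorem F176693 : act 4 n113521 = n52398 := d10_1 D113521 (iv6 D52398) D52397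
def n113522 : Q := act 0 n52398
theorem D113522 : act 0 n52398 = n113522 := rfl
def n113523 : Q := act 1 n52398
theorem D113523 : act 1 n52398 = n113523 := rfl
def n113524 : Q := act 7 n52398
theorem D113524 : act 7 n52398 = n113524 := rfl
theorem F176694 : act 3 n113524 = n52406 := d8_1 D113524 (iv7 D52406) (iv3 F82755)
def n113525 : Q := act 0 n52399
theorem D113525 : act 0 n52399 = n113525 := rfl
def n113526 : Q := act 1 n52399
theorem D113526 : act 1 n52399 = n113526 := rfl
def n113527 : Q := act 5 n52399
theorem D113527 : act 5 n52399 = n113527 := rfl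
theorem F176695 : act 3 n113527 = n52409 := d6_1 D113527 (iv5 D52409) (iv3 F82756)
def n113528 : Q := act 1 n52400
theorem D113528 : act 1 n52400 = n113528 := rfl
def n113529 : Q := act 2 n52400
theorem D113529 : act 2 n52400 = n113529 := rfl
theorem F176696 : act 5 n113529 = n52428 := d2_2 (iv5 F82757) D113529 (iv2 D52428)
def n113530 : Q := act 4 n52400
theorem D113530 : act 4 n52400 = n113530 := rfl
theorem F176697 : act 3 n113530 = n52490 := d5_1 D113530 (iv4 D52490) F40271 (iv4 F40210) D52400
def n113531 : Q := act 6 n52400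
theorem D113531 : act 6 n52400 = n113531 := rfl
theorem F176698 : act 3 n113531 = n52401 := d7_1 D113531 (iv6 D52401) D52400
def n113532 : Q := act 0 n52401
theorem D113532 : act 0 n52401 = n113532 := rfl
def n113533 : Q := act 1 n52401
theorem D113533 : act 1 n52401 = n113533 := rfl
def n113534 : Q := act 5 n52401
theorem D113534 : act 5 n52401 = n113534 := rfl
theorem F176699 : act 6 n113534 = n52432 := d12_2 D52401 D113534 (iv5 D52432) (iv6 D25447) (iv5 F40209)
def n113535 : Q := act 7 n52401
theorem D113535 : act 7 n52401 = n113535 := rfl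
theorem F176700 : act 4 n113535 = n52494 := d11_1 D113535 (iv7 D52494) (iv4 F82758)
def n113536 : Q := act 0 n52402
theorem D113536 : act 0 n52402 = n113536 := rfl
def n113537 : Q := act 1 n52402
theorem D113537 : act 1 n52402 = n113537 := rfl
def n113538 : Q := act 2 n52402
theorem D113538 : act 2 n52402 = n113538 := rfl
theorem F176701 : act 5 n113538 = n52476 := d2_2 (iv5 F82759) D113538 (iv2 D52476)
def n113539 : Q := act 4 n52402
theorem D113539 : act 4 n52402 = n113539 := rfl
theorem F176702 : act 3 n113539 = n52455 := d5_1 D113539 (iv4 D52455) F40247 (iv4 F40214) D52402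
def n113540 : Q := act 6 n52402
theorem D113540 : act 6 n52402 = n113540 := rfl
theorem F176703 : act 3 n113540 = n52403 := d7_1 D113540 (iv6 D52403) D52402
def n113541 : Q := act 0 n52403
theorem D113541 : act 0 n52403 = n113541 := rfl
def n113542 : Q := act 1 n52403
theorem D113542 : act 1 n52403 = n113542 := rfl
def n113543 : Q := act 5 n52403
theorem D113543 : act 5 n52403 = n113543 := rfl
theorem F176704 : act 6 n113543 = n52480 := d12_2 D52403 D113543 (iv5 D52480) (iv6 D25468) (iv5 F40213)
def n113544 : Q := act 7 n52403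
theorem D113544 : act 7 n52403 = n113544 := rfl
theorem F176705 : act 4 n113544 = n52463 := d11_1 D113544 (iv7 D52463) (iv4 F82760)
def n113545 : Q := act 2 n52404
theorem D113545 : act 2 n52404 = n113545 := rfl
theorem F176706 : act 7 n52405 = n113545 := d15_2 (iv0 D52404) D52405 (iv2 D113545)
def n113546 : Q := act 3 n52404
theorem D113546 : act 3 n52404 = n113546 := rfl
def n113547 : Q := act 4 n52404
theorem D113547 : act 4 n52404 = n113547 := rfl
def n113548 : Q := act 5 n52404
theorem D113548 : act 5 n52404 = n113548 := rfl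
def n113549 : Q := act 6 n52404
theorem D113549 : act 6 n52404 = n113549 := rfl
def n113550 : Q := act 7 n52404
theorem D113550 : act 7 n52404 = n113550 := rfl
theorem F176707 : act 2 n113550 = n52405 := d4_1 D113550 F176706 (iv2 D113545)
def n113551 : Q := act 3 n52405
theorem D113551 : act 3 n52405 = n113551 := rfl
def n113552 : Q := act 4 n52405
theorem D113552 : act 4 n52405 = n113552 := rfl
def n113553 : Q := act 5 n52405
theorem D113553 : act 5 n52405 = n113553 := rfl
def n113554 : Q := act 6 n52405
theorem D113554 : act 6 n52405 = n113554 := rfl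
def n113555 : Q := act 3 n52407
theorem D113555 : act 3 n52407 = n113555 := rfl
theorem F176708 : act 4 n113555 = n111764 := d5_2 (iv4 F161391) D113555 (iv3 D111764) (iv4 F93410) (iv3 D59207)
def n113556 : Q := act 5 n52407
theorem D113556 : act 5 n52407 = n113556 := rfl
def n113557 : Q := act 6 n52407
theorem D113557 : act 6 n52407 = n113557 := rfl
theorem F176709 : act 4 n113557 = n59210 := d10_1 D113557 (iv6 D59210) (iv4 F161391)
def n113558 : Q := act 3 n52408
theorem D113558 : act 3 n52408 = n113558 := rfl
def n113559 : Q := act 5 n52408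
theorem D113559 : act 5 n52408 = n113559 := rfl
def n113560 : Q := act 6 n52408
theorem D113560 : act 6 n52408 = n113560 := rfl
theorem F176710 : act 4 n113560 = n59215 := d10_1 D113560 (iv6 D59215) (iv4 F161334)
def n113561 : Q := act 0 n52409
theorem D113561 : act 0 n52409 = n113561 := rfl
def n113562 : Q := act 1 n52409
theorem D113562 : act 1 n52409 = n113562 := rfl
def n113563 : Q := act 4 n52409
theorem D113563 : act 4 n52409 = n113563 := rfl
def n113564 : Q := act 3 n52412
theorem D113564 : act 3 n52412 = n113564 := rfl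
theorem F176711 : act 4 n113564 = n111770 := d5_2 D52412 D113564 (iv3 D111770) (iv4 D51530) F161325
def n113565 : Q := act 5 n52412
theorem D113565 : act 5 n52412 = n113565 := rfl
def n113566 : Q := act 6 n52412
theorem D113566 : act 6 n52412 = n113566 := rfl
theorem F176712 : act 4 n113566 = n52414 := d10_1 D113566 (iv6 D52414) D52412
def n113567 : Q := act 4 n52413
theorem D113567 : act 4 n52413 = n113567 := rfl
theorem F176713 : act 1 n113567 = n113276 := d18_6 (iv1 F45291) (iv4 F77473) (iv1 F161321) (iv4 D52412) D52413 D113567 F176474 (iv0 F161424) (iv5 D58966)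
theorem F176714 : act 0 n113567 = n112664 := d20_7 (iv4 F80234) F81504 F81500 (iv3 F164333) F81291 F161355 D113567 F175332 F82111 F45351
def n113568 : Q := act 3 n52417
theorem D113568 : act 3 n52417 = n113568 := rfl
def n113569 : Q := act 5 n52417
theorem D113569 : act 5 n52417 = n113569 := rfl
def n113570 : Q := act 6 n52417
theorem D113570 : act 6 n52417 = n113570 := rfl
theorem F176715 : act 4 n113570 = n52419 := d10_1 D113570 (iv6 D52419) D52417
def n113571 : Q := act 4 n52418
theorem D113571 : act 4 n52418 = n113571 := rfl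
theorem F176716 : act 6 n113571 = n68190 := d10_2 (iv6 F82765) D113571 F165144
theorem F176717 : act 1 n113571 = n112664 := d18_6 (iv1 D28024) (iv4 F45290) (iv1 F161331) (iv4 D52417) D52418 D113571 F175332 F164064 (iv5 D58971)
theorem F176718 : act 1 n113276 = n113571 := d15_0 F176717 F175333 (iv2 F176473)
def n113572 : Q := act 1 n52420
theorem D113572 : act 1 n52420 = n113572 := rfl
theorem F176719 : act 1 n113572 = n65897 := d15_1 D113572 (iv7 D65897) (iv2 F82766)
theorem F176720 : act 7 n113572 = n59488 := d15_2 (iv0 F82768) D113572 F93894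
theorem F176721 : act 3 n112716 = n113572 := d20_3 (iv4 F173606) (iv1 F173608) F175438 (iv1 D113572) (iv3 F93028) F93029 F81553 F79904 (iv3 F39404) (iv1 F81383)
theorem F176722 : act 6 n110831 = n113572 := d21_3 (iv5 F171896) (iv1 F167770) (iv5 F171665) (iv1 D113572) (iv6 D52420) (iv5 F40219) (iv1 F39010) (iv5 F37366) D49076 D106202
theorem F176723 : act 5 n108708 = n113572 := d21_6 F23752 F18749 D24341 D49916 D108073 (iv6 F168655) (iv1 D113572) (iv5 F98569) (iv6 D63324) (iv1 F48066)
theorem F176724 : act 2 n113572 = n65896 := d2_1 F176723 (iv5 F103348) (iv2 F168654)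
theorem F176725 : act 4 n111488 = n113572 := d1_0 F176724 F168691 F173004
def n113573 : Q := act 0 n52421
theorem D113573 : act 0 n52421 = n113573 := rfl
theorem F176726 : act 1 n65906 = n113573 := d15_0 (iv0 D113573) F82770 D65906
def n113574 : Q := act 1 n52421
theorem D113574 : act 1 n52421 = n113574 := rfl
theorem F176727 : act 4 n113296 = n113574 := d20_6 (iv4 D25247) F19802 D12080 D25402 D52299 D113296 (iv1 D113574) F82769 (iv3 D25446) (iv1 F39800)
def n113575 : Q := act 2 n52421
theorem D113575 : act 2 n52421 = n113575 := rfl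
theorem F176728 : act 4 n113575 = n52428 := d1_2 (iv4 F82769) D113575 (iv2 D52428)
theorem F176729 : act 7 n113575 = n65906 := d4_2 (iv7 F82770) D113575 (iv2 D65906)
theorem F176730 : act 1 n113575 = n65904 := d15_0 (iv0 D65904) (iv7 F82770) D113575
theorem F176731 : act 1 n113574 = n65906 := d15_1 D113574 (iv7 F176729) (iv2 D113575)
theorem F176732 : act 1 n65905 = n113575 := d15_1 D65905 F176729 (iv2 D65906)
def n113576 : Q := act 6 n52421
theorem D113576 : act 6 n52421 = n113576 := rfl
theorem F176733 : act 3 n113576 = n52422 := d7_1 D113576 (iv6 D52422) D52421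
theorem F176734 : act 4 n113576 = n52429 := d10_1 D113576 (iv6 D52429) (iv4 F82769)
def n113577 : Q := act 5 n52422
theorem D113577 : act 5 n52422 = n113577 := rfl
theorem F176735 : act 0 n113577 = n111593 := d17_2 F168475 D113577 (iv5 D111593) (iv4 D51467) F79597 (iv0 D29839) (iv5 F38401) D50150 D108614
theorem F176736 : act 0 n111596 = n113577 := d21_1 D111596 (iv5 D113577) (iv6 D52422) F40222 D51588 D111879 F173780 F173203 (iv6 F172781) (iv1 F172782)
def n113578 : Q := act 6 n52424
theorem D113578 : act 6 n52424 = n113578 := rfl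
theorem F176737 : act 2 n113578 = n112612 := d3_1 D113578 (iv6 D112612) F170681
theorem F176738 : act 4 n113578 = n108791 := d10_1 D113578 (iv6 D108791) (iv4 F169240)
def n113579 : Q := act 2 n52426
theorem D113579 : act 2 n52426 = n113579 := rfl
theorem F176739 : act 7 n52427 = n113579 := d15_2 (iv0 D52426) D52427 (iv2 D113579)
def n113580 : Q := act 3 n52426
theorem D113580 : act 3 n52426 = n113580 := rfl
theorem F176740 : act 4 n113580 = n111282 := d20_6 (iv4 D24777) (iv1 F19079) D12095 D25446 D52426 D113580 (iv1 D111282) F80984 (iv3 D48644) (iv1 F38787)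
def n113581 : Q := act 4 n52426
theorem D113581 : act 4 n52426 = n113581 := rfl
def n113582 : Q := act 5 n52426
theorem D113582 : act 5 n52426 = n113582 := rfl
theorem F176741 : act 4 n113582 = n59549 := d19_2 D52426 D113582 F93976 (iv1 F93948) F93950 (iv4 D30280) (iv3 F24005) (iv1 F18511) (iv5 D5239) F9988 (iv3 F9986) (iv1 D746) F727 (iv4 F1438) (iv3 F2358) (iv1 F9906) D5730 D12095 D25446
theorem F176742 : act 3 n64728 = n113582 := d5_5 F176741 F93976 F45779 (iv3 F48859) D64728
theorem F176743 : act 5 n113580 = n64728 := d6_0 F176742 (iv5 D113582) D113580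
theorem F176744 : act 0 n105237 = n113582 := d20_4 (iv4 D49680) F37981 (iv4 F76546) (iv3 F161181) (iv3 F176742) (iv4 D64728) D64726 (iv4 F106586) F82694 (iv1 F78487)
theorem F176745 : act 1 n113425 = n113582 := d15_0 (iv0 F176744) F161182 (iv2 F176615)
def n113583 : Q := act 6 n52426
theorem D113583 : act 6 n52426 = n113583 := rfl
def n113584 : Q := act 7 n52426
theorem D113584 : act 7 n52426 = n113584 := rfl
theorem F176746 : act 2 n113584 = n52427 := d4_1 D113584 F176739 (iv2 D113579)
def n113585 : Q := act 3 n52427
theorem D113585 : act 3 n52427 = n113585 := rfl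
def n113586 : Q := act 4 n52427
theorem D113586 : act 4 n52427 = n113586 := rfl
theorem F176747 : act 0 n112468 = n113586 := d20_10 (iv4 D113586) (iv1 D52427) (iv4 F82769) (iv3 D52421) F40222 D51587 F81421 F170928 D51886 D112468
theorem F176748 : act 3 n108616 = n113586 := d20_5 (iv4 D25058) (iv1 F19601) D24461 D50152 D108616 (iv4 D113586) (iv1 D52427) (iv4 F82769) (iv3 D52421) F40222
def n113587 : Q := act 5 n52427
theorem D113587 : act 5 n52427 = n113587 := rfl
def n113588 : Q := act 6 n52427
theorem D113588 : act 6 n52427 = n113588 := rfl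
def n113589 : Q := act 6 n52428
theorem D113589 : act 6 n52428 = n113589 := rfl
theorem F176749 : act 2 n113589 = n52429 := d3_1 D113589 (iv6 D52429) D52428
def n113590 : Q := act 0 n52429
theorem D113590 : act 0 n52429 = n113590 := rfl
def n113591 : Q := act 1 n52429
theorem D113591 : act 1 n52429 = n113591 := rfl
def n113592 : Q := act 5 n52429
theorem D113592 : act 5 n52429 = n113592 := rfl
theorem F176750 : act 3 n113592 = n52432 := d6_1 D113592 (iv5 D52432) (iv3 F82774)
def n113593 : Q := act 7 n52429
theorem D113593 : act 7 n52429 = n113593 := rfl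
theorem F176751 : act 3 n113593 = n52433 := d8_1 D113593 (iv7 D52433) (iv3 F82774)
def n113594 : Q := act 0 n52432
theorem D113594 : act 0 n52432 = n113594 := rfl
def n113595 : Q := act 1 n52432
theorem D113595 : act 1 n52432 = n113595 := rfl
def n113596 : Q := act 4 n52432
theorem D113596 : act 4 n52432 = n113596 := rfl
def n113597 : Q := act 7 n52432
theorem D113597 : act 7 n52432 = n113597 := rfl
theorem F176752 : act 5 n113597 = n52433 := d13_1 D113597 (iv7 D52433) D52432
def n113598 : Q := act 3 n52436
theorem D113598 : act 3 n52436 = n113598 := rfl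
theorem F176753 : act 7 n113598 = n113274 := d8_2 F164340 D113598 (iv3 D113274)
def n113599 : Q := act 5 n52436
theorem D113599 : act 5 n52436 = n113599 := rfl
theorem F176756 : act 0 n113599 = n58930 := d17_2 (iv1 F164132) D113599 (iv5 D58930) (iv4 F76481) F76482 D62981 (iv5 F98282) (iv0 D48641) (iv4 F76503)
def n113600 : Q := act 4 n52437
theorem D113600 : act 4 n52437 = n113600 := rfl
theorem F176757 : act 2 n113600 = n60548 := d1_1 D113600 (iv4 D60548) (iv2 F161436)
theorem F176758 : act 7 n113600 = n60545 := d11_2 (iv7 F161437) D113600 (iv4 D60545)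
theorem F176759 : act 0 n113600 = n62979 := d18_2 (iv1 F82778) D113600 F98278 (iv5 F76482) F76481 (iv0 F168559) (iv4 D58909) F92930 F92927
def n113601 : Q := act 6 n52437
theorem D113601 : act 6 n52437 = n113601 := rfl
theorem F176760 : act 2 n113601 = n60549 := d3_1 D113601 (iv6 D60549) (iv2 F161436)
theorem F176761 : act 3 n113601 = n106568 := d7_1 D113601 (iv6 D106568) (iv3 F164070)
theorem F176762 : act 5 n113601 = n106568 := d12_1 D113601 (iv6 D106568) (iv5 F77782) (iv6 F77783) D52437
theorem F176763 : act 7 n113601 = n106568 := d14_2 (iv7 F161437) D113601 (iv6 D106568) F161441 F76592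
theorem F176764 : act 0 n113601 = n62005 := d21_4 F37596 D25448 D52437 D113601 F96591 (iv5 F162265) (iv1 F168133) (iv5 D62238) F47207 (iv1 F168039)
theorem F176765 : act 0 n62001 = n113601 := d21_4 (iv5 F100216) (iv1 F100238) (iv5 F96701) F96702 (iv6 D113601) (iv5 D52437) (iv1 F76598) F76594 (iv6 F77823) (iv1 F77825)
def n113602 : Q := act 6 n52443
theorem D113602 : act 6 n52443 = n113602 := rfl
theorem F176766 : act 2 n113602 = n67845 := d3_1 D113602 (iv6 D67845) (iv2 F82787)
theorem F176767 : act 3 n113602 = n90277 := d7_1 D113602 (iv6 F165913) F165912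
theorem F176768 : act 4 n113602 = n67943 := d10_1 D113602 (iv6 D67943) F82783
theorem F176769 : act 7 n113602 = n68092 := d14_2 F82786 D113602 F104216 (iv7 D51059) (iv6 F55493)
theorem F176770 : act 0 n113602 = n55618 := d21_4 D12129 D25518 F83021 D113602 (iv6 D55618) (iv5 F68205) (iv1 F74310) F74311 (iv6 D25514) (iv1 D12127)
theorem F176771 : act 5 n113602 = n71274 := d21_6 D25681 (iv1 F43266) (iv5 D26850) (iv6 F40238) D52443 D113602 (iv1 F107767) (iv5 D33192) (iv6 D16019) (iv1 F37280)
theorem F176772 : act 0 n52467 = n113602 := d17_0 F176771 (iv1 F107767) (iv5 D33192) F25510 D16024 F52167 (iv5 F84926) (iv0 F84927) (iv4 F82838)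
def n113603 : Q := act 4 n52445
theorem D113603 : act 4 n52445 = n113603 := rfl
def n113604 : Q := act 6 n52445
theorem D113604 : act 6 n52445 = n113604 := rfl
theorem F176777 : act 5 n113604 = n55613 := d12_1 D113604 (iv6 D55613) (iv5 D26850) (iv6 F40238) D52445
def n113605 : Q := act 0 n52446
theorem D113605 : act 0 n52446 = n113605 := rfl
def n113606 : Q := act 1 n52446
theorem D113606 : act 1 n52446 = n113606 := rfl
def n113607 : Q := act 7 n52446
theorem D113607 : act 7 n52446 = n113607 := rfl
theorem F176778 : act 5 n113607 = n70569 := d13_1 D113607 (iv7 D70569) (iv5 F82800)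
theorem F176779 : act 6 n113607 = n67853 := d14_1 D113607 (iv7 D67853) (iv6 D31519) (iv7 F40240) D52446
def n113608 : Q := act 0 n52447
theorem D113608 : act 0 n52447 = n113608 := rfl
def n113609 : Q := act 1 n52447
theorem D113609 : act 1 n52447 = n113609 := rfl
def n113610 : Q := act 7 n52447
theorem D113610 : act 7 n52447 = n113610 := rfl
theorem F176780 : act 3 n113610 = n76335 := d8_1 D113610 (iv7 D76335) (iv3 F82801)
theorem F176781 : act 5 n113610 = n76321 := d13_1 D113610 (iv7 D76321) (iv5 F82802)
def n113611 : Q := act 4 n52451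
theorem D113611 : act 4 n52451 = n113611 := rfl
theorem F176782 : act 2 n113611 = n52455 := d1_1 D113611 (iv4 D52455) (iv2 F82809)
theorem F176783 : act 5 n113611 = n69401 := d16_1 D113611 (iv4 D69401) (iv5 D32244) (iv4 D15211) F11533 (iv4 F22704) D28387 F45899 (iv2 F82809)
theorem F176784 : act 0 n113611 = n68824 := d18_2 (iv1 F82810) D113611 (iv4 D68824) (iv5 D32013) (iv4 D15102) F20656 (iv4 F40273) F40275 D32022
theorem F176785 : act 1 n113611 = n68813 := d18_6 (iv1 D32347) F24843 D15263 (iv4 F40246) D52451 D113611 (iv4 D68813) F83084 F83083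
def n113612 : Q := act 6 n52451
theorem D113612 : act 6 n52451 = n113612 := rfl
theorem F176786 : act 2 n113612 = n52456 := d3_1 D113612 (iv6 D52456) (iv2 F82809)
def n113613 : Q := act 5 n52452
theorem D113613 : act 5 n52452 = n113613 := rfl
theorem F176787 : act 2 n113613 = n52459 := d2_1 D113613 (iv5 D52459) (iv2 F82812)
theorem F176788 : act 7 n113613 = n71940 := d13_2 F95890 D113613 F108445
theorem F176789 : act 1 n113613 = n71844 := d17_6 (iv1 F27015) D26218 D54208 F85532 (iv4 F82813) D113613 (iv5 D71844) F52423 F25583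
theorem F176790 : act 0 n113613 = n54784 := d21_7 D12676 (iv1 F42425) F42426 (iv6 F50629) (iv1 F45890) D52452 D113613 (iv5 D54784) (iv6 D26498) F21068
def n113614 : Q := act 4 n52453
theorem D113614 : act 4 n52453 = n113614 := rfl
theorem F176791 : act 2 n113614 = n68845 := d1_1 D113614 (iv4 D68845) F82817
theorem F176792 : act 7 n113614 = n68843 := d11_2 (iv7 F82819) D113614 (iv4 D68843)
def n113615 : Q := act 6 n52453
theorem D113615 : act 6 n52453 = n113615 := rfl
theorem F176793 : act 2 n113615 = n68846 := d3_1 D113615 (iv6 D68846) F82817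
def n113616 : Q := act 4 n52454
theorem D113616 : act 4 n52454 = n113616 := rfl
theorem F176794 : act 2 n113616 = n68843 := d1_1 D113616 (iv4 D68843) F82815
theorem F176795 : act 7 n113616 = n68845 := d11_2 F82816 D113616 (iv4 D68845)
def n113617 : Q := act 6 n52454
theorem D113617 : act 6 n52454 = n113617 := rfl
theorem F176796 : act 2 n113617 = n68844 := d3_1 D113617 (iv6 D68844) F82815
theorem F176797 : act 5 n113617 = n52643 := d12_1 D113617 (iv6 D52643) F40409 (iv6 F40416) (iv5 F82814)
def n113618 : Q := act 0 n52455
theorem D113618 : act 0 n52455 = n113618 := rfl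
theorem F176798 : act 4 n113618 = n54030 := d18_3 (iv1 D52454) D52455 D113618 (iv5 D54030) (iv4 D26138) (iv0 D12399) (iv4 F20032) D25478 (iv5 F82814)
theorem F176799 : act 2 n68824 = n113618 := d1_3 F176798 F85240 D68824
theorem F176800 : act 7 n68813 = n113618 := d11_0 F176798 F85242 D68813
def n113619 : Q := act 1 n52455
theorem D113619 : act 1 n52455 = n113619 := rfl
theorem F176801 : act 7 n113619 = n68824 := d15_2 (iv0 D113618) D113619 F176799
theorem F176802 : act 4 n54033 = n113619 := d20_6 F37412 D28113 F45422 D48702 F85334 F85331 (iv1 D113619) (iv4 D52455) F40247 (iv1 F37415)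
theorem F176803 : act 2 n113619 = n68813 := d1_1 F176802 (iv4 D68813) (iv2 F85248)
def n113620 : Q := act 5 n52455
theorem D113620 : act 5 n52455 = n113620 := rfl
theorem F176804 : act 2 n113620 = n69401 := d2_1 D113620 (iv5 F176783) F176782
theorem F176805 : act 4 n113620 = n69390 := d16_2 D52455 D113620 (iv5 D69390) (iv4 D32240) F24822 (iv4 F45894) D59829 F94241 F82809
def n113621 : Q := act 6 n52455
theorem D113621 : act 6 n52455 = n113621 := rfl
theorem F176806 : act 4 n113621 = n52456 := d10_1 D113621 (iv6 D52456) D52455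
def n113622 : Q := act 0 n52456
theorem D113622 : act 0 n52456 = n113622 := rfl
def n113623 : Q := act 1 n52456
theorem D113623 : act 1 n52456 = n113623 := rfl
def n113624 : Q := act 5 n52456
theorem D113624 : act 5 n52456 = n113624 := rfl
theorem F176807 : act 3 n113624 = n52462 := d6_1 D113624 (iv5 D52462) (iv3 F82820)
theorem F176808 : act 6 n113624 = n52459 := d12_2 D52456 D113624 (iv5 D52459) (iv6 D25458) D25457
def n113625 : Q := act 7 n52456
theorem D113625 : act 7 n52456 = n113625 := rfl
theorem F176809 : act 3 n113625 = n52463 := d8_1 D113625 (iv7 D52463) (iv3 F82820)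
def n113626 : Q := act 4 n52459
theorem D113626 : act 4 n52459 = n113626 := rfl
theorem F176810 : act 0 n113626 = n52978 := d18_2 (iv1 F82825) D113626 (iv4 D52978) (iv5 D25715) F20209 (iv0 F26868) (iv4 F11748) D16047 D33241
theorem F176811 : act 1 n113626 = n72090 := d18_6 F162382 (iv4 D105744) (iv1 D48883) (iv4 F40249) D52459 D113626 (iv4 D72090) F83701 (iv5 F95773)
def n113627 : Q := act 2 n52460
theorem D113627 : act 2 n52460 = n113627 := rfl
theorem F176812 : act 7 n52461 = n113627 := d15_2 (iv0 D52460) D52461 (iv2 D113627)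
def n113628 : Q := act 3 n52460
theorem D113628 : act 3 n52460 = n113628 := rfl
def n113629 : Q := act 4 n52460
theorem D113629 : act 4 n52460 = n113629 := rfl
def n113630 : Q := act 5 n52460
theorem D113630 : act 5 n52460 = n113630 := rfl
def n113631 : Q := act 6 n52460
theorem D113631 : act 6 n52460 = n113631 := rfl
def n113632 : Q := act 7 n52460
theorem D113632 : act 7 n52460 = n113632 := rfl
theorem F176813 : act 2 n113632 = n52461 := d4_1 D113632 F176812 (iv2 D113627)
def n113633 : Q := act 3 n52461
theorem D113633 : act 3 n52461 = n113633 := rfl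
def n113634 : Q := act 4 n52461
theorem D113634 : act 4 n52461 = n113634 := rfl
def n113635 : Q := act 5 n52461
theorem D113635 : act 5 n52461 = n113635 := rfl
def n113636 : Q := act 6 n52461
theorem D113636 : act 6 n52461 = n113636 := rfl
def n113637 : Q := act 0 n52462
theorem D113637 : act 0 n52462 = n113637 := rfl
theorem F176814 : act 6 n113637 = n52759 := d21_5 F40515 (iv1 D25461) D25462 (iv6 F82827) D113637 (iv5 D52759) (iv1 D25610) D25611 F40512 D25616
def n113638 : Q := act 1 n52462
theorem D113638 : act 1 n52462 = n113638 := rfl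
def n113639 : Q := act 4 n52462
theorem D113639 : act 4 n52462 = n113639 := rfl
theorem F176815 : act 6 n113639 = n52466 := d10_2 (iv6 F82827) D113639 (iv4 D52466)
def n113640 : Q := act 7 n52462
theorem D113640 : act 7 n52462 = n113640 := rfl
theorem F176816 : act 5 n113640 = n52463 := d13_1 D113640 (iv7 D52463) D52462
def n113641 : Q := act 3 n52466
theorem D113641 : act 3 n52466 = n113641 := rfl
def n113642 : Q := act 2 n52467
theorem D113642 : act 2 n52467 = n113642 := rfl
theorem F176817 : act 3 n113642 = n68082 := d0_2 D52467 D113642 F104201 F49958 F46046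
theorem F176818 : act 4 n113642 = n53904 := d1_2 (iv4 F82838) D113642 (iv2 D53904)
theorem F176819 : act 6 n113642 = n105744 := d3_2 F108559 D113642 F162378
theorem F176820 : act 7 n113642 = n55618 := d4_2 (iv7 F82839) D113642 F87980
theorem F176821 : act 1 n113642 = n68092 := d15_0 (iv0 D68092) (iv7 F82839) D113642
theorem F176822 : act 1 n67845 = n113642 := d15_0 F176821 (iv7 F176769) F176766
def n113643 : Q := act 0 n52469
theorem D113643 : act 0 n52469 = n113643 := rfl
def n113644 : Q := act 1 n52469
theorem D113644 : act 1 n52469 = n113644 := rfl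
theorem F176823 : act 4 n113251 = n113644 := d20_6 (iv4 D25390) (iv1 D12073) D12074 D25393 D52275 D113251 (iv1 D113644) F82844 (iv3 D25467) (iv1 F40159)
def n113645 : Q := act 2 n52469
theorem D113645 : act 2 n52469 = n113645 := rfl
theorem F176824 : act 4 n113645 = n52476 := d1_2 (iv4 F82844) D113645 (iv2 D52476)
def n113646 : Q := act 5 n52469
theorem D113646 : act 5 n52469 = n113646 := rfl
theorem F176825 : act 3 n113646 = n52470 := d6_1 D113646 (iv5 D52470) D52469
def n113647 : Q := act 6 n52469
theorem D113647 : act 6 n52469 = n113647 := rfl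
theorem F176826 : act 3 n113647 = n52471 := d7_1 D113647 (iv6 D52471) D52469
theorem F176827 : act 4 n113647 = n52477 := d10_1 D113647 (iv6 D52477) (iv4 F82844)
def n113648 : Q := act 6 n52470
theorem D113648 : act 6 n52470 = n113648 := rfl
def n113649 : Q := act 5 n52471
theorem D113649 : act 5 n52471 = n113649 := rfl
def n113650 : Q := act 5 n52472
theorem D113650 : act 5 n52472 = n113650 := rfl
theorem F176828 : act 2 n113650 = n108086 := d2_1 D113650 F167120 F82849
theorem F176829 : act 7 n113650 = n58738 := d13_2 (iv7 F93034) D113650 (iv5 F93030)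
theorem F176830 : act 0 n113650 = n108085 := d18_0 F167118 (iv1 D64164) F48629 (iv5 F39422) (iv4 F81536) D111976 (iv4 F174023) F171163 D113650
theorem F176831 : act 4 n64202 = n113650 := d11_3 F176829 F92809 D64202
theorem F176832 : act 0 n74499 = n64202 := d18_2 F161296 D74499 F176831 (iv5 D113650) F169331 (iv0 D50549) F38626 (iv0 F38600) (iv5 F48452)
theorem F176833 : act 1 n113650 = n108084 := d15_0 (iv0 D108084) D108086 (iv2 F176828)
theorem F176834 : act 2 n107761 = n108085 := d15_3 (iv0 F176830) F176833 F167117
def n113651 : Q := act 6 n52472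
theorem D113651 : act 6 n52472 = n113651 := rfl
theorem F176835 : act 2 n113651 = n112552 := d3_1 D113651 F175066 F82849
theorem F176836 : act 3 n113651 = n65903 := d7_1 D113651 F172992 F172989
theorem F176837 : act 4 n113651 = n109314 := d10_1 D113651 F169337 (iv4 F169331)
theorem F176838 : act 7 n113651 = n65898 := d14_2 (iv7 F93034) D113651 (iv6 D65898) F49291 D58840
theorem F176839 : act 5 n113651 = n110843 := d21_6 (iv5 D24745) F19057 D12104 D25466 D52472 D113651 (iv1 F171695) F166052 (iv6 D106192) (iv1 F77447)
theorem F176840 : act 1 n112551 = n113651 := d18_8 (iv1 F171695) F166051 F111082 F83956 F40749 (iv4 F79810) D109290 F175062 F176839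
theorem F176841 : act 1 n113651 = n112550 := d15_1 F176840 F175097 (iv2 F175101)
def n113652 : Q := act 3 n52474
theorem D113652 : act 3 n52474 = n113652 := rfl
theorem F176842 : act 4 n113652 = n69177 := d20_6 (iv4 D24224) F18603 D12106 D25467 D52474 D113652 (iv1 F176499) F161096 (iv3 D48639) (iv1 F37977)
def n113653 : Q := act 4 n52474
theorem D113653 : act 4 n52474 = n113653 := rfl
theorem F176843 : act 2 n113653 = n109547 := d1_1 D113653 F169501 F173638
theorem F176844 : act 3 n113653 = n59909 := d5_1 D113653 F94389 (iv3 F105459) (iv4 F176842) (iv3 D113652)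
theorem F176845 : act 5 n59908 = n113653 := d6_0 F176844 (iv5 D59909) D59908
def n113654 : Q := act 5 n52474
theorem D113654 : act 5 n52474 = n113654 := rfl
theorem F176846 : act 0 n59838 = n113654 := d19_0 (iv5 D113654) D113653 F176844 (iv1 F112591) (iv5 D75069) (iv4 D34385) F27294 F24716 F24715 F11509 (iv3 F22711) F26922 (iv5 F26388) (iv4 F37350) F37349 (iv1 F18208) D13550 D28392 D59838
theorem F176847 : act 1 n113451 = n113654 := d15_0 (iv0 F176846) F94259 (iv2 F176637)
def n113655 : Q := act 6 n52474
theorem D113655 : act 6 n52474 = n113655 := rfl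
def n113656 : Q := act 3 n52475
theorem D113656 : act 3 n52475 = n113656 := rfl
theorem F176848 : act 4 n113656 = n110691 := d5_2 F173636 D113656 F171300 F170381 D111831
theorem F176849 : act 2 n110692 = n113656 := d1_3 F176848 (iv2 D110691) D110692
theorem F176850 : act 1 n59062 = n113656 := d18_6 F170443 F169775 (iv1 D59055) (iv4 D28061) D28062 D59062 F176848 F175259 (iv5 F175261)
theorem F176851 : act 0 n59079 = n113656 := d20_1 D59079 F176848 F171300 (iv1 F171277) (iv3 F171273) (iv4 F170954) (iv1 F170852) (iv4 D109398) (iv3 F80396) F170982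
def n113657 : Q := act 5 n52475
theorem D113657 : act 5 n52475 = n113657 := rfl
def n113658 : Q := act 6 n52475
theorem D113658 : act 6 n52475 = n113658 := rfl
def n113659 : Q := act 6 n52476
theorem D113659 : act 6 n52476 = n113659 := rfl
theorem F176852 : act 2 n113659 = n52477 := d3_1 D113659 (iv6 D52477) D52476
def n113660 : Q := act 0 n52477
theorem D113660 : act 0 n52477 = n113660 := rfl
def n113661 : Q := act 1 n52477
theorem D113661 : act 1 n52477 = n113661 := rfl
def n113662 : Q := act 5 n52477
theorem D113662 : act 5 n52477 = n113662 := rfl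
theorem F176853 : act 3 n113662 = n52480 := d6_1 D113662 (iv5 D52480) (iv3 F82851)
def n113663 : Q := act 7 n52477
theorem D113663 : act 7 n52477 = n113663 := rfl
theorem F176854 : act 3 n113663 = n52481 := d8_1 D113663 (iv7 D52481) (iv3 F82851)
def n113664 : Q := act 0 n52480
theorem D113664 : act 0 n52480 = n113664 := rfl
def n113665 : Q := act 1 n52480
theorem D113665 : act 1 n52480 = n113665 := rfl
def n113666 : Q := act 4 n52480
theorem D113666 : act 4 n52480 = n113666 := rfl
def n113667 : Q := act 7 n52480
theorem D113667 : act 7 n52480 = n113667 := rfl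
theorem F176855 : act 5 n113667 = n52481 := d13_1 D113667 (iv7 D52481) D52480
def n113668 : Q := act 3 n52482
theorem D113668 : act 3 n52482 = n113668 := rfl
theorem F176856 : act 4 n113668 = n113247 := d5_2 D52482 D113668 F176445 F82655 F45256
theorem F176857 : act 6 n113668 = n108693 := d7_2 (iv6 F82854) D113668 (iv3 D108693)
theorem F176858 : act 7 n113668 = n113319 := d8_2 (iv7 F82855) D113668 (iv3 D113319)
def n113669 : Q := act 5 n52482
theorem D113669 : act 5 n52482 = n113669 := rfl
theorem F176859 : act 2 n113669 = n112618 := d2_1 D113669 (iv5 D112618) (iv2 F82853)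
theorem F176860 : act 7 n113669 = n113320 := d13_2 (iv7 F82855) D113669 (iv5 D113320)
def n113670 : Q := act 4 n52483
theorem D113670 : act 4 n52483 = n113670 := rfl
theorem F176861 : act 0 n113670 = n92790 := d18_2 F82859 D113670 (iv4 D92790) (iv5 D43410) F32614 D43380 (iv4 F68150) F65416 D48688
def n113671 : Q := act 6 n52483
theorem D113671 : act 6 n52483 = n113671 := rfl
def n113672 : Q := act 4 n52485
theorem D113672 : act 4 n52485 = n113672 := rfl
theorem F176862 : act 1 n113672 = n92790 := d18_6 D76297 (iv4 F114693) (iv1 F114696) F82805 D52485 D113672 (iv4 D92790) (iv0 F114383) (iv5 D76298)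
def n113673 : Q := act 6 n52485
theorem D113673 : act 6 n52485 = n113673 := rfl
def n113674 : Q := act 4 n52487
theorem D113674 : act 4 n52487 = n113674 := rfl
theorem F176863 : act 2 n113674 = n52490 := d1_1 D113674 (iv4 D52490) (iv2 F82870)
theorem F176864 : act 5 n113674 = n59583 := d16_1 D113674 (iv4 F100588) F161536 (iv4 D105339) F76638 F37338 D48684 F76614 (iv2 F82870)
theorem F176865 : act 0 n113674 = n59612 := d17_0 F94023 D64452 F161476 (iv4 D105307) (iv5 D48688) (iv0 F65413) D90494 (iv0 F139269) D113674
def n113675 : Q := act 6 n52487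
theorem D113675 : act 6 n52487 = n113675 := rfl
theorem F176866 : act 2 n113675 = n52491 := d3_1 D113675 (iv6 D52491) (iv2 F82870)
theorem F176867 : act 0 n113675 = n92715 := d21_4 F82932 (iv1 F76599) D52487 D113675 (iv6 D92715) (iv5 D43366) (iv1 D20483) D20484 (iv6 F40312) D52516
theorem F176868 : act 1 n113675 = n102579 := d15_1 (iv0 F176867) (iv7 D102579) (iv2 F142925)
def n113676 : Q := act 4 n52488
theorem D113676 : act 4 n52488 = n113676 := rfl
def n113677 : Q := act 6 n52488
theorem D113677 : act 6 n52488 = n113677 := rfl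
theorem F176869 : act 3 n113677 = n68633 := d7_1 D113677 (iv6 D68633) F82872
theorem F176870 : act 5 n113677 = n52679 := d12_1 D113677 (iv6 D52679) F52200 (iv6 F41342) (iv5 F82871)
def n113678 : Q := act 3 n52489
theorem D113678 : act 3 n52489 = n113678 := rfl
theorem F176871 : act 2 n113678 = n54111 := d0_1 D113678 F85420 (iv2 F85308) (iv3 F139272) F139271
theorem F176872 : act 5 n113678 = n52501 := d6_2 (iv5 F139187) D113678 F82894
theorem F176873 : act 7 n113678 = n54112 := d8_2 F139267 D113678 (iv3 F139266)
theorem F176874 : act 1 n67854 = n113678 := d15_1 F104578 F176873 (iv2 F104574)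
theorem F176875 : act 1 n113678 = n67855 := d15_1 F176874 (iv7 F112652) F112650
def n113679 : Q := act 4 n52489
theorem D113679 : act 4 n52489 = n113679 := rfl
def n113680 : Q := act 6 n52489
theorem D113680 : act 6 n52489 = n113680 := rfl
theorem F176876 : act 0 n102573 = n113680 := d21_4 (iv5 F136283) F136284 (iv5 F74815) D102573 (iv6 D113680) F139187 (iv1 D25491) D25492 F40312 D43368
def n113681 : Q := act 0 n52490
theorem D113681 : act 0 n52490 = n113681 := rfl
theorem F176877 : act 4 n113681 = n92787 := d18_3 (iv1 D52489) D52490 D113681 (iv5 D92787) F68242 (iv0 D25500) F20054 D25491 (iv5 F139187)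
theorem F176878 : act 2 n59612 = n113681 := d15_3 (iv0 D113681) (iv0 F143111) F100054
theorem F176879 : act 5 n113681 = n64454 := d2_2 (iv5 F94023) F176878 (iv2 D64454)
def n113682 : Q := act 6 n52490
theorem D113682 : act 6 n52490 = n113682 := rfl
theorem F176880 : act 4 n113682 = n52491 := d10_1 D113682 (iv6 D52491) D52490
def n113683 : Q := act 1 n52491
theorem D113683 : act 1 n52491 = n113683 := rfl
theorem F176881 : act 7 n113683 = n92715 := d15_2 (iv0 F82934) D113683 F142925
theorem F176882 : act 2 n102579 = n113683 := d4_3 F176881 F142925 D102579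
theorem F176883 : act 1 n113683 = n102578 := d15_0 (iv0 D102578) D102579 F176882
theorem F176884 : act 7 n102578 = n113675 := d15_2 D113683 F176883 F176866
def n113684 : Q := act 7 n52491
theorem D113684 : act 7 n52491 = n113684 := rfl
theorem F176885 : act 2 n113684 = n102578 := d4_1 D113684 F176884 F176866
theorem F176886 : act 3 n113684 = n52494 := d8_1 D113684 (iv7 D52494) (iv3 F82873)
theorem F176887 : act 1 n102579 = n113684 := d15_1 F176868 (iv7 D113684) (iv2 F176866)
theorem F176888 : act 1 n113684 = n92715 := d15_1 F176887 (iv7 F176881) (iv2 F176882)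
def n113685 : Q := act 2 n52492
theorem D113685 : act 2 n52492 = n113685 := rfl
theorem F176889 : act 7 n52493 = n113685 := d15_2 (iv0 D52492) D52493 (iv2 D113685)
def n113686 : Q := act 3 n52492
theorem D113686 : act 3 n52492 = n113686 := rfl
def n113687 : Q := act 4 n52492
theorem D113687 : act 4 n52492 = n113687 := rfl
def n113688 : Q := act 5 n52492
theorem D113688 : act 5 n52492 = n113688 := rfl
def n113689 : Q := act 6 n52492
theorem D113689 : act 6 n52492 = n113689 := rfl
theorem F176890 : act 5 n113689 = n88464 := d21_6 (iv5 D24227) F18618 D12109 D25476 D52492 D113689 (iv1 F135437) F68107 (iv6 D28393) (iv1 F37982)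
theorem F176891 : act 2 n92701 = n113689 := d2_3 F176890 F160267 D92701
theorem F176892 : act 7 n92696 = n113689 := d13_0 F176890 F160268 D92696
theorem E17412 : n113685 = n59834 := (c3_4 F142882 F176891 (iv6 D113689) D113685)
theorem F176893 : act 2 n59834 = n52492 := (sb E17412 (iv2 D113685))
theorem F176894 : act 7 n59834 = n52493 := (sb E17412 (iv7 F176889))
theorem F176895 : act 2 n52493 = n59835 := d15_3 F94251 F94254 F176894
theorem F176896 : act 7 n52492 = n59835 := d4_2 (iv7 F176894) F176893 (iv2 F176895)
def n113690 : Q := act 3 n52493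
theorem D113690 : act 3 n52493 = n113690 := rfl
def n113691 : Q := act 4 n52493
theorem D113691 : act 4 n52493 = n113691 := rfl
def n113692 : Q := act 5 n52493
theorem D113692 : act 5 n52493 = n113692 := rfl
theorem F176897 : act 6 n106522 = n113692 := d21_5 (iv5 D49193) F37528 (iv5 F37557) D49226 D106522 (iv5 D113692) (iv1 D52493) (iv5 F77947) (iv6 D49305) (iv1 F77688)
def n113693 : Q := act 6 n52493
theorem D113693 : act 6 n52493 = n113693 := rfl
def n113694 : Q := act 5 n52495
theorem D113694 : act 5 n52495 = n113694 := rfl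
theorem F176898 : act 2 n113694 = n54859 := d2_1 D113694 (iv5 D54859) (iv2 F82874)
theorem F176899 : act 3 n113694 = n52746 := d6_1 D113694 (iv5 D52746) (iv3 F82925)
theorem F176900 : act 7 n113694 = n52710 := d13_2 (iv7 F82875) D113694 (iv5 D52710)
theorem F176901 : act 0 n71894 = n113694 := d21_1 (iv5 F108387) (iv5 D113694) (iv6 D52495) (iv1 F40272) (iv6 F31816) (iv5 D19984) D19982 (iv5 F40421) D52651 F83810
theorem F176902 : act 1 n71895 = n113694 := d15_1 D71895 F176900 F83295
theorem F176903 : act 2 n106390 = n71895 := d15_3 F176902 (iv0 F176901) (iv7 F163523)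
def n113695 : Q := act 4 n52496
theorem D113695 : act 4 n52496 = n113695 := rfl
theorem F176904 : act 2 n113695 = n52499 := d1_1 D113695 (iv4 D52499) (iv2 F82878)
theorem F176905 : act 7 n113695 = n68832 := d11_2 (iv7 F82879) D113695 (iv4 D68832)
theorem F176906 : act 5 n113695 = n68882 := d16_1 D113695 (iv4 D68882) (iv5 D32037) (iv4 D15114) (iv5 D7183) D7182 D15110 (iv7 F40280) (iv2 F82878)
theorem F176907 : act 0 n113695 = n68853 := d18_2 F82882 D113695 F105041 F104871 F51364 F26896 (iv4 F45894) F45896 (iv5 F82883)
theorem F176908 : act 1 n113695 = n68852 := d18_6 F77057 (iv4 D15097) (iv1 F20654) (iv4 F40273) D52496 D113695 F106063 F106062 (iv5 D52554)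
def n113696 : Q := act 6 n52496
theorem D113696 : act 6 n52496 = n113696 := rfl
theorem F176909 : act 2 n113696 = n52500 := d3_1 D113696 (iv6 D52500) (iv2 F82878)
def n113697 : Q := act 4 n52497
theorem D113697 : act 4 n52497 = n113697 := rfl
theorem F176911 : act 2 n113697 = n68850 := d1_1 D113697 (iv4 D68850) F82886
theorem F176912 : act 7 n113697 = n68848 := d11_2 F82887 D113697 (iv4 D68848)
def n113698 : Q := act 6 n52497
theorem D113698 : act 6 n52497 = n113698 := rfl
theorem F176913 : act 2 n113698 = n68851 := d3_1 D113698 (iv6 D68851) F82886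
theorem F176914 : act 5 n113698 = n54796 := d12_1 D113698 (iv6 D54796) F42426 (iv6 F50629) (iv5 F82884)
def n113699 : Q := act 4 n52498
theorem D113699 : act 4 n52498 = n113699 := rfl
theorem F176915 : act 2 n113699 = n68848 := d1_1 D113699 (iv4 D68848) F82891
theorem F176916 : act 7 n113699 = n68850 := d11_2 (iv7 F82889) D113699 (iv4 D68850)
def n113700 : Q := act 6 n52498
theorem D113700 : act 6 n52498 = n113700 := rfl
theorem F176917 : act 2 n113700 = n68849 := d3_1 D113700 (iv6 D68849) F82891
def n113701 : Q := act 1 n52499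
theorem D113701 : act 1 n52499 = n113701 := rfl
theorem F176918 : act 1 n113701 = n68832 := d15_1 D113701 (iv7 F176905) F176904
theorem F176919 : act 7 n113701 = n68853 := d15_2 F106057 D113701 (iv2 F106055)
theorem F176920 : act 4 n113701 = n59837 := d18_7 F77080 (iv4 D26140) (iv1 D12400) (iv4 F20032) D25480 D52499 D113701 F106049 F106046
theorem F176921 : act 2 n68852 = n113701 := d1_3 F176920 (iv2 F106058) (iv4 F106063)
def n113702 : Q := act 5 n52499
theorem D113702 : act 5 n52499 = n113702 := rfl
theorem F176922 : act 2 n113702 = n68882 := d2_1 D113702 (iv5 F176906) F176904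
theorem F176923 : act 7 n113702 = n68855 := d13_2 (iv7 F82892) D113702 (iv5 D68855)
theorem F176924 : act 4 n113702 = n68834 := d16_2 D52499 D113702 (iv5 D68834) (iv4 D32017) (iv5 D15106) D15105 D32016 (iv7 F82879) F82878
def n113703 : Q := act 6 n52499
theorem D113703 : act 6 n52499 = n113703 := rfl
theorem F176925 : act 4 n113703 = n52500 := d10_1 D113703 (iv6 D52500) D52499
def n113705 : Q := act 1 n52500
theorem D113705 : act 1 n52500 = n113705 := rfl
def n113706 : Q := act 5 n52500
theorem D113706 : act 5 n52500 = n113706 := rfl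
def n113707 : Q := act 7 n52500
theorem D113707 : act 7 n52500 = n113707 := rfl
theorem F176930 : act 6 n113707 = n68859 := d14_1 D113707 (iv7 D68859) (iv6 D32027) (iv7 F40280) D52500
def n113708 : Q := act 4 n52502
theorem D113708 : act 4 n52502 = n113708 := rfl
theorem F176931 : act 2 n113708 = n54115 := d1_1 D113708 (iv4 D54115) (iv2 F82899)
theorem F176932 : act 7 n113708 = n54128 := d11_2 (iv7 F82901) D113708 (iv4 D54128)
def n113709 : Q := act 4 n52503
theorem D113709 : act 4 n52503 = n113709 := rfl
theorem F176934 : act 7 n113709 = n107538 := d11_2 (iv7 F82903) D113709 (iv4 D107538)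
def n113710 : Q := act 6 n52503
theorem D113710 : act 6 n52503 = n113710 := rfl
theorem F176935 : act 3 n113710 = n52504 := d7_1 D113710 (iv6 D52504) D52503
def n113711 : Q := act 0 n52504
theorem D113711 : act 0 n52504 = n113711 := rfl
def n113712 : Q := act 1 n52504
theorem D113712 : act 1 n52504 = n113712 := rfl
theorem F176936 : act 1 n113712 = n113610 := d15_1 D113712 (iv7 D113610) (iv2 F82904)
def n113713 : Q := act 7 n52504
theorem D113713 : act 7 n52504 = n113713 := rfl
theorem F176937 : act 2 n113713 = n113610 := d4_1 D113713 (iv7 D113610) (iv2 F82904)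
theorem F176938 : act 6 n113713 = n107543 := d14_1 D113713 (iv7 D107543) (iv6 D49681) F40288 D52504
theorem F176939 : act 1 n113610 = n113711 := d15_0 (iv0 D113711) D113713 F176937
theorem F176940 : act 1 n113609 = n113713 := d15_1 D113609 (iv7 D113713) F82904
theorem F176941 : act 1 n113713 = n113608 := d15_0 (iv0 D113608) D113610 (iv2 F176937)
def n113714 : Q := act 1 n52505
theorem D113714 : act 1 n52505 = n113714 := rfl
theorem F176942 : act 1 n113714 = n107543 := d15_1 D113714 (iv7 D107543) (iv2 F82905)
theorem F176943 : act 7 n113714 = n106187 := d15_2 (iv0 F163446) D113714 F163509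
theorem F176944 : act 2 n107542 = n113714 := d4_3 F176943 F163509 (iv7 F165922)
theorem F176945 : act 1 n107543 = n106384 := d15_1 F176942 (iv7 F165922) F176944
def n113715 : Q := act 7 n52505
theorem D113715 : act 7 n52505 = n113715 := rfl
theorem F176946 : act 2 n113715 = n107543 := d4_1 D113715 (iv7 D107543) (iv2 F82905)
theorem F176947 : act 5 n113715 = n113037 := d13_1 D113715 (iv7 D113037) (iv5 F82906)
theorem F176948 : act 6 n113715 = n113610 := d14_1 D113715 (iv7 D113610) (iv6 D52447) (iv7 F40290) D52505
theorem F176949 : act 1 n107542 = n113715 := d15_1 D107542 (iv7 D113715) F82905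
theorem F176950 : act 1 n113715 = n106187 := d15_1 F176949 (iv7 F176943) (iv2 F176944)
def n113716 : Q := act 2 n52506
theorem D113716 : act 2 n52506 = n113716 := rfl
theorem F176951 : act 7 n52507 = n113716 := d15_2 (iv0 D52506) D52507 (iv2 D113716)
def n113717 : Q := act 3 n52506
theorem D113717 : act 3 n52506 = n113717 := rfl
def n113718 : Q := act 4 n52506
theorem D113718 : act 4 n52506 = n113718 := rfl
def n113719 : Q := act 5 n52506
theorem D113719 : act 5 n52506 = n113719 := rfl
def n113720 : Q := act 6 n52506
theorem D113720 : act 6 n52506 = n113720 := rfl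
theorem F176952 : act 5 n113720 = n106700 := d21_6 (iv5 D11210) F10306 D12111 D25484 D52506 D113720 (iv1 D106700) F77947 (iv6 D25476) F20031
theorem F176953 : act 0 n106171 = n113720 := d21_10 F176952 (iv1 D106700) F77947 (iv6 D25476) F20031 D23930 F37353 D23937 D49064 D106171
def n113721 : Q := act 7 n52506
theorem D113721 : act 7 n52506 = n113721 := rfl
theorem F176954 : act 2 n113721 = n52507 := d4_1 D113721 F176951 (iv2 D113716)
def n113722 : Q := act 3 n52507
theorem D113722 : act 3 n52507 = n113722 := rfl
def n113723 : Q := act 4 n52507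
theorem D113723 : act 4 n52507 = n113723 := rfl
def n113724 : Q := act 5 n52507
theorem D113724 : act 5 n52507 = n113724 := rfl
def n113725 : Q := act 6 n52507
theorem D113725 : act 6 n52507 = n113725 := rfl
def n113726 : Q := act 0 n52508
theorem D113726 : act 0 n52508 = n113726 := rfl
def n113727 : Q := act 1 n52508
theorem D113727 : act 1 n52508 = n113727 := rfl
def n113728 : Q := act 4 n52508
theorem D113728 : act 4 n52508 = n113728 := rfl
theorem F176955 : act 6 n113728 = n52511 := d10_2 (iv6 F82907) D113728 (iv4 D52511)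
def n113729 : Q := act 7 n52508
theorem D113729 : act 7 n52508 = n113729 := rfl
theorem F176956 : act 5 n113729 = n52509 := d13_1 D113729 (iv7 D52509) D52508
def n113730 : Q := act 4 n52510
theorem D113730 : act 4 n52510 = n113730 := rfl
theorem F176957 : act 2 n113730 = n106101 := d1_1 D113730 F163127 (iv2 F82908)
theorem F176958 : act 5 n113730 = n106101 := d9_2 D52510 D113730 F163127 F77430 F37350 F26388 F22293 D23927 D49045 (iv5 F163122) (iv4 D106098) (iv5 D49044) F37346 (iv5 F27340) (iv4 F40293)
theorem F176959 : act 7 n113730 = n106098 := d11_2 (iv7 F82909) D113730 (iv4 D106098)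
theorem F176960 : act 0 n113730 = n76347 := d17_0 F114459 (iv1 F114442) (iv5 D76341) (iv4 D34874) (iv5 D16906) (iv0 F24851) D32364 (iv0 F82910) D113730
theorem F176961 : act 1 n113730 = n76345 := d18_6 (iv1 F50288) F36969 F27343 (iv4 F40293) D52510 D113730 (iv4 D76345) (iv0 F104867) (iv5 D68654)
def n113731 : Q := act 6 n52510
theorem D113731 : act 6 n52510 = n113731 := rfl
theorem F176962 : act 2 n113731 = n106105 := d3_1 D113731 (iv6 D106105) (iv2 F82908)
theorem F176963 : act 5 n113731 = n52769 := d12_1 D113731 (iv6 D52769) (iv5 D25615) (iv6 F40295) D52510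
def n113732 : Q := act 3 n52511
theorem D113732 : act 3 n52511 = n113732 := rfl
def n113733 : Q := act 4 n52512
theorem D113733 : act 4 n52512 = n113733 := rfl
theorem F176964 : act 2 n113733 = n68547 := d1_1 D113733 (iv4 D68547) (iv2 F82913)
theorem F176965 : act 5 n113733 = n68547 := d16_1 D113733 (iv4 D68547) (iv5 D31891) (iv4 D15014) F20039 D25489 D52513 F82917 (iv2 F82913)
theorem F176966 : act 0 n113733 = n69727 := d17_0 F106101 (iv1 F106093) (iv5 D69721) (iv4 D32360) (iv5 D15248) D15247 D32357 (iv0 F82914) D113733
theorem F176967 : act 1 n113733 = n69724 := d18_6 F26921 F20034 D12113 D25488 D52512 D113733 (iv4 D69724) F51389 (iv5 D23927)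
def n113734 : Q := act 6 n52512
theorem D113734 : act 6 n52512 = n113734 := rfl
theorem F176968 : act 2 n113734 = n68548 := d3_1 D113734 (iv6 D68548) (iv2 F82913)
theorem F176969 : act 5 n113734 = n52788 := d12_1 D113734 (iv6 D52788) (iv5 D25623) (iv6 F40304) D52512
def n113735 : Q := act 4 n52513
theorem D113735 : act 4 n52513 = n113735 := rfl
theorem F176970 : act 7 n113735 = n68547 := d11_2 (iv7 F82917) D113735 (iv4 D68547)
theorem F176971 : act 0 n113735 = n69724 := d17_0 F106099 (iv1 D69719) D69721 F106090 F55228 F27750 D32354 (iv0 F82918) D113735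
theorem F176972 : act 1 n113735 = n69727 := d18_6 (iv1 F40297) (iv4 F37343) F27813 D25489 D52513 D113735 (iv4 D69727) (iv0 F82910) (iv5 D52510)
def n113736 : Q := act 6 n52513
theorem D113736 : act 6 n52513 = n113736 := rfl
theorem F176973 : act 3 n113736 = n68814 := d7_1 D113736 (iv6 D68814) (iv3 F82916)
theorem F176974 : act 5 n113736 = n70289 := d12_1 D113736 (iv6 D70289) (iv5 D32622) (iv6 F40307) D52513
def n113737 : Q := act 5 n52515
theorem D113737 : act 5 n52515 = n113737 := rfl
theorem F176975 : act 3 n113737 = n71844 := d6_1 D113737 (iv5 D71844) (iv3 F82920)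
theorem F176976 : act 7 n113737 = n52729 := d13_2 (iv7 F82921) D113737 (iv5 D52729)
theorem F176977 : act 0 n113737 = n76290 := d17_2 (iv1 F114232) D113737 F114336 (iv4 D43432) D43433 F143176 F143175 F83433 (iv4 F114228)
theorem F176978 : act 1 n113737 = n92814 := d17_6 (iv1 F82985) D90591 F139482 (iv5 D52746) (iv4 F82923) D113737 (iv5 D92814) (iv0 F94979) F67740
def n113738 : Q := act 4 n52516
theorem D113738 : act 4 n52516 = n113738 := rfl
theorem F176979 : act 2 n113738 = n113672 := d1_1 D113738 (iv4 D113672) F82929
theorem F176980 : act 7 n113738 = n113670 := d11_2 F82930 D113738 (iv4 D113670)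
theorem F176981 : act 1 n113738 = n90571 := d18_6 F82963 (iv4 F55325) D76520 F114687 (iv5 F82932) D113738 (iv4 D90571) D90570 F139401
def n113739 : Q := act 6 n52516
theorem D113739 : act 6 n52516 = n113739 := rfl
theorem F176982 : act 2 n113739 = n113673 := d3_1 D113739 (iv6 D113673) F82929
theorem F176983 : act 5 n113739 = n94454 := d12_1 D113739 (iv6 F145636) F139270 F95744 (iv5 F82932)
def n113740 : Q := act 4 n52517
theorem D113740 : act 4 n52517 = n113740 := rfl
theorem F176984 : act 2 n113740 = n113670 := d1_1 D113740 (iv4 D113670) (iv2 F82927)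
theorem F176985 : act 7 n113740 = n113672 := d11_2 (iv7 F82928) D113740 (iv4 D113672)
theorem F176986 : act 5 n113740 = n64829 := d16_1 D113740 (iv4 D64829) D64830 (iv4 F139184) F139183 F114687 (iv5 F82932) (iv7 F82930) (iv2 F82927)
theorem F176987 : act 0 n113740 = n90571 := d18_2 (iv1 F139287) D113740 (iv4 D90571) (iv5 D42395) F31846 D42285 F65306 F65427 (iv5 F139286)
theorem F176988 : act 5 n59700 = n113672 := d13_3 (iv7 F176985) F176986 (iv7 F102793)
theorem F176989 : act 3 n113672 = n59701 := d6_1 F176988 (iv5 D59701) D59700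
def n113742 : Q := act 0 n52518
theorem D113742 : act 0 n52518 = n113742 := rfl
theorem F176993 : act 5 n113742 = n64533 := d17_1 D113742 (iv1 F100477) (iv5 F176864) (iv4 D113674) (iv5 D52487) F76599 (iv5 F82932) (iv0 D52516) D52518
theorem F176994 : act 4 n113742 = n92789 := d18_3 (iv1 D52517) D52518 D113742 F143112 (iv4 F106071) (iv0 D49038) F37338 D48682 F82926
theorem F176995 : act 2 n64534 = n113742 := d15_3 (iv0 D113742) F114384 (iv7 F100479)
def n113743 : Q := act 2 n52519
theorem D113743 : act 2 n52519 = n113743 := rfl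
theorem F176996 : act 7 n52520 = n113743 := d15_2 (iv0 D52519) D52520 (iv2 D113743)
def n113744 : Q := act 3 n52519
theorem D113744 : act 3 n52519 = n113744 := rfl
def n113745 : Q := act 4 n52519
theorem D113745 : act 4 n52519 = n113745 := rfl
theorem F176997 : act 0 n113745 = n113354 := d18_2 D52519 D113745 F176551 F83016 (iv4 F70047) (iv0 F142871) (iv4 D92695) (iv0 D43361) (iv5 F40314)
theorem E17413 : n113744 = n90422 := ((c20_5 (iv4 F139212) (iv1 D90451) (iv4 D42300) (iv3 F65284) D90422 (iv3 D113744) D113745 F176997 F176551 F83015 (iv1 F68277))).symm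
theorem F176998 : act 3 n90422 = n52519 := (sb E17413 (iv3 D113744))
def n113746 : Q := act 5 n52519
theorem D113746 : act 5 n52519 = n113746 := rfl
def n113747 : Q := act 6 n52519
theorem D113747 : act 6 n52519 = n113747 := rfl
theorem F176999 : act 5 n113747 = n113638 := d21_6 F37413 (iv1 F18232) D12117 D25493 D52519 D113747 (iv1 D113638) (iv5 D52462) (iv6 D25459) (iv1 F37415)
def n113748 : Q := act 7 n52519
theorem D113748 : act 7 n52519 = n113748 := rfl
theorem F177000 : act 2 n113748 = n52520 := d4_1 D113748 F176996 (iv2 D113743)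
def n113749 : Q := act 3 n52520
theorem D113749 : act 3 n52520 = n113749 := rfl
def n113750 : Q := act 4 n52520
theorem D113750 : act 4 n52520 = n113750 := rfl
theorem F177001 : act 0 n113750 = n59167 := d18_2 (iv1 F94266) D113750 F93363 F76627 (iv4 F70043) F142881 (iv4 D92700) F135445 F135441
theorem F177002 : act 1 n113750 = n113354 := d15_1 (iv0 F177001) (iv7 D113354) (iv2 F93362)
def n113751 : Q := act 5 n52520
theorem D113751 : act 5 n52520 = n113751 := rfl
theorem F177003 : act 6 n113751 = n52662 := d21_3 F135441 (iv1 F94266) D113751 (iv1 F83213) (iv6 F67737) (iv5 F142192) (iv1 F142197) (iv5 F142874) (iv6 D92697) (iv1 F135443)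
theorem F177004 : act 4 n95576 = n113751 := d10_3 F177003 (iv4 F83215) D95576
def n113752 : Q := act 6 n52520
theorem D113752 : act 6 n52520 = n113752 := rfl
def n113753 : Q := act 0 n52523
theorem D113753 : act 0 n52523 = n113753 := rfl
def n113754 : Q := act 1 n52523
theorem D113754 : act 1 n52523 = n113754 := rfl
theorem F177005 : act 1 n113754 = n113607 := d15_1 D113754 (iv7 D113607) (iv2 F82945)
def n113755 : Q := act 7 n52523
theorem D113755 : act 7 n52523 = n113755 := rfl
theorem F177006 : act 2 n113755 = n113607 := d4_1 D113755 (iv7 D113607) (iv2 F82945)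
theorem F177007 : act 5 n113755 = n79103 := d13_1 D113755 (iv7 D79103) (iv5 F82946)
theorem F177008 : act 6 n113755 = n112701 := d14_1 D113755 (iv7 D112701) (iv6 D52019) (iv7 F40328) D52523
theorem F177009 : act 1 n113607 = n113753 := d15_0 (iv0 D113753) D113755 F177006
theorem F177010 : act 1 n113606 = n113755 := d15_1 D113606 (iv7 D113755) F82945
theorem F177011 : act 1 n113755 = n113605 := d15_0 (iv0 D113605) D113607 (iv2 F177006)
def n113756 : Q := act 2 n52524
theorem D113756 : act 2 n52524 = n113756 := rfl
theorem F177012 : act 7 n52525 = n113756 := d15_2 (iv0 D52524) D52525 (iv2 D113756)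
def n113757 : Q := act 3 n52524
theorem D113757 : act 3 n52524 = n113757 := rfl
def n113758 : Q := act 4 n52524
theorem D113758 : act 4 n52524 = n113758 := rfl
def n113759 : Q := act 5 n52524
theorem D113759 : act 5 n52524 = n113759 := rfl
def n113760 : Q := act 6 n52524
theorem D113760 : act 6 n52524 = n113760 := rfl
theorem F177013 : act 5 n113760 = n106489 := d21_6 (iv5 D5752) D5749 D12121 D25497 D52524 D113760 (iv1 D106489) F77704 (iv6 D25527) (iv1 D12132)
theorem F177014 : act 0 n53046 = n113760 := d21_10 F177013 (iv1 D106489) F77704 (iv6 D25527) (iv1 D12132) D12134 F20063 D12217 D25736 D53046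
def n113761 : Q := act 7 n52524
theorem D113761 : act 7 n52524 = n113761 := rfl
theorem F177015 : act 2 n113761 = n52525 := d4_1 D113761 F177012 (iv2 D113756)
def n113762 : Q := act 3 n52525
theorem D113762 : act 3 n52525 = n113762 := rfl
def n113763 : Q := act 4 n52525
theorem D113763 : act 4 n52525 = n113763 := rfl
def n113764 : Q := act 5 n52525
theorem D113764 : act 5 n52525 = n113764 := rfl
def n113765 : Q := act 6 n52525
theorem D113765 : act 6 n52525 = n113765 := rfl
def n113766 : Q := act 0 n52526
theorem D113766 : act 0 n52526 = n113766 := rfl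
def n113767 : Q := act 1 n52526
theorem D113767 : act 1 n52526 = n113767 := rfl
def n113768 : Q := act 4 n52526
theorem D113768 : act 4 n52526 = n113768 := rfl
theorem F177016 : act 6 n113768 = n52528 := d10_2 (iv6 F82947) D113768 (iv4 D52528)
def n113769 : Q := act 7 n52526
theorem D113769 : act 7 n52526 = n113769 := rfl
theorem F177017 : act 5 n113769 = n52527 := d13_1 D113769 (iv7 D52527) D52526
def n113770 : Q := act 3 n52528
theorem D113770 : act 3 n52528 = n113770 := rfl
def n113771 : Q := act 6 n52530
theorem D113771 : act 6 n52530 = n113771 := rfl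
theorem F177018 : act 4 n113771 = n64365 := d10_1 D113771 (iv6 D64365) (iv4 F82951)
theorem F177019 : act 5 n113771 = n52811 := d12_1 D113771 (iv6 D52811) (iv5 D25633) (iv6 F55130) D52530
def n113772 : Q := act 5 n52532
theorem D113772 : act 5 n52532 = n113772 := rfl
theorem F177020 : act 3 n113772 = n52533 := d6_1 D113772 (iv5 D52533) D52532
theorem F177021 : act 0 n52565 = n113772 := d21_1 (iv5 F165917) (iv5 D113772) (iv6 F163365) (iv1 D106294) (iv6 D49128) (iv5 F51703) (iv1 F106557) F106555 D106281 F165915
def n113773 : Q := act 4 n52533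
theorem D113773 : act 4 n52533 = n113773 := rfl
theorem F177022 : act 2 n113773 = n63950 := d1_1 D113773 (iv4 F139349) F139346
theorem F177023 : act 5 n113773 = n63949 := d9_2 D52533 D113773 (iv4 F100381) (iv5 F176879) F176877 (iv5 D92787) F68242 D52530 F82951 (iv5 D30313) (iv4 F48652) D64255 (iv4 F143109) (iv5 D92788) (iv4 F68246)
theorem F177024 : act 7 n113773 = n64361 := d11_2 F139342 D113773 (iv4 F139344)
theorem F177025 : act 0 n113773 = n64568 := d17_0 (iv5 D64568) (iv1 D30389) D30391 D64574 (iv5 F100510) (iv0 D49087) (iv5 F40358) (iv0 F139188) D113773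
theorem F177026 : act 1 n113773 = n64363 := d18_6 (iv1 F65415) (iv4 F65473) (iv1 F68245) (iv4 F68246) D52533 D113773 F114700 (iv0 F114702) (iv5 D68841)
theorem E17414 : n64568 = n64364 := ((c15_1 D64364 (iv0 F177025) F177024 F100307)).symm
theorem F177027 : act 1 n64364 = n113773 := (sb E17414 (iv0 F177025))
theorem F177028 : act 5 n64364 = n30389 := (sb E17414 (iv5 D64568))
theorem F177029 : act 3 n64476 = n113773 := d6_3 F177023 F99478 D64476
def n113774 : Q := act 6 n52533
theorem D113774 : act 6 n52533 = n113774 := rfl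
theorem F177030 : act 0 n92901 = n113774 := d21_4 (iv5 F69034) (iv1 F142292) F142296 (iv6 F143276) (iv6 D113774) (iv5 D52533) (iv1 D25501) D25502 F40333 D43419
def n113775 : Q := act 6 n52535
theorem D113775 : act 6 n52535 = n113775 := rfl
def n113776 : Q := act 3 n52536
theorem D113776 : act 3 n52536 = n113776 := rfl
theorem F177031 : act 5 n113776 = n106096 := d6_2 (iv5 F82955) D113776 (iv3 D106096)
theorem F177032 : act 0 n52545 = n113776 := d21_1 D52545 F177031 F163113 (iv1 D69678) (iv6 F83116) (iv5 F105276) F105278 (iv5 D52875) (iv6 F83032) (iv1 D52544)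
def n113777 : Q := act 6 n52536
theorem D113777 : act 6 n52536 = n113777 := rfl
def n113778 : Q := act 1 n52537
theorem D113778 : act 1 n52537 = n113778 := rfl
theorem F177033 : act 4 n113778 = n52674 := d18_7 (iv1 F65303) F65306 (iv1 D25491) (iv4 F20054) D25502 D52537 D113778 (iv0 F85423) (iv5 D54113)
def n113779 : Q := act 5 n52537
theorem D113779 : act 5 n52537 = n113779 := rfl
theorem F177034 : act 4 n113779 = n64253 := d18_5 (iv1 F106598) F106580 (iv1 D52536) D52537 D113779 F100385 F100381 F99480 D64354
def n113780 : Q := act 3 n52538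
theorem D113780 : act 3 n52538 = n113780 := rfl
def n113781 : Q := act 4 n52538
theorem D113781 : act 4 n52538 = n113781 := rfl
def n113782 : Q := act 5 n52538
theorem D113782 : act 5 n52538 = n113782 := rfl
theorem F177035 : act 7 n113782 = n94259 := d13_2 (iv7 F161506) D113782 F161497
def n113783 : Q := act 6 n52538
theorem D113783 : act 6 n52538 = n113783 := rfl
def n113784 : Q := act 3 n52539
theorem D113784 : act 3 n52539 = n113784 := rfl
theorem F177036 : act 5 n113784 = n94234 := d6_2 F114614 D113784 F145294
theorem F177037 : act 0 n88479 = n113784 := d20_4 (iv4 F139406) (iv1 F139407) (iv4 D88480) (iv3 F135463) (iv3 D113784) (iv4 F176623) (iv1 D113436) F82738 F40313 D43368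
theorem F177038 : act 1 n92774 = n113784 := d15_0 (iv0 F177037) F135464 (iv2 F143092)
def n113785 : Q := act 6 n52539
theorem D113785 : act 6 n52539 = n113785 := rfl
def n113786 : Q := act 4 n52541
theorem D113786 : act 4 n52541 = n113786 := rfl
theorem F177039 : act 2 n113786 = n52576 := d1_1 D113786 F83088 (iv2 F83017)
theorem F177040 : act 7 n113786 = n52563 := d11_2 (iv7 F83018) D113786 (iv4 D52563)
theorem F177041 : act 5 n113786 = n54186 := d16_1 D113786 (iv4 D54186) (iv5 D26211) (iv4 D12432) (iv5 D5911) (iv4 F8853) D12129 D25522 (iv2 F83017)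
theorem F177042 : act 0 n113786 = n52572 := d18_2 (iv1 F83020) D113786 F112655 (iv5 D75131) (iv4 D34406) F27312 (iv4 F49851) F82782 (iv5 F83021)
theorem F177043 : act 1 n113786 = n52571 := d15_0 (iv0 D52571) D52576 (iv2 F177039)
def n113787 : Q := act 6 n52541
theorem D113787 : act 6 n52541 = n113787 := rfl
theorem F177044 : act 2 n113787 = n52580 := d3_1 D113787 (iv6 D52580) (iv2 F83017)
theorem F177045 : act 5 n113787 = n72091 := d12_1 D113787 (iv6 D72091) (iv5 D33285) F40340 D52541
def n113788 : Q := act 4 n52543
theorem D113788 : act 4 n52543 = n113788 := rfl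
theorem F177046 : act 2 n113788 = n52549 := d1_1 D113788 (iv4 D52549) (iv2 F83028)
theorem F177047 : act 7 n113788 = n52558 := d11_2 (iv7 F83029) D113788 (iv4 D52558)
theorem F177048 : act 0 n113788 = n78906 := d18_2 F103890 D113788 (iv4 D78906) (iv5 D35921) F50464 (iv0 F49934) F82790 F82788 D67846
def n113790 : Q := act 5 n52544
theorem D113790 : act 5 n52544 = n113790 := rfl
theorem F177050 : act 3 n113790 = n92787 := d6_1 D113790 (iv5 D92787) F83031
theorem F177051 : act 0 n113790 = n52565 := d17_2 F138862 D113790 F165917 (iv4 D107537) F163265 (iv0 D106239) (iv5 D49098) (iv0 F77085) (iv4 F138860)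
def n113791 : Q := act 1 n52545
theorem D113791 : act 1 n52545 = n113791 := rfl
def n113792 : Q := act 4 n52545
theorem D113792 : act 4 n52545 = n113792 := rfl
theorem F177052 : act 0 n113792 = n113709 := d20_7 (iv4 F40203) (iv1 F49859) (iv4 D31518) (iv3 F49855) (iv1 F82799) (iv3 F83033) D113792 (iv4 D113709) (iv3 D52503) (iv1 F40286)
theorem F177053 : act 3 n92789 = n113791 := d20_9 D113792 F177052 (iv4 D113709) (iv3 D52503) (iv1 F40286) (iv3 F40311) D52518 D113742 F176994 (iv1 D113791)
def n113793 : Q := act 6 n52545
theorem D113793 : act 6 n52545 = n113793 := rfl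
def n113794 : Q := act 5 n52546
theorem D113794 : act 5 n52546 = n113794 := rfl
theorem F177055 : act 2 n113794 = n53972 := d2_1 D113794 F85149 F83036
theorem F177056 : act 3 n113794 = n67964 := d6_1 D113794 F104078 (iv3 F83035)
theorem F177057 : act 7 n113794 = n59849 := d13_2 (iv7 F83037) D113794 (iv5 D59849)
theorem F177058 : act 0 n113794 = n54176 := d17_2 D52546 D113794 F85503 F82790 F82795 F83019 (iv5 D52541) (iv0 D25504) D25507
theorem F177059 : act 1 n113794 = n54172 := d17_6 F50462 D67855 (iv1 F176875) F176872 (iv4 F83034) D113794 F85495 (iv0 D31611) (iv4 F50464)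
def n113795 : Q := act 6 n52547
theorem D113795 : act 6 n52547 = n113795 := rfl
theorem F177060 : act 2 n113795 = n59852 := d3_1 D113795 (iv6 D59852) (iv2 F83039)
theorem F177061 : act 3 n113795 = n76539 := d7_1 D113795 (iv6 D76539) (iv3 F83040)
def n113799 : Q := act 5 n52549
theorem D113799 : act 5 n52549 = n113799 := rfl
theorem F177068 : act 4 n113799 = n54185 := d16_2 D52549 D113799 F103914 (iv4 F103913) (iv5 D52556) (iv4 D25512) D25513 (iv7 F83029) F83028
def n113801 : Q := act 7 n52549
theorem D113801 : act 7 n52549 = n113801 := rfl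
theorem F177071 : act 4 n113801 = n52551 := d11_1 D113801 (iv7 D52551) D52549
def n113804 : Q := act 5 n52550
theorem D113804 : act 5 n52550 = n113804 := rfl
theorem F177073 : act 6 n113804 = n52552 := d12_2 D52550 D113804 (iv5 D52552) (iv6 D25509) D25508
def n113806 : Q := act 6 n52551
theorem D113806 : act 6 n52551 = n113806 := rfl
theorem F177074 : act 2 n113806 = n52559 := d3_1 D113806 (iv6 D52559) (iv2 F83046)
theorem F177075 : act 3 n113806 = n92575 := d7_1 D113806 (iv6 F163260) F163259
theorem F177076 : act 5 n113806 = n87962 := d12_1 D113806 (iv6 D87962) F83051 (iv6 D52553) (iv5 F83047)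
def n113807 : Q := act 4 n52552
theorem D113807 : act 4 n52552 = n113807 := rfl
theorem F177077 : act 0 n113807 = n113697 := d18_2 (iv1 F106061) D113807 (iv4 D113697) F82884 (iv4 F85121) F85124 (iv4 F97649) F97651 (iv5 F106060)
theorem F177078 : act 1 n113807 = n113699 := d18_6 (iv1 F40276) (iv4 F41329) F77025 F77023 D52552 D113807 (iv4 D113699) F82888 (iv5 D32016)
def n113808 : Q := act 4 n52554
theorem D113808 : act 4 n52554 = n113808 := rfl
theorem F177079 : act 0 n113808 = n113699 := d18_2 (iv1 F104874) D113808 (iv4 D113699) F82890 (iv4 F45891) D31590 (iv4 F103881) (iv0 F103884) (iv5 F104871)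
theorem F177080 : act 1 n113808 = n113697 := d18_6 D25477 (iv4 F50119) (iv1 F77075) F77077 D52554 D113808 (iv4 D113697) (iv0 D52497) (iv5 D25480)
def n113809 : Q := act 6 n52554
theorem D113809 : act 6 n52554 = n113809 := rfl
theorem F177081 : act 3 n113809 = n52559 := d7_1 D113809 (iv6 D52559) (iv3 F83055)
theorem F177082 : act 5 n113809 = n87956 := d12_1 D113809 (iv6 D87956) F83058 (iv6 D52555) D52554
def n113810 : Q := act 6 n52556
theorem D113810 : act 6 n52556 = n113810 := rfl
theorem F177083 : act 3 n113810 = n59868 := d7_1 D113810 (iv6 D59868) (iv3 F83061)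
def n113812 : Q := act 5 n52558
theorem D113812 : act 5 n52558 = n113812 := rfl
theorem F177084 : act 4 n113812 = n54184 := d9_1 D113812 F103910 F103907 (iv5 D52547) (iv4 D25507) D25508 D52549 D113799 F177068 F103914 (iv4 F103913) (iv5 D52556) (iv4 D25512) D25513 D52558
def n113814 : Q := act 0 n52559
theorem D113814 : act 0 n52559 = n113814 := rfl
def n113815 : Q := act 1 n52559
theorem D113815 : act 1 n52559 = n113815 := rfl
def n113816 : Q := act 7 n52559
theorem D113816 : act 7 n52559 = n113816 := rfl
def n113817 : Q := act 3 n52561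
theorem D113817 : act 3 n52561 = n113817 := rfl
theorem F177086 : act 5 n113817 = n67844 := d6_2 (iv5 F83073) D113817 (iv3 D67844)
theorem F177087 : act 7 n113817 = n52568 := d8_2 F83075 D113817 (iv3 D52568)
theorem F177088 : act 2 n113817 = n68812 := d15_3 (iv0 D68812) F83084 (iv7 F177087)
theorem F177089 : act 0 n54033 = n113817 := d17_2 F77080 D54033 F177086 F103881 D67926 (iv0 F105035) (iv5 D68842) (iv0 F77027) D48898
theorem F177090 : act 1 n54030 = n113817 := d17_6 (iv1 F26918) (iv5 F20702) F41424 (iv5 D26139) D26138 D54030 F177086 (iv0 F103884) F51364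
def n113818 : Q := act 4 n52561
theorem D113818 : act 4 n52561 = n113818 := rfl
theorem F177091 : act 2 n113818 = n52566 := d1_1 D113818 (iv4 D52566) F83074
theorem F177092 : act 7 n113818 = n52569 := d11_2 F83075 D113818 (iv4 D52569)
def n113819 : Q := act 6 n52561
theorem D113819 : act 6 n52561 = n113819 := rfl
theorem F177093 : act 2 n113819 = n52567 := d3_1 D113819 (iv6 D52567) F83074
def n113820 : Q := act 3 n52562
theorem D113820 : act 3 n52562 = n113820 := rfl
theorem F177094 : act 5 n113820 = n67843 := d6_2 (iv5 F83078) D113820 (iv3 D67843)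
theorem F177095 : act 7 n113820 = n52565 := d8_2 (iv7 F83077) D113820 (iv3 D52565)
theorem F177096 : act 4 n113820 = n106249 := d20_6 (iv4 F45877) F45878 F36922 (iv3 F40351) (iv1 F83076) D113820 (iv1 D106249) (iv4 D49101) F37403 (iv1 F36955)
def n113821 : Q := act 4 n52562
theorem D113821 : act 4 n52562 = n113821 := rfl
theorem F177097 : act 2 n113821 = n52569 := d1_1 D113821 (iv4 D52569) F83079
theorem F177098 : act 7 n113821 = n52566 := d11_2 (iv7 F83077) D113821 (iv4 D52566)
def n113822 : Q := act 6 n52562
theorem D113822 : act 6 n52562 = n113822 := rfl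
theorem F177099 : act 2 n113822 = n52570 := d3_1 D113822 (iv6 D52570) F83079
theorem F177100 : act 5 n113822 = n110748 := d12_1 D113822 (iv6 D110748) (iv5 D51058) (iv6 F55493) (iv5 F83078)
def n113823 : Q := act 0 n52563
theorem D113823 : act 0 n52563 = n113823 := rfl
theorem F177101 : act 4 n113823 = n67855 := d18_3 (iv1 D52562) D52563 D113823 (iv5 D67855) (iv4 D31522) F26735 (iv4 F28383) F49850 (iv5 F83078)
theorem F177102 : act 1 n52576 = n113823 := d15_0 (iv0 D113823) (iv7 F177040) F177039
theorem F177103 : act 7 n52572 = n113823 := d11_0 F177101 (iv7 F112652) (iv4 F112655)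
theorem F177104 : act 2 n113823 = n52571 := d15_3 (iv0 D52571) D52572 F177103
def n113824 : Q := act 1 n52563
theorem D113824 : act 1 n52563 = n113824 := rfl
theorem F177105 : act 1 n113824 = n52576 := d15_1 D113824 (iv7 D52576) (iv2 F83080)
theorem F177106 : act 7 n113824 = n52571 := d15_2 (iv0 D113823) D113824 (iv2 F177104)
theorem F177107 : act 4 n113824 = n67854 := d18_7 (iv1 F82896) F41566 F26926 (iv4 F20056) D25517 D52563 D113824 F176874 F176872
theorem F177108 : act 2 n52572 = n113824 := d1_3 F177107 (iv2 F112650) (iv4 F112655)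
def n113825 : Q := act 3 n52563
theorem D113825 : act 3 n52563 = n113825 := rfl
def n113826 : Q := act 5 n52563
theorem D113826 : act 5 n52563 = n113826 := rfl
theorem F177109 : act 2 n113826 = n52574 := d2_1 D113826 (iv5 D52574) (iv2 F83080)
theorem F177110 : act 7 n113826 = n54186 := d13_2 F177040 D113826 (iv5 F177041)
def n113827 : Q := act 6 n52563
theorem D113827 : act 6 n52563 = n113827 := rfl
theorem F177112 : act 2 n113827 = n52575 := d3_1 D113827 (iv6 D52575) (iv2 F83080)
theorem F177113 : act 4 n113827 = n52564 := d10_1 D113827 (iv6 D52564) D52563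
def n113828 : Q := act 0 n52564
theorem D113828 : act 0 n52564 = n113828 := rfl
def n113829 : Q := act 1 n52564
theorem D113829 : act 1 n52564 = n113829 := rfl
theorem F177114 : act 1 n113829 = n52579 := d15_1 D113829 (iv7 D52579) (iv2 F83081)
def n113830 : Q := act 7 n52564
theorem D113830 : act 7 n52564 = n113830 := rfl
theorem F177115 : act 2 n113830 = n52579 := d4_1 D113830 (iv7 D52579) (iv2 F83081)
theorem F177116 : act 5 n113830 = n52927 := d13_1 D113830 (iv7 D52927) (iv5 F83082)
theorem F177117 : act 1 n52579 = n113828 := d15_0 (iv0 D113828) D113830 F177115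
theorem F177118 : act 1 n52578 = n113830 := d15_1 D52578 (iv7 D113830) F83081
def n113831 : Q := act 2 n52565
theorem D113831 : act 2 n52565 = n113831 := rfl
theorem F177120 : act 3 n113831 = n68812 := d0_2 D52565 D113831 (iv2 F177088) (iv3 D113817) (iv2 F83074)
theorem F177121 : act 5 n113831 = n69687 := d2_2 (iv5 F165917) D113831 (iv2 F165911)
theorem F177122 : act 4 n106248 = n113831 := d18_3 (iv1 D49100) D49101 D106248 F177121 F106044 (iv0 D59803) F45852 D59804 F94167
def n113832 : Q := act 4 n52565
theorem D113832 : act 4 n52565 = n113832 := rfl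
theorem F177123 : act 2 n113832 = n106248 := d1_1 D113832 F177122 (iv2 D113831)
theorem F177124 : act 7 n113832 = n106249 := d11_2 F177095 D113832 (iv4 F177096)
theorem F177125 : act 0 n113832 = n106253 := d18_2 F177051 D113832 F163287 F77518 F37405 F77491 F77492 D52544 D113790
theorem F177126 : act 1 n113832 = n106241 := d18_6 F77961 F40374 (iv1 F78482) D107537 (iv5 F165917) D113832 (iv4 D106241) D106240 (iv5 F163271)
def n113833 : Q := act 6 n52565
theorem D113833 : act 6 n52565 = n113833 := rfl
theorem F177127 : act 3 n113833 = n52567 := d7_1 D113833 (iv6 D52567) D52565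
def n113834 : Q := act 0 n52566
theorem D113834 : act 0 n52566 = n113834 := rfl
theorem F177128 : act 4 n113834 = n113678 := d18_3 D25518 D52566 D113834 F176872 (iv4 F83034) (iv0 D52546) (iv4 D25507) (iv0 D12126) D12129
theorem F177129 : act 1 n52569 = n113834 := d15_0 (iv0 D113834) (iv7 F177098) F177097
def n113835 : Q := act 1 n52566
theorem D113835 : act 1 n52566 = n113835 := rfl
theorem F177130 : act 1 n113835 = n52569 := d15_1 D113835 (iv7 F177092) F177091
theorem F177131 : act 4 n113835 = n68410 := d18_7 (iv1 F50463) F50464 D31611 F82783 (iv5 F83021) D52566 D113835 F104578 (iv5 D67854)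
def n113836 : Q := act 3 n52566
theorem D113836 : act 3 n52566 = n113836 := rfl
def n113837 : Q := act 5 n52566
theorem D113837 : act 5 n52566 = n113837 := rfl
theorem F177132 : act 4 n113837 = n54177 := d16_2 D52566 D113837 (iv5 D54177) D54176 F85503 F82790 F82795 F83075 (iv2 F83074)
def n113838 : Q := act 6 n52566
theorem D113838 : act 6 n52566 = n113838 := rfl
def n113839 : Q := act 0 n52567
theorem D113839 : act 0 n52567 = n113839 := rfl
def n113840 : Q := act 1 n52567
theorem D113840 : act 1 n52567 = n113840 := rfl
def n113841 : Q := act 5 n52567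
theorem D113841 : act 5 n52567 = n113841 := rfl
theorem F177134 : act 6 n113841 = n71274 := d12_2 D52567 D113841 (iv5 F176771) (iv6 D113602) (iv5 F83021)
def n113842 : Q := act 7 n52567
theorem D113842 : act 7 n52567 = n113842 := rfl
def n113843 : Q := act 2 n52568
theorem D113843 : act 2 n52568 = n113843 := rfl
theorem F177135 : act 5 n113843 = n62615 := d2_2 (iv5 F83083) D113843 F97648
theorem F177136 : act 7 n113843 = n68812 := d4_2 F177087 D113843 (iv2 F177088)
theorem F177137 : act 1 n113843 = n54030 := d15_0 F177090 F177087 D113843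
theorem F177138 : act 1 n54033 = n113843 := d15_0 F177137 F85242 (iv2 F85248)
def n113844 : Q := act 4 n52568
theorem D113844 : act 4 n52568 = n113844 := rfl
theorem F177139 : act 0 n113844 = n113616 := d18_2 F83085 D113844 (iv4 D113616) F82814 (iv4 F41329) F77076 F77077 F77058 D32013
theorem F177140 : act 1 n113844 = n113614 := d18_6 D25454 F50627 (iv1 F85119) (iv4 F85115) (iv5 F83083) D113844 (iv4 D113614) (iv0 D52453) (iv5 D25457)
def n113845 : Q := act 6 n52568
theorem D113845 : act 6 n52568 = n113845 := rfl
theorem F177141 : act 3 n113845 = n52570 := d7_1 D113845 (iv6 D52570) D52568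
def n113846 : Q := act 3 n52569
theorem D113846 : act 3 n52569 = n113846 := rfl
def n113847 : Q := act 5 n52569
theorem D113847 : act 5 n52569 = n113847 := rfl
theorem F177142 : act 4 n113847 = n54173 := d9_1 D113847 (iv5 D54173) D54172 F85495 F82783 (iv5 F83021) D52566 D113837 F177132 (iv5 D54177) D54176 F85503 F82790 F82795 D52569
def n113848 : Q := act 6 n52569
theorem D113848 : act 6 n52569 = n113848 := rfl
def n113849 : Q := act 0 n52570
theorem D113849 : act 0 n52570 = n113849 := rfl
def n113850 : Q := act 1 n52570
theorem D113850 : act 1 n52570 = n113850 := rfl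
def n113851 : Q := act 5 n52570
theorem D113851 : act 5 n52570 = n113851 := rfl
theorem F177144 : act 2 n113851 = n110748 := d2_1 D113851 (iv5 F177100) F177099
theorem F177145 : act 6 n113851 = n108300 := d12_2 D52570 D113851 (iv5 D108300) (iv6 F82792) F82795
def n113852 : Q := act 7 n52570
theorem D113852 : act 7 n52570 = n113852 := rfl
def n113853 : Q := act 3 n52571
theorem D113853 : act 3 n52571 = n113853 := rfl
def n113854 : Q := act 4 n52571
theorem D113854 : act 4 n52571 = n113854 := rfl
theorem F177146 : act 2 n113854 = n67855 := d1_1 D113854 (iv4 F177101) F177104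
theorem F177147 : act 7 n113854 = n67854 := d11_2 F177106 D113854 (iv4 F177107)
theorem F177148 : act 5 n113854 = n52635 := d18_4 (iv1 D25519) D25520 D52571 D113854 F83158 (iv0 D26049) (iv4 F40237) D52444 F82795
theorem F177149 : act 1 n113854 = n54112 := d18_8 (iv1 D26185) (iv4 D12419) D12416 (iv4 F40337) D52541 D113786 F177043 D113854 (iv5 D54112)
theorem F177150 : act 1 n54111 = n113854 := d15_0 F177149 (iv7 F176873) F176871
def n113855 : Q := act 5 n52571
theorem D113855 : act 5 n52571 = n113855 := rfl
theorem F177151 : act 4 n113855 = n54164 := d16_2 (iv4 D113854) D113855 (iv5 D54164) (iv4 D26206) F41535 D34406 D75131 F112652 (iv2 F177146)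
def n113856 : Q := act 6 n52571
theorem D113856 : act 6 n52571 = n113856 := rfl
def n113857 : Q := act 3 n52572
theorem D113857 : act 3 n52572 = n113857 := rfl
def n113858 : Q := act 5 n52572
theorem D113858 : act 5 n52572 = n113858 := rfl
theorem F177152 : act 4 n113858 = n54157 := d9_1 D113858 (iv5 D54157) (iv4 D26204) (iv5 F41539) (iv4 F83158) (iv5 F177148) (iv4 D113854) D113855 F177151 (iv5 D54164) (iv4 D26206) F41535 D34406 D75131 (iv4 F112655)
def n113859 : Q := act 6 n52572
theorem D113859 : act 6 n52572 = n113859 := rfl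
def n113860 : Q := act 0 n52573
theorem D113860 : act 0 n52573 = n113860 := rfl
def n113861 : Q := act 1 n52573
theorem D113861 : act 1 n52573 = n113861 := rfl
def n113862 : Q := act 2 n52573
theorem D113862 : act 2 n52573 = n113862 := rfl
theorem F177153 : act 4 n113862 = n52600 := d1_2 (iv4 F83086) D113862 (iv2 D52600)
def n113863 : Q := act 5 n52573
theorem D113863 : act 5 n52573 = n113863 := rfl
theorem F177154 : act 3 n113863 = n52574 := d6_1 D113863 (iv5 D52574) D52573
def n113864 : Q := act 6 n52573
theorem D113864 : act 6 n52573 = n113864 := rfl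
theorem F177155 : act 3 n113864 = n52575 := d7_1 D113864 (iv6 D52575) D52573
def n113865 : Q := act 0 n52574
theorem D113865 : act 0 n52574 = n113865 := rfl
theorem F177157 : act 5 n113865 = n54115 := d17_3 (iv1 D52572) D52574 D113865 (iv4 D54115) (iv5 D26187) D26185 D54112 (iv0 F112654) (iv4 F112655)
theorem F177158 : act 4 n54131 = n113865 := d16_2 D26195 D54131 F177157 (iv4 D54115) (iv5 D26187) (iv4 D12419) D12420 D26191 F41570
theorem F177159 : act 1 n54186 = n113865 := d17_6 (iv1 F82799) (iv5 D25508) D25504 D52541 D113786 F177041 F177157 (iv0 F103892) (iv4 D67847)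
def n113866 : Q := act 1 n52574
theorem D113866 : act 1 n52574 = n113866 := rfl
theorem F177161 : act 5 n113866 = n54128 := d17_7 F82944 (iv5 D25513) (iv1 D12127) D12129 D25520 D52574 D113866 (iv0 F120215) (iv4 D79030)
theorem F177162 : act 4 n54121 = n113866 := d9_15 F177161 (iv4 D54128) (iv5 D26193) (iv4 D12424) D12425 D26195 D54131 F177158 F177157 (iv4 D54115) (iv5 D26187) (iv4 D12419) D12420 D26189 D54121
def n113867 : Q := act 4 n52574
theorem D113867 : act 4 n52574 = n113867 := rfl
theorem F177164 : act 5 n113867 = n54105 := d9_2 D52574 D113867 (iv4 D54105) (iv5 D26178) (iv4 F40337) D52541 D113786 F177041 (iv4 D54186) (iv5 D26211) (iv4 D12432) (iv5 D5911) (iv4 F8853) D12129 D25520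
theorem F177165 : act 0 n113867 = n54185 := d18_2 (iv1 D113866) D113867 (iv4 F177068) (iv5 D113799) (iv4 D52549) F82799 D67847 F103893 (iv5 F177161)
def n113868 : Q := act 6 n52574
theorem D113868 : act 6 n52574 = n113868 := rfl
def n113869 : Q := act 7 n52574
theorem D113869 : act 7 n52574 = n113869 := rfl
theorem F177168 : act 2 n113869 = n54186 := d4_1 D113869 (iv7 F177110) F177109
theorem F177170 : act 5 n113869 = n52576 := d13_1 D113869 (iv7 D52576) D52574
def n113870 : Q := act 0 n52575
theorem D113870 : act 0 n52575 = n113870 := rfl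
def n113871 : Q := act 1 n52575
theorem D113871 : act 1 n52575 = n113871 := rfl
def n113872 : Q := act 5 n52575
theorem D113872 : act 5 n52575 = n113872 := rfl
def n113873 : Q := act 7 n52575
theorem D113873 : act 7 n52575 = n113873 := rfl
theorem F177171 : act 4 n113873 = n52579 := d11_1 D113873 (iv7 D52579) (iv4 F83087)
def n113874 : Q := act 6 n52576
theorem D113874 : act 6 n52576 = n113874 := rfl
theorem F177172 : act 4 n113874 = n52580 := d10_1 D113874 (iv6 D52580) (iv4 F83088)
def n113875 : Q := act 2 n52577
theorem D113875 : act 2 n52577 = n113875 := rfl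
def n113876 : Q := act 3 n52577
theorem D113876 : act 3 n52577 = n113876 := rfl
def n113877 : Q := act 4 n52577
theorem D113877 : act 4 n52577 = n113877 := rfl
def n113878 : Q := act 5 n52577
theorem D113878 : act 5 n52577 = n113878 := rfl
def n113879 : Q := act 6 n52577
theorem D113879 : act 6 n52577 = n113879 := rfl
def n113880 : Q := act 7 n52577
theorem D113880 : act 7 n52577 = n113880 := rfl
def n113883 : Q := act 5 n52578
theorem D113883 : act 5 n52578 = n113883 := rfl
def n113885 : Q := act 6 n52579
theorem D113885 : act 6 n52579 = n113885 := rfl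
theorem F177176 : act 3 n113885 = n52616 := d7_1 D113885 (iv6 D52616) (iv3 F83089)
theorem F177177 : act 7 n113885 = n52580 := d14_2 D52579 D113885 (iv6 D52580) (iv7 D25522) D25521
def n113886 : Q := act 0 n52580
theorem D113886 : act 0 n52580 = n113886 := rfl
def n113887 : Q := act 1 n52580
theorem D113887 : act 1 n52580 = n113887 := rfl
def n113888 : Q := act 5 n52580
theorem D113888 : act 5 n52580 = n113888 := rfl
theorem F177178 : act 2 n113888 = n72091 := d2_1 D113888 (iv5 F177045) F177044
theorem F177179 : act 3 n113888 = n52619 := d6_1 D113888 (iv5 D52619) (iv3 F83091)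
theorem F177180 : act 6 n113888 = n52582 := d12_2 D52580 D113888 (iv5 D52582) (iv6 D25523) (iv5 F40352)
def n113889 : Q := act 5 n52581
theorem D113889 : act 5 n52581 = n113889 := rfl
theorem F177181 : act 2 n113889 = n52974 := d2_1 D113889 (iv5 D52974) (iv2 F83095)
theorem F177182 : act 3 n113889 = n52917 := d6_1 D113889 F83616 (iv3 F83096)
theorem F177183 : act 7 n113889 = n52902 := d13_2 (iv7 F83093) D113889 (iv5 D52902)
theorem F177184 : act 0 n113889 = n76490 := d17_2 (iv1 F83092) D113889 (iv5 D76490) F55305 F52443 F52442 F25597 (iv0 F27016) (iv4 F40558)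
def n113890 : Q := act 0 n52582
theorem D113890 : act 0 n52582 = n113890 := rfl
theorem F177185 : act 5 n113890 = n69688 := d17_3 (iv1 D52581) D52582 D113890 (iv4 F115163) F115160 F115168 (iv5 D71943) (iv0 F52477) F83094
theorem F177186 : act 1 n52870 = n113890 := d15_0 (iv0 D113890) F83099 (iv2 F83529)
theorem F177187 : act 2 n52977 = n113890 := d2_3 F177185 F114654 (iv5 F114656)
theorem F177188 : act 7 n52976 = n113890 := d13_0 F177185 F106045 F95773
def n113891 : Q := act 1 n52582
theorem D113891 : act 1 n52582 = n113891 := rfl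
theorem F177189 : act 1 n113891 = n52870 := d15_1 D113891 F83530 (iv2 F83097)
theorem F177190 : act 7 n113891 = n52977 := d15_2 (iv0 D113890) D113891 F177187
theorem F177191 : act 5 n113891 = n62616 := d17_7 (iv1 F52534) D34303 F54435 (iv5 D26218) (iv4 F40355) D52582 D113891 (iv0 F108572) (iv4 D72111)
theorem F177192 : act 2 n52976 = n113891 := d2_3 F177191 F97653 F95773
theorem F177193 : act 3 n71275 = n113891 := d6_3 F177191 F97654 (iv5 F107769)
def n113892 : Q := act 4 n52582
theorem D113892 : act 4 n52582 = n113892 := rfl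
theorem F177194 : act 2 n113892 = n72090 := d1_1 D113892 (iv4 D72090) (iv2 F83097)
theorem F177195 : act 7 n113892 = n52978 := d11_2 (iv7 F83099) D113892 (iv4 D52978)
def n113893 : Q := act 4 n52583
theorem D113893 : act 4 n52583 = n113893 := rfl
theorem F177196 : act 2 n113893 = n52584 := d1_1 D113893 (iv4 D52584) D52583
def n113894 : Q := act 6 n52583
theorem D113894 : act 6 n52583 = n113894 := rfl
theorem F177197 : act 2 n113894 = n52585 := d3_1 D113894 (iv6 D52585) D52583
def n113895 : Q := act 5 n52584
theorem D113895 : act 5 n52584 = n113895 := rfl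
def n113896 : Q := act 6 n52584
theorem D113896 : act 6 n52584 = n113896 := rfl
theorem F177198 : act 4 n113896 = n52585 := d10_1 D113896 (iv6 D52585) D52584
def n113897 : Q := act 0 n52585
theorem D113897 : act 0 n52585 = n113897 := rfl
def n113898 : Q := act 1 n52585
theorem D113898 : act 1 n52585 = n113898 := rfl
def n113899 : Q := act 5 n52585
theorem D113899 : act 5 n52585 = n113899 := rfl
theorem F177199 : act 3 n113899 = n52588 := d6_1 D113899 (iv5 D52588) (iv3 F83101)
theorem F177200 : act 6 n113899 = n59807 := d12_2 D52585 D113899 (iv5 D59807) (iv6 D28361) (iv5 F40357)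
def n113900 : Q := act 7 n52585
theorem D113900 : act 7 n52585 = n113900 := rfl
theorem F177201 : act 3 n113900 = n52589 := d8_1 D113900 (iv7 D52589) (iv3 F83101)
def n113901 : Q := act 2 n52586
theorem D113901 : act 2 n52586 = n113901 := rfl
theorem F177202 : act 7 n52587 = n113901 := d15_2 (iv0 D52586) D52587 (iv2 D113901)
def n113902 : Q := act 3 n52586
theorem D113902 : act 3 n52586 = n113902 := rfl
def n113903 : Q := act 4 n52586
theorem D113903 : act 4 n52586 = n113903 := rfl
def n113904 : Q := act 5 n52586
theorem D113904 : act 5 n52586 = n113904 := rfl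
def n113905 : Q := act 6 n52586
theorem D113905 : act 6 n52586 = n113905 := rfl
def n113906 : Q := act 7 n52586
theorem D113906 : act 7 n52586 = n113906 := rfl
theorem F177203 : act 2 n113906 = n52587 := d4_1 D113906 F177202 (iv2 D113901)
def n113907 : Q := act 3 n52587
theorem D113907 : act 3 n52587 = n113907 := rfl
def n113908 : Q := act 4 n52587
theorem D113908 : act 4 n52587 = n113908 := rfl
def n113909 : Q := act 5 n52587
theorem D113909 : act 5 n52587 = n113909 := rfl
def n113910 : Q := act 6 n52587
theorem D113910 : act 6 n52587 = n113910 := rfl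
def n113911 : Q := act 0 n52588
theorem D113911 : act 0 n52588 = n113911 := rfl
theorem F177204 : act 6 n113911 = n52852 := d21_5 F40549 F40258 D28362 (iv6 F83102) D113911 (iv5 D52852) (iv1 D25651) D25652 F40547 D25654
def n113912 : Q := act 1 n52588
theorem D113912 : act 1 n52588 = n113912 := rfl
theorem F177205 : act 5 n113783 = n113912 := d21_6 F36999 (iv1 F18051) D12124 D25503 D52538 D113783 (iv1 D113912) (iv5 D52588) (iv6 D25525) (iv1 F37001)
def n113913 : Q := act 4 n52588
theorem D113913 : act 4 n52588 = n113913 := rfl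
theorem F177206 : act 6 n113913 = n59808 := d10_2 (iv6 F83102) D113913 (iv4 D59808)
def n113914 : Q := act 7 n52588
theorem D113914 : act 7 n52588 = n113914 := rfl
theorem F177207 : act 5 n113914 = n52589 := d13_1 D113914 (iv7 D52589) D52588
def n113915 : Q := act 4 n52592
theorem D113915 : act 4 n52592 = n113915 := rfl
theorem F177208 : act 2 n113915 = n52593 := d1_1 D113915 (iv4 D52593) D52592
theorem F177209 : act 5 n113915 = n64826 := d9_2 (iv5 F83103) D113915 F100667 F161455 (iv4 D105300) (iv5 D48684) (iv4 F37338) (iv5 F76638) D105339 (iv5 F161536) F100588 (iv5 F176864) (iv4 D113674) (iv5 D52487) (iv4 F77476)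
theorem F177210 : act 1 n113915 = n64859 := d18_6 D76520 F114687 (iv1 F76599) (iv4 F77476) (iv5 F83103) D113915 (iv4 F142970) F142969 (iv5 D76522)
def n113916 : Q := act 6 n52592
theorem D113916 : act 6 n52592 = n113916 := rfl
theorem F177211 : act 2 n113916 = n52594 := d3_1 D113916 (iv6 D52594) D52592
theorem F177212 : act 5 n113916 = n94270 := d12_1 D113916 (iv6 D94270) F82956 F77698 (iv5 F83103)
theorem F177213 : act 0 n113916 = n92759 := d21_4 (iv5 F106583) (iv1 F77478) (iv5 F83103) D113916 (iv6 D92759) (iv5 D43393) F66710 D20530 (iv6 F40333) D52535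
theorem F177214 : act 1 n113916 = n104415 := d15_1 (iv0 F177213) (iv7 D104415) (iv2 F143051)
def n113917 : Q := act 0 n52593
theorem D113917 : act 0 n52593 = n113917 := rfl
theorem F177215 : act 4 n113917 = n90427 := d18_3 F139188 D52593 D113917 (iv5 D90427) (iv4 F65299) (iv0 D25490) (iv4 F20054) D25501 D52533
theorem F177216 : act 7 n64859 = n113917 := d11_0 F177215 (iv7 F142968) F142970
theorem F177217 : act 3 n113917 = n64849 := d19_3 D42284 D90427 (iv4 F177215) (iv1 F100689) F48892 F24114 F11278 (iv1 F9002) D12322 F20456 (iv3 F20591) F26567 (iv5 D7926) F5625 (iv3 F5621) D7917 D16959 F37343 F37345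
theorem E17415 : n64853 = n64849 := ((c8_2 F177216 F177217 (iv7 F100693) D64859)).symm
theorem F177218 : act 2 n64849 = n30485 := (sb E17415 (iv2 D64853))
theorem F177219 : act 7 n64849 = n30486 := (sb E17415 (iv7 F100693))
theorem F177220 : act 7 n64325 = n109593 := d13_2 F177219 (iv5 F169581) (iv5 F169671)
theorem E17416 : n64858 = n64850 := (c15_4 F100690 F100689 F177219 (iv2 F100694))
theorem F177221 : act 2 n64850 = n30486 := (sb E17416 F100694)
theorem F177222 : act 7 n64850 = n30485 := (sb E17416 (iv7 D64858))
theorem F177223 : act 7 n64324 = n109592 := d13_2 F177222 (iv5 F103147) (iv5 F169575)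
theorem F177224 : act 2 n109592 = n64325 := d15_3 F169580 F169579 F177223
theorem F177225 : act 2 n64324 = n109593 := d4_1 (iv7 F177223) (iv7 F177220) (iv2 F177224)
theorem F177226 : act 2 n67645 = n66051 := d1_3 F169571 F177224 (iv4 F103664)
theorem F177227 : act 7 n66052 = n67645 := d15_2 (iv0 D66051) D66052 F177226
theorem F177228 : act 3 n67649 = n66052 := d8_3 F177227 (iv3 D67645) D67649
theorem E17417 : n66052 = n65655 := ((c11_4 F177227 F103664 F177220 (iv4 F169572))).symm
theorem F177229 : act 0 n65655 = n30896 := (sb E17417 (iv1 D66052))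
theorem E17418 : n67649 = n30757 := ((((iv3 D65655)).symm.trans (sb E17417 (iv3 F177228)))).symm
theorem F177230 : act 7 n65655 = n67645 := (sb E17417 F177227)
theorem E17419 : n65654 = n31418 := ((D65654).symm.trans (sb E17418 F103666))
theorem E17420 : n105839 = n28340 := ((((iv5 F162508)).symm.trans (sb E17418 (iv5 F169585)))).symm
theorem E17421 : n65659 = n31417 := ((D65659).symm.trans (sb E17418 (iv7 D67649)))
theorem F177231 : act 2 n31418 = n30757 := (sb E17419 (iv2 D65654))
theorem E17422 : n59740 = n48927 := (((F169586).symm.trans (sb E17419 F162509))).symm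
theorem E17423 : n67644 = n30758 := ((F103663).symm.trans (sb E17419 (iv7 F101389)))
theorem E17424 : n59745 = n48926 := ((D59745).symm.trans (sb E17420 (iv7 D105839)))
theorem F177232 : act 7 n31417 = n30757 := (sb E17421 (iv7 D65659))
theorem F177233 : act 2 n48927 = n28340 := (sb E17422 (iv2 D59740))
theorem E17425 : n105835 = n28341 := ((F162532).symm.trans (sb E17422 (iv7 F94114)))
theorem F177234 : act 2 n30758 = n31417 := (sb E17423 (iv2 D67644))
theorem F177235 : act 7 n30758 = n31418 := (sb E17423 (iv7 F103663))
theorem F177236 : act 7 n48926 = n28340 := (sb E17424 (iv7 D59745))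
theorem F177238 : act 7 n28341 = n48927 := (sb E17425 (iv7 F162532))
theorem F177239 : act 7 n105840 = n59746 := d8_2 F177238 D105840 (iv3 D59746)
theorem F177241 : act 7 n65660 = n67650 := d13_2 F177239 (iv5 F162513) (iv5 F169587)
theorem F177244 : act 7 n59741 = n67203 := d8_2 F177236 D59741 (iv3 F103152)
theorem E17426 : n67196 = n54180 := (c11_3 F177244 (iv4 D67203) F103150 (iv4 F94115))
theorem F177247 : act 2 n54180 = n31271 := (sb E17426 (iv2 D67196))
theorem F177248 : act 7 n54180 = n31272 := (sb E17426 (iv7 F103150))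
theorem E17427 : n67201 = n54179 := (c15_4 (iv0 D54179) D54180 F177248 (iv2 F103151))
theorem F177249 : act 2 n54179 = n31272 := (sb E17427 F103151)
theorem F177250 : act 7 n54179 = n31271 := (sb E17427 (iv7 D67201))
theorem F177251 : act 2 n67198 = n59741 := d1_3 F94115 F177247 D67198
theorem F177252 : act 7 n67651 = n65661 := d11_2 F177235 D67651 (iv4 D65661)
theorem F177253 : act 2 n67646 = n65661 := d1_3 (iv4 D65661) F177234 D67646
theorem F177254 : act 2 n67648 = n65663 := d3_3 (iv6 D65663) F177234 D67648
theorem F177256 : act 7 n65656 = n67646 := d11_2 F177232 D65656 (iv4 D67646)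
theorem F177257 : act 2 n67651 = n65656 := d4_3 F177256 F177253 (iv7 F177252)
theorem F177258 : act 1 n67651 = n67741 := d15_0 (iv0 F103776) (iv7 F177256) (iv2 F177257)
theorem F177259 : act 0 n67650 = n107447 := d20_10 (iv4 D107447) (iv1 F78396) F50035 (iv3 F41256) (iv1 F41260) D31452 D67741 (iv1 F177258) (iv4 D67651) D67650
theorem F177261 : act 0 n66055 = n64813 := d17_2 F177229 D66055 (iv5 D64813) (iv4 D30474) D30475 (iv0 F103082) F100613 D109593 (iv4 F169572)
theorem F177262 : act 1 n66055 = n64832 := d15_1 (iv0 F177261) F102832 F102831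
def n113918 : Q := act 1 n52593
theorem D113918 : act 1 n52593 = n113918 := rfl
theorem F177263 : act 4 n90428 = n113918 := d20_6 D12133 (iv1 F40212) F40214 (iv3 F40247) D52453 (iv3 F139180) (iv1 D113918) (iv4 D52593) (iv3 D25526) (iv1 D12132)
theorem F177264 : act 2 n113918 = n64859 := d1_1 F177263 (iv4 F142970) F142967
def n113919 : Q := act 5 n52593
theorem D113919 : act 5 n52593 = n113919 := rfl
theorem F177265 : act 2 n113919 = n64826 := d2_1 D113919 (iv5 F177209) F177208
theorem F177266 : act 3 n113919 = n64012 := d6_1 D113919 F176456 F176454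
theorem F177267 : act 7 n113919 = n64710 := d13_2 F161534 D113919 F161536
theorem F177268 : act 4 n113919 = n64532 := d18_5 (iv1 F177026) (iv4 D113773) F139188 D52593 D113919 F100476 (iv4 F99556) F99558 (iv5 F114701)
theorem F177269 : act 0 n64828 = n113919 := d20_10 F177268 (iv1 D64532) F48811 (iv3 D14433) D14431 D30385 F48822 D51239 D111103 (iv3 F172300)
theorem E17428 : n111104 = n68118 := ((c19_17 F177269 (iv5 D113919) (iv4 D52593) (iv3 D25526) (iv1 D12132) (iv5 D5752) (iv4 D2408) F2078 D1163 D2489 (iv4 F8383) F10300 D11374 F18571 D14920 D31716 D68118 (iv5 D111104) D111103 (iv3 F172300))).symm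
theorem F177270 : act 2 n68118 = n110743 := (sb E17428 F172302)
theorem F177271 : act 5 n68118 = n51239 := (sb E17428 (iv5 D111104))
theorem F177272 : act 7 n68118 = n110741 := (sb E17428 F172303)
theorem E17429 : n111107 = n68119 := (c15_4 F165708 F165706 F177272 (iv2 F172310))
theorem F177273 : act 2 n68119 = n110741 := (sb E17429 F172310)
theorem F177274 : act 5 n68119 = n51240 := (sb E17429 (iv5 D111107))
theorem F177275 : act 7 n68119 = n110743 := (sb E17429 F172311)
theorem E17430 : n64827 = n64710 := (c15_2 (iv0 D64826) D64827 (iv7 F177267) F177265)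
theorem F177276 : act 0 n64710 = n30478 := (sb E17430 (iv1 D64827))
def n113920 : Q := act 6 n52593
theorem D113920 : act 6 n52593 = n113920 := rfl
theorem F177277 : act 4 n113920 = n52594 := d10_1 D113920 (iv6 D52594) D52593
def n113921 : Q := act 1 n52594
theorem D113921 : act 1 n52594 = n113921 := rfl
theorem F177278 : act 7 n113921 = n92759 := d15_2 (iv0 F139352) D113921 F143051
theorem F177279 : act 2 n104415 = n113921 := d4_3 F177278 F143051 D104415
theorem F177280 : act 1 n113921 = n104413 := d15_0 (iv0 D104413) D104415 F177279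
theorem F177281 : act 7 n104413 = n113916 := d15_2 D113921 F177280 F177211
def n113922 : Q := act 7 n52594
theorem D113922 : act 7 n52594 = n113922 := rfl
theorem F177282 : act 2 n113922 = n104413 := d4_1 D113922 F177281 F177211
theorem F177283 : act 3 n113922 = n52597 := d8_1 D113922 (iv7 D52597) (iv3 F83104)
theorem F177284 : act 1 n104415 = n113922 := d15_1 F177214 (iv7 D113922) (iv2 F177211)
theorem F177285 : act 1 n113922 = n92759 := d15_1 F177284 (iv7 F177278) (iv2 F177279)
def n113923 : Q := act 2 n52595
theorem D113923 : act 2 n52595 = n113923 := rfl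
theorem F177286 : act 7 n52596 = n113923 := d15_2 (iv0 D52595) D52596 (iv2 D113923)
def n113924 : Q := act 3 n52595
theorem D113924 : act 3 n52595 = n113924 := rfl
def n113925 : Q := act 4 n52595
theorem D113925 : act 4 n52595 = n113925 := rfl
def n113926 : Q := act 5 n52595
theorem D113926 : act 5 n52595 = n113926 := rfl
def n113927 : Q := act 6 n52595
theorem D113927 : act 6 n52595 = n113927 := rfl
theorem F177287 : act 5 n113927 = n92797 := d21_6 (iv5 D25249) F19810 (iv5 F20062) D25527 D52595 D113927 (iv1 D92797) (iv5 F76627) (iv6 D48692) (iv1 F39805)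
theorem F177288 : act 2 n92804 = n113927 := d2_3 F177287 F160550 D92804
theorem F177289 : act 7 n92801 = n113927 := d13_0 F177287 F160551 D92801
theorem E17431 : n113923 = n105347 := (c3_4 F161552 F177288 (iv6 D113927) D113923)
theorem F177290 : act 2 n105347 = n52595 := (sb E17431 (iv2 D113923))
theorem F177291 : act 7 n105347 = n52596 := (sb E17431 (iv7 F177286))
theorem F177292 : act 2 n52596 = n105348 := d15_3 F161553 F161556 F177291
theorem F177293 : act 7 n52595 = n105348 := d4_2 (iv7 F177291) F177290 (iv2 F177292)
def n113928 : Q := act 3 n52596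
theorem D113928 : act 3 n52596 = n113928 := rfl
def n113929 : Q := act 4 n52596
theorem D113929 : act 4 n52596 = n113929 := rfl
def n113930 : Q := act 5 n52596
theorem D113930 : act 5 n52596 = n113930 := rfl
theorem F177294 : act 6 n106671 = n113930 := d21_5 (iv5 D29674) (iv1 F23556) D24055 D49287 D106671 (iv5 D113930) (iv1 D52596) (iv5 F77704) (iv6 D49208) (iv1 F47694)
def n113931 : Q := act 6 n52596
theorem D113931 : act 6 n52596 = n113931 := rfl
def n113932 : Q := act 2 n52598
theorem D113932 : act 2 n52598 = n113932 := rfl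
theorem F177295 : act 7 n52599 = n113932 := d15_2 (iv0 D52598) D52599 (iv2 D113932)
def n113933 : Q := act 3 n52598
theorem D113933 : act 3 n52598 = n113933 := rfl
def n113934 : Q := act 4 n52598
theorem D113934 : act 4 n52598 = n113934 := rfl
def n113935 : Q := act 5 n52598
theorem D113935 : act 5 n52598 = n113935 := rfl
def n113936 : Q := act 6 n52598
theorem D113936 : act 6 n52598 = n113936 := rfl
def n113937 : Q := act 7 n52598
theorem D113937 : act 7 n52598 = n113937 := rfl
theorem F177296 : act 2 n113937 = n52599 := d4_1 D113937 F177295 (iv2 D113932)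
def n113938 : Q := act 3 n52599
theorem D113938 : act 3 n52599 = n113938 := rfl
def n113939 : Q := act 4 n52599
theorem D113939 : act 4 n52599 = n113939 := rfl
def n113940 : Q := act 5 n52599
theorem D113940 : act 5 n52599 = n113940 := rfl
def n113941 : Q := act 6 n52599
theorem D113941 : act 6 n52599 = n113941 := rfl
def n113942 : Q := act 6 n52600
theorem D113942 : act 6 n52600 = n113942 := rfl
theorem F177297 : act 2 n113942 = n52601 := d3_1 D113942 (iv6 D52601) D52600
def n113943 : Q := act 0 n52601
theorem D113943 : act 0 n52601 = n113943 := rfl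
def n113944 : Q := act 1 n52601
theorem D113944 : act 1 n52601 = n113944 := rfl
def n113945 : Q := act 5 n52601
theorem D113945 : act 5 n52601 = n113945 := rfl
theorem F177298 : act 3 n113945 = n52604 := d6_1 D113945 (iv5 D52604) (iv3 F83105)
def n113946 : Q := act 7 n52601
theorem D113946 : act 7 n52601 = n113946 := rfl
theorem F177299 : act 3 n113946 = n52605 := d8_1 D113946 (iv7 D52605) (iv3 F83105)
def n113947 : Q := act 2 n52602
theorem D113947 : act 2 n52602 = n113947 := rfl
theorem F177300 : act 7 n52603 = n113947 := d15_2 (iv0 D52602) D52603 (iv2 D113947)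
def n113948 : Q := act 3 n52602
theorem D113948 : act 3 n52602 = n113948 := rfl
def n113949 : Q := act 4 n52602
theorem D113949 : act 4 n52602 = n113949 := rfl
def n113950 : Q := act 5 n52602
theorem D113950 : act 5 n52602 = n113950 := rfl
def n113951 : Q := act 6 n52602
theorem D113951 : act 6 n52602 = n113951 := rfl
def n113952 : Q := act 7 n52602
theorem D113952 : act 7 n52602 = n113952 := rfl
theorem F177301 : act 2 n113952 = n52603 := d4_1 D113952 F177300 (iv2 D113947)
def n113953 : Q := act 3 n52603
theorem D113953 : act 3 n52603 = n113953 := rfl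
def n113954 : Q := act 4 n52603
theorem D113954 : act 4 n52603 = n113954 := rfl
def n113955 : Q := act 5 n52603
theorem D113955 : act 5 n52603 = n113955 := rfl
def n113956 : Q := act 6 n52603
theorem D113956 : act 6 n52603 = n113956 := rfl
def n113957 : Q := act 0 n52604
theorem D113957 : act 0 n52604 = n113957 := rfl
def n113958 : Q := act 1 n52604
theorem D113958 : act 1 n52604 = n113958 := rfl
def n113959 : Q := act 4 n52604
theorem D113959 : act 4 n52604 = n113959 := rfl
def n113960 : Q := act 7 n52604
theorem D113960 : act 7 n52604 = n113960 := rfl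
theorem F177302 : act 5 n113960 = n52605 := d13_1 D113960 (iv7 D52605) D52604
def n113962 : Q := act 1 n52606
theorem D113962 : act 1 n52606 = n113962 := rfl
theorem F177304 : act 1 n113962 = n52611 := d15_1 D113962 (iv7 D52611) D52606
def n113963 : Q := act 3 n52606
theorem D113963 : act 3 n52606 = n113963 := rfl
theorem F177305 : act 7 n113963 = n52612 := d8_2 F83107 D113963 (iv3 D52612)
def n113964 : Q := act 4 n52606
theorem D113964 : act 4 n52606 = n113964 := rfl
theorem F177306 : act 2 n113964 = n52608 := d1_1 D113964 (iv4 D52608) D52606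
theorem F177307 : act 7 n113964 = n52613 := d11_2 F83107 D113964 (iv4 D52613)
def n113965 : Q := act 5 n52606
theorem D113965 : act 5 n52606 = n113965 := rfl
theorem F177308 : act 2 n113965 = n52609 := d2_1 D113965 (iv5 D52609) D52606
theorem F177309 : act 7 n113965 = n52614 := d13_2 F83107 D113965 (iv5 D52614)
def n113966 : Q := act 6 n52606
theorem D113966 : act 6 n52606 = n113966 := rfl
theorem F177310 : act 2 n113966 = n52610 := d3_1 D113966 (iv6 D52610) D52606
def n113967 : Q := act 0 n52607
theorem D113967 : act 0 n52607 = n113967 := rfl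
def n113968 : Q := act 1 n52607
theorem D113968 : act 1 n52607 = n113968 := rfl
def n113969 : Q := act 2 n52607
theorem D113969 : act 2 n52607 = n113969 := rfl
def n113970 : Q := act 4 n52607
theorem D113970 : act 4 n52607 = n113970 := rfl
def n113971 : Q := act 5 n52607
theorem D113971 : act 5 n52607 = n113971 := rfl
theorem F177311 : act 3 n113971 = n52609 := d6_1 D113971 (iv5 D52609) D52607
def n113972 : Q := act 6 n52607
theorem D113972 : act 6 n52607 = n113972 := rfl
theorem F177312 : act 3 n113972 = n52610 := d7_1 D113972 (iv6 D52610) D52607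
def n113973 : Q := act 7 n52607
theorem D113973 : act 7 n52607 = n113973 := rfl
theorem F177313 : act 3 n113973 = n52611 := d8_1 D113973 (iv7 D52611) D52607
def n113974 : Q := act 0 n52608
theorem D113974 : act 0 n52608 = n113974 := rfl
def n113975 : Q := act 1 n52608
theorem D113975 : act 1 n52608 = n113975 := rfl
theorem F177314 : act 1 n113975 = n52613 := d15_1 D113975 (iv7 F177307) F177306
def n113976 : Q := act 3 n52608
theorem D113976 : act 3 n52608 = n113976 := rfl
def n113977 : Q := act 5 n52608
theorem D113977 : act 5 n52608 = n113977 := rfl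
def n113978 : Q := act 6 n52608
theorem D113978 : act 6 n52608 = n113978 := rfl
theorem F177315 : act 4 n113978 = n52610 := d10_1 D113978 (iv6 D52610) D52608
def n113979 : Q := act 7 n52608
theorem D113979 : act 7 n52608 = n113979 := rfl
theorem F177316 : act 2 n113979 = n52613 := d4_1 D113979 (iv7 F177307) F177306
theorem F177317 : act 4 n113979 = n52611 := d11_1 D113979 (iv7 D52611) D52608
theorem F177318 : act 1 n52613 = n113974 := d15_0 (iv0 D113974) D113979 F177316
def n113980 : Q := act 0 n52609
theorem D113980 : act 0 n52609 = n113980 := rfl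
theorem F177319 : act 5 n113980 = n113785 := d21_2 D52609 D113980 (iv6 D113785) (iv1 D52539) (iv6 D25503) (iv5 D12124) (iv1 D5750) D5752 D12134 D25530
theorem F177320 : act 6 n76473 = n113980 := d12_0 F177319 (iv6 D113785) (iv5 F114614) (iv6 D76474) D76473
theorem F177321 : act 7 n113980 = n52853 := d14_2 (iv7 F145360) F177320 (iv6 D52853) F145374 D75148
theorem F177322 : act 0 n113980 = n52614 := d21_4 D16941 D34932 D76473 F177320 F83109 D76374 F114610 (iv5 D76468) (iv6 D34931) (iv1 D16940)
theorem F177323 : act 1 n75153 = n52614 := d15_0 (iv0 F177322) F177321 (iv2 F145379)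
theorem F177324 : act 1 n52609 = n75153 := d15_0 F177323 (iv7 F177309) F177308
theorem E17432 : n113785 = n105461 := ((c13_3 F177321 (iv5 F83756) (iv7 F161871) (iv5 F177319))).symm
theorem F177325 : act 5 n105461 = n113980 := (sb E17432 (iv5 F177319))
theorem F177326 : act 6 n105461 = n52539 := (sb E17432 (iv6 D113785))
theorem F177327 : act 6 n105318 = n53044 := d3_2 F177326 (iv2 F161498) F161872
theorem F177328 : act 0 n76473 = n92880 := d21_10 (iv5 D92880) (iv1 F161635) (iv5 D76311) D76312 (iv1 F161860) (iv6 D48768) D48767 (iv1 F161870) F177325 (iv6 F177320)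
theorem E17433 : n92866 = n16946 := (c21_6 D76473 F177328 (iv5 D92880) (iv6 D43457) D43452 D92866 (iv5 D16946) (iv1 D7904) D7905 (iv6 F27780) D34932)
theorem E17434 : n103230 = n23005 := ((((iv4 F36066)).symm.trans (sb E17433 (iv4 F158476)))).symm
theorem E17435 : n43452 = n34940 := (((D34940).symm.trans (sb E17433 (iv6 D92866)))).symm
theorem E17436 : n47838 = n47800 := (((D47800).symm.trans (sb E17434 (iv6 D103230)))).symm
theorem E17437 : n92592 = n76491 := (((D76491).symm.trans (sb E17435 (iv1 F142627)))).symm
theorem E17438 : n76492 = n20543 := ((D76492).symm.trans (sb E17435 (iv0 D43452)))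
theorem E17439 : n92591 = n42388 := ((((iv2 F65459)).symm.trans (sb E17435 (iv2 F154616)))).symm
theorem E17440 : n92864 = n76488 := ((((iv3 F114650)).symm.trans (sb E17435 D92864))).symm
theorem E17442 : n92590 = n76494 := (((D76494).symm.trans (sb E17435 (iv7 F154611)))).symm
theorem E17443 : n103106 = n90724 := ((D103106).symm.trans (sb E17436 (iv1 F139636)))
theorem E17444 : n103107 = n23019 := ((D103107).symm.trans (sb E17436 (iv0 D47838)))
theorem E17445 : n90723 = n48014 := ((((iv2 F75436)).symm.trans (sb E17436 (iv2 F154623)))).symm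
theorem E17446 : n103228 = n100720 := ((((iv3 F154823)).symm.trans (sb E17436 D103228))).symm
theorem E17448 : n103109 = n90722 := ((D103109).symm.trans (sb E17436 F154615))
theorem E17449 : n90554 = n43453 := (((iv1 F139376)).symm.trans (sb E17437 (iv1 F142629)))
theorem F177329 : act 2 n76491 = n43317 := (sb E17437 (iv2 D92592))
theorem F177330 : act 3 n76491 = n43441 := (sb E17437 F142624)
theorem F177331 : act 4 n76491 = n48084 := (sb E17437 F142625)
theorem F177332 : act 7 n76491 = n43454 := (sb E17437 F142626)
theorem F177333 : act 0 n20543 = n34940 := (sb E17438 (iv1 D76492))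
theorem E17450 : n90551 = n43317 := ((D90551).symm.trans (sb E17439 (iv1 D92591)))
theorem E17451 : n90552 = n43454 := ((D90552).symm.trans (sb E17439 F142628))
theorem E17452 : n90306 = n43397 := ((((iv3 F68203)).symm.trans (sb E17439 (iv3 F152864)))).symm
theorem F177334 : act 0 n76488 = n90281 := (sb E17440 F143242)
theorem F177335 : act 1 n76488 = n101094 := (sb E17440 (iv0 F155763))
theorem E17453 : n90612 = n90515 := ((((iv2 F139315)).symm.trans (sb E17440 F143241))).symm
theorem E17454 : n99374 = n90484 := ((((iv4 F139250)).symm.trans (sb E17440 F153028))).symm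
theorem F177336 : act 7 n76488 = n100543 := (sb E17440 (iv7 F154608))
theorem F177337 : act 3 n76494 = n100543 := (sb E17442 (iv3 F154609))
theorem E17455 : n103669 = n47839 := ((((iv1 F139639)).symm.trans (sb E17443 (iv1 F159094)))).symm
theorem F177338 : act 1 n90724 = n47800 := (sb E17443 (iv0 D103106))
theorem F177339 : act 0 n23019 = n47800 := (sb E17444 (iv1 D103107))
theorem E17456 : n103666 = n42476 := ((D103666).symm.trans (sb E17445 (iv1 D90723)))
theorem E17457 : n103667 = n47840 := ((D103667).symm.trans (sb E17445 F139637))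
theorem E17458 : n103611 = n47790 := (((F75437).symm.trans (sb E17445 (iv3 F158960)))).symm
theorem F177340 : act 0 n100720 = n103588 := (sb E17446 F158917)
theorem E17459 : n103773 = n103646 := ((((iv2 F159043)).symm.trans (sb E17446 (iv2 F159203)))).symm
theorem E17460 : n87799 = n87741 := (((F154824).symm.trans (sb E17446 F158475))).symm
theorem F177341 : act 4 n90722 = n76494 := (sb E17448 F158394)
theorem F177342 : act 6 n90722 = n92933 := (sb E17448 F158395)
theorem F177343 : act 7 n90722 = n47800 := (sb E17448 (iv7 D103109))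
theorem F177344 : act 1 n43453 = n76491 := (sb E17449 F139376)
theorem F177345 : act 2 n43453 = n76494 := (sb E17449 F139372)
theorem E17461 : n92766 = n42421 := (((F139640).symm.trans (sb E17449 (iv3 F143067)))).symm
theorem E17462 : n92904 = n92868 := (((D92868).symm.trans (sb E17449 F157677))).symm
theorem E17463 : n92869 = n42439 := ((D92869).symm.trans (sb E17449 F157732))
theorem F177346 : act 7 n43453 = n42388 := (sb E17449 (iv7 D90554))
theorem F177347 : act 0 n43317 = n76494 := (sb E17450 (iv1 F139374))
theorem F177348 : act 1 n43317 = n42388 := (sb E17450 (iv0 D90551))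
theorem F177349 : act 0 n43454 = n42388 := (sb E17451 (iv1 D90552))
theorem F177350 : act 1 n43454 = n76494 := (sb E17451 F139369)
theorem E17464 : n92763 = n42423 := ((D92763).symm.trans (sb E17452 (iv1 F138915)))
theorem E17465 : n92764 = n42212 := ((D92764).symm.trans (sb E17452 (iv0 D90306)))
theorem E17466 : n42422 = n42364 := (((F68202).symm.trans (sb E17452 F154618))).symm
theorem E17467 : n101083 = n92762 := ((((iv4 F143061)).symm.trans (sb E17452 F155755))).symm
theorem F177351 : act 0 n90515 = n87985 := (sb E17453 F153146)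
theorem F177352 : act 1 n90515 = n87990 := (sb E17453 F154613)
theorem E17468 : n46905 = n46668 := (((F139317).symm.trans (sb E17453 (iv4 F139502)))).symm
theorem F177353 : act 0 n90484 = n46466 := (sb E17454 (iv1 D99374))
theorem F177354 : act 1 n90484 = n46907 := (sb E17454 (iv0 F153030))
theorem F177355 : act 7 n90484 = n46906 := (sb E17454 (iv7 F153032))
theorem E17469 : n103082 = n48046 := ((((iv3 F139642)).symm.trans (sb E17455 F159088))).symm
theorem E17470 : n103262 = n103231 := (((D103231).symm.trans (sb E17455 F159090))).symm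
theorem E17471 : n103232 = n48057 := ((D103232).symm.trans (sb E17455 F159091))
theorem F177356 : act 7 n47839 = n48014 := (sb E17455 (iv7 D103669))
theorem F177357 : act 1 n42476 = n48014 := (sb E17456 (iv0 D103666))
theorem F177358 : act 0 n47840 = n48014 := (sb E17457 (iv1 D103667))
theorem E17472 : n103079 = n48048 := ((D103079).symm.trans (sb E17458 (iv1 F158961)))
theorem E17473 : n103080 = n47989 := ((D103080).symm.trans (sb E17458 (iv0 D103611)))
theorem E17474 : n48047 = n48005 := ((((iv2 F75418)).symm.trans (sb E17458 F158970))).symm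
theorem F177359 : act 0 n103646 = n99480 := (sb E17459 F159205)
theorem F177360 : act 1 n103646 = n99485 := (sb E17459 F159206)
theorem E17475 : n100436 = n95431 := (((F159045).symm.trans (sb E17459 F159204))).symm
theorem F177361 : act 0 n87741 = n40907 := (sb E17460 (iv1 D87799))
theorem F177362 : act 1 n87741 = n100396 := (sb E17460 F154427)
theorem F177363 : act 7 n87741 = n100435 := (sb E17460 (iv7 F154730))
theorem E17476 : n90517 = n90308 := ((((iv1 F138919)).symm.trans (sb E17461 (iv1 F143070)))).symm
theorem E17477 : n90516 = n20030 := ((((iv0 D42421)).symm.trans (sb E17461 F143071))).symm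
theorem E17478 : n90519 = n90307 := ((((iv2 F154620)).symm.trans (sb E17461 F143066))).symm
theorem E17479 : n90610 = n43439 := ((D90610).symm.trans (sb E17461 F157716))
theorem F177364 : act 7 n42421 = n43397 := (sb E17461 (iv7 D92766))
theorem F177365 : act 0 n92868 = n43467 := (sb E17462 (iv1 D92904))
theorem F177366 : act 7 n92868 = n90553 := (sb E17462 F157676)
theorem F177367 : act 6 n42439 = n43453 := (sb E17463 (iv6 D92869))
theorem F177368 : act 1 n42423 = n43397 := (sb E17464 (iv0 D92763))
theorem F177369 : act 0 n42212 = n43397 := (sb E17465 (iv1 D92764))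
theorem E17480 : n90613 = n46532 := ((((iv4 F73531)).symm.trans (sb E17466 D90613))).symm
theorem F177370 : act 0 n92762 = n47089 := (sb E17467 (iv1 D101083))
theorem F177371 : act 1 n92762 = n87989 := (sb E17467 F155753)
theorem F177372 : act 7 n92762 = n90608 := (sb E17467 F155754)
theorem E17483 : n99912 = n99375 := ((D99912).symm.trans (sb E17468 (iv1 F153037)))
theorem E17484 : n99913 = n22528 := ((D99913).symm.trans (sb E17468 (iv0 D46905)))
theorem E17485 : n100539 = n46534 := (((F73760).symm.trans (sb E17468 D100539))).symm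
theorem E17488 : n99915 = n99373 := ((D99915).symm.trans (sb E17468 (iv7 F153031)))
theorem E17489 : n103648 = n103613 := ((((iv1 F158966)).symm.trans (sb E17469 (iv1 F159046)))).symm
theorem E17490 : n103647 = n23183 := ((((iv0 D48046)).symm.trans (sb E17469 F159050))).symm
theorem E17491 : n103650 = n103612 := (((F158968).symm.trans (sb E17469 (iv2 F159048)))).symm
theorem E17492 : n103772 = n47829 := ((D103772).symm.trans (sb E17469 F158369))
theorem F177373 : act 7 n48046 = n47790 := (sb E17469 (iv7 D103082))
theorem F177374 : act 0 n103231 = n47851 := (sb E17470 (iv1 D103262))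
theorem F177375 : act 7 n103231 = n103668 := (sb E17470 F159086)
theorem F177376 : act 6 n48057 = n47839 := (sb E17471 (iv6 D103232))
theorem F177377 : act 1 n48048 = n47790 := (sb E17472 (iv0 D103079))
theorem F177378 : act 0 n47989 = n47790 := (sb E17473 (iv1 D103080))
theorem E17493 : n100630 = n97942 := ((((iv4 F150958)).symm.trans (sb E17474 (iv4 F154712)))).symm
theorem F177379 : act 0 n95431 = n46871 := (sb E17475 (iv1 D100436))
theorem F177380 : act 1 n95431 = n47882 := (sb E17475 F154489)
theorem E17496 : n100631 = n97943 := ((((iv3 F150960)).symm.trans (sb E17475 (iv3 F154713)))).symm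
theorem F177381 : act 7 n95431 = n87798 := (sb E17475 F154727)
theorem F177382 : act 0 n90308 = n42364 := (sb E17476 (iv1 D90517))
theorem F177383 : act 1 n20030 = n42364 := (sb E17477 (iv0 D90516))
theorem E17497 : n100635 = n99546 := (((iv4 F154716)).symm.trans (sb E17478 (iv4 F153298)))
theorem F177384 : act 6 n90307 = n92600 := (sb E17478 (iv6 F157714))
theorem F177385 : act 7 n90307 = n42364 := (sb E17478 (iv7 D90519))
theorem F177386 : act 6 n43439 = n42421 := (sb E17479 (iv6 D90610))
theorem E17498 : n100351 = n99543 := (((D99543).symm.trans (sb E17480 F154605))).symm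
theorem E17499 : n100356 = n99544 := (((D99544).symm.trans (sb E17480 (iv0 F154346)))).symm
theorem E17500 : n91348 = n22308 := (((F73530).symm.trans (sb E17480 (iv3 F140443)))).symm
theorem F177387 : act 1 n99375 = n46668 := (sb E17483 (iv0 D99912))
theorem F177388 : act 0 n22528 = n46668 := (sb E17484 (iv1 D99913))
theorem E17501 : n100001 = n99547 := (((D99547).symm.trans (sb E17485 F154614))).symm
theorem E17502 : n99548 = n87766 := ((D99548).symm.trans (sb E17485 (iv0 F154604)))
theorem E17503 : n100636 = n99550 := (((D99550).symm.trans (sb E17485 (iv7 F154732)))).symm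
theorem F177389 : act 6 n99373 = n46741 := (sb E17488 F157801)
theorem F177390 : act 7 n99373 = n46668 := (sb E17488 (iv7 D99915))
theorem F177391 : act 0 n103613 = n48005 := (sb E17489 (iv1 D103648))
theorem F177392 : act 1 n23183 = n48005 := (sb E17490 (iv0 D103647))
theorem F177393 : act 6 n103612 = n100169 := (sb E17491 F159049)
theorem F177394 : act 7 n103612 = n48005 := (sb E17491 (iv7 D103650))
theorem F177395 : act 6 n47829 = n48046 := (sb E17492 (iv6 D103772))
theorem E17504 : n46938 = n45720 := (((F150957).symm.trans (sb E17493 (iv3 D100630)))).symm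
theorem F177396 : act 1 n97943 = n99353 := (sb E17496 (iv0 F154714))
theorem F177397 : act 0 n99546 = n87989 := (sb E17497 F154720)
theorem F177398 : act 1 n99546 = n47089 := (sb E17497 (iv0 F154719))
theorem F177399 : act 2 n99546 = n90608 := (sb E17497 (iv2 F154717))
theorem F177400 : act 4 n99546 = n90307 := (sb E17497 F154716)
theorem F177401 : act 0 n99543 = n90608 := (sb E17498 F154343)
theorem F177402 : act 2 n99543 = n47089 := (sb E17498 F155652)
theorem F177403 : act 3 n99543 = n87967 := (sb E17498 F154342)
theorem F177404 : act 4 n99543 = n46825 := (sb E17498 (iv4 D100351))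
theorem F177405 : act 7 n99543 = n87989 := (sb E17498 F155650)
theorem F177406 : act 1 n99544 = n90608 := (sb E17499 (iv0 F154348))
theorem F177407 : act 2 n99544 = n87989 := (sb E17499 (iv2 F155647))
theorem F177408 : act 3 n99544 = n47074 := (sb E17499 F154345)
theorem F177409 : act 4 n99544 = n46826 := (sb E17499 (iv4 D100356))
theorem F177410 : act 7 n99544 = n47089 := (sb E17499 (iv7 F155651))
theorem E17506 : n46536 = n46474 := ((D46536).symm.trans (sb E17500 (iv1 F140444)))
theorem E17507 : n46537 = n42750 := ((D46537).symm.trans (sb E17500 (iv0 D91348)))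
theorem F177411 : act 3 n99547 = n46702 := (sb E17501 (iv3 D100001))
theorem F177412 : act 7 n99547 = n99353 := (sb E17501 F154193)
theorem F177413 : act 0 n87766 = n46534 := (sb E17502 (iv1 D99548))
theorem F177414 : act 0 n99550 = n99353 := (sb E17503 F154733)
theorem F177415 : act 3 n99550 = n99373 := (sb E17503 F154734)
theorem E17508 : n97945 = n40935 := ((D97945).symm.trans (sb E17504 (iv1 F74156)))
theorem E17509 : n97946 = n22569 := ((D97946).symm.trans (sb E17504 (iv0 D46938)))
theorem E17512 : n97948 = n91349 := ((D97948).symm.trans (sb E17504 (iv7 F154724)))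
theorem F177416 : act 1 n46474 = n22308 := (sb E17506 (iv0 D46536))
theorem F177417 : act 0 n42750 = n22308 := (sb E17507 (iv1 D46537))
theorem F177418 : act 0 n40935 = n46539 := (sb E17508 (iv1 F150968))
theorem F177419 : act 1 n40935 = n45720 := (sb E17508 (iv0 D97945))
theorem F177420 : act 0 n22569 = n45720 := (sb E17509 (iv1 D97946))
theorem F177421 : act 1 n22569 = n46539 := (sb E17509 F150964)
theorem F177422 : act 2 n91349 = n46539 := (sb E17512 F150966)
theorem F177423 : act 6 n91349 = n46529 := (sb E17512 F150967)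
theorem F177424 : act 7 n91349 = n45720 := (sb E17512 (iv7 D97948))
theorem F177425 : act 1 n52848 = n92880 := d15_0 (iv0 F177328) F145360 (iv2 F145368)
theorem F177426 : act 6 n103770 = n103205 := d10_2 F177395 D103770 (iv4 D103205)
theorem F177427 : act 6 n92830 = n90608 := d7_2 F177426 F158451 (iv3 F159200)
theorem F177428 : act 7 n103078 = n103770 := d14_0 F177426 F158452 (iv6 D99513) (iv7 F75087) D103078
theorem F177429 : act 0 n96572 = n95728 := d21_7 D45387 (iv1 F71589) F71597 D48005 (iv1 F177392) D48050 (iv5 F148747) (iv5 D95728) (iv6 D44709) (iv1 F34081)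
theorem F177430 : act 1 n97367 = n95728 := d15_0 (iv0 F177429) F148748 D97367
theorem E17523 : n100545 = n90790 := ((c3_2 F177389 (iv2 F143205) (iv6 D100545) F153033)).symm
theorem F177431 : act 6 n90790 = n46906 := (sb E17523 (iv6 D100545))
theorem F177432 : act 6 n100435 = n87911 := d7_2 F177431 (iv3 F154729) (iv3 F154219)
theorem F177433 : act 6 n104139 = n87798 := d3_2 F177432 F159625 (iv2 F154728)
theorem F177434 : act 0 n90626 = n94221 := d21_7 (iv5 D16937) D16935 F32535 D42364 (iv1 F177383) D42426 D90626 (iv5 D94221) (iv6 D44046) (iv1 F33086)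
theorem F177435 : act 6 n76415 = n90625 := d21_9 D90626 F177434 (iv5 D94221) (iv6 D44046) (iv1 F33086) (iv6 F55273) (iv5 D34917) D34915 D76415 (iv1 D90625)
theorem F177436 : act 1 n93952 = n94221 := d15_0 (iv0 F177434) F139518 D93952
theorem F177437 : act 0 n103078 = n99870 := d20_1 (iv4 F158367) F158521 (iv3 F159266) (iv1 D103852) (iv3 D48080) F62533 (iv1 F62114) F62947 D47989 F177378
theorem F177438 : act 7 n103081 = n103771 := d8_2 F177375 F159085 F159201
theorem F177439 : act 7 n92765 = n90609 := d8_2 F177366 (iv3 F143064) (iv3 F143244)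
theorem F177440 : act 0 n99484 = n103078 := d20_1 F158518 F158367 (iv3 F75437) (iv1 F177357) (iv3 D42476) (iv4 D20052) D20049 F65545 D47862 D103290
theorem E17524 : n96027 = n95782 := (c21_8 (iv5 F40474) (iv1 F70325) F70327 D48014 (iv1 F177357) (iv6 F76244) F76243 D96027 (iv5 D95782) (iv6 D44730) (iv1 F34116))
theorem F177441 : act 1 n95782 = n44808 := (sb E17524 (iv0 D96027))
theorem E17525 : n96028 = n95996 := (c15_2 F177441 D96028 F157290 F149895)
theorem F177442 : act 0 n95996 = n44808 := (sb E17525 (iv1 D96028))
theorem E17526 : n99035 = n98288 := (c21_8 (iv5 F73827) (iv1 F73830) F72574 D90484 F177353 F152568 (iv5 D99039) D99035 (iv5 D98288) (iv6 D45990) (iv1 F64046))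
theorem F177443 : act 1 n98288 = n46329 := (sb E17526 (iv0 D99035))
theorem F177444 : act 6 n53078 = n92871 := d21_5 (iv5 D25749) (iv1 D12222) D12223 (iv6 F40668) D53078 (iv5 D92871) F177349 D90553 F139371 (iv1 F83778)
theorem F177445 : act 2 n92877 = n53078 := d3_3 F177444 F143254 D92877
theorem F177446 : act 7 n53079 = n92877 := d15_2 (iv0 D53078) D53079 F177445
theorem F177447 : act 3 n92887 = n53079 := d8_3 F177446 F143258 D92887
theorem E17527 : n94346 = n62627 := (c21_8 F27795 F21326 F31838 D42388 (iv1 F177348) D92594 (iv5 F142634) D94346 F97674 (iv6 D44059) (iv1 F33103))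
theorem F177448 : act 1 n62627 = n44098 := (sb E17527 (iv0 D94346))
theorem E17528 : n94347 = n94314 := (c15_2 F177448 D94347 (iv7 F157296) F114663)
theorem F177449 : act 0 n94314 = n44098 := (sb E17528 (iv1 D94347))
theorem F177450 : act 0 n96029 = n97155 := d21_7 (iv5 F28369) D35951 F56634 D47800 (iv1 F177338) (iv6 F160713) F160712 (iv5 D97155) (iv6 D45407) (iv1 D21667)
theorem E17529 : n92877 = n53020 := ((c21_5 (iv5 D34814) (iv1 D16869) D16870 (iv6 F40655) D53020 (iv6 D92877) (iv5 D43456) F177333 D76493 F114659 F55306)).symm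
theorem F177451 : act 2 n53020 = n53078 := (sb E17529 F177445)
theorem F177452 : act 3 n53020 = n43459 := (sb E17529 F143258)
theorem F177453 : act 6 n53020 = n43456 := (sb E17529 (iv6 D92877))
theorem F177454 : act 7 n53020 = n53079 := (sb E17529 (iv7 F177446))
theorem F177455 : act 2 n53079 = n53021 := d15_3 F83769 F83770 F177454
theorem F177456 : act 7 n53078 = n53021 := d4_2 (iv7 F177454) F177451 (iv2 F177455)
theorem F177457 : act 2 n55270 = n78883 := d2_3 F120056 F177455 (iv5 F87469)
theorem E17530 : n78879 = n26708 := (c3_4 D55270 F177457 (iv6 D78883) D78879)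
theorem E17531 : n55266 = n35907 := ((D55266).symm.trans (sb E17530 (iv2 D78879)))
theorem E17532 : n55271 = n35908 := ((D55271).symm.trans (sb E17530 (iv7 F120055)))
theorem F177458 : act 2 n35907 = n26708 := (sb E17531 (iv2 D55266))
theorem E17533 : n78884 = n26709 := ((D78884).symm.trans (sb E17531 (iv7 F87468)))
theorem F177459 : act 7 n35908 = n26708 := (sb E17532 (iv7 D55271))
theorem F177460 : act 2 n26709 = n35908 := (sb E17533 F120057)
theorem F177461 : act 7 n26709 = n35907 := (sb E17533 (iv7 D78884))
theorem F177462 : act 7 n78880 = n55272 := d8_2 F177461 D78880 (iv3 D55272)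
theorem F177463 : act 7 n78881 = n55273 := d11_2 F177461 D78881 (iv4 D55273)
theorem F177464 : act 7 n78882 = n55274 := d13_2 F177461 D78882 (iv5 D55274)
theorem F177465 : act 2 n78885 = n76397 := d0_3 (iv3 D55272) F177460 D78885 F151793 (iv2 F161641)
theorem F177466 : act 2 n78886 = n55273 := d1_3 (iv4 D55273) F177460 D78886
theorem F177467 : act 2 n78887 = n55274 := d2_3 (iv5 D55274) F177460 D78887
theorem F177468 : act 2 n78888 = n55275 := d3_3 (iv6 D55275) F177460 D78888
theorem F177469 : act 1 n78888 = n52848 := d15_0 F177425 F161619 (iv2 F177468)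
theorem F177470 : act 1 n76473 = n78888 := d15_0 F177469 (iv7 F145387) F145386
theorem F177471 : act 7 n76396 = n78885 := d15_2 F114532 F114538 F177465
theorem E17534 : n76396 = n55267 := ((c8_4 F177471 (iv3 D78885) F177459 D55267)).symm
theorem F177472 : act 0 n55267 = n71451 := (sb E17534 (iv1 F114538))
theorem F177473 : act 1 n55267 = n34907 := (sb E17534 (iv0 D76396))
theorem F177474 : act 7 n55267 = n78885 := (sb E17534 F177471)
theorem F177475 : act 7 n55268 = n78886 := d11_2 F177459 D55268 (iv4 D78886)
theorem F177476 : act 7 n55269 = n78887 := d13_2 F177459 D55269 (iv5 D78887)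
theorem F177477 : act 2 n78882 = n55269 := d4_3 F177476 F177467 (iv7 F177464)
theorem F177478 : act 2 n78881 = n55268 := d4_3 F177475 F177466 (iv7 F177463)
def n113981 : Q := act 4 n52609
theorem D113981 : act 4 n52609 = n113981 := rfl
def n113982 : Q := act 6 n52609
theorem D113982 : act 6 n52609 = n113982 := rfl
theorem F177479 : act 0 n113982 = n52793 := d21_4 (iv5 F20063) D25530 D52609 D113982 (iv6 D52793) D52792 F83766 (iv5 D53065) (iv6 D25742) (iv1 D12218)
def n113983 : Q := act 7 n52609
theorem D113983 : act 7 n52609 = n113983 := rfl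
theorem F177480 : act 2 n113983 = n52614 := d4_1 D113983 (iv7 F177309) F177308
theorem F177481 : act 5 n113983 = n52611 := d13_1 D113983 (iv7 D52611) D52609
theorem F177482 : act 6 n76371 = n113983 := d3_0 F177480 F83109 D76371
theorem F177483 : act 7 n113982 = n76379 := d14_4 F114487 F177482 (iv7 D113983) D113982 (iv6 D76379)
def n113984 : Q := act 0 n52610
theorem D113984 : act 0 n52610 = n113984 := rfl
def n113985 : Q := act 1 n52610
theorem D113985 : act 1 n52610 = n113985 := rfl
theorem F177484 : act 6 n92801 = n113985 := d21_3 F40335 D43416 D92801 (iv1 D113985) (iv6 D52610) D52609 D113980 (iv5 F177325) F177326 (iv1 D52539)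
def n113986 : Q := act 7 n52610
theorem D113986 : act 7 n52610 = n113986 := rfl
def n113987 : Q := act 6 n52611
theorem D113987 : act 6 n52611 = n113987 := rfl
theorem F177485 : act 2 n113987 = n52615 := d3_1 D113987 (iv6 D52615) (iv2 F83108)
def n113988 : Q := act 0 n52612
theorem D113988 : act 0 n52612 = n113988 := rfl
def n113989 : Q := act 1 n52612
theorem D113989 : act 1 n52612 = n113989 := rfl
def n113990 : Q := act 2 n52612
theorem D113990 : act 2 n52612 = n113990 := rfl
def n113991 : Q := act 4 n52612
theorem D113991 : act 4 n52612 = n113991 := rfl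
def n113992 : Q := act 5 n52612
theorem D113992 : act 5 n52612 = n113992 := rfl
theorem F177486 : act 3 n113992 = n52614 := d6_1 D113992 (iv5 D52614) D52612
theorem F177487 : act 6 n76372 = n113992 := d7_0 F177486 F83109 D76372
def n113993 : Q := act 6 n52612
theorem D113993 : act 6 n52612 = n113993 := rfl
theorem F177488 : act 3 n113993 = n52615 := d7_1 D113993 (iv6 D52615) D52612
def n113994 : Q := act 3 n52613
theorem D113994 : act 3 n52613 = n113994 := rfl
def n113995 : Q := act 5 n52613
theorem D113995 : act 5 n52613 = n113995 := rfl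
def n113996 : Q := act 6 n52613
theorem D113996 : act 6 n52613 = n113996 := rfl
theorem F177489 : act 4 n113996 = n52615 := d10_1 D113996 (iv6 D52615) D52613
def n113997 : Q := act 4 n52614
theorem D113997 : act 4 n52614 = n113997 := rfl
theorem F177490 : act 6 n113997 = n76373 := d10_2 (iv6 F83109) D113997 (iv4 D76373)
def n113999 : Q := act 1 n52615
theorem D113999 : act 1 n52615 = n113999 := rfl
def n114000 : Q := act 5 n52615
theorem D114000 : act 5 n52615 = n114000 := rfl
theorem F177491 : act 6 n114000 = n76374 := d12_2 D52615 D114000 (iv5 D76374) (iv6 F83109) (iv5 D52614)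
theorem F177492 : act 0 n113759 = n114000 := d21_1 D113759 (iv5 D114000) (iv6 D52615) (iv1 D25531) (iv6 D12134) (iv5 D5752) D5749 D12121 D25497 D52524
theorem F177493 : act 0 n114000 = n113764 := d21_10 (iv5 D113764) (iv1 D52525) D52526 F82947 F40329 (iv6 F55215) (iv5 D34897) D34895 D76374 (iv6 F177491)
def n114001 : Q := act 7 n52615
theorem D114001 : act 7 n52615 = n114001 := rfl
def n114002 : Q := act 5 n52616
theorem D114002 : act 5 n52616 = n114002 := rfl
theorem F177494 : act 6 n114002 = n53067 := d12_2 D52616 D114002 (iv5 D53067) (iv6 D25743) (iv5 F40360)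
theorem F177495 : act 7 n114002 = n52619 := d13_2 (iv7 F83110) D114002 (iv5 D52619)
def n114003 : Q := act 2 n52617
theorem D114003 : act 2 n52617 = n114003 := rfl
theorem F177496 : act 7 n52618 = n114003 := d15_2 (iv0 D52617) D52618 (iv2 D114003)
def n114004 : Q := act 3 n52617
theorem D114004 : act 3 n52617 = n114004 := rfl
def n114005 : Q := act 4 n52617
theorem D114005 : act 4 n52617 = n114005 := rfl
def n114006 : Q := act 5 n52617
theorem D114006 : act 5 n52617 = n114006 := rfl
def n114007 : Q := act 6 n52617
theorem D114007 : act 6 n52617 = n114007 := rfl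
theorem F177497 : act 5 n114007 = n112910 := d21_6 (iv5 D23742) (iv1 F18041) (iv5 F20064) D25533 D52617 D114007 (iv1 D112910) F82382 (iv6 D52019) F39804
def n114008 : Q := act 7 n52617
theorem D114008 : act 7 n52617 = n114008 := rfl
theorem F177498 : act 2 n114008 = n52618 := d4_1 D114008 F177496 (iv2 D114003)
def n114009 : Q := act 3 n52618
theorem D114009 : act 3 n52618 = n114009 := rfl
def n114010 : Q := act 4 n52618
theorem D114010 : act 4 n52618 = n114010 := rfl
def n114011 : Q := act 5 n52618
theorem D114011 : act 5 n52618 = n114011 := rfl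
def n114012 : Q := act 6 n52618
theorem D114012 : act 6 n52618 = n114012 := rfl
def n114013 : Q := act 0 n52619
theorem D114013 : act 0 n52619 = n114013 := rfl
def n114014 : Q := act 1 n52619
theorem D114014 : act 1 n52619 = n114014 := rfl
def n114015 : Q := act 4 n52619
theorem D114015 : act 4 n52619 = n114015 := rfl
theorem F177499 : act 6 n114015 = n52620 := d10_2 (iv6 F83111) D114015 (iv4 D52620)
def n114016 : Q := act 3 n52620
theorem D114016 : act 3 n52620 = n114016 := rfl
theorem F177500 : act 5 n114016 = n76232 := d6_2 (iv5 F83113) D114016 (iv3 D76232)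
theorem F177501 : act 7 n114016 = n53095 := d8_2 (iv7 F83112) D114016 (iv3 D53095)
def n114017 : Q := act 6 n52623
theorem D114017 : act 6 n52623 = n114017 := rfl
theorem F177502 : act 2 n114017 = n52624 := d3_1 D114017 (iv6 D52624) (iv2 F83126)
theorem F177503 : act 3 n114017 = n52705 := d7_1 D114017 (iv6 D52705) (iv3 F83127)
theorem F177504 : act 4 n114017 = n69064 := d10_1 D114017 (iv6 D69064) (iv4 F83129)
theorem F177505 : act 5 n114017 = n113710 := d12_1 D114017 (iv6 D113710) F82902 F45853 D52623
def n114018 : Q := act 0 n52624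
theorem D114018 : act 0 n52624 = n114018 := rfl
def n114019 : Q := act 1 n52624
theorem D114019 : act 1 n52624 = n114019 := rfl
def n114020 : Q := act 5 n52624
theorem D114020 : act 5 n52624 = n114020 := rfl
theorem F177506 : act 2 n114020 = n113710 := d2_1 D114020 (iv5 F177505) F177502
theorem F177507 : act 3 n114020 = n52628 := d6_1 D114020 (iv5 D52628) (iv3 F83132)
theorem F177508 : act 6 n114020 = n52625 := d12_2 D52624 D114020 (iv5 D52625) (iv6 D25539) D25538
def n114021 : Q := act 7 n52624
theorem D114021 : act 7 n52624 = n114021 := rfl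
theorem F177509 : act 3 n114021 = n52629 := d8_1 D114021 (iv7 D52629) (iv3 F83132)
theorem F177510 : act 6 n114021 = n76352 := d14_1 D114021 (iv7 D76352) (iv6 D34884) (iv7 F40372) D52624
def n114022 : Q := act 4 n52625
theorem D114022 : act 4 n52625 = n114022 := rfl
theorem F177511 : act 2 n114022 = n113709 := d1_1 D114022 (iv4 D113709) (iv2 F83133)
def n114023 : Q := act 2 n52626
theorem D114023 : act 2 n52626 = n114023 := rfl
theorem F177512 : act 7 n52627 = n114023 := d15_2 (iv0 D52626) D52627 (iv2 D114023)
def n114024 : Q := act 3 n52626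
theorem D114024 : act 3 n52626 = n114024 := rfl
def n114025 : Q := act 4 n52626
theorem D114025 : act 4 n52626 = n114025 := rfl
def n114026 : Q := act 5 n52626
theorem D114026 : act 5 n52626 = n114026 := rfl
def n114027 : Q := act 7 n52626
theorem D114027 : act 7 n52626 = n114027 := rfl
theorem F177513 : act 2 n114027 = n52627 := d4_1 D114027 F177512 (iv2 D114023)
def n114028 : Q := act 3 n52627
theorem D114028 : act 3 n52627 = n114028 := rfl
def n114029 : Q := act 4 n52627
theorem D114029 : act 4 n52627 = n114029 := rfl
def n114030 : Q := act 5 n52627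
theorem D114030 : act 5 n52627 = n114030 := rfl
theorem F177514 : act 6 n106102 = n114030 := d21_5 (iv5 D49043) (iv1 D23925) D23927 D49046 D106102 (iv5 D114030) (iv1 D52627) D52628 F83139 (iv1 F77423)
def n114031 : Q := act 6 n52627
theorem D114031 : act 6 n52627 = n114031 := rfl
def n114032 : Q := act 0 n52628
theorem D114032 : act 0 n52628 = n114032 := rfl
def n114033 : Q := act 1 n52628
theorem D114033 : act 1 n52628 = n114033 := rfl
theorem F177515 : act 1 n114033 = n76335 := d15_1 D114033 (iv7 D76335) (iv2 F83138)
theorem F177516 : act 5 n76279 = n114033 := d21_6 (iv5 D11129) F7570 D7876 D16893 D34842 D76279 (iv1 D114033) (iv5 D52628) (iv6 D25540) F20072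
def n114034 : Q := act 4 n52628
theorem D114034 : act 4 n52628 = n114034 := rfl
theorem F177517 : act 2 n114034 = n76334 := d1_1 D114034 (iv4 D76334) (iv2 F83138)
theorem F177518 : act 6 n114034 = n52630 := d10_2 (iv6 F83139) D114034 (iv4 D52630)
def n114035 : Q := act 7 n52628
theorem D114035 : act 7 n52628 = n114035 := rfl
theorem F177519 : act 2 n114035 = n76335 := d4_1 D114035 (iv7 D76335) (iv2 F83138)
theorem F177520 : act 5 n114035 = n52629 := d13_1 D114035 (iv7 D52629) D52628
theorem F177521 : act 1 n76335 = n114032 := d15_0 (iv0 D114032) D114035 F177519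
theorem F177522 : act 1 n76333 = n114035 := d15_1 D76333 (iv7 D114035) F83138
theorem F177523 : act 1 n114035 = n76332 := d15_0 (iv0 D76332) D76335 (iv2 F177519)
def n114036 : Q := act 3 n52630
theorem D114036 : act 3 n52630 = n114036 := rfl
def n114037 : Q := act 0 n52631
theorem D114037 : act 0 n52631 = n114037 := rfl
def n114038 : Q := act 1 n52631
theorem D114038 : act 1 n52631 = n114038 := rfl
theorem F177524 : act 1 n114038 = n78984 := d15_1 D114038 (iv7 D78984) (iv2 F83147)
def n114039 : Q := act 7 n52631
theorem D114039 : act 7 n52631 = n114039 := rfl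
theorem F177525 : act 2 n114039 = n78984 := d4_1 D114039 (iv7 D78984) (iv2 F83147)
theorem F177526 : act 3 n114039 = n52634 := d8_1 D114039 (iv7 D52634) (iv3 F83148)
theorem F177527 : act 5 n114039 = n106519 := d13_1 D114039 (iv7 D106519) (iv5 F83149)
theorem F177528 : act 6 n114039 = n76321 := d14_1 D114039 (iv7 D76321) (iv6 D34867) (iv7 F40381) D52631
theorem F177529 : act 1 n78984 = n114037 := d15_0 (iv0 D114037) D114039 F177525
theorem F177530 : act 1 n78983 = n114039 := d15_1 D78983 (iv7 D114039) F83147
theorem F177531 : act 1 n114039 = n78982 := d15_0 (iv0 D78982) D78984 (iv2 F177525)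
def n114040 : Q := act 2 n52632
theorem D114040 : act 2 n52632 = n114040 := rfl
theorem F177532 : act 7 n52633 = n114040 := d15_2 (iv0 D52632) D52633 (iv2 D114040)
def n114041 : Q := act 3 n52632
theorem D114041 : act 3 n52632 = n114041 := rfl
def n114042 : Q := act 4 n52632
theorem D114042 : act 4 n52632 = n114042 := rfl
def n114043 : Q := act 5 n52632
theorem D114043 : act 5 n52632 = n114043 := rfl
def n114044 : Q := act 6 n52632
theorem D114044 : act 6 n52632 = n114044 := rfl
theorem F177533 : act 5 n114044 = n106343 := d21_6 (iv5 D5764) (iv1 F8863) D12141 D25543 D52632 D114044 (iv1 D106343) (iv5 D49144) (iv6 D23981) F18272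
def n114045 : Q := act 7 n52632
theorem D114045 : act 7 n52632 = n114045 := rfl
theorem F177534 : act 2 n114045 = n52633 := d4_1 D114045 F177532 (iv2 D114040)
def n114046 : Q := act 3 n52633
theorem D114046 : act 3 n52633 = n114046 := rfl
def n114047 : Q := act 4 n52633
theorem D114047 : act 4 n52633 = n114047 := rfl
def n114048 : Q := act 5 n52633
theorem D114048 : act 5 n52633 = n114048 := rfl
theorem F177535 : act 6 n94036 = n114048 := d21_5 F37557 (iv1 F37525) D49192 (iv6 F142156) F161694 (iv5 D114048) (iv1 D52633) F40384 (iv6 D24027) D24024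
theorem F177536 : act 3 n114048 = n94038 := d7_1 F177535 (iv6 D94038) (iv3 F144874)
theorem F177537 : act 5 n94038 = n114046 := d6_2 D114048 F177536 (iv3 D114046)
theorem F177538 : act 6 n114046 = n90130 := d12_2 D94038 F177537 F138575 (iv6 D43952) D43951
theorem F177539 : act 0 n114046 = n52669 := d21_4 F67889 (iv1 F69098) (iv5 F138575) (iv6 F177538) (iv6 D52669) (iv5 D25564) F32466 D43276 F67862 D43283
def n114049 : Q := act 6 n52633
theorem D114049 : act 6 n52633 = n114049 := rfl
theorem F177541 : act 5 n114049 = n94037 := d12_1 D114049 (iv6 D94037) D94036 F177535 (iv5 D114048)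
def n114050 : Q := act 6 n52635
theorem D114050 : act 6 n52635 = n114050 := rfl
theorem F177542 : act 2 n114050 = n60450 := d3_1 D114050 F94990 F83159
theorem F177543 : act 3 n114050 = n90123 := d7_1 D114050 (iv6 F138562) F114692
theorem F177544 : act 4 n114050 = n53874 := d10_1 D114050 (iv6 D53874) (iv4 F83158)
theorem F177545 : act 7 n114050 = n68095 := d14_2 (iv7 F83161) D114050 F104226 (iv7 D55279) (iv6 F49863)
theorem F177546 : act 0 n114050 = n52651 := d21_4 D54112 (iv1 F177149) F177148 D114050 (iv6 D52651) F40421 (iv1 F32579) F41583 (iv6 D26194) (iv1 F41564)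
theorem F177547 : act 5 n114050 = n71895 := d21_6 D7501 D16042 F28356 D25545 D52635 D114050 (iv1 D71895) (iv5 D33222) (iv6 D16041) (iv1 D7500)
def n114051 : Q := act 4 n52637
theorem D114051 : act 4 n52637 = n114051 := rfl
theorem F177548 : act 2 n114051 = n78895 := d1_1 D114051 (iv4 D78895) (iv2 F83165)
theorem F177549 : act 0 n114051 = n52897 := d18_2 (iv1 F86724) D114051 (iv4 D52897) (iv5 D25678) (iv4 F40588) F54275 D29237 (iv0 F46900) (iv5 F86722)
def n114052 : Q := act 3 n52638
theorem D114052 : act 3 n52638 = n114052 := rfl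
theorem F177550 : act 5 n114052 = n73619 := d6_2 (iv5 F83168) D114052 (iv3 D73619)
theorem F177551 : act 7 n114052 = n78908 := d8_2 (iv7 F83169) D114052 (iv3 D78908)
def n114053 : Q := act 6 n52639
theorem D114053 : act 6 n52639 = n114053 := rfl
theorem F177552 : act 3 n114053 = n52641 := d7_1 D114053 (iv6 D52641) D52639
def n114054 : Q := act 6 n52640
theorem D114054 : act 6 n52640 = n114054 := rfl
theorem F177553 : act 2 n114054 = n71889 := d3_1 D114054 (iv6 D71889) (iv2 F83175)
theorem F177554 : act 3 n114054 = n75380 := d7_1 D114054 (iv6 D75380) (iv3 F83178)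
theorem F177555 : act 4 n114054 = n52641 := d10_1 D114054 (iv6 D52641) D52640
def n114055 : Q := act 0 n52641
theorem D114055 : act 0 n52641 = n114055 := rfl
def n114056 : Q := act 1 n52641
theorem D114056 : act 1 n52641 = n114056 := rfl
theorem F177556 : act 1 n114056 = n71893 := d15_1 D114056 (iv7 D71893) (iv2 F83179)
def n114057 : Q := act 5 n52641
theorem D114057 : act 5 n52641 = n114057 := rfl
theorem F177557 : act 2 n114057 = n71892 := d2_1 D114057 (iv5 D71892) (iv2 F83179)
theorem F177558 : act 6 n114057 = n52710 := d12_2 D52641 D114057 (iv5 D52710) (iv6 D25586) (iv5 F40404)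
theorem F177559 : act 0 n114057 = n90812 := d21_4 (iv5 D26540) F42432 D52710 (iv6 F177558) (iv6 D90812) (iv5 D42530) (iv1 F68094) D90489 F139261 (iv1 D54861)
def n114058 : Q := act 7 n52641
theorem D114058 : act 7 n52641 = n114058 := rfl
theorem F177560 : act 2 n114058 = n71893 := d4_1 D114058 (iv7 D71893) (iv2 F83179)
theorem F177561 : act 6 n114058 = n71884 := d14_1 D114058 (iv7 D71884) (iv6 D33218) F40406 D52641
theorem F177562 : act 1 n71893 = n114055 := d15_0 (iv0 D114055) D114058 F177560
theorem F177563 : act 1 n71891 = n114058 := d15_1 D71891 (iv7 D114058) F83179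
theorem F177564 : act 1 n114058 = n71890 := d15_0 (iv0 D71890) D71893 (iv2 F177560)
def n114059 : Q := act 3 n52642
theorem D114059 : act 3 n52642 = n114059 := rfl
theorem F177565 : act 2 n114059 = n77109 := d0_1 D114059 F115824 F55950 (iv3 F52456) (iv2 F83180)
theorem F177566 : act 5 n114059 = n77108 := d6_2 (iv5 F83181) D114059 F115822
theorem F177567 : act 7 n114059 = n71887 := d8_2 (iv7 F83182) D114059 (iv3 D71887)
theorem F177568 : act 0 n114059 = n81616 := d19_4 (iv1 F20167) (iv5 F40409) D52642 D114059 F125530 (iv4 F119259) (iv3 D77455) F87048 F87045 D83163 F128224 (iv1 D58264) (iv5 F87743) (iv4 F114395) F114394 (iv1 F76732) (iv5 D25640) F20186 F20172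
def n114060 : Q := act 6 n52642
theorem D114060 : act 6 n52642 = n114060 := rfl
theorem F177569 : act 2 n114060 = n71881 := d3_1 D114060 (iv6 D71881) (iv2 F83180)
theorem F177570 : act 4 n114060 = n52643 := d10_1 D114060 (iv6 D52643) D52642
def n114061 : Q := act 0 n52643
theorem D114061 : act 0 n52643 = n114061 := rfl
def n114062 : Q := act 1 n52643
theorem D114062 : act 1 n52643 = n114062 := rfl
theorem F177571 : act 1 n114062 = n71884 := d15_1 D114062 (iv7 D71884) (iv2 F83183)
def n114063 : Q := act 7 n52643
theorem D114063 : act 7 n52643 = n114063 := rfl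
theorem F177572 : act 2 n114063 = n71884 := d4_1 D114063 (iv7 D71884) (iv2 F83183)
theorem F177573 : act 6 n114063 = n71893 := d14_1 D114063 (iv7 D71893) (iv6 D33221) (iv7 F40408) D52643
theorem F177574 : act 1 n71884 = n114061 := d15_0 (iv0 D114061) D114063 F177572
theorem F177576 : act 1 n114063 = n71882 := d15_0 (iv0 D71882) D71884 (iv2 F177572)
def n114064 : Q := act 6 n52644
theorem D114064 : act 6 n52644 = n114064 := rfl
theorem F177577 : act 2 n114064 = n71807 := d3_1 D114064 (iv6 D71807) F83186
theorem F177578 : act 4 n114064 = n54544 := d10_1 D114064 (iv6 D54544) (iv4 F83184)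
def n114065 : Q := act 6 n52645
theorem D114065 : act 6 n52645 = n114065 := rfl
theorem F177579 : act 2 n114065 = n71781 := d3_1 D114065 (iv6 D71781) (iv2 F83191)
theorem F177580 : act 4 n114065 = n54550 := d10_1 D114065 (iv6 D54550) F83190
def n114066 : Q := act 6 n52646
theorem D114066 : act 6 n52646 = n114066 := rfl
theorem F177581 : act 2 n114066 = n73620 := d3_1 D114066 (iv6 D73620) (iv2 F83192)
theorem F177582 : act 4 n114066 = n73595 := d10_1 D114066 (iv6 D73595) (iv4 F83194)
def n114067 : Q := act 0 n52647
theorem D114067 : act 0 n52647 = n114067 := rfl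
def n114068 : Q := act 1 n52647
theorem D114068 : act 1 n52647 = n114068 := rfl
def n114069 : Q := act 5 n52647
theorem D114069 : act 5 n52647 = n114069 := rfl
def n114070 : Q := act 7 n52647
theorem D114070 : act 7 n52647 = n114070 := rfl
theorem F177583 : act 4 n114070 = n52650 := d11_1 D114070 (iv7 D52650) (iv4 F83195)
theorem F177584 : act 6 n114070 = n78917 := d14_1 D114070 (iv7 D78917) (iv6 D35926) (iv7 F40411) D52647
def n114071 : Q := act 4 n52648
theorem D114071 : act 4 n52648 = n114071 := rfl
def n114072 : Q := act 6 n52648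
theorem D114072 : act 6 n52648 = n114072 := rfl
theorem F177585 : act 3 n114072 = n90255 := d7_1 D114072 (iv6 D90255) (iv3 F142456)
def n114073 : Q := act 3 n52649
theorem D114073 : act 3 n52649 = n114073 := rfl
theorem F177586 : act 2 n114073 = n90256 := d0_1 D114073 (iv3 D90256) F67773 D92463 F142458
theorem F177587 : act 5 n114073 = n102582 := d6_2 F142963 D114073 F157537
def n114074 : Q := act 4 n52649
theorem D114074 : act 4 n52649 = n114074 := rfl
def n114075 : Q := act 6 n52649
theorem D114075 : act 6 n52649 = n114075 := rfl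
def n114076 : Q := act 0 n52653
theorem D114076 : act 0 n52653 = n114076 := rfl
def n114077 : Q := act 1 n52653
theorem D114077 : act 1 n52653 = n114077 := rfl
def n114078 : Q := act 2 n52653
theorem D114078 : act 2 n52653 = n114078 := rfl
theorem F177588 : act 3 n114078 = n78994 := d0_2 D52653 D114078 (iv2 F161698) F142186 (iv2 F161664)
def n114079 : Q := act 4 n52653
theorem D114079 : act 4 n52653 = n114079 := rfl
theorem F177589 : act 3 n114079 = n78941 := d5_1 D114079 (iv4 D78941) (iv3 D35934) F83209 D52653
def n114080 : Q := act 5 n52653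
theorem D114080 : act 5 n52653 = n114080 := rfl
theorem F177590 : act 3 n114080 = n52655 := d6_1 D114080 (iv5 D52655) D52653
def n114081 : Q := act 6 n52653
theorem D114081 : act 6 n52653 = n114081 := rfl
theorem F177591 : act 3 n114081 = n52656 := d7_1 D114081 (iv6 D52656) D52653
theorem F177592 : act 5 n113052 = n114081 := d6_0 F177591 F83200 D113052
def n114082 : Q := act 1 n52655
theorem D114082 : act 1 n52655 = n114082 := rfl
theorem F177593 : act 1 n114082 = n52660 := d15_1 D114082 F161660 (iv2 F161689)
theorem F177594 : act 2 n90344 = n114082 := d15_3 F177593 F161691 F144877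
theorem F177595 : act 4 n103234 = n114082 := d18_7 (iv1 D25557) (iv4 F20211) D25721 (iv4 F136445) D34925 D76448 F161628 F177593 (iv5 D52660)
theorem F177596 : act 6 n114082 = n90342 := d10_2 D103234 F177595 F139010
theorem F177597 : act 3 n114082 = n90808 := d20_3 D76465 (iv1 F161627) F177595 (iv1 F143477) (iv3 D93025) (iv4 F69229) F69228 F63631 (iv3 F161616) (iv1 F114602)
def n114083 : Q := act 6 n52655
theorem D114083 : act 6 n52655 = n114083 := rfl
theorem F177598 : act 5 n114083 = n113054 := d12_1 D114083 (iv6 D113054) (iv5 F83200) (iv6 D52656) D52655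
theorem F177599 : act 7 n114083 = n90421 := d14_2 F161688 D114083 (iv6 D90421) (iv7 F160260) (iv6 F161610)
def n114084 : Q := act 4 n52658
theorem D114084 : act 4 n52658 = n114084 := rfl
theorem F177600 : act 2 n114084 = n95571 := d1_1 D114084 F147238 (iv2 F161699)
theorem F177601 : act 3 n114084 = n78957 := d5_1 D114084 (iv4 D78957) (iv3 D35939) F83205 D52658
theorem F177602 : act 7 n114084 = n95570 := d11_2 (iv7 F161697) D114084 F147237
theorem F177603 : act 0 n114084 = n76504 := d18_2 (iv1 F142197) D114084 F114670 (iv5 D43873) (iv4 F34026) D45335 (iv4 F142166) F142164 (iv5 F142192)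
theorem F177604 : act 1 n114084 = n95573 := d15_1 (iv0 F177603) (iv7 D95573) (iv2 F114669)
theorem F177605 : act 4 n95808 = n84404 := d20_6 (iv4 D114084) F142196 (iv4 F70331) F70330 D44742 D95808 (iv1 F129551) F125617 (iv3 F147241) (iv1 F177604)
def n114085 : Q := act 6 n52658
theorem D114085 : act 6 n52658 = n114085 := rfl
theorem F177606 : act 3 n114085 = n52661 := d7_1 D114085 (iv6 D52661) D52658
def n114086 : Q := act 0 n52661
theorem D114086 : act 0 n52661 = n114086 := rfl
theorem F177607 : act 5 n114086 = n76332 := d17_1 D114086 (iv1 F177523) F177520 F83141 (iv5 F78003) F78006 (iv5 F120141) (iv0 D78962) (iv4 F83207)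
theorem F177608 : act 6 n114086 = n78951 := d21_3 D34870 D76332 (iv5 F177607) (iv1 D78951) (iv6 D35937) D35936 D78945 F120132 (iv6 D76331) (iv1 D34869)
theorem F177609 : act 4 n105466 = n114086 := d10_3 F177608 (iv4 F161863) (iv6 F161882)
theorem F177610 : act 7 n105459 = n114086 := d14_0 F177608 F161864 (iv6 D53060) (iv7 F161776) D105459
theorem E17535 : n76329 = n35908 := (c17_10 (iv1 D35908) (iv5 F37994) D49696 (iv5 F161881) F177609 F177607 (iv0 D76332) (iv5 D34870) D34869 D76329)
theorem E17536 : n78886 = n34869 := ((D78886).symm.trans (sb E17535 (iv4 D76329)))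
theorem E17537 : n76327 = n55273 := (((iv2 F114423)).symm.trans (sb E17536 F177466))
theorem F177611 : act 4 n34869 = n35908 := (sb E17536 (iv4 D78886))
theorem E17538 : n76322 = n55268 := ((F114421).symm.trans (sb E17536 (iv7 F177475)))
theorem F177612 : act 2 n55273 = n34869 := (sb E17537 F114423)
theorem E17539 : n78881 = n34868 := (((iv7 F177463)).symm.trans (sb E17537 (iv7 D76327)))
theorem F177613 : act 7 n55268 = n34869 := (sb E17538 (iv7 F114421))
theorem F177614 : act 2 n34868 = n55268 := (sb E17539 F177478)
theorem E17540 : n76324 = n35907 := ((D76324).symm.trans (sb E17539 (iv4 D78881)))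
theorem F177615 : act 7 n34868 = n55273 := (sb E17539 F177463)
theorem F177616 : act 4 n35907 = n34868 := (sb E17540 (iv4 D76324))
theorem E17541 : n107571 = n106534 := ((c18_3 (iv1 D49232) (iv4 F77750) D106534 (iv4 D107571) (iv5 F161881) F177609 (iv0 D114086) F83207 F163438 F77751)).symm
theorem F177617 : act 2 n106534 = n110779 := (sb E17541 (iv2 F171478))
theorem F177618 : act 4 n106534 = n49696 := (sb E17541 (iv4 D107571))
theorem F177619 : act 7 n106534 = n110782 := (sb E17541 (iv7 F171489))
theorem E17542 : n107574 = n106535 := (c15_4 F164557 F164558 F177619 F171488)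
theorem F177620 : act 2 n106535 = n110782 := (sb E17542 (iv2 F171488))
theorem F177621 : act 4 n106535 = n49697 := (sb E17542 (iv4 D107574))
theorem F177622 : act 7 n106535 = n110779 := (sb E17542 (iv7 F171479))
theorem F177623 : act 4 n76326 = n78883 := d10_3 (iv6 D78883) F177616 D76326
theorem E17543 : n106336 = n53041 := (c17_4 (iv1 F83145) (iv5 F177520) (iv1 F177522) (iv5 F163404) F83752 F78524 F80541 F80539 F56567 F177616)
theorem F177624 : act 5 n53041 = n76333 := (sb E17543 F163404)
theorem E17544 : n49142 = n25735 := ((((iv6 D53041)).symm.trans (sb E17543 (iv6 D106336)))).symm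
theorem E17545 : n53037 = n34845 := ((D53037).symm.trans (sb E17544 (iv1 F77606)))
theorem E17546 : n53038 = n23981 := ((D53038).symm.trans (sb E17544 (iv0 D49142)))
theorem E17552 : n49143 = n25740 := (((iv1 F77600)).symm.trans (sb E17545 (iv1 F83755)))
theorem F177625 : act 1 n34845 = n25735 := (sb E17545 (iv0 D53037))
theorem F177626 : act 0 n23981 = n25735 := (sb E17546 (iv1 D53038))
theorem F177627 : act 0 n25740 = n23981 := (sb E17552 (iv1 D49143))
theorem F177628 : act 1 n25740 = n34845 := (sb E17552 F77600)
theorem F177629 : act 5 n106342 = n113981 := d17_3 F177627 D49144 D106342 (iv4 D113981) (iv5 D52609) (iv0 D25530) F20063 D12218 D25740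
theorem E17557 : n106264 = n52613 := (c18_7 (iv1 F37059) D25740 F177627 F37462 (iv5 F37410) (iv4 F77527) D106264 (iv4 D52613) F76652 F76650)
theorem E17558 : n113975 = n49106 := (((iv1 F177314)).symm.trans (sb E17557 (iv1 D106264)))
theorem E17559 : n113974 = n106113 := ((F177318).symm.trans (sb E17557 F163302))
theorem E17560 : n106263 = n52608 := ((D106263).symm.trans (sb E17558 (iv1 D113975)))
theorem F177630 : act 1 n49106 = n52613 := (sb E17558 F177314)
theorem F177631 : act 0 n106113 = n52613 := (sb E17559 (iv1 F177318))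
theorem F177632 : act 0 n52608 = n106113 := (sb E17560 (iv1 F163308))
theorem F177633 : act 1 n52608 = n49106 := (sb E17560 (iv0 D106263))
theorem E17561 : n114044 = n113997 := ((c17_5 (iv1 F37060) (iv5 F76650) (iv1 F76652) D52614 D113997 F177533 F163406 F114334 F177625 (iv4 D25735))).symm
theorem F177634 : act 5 n113997 = n106343 := (sb E17561 F177533)
theorem E17562 : n76373 = n52632 := ((F177490).symm.trans (sb E17561 (iv6 D114044)))
theorem E17563 : n114042 = n34895 := ((D114042).symm.trans (sb E17562 (iv4 D76373)))
theorem F177635 : act 6 n52632 = n113997 := (sb E17562 (iv6 F177490))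
theorem F177636 : act 4 n34895 = n52632 := (sb E17563 (iv4 D114042))
theorem E17564 : n106363 = n53072 := (c17_5 (iv1 F83155) (iv5 F78003) (iv1 F78005) (iv5 F77751) (iv4 F163426) F114490 F114489 F106070 F55218 F177636)
theorem F177639 : act 2 n53072 = n106166 := (sb E17564 F163480)
theorem F177640 : act 4 n53072 = n49150 := (sb E17564 F163426)
theorem E17565 : n49148 = n25744 := ((((iv6 D53072)).symm.trans (sb E17564 (iv6 D106363)))).symm
theorem E17566 : n106359 = n25732 := ((((iv1 F40665)).symm.trans (sb E17565 D106359))).symm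
theorem E17568 : n53068 = n49063 := ((D53068).symm.trans (sb E17565 (iv2 F163468)))
theorem E17569 : n106361 = n53069 := (((D53069).symm.trans (sb E17565 D106361))).symm
theorem E17570 : n53070 = n23982 := ((D53070).symm.trans (sb E17565 (iv4 D49148)))
theorem E17571 : n106362 = n53071 := (((D53071).symm.trans (sb E17565 D106362))).symm
theorem E17572 : n53073 = n49068 := ((D53073).symm.trans (sb E17565 F163465))
theorem E17573 : n49153 = n25745 := ((((iv1 F40666)).symm.trans (sb E17566 (iv1 F163429)))).symm
theorem F177641 : act 2 n49063 = n25744 := (sb E17568 (iv2 D53068))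
theorem F177642 : act 7 n53069 = n106183 := (sb E17569 (iv7 F163498))
theorem F177643 : act 4 n23982 = n25744 := (sb E17570 (iv4 D53070))
theorem F177644 : act 2 n53071 = n106165 := (sb E17571 F163488)
theorem F177645 : act 7 n53071 = n106184 := (sb E17571 (iv7 F163499))
theorem F177646 : act 7 n49068 = n25744 := (sb E17572 (iv7 D53073))
theorem F177647 : act 2 n25745 = n49068 := (sb E17573 F163460)
theorem E17574 : n106380 = n53074 := (((D53074).symm.trans (sb E17573 D106380))).symm
theorem E17575 : n53075 = n23983 := ((D53075).symm.trans (sb E17573 (iv4 D49153)))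
theorem E17576 : n106381 = n53076 := (((D53076).symm.trans (sb E17573 D106381))).symm
theorem E17577 : n106382 = n53077 := (((D53077).symm.trans (sb E17573 D106382))).symm
theorem F177648 : act 7 n25745 = n49063 := (sb E17573 (iv7 F163469))
theorem F177649 : act 7 n53074 = n106164 := (sb E17574 F163486)
theorem F177650 : act 4 n23983 = n25745 := (sb E17575 (iv4 D53075))
theorem F177651 : act 2 n53076 = n106184 := (sb E17576 F163500)
theorem F177652 : act 7 n53076 = n106165 := (sb E17576 F163487)
theorem F177653 : act 2 n53077 = n106185 := (sb E17577 (iv2 F163510))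
theorem F177654 : act 4 n53077 = n49155 := (sb E17577 F163445)
theorem E17578 : n110774 = n106539 := ((c18_2 D49231 D106539 (iv1 F171474) F165958 F78525 F56565 F55218 F177636 (iv0 D52632) F40384)).symm
theorem F177655 : act 0 n106539 = n107569 := (sb E17578 (iv1 F171474))
theorem F177656 : act 1 n106539 = n51069 := (sb E17578 (iv0 D110774))
theorem E17579 : n110775 = n106542 := (c15_2 F177656 D110775 (iv7 F164561) F164560)
theorem F177657 : act 0 n106542 = n51069 := (sb E17579 (iv1 D110775))
theorem F177658 : act 1 n106542 = n107569 := (sb E17579 F171468)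
theorem E17580 : n76377 = n52633 := (c18_8 (iv1 F78005) D106542 F177657 F80535 F38888 (iv4 F27744) D34896 D76377 F83150 (iv5 F78003))
theorem E17581 : n114047 = n34896 := ((D114047).symm.trans (sb E17580 (iv4 D76377)))
theorem F177659 : act 4 n34896 = n52633 := (sb E17581 (iv4 D114047))
theorem F177660 : act 4 n114049 = n76379 := d10_3 (iv6 D76379) F177659 D114049
theorem E17582 : n106274 = n105355 := ((c18_7 (iv1 F37463) F177650 (iv1 D25745) F20216 (iv5 F36996) (iv4 F76647) D105355 (iv4 D106274) F77528 F77434)).symm
theorem F177661 : act 4 n105355 = n49108 := (sb E17582 (iv4 D106274))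
theorem E17583 : n106269 = n105354 := ((c18_7 D23982 F177643 (iv1 F40665) F40656 (iv5 F40360) (iv4 F83106) F161573 (iv4 D106269) (iv0 D49107) F37410)).symm
theorem F177662 : act 4 n105354 = n49107 := (sb E17583 (iv4 D106269))
theorem F177663 : act 3 n52926 = n72934 := d20_5 F177643 (iv1 F40665) F40656 (iv3 F40629) (iv1 F83636) (iv4 D72934) (iv1 D33619) (iv4 F54212) F37456 D23982
theorem F177664 : act 4 n78888 = n76331 := d10_3 (iv6 D76331) F177611 D78888
def n114087 : Q := act 1 n52661
theorem D114087 : act 1 n52661 = n114087 := rfl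
def n114088 : Q := act 5 n52661
theorem D114088 : act 5 n52661 = n114088 := rfl
theorem F177665 : act 6 n114088 = n90417 := d12_2 D52661 D114088 (iv5 D90417) F83202 (iv5 D52660)
theorem F177666 : act 1 n114088 = n114026 := d17_6 D34885 D76356 F120142 (iv5 D78964) (iv4 F83207) D114088 (iv5 D114026) (iv0 D52626) F40376
theorem F177667 : act 0 n114088 = n114030 := d21_10 (iv5 D114030) (iv1 D52627) D52628 F83139 (iv1 F77423) F77420 (iv5 D42280) D42278 D90417 (iv6 F177665)
theorem F177668 : act 0 n114031 = n78969 := d21_10 (iv5 D78969) (iv1 F83277) F83274 (iv6 F76694) (iv1 F76696) D52661 D114088 F177667 (iv5 D114030) D114031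
def n114089 : Q := act 7 n52661
theorem D114089 : act 7 n52661 = n114089 := rfl
theorem F177669 : act 4 n114089 = n78965 := d11_1 D114089 (iv7 D78965) (iv4 F83207)
theorem F177670 : act 6 n114089 = n106188 := d14_1 D114089 (iv7 F163181) (iv6 D105376) F161662 D52661
theorem F177671 : act 0 n114089 = n76279 := d21_10 F177516 (iv1 D114033) (iv5 D52628) (iv6 D25540) F20072 D23763 (iv5 F40048) D52177 (iv5 F163180) (iv6 F177670)
theorem E17584 : n106174 = n78965 := (c17_9 F177671 F177516 (iv1 D114033) (iv5 D52628) F40376 (iv5 F37693) D49332 (iv5 F78001) D106174 (iv4 F177669))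
theorem F177672 : act 0 n78965 = n49065 := (sb E17584 (iv1 D106174))
theorem F177673 : act 1 n78965 = n106372 := (sb E17584 F163481)
theorem F177674 : act 1 n105380 = n76279 := d15_0 (iv0 F177671) (iv7 D114089) (iv2 F161701)
theorem E17585 : n106173 = n52700 := (c15_2 F177673 F163475 (iv7 F163436) (iv2 F163437))
theorem F177675 : act 0 n52700 = n106372 := (sb E17585 (iv1 F163475))
theorem F177676 : act 1 n52700 = n49065 := (sb E17585 (iv0 D106173))
def n114090 : Q := act 2 n52662
theorem D114090 : act 2 n52662 = n114090 := rfl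
theorem F177677 : act 4 n114090 = n95574 := d1_2 F83215 D114090 (iv2 D95574)
theorem F177678 : act 7 n52663 = n114090 := d15_2 (iv0 D52662) D52663 (iv2 D114090)
def n114091 : Q := act 3 n52662
theorem D114091 : act 3 n52662 = n114091 := rfl
def n114092 : Q := act 5 n52662
theorem D114092 : act 5 n52662 = n114092 := rfl
theorem F177679 : act 4 n114092 = n78969 := d17_4 (iv1 D25557) D25558 D52662 D114092 (iv5 D78969) (iv0 D35943) (iv5 D17399) D17398 F83205
def n114093 : Q := act 7 n52662
theorem D114093 : act 7 n52662 = n114093 := rfl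
theorem F177680 : act 2 n114093 = n52663 := d4_1 D114093 F177678 (iv2 D114090)
theorem F177681 : act 4 n114093 = n95577 := d11_1 D114093 (iv7 D95577) F83215
def n114094 : Q := act 6 n52663
theorem D114094 : act 6 n52663 = n114094 := rfl
theorem F177682 : act 4 n114094 = n95580 := d10_1 D114094 (iv6 D95580) (iv4 F83204)
def n114095 : Q := act 4 n52665
theorem D114095 : act 4 n52665 = n114095 := rfl
theorem F177683 : act 2 n114095 = n76519 := d1_1 D114095 (iv4 D76519) (iv2 F83218)
theorem F177684 : act 5 n114095 = n76519 := d16_1 D114095 (iv4 D76519) (iv5 D34952) F27800 D16957 (iv4 F55321) (iv5 F94980) F94983 (iv2 F83218)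
theorem F177685 : act 0 n114095 = n53086 := d17_0 (iv5 F83788) (iv1 F114345) F114343 (iv4 D49158) (iv5 D23985) (iv0 F22838) D28708 (iv0 F83220) D114095
theorem F177686 : act 1 n114095 = n53083 := d18_6 F53341 F51379 (iv1 F27699) (iv4 F40435) D52665 D114095 (iv4 D53083) D53082 F83782
def n114096 : Q := act 6 n52666
theorem D114096 : act 6 n52666 = n114096 := rfl
theorem F177687 : act 2 n114096 = n78889 := d3_1 D114096 (iv6 D78889) (iv2 F83222)
theorem F177688 : act 3 n114096 = n76588 := d7_1 D114096 (iv6 D76588) (iv3 F83223)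
def n114097 : Q := act 1 n52668
theorem D114097 : act 1 n52668 = n114097 := rfl
theorem F177689 : act 1 n114097 = n52671 := d15_1 D114097 (iv7 F83336) F83335
theorem F177690 : act 7 n114097 = n57615 := d15_2 F161807 D114097 (iv2 F161803)
theorem F177691 : act 5 n114097 = n57079 := d17_7 F122865 F122862 (iv1 F108394) F108392 F60760 F83230 D114097 F90130 (iv4 F115801)
theorem F177692 : act 4 n114097 = n79096 := d17_9 F120343 (iv5 D76301) F55120 D42400 D90580 F139425 (iv0 D57256) F83230 D114097
theorem F177693 : act 3 n73048 = n114097 := d19_19 (iv1 D114097) (iv5 F83230) (iv4 F60760) (iv3 D39938) F30135 D37473 (iv4 F89592) F89590 (iv1 F87997) (iv5 F134977) F134976 F73826 (iv1 F73778) (iv5 D46679) (iv4 F70583) F70582 (iv1 F33773) D44592 (iv4 F109575)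
theorem F177694 : act 2 n57614 = n114097 := d1_3 F177692 F120340 (iv4 F90762)
def n114098 : Q := act 6 n52668
theorem D114098 : act 6 n52668 = n114098 := rfl
theorem F177695 : act 3 n114098 = n57260 := d7_1 D114098 (iv6 D57260) (iv3 F83228)
theorem F177696 : act 4 n114098 = n52669 := d10_1 D114098 (iv6 D52669) D52668
def n114099 : Q := act 0 n52669
theorem D114099 : act 0 n52669 = n114099 := rfl
def n114100 : Q := act 5 n52669
theorem D114100 : act 5 n52669 = n114100 := rfl
theorem F177697 : act 3 n114100 = n76599 := d6_1 D114100 (iv5 D76599) (iv3 F83231)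
theorem F177698 : act 6 n114100 = n52670 := d12_2 D52669 D114100 (iv5 D52670) (iv6 D25565) D25564
def n114101 : Q := act 7 n52669
theorem D114101 : act 7 n52669 = n114101 := rfl
theorem F177699 : act 3 n114101 = n76600 := d8_1 D114101 (iv7 D76600) (iv3 F83231)
def n114102 : Q := act 4 n52670
theorem D114102 : act 4 n52670 = n114102 := rfl
def n114103 : Q := act 3 n52671
theorem D114103 : act 3 n52671 = n114103 := rfl
theorem F177700 : act 2 n114103 = n57268 := d0_1 D114103 F90343 F44338 (iv3 F44421) (iv2 F83234)
theorem F177701 : act 5 n114103 = n57267 := d6_2 F83235 D114103 F90338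
theorem F177702 : act 7 n114103 = n57568 := d8_2 F83336 D114103 F90724
theorem F177703 : act 0 n114103 = n57574 := d19_4 (iv1 F32467) D25567 D52671 D114103 (iv5 F115038) (iv4 F125417) (iv3 D81544) (iv1 F70918) F70916 F70352 (iv3 D31919) (iv1 F24997) (iv5 F41712) F41713 F26435 F27122 F21110 (iv4 F20085) (iv3 F32463)
theorem F177704 : act 0 n57573 = n114103 := d20_4 (iv4 D34983) D34981 (iv4 F107988) (iv3 F107990) (iv3 D114103) (iv4 D52671) (iv1 F55472) D48721 F76712 (iv1 F55422)
def n114104 : Q := act 6 n52671
theorem D114104 : act 6 n52671 = n114104 := rfl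
theorem F177705 : act 2 n114104 = n57616 := d3_1 D114104 (iv6 D57616) (iv2 F83234)
theorem F177706 : act 4 n114104 = n52672 := d10_1 D114104 (iv6 D52672) D52671
def n114105 : Q := act 0 n52672
theorem D114105 : act 0 n52672 = n114105 := rfl
def n114106 : Q := act 1 n52672
theorem D114106 : act 1 n52672 = n114106 := rfl
def n114107 : Q := act 5 n52672
theorem D114107 : act 5 n52672 = n114107 := rfl
theorem F177707 : act 3 n114107 = n113698 := d6_1 D114107 F176914 F86706
theorem F177708 : act 6 n114107 = n52674 := d12_2 D52672 D114107 (iv5 D52674) (iv6 D25568) D25567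
def n114108 : Q := act 7 n52672
theorem D114108 : act 7 n52672 = n114108 := rfl
def n114109 : Q := act 5 n52673
theorem D114109 : act 5 n52673 = n114109 := rfl
theorem F177709 : act 2 n114109 = n69726 := d2_1 D114109 (iv5 D69726) (iv2 F83237)
theorem F177710 : act 3 n114109 = n67854 := d6_1 D114109 (iv5 D67854) F83236
theorem F177711 : act 0 n114109 = n68841 := d17_2 (iv1 F114689) D114109 (iv5 D68841) (iv4 F65408) D90494 (iv0 F139269) (iv5 D52487) F76599 (iv4 F114687)
theorem F177712 : act 1 n114109 = n92732 := d17_6 (iv1 F68245) D92788 F161518 F161516 F103974 D114109 (iv5 D92732) F68148 (iv4 F65473)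
theorem F177713 : act 4 n114109 = n64364 := d18_5 (iv1 F77479) (iv4 F114387) (iv1 F114389) F103974 D114109 F177027 (iv4 D113773) F161532 F161529
def n114110 : Q := act 3 n52675
theorem D114110 : act 3 n52675 = n114110 := rfl
theorem F177714 : act 2 n114110 = n76401 := d0_1 D114110 (iv3 D76401) F55252 (iv3 F40456) (iv2 F83240)
theorem F177715 : act 4 n114110 = n78908 := d5_2 D52675 D114110 (iv3 D78908) (iv4 D35923) (iv3 F40451)
theorem F177716 : act 5 n114110 = n83163 := d6_2 (iv5 F92113) D114110 F128224
def n114111 : Q := act 6 n52675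
theorem D114111 : act 6 n52675 = n114111 := rfl
theorem F177717 : act 2 n114111 = n52684 := d3_1 D114111 (iv6 D52684) (iv2 F83240)
theorem F177718 : act 4 n114111 = n52676 := d10_1 D114111 (iv6 D52676) D52675
def n114112 : Q := act 0 n52676
theorem D114112 : act 0 n52676 = n114112 := rfl
theorem F177719 : act 1 n52688 = n114112 := d15_0 (iv0 D114112) (iv7 F142463) F142460
def n114113 : Q := act 1 n52676
theorem D114113 : act 1 n52676 = n114113 := rfl
theorem F177720 : act 1 n114113 = n52688 := d15_1 D114113 (iv7 D52688) (iv2 F83241)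
def n114114 : Q := act 5 n52676
theorem D114114 : act 5 n52676 = n114114 := rfl
theorem F177721 : act 2 n114114 = n52687 := d2_1 D114114 (iv5 D52687) (iv2 F83241)
theorem F177722 : act 3 n114114 = n69729 := d6_1 D114114 F106104 (iv3 F83242)
theorem F177723 : act 6 n114114 = n52677 := d12_2 D52676 D114114 (iv5 D52677) (iv6 D25570) D25569
theorem F177724 : act 7 n114114 = n90261 := d13_2 F142463 D114114 (iv5 F142462)
def n114115 : Q := act 4 n52677
theorem D114115 : act 4 n52677 = n114115 := rfl
theorem F177725 : act 2 n114115 = n52690 := d1_1 D114115 (iv4 D52690) (iv2 F83243)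
theorem F177726 : act 5 n114115 = n57606 := d9_2 D52677 D114115 (iv4 D57606) D57607 F92116 (iv5 D43424) F32636 D43239 D92447 F142222 (iv4 D57601) D57602 F90745 F76772 F51465
theorem F177727 : act 7 n114115 = n90248 := d11_2 (iv7 F83245) D114115 (iv4 D90248)
theorem F177728 : act 0 n114115 = n52810 := d18_2 (iv1 F142217) D114115 (iv4 D52810) (iv5 D25633) D25632 (iv0 F40536) (iv4 F42421) (iv0 F76701) (iv5 F142213)
theorem F177729 : act 1 n114115 = n52815 := d18_6 (iv1 F37426) (iv4 F55114) F55116 F51465 D52677 D114115 (iv4 D52815) F76682 (iv5 D34859)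
def n114116 : Q := act 6 n52678
theorem D114116 : act 6 n52678 = n114116 := rfl
theorem F177730 : act 3 n114116 = n55437 := d7_1 D114116 (iv6 D55437) (iv3 F83248)
theorem F177731 : act 4 n114116 = n52679 := d10_1 D114116 (iv6 D52679) D52678
def n114117 : Q := act 0 n52679
theorem D114117 : act 0 n52679 = n114117 := rfl
def n114118 : Q := act 1 n52679
theorem D114118 : act 1 n52679 = n114118 := rfl
def n114119 : Q := act 7 n52679
theorem D114119 : act 7 n52679 = n114119 := rfl
theorem F177732 : act 3 n114119 = n71367 := d8_1 D114119 (iv7 D71367) (iv3 F83251)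
def n114120 : Q := act 6 n52680
theorem D114120 : act 6 n52680 = n114120 := rfl
theorem F177733 : act 2 n114120 = n54783 := d3_1 D114120 (iv6 D54783) (iv2 F83252)
theorem F177734 : act 3 n114120 = n52682 := d7_1 D114120 (iv6 D52682) D52680
theorem F177735 : act 5 n114120 = n71942 := d12_1 D114120 (iv6 D71942) (iv5 D33239) F50254 (iv5 F83253)
def n114121 : Q := act 3 n52681
theorem D114121 : act 3 n52681 = n114121 := rfl
theorem F177736 : act 2 n114121 = n55426 := d0_1 D114121 F87718 F43027 D27556 (iv2 F83257)
theorem F177737 : act 5 n114121 = n55425 := d6_2 F90127 D114121 (iv3 F90126)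
theorem F177738 : act 7 n114121 = n57692 := d8_2 F161596 D114121 F161599
theorem F177739 : act 0 n114121 = n57565 := d19_4 (iv1 F37032) (iv5 F76672) D52681 D114121 (iv5 D57565) D57564 (iv3 F90716) (iv1 F73554) (iv5 F75477) F75476 (iv3 D26280) D26278 F41820 (iv4 D15644) (iv3 F26852) (iv1 F20970) (iv5 D12591) (iv4 F20164) (iv3 F37028)
theorem F177740 : act 0 n57561 = n114121 := d20_4 (iv4 D33003) D33001 D71317 (iv3 F107814) (iv3 D114121) (iv4 D52681) (iv1 D25572) D25573 F40456 (iv1 F52182)
def n114122 : Q := act 6 n52681
theorem D114122 : act 6 n52681 = n114122 := rfl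
theorem F177741 : act 2 n114122 = n57700 := d3_1 D114122 (iv6 D57700) (iv2 F83257)
theorem F177742 : act 4 n114122 = n52682 := d10_1 D114122 (iv6 D52682) D52681
def n114123 : Q := act 0 n52682
theorem D114123 : act 0 n52682 = n114123 := rfl
def n114124 : Q := act 1 n52682
theorem D114124 : act 1 n52682 = n114124 := rfl
def n114125 : Q := act 5 n52682
theorem D114125 : act 5 n52682 = n114125 := rfl
theorem F177743 : act 2 n114125 = n90819 := d2_1 D114125 (iv5 F161593) F161590
theorem F177744 : act 3 n114125 = n71942 := d6_1 D114125 (iv5 F177735) F177734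
theorem F177745 : act 6 n114125 = n52729 := d12_2 D52682 D114125 (iv5 D52729) (iv6 D25598) (iv5 F76672)
def n114126 : Q := act 7 n52682
theorem D114126 : act 7 n52682 = n114126 := rfl
def n114127 : Q := act 6 n52683
theorem D114127 : act 6 n52683 = n114127 := rfl
theorem F177746 : act 3 n114127 = n105979 := d7_1 D114127 F162773 F106194
def n114128 : Q := act 0 n52684
theorem D114128 : act 0 n52684 = n114128 := rfl
def n114129 : Q := act 1 n52684
theorem D114129 : act 1 n52684 = n114129 := rfl
def n114130 : Q := act 5 n52684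
theorem D114130 : act 5 n52684 = n114130 := rfl
theorem F177747 : act 3 n114130 = n76410 := d6_1 D114130 (iv5 D76410) (iv3 F83258)
def n114131 : Q := act 7 n52684
theorem D114131 : act 7 n52684 = n114131 := rfl
theorem F177748 : act 3 n114131 = n76411 := d8_1 D114131 (iv7 D76411) (iv3 F83258)
theorem F177749 : act 4 n114131 = n52688 := d11_1 D114131 (iv7 D52688) (iv4 F83259)
theorem F177750 : act 6 n114131 = n90150 := d14_1 D114131 (iv7 D90150) (iv6 F76687) F76688 D52684
def n114132 : Q := act 2 n52685
theorem D114132 : act 2 n52685 = n114132 := rfl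
theorem F177751 : act 7 n52686 = n114132 := d15_2 (iv0 D52685) D52686 (iv2 D114132)
def n114133 : Q := act 3 n52685
theorem D114133 : act 3 n52685 = n114133 := rfl
def n114134 : Q := act 4 n52685
theorem D114134 : act 4 n52685 = n114134 := rfl
def n114135 : Q := act 5 n52685
theorem D114135 : act 5 n52685 = n114135 := rfl
def n114136 : Q := act 6 n52685
theorem D114136 : act 6 n52685 = n114136 := rfl
def n114137 : Q := act 7 n52685
theorem D114137 : act 7 n52685 = n114137 := rfl
theorem F177752 : act 2 n114137 = n52686 := d4_1 D114137 F177751 (iv2 D114132)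
def n114138 : Q := act 3 n52686
theorem D114138 : act 3 n52686 = n114138 := rfl
def n114139 : Q := act 4 n52686
theorem D114139 : act 4 n52686 = n114139 := rfl
def n114140 : Q := act 5 n52686
theorem D114140 : act 5 n52686 = n114140 := rfl
def n114141 : Q := act 6 n52686
theorem D114141 : act 6 n52686 = n114141 := rfl
def n114142 : Q := act 0 n52687
theorem D114142 : act 0 n52687 = n114142 := rfl
theorem F177753 : act 1 n90261 = n114142 := d15_0 (iv0 D114142) (iv7 F142280) F142277
def n114143 : Q := act 1 n52687
theorem D114143 : act 1 n52687 = n114143 := rfl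
theorem F177754 : act 1 n114143 = n90261 := d15_1 D114143 (iv7 F177724) F177721
def n114144 : Q := act 4 n52687
theorem D114144 : act 4 n52687 = n114144 := rfl
theorem F177755 : act 6 n114144 = n52690 := d10_2 (iv6 F83261) D114144 (iv4 D52690)
def n114145 : Q := act 6 n52689
theorem D114145 : act 6 n52689 = n114145 := rfl
theorem F177756 : act 2 n114145 = n71877 := d3_1 D114145 (iv6 D71877) F83265
theorem F177757 : act 3 n114145 = n71357 := d7_1 D114145 (iv6 D71357) (iv3 F83267)
def n114146 : Q := act 0 n52692
theorem D114146 : act 0 n52692 = n114146 := rfl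
def n114147 : Q := act 1 n52692
theorem D114147 : act 1 n52692 = n114147 := rfl
def n114148 : Q := act 2 n52692
theorem D114148 : act 2 n52692 = n114148 := rfl
theorem F177759 : act 3 n114148 = n78940 := d0_2 D52692 D114148 (iv2 D78940) (iv3 D35934) F161671
theorem F177760 : act 7 n114148 = n78956 := d4_2 (iv7 F161673) D114148 (iv2 D78956)
theorem F177763 : act 1 n78955 = n114148 := d15_1 D78955 F177760 (iv2 D78956)
def n114149 : Q := act 4 n52692
theorem D114149 : act 4 n52692 = n114149 := rfl
theorem F177764 : act 3 n114149 = n95570 := d5_1 D114149 F147237 F142186 F114627 D52692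
def n114150 : Q := act 5 n52692
theorem D114150 : act 5 n52692 = n114150 := rfl
theorem F177766 : act 3 n114150 = n52694 := d6_1 D114150 (iv5 D52694) D52692
theorem F177767 : act 7 n114150 = n78958 := d13_2 (iv7 F161673) D114150 (iv5 D78958)
def n114151 : Q := act 6 n52692
theorem D114151 : act 6 n52692 = n114151 := rfl
theorem F177768 : act 3 n114151 = n52695 := d7_1 D114151 (iv6 D52695) D52692
def n114152 : Q := act 0 n52694
theorem D114152 : act 0 n52694 = n114152 := rfl
theorem F177769 : act 5 n114152 = n114031 := d21_2 D52694 D114152 (iv6 D114031) (iv1 D52627) (iv6 D25540) (iv5 D12138) (iv1 F8860) D5764 D12159 D25576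
theorem F177770 : act 1 n52699 = n114152 := d15_0 (iv0 D114152) F161675 (iv2 F161668)
theorem F177771 : act 4 n55275 = n114031 := d17_4 D16939 D34925 D76446 F114598 (iv5 F177769) (iv0 D114152) (iv5 D52694) (iv0 D25576) F20109
theorem F177772 : act 2 n114031 = n76331 := d1_1 F177771 (iv4 F177664) F177468
theorem E17586 : n114029 = n26709 := (c10_4 D55275 F177771 (iv6 D114031) D114029)
theorem E17587 : n55273 = n52627 := ((D55273).symm.trans (sb E17586 (iv4 D114029)))
theorem E17588 : n114027 = n34869 := (((iv2 F177513)).symm.trans (sb E17587 F177612))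
theorem F177773 : act 4 n52627 = n26709 := (sb E17587 (iv4 D55273))
theorem E17589 : n114023 = n34868 := ((F177512).symm.trans (sb E17587 (iv7 F177615)))
theorem F177774 : act 2 n34869 = n52627 := (sb E17588 F177513)
theorem E17590 : n55268 = n52626 := (((iv7 F177613)).symm.trans (sb E17588 (iv7 D114027)))
theorem F177775 : act 7 n34868 = n52627 := (sb E17589 (iv7 F177512))
theorem F177776 : act 2 n52626 = n34868 := (sb E17590 (iv2 F177614))
theorem E17591 : n114025 = n26708 := ((D114025).symm.trans (sb E17590 (iv4 D55268)))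
theorem F177777 : act 7 n52626 = n34869 := (sb E17590 F177613)
theorem F177778 : act 4 n26708 = n52626 := (sb E17591 (iv4 D114025))
theorem F177779 : act 1 n94258 = n55275 := d17_8 F177668 (iv5 D78969) (iv1 F83277) F83274 F40463 (iv5 F55293) F69390 D94258 F177771
theorem F177780 : act 0 n75148 = n55275 := d18_0 F177771 F177668 (iv4 F177679) (iv5 D114092) (iv4 F83215) (iv0 D44641) F33479 D44062 (iv5 F112691)
theorem F177781 : act 1 n104704 = n95579 := d17_6 (iv1 F69384) (iv5 F112691) F177780 (iv5 F114598) F161617 D104704 (iv5 D95579) F114624 F114622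
theorem F177782 : act 4 n106122 = n55270 := d10_3 (iv6 D55270) F177778 (iv6 F163138)
theorem E17592 : n105459 = n76279 := ((c17_4 (iv1 F83143) (iv5 F114425) (iv1 F177515) (iv5 F177516) F161856 F80537 F80536 F78525 F56569 F177778)).symm
theorem F177783 : act 2 n76279 = n53041 := (sb E17592 F161855)
theorem F177784 : act 4 n76279 = n48763 := (sb E17592 F161856)
theorem E17593 : n48761 = n34842 := ((((iv6 D76279)).symm.trans (sb E17592 (iv6 D105459)))).symm
theorem F177785 : act 7 n76279 = n114086 := (sb E17592 F177610)
theorem E17594 : n105455 = n49145 := ((((iv1 F77608)).symm.trans (sb E17593 D105455))).symm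
theorem E17596 : n76275 = n25735 := ((D76275).symm.trans (sb E17593 F161775))
theorem E17597 : n105457 = n76276 := (((D76276).symm.trans (sb E17593 D105457))).symm
theorem E17598 : n76277 = n23781 := ((D76277).symm.trans (sb E17593 (iv4 D48761)))
theorem E17599 : n105458 = n76278 := (((D76278).symm.trans (sb E17593 D105458))).symm
theorem E17600 : n76280 = n25740 := ((D76280).symm.trans (sb E17593 F161776))
theorem E17601 : n48766 = n34843 := ((((iv1 F77607)).symm.trans (sb E17594 (iv1 F161850)))).symm
theorem F177786 : act 2 n25735 = n34842 := (sb E17596 (iv2 D76275))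
theorem F177787 : act 7 n76276 = n53058 := (sb E17597 F161852)
theorem F177788 : act 4 n23781 = n34842 := (sb E17598 (iv4 D76277))
theorem F177789 : act 2 n76278 = n53040 := (sb E17599 F161853)
theorem F177790 : act 7 n76278 = n53059 := (sb E17599 F161854)
theorem F177791 : act 7 n25740 = n34842 := (sb E17600 (iv7 D76280))
theorem F177792 : act 2 n34843 = n25740 := (sb E17601 F161783)
theorem E17602 : n105473 = n76281 := (((D76281).symm.trans (sb E17601 D105473))).symm
theorem E17603 : n76282 = n23782 := ((D76282).symm.trans (sb E17601 (iv4 D48766)))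
theorem E17604 : n105474 = n76283 := (((D76283).symm.trans (sb E17601 D105474))).symm
theorem E17605 : n78950 = n76284 := (((D76284).symm.trans (sb E17601 (iv6 F161867)))).symm
theorem F177793 : act 7 n34843 = n25735 := (sb E17601 F161784)
theorem F177794 : act 7 n76281 = n53039 := (sb E17602 F161899)
theorem F177795 : act 4 n23782 = n34843 := (sb E17603 (iv4 D76282))
theorem F177796 : act 2 n76283 = n53059 := (sb E17604 F161900)
theorem F177797 : act 7 n76283 = n53040 := (sb E17604 F161901)
theorem F177798 : act 1 n76284 = n35937 := (sb E17605 (iv0 D78950))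
theorem F177799 : act 2 n76284 = n53060 := (sb E17605 (iv2 F161865))
theorem F177800 : act 4 n76284 = n48768 := (sb E17605 F161866)
theorem E17606 : n110779 = n106753 := ((c18_7 D26708 F177778 (iv1 F83143) (iv4 F83152) F83153 (iv4 F163788) F164556 (iv4 D110779) (iv0 D51070) F38888)).symm
theorem F177801 : act 2 n106753 = n106534 := (sb E17606 (iv2 F177617))
theorem F177802 : act 4 n106753 = n51070 := (sb E17606 (iv4 D110779))
theorem F177803 : act 7 n106753 = n106535 := (sb E17606 (iv7 F177622))
theorem E17607 : n110782 = n106754 := (c15_4 F164550 F164556 F177803 F177620)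
theorem F177804 : act 2 n106754 = n106535 := (sb E17607 (iv2 F177620))
theorem F177805 : act 4 n106754 = n51071 := (sb E17607 (iv4 D110782))
theorem F177806 : act 7 n106754 = n106534 := (sb E17607 (iv7 F177619))
theorem E17608 : n106111 = n105365 := (c18_7 (iv1 F37056) F177795 (iv1 D34843) F27674 (iv5 F37353) (iv4 F77433) D106111 (iv4 D105365) F76648 F40360)
theorem F177807 : act 0 n105365 = n49049 := (sb E17608 (iv1 D106111))
theorem F177808 : act 1 n105365 = n106266 := (sb E17608 F163309)
theorem F177809 : act 4 n76357 = n69697 := d17_4 (iv1 F77608) (iv5 F163410) (iv1 F163412) (iv5 F114468) F106066 F76648 F40360 F37058 F177788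
theorem E17609 : n106110 = n105360 := (c18_7 D23781 F177788 (iv1 F77608) F77604 (iv5 F77530) (iv4 F163306) F163310 (iv4 D105360) (iv0 D48706) F36996)
theorem F177810 : act 0 n105360 = n106266 := (sb E17609 (iv1 F163310))
theorem F177811 : act 1 n105360 = n49049 := (sb E17609 (iv0 D106110))
theorem E17610 : n69695 = n34885 := (c10_4 D76357 F177809 (iv6 D69697) D69695)
theorem E17611 : n76355 = n32350 := ((D76355).symm.trans (sb E17610 (iv4 D69695)))
theorem F177812 : act 4 n32350 = n34885 := (sb E17611 (iv4 D76355))
theorem E17612 : n106166 = n53014 := (c17_5 (iv1 F83157) F83153 (iv1 F78000) (iv5 F78001) (iv4 F163166) F106068 F114496 F114494 F55220 F177812)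
theorem F177815 : act 2 n53014 = n53072 := (sb E17612 (iv2 F177639))
theorem F177816 : act 4 n53014 = n49065 := (sb E17612 F163166)
theorem E17613 : n49063 = n25729 := ((((iv6 D53014)).symm.trans (sb E17612 (iv6 D106166)))).symm
theorem E17614 : n106162 = n25743 := ((((iv1 F40664)).symm.trans (sb E17613 D106162))).symm
theorem E17616 : n53010 = n25744 := ((D53010).symm.trans (sb E17613 F177641))
theorem E17617 : n106164 = n53011 := (((D53011).symm.trans (sb E17613 D106164))).symm
theorem E17618 : n53012 = n23937 := ((D53012).symm.trans (sb E17613 (iv4 D49063)))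
theorem E17619 : n106165 = n53013 := (((D53013).symm.trans (sb E17613 D106165))).symm
theorem E17620 : n53015 = n25745 := ((D53015).symm.trans (sb E17613 (iv7 F177648)))
theorem E17621 : n49068 = n25730 := ((((iv1 F40663)).symm.trans (sb E17614 (iv1 F163169)))).symm
theorem F177817 : act 2 n25744 = n25729 := (sb E17616 (iv2 D53010))
theorem F177818 : act 7 n53011 = n53074 := (sb E17617 (iv7 F177649))
theorem F177819 : act 4 n23937 = n25729 := (sb E17618 (iv4 D53012))
theorem F177820 : act 2 n53013 = n53071 := (sb E17619 (iv2 F177644))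
theorem F177821 : act 7 n53013 = n53076 := (sb E17619 (iv7 F177652))
theorem F177822 : act 7 n25745 = n25729 := (sb E17620 (iv7 D53015))
theorem F177823 : act 2 n25730 = n25745 := (sb E17621 (iv2 F177647))
theorem E17622 : n106183 = n53016 := (((D53016).symm.trans (sb E17621 D106183))).symm
theorem E17623 : n53017 = n23938 := ((D53017).symm.trans (sb E17621 (iv4 D49068)))
theorem E17624 : n106184 = n53018 := (((D53018).symm.trans (sb E17621 D106184))).symm
theorem E17625 : n106185 = n53019 := (((D53019).symm.trans (sb E17621 D106185))).symm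
theorem F177824 : act 7 n25730 = n25744 := (sb E17621 F177646)
theorem F177825 : act 7 n53016 = n53069 := (sb E17622 (iv7 F177642))
theorem F177826 : act 4 n23938 = n25730 := (sb E17623 (iv4 D53017))
theorem F177827 : act 2 n53018 = n53076 := (sb E17624 (iv2 F177651))
theorem F177828 : act 7 n53018 = n53071 := (sb E17624 (iv7 F177645))
theorem F177829 : act 2 n53019 = n53077 := (sb E17625 (iv2 F177653))
theorem F177830 : act 4 n53019 = n49070 := (sb E17625 F163178)
theorem E17626 : n107566 = n106758 := ((c18_2 D49331 D106758 (iv1 F171476) F171472 F80539 (iv4 F55217) F55220 F177812 (iv0 D34885) (iv5 F37693))).symm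
theorem F177831 : act 0 n106758 = n110777 := (sb E17626 (iv1 F171476))
theorem F177832 : act 1 n106758 = n49695 := (sb E17626 (iv0 D107566))
theorem E17627 : n107567 = n106761 := (c15_2 F177832 D107567 F164566 (iv2 F164560))
theorem F177833 : act 0 n106761 = n49695 := (sb E17627 (iv1 D107567))
theorem F177834 : act 1 n106761 = n110777 := (sb E17627 F171475)
theorem F177835 : act 4 n76466 = n106372 := d18_3 (iv1 F161886) F136443 D76466 (iv5 F163479) D106758 F177832 F78523 D49697 (iv5 F78524)
theorem F177836 : act 7 n53072 = n76466 := d11_0 F177835 (iv7 D106372) (iv4 F177640)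
theorem E17628 : n76360 = n32351 := (c17_10 (iv1 D32351) D32352 D69703 (iv5 F114609) F177835 (iv5 F163479) (iv0 D49331) F37693 D34886 D76360)
theorem E17629 : n69700 = n34886 := ((D69700).symm.trans (sb E17628 (iv4 D76360)))
theorem F177837 : act 4 n34886 = n32351 := (sb E17629 (iv4 D69700))
theorem F177838 : act 4 n69702 = n76362 := d10_3 (iv6 D76362) F177837 D69702
theorem F177839 : act 7 n69703 = n76381 := d13_2 F177836 F114609 (iv5 F114490)
theorem F177840 : act 2 n76381 = n69704 := d15_3 F114496 F114497 F177839
theorem F177841 : act 2 n69703 = n76380 := d15_3 (iv0 D76380) D76381 (iv7 F177839)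
theorem F177842 : act 7 n76380 = n69704 := d4_2 (iv7 F177839) F177841 (iv2 F177840)
theorem E17630 : n113954 = n49051 := (c18_8 (iv1 F37466) F177826 (iv1 D25730) F20214 (iv5 F20063) (iv4 F40359) D52603 D113954 F77532 F77530)
theorem E17631 : n106121 = n52603 := ((D106121).symm.trans (sb E17630 (iv4 D113954)))
theorem F177843 : act 4 n52603 = n49051 := (sb E17631 (iv4 D106121))
theorem F177844 : act 4 n52960 = n58307 := d20_6 F177826 (iv1 D25730) F20214 (iv3 F20205) D25709 D52960 (iv1 F92175) (iv4 F77596) F77595 (iv1 F37466)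
theorem F177845 : act 2 n72931 = n52960 := d1_3 F177844 F109433 D72931
theorem F177846 : act 7 n72934 = n52960 := d11_0 F177844 F109435 D72934
theorem E17632 : n52964 = n52926 := (c8_3 F177846 (iv3 D52960) D52964 F177663)
theorem F177847 : act 2 n52926 = n25710 := (sb E17632 F83692)
theorem F177848 : act 7 n52926 = n25709 := (sb E17632 (iv7 D52964))
theorem E17633 : n52959 = n52925 := (c15_4 (iv0 D52925) D52926 F177848 D52959)
theorem F177849 : act 2 n52925 = n25709 := (sb E17633 (iv2 D52959))
theorem F177850 : act 7 n52925 = n25710 := (sb E17633 (iv7 F83691))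
theorem F177851 : act 4 n106119 = n113952 := d1_2 F177843 (iv2 F163137) F177301
theorem F177852 : act 4 n106123 = n113956 := d10_3 (iv6 D113956) F177843 D106123
theorem F177853 : act 4 n106114 = n113947 := d11_3 (iv7 F177300) F177843 F163136
theorem F177854 : act 5 n106170 = n113957 := d17_5 (iv1 D49051) F37353 D23937 D49064 D106170 (iv0 D113957) (iv5 D52604) D52603 F177843
theorem E17634 : n113949 = n49050 := (c1_3 F177853 (iv2 D113947) D113949 D106114)
theorem E17635 : n106116 = n52602 := ((D106116).symm.trans (sb E17634 (iv4 D113949)))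
theorem F177855 : act 4 n52602 = n49050 := (sb E17635 (iv4 D106116))
theorem F177856 : act 4 n106118 = n113951 := d10_3 (iv6 D113951) F177855 D106118
theorem F177857 : act 7 n76332 = n114033 := d13_2 F177785 F177607 (iv5 F177516)
theorem F177858 : act 2 n114033 = n76333 := d15_3 F177522 F177523 F177857
theorem F177859 : act 2 n76332 = n114032 := d15_3 (iv0 D114032) D114033 (iv7 F177857)
theorem F177860 : act 7 n114032 = n76333 := d4_2 (iv7 F177857) F177859 (iv2 F177858)
theorem F177861 : act 2 n76326 = n106122 := d1_3 F177782 F177457 (iv4 F177623)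
theorem E17636 : n106119 = n49108 := (c2_4 (iv5 F114422) F177861 (iv5 D106122) (iv2 F163137))
theorem E17637 : n106272 = n49051 := (((iv2 F163313)).symm.trans (sb E17636 F163137))
theorem E17638 : n113952 = n105355 := ((((iv4 F177661)).symm.trans (sb E17636 F177851))).symm
theorem E17639 : n106267 = n49050 := ((F163311).symm.trans (sb E17636 (iv7 D106119)))
theorem F177862 : act 2 n49051 = n49108 := (sb E17637 F163313)
theorem E17640 : n106114 = n49107 := ((F163136).symm.trans (sb E17637 (iv7 D106272)))
theorem F177863 : act 2 n105355 = n52603 := (sb E17638 F177301)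
theorem F177864 : act 7 n105355 = n52602 := (sb E17638 (iv7 D113952))
theorem F177865 : act 7 n49050 = n49108 := (sb E17639 (iv7 F163311))
theorem F177866 : act 2 n49107 = n49050 := (sb E17640 (iv2 D106114))
theorem E17641 : n113947 = n105354 := ((((iv4 F177662)).symm.trans (sb E17640 F177853))).symm
theorem F177867 : act 7 n49107 = n49051 := (sb E17640 (iv7 F163136))
theorem F177868 : act 2 n105354 = n52602 := (sb E17641 (iv2 D113947))
theorem F177869 : act 7 n105354 = n52603 := (sb E17641 (iv7 F177300))
theorem F177870 : act 7 n106120 = n106268 := d8_2 F177867 D106120 (iv3 D106268)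
theorem F177871 : act 7 n106122 = n106270 := d13_2 F177867 D106122 (iv5 D106270)
theorem F177872 : act 2 n106117 = n106270 := d2_3 (iv5 D106270) F177866 D106117
theorem F177873 : act 2 n106118 = n106271 := d3_3 (iv6 D106271) F177866 D106118
theorem F177874 : act 7 n76326 = n106117 := d4_0 F177872 (iv7 F177871) (iv2 F177861)
theorem F177875 : act 7 n106273 = n106115 := d8_2 F177865 D106273 (iv3 D106115)
theorem F177876 : act 2 n106275 = n106123 := d3_3 (iv6 D106123) F177862 D106275
theorem F177877 : act 7 n76328 = n114024 := d8_2 F177777 D76328 (iv3 D114024)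
theorem F177878 : act 7 n76330 = n114026 := d13_2 F177777 D76330 (iv5 D114026)
theorem F177879 : act 2 n76330 = n114030 := d15_3 (iv0 F177667) F177666 (iv7 F177878)
theorem F177880 : act 2 n76325 = n114026 := d2_3 (iv5 D114026) F177776 D76325
theorem F177881 : act 7 n114030 = n76325 := d4_0 F177880 (iv7 F177878) F177879
theorem F177882 : act 7 n114028 = n76323 := d8_2 F177775 D114028 (iv3 D76323)
theorem F177883 : act 2 n78945 = n114152 := d2_3 F177769 F177772 (iv5 F120132)
theorem F177884 : act 7 n78946 = n114152 := d15_2 (iv0 D78945) D78946 (iv2 F177883)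
def n114153 : Q := act 1 n52694
theorem D114153 : act 1 n52694 = n114153 := rfl
theorem F177885 : act 1 n114153 = n52699 := d15_1 D114153 F161669 (iv2 F161674)
theorem F177886 : act 7 n114153 = n78945 := d15_2 (iv0 D114152) D114153 F177883
theorem F177887 : act 2 n78946 = n114153 := d4_3 F177886 F177883 (iv7 F177884)
def n114154 : Q := act 4 n52694
theorem D114154 : act 4 n52694 = n114154 := rfl
theorem F177888 : act 2 n114154 = n78947 := d1_1 D114154 (iv4 D78947) (iv2 F161674)
theorem F177889 : act 7 n114154 = n78960 := d11_2 (iv7 F161675) D114154 (iv4 D78960)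
def n114155 : Q := act 6 n52694
theorem D114155 : act 6 n52694 = n114155 := rfl
theorem F177890 : act 2 n114155 = n78948 := d3_1 D114155 (iv6 D78948) (iv2 F161674)
def n114156 : Q := act 0 n52695
theorem D114156 : act 0 n52695 = n114156 := rfl
def n114157 : Q := act 1 n52695
theorem D114157 : act 1 n52695 = n114157 := rfl
theorem F177891 : act 1 n114157 = n78952 := d15_1 D114157 (iv7 D78952) (iv2 F161676)
theorem F177892 : act 4 n114157 = n76452 := d17_9 (iv1 D76452) D76453 F114603 (iv5 D48736) F37044 D28491 D60010 (iv5 F94474) D114157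
theorem F177893 : act 2 n78951 = n114157 := d1_3 F177892 (iv2 F161764) F161863
theorem F177894 : act 7 n76284 = n114157 := d11_0 F177892 (iv7 F161788) (iv4 F177800)
theorem E17642 : n114156 = n53060 := ((c15_4 (iv0 D114156) D114157 (iv7 F177894) F177799)).symm
theorem F177895 : act 1 n53060 = n52695 := (sb E17642 (iv0 D114156))
def n114158 : Q := act 7 n52695
theorem D114158 : act 7 n52695 = n114158 := rfl
theorem F177896 : act 2 n114158 = n78952 := d4_1 D114158 (iv7 D78952) (iv2 F161676)
theorem F177897 : act 4 n114158 = n106188 := d11_1 D114158 (iv7 F163181) F161605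
theorem F177898 : act 5 n114158 = n52761 := d13_1 D114158 F161680 (iv5 F94474)
theorem F177899 : act 6 n114158 = n78965 := d14_1 D114158 (iv7 D78965) (iv6 D35942) (iv7 F161666) D52695
theorem F177900 : act 1 n78951 = n114158 := d15_1 D78951 (iv7 D114158) F161676
theorem F177901 : act 1 n114158 = n76284 := d15_1 F177900 F177894 (iv2 F177893)
def n114159 : Q := act 0 n52697
theorem D114159 : act 0 n52697 = n114159 := rfl
theorem F177902 : act 1 n78940 = n114159 := d15_0 (iv0 D114159) F161667 D78940
def n114160 : Q := act 1 n52697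
theorem D114160 : act 1 n52697 = n114160 := rfl
def n114161 : Q := act 2 n52697
theorem D114161 : act 2 n52697 = n114161 := rfl
theorem F177903 : act 3 n114161 = n78956 := d0_2 D52697 D114161 (iv2 D78956) (iv3 D35939) (iv2 F161663)
theorem F177904 : act 7 n114161 = n78940 := d4_2 (iv7 F161667) D114161 (iv2 D78940)
theorem F177906 : act 1 n114160 = n78940 := d15_1 D114160 (iv7 F177904) (iv2 D114161)
def n114162 : Q := act 4 n52697
theorem D114162 : act 4 n52697 = n114162 := rfl
theorem F177908 : act 7 n114162 = n78941 := d11_2 (iv7 F161667) D114162 (iv4 D78941)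
def n114163 : Q := act 5 n52697
theorem D114163 : act 5 n52697 = n114163 := rfl
theorem F177909 : act 3 n114163 = n52699 := d6_1 D114163 (iv5 D52699) D52697
theorem F177910 : act 7 n114163 = n78942 := d13_2 (iv7 F161667) D114163 (iv5 D78942)
def n114164 : Q := act 6 n52697
theorem D114164 : act 6 n52697 = n114164 := rfl
theorem F177911 : act 3 n114164 = n52700 := d7_1 D114164 (iv6 D52700) D52697
def n114165 : Q := act 4 n52699
theorem D114165 : act 4 n52699 = n114165 := rfl
theorem F177912 : act 2 n114165 = n78960 := d1_1 D114165 (iv4 D78960) (iv2 F161668)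
theorem F177913 : act 7 n114165 = n78947 := d11_2 (iv7 F161669) D114165 (iv4 D78947)
def n114166 : Q := act 5 n52700
theorem D114166 : act 5 n52700 = n114166 := rfl
theorem F177914 : act 2 n114166 = n78964 := d2_1 D114166 (iv5 D78964) (iv2 F161670)
theorem F177915 : act 0 n114043 = n114166 := d21_1 D114043 (iv5 D114166) (iv6 D52700) (iv1 D25577) (iv6 D12159) (iv5 D5764) (iv1 F8863) D12141 D25543 D52632
def n114167 : Q := act 2 n52701
theorem D114167 : act 2 n52701 = n114167 := rfl
theorem F177916 : act 7 n52702 = n114167 := d15_2 (iv0 D52701) D52702 (iv2 D114167)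
def n114169 : Q := act 4 n52701
theorem D114169 : act 4 n52701 = n114169 := rfl
def n114170 : Q := act 5 n52701
theorem D114170 : act 5 n52701 = n114170 := rfl
theorem F177917 : act 4 n114170 = n90118 := d17_4 (iv1 D25577) D25578 D52701 D114170 (iv5 D90118) (iv0 D42124) (iv5 F37018) D48716 F114619
theorem F177918 : act 1 n114170 = n76331 := d17_8 (iv1 F177470) (iv5 D76473) (iv1 F69392) F69388 F55137 (iv5 F56627) F83275 D114170 (iv4 F177664)
def n114171 : Q := act 6 n52701
theorem D114171 : act 6 n52701 = n114171 := rfl
def n114172 : Q := act 7 n52701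
theorem D114172 : act 7 n52701 = n114172 := rfl
theorem F177919 : act 2 n114172 = n52702 := d4_1 D114172 F177916 (iv2 D114167)
def n114173 : Q := act 3 n52702
theorem D114173 : act 3 n52702 = n114173 := rfl
def n114174 : Q := act 6 n52702
theorem D114174 : act 6 n52702 = n114174 := rfl
def n114175 : Q := act 0 n52703
theorem D114175 : act 0 n52703 = n114175 := rfl
def n114176 : Q := act 1 n52703
theorem D114176 : act 1 n52703 = n114176 := rfl
theorem F177920 : act 1 n114176 = n78979 := d15_1 D114176 (iv7 D78979) (iv2 F83271)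
theorem F177921 : act 4 n114176 = n53000 := d18_7 (iv1 F43582) F136441 (iv1 D16940) (iv4 F20109) D25578 D52703 D114176 F88594 F88592
theorem F177922 : act 2 n78977 = n114176 := d1_3 F177921 (iv2 F161741) (iv4 F136678)
def n114177 : Q := act 5 n52703
theorem D114177 : act 5 n52703 = n114177 := rfl
theorem F177923 : act 2 n114177 = n78978 := d2_1 D114177 (iv5 D78978) (iv2 F83271)
theorem F177924 : act 6 n114177 = n97157 := d12_2 (iv6 F83272) D114177 (iv5 D97157) (iv6 D45408) (iv5 F40474)
theorem F177925 : act 4 n114177 = n89819 := d16_2 D52703 D114177 (iv5 D89819) (iv4 F69387) F69388 F55137 (iv5 F56627) (iv7 D35946) (iv2 F40460)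
theorem F177926 : act 7 n95583 = n114177 := d11_0 F177925 F137857 D95583
def n114178 : Q := act 7 n52703
theorem D114178 : act 7 n52703 = n114178 := rfl
theorem F177927 : act 2 n114178 = n78979 := d4_1 D114178 (iv7 D78979) (iv2 F83271)
theorem F177928 : act 4 n114178 = n52704 := d11_1 D114178 (iv7 D52704) D52703
theorem F177929 : act 5 n114178 = n95583 := d13_1 D114178 F177926 (iv5 D114177)
theorem F177930 : act 1 n78979 = n114175 := d15_0 (iv0 D114175) D114178 F177927
theorem F177931 : act 1 n78977 = n114178 := d15_1 D78977 (iv7 D114178) F83271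
theorem F177932 : act 7 n114175 = n78977 := d15_2 F177920 F177930 F177922
theorem F177933 : act 4 n114175 = n52999 := d18_7 D25721 (iv4 F136445) (iv1 F55141) F55137 (iv5 F56627) (iv4 F120151) F177930 (iv0 D52999) (iv5 D25723)
theorem F177934 : act 2 n114175 = n78976 := d15_3 (iv0 D78976) D78977 (iv7 F177932)
theorem F177935 : act 4 n78976 = n55981 := d1_2 (iv4 F177933) F177934 (iv2 F161744)
theorem F177936 : act 7 n78976 = n114176 := d4_2 (iv7 F177932) F177934 (iv2 F177922)
theorem F177937 : act 1 n114178 = n78976 := d15_1 F177931 F177936 (iv2 F177922)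
def n114179 : Q := act 0 n52705
theorem D114179 : act 0 n52705 = n114179 := rfl
def n114180 : Q := act 1 n52705
theorem D114180 : act 1 n52705 = n114180 := rfl
theorem F177938 : act 1 n114180 = n76321 := d15_1 D114180 (iv7 D76321) (iv2 F83278)
theorem F177939 : act 5 n106118 = n114180 := d21_6 (iv5 D12117) F10309 D11210 D23930 D49050 D106118 (iv1 D114180) F83279 (iv6 D52504) (iv1 F40286)
theorem F177940 : act 2 n114180 = n76320 := d2_1 F177939 (iv5 F163312) (iv2 F177873)
def n114181 : Q := act 7 n52705
theorem D114181 : act 7 n52705 = n114181 := rfl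
theorem F177941 : act 2 n114181 = n76321 := d4_1 D114181 (iv7 D76321) (iv2 F83278)
theorem F177942 : act 5 n114181 = n113713 := d13_1 D114181 (iv7 D113713) (iv5 F83279)
theorem F177943 : act 6 n114181 = n78984 := d14_1 D114181 (iv7 D78984) (iv6 D35948) (iv7 F40468) D52705
theorem F177944 : act 1 n76321 = n114179 := d15_0 (iv0 D114179) D114181 F177941
theorem F177945 : act 1 n76320 = n114181 := d15_1 D76320 (iv7 D114181) F83278
theorem F177946 : act 7 n114179 = n76320 := d15_2 F177938 F177944 (iv2 F177940)
theorem F177947 : act 2 n114179 = n76319 := d15_3 (iv0 D76319) D76320 (iv7 F177946)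
theorem F177948 : act 7 n76319 = n114180 := d4_2 (iv7 F177946) F177947 F177940
theorem F177949 : act 1 n114181 = n76319 := d15_1 F177945 F177948 F177940
def n114182 : Q := act 0 n52706
theorem D114182 : act 0 n52706 = n114182 := rfl
def n114183 : Q := act 1 n52706
theorem D114183 : act 1 n52706 = n114183 := rfl
theorem F177950 : act 1 n114183 = n76274 := d15_1 D114183 (iv7 D76274) (iv2 F83280)
def n114184 : Q := act 7 n52706
theorem D114184 : act 7 n52706 = n114184 := rfl
theorem F177951 : act 2 n114184 = n76274 := d4_1 D114184 (iv7 D76274) (iv2 F83280)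
theorem F177952 : act 6 n114184 = n78990 := d14_1 D114184 (iv7 D78990) (iv6 D35950) (iv7 F40470) D52706
theorem F177953 : act 1 n76274 = n114182 := d15_0 (iv0 D114182) D114184 F177951
theorem F177954 : act 1 n76273 = n114184 := d15_1 D76273 (iv7 D114184) F83280
theorem F177955 : act 1 n114184 = n76272 := d15_0 (iv0 D76272) D76274 (iv2 F177951)
def n114185 : Q := act 0 n52707
theorem D114185 : act 0 n52707 = n114185 := rfl
def n114186 : Q := act 1 n52707
theorem D114186 : act 1 n52707 = n114186 := rfl
theorem F177956 : act 1 n114186 = n79000 := d15_1 D114186 (iv7 D79000) (iv2 F83281)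
def n114187 : Q := act 7 n52707
theorem D114187 : act 7 n52707 = n114187 := rfl
theorem F177957 : act 2 n114187 = n79000 := d4_1 D114187 (iv7 D79000) (iv2 F83281)
theorem F177958 : act 3 n114187 = n79007 := d8_1 D114187 (iv7 D79007) (iv3 F83282)
theorem F177959 : act 5 n114187 = n62626 := d13_1 D114187 (iv7 D62626) (iv5 F83283)
theorem F177960 : act 6 n114187 = n70569 := d14_1 D114187 (iv7 D70569) (iv6 D32736) (iv7 F40481) D52707
theorem F177961 : act 1 n79000 = n114185 := d15_0 (iv0 D114185) D114187 F177957
theorem F177962 : act 1 n78999 = n114187 := d15_1 D78999 (iv7 D114187) F83281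
theorem F177963 : act 1 n114187 = n78998 := d15_0 (iv0 D78998) D79000 (iv2 F177957)
def n114188 : Q := act 5 n52708
theorem D114188 : act 5 n52708 = n114188 := rfl
theorem F177964 : act 2 n114188 = n52745 := d2_1 D114188 (iv5 D52745) (iv2 F83284)
theorem F177965 : act 3 n114188 = n52710 := d6_1 D114188 (iv5 D52710) (iv3 F83285)
theorem F177966 : act 7 n114188 = n52746 := d13_2 (iv7 F83287) D114188 (iv5 D52746)
theorem F177967 : act 0 n114188 = n106510 := d21_1 D114188 (iv5 D106510) (iv6 D49220) F50510 (iv6 D25565) D25564 (iv1 F55473) (iv5 D25599) D25600 F83288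
def n114189 : Q := act 5 n52709
theorem D114189 : act 5 n52709 = n114189 := rfl
theorem F177968 : act 2 n114189 = n53097 := d2_1 D114189 (iv5 D53097) F83291
theorem F177969 : act 7 n114189 = n54810 := d13_2 (iv7 F83293) D114189 (iv5 D54810)
theorem F177970 : act 0 n114189 = n54861 := d21_1 D114189 (iv5 F86802) (iv6 D52651) (iv1 D25554) (iv6 D12146) D12145 D25549 F40404 D25586 D52709
theorem F177971 : act 1 n114189 = n54860 := d15_0 (iv0 D54860) (iv7 F83800) (iv2 F177968)
def n114190 : Q := act 0 n52710
theorem D114190 : act 0 n52710 = n114190 := rfl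
theorem F177972 : act 5 n114190 = n68095 := d17_3 F42432 D52710 D114190 (iv4 D68095) (iv5 F86145) (iv0 D54528) (iv5 D26370) F26890 (iv4 F21085)
theorem F177973 : act 2 n71894 = n114190 := d15_3 (iv0 D114190) F163525 F163523
theorem F177974 : act 1 n54859 = n114190 := d15_0 (iv0 D114190) (iv7 F176900) F176898
theorem F177975 : act 7 n114190 = n71895 := d15_2 (iv0 F163524) F177974 (iv2 F176903)
theorem F177976 : act 3 n114190 = n92814 := d0_2 F108388 F177973 (iv2 F163518) (iv3 D106388) (iv2 F77613)
def n114191 : Q := act 4 n52710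
theorem D114191 : act 4 n52710 = n114191 := rfl
theorem F177977 : act 2 n114191 = n71896 := d1_1 D114191 (iv4 D71896) (iv2 F83295)
def n114192 : Q := act 3 n52711
theorem D114192 : act 3 n52711 = n114192 := rfl
theorem F177978 : act 5 n114192 = n72010 := d6_2 (iv5 F83297) D114192 (iv3 D72010)
theorem F177979 : act 7 n114192 = n71837 := d8_2 (iv7 F83298) D114192 (iv3 D71837)
def n114193 : Q := act 6 n52711
theorem D114193 : act 6 n52711 = n114193 := rfl
theorem F177980 : act 2 n114193 = n52714 := d3_1 D114193 (iv6 D52714) (iv2 F83296)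
theorem F177981 : act 4 n114193 = n52712 := d10_1 D114193 (iv6 D52712) D52711
def n114194 : Q := act 0 n52712
theorem D114194 : act 0 n52712 = n114194 := rfl
def n114195 : Q := act 1 n52712
theorem D114195 : act 1 n52712 = n114195 := rfl
theorem F177982 : act 1 n114195 = n52717 := d15_1 D114195 (iv7 D52717) (iv2 F83301)
def n114196 : Q := act 7 n52712
theorem D114196 : act 7 n52712 = n114196 := rfl
theorem F177983 : act 2 n114196 = n52717 := d4_1 D114196 (iv7 D52717) (iv2 F83301)
theorem F177984 : act 6 n114196 = n71842 := d14_1 D114196 (iv7 D71842) (iv6 D33202) (iv7 F40488) D52712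
theorem F177985 : act 1 n52717 = n114194 := d15_0 (iv0 D114194) D114196 F177983
theorem F177986 : act 1 n52716 = n114196 := d15_1 D52716 (iv7 D114196) F83301
theorem F177987 : act 1 n114196 = n52715 := d15_0 (iv0 D52715) D52717 (iv2 F177983)
def n114197 : Q := act 6 n52713
theorem D114197 : act 6 n52713 = n114197 := rfl
theorem F177989 : act 4 n114197 = n71850 := d10_1 D114197 (iv6 D71850) (iv4 F83304)
def n114198 : Q := act 0 n52714
theorem D114198 : act 0 n52714 = n114198 := rfl
def n114199 : Q := act 1 n52714
theorem D114199 : act 1 n52714 = n114199 := rfl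
def n114200 : Q := act 5 n52714
theorem D114200 : act 5 n52714 = n114200 := rfl
def n114201 : Q := act 7 n52714
theorem D114201 : act 7 n52714 = n114201 := rfl
theorem F177990 : act 4 n114201 = n52717 := d11_1 D114201 (iv7 D52717) (iv4 F83305)
theorem F177991 : act 6 n114201 = n71924 := d14_1 D114201 (iv7 D71924) (iv6 D33233) (iv7 F40491) D52714
def n114202 : Q := act 2 n52715
theorem D114202 : act 2 n52715 = n114202 := rfl
theorem F177992 : act 7 n52716 = n114202 := d15_2 (iv0 D52715) D52716 (iv2 D114202)
def n114203 : Q := act 3 n52715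
theorem D114203 : act 3 n52715 = n114203 := rfl
def n114204 : Q := act 4 n52715
theorem D114204 : act 4 n52715 = n114204 := rfl
def n114205 : Q := act 5 n52715
theorem D114205 : act 5 n52715 = n114205 := rfl
def n114206 : Q := act 6 n52715
theorem D114206 : act 6 n52715 = n114206 := rfl
def n114207 : Q := act 7 n52715
theorem D114207 : act 7 n52715 = n114207 := rfl
theorem F177993 : act 2 n114207 = n52716 := d4_1 D114207 F177992 (iv2 D114202)
def n114208 : Q := act 3 n52716
theorem D114208 : act 3 n52716 = n114208 := rfl
def n114209 : Q := act 4 n52716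
theorem D114209 : act 4 n52716 = n114209 := rfl
def n114210 : Q := act 5 n52716
theorem D114210 : act 5 n52716 = n114210 := rfl
def n114211 : Q := act 6 n52716
theorem D114211 : act 6 n52716 = n114211 := rfl
def n114214 : Q := act 3 n52718
theorem D114214 : act 3 n52718 = n114214 := rfl
theorem F177996 : act 7 n114214 = n52724 := d8_2 F83308 D114214 (iv3 D52724)
def n114215 : Q := act 5 n52718
theorem D114215 : act 5 n52718 = n114215 := rfl
theorem F177997 : act 2 n114215 = n52721 := d2_1 D114215 (iv5 D52721) D52718
theorem F177998 : act 7 n114215 = n52726 := d13_2 F83308 D114215 (iv5 D52726)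
def n114216 : Q := act 6 n52718
theorem D114216 : act 6 n52718 = n114216 := rfl
theorem F177999 : act 2 n114216 = n52722 := d3_1 D114216 (iv6 D52722) D52718
theorem F178000 : act 5 n114172 = n114216 := d2_0 F177999 F83309 (iv2 F177919)
theorem F178001 : act 7 n114216 = n114170 := d13_2 D114172 F178000 (iv5 D114170)
def n114218 : Q := act 1 n52719
theorem D114218 : act 1 n52719 = n114218 := rfl
def n114219 : Q := act 2 n52719
theorem D114219 : act 2 n52719 = n114219 := rfl
def n114220 : Q := act 4 n52719
theorem D114220 : act 4 n52719 = n114220 := rfl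
def n114221 : Q := act 5 n52719
theorem D114221 : act 5 n52719 = n114221 := rfl
theorem F178002 : act 3 n114221 = n52721 := d6_1 D114221 (iv5 D52721) D52719
def n114222 : Q := act 6 n52719
theorem D114222 : act 6 n52719 = n114222 := rfl
theorem F178003 : act 3 n114222 = n52722 := d7_1 D114222 (iv6 D52722) D52719
theorem F178004 : act 5 n114173 = n114222 := d6_0 F178003 F83309 D114173
def n114223 : Q := act 7 n52719
theorem D114223 : act 7 n52719 = n114223 := rfl
theorem F178005 : act 3 n114223 = n52723 := d8_1 D114223 (iv7 D52723) D52719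
def n114224 : Q := act 1 n52721
theorem D114224 : act 1 n52721 = n114224 := rfl
theorem F178006 : act 1 n114224 = n52726 := d15_1 D114224 (iv7 F177998) F177997
theorem F178007 : act 7 n114224 = n106386 := d15_2 (iv0 F163182) D114224 (iv2 F163515)
theorem F178008 : act 5 n106387 = n114224 := d13_3 F178007 (iv5 D106386) D106387
theorem F178009 : act 6 n114224 = n113015 := d12_2 (iv6 F163454) F178008 (iv5 F176047) (iv6 D106540) (iv5 F120141)
theorem F178010 : act 0 n52722 = n76331 := d21_10 (iv5 F120132) (iv1 F120136) (iv5 D35941) D35942 D78962 (iv6 F163454) F178008 (iv1 D114224) (iv5 D52721) D52722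
theorem F178011 : act 1 n114049 = n60003 := d17_8 F178010 (iv5 F120132) (iv1 F120136) (iv5 D35941) F83205 D52660 F161691 (iv5 F177541) (iv4 F114628)
def n114225 : Q := act 4 n52721
theorem D114225 : act 4 n52721 = n114225 := rfl
def n114226 : Q := act 6 n52721
theorem D114226 : act 6 n52721 = n114226 := rfl
theorem F178012 : act 5 n114226 = n114174 := d12_1 D114226 (iv6 D114174) (iv5 F83309) (iv6 D52722) D52721
def n114227 : Q := act 7 n52721
theorem D114227 : act 7 n52721 = n114227 := rfl
theorem F178013 : act 2 n114227 = n52726 := d4_1 D114227 (iv7 F177998) F177997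
theorem F178014 : act 5 n114227 = n52723 := d13_1 D114227 (iv7 D52723) D52721
theorem F178015 : act 1 n52726 = n106190 := d15_0 (iv0 F163182) D114227 F178013
def n114228 : Q := act 1 n52722
theorem D114228 : act 1 n52722 = n114228 := rfl
theorem F178016 : act 1 n114228 = n114170 := d15_1 D114228 (iv7 F178001) F177999
theorem F178017 : act 7 n114228 = n114031 := d15_2 (iv0 F178010) D114228 F177772
theorem F178018 : act 4 n114228 = n92880 := d17_9 (iv1 F177425) F83499 (iv1 D34933) (iv5 D16941) (iv4 F20109) D25578 D52702 (iv5 F83309) D114228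
theorem F178019 : act 6 n106117 = n114228 := d21_3 (iv5 F37353) D49050 D106117 (iv1 D114228) (iv6 D52722) D52721 F163182 (iv5 D106190) (iv6 D49070) (iv1 D23938)
theorem F178020 : act 5 n78946 = n114228 := d17_3 (iv1 F40465) D35941 (iv1 F120133) F178018 (iv5 D92880) (iv0 F161632) (iv5 D76316) F55135 (iv4 F40463)
theorem F178021 : act 0 n114049 = n90118 := d18_0 (iv4 F177917) (iv1 F178016) F178018 (iv5 D92880) (iv4 F76132) (iv0 F161692) F160238 F161691 (iv5 F177541)
theorem F178022 : act 0 n114166 = n114048 := d21_7 (iv5 D90118) (iv1 F83217) F83212 F40429 (iv1 F40459) D52700 D114166 (iv5 D114048) D114049 F178021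
theorem E17643 : n76467 = n53014 := (c17_9 (iv1 F177676) D114166 F178022 (iv5 D114048) (iv4 F177659) D76378 (iv0 F139382) (iv5 D76468) D76467 F177816)
theorem F178023 : act 0 n53014 = n34931 := (sb E17643 (iv1 D76467))
theorem F178024 : act 6 n114180 = n78946 := d12_0 F178020 (iv6 F178019) (iv5 D106117) D106118 F177939
theorem F178025 : act 6 n114153 = n76320 := d3_2 F178024 F177887 (iv2 F177940)
def n114229 : Q := act 7 n52722
theorem D114229 : act 7 n52722 = n114229 := rfl
theorem F178026 : act 2 n114229 = n114170 := d4_1 D114229 (iv7 F178001) F177999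
theorem F178027 : act 5 n114229 = n114167 := d13_1 D114229 (iv7 F177916) (iv5 F83309)
def n114230 : Q := act 6 n52723
theorem D114230 : act 6 n52723 = n114230 := rfl
theorem F178028 : act 2 n114230 = n52727 := d3_1 D114230 (iv6 D52727) (iv2 F83310)
def n114231 : Q := act 0 n52724
theorem D114231 : act 0 n52724 = n114231 := rfl
def n114232 : Q := act 1 n52724
theorem D114232 : act 1 n52724 = n114232 := rfl
def n114233 : Q := act 2 n52724
theorem D114233 : act 2 n52724 = n114233 := rfl
def n114234 : Q := act 4 n52724
theorem D114234 : act 4 n52724 = n114234 := rfl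
def n114235 : Q := act 5 n52724
theorem D114235 : act 5 n52724 = n114235 := rfl
theorem F178029 : act 3 n114235 = n52726 := d6_1 D114235 (iv5 D52726) D52724
def n114236 : Q := act 6 n52724
theorem D114236 : act 6 n52724 = n114236 := rfl
theorem F178030 : act 3 n114236 = n52727 := d7_1 D114236 (iv6 D52727) D52724
def n114237 : Q := act 4 n52726
theorem D114237 : act 4 n52726 = n114237 := rfl
def n114238 : Q := act 6 n52726
theorem D114238 : act 6 n52726 = n114238 := rfl
theorem F178031 : act 0 n62612 = n114238 := d21_4 F39977 F37336 D29606 D62612 (iv6 D114238) (iv5 D52726) (iv1 D25591) (iv5 F39978) (iv6 D25315) D25313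
def n114239 : Q := act 0 n52727
theorem D114239 : act 0 n52727 = n114239 := rfl
theorem F178032 : act 5 n114239 = n76285 := d21_0 (iv1 F163413) F163410 F77605 (iv1 F37466) D49070 D106190 (iv1 F178015) (iv5 D52726) D52727 D114239
theorem F178033 : act 0 n60008 = n106117 := d17_0 (iv5 D106117) (iv1 F77533) F77530 (iv4 F77604) (iv5 F163410) F163413 (iv5 F178032) (iv0 D114239) F114633
theorem F178034 : act 1 n60008 = n106122 := d15_1 (iv0 F178033) F177871 (iv2 F177872)
theorem F178035 : act 4 n105361 = n114239 := d18_5 (iv1 D49051) (iv4 F77433) (iv1 F177811) (iv4 D105360) D105361 (iv0 D114239) F114633 F178034 (iv5 D106122)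
def n114240 : Q := act 1 n52727
theorem D114240 : act 1 n52727 = n114240 := rfl
def n114241 : Q := act 5 n52727
theorem D114241 : act 5 n52727 = n114241 := rfl
theorem F178036 : act 1 n114241 = n53040 := d17_6 D23982 D49149 D106365 F163430 (iv4 F114633) D114241 (iv5 D53040) (iv0 F177626) F37462
theorem F178037 : act 0 n114241 = n53059 := d21_7 F161682 (iv1 F94479) F83355 (iv6 F76719) (iv1 F76721) D52727 D114241 (iv5 D53059) D53060 (iv1 F161760)
def n114242 : Q := act 7 n52727
theorem D114242 : act 7 n52727 = n114242 := rfl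
theorem F178038 : act 6 n114242 = n114170 := d14_1 D114242 (iv7 F178001) (iv6 D114216) (iv7 F83308) D52727
theorem F178039 : act 0 n114242 = n113997 := d21_4 D25578 D52701 D114170 (iv6 F178038) (iv6 F177635) D114043 F177915 (iv5 D114166) (iv6 D52700) (iv1 D25577)
theorem F178040 : act 1 n114230 = n113997 := d15_0 (iv0 F178039) (iv7 D114242) (iv2 F178028)
def n114243 : Q := act 5 n52728
theorem D114243 : act 5 n52728 = n114243 := rfl
theorem F178041 : act 2 n114243 = n53102 := d2_1 D114243 (iv5 D53102) (iv2 F83313)
theorem F178042 : act 3 n114243 = n54810 := d6_1 D114243 (iv5 D54810) F83311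
theorem F178043 : act 1 n114243 = n92443 := d17_6 (iv1 D20534) D20535 D43435 F83441 F83312 D114243 (iv5 D92443) (iv0 F94178) (iv4 D43432)
theorem F178044 : act 0 n114243 = n71946 := d21_1 D114243 (iv5 F138568) F139479 (iv1 F139477) F82980 D48684 F139275 (iv5 D90495) F114226 (iv1 F114224)
theorem F178045 : act 0 n114125 = n90346 := d21_4 (iv5 D114243) (iv1 D52728) D52729 (iv6 F177745) (iv6 D90346) (iv5 D42237) (iv1 F65692) D43354 (iv6 F142201) (iv1 F178043)
theorem F178046 : act 1 n114125 = n90821 := d15_1 (iv0 F178045) (iv7 D90821) (iv2 F139021)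
def n114244 : Q := act 1 n52729
theorem D114244 : act 1 n52729 = n114244 := rfl
theorem F178047 : act 7 n114244 = n92814 := d15_2 (iv0 F163519) D114244 (iv2 F163518)
theorem F178048 : act 5 n90123 = n114244 := d21_6 D12173 D25601 (iv5 F46137) D48710 (iv1 F114695) F138562 (iv1 D114244) (iv5 D52729) (iv6 D25598) (iv1 D12171)
theorem F178049 : act 2 n114244 = n76290 := d2_1 F178048 F114336 F138560
theorem F178050 : act 3 n114244 = n71895 := d6_1 F178048 (iv5 F177547) F177543
theorem E17644 : n100363 = n52747 := ((c21_8 F178048 (iv1 D114244) (iv5 D52729) (iv6 D25598) (iv1 D12171) D12174 D25607 D52747 F154352 (iv6 F142206) (iv1 F142207))).symm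
theorem F178051 : act 5 n52747 = n46831 := (sb E17644 F154352)
theorem F178052 : act 7 n52747 = n46830 := (sb E17644 (iv7 D100363))
def n114245 : Q := act 4 n52729
theorem D114245 : act 4 n52729 = n114245 := rfl
def n114246 : Q := act 3 n52730
theorem D114246 : act 3 n52730 = n114246 := rfl
theorem F178053 : act 2 n114246 = n71388 := d0_1 D114246 (iv3 D71388) F52213 (iv3 F40507) (iv2 F83316)
theorem F178054 : act 4 n114246 = n71837 := d5_2 D52730 D114246 (iv3 D71837) (iv4 D33201) (iv3 F40504)
theorem F178055 : act 5 n114246 = n82524 := d6_2 F108949 D114246 F127170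
theorem F178056 : act 0 n114246 = n82985 := d19_4 (iv1 F37020) D25599 D52730 D114246 (iv5 D82985) (iv4 D38195) D38194 D82982 F127899 F59243 (iv3 F53189) (iv1 F53187) (iv5 F52453) (iv4 D26608) F21109 (iv1 F27277) (iv5 D12614) D12613 (iv3 F37019)
theorem F178057 : act 0 n82975 = n114246 := d17_2 F90548 D82975 F178055 (iv4 D82524) (iv5 F86222) F86225 D80122 F122969 (iv4 F90547)
def n114247 : Q := act 6 n52730
theorem D114247 : act 6 n52730 = n114247 := rfl
theorem F178058 : act 2 n114247 = n52740 := d3_1 D114247 (iv6 D52740) (iv2 F83316)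
theorem F178059 : act 4 n114247 = n52731 := d10_1 D114247 (iv6 D52731) D52730
def n114248 : Q := act 1 n52731
theorem D114248 : act 1 n52731 = n114248 := rfl
theorem F178060 : act 1 n114248 = n52744 := d15_1 D114248 (iv7 D52744) (iv2 F83318)
theorem F178061 : act 7 n114248 = n52741 := d15_2 (iv0 F138588) D114248 (iv2 F138586)
theorem F178062 : act 2 n52742 = n114248 := d4_3 F178061 (iv2 F138586) (iv7 F138589)
theorem F178063 : act 1 n52744 = n90138 := d15_1 F178060 (iv7 F138589) F178062
def n114249 : Q := act 5 n52731
theorem D114249 : act 5 n52731 = n114249 := rfl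
theorem F178064 : act 2 n114249 = n52743 := d2_1 D114249 (iv5 D52743) (iv2 F83318)
theorem F178065 : act 3 n114249 = n71841 := d6_1 D114249 (iv5 D71841) (iv3 F83319)
theorem F178066 : act 6 n114249 = n52733 := d12_2 D52731 D114249 (iv5 D52733) (iv6 D25600) D25599
def n114250 : Q := act 7 n52731
theorem D114250 : act 7 n52731 = n114250 := rfl
theorem F178067 : act 2 n114250 = n52744 := d4_1 D114250 (iv7 D52744) (iv2 F83318)
theorem F178068 : act 3 n114250 = n71842 := d8_1 D114250 (iv7 D71842) (iv3 F83319)
theorem F178069 : act 1 n52742 = n114250 := d15_1 D52742 (iv7 D114250) F83318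
theorem F178070 : act 1 n114250 = n52741 := d15_1 F178069 (iv7 F178061) (iv2 F178062)
def n114251 : Q := act 5 n52732
theorem D114251 : act 5 n52732 = n114251 := rfl
theorem F178071 : act 2 n114251 = n52746 := d2_1 D114251 (iv5 D52746) F83322
theorem F178072 : act 3 n114251 = n54710 := d6_1 D114251 (iv5 D54710) F83323
theorem F178073 : act 7 n114251 = n52745 := d13_2 (iv7 F83321) D114251 (iv5 D52745)
theorem F178074 : act 0 n106510 = n114251 := d21_1 D106510 (iv5 D114251) (iv6 F83324) (iv1 D43380) (iv6 D20501) (iv5 D9732) (iv1 F15178) (iv5 F32402) D43237 F82823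
def n114252 : Q := act 0 n52733
theorem D114252 : act 0 n52733 = n114252 := rfl
theorem F178075 : act 5 n114252 = n90590 := d17_3 (iv1 D52732) D52733 D114252 F139475 F138568 (iv0 F178044) (iv5 D114243) F114224 F114222
theorem F178076 : act 2 n52747 = n114252 := d15_3 (iv0 D114252) F83327 (iv7 F178052)
theorem F178077 : act 7 n114252 = n52748 := d4_2 (iv7 F178052) F178076 F83345
theorem F178078 : act 1 n52750 = n114252 := d15_1 F83349 F178077 F83345
def n114253 : Q := act 4 n52733
theorem D114253 : act 4 n52733 = n114253 := rfl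
theorem F178079 : act 2 n114253 = n52749 := d1_1 D114253 (iv4 D52749) (iv2 F83325)
theorem F178080 : act 0 n114253 = n92827 := d18_2 (iv1 F83327) D114253 F143190 F68294 (iv4 F65155) F65158 D42409 F82985 D46830
theorem F178081 : act 1 n114253 = n90587 := d18_6 (iv1 F83433) F83464 (iv1 D52821) F40541 D52733 D114253 (iv4 D90587) D90586 F139460
theorem F178082 : act 7 n92826 = n114253 := d15_2 F83495 D92826 F178079
def n114254 : Q := act 7 n52733
theorem D114254 : act 7 n52733 = n114254 := rfl
theorem F178083 : act 2 n114254 = n52750 := d4_1 D114254 (iv7 D52750) (iv2 F83325)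
theorem F178084 : act 3 n114254 = n55036 := d8_1 D114254 F87031 (iv3 F83326)
theorem F178085 : act 4 n114254 = n92826 := d11_1 D114254 F178082 (iv4 D114253)
theorem F178086 : act 5 n114254 = n52734 := d13_1 D114254 (iv7 D52734) D52733
theorem F178087 : act 1 n52748 = n114254 := d15_1 D52748 (iv7 D114254) F83325
theorem F178088 : act 1 n114254 = n52747 := d15_1 F178087 F178052 (iv2 F83345)
def n114255 : Q := act 0 n52735
theorem D114255 : act 0 n52735 = n114255 := rfl
def n114256 : Q := act 1 n52735
theorem D114256 : act 1 n52735 = n114256 := rfl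
theorem F178089 : act 1 n114256 = n114108 := d15_1 D114256 (iv7 D114108) (iv2 F83334)
def n114257 : Q := act 5 n52735
theorem D114257 : act 5 n52735 = n114257 := rfl
theorem F178090 : act 2 n114257 = n114107 := d2_1 D114257 (iv5 D114107) (iv2 F83334)
theorem F178091 : act 6 n114257 = n92733 := d12_2 D52735 D114257 F142973 (iv6 D48710) F46137
def n114258 : Q := act 7 n52735
theorem D114258 : act 7 n52735 = n114258 := rfl
theorem F178092 : act 2 n114258 = n114108 := d4_1 D114258 (iv7 D114108) (iv2 F83334)
theorem F178093 : act 6 n114258 = n114101 := d14_1 D114258 (iv7 D114101) (iv6 D52669) F46138 D52735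
theorem F178094 : act 1 n114108 = n114255 := d15_0 (iv0 D114255) D114258 F178092
theorem F178095 : act 1 n114106 = n114258 := d15_1 D114106 (iv7 D114258) F83334
theorem F178096 : act 1 n114258 = n114105 := d15_0 (iv0 D114105) D114108 (iv2 F178092)
def n114259 : Q := act 6 n52736
theorem D114259 : act 6 n52736 = n114259 := rfl
theorem F178097 : act 2 n114259 = n114098 := d3_1 D114259 (iv6 D114098) (iv2 F83335)
theorem F178098 : act 4 n114259 = n52737 := d10_1 D114259 (iv6 D52737) D52736
def n114260 : Q := act 0 n52737
theorem D114260 : act 0 n52737 = n114260 := rfl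
def n114261 : Q := act 1 n52737
theorem D114261 : act 1 n52737 = n114261 := rfl
theorem F178099 : act 1 n114261 = n114101 := d15_1 D114261 (iv7 D114101) (iv2 F83337)
theorem F178100 : act 6 n90824 = n114261 := d21_3 D90142 (iv1 F138597) (iv5 F139802) (iv1 D114261) (iv6 D52737) (iv5 F46142) (iv1 D23756) D23757 F37013 D42133
theorem F178101 : act 2 n114261 = n114046 := d3_1 F178100 F177538 (iv2 F139801)
def n114262 : Q := act 5 n52737
theorem D114262 : act 5 n52737 = n114262 := rfl
theorem F178102 : act 2 n114262 = n114100 := d2_1 D114262 (iv5 D114100) (iv2 F83337)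
theorem F178103 : act 6 n114262 = n105370 := d12_2 D52737 D114262 (iv5 D105370) (iv6 D48711) F46142
def n114263 : Q := act 7 n52737
theorem D114263 : act 7 n52737 = n114263 := rfl
theorem F178104 : act 2 n114263 = n114101 := d4_1 D114263 (iv7 D114101) (iv2 F83337)
theorem F178105 : act 6 n114263 = n114108 := d14_1 D114263 (iv7 D114108) (iv6 D52672) (iv7 F46140) D52737
theorem F178106 : act 1 n114101 = n114260 := d15_0 (iv0 D114260) D114263 F178104
theorem F178107 : act 1 n114046 = n114263 := d15_1 (iv0 F177539) (iv7 D114263) F83337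
theorem F178108 : act 7 n114260 = n114046 := d15_2 F178099 F178106 (iv2 F178101)
theorem F178109 : act 3 n114040 = n114260 := d8_3 F178108 (iv3 D114046) F177532
theorem F178110 : act 2 n114260 = n114099 := d15_3 (iv0 D114099) (iv0 F177539) (iv7 F178108)
theorem F178111 : act 7 n114099 = n114261 := d4_2 (iv7 F178108) F178110 F178101
theorem F178112 : act 1 n114263 = n114099 := d15_1 F178107 F178111 F178101
def n114264 : Q := act 6 n52738
theorem D114264 : act 6 n52738 = n114264 := rfl
theorem F178113 : act 2 n114264 = n72860 := d3_1 D114264 (iv6 D72860) F87745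
def n114265 : Q := act 6 n52739
theorem D114265 : act 6 n52739 = n114265 := rfl
theorem F178114 : act 3 n114265 = n58267 := d7_1 D114265 (iv6 D58267) F87742
def n114266 : Q := act 0 n52740
theorem D114266 : act 0 n52740 = n114266 := rfl
def n114267 : Q := act 1 n52740
theorem D114267 : act 1 n52740 = n114267 := rfl
def n114268 : Q := act 5 n52740
theorem D114268 : act 5 n52740 = n114268 := rfl
theorem F178115 : act 3 n114268 = n71461 := d6_1 D114268 (iv5 D71461) (iv3 F83338)
def n114269 : Q := act 7 n52740
theorem D114269 : act 7 n52740 = n114269 := rfl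
theorem F178116 : act 3 n114269 = n71462 := d8_1 D114269 (iv7 D71462) (iv3 F83338)
theorem F178117 : act 4 n114269 = n52744 := d11_1 D114269 (iv7 D52744) (iv4 F83339)
def n114270 : Q := act 3 n52741
theorem D114270 : act 3 n52741 = n114270 := rfl
theorem F178118 : act 6 n114270 = n92501 := d7_2 (iv6 F83340) D114270 F142404
def n114271 : Q := act 4 n52741
theorem D114271 : act 4 n52741 = n114271 := rfl
theorem F178119 : act 6 n114271 = n92503 := d10_2 (iv6 F83340) D114271 (iv4 D92503)
def n114272 : Q := act 3 n52742
theorem D114272 : act 3 n52742 = n114272 := rfl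
theorem F178120 : act 7 n114272 = n54855 := d8_2 (iv7 F138589) D114272 (iv3 F138587)
def n114273 : Q := act 4 n52742
theorem D114273 : act 4 n52742 = n114273 := rfl
def n114274 : Q := act 5 n52742
theorem D114274 : act 5 n52742 = n114274 := rfl
def n114275 : Q := act 6 n52742
theorem D114275 : act 6 n52742 = n114275 := rfl
theorem F178121 : act 7 n114275 = n92497 := d14_2 (iv7 F138589) D114275 (iv6 D92497) F67871 D90138
def n114276 : Q := act 0 n52743
theorem D114276 : act 0 n52743 = n114276 := rfl
def n114277 : Q := act 1 n52743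
theorem D114277 : act 1 n52743 = n114277 := rfl
def n114278 : Q := act 4 n52743
theorem D114278 : act 4 n52743 = n114278 := rfl
theorem F178122 : act 6 n114278 = n52749 := d10_2 (iv6 F83342) D114278 (iv4 D52749)
def n114279 : Q := act 7 n52743
theorem D114279 : act 7 n52743 = n114279 := rfl
theorem F178123 : act 3 n114279 = n52764 := d8_1 D114279 (iv7 D52764) (iv3 F83341)
theorem F178124 : act 5 n114279 = n52744 := d13_1 D114279 (iv7 D52744) D52743
def n114280 : Q := act 4 n52745
theorem D114280 : act 4 n52745 = n114280 := rfl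
theorem F178125 : act 0 n114280 = n92817 := d18_2 F139490 D114280 (iv4 D92817) (iv5 D43428) D43427 (iv0 F94979) F67740 (iv0 F82978) D90595
theorem F178126 : act 1 n114280 = n92820 := d18_6 (iv1 F83432) (iv4 F40684) F76705 (iv4 F77182) D52745 D114280 (iv4 D92820) F143176 F143175
def n114281 : Q := act 4 n52746
theorem D114281 : act 4 n52746 = n114281 := rfl
theorem F178127 : act 0 n114281 = n92820 := d18_2 F139482 D114281 (iv4 D92820) (iv5 D43433) D43432 F138569 (iv4 F139475) (iv0 D90590) D90591
theorem F178128 : act 1 n114281 = n92817 := d18_6 (iv1 F76727) (iv4 F114228) (iv1 F114232) F82923 D52746 D114281 (iv4 D92817) D92816 (iv5 F143179)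
def n114282 : Q := act 6 n52746
theorem D114282 : act 6 n52746 = n114282 := rfl
def n114283 : Q := act 3 n52747
theorem D114283 : act 3 n52747 = n114283 := rfl
theorem F178129 : act 5 n114283 = n59816 := d6_2 (iv5 F178051) D114283 (iv3 F94210)
theorem F178130 : act 7 n114283 = n100349 := d8_2 (iv7 F178052) D114283 F154337
theorem F178131 : act 0 n60116 = n114283 := d17_2 F86457 D60116 F178129 (iv4 D59816) (iv5 F86462) (iv0 D54665) (iv5 D26438) D26437 D54663
def n114284 : Q := act 4 n52747
theorem D114284 : act 4 n52747 = n114284 := rfl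
theorem F178132 : act 7 n114284 = n100362 := d11_2 (iv7 F178052) D114284 (iv4 D100362)
def n114285 : Q := act 6 n52747
theorem D114285 : act 6 n52747 = n114285 := rfl
theorem F178133 : act 7 n114285 = n92953 := d14_2 (iv7 F178052) D114285 (iv6 D92953) F68350 (iv6 F73971)
def n114286 : Q := act 3 n52748
theorem D114286 : act 3 n52748 = n114286 := rfl
theorem F178134 : act 2 n114286 = n54861 := d0_1 D114286 (iv3 F114952) (iv2 F154336) F154337 (iv2 F83345)
theorem F178135 : act 5 n114286 = n92445 := d6_2 F83344 D114286 F142210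
theorem F178136 : act 6 n114286 = n92682 := d7_2 (iv6 F83346) D114286 F142832
theorem F178137 : act 1 n54810 = n114286 := d17_6 F46296 (iv5 F25603) F42479 (iv5 D26533) (iv4 F42440) D54810 F178135 (iv0 F142211) F94989
theorem F178138 : act 0 n53097 = n114286 := d21_1 D53097 F178135 (iv6 D92445) F67744 (iv6 F32460) D25548 (iv1 F40402) (iv5 D16040) D16041 F40675
theorem F178139 : act 7 n54860 = n114286 := d15_2 (iv0 F177970) F177971 F178134
theorem F178140 : act 3 n114252 = n54860 := d8_3 F178139 (iv3 D114286) (iv7 F178077)
def n114287 : Q := act 4 n52748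
theorem D114287 : act 4 n52748 = n114287 := rfl
theorem F178141 : act 2 n114287 = n100362 := d1_1 D114287 (iv4 D100362) (iv2 F83345)
theorem F178142 : act 6 n114287 = n92685 := d10_2 (iv6 F83346) D114287 (iv4 D92685)
def n114288 : Q := act 0 n52749
theorem D114288 : act 0 n52749 = n114288 := rfl
theorem F178143 : act 4 n114288 = n90588 := d18_3 (iv1 D52748) D52749 D114288 F139466 F65495 F65156 F82969 (iv0 F82823) F83344
theorem F178144 : act 2 n92827 = n114288 := d15_3 (iv0 D114288) F83495 D92827
theorem F178145 : act 7 n114288 = n90587 := d4_2 D92827 F178144 F139463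
theorem F178146 : act 1 n92826 = n114288 := d15_1 D92826 F178145 F139463
def n114289 : Q := act 3 n52749
theorem D114289 : act 3 n52749 = n114289 := rfl
theorem F178147 : act 4 n114289 = n52778 := d5_2 D52749 D114289 (iv3 D52778) (iv4 D25618) (iv3 F40509)
def n114290 : Q := act 5 n52749
theorem D114290 : act 5 n52749 = n114290 := rfl
theorem F178148 : act 0 n73370 = n114290 := d19_0 (iv5 D114290) (iv4 D52749) F40509 D25616 F40515 F40256 F25248 F12005 (iv5 F12002) F26695 F21170 F11351 F11348 (iv4 F11601) (iv3 F24996) (iv1 F54105) F50773 D33750 D73370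
def n114291 : Q := act 7 n52749
theorem D114291 : act 7 n52749 = n114291 := rfl
theorem F178149 : act 2 n114291 = n92826 := d4_1 D114291 F178082 F178079
theorem F178150 : act 4 n114291 = n52750 := d11_1 D114291 (iv7 D52750) D52749
theorem F178151 : act 1 n90587 = n114291 := d15_1 F178081 (iv7 D114291) (iv2 F178079)
theorem F178152 : act 1 n114291 = n92827 := d15_1 F178151 (iv7 D92827) (iv2 F139463)
def n114292 : Q := act 6 n52750
theorem D114292 : act 6 n52750 = n114292 := rfl
theorem F178153 : act 3 n114292 = n52781 := d7_1 D114292 (iv6 D52781) (iv3 F83347)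
theorem F178154 : act 5 n114292 = n113034 := d12_1 D114292 (iv6 D113034) F82487 (iv6 F40511) (iv5 F83348)
def n114294 : Q := act 1 n52751
theorem D114294 : act 1 n52751 = n114294 := rfl
theorem F178156 : act 1 n114294 = n52756 := d15_1 D114294 (iv7 D52756) D52751
def n114295 : Q := act 3 n52751
theorem D114295 : act 3 n52751 = n114295 := rfl
theorem F178157 : act 7 n114295 = n52757 := d8_2 F83350 D114295 (iv3 D52757)
def n114296 : Q := act 5 n52751
theorem D114296 : act 5 n52751 = n114296 := rfl
theorem F178158 : act 2 n114296 = n52754 := d2_1 D114296 (iv5 D52754) D52751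
theorem F178159 : act 7 n114296 = n52759 := d13_2 F83350 D114296 (iv5 D52759)
def n114297 : Q := act 6 n52751
theorem D114297 : act 6 n52751 = n114297 := rfl
theorem F178160 : act 2 n114297 = n52755 := d3_1 D114297 (iv6 D52755) D52751
theorem F178161 : act 5 n114093 = n114297 := d2_0 F178160 F83351 (iv2 F177680)
theorem F178162 : act 7 n114297 = n114092 := d13_2 D114093 F178161 (iv5 D114092)
def n114298 : Q := act 0 n52752
theorem D114298 : act 0 n52752 = n114298 := rfl
def n114299 : Q := act 1 n52752
theorem D114299 : act 1 n52752 = n114299 := rfl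
def n114300 : Q := act 2 n52752
theorem D114300 : act 2 n52752 = n114300 := rfl
def n114301 : Q := act 4 n52752
theorem D114301 : act 4 n52752 = n114301 := rfl
def n114302 : Q := act 5 n52752
theorem D114302 : act 5 n52752 = n114302 := rfl
theorem F178163 : act 3 n114302 = n52754 := d6_1 D114302 (iv5 D52754) D52752
def n114303 : Q := act 6 n52752
theorem D114303 : act 6 n52752 = n114303 := rfl
theorem F178164 : act 3 n114303 = n52755 := d7_1 D114303 (iv6 D52755) D52752
theorem F178165 : act 5 n92428 = n114303 := d6_0 F178164 F83351 F142165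
theorem E17645 : n106132 = n52752 := (c21_5 F40471 (iv1 F27670) D23934 D49056 D106132 D114303 (iv5 F178165) (iv1 D92428) F67731 (iv6 D35953) (iv1 F40469))
theorem E17646 : n114299 = n49056 := ((D114299).symm.trans (sb E17645 (iv0 D106132)))
theorem F178166 : act 0 n49056 = n52752 := (sb E17646 (iv1 D114299))
theorem F178167 : act 7 n106133 = n114300 := d15_2 (iv0 F178166) D106133 (iv2 D114300)
theorem F178168 : act 2 n106134 = n114298 := d15_3 (iv0 D114298) (iv0 F178166) D106134
theorem F178169 : act 7 n114298 = n54853 := d4_2 D106134 F178168 F86795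
theorem F178170 : act 3 n54858 = n114298 := d8_3 F178169 F86796 D54858
theorem F178171 : act 4 n95858 = n114298 := d11_3 F178169 F86797 D95858
theorem F178172 : act 6 n106129 = n114298 := d14_5 F178169 (iv6 D54853) F42487 D49054 D106129
theorem F178173 : act 1 n106133 = n114298 := d15_1 D106133 F178169 F86795
def n114304 : Q := act 7 n52752
theorem D114304 : act 7 n52752 = n114304 := rfl
theorem F178174 : act 2 n114304 = n106133 := d4_1 D114304 F178167 (iv2 D114300)
theorem F178175 : act 3 n114304 = n52756 := d8_1 D114304 (iv7 D52756) D52752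
def n114305 : Q := act 0 n52754
theorem D114305 : act 0 n52754 = n114305 := rfl
theorem F178176 : act 5 n114305 = n53060 := d17_3 D25609 D52754 D114305 F83764 D53065 (iv0 F83766) (iv5 D52792) (iv0 D25624) F20182
def n114306 : Q := act 1 n52754
theorem D114306 : act 1 n52754 = n114306 := rfl
theorem F178177 : act 1 n114306 = n52759 := d15_1 D114306 (iv7 F178159) F178158
def n114307 : Q := act 4 n52754
theorem D114307 : act 4 n52754 = n114307 := rfl
def n114308 : Q := act 6 n52754
theorem D114308 : act 6 n52754 = n114308 := rfl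
theorem F178178 : act 5 n114308 = n114094 := d12_1 D114308 (iv6 D114094) (iv5 F83351) (iv6 D52755) D52754
def n114309 : Q := act 7 n52754
theorem D114309 : act 7 n52754 = n114309 := rfl
theorem F178179 : act 2 n114309 = n52759 := d4_1 D114309 (iv7 F178159) F178158
theorem F178180 : act 5 n114309 = n52756 := d13_1 D114309 (iv7 D52756) D52754
theorem F178181 : act 1 n52759 = n114305 := d15_0 (iv0 D114305) D114309 F178179
theorem F178182 : act 0 n106386 = n105393 := d17_2 (iv1 F163452) D106386 (iv5 D105393) F161722 D52759 F178181 F178176 F177895 (iv4 F161605)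
theorem F178183 : act 0 n52760 = n106270 := d21_10 (iv5 D106270) (iv1 F77531) F77434 (iv6 F55108) (iv1 F177628) D53060 (iv5 F178176) (iv1 F178181) (iv5 D52759) D52760
theorem F178184 : act 1 n113981 = n105394 := d17_8 F178183 (iv5 D106270) (iv1 F77531) F77434 (iv4 F55107) (iv5 F114334) F163411 F177629 F161725
theorem F178185 : act 1 n52760 = n76326 := d15_1 (iv0 F178183) F177874 F177872
def n114310 : Q := act 0 n52755
theorem D114310 : act 0 n52755 = n114310 := rfl
def n114311 : Q := act 1 n52755
theorem D114311 : act 1 n52755 = n114311 := rfl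
theorem F178186 : act 1 n114311 = n114092 := d15_1 D114311 (iv7 F178162) F178160
theorem F178187 : act 4 n114311 = n113982 := d17_9 F177479 F83720 (iv1 D53000) (iv5 D25723) F20211 D25558 D52663 (iv5 F83351) D114311
theorem F178188 : act 6 n113981 = n114311 := d21_3 D49144 D106342 F177629 (iv1 D114311) (iv6 D52755) D52754 D114305 F178176 (iv6 D53060) F177627
theorem F178189 : act 5 n114311 = n90344 := d12_1 F178188 (iv6 D90344) D90343 (iv6 F176041) F177629
theorem F178190 : act 0 n113981 = n114242 := d21_4 D105379 F161609 (iv5 F178189) (iv6 F178188) F178038 (iv5 D114170) (iv1 F83275) F56627 (iv6 F40429) (iv1 F76689)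
theorem F178191 : act 3 n90347 = n114311 := d6_3 F178189 F139017 D90347
theorem F178192 : act 7 n114049 = n114311 := d13_0 F178189 (iv7 F144877) (iv5 F177541)
theorem F178193 : act 1 n114031 = n78974 := d18_6 F161638 (iv4 F161623) (iv1 D104702) (iv4 F161617) F114598 F177771 F120146 D114311 F178189
theorem F178194 : act 2 n114049 = n114310 := d15_3 (iv0 D114310) D114311 (iv7 F178192)
theorem F178195 : act 6 n114310 = n114045 := d3_2 D114049 F178194 F177534
def n114312 : Q := act 7 n52755
theorem D114312 : act 7 n52755 = n114312 := rfl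
theorem F178196 : act 2 n114312 = n114092 := d4_1 D114312 (iv7 F178162) F178160
theorem F178197 : act 5 n114312 = n114090 := d13_1 D114312 (iv7 F177678) (iv5 F83351)
theorem F178198 : act 1 n114092 = n114310 := d15_0 (iv0 D114310) D114312 F178196
def n114313 : Q := act 6 n52756
theorem D114313 : act 6 n52756 = n114313 := rfl
theorem F178199 : act 2 n114313 = n52760 := d3_1 D114313 (iv6 D52760) (iv2 F83352)
def n114314 : Q := act 0 n52757
theorem D114314 : act 0 n52757 = n114314 := rfl
def n114315 : Q := act 1 n52757
theorem D114315 : act 1 n52757 = n114315 := rfl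
def n114316 : Q := act 2 n52757
theorem D114316 : act 2 n52757 = n114316 := rfl
theorem F178200 : act 3 n114316 = n106133 := d0_2 D52757 D114316 (iv2 F178174) F178175 F83352
def n114317 : Q := act 4 n52757
theorem D114317 : act 4 n52757 = n114317 := rfl
def n114318 : Q := act 5 n52757
theorem D114318 : act 5 n52757 = n114318 := rfl
theorem F178201 : act 3 n114318 = n52759 := d6_1 D114318 (iv5 D52759) D52757
def n114319 : Q := act 6 n52757
theorem D114319 : act 6 n52757 = n114319 := rfl
theorem F178202 : act 3 n114319 = n52760 := d7_1 D114319 (iv6 D52760) D52757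
def n114320 : Q := act 4 n52759
theorem D114320 : act 4 n52759 = n114320 := rfl
def n114321 : Q := act 7 n52760
theorem D114321 : act 7 n52760 = n114321 := rfl
theorem F178203 : act 6 n114321 = n114092 := d14_1 D114321 (iv7 F178162) (iv6 D114297) (iv7 F83350) D52760
theorem F178204 : act 5 n113752 = n114321 := d12_5 F178203 (iv5 D114092) (iv6 F177003) (iv5 D113751) D113752
theorem E17647 : n113752 = n106366 := ((c21_2 D49154 (iv1 F163431) F178204 F178203 (iv1 F178186) (iv6 F178188) (iv5 F177629) (iv1 F163411) F114334 F55108 (iv1 F37463))).symm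
theorem F178205 : act 5 n106366 = n114321 := (sb E17647 F178204)
theorem F178206 : act 6 n106366 = n52520 := (sb E17647 (iv6 D113752))
theorem F178207 : act 0 n106117 = n114321 := d21_4 D35941 (iv1 F120133) F178020 (iv6 F178019) F178203 (iv5 D114092) (iv1 F83213) (iv5 F76693) F76694 (iv1 F40465)
theorem F178208 : act 0 n114321 = n106122 := d21_4 D25558 D52662 D114092 (iv6 F178203) F163138 D114026 (iv1 F177666) (iv5 D114088) (iv6 D52661) (iv1 D25557)
theorem E17648 : n114313 = n60008 := (c15_4 F178034 (iv0 F178208) (iv7 D114321) (iv2 F178199))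
theorem F178209 : act 2 n60008 = n52760 := (sb E17648 F178199)
theorem E17649 : n52756 = n28490 := ((((iv6 D60008)).symm.trans (sb E17648 (iv6 D114313)))).symm
theorem E17650 : n114294 = n13580 := ((((iv1 D28490)).symm.trans (sb E17649 (iv1 F178156)))).symm
theorem E17652 : n60004 = n25610 := (((iv2 F94472)).symm.trans (sb E17649 F83352))
theorem E17653 : n114304 = n60005 := (((D60005).symm.trans (sb E17649 (iv3 F178175)))).symm
theorem E17654 : n105391 = n25591 := (((F114632).symm.trans (sb E17649 (iv4 F161724)))).symm
theorem E17655 : n114309 = n60007 := (((D60007).symm.trans (sb E17649 (iv5 F178180)))).symm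
theorem E17656 : n59999 = n25609 := ((F94470).symm.trans (sb E17649 (iv7 D52756)))
theorem E17657 : n52751 = n28489 := (((D28489).symm.trans (sb E17650 (iv1 D114294)))).symm
theorem F178210 : act 2 n25610 = n28490 := (sb E17652 F94472)
theorem E17658 : n52723 = n48724 := ((((iv4 F161722)).symm.trans (sb E17652 (iv4 F114631)))).symm
theorem F178211 : act 2 n60005 = n106133 := (sb E17653 F178174)
theorem F178212 : act 7 n60005 = n52752 := (sb E17653 (iv7 D114304))
theorem E17659 : n52718 = n48723 := ((F83308).symm.trans (sb E17654 (iv7 D105391)))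
theorem F178213 : act 2 n60007 = n52759 := (sb E17655 F178179)
theorem F178214 : act 7 n60007 = n52754 := (sb E17655 (iv7 D114309))
theorem F178215 : act 7 n25609 = n28490 := (sb E17656 (iv7 F94470))
theorem F178216 : act 2 n28489 = n25609 := (sb E17657 (iv2 D52751))
theorem E17660 : n114295 = n60000 := (((D60000).symm.trans (sb E17657 D114295))).symm
theorem E17661 : n105388 = n25590 := (((F114629).symm.trans (sb E17657 (iv4 F161720)))).symm
theorem E17662 : n114296 = n60002 := (((D60002).symm.trans (sb E17657 D114296))).symm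
theorem E17663 : n114297 = n60003 := (((D60003).symm.trans (sb E17657 D114297))).symm
theorem F178217 : act 7 n28489 = n25610 := (sb E17657 (iv7 F83350))
theorem F178218 : act 2 n48724 = n25591 := (sb E17658 F83310)
theorem E17666 : n114223 = n105392 := (((D105392).symm.trans (sb E17658 (iv3 F178005)))).symm
theorem E17667 : n114227 = n105393 := (((D105393).symm.trans (sb E17658 (iv5 F178014)))).symm
theorem E17668 : n114230 = n105394 := (((D105394).symm.trans (sb E17658 D114230))).symm
theorem E17669 : n114214 = n105389 := (((D105389).symm.trans (sb E17659 D114214))).symm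
theorem E17670 : n114215 = n105390 := (((D105390).symm.trans (sb E17659 D114215))).symm
theorem E17671 : n114216 = n78974 := ((((iv6 F120147)).symm.trans (sb E17659 D114216))).symm
theorem F178219 : act 7 n48723 = n25591 := (sb E17659 (iv7 F83308))
theorem F178220 : act 7 n60000 = n52757 := (sb E17660 F178157)
theorem F178221 : act 2 n25590 = n48723 := (sb E17661 (iv2 D105388))
theorem F178222 : act 7 n25590 = n48724 := (sb E17661 (iv7 F161721))
theorem F178223 : act 2 n60002 = n52754 := (sb E17662 F178158)
theorem F178224 : act 7 n60002 = n52759 := (sb E17662 F178159)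
theorem F178225 : act 2 n60003 = n52755 := (sb E17663 F178160)
theorem E17672 : n114093 = n42125 := (((F94471).symm.trans (sb E17663 (iv5 F178161)))).symm
theorem F178226 : act 7 n60003 = n114092 := (sb E17663 F178162)
theorem F178227 : act 7 n105392 = n52719 := (sb E17666 (iv7 D114223))
theorem F178228 : act 2 n105393 = n52726 := (sb E17667 F178013)
theorem F178229 : act 7 n105393 = n52721 := (sb E17667 (iv7 D114227))
theorem F178230 : act 1 n105394 = n113997 := (sb E17668 F178040)
theorem F178231 : act 2 n105394 = n52727 := (sb E17668 F178028)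
theorem F178232 : act 7 n105389 = n52724 := (sb E17669 F177996)
theorem F178233 : act 2 n105390 = n52721 := (sb E17670 F177997)
theorem F178234 : act 7 n105390 = n52726 := (sb E17670 F177998)
theorem F178235 : act 2 n78974 = n52722 := (sb E17671 F177999)
theorem E17673 : n114172 = n35944 := ((((iv5 D78974)).symm.trans (sb E17671 (iv5 F178000)))).symm
theorem E17674 : n90120 = n52663 := (((iv2 F138558)).symm.trans (sb E17672 F177680))
theorem E17675 : n95577 = n76480 := ((((iv4 F114618)).symm.trans (sb E17672 F177681))).symm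
theorem E17676 : n90117 = n52662 := ((F138556).symm.trans (sb E17672 (iv7 D114093)))
theorem E17677 : n78971 = n52702 := (((iv2 F120144)).symm.trans (sb E17673 F177919))
theorem E17678 : n78966 = n52701 := ((F120143).symm.trans (sb E17673 (iv7 D114172)))
theorem F178237 : act 2 n52663 = n42125 := (sb E17674 F138558)
theorem E17679 : n92434 = n92428 := (((F142165).symm.trans (sb E17674 (iv3 F142180)))).symm
theorem E17680 : n114090 = n42124 := ((F177678).symm.trans (sb E17674 (iv7 D90120)))
theorem F178238 : act 2 n76480 = n44642 := (sb E17675 F147243)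
theorem E17681 : n96973 = n92436 := ((((iv3 F142182)).symm.trans (sb E17675 (iv3 F149571)))).symm
theorem F178239 : act 7 n76480 = n44641 := (sb E17675 (iv7 D95577))
theorem F178240 : act 7 n52662 = n42125 := (sb E17676 (iv7 F138556))
theorem F178241 : act 2 n52702 = n35944 := (sb E17677 F120144)
theorem E17682 : n114167 = n35943 := ((F177916).symm.trans (sb E17677 (iv7 D78971)))
theorem F178242 : act 7 n52701 = n35944 := (sb E17678 (iv7 F120143))
theorem F178243 : act 2 n92428 = n43232 := (sb E17679 F142179)
theorem F178244 : act 7 n92428 = n43231 := (sb E17679 (iv7 D92434))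
theorem F178245 : act 2 n42124 = n52662 := (sb E17680 (iv2 D114090))
theorem E17683 : n95574 = n76479 := (((F114625).symm.trans (sb E17680 F177677))).symm
theorem E17684 : n114312 = n90118 := (((D90118).symm.trans (sb E17680 (iv5 F178197)))).symm
theorem F178246 : act 7 n42124 = n52663 := (sb E17680 (iv7 F177678))
theorem F178247 : act 2 n92436 = n45335 := (sb E17681 F149570)
theorem F178248 : act 7 n92436 = n45334 := (sb E17681 (iv7 D96973))
theorem F178249 : act 2 n35943 = n52701 := (sb E17682 (iv2 D114167))
theorem E17685 : n114229 = n78969 := (((D78969).symm.trans (sb E17682 (iv5 F178027)))).symm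
theorem F178250 : act 7 n35943 = n52702 := (sb E17682 (iv7 F177916))
theorem F178251 : act 2 n76479 = n44641 := (sb E17683 (iv2 D95574))
theorem F178252 : act 7 n76479 = n44642 := (sb E17683 (iv7 F147242))
theorem F178253 : act 2 n90118 = n114092 := (sb E17684 F178196)
theorem F178254 : act 7 n90118 = n52755 := (sb E17684 (iv7 D114312))
theorem F178255 : act 2 n78969 = n114170 := (sb E17685 F178026)
theorem F178256 : act 7 n78969 = n52722 := (sb E17685 (iv7 D114229))
theorem F178257 : act 7 n114303 = n92432 := d8_2 F178254 (iv3 F178164) F142177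
theorem F178258 : act 7 n114173 = n78967 := d8_2 F178250 D114173 (iv3 D78967)
theorem F178259 : act 7 n96967 = n78968 := d11_2 F178250 (iv4 F149559) (iv4 D78968)
theorem F178260 : act 2 n78968 = n96966 := d15_3 (iv0 D96966) D96967 F178259
theorem F178261 : act 2 n96967 = n78973 := d15_3 F149565 (iv0 F149566) (iv7 F178259)
theorem F178262 : act 7 n78973 = n96966 := d4_2 (iv7 F178259) F178261 (iv2 F178260)
theorem E17686 : n114169 = n96966 := ((c11_1 F178262 (iv4 D114169) F178242 D78973)).symm
theorem F178263 : act 4 n96966 = n52701 := (sb E17686 (iv4 D114169))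
theorem F178264 : act 1 n78968 = n53001 := d15_0 (iv0 F120145) F178262 (iv2 F178260)
theorem F178265 : act 1 n76379 = n105403 := d18_8 (iv1 D55982) (iv4 F71431) D96966 F178263 D114170 F177917 (iv0 F178021) F177660 F161740
theorem F178266 : act 4 n95766 = n84410 := d20_6 F178263 (iv1 F83275) (iv4 F120151) F120150 (iv1 F71654) D95766 (iv1 D84410) F59965 (iv3 F71430) D96966
theorem F178267 : act 2 n114171 = n78970 := d3_3 (iv6 D78970) F178249 D114171
theorem E17687 : n92430 = n92427 := ((c11_2 F178248 (iv4 F142162) (iv7 F142175) D92436)).symm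
theorem F178268 : act 2 n92427 = n43231 := (sb E17687 (iv2 D92430))
theorem F178269 : act 7 n92427 = n43232 := (sb E17687 (iv7 F142175))
theorem E17688 : n96970 = n92431 := (c15_4 (iv0 F147483) F142185 F178248 D96970)
theorem F178270 : act 2 n92431 = n45334 := (sb E17688 (iv2 D96970))
theorem F178271 : act 7 n92431 = n45335 := (sb E17688 (iv7 F149567))
theorem F178272 : act 2 n113751 = n90119 := d3_3 (iv6 D90119) F178245 (iv6 F177003)
theorem E17689 : n113748 = n59841 := ((c2_3 D113751 F178272 F138557 F177000)).symm
theorem F178273 : act 2 n59841 = n52520 := (sb E17689 F177000)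
theorem F178274 : act 7 n59841 = n52519 := (sb E17689 (iv7 D113748))
theorem F178275 : act 7 n113745 = n113352 := d11_2 F178274 D113745 F176549
theorem F178276 : act 7 n113746 = n90119 := d13_2 F178274 D113746 F138557
theorem E17690 : n113743 = n59840 := (c15_4 (iv0 D59840) D59841 F178274 D113743)
theorem F178277 : act 2 n59840 = n52519 := (sb E17690 (iv2 D113743))
theorem F178278 : act 7 n59840 = n52520 := (sb E17690 (iv7 F176996))
theorem F178279 : act 2 n113352 = n113750 := d15_3 F177002 (iv0 F176997) F178275
theorem F178280 : act 2 n113745 = n113351 := d15_3 (iv0 D113351) D113352 (iv7 F178275)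
theorem F178281 : act 4 n113351 = n59840 := d1_2 D113745 F178280 F178277
theorem F178282 : act 7 n113351 = n113750 := d4_2 (iv7 F178275) F178280 (iv2 F178279)
theorem F178283 : act 1 n113745 = n59167 := d15_0 (iv0 F177001) (iv7 F178282) (iv2 F178280)
theorem F178284 : act 2 n92437 = n114303 := d2_3 (iv5 F178165) F178243 D92437
theorem F178285 : act 6 n114300 = n92437 := d3_0 F178284 (iv6 D114303) D114300
theorem F178286 : act 0 n54853 = n114300 := d21_4 (iv5 D16892) F21083 D26536 D54853 F178285 (iv5 D92437) (iv1 D43232) D43233 F67734 (iv1 F40477)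
theorem F178287 : act 1 n54853 = n60005 := d15_1 (iv0 F178286) F178212 D114300
theorem F178288 : act 1 n106134 = n114300 := d15_0 (iv0 F178286) (iv7 F178169) (iv2 F178168)
theorem F178289 : act 1 n60005 = n106134 := d15_0 F178288 (iv7 F178167) (iv2 F178211)
theorem F178291 : act 2 n78975 = n114174 := d3_3 (iv6 D114174) F178241 D78975
theorem F178292 : act 7 n90121 = n114091 := d8_2 F178240 D90121 (iv3 D114091)
theorem F178293 : act 2 n90122 = n114094 := d3_3 (iv6 D114094) F178237 D90122
theorem F178294 : act 2 n106168 = n106365 := d2_3 F163430 F178209 (iv5 F163170)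
theorem F178295 : act 7 n106366 = n106168 := d15_2 (iv0 D106365) D106366 F178294
theorem F178296 : act 7 n106169 = n106365 := d15_2 (iv0 D106168) D106169 (iv2 F178294)
theorem F178297 : act 2 n106366 = n106169 := d4_3 F178296 (iv2 F178294) (iv7 F178295)
theorem F178298 : act 6 n106169 = n59841 := d3_2 (iv6 F178206) F178297 F178273
def n114322 : Q := act 3 n52761
theorem D114322 : act 3 n52761 = n114322 := rfl
def n114323 : Q := act 4 n52761
theorem D114323 : act 4 n52761 = n114323 := rfl
def n114324 : Q := act 6 n52761
theorem D114324 : act 6 n52761 = n114324 := rfl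
theorem F178299 : act 5 n114324 = n106703 := d21_6 (iv5 D25615) (iv1 D12177) D12178 (iv6 F40512) D52761 D114324 (iv1 D106703) D106704 F164441 F77951
def n114325 : Q := act 3 n52762
theorem D114325 : act 3 n52762 = n114325 := rfl
theorem F178300 : act 5 n114325 = n78943 := d6_2 F83353 D114325 F120130
def n114326 : Q := act 4 n52762
theorem D114326 : act 4 n52762 = n114326 := rfl
theorem F178301 : act 0 n114326 = n75156 := d18_2 (iv1 F94480) D114326 (iv4 D75156) (iv5 D34414) (iv4 F37036) D48724 F161722 F46018 (iv5 F94478)
def n114327 : Q := act 6 n52762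
theorem D114327 : act 6 n52762 = n114327 := rfl
theorem F178302 : act 5 n114327 = n78948 := d12_1 D114327 (iv6 D78948) (iv5 D35936) D35937 F83353
def n114328 : Q := act 0 n52763
theorem D114328 : act 0 n52763 = n114328 := rfl
def n114329 : Q := act 1 n52763
theorem D114329 : act 1 n52763 = n114329 := rfl
theorem F178303 : act 4 n114329 = n52855 := d18_7 (iv1 F54603) F136458 (iv1 D25625) F20182 D25611 D52763 D114329 F112700 F112698
def n114330 : Q := act 3 n52763
theorem D114330 : act 3 n52763 = n114330 := rfl
theorem F178304 : act 6 n114330 = n52778 := d7_2 (iv6 F83354) D114330 (iv3 D52778)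
def n114331 : Q := act 5 n52763
theorem D114331 : act 5 n52763 = n114331 := rfl
def n114332 : Q := act 7 n52763
theorem D114332 : act 7 n52763 = n114332 := rfl
theorem F178305 : act 4 n114332 = n52764 := d11_1 D114332 (iv7 D52764) D52763
def n114333 : Q := act 6 n52764
theorem D114333 : act 6 n52764 = n114333 := rfl
theorem F178306 : act 5 n114333 = n113055 := d12_1 D114333 (iv6 D113055) F82498 F76719 (iv5 F83355)
theorem F178307 : act 7 n114333 = n52781 := d14_2 D52764 D114333 (iv6 D52781) (iv7 D25619) (iv6 F40512)
def n114334 : Q := act 3 n52765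
theorem D114334 : act 3 n52765 = n114334 := rfl
theorem F178308 : act 4 n114334 = n76292 := d5_2 D52765 D114334 (iv3 D76292) (iv4 D34848) (iv3 F40513)
def n114335 : Q := act 6 n52765
theorem D114335 : act 6 n52765 = n114335 := rfl
theorem F178309 : act 4 n114335 = n52766 := d10_1 D114335 (iv6 D52766) D52765
def n114336 : Q := act 0 n52766
theorem D114336 : act 0 n52766 = n114336 := rfl
def n114337 : Q := act 1 n52766
theorem D114337 : act 1 n52766 = n114337 := rfl
def n114338 : Q := act 7 n52766
theorem D114338 : act 7 n52766 = n114338 := rfl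
theorem F178310 : act 3 n114338 = n76288 := d8_1 D114338 (iv7 D76288) (iv3 F83356)
theorem F178311 : act 5 n114338 = n76274 := d13_1 D114338 (iv7 D76274) (iv5 F83357)
def n114339 : Q := act 4 n52767
theorem D114339 : act 4 n52767 = n114339 := rfl
def n114340 : Q := act 6 n52767
theorem D114340 : act 6 n52767 = n114340 := rfl
theorem F178312 : act 3 n114340 = n52769 := d7_1 D114340 (iv6 D52769) (iv3 F83358)
def n114341 : Q := act 3 n52768
theorem D114341 : act 3 n52768 = n114341 := rfl
def n114342 : Q := act 6 n52768
theorem D114342 : act 6 n52768 = n114342 := rfl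
theorem F178313 : act 4 n114342 = n52769 := d10_1 D114342 (iv6 D52769) D52768
def n114343 : Q := act 0 n52769
theorem D114343 : act 0 n52769 = n114343 := rfl
def n114344 : Q := act 1 n52769
theorem D114344 : act 1 n52769 = n114344 := rfl
def n114345 : Q := act 7 n52769
theorem D114345 : act 7 n52769 = n114345 := rfl
def n114346 : Q := act 4 n52770
theorem D114346 : act 4 n52770 = n114346 := rfl
theorem F178314 : act 7 n114346 = n114095 := d11_2 (iv7 F83360) D114346 (iv4 D114095)
theorem F178315 : act 0 n114346 = n76221 := d17_0 (iv5 F114205) F114207 D76293 F114337 (iv5 D49111) F37420 D25755 F83361 D114346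
theorem F178316 : act 1 n114346 = n76223 := d18_6 (iv1 F46283) (iv4 D28706) D28705 (iv4 F82831) (iv5 F83359) D114346 (iv4 D76223) (iv0 F55306) (iv5 D34941)
def n114347 : Q := act 6 n52770
theorem D114347 : act 6 n52770 = n114347 := rfl
theorem F178317 : act 3 n114347 = n52772 := d7_1 D114347 (iv6 D52772) D52770
theorem F178318 : act 5 n114347 = n52772 := d12_1 D114347 (iv6 D52772) F40515 F82834 (iv5 F83359)
def n114348 : Q := act 3 n52771
theorem D114348 : act 3 n52771 = n114348 := rfl
theorem F178319 : act 5 n114348 = n114341 := d6_2 (iv5 F83363) D114348 (iv3 D114341)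
def n114349 : Q := act 6 n52771
theorem D114349 : act 6 n52771 = n114349 := rfl
theorem F178320 : act 4 n114349 = n52772 := d10_1 D114349 (iv6 D52772) D52771
def n114350 : Q := act 0 n52772
theorem D114350 : act 0 n52772 = n114350 := rfl
def n114351 : Q := act 1 n52772
theorem D114351 : act 1 n52772 = n114351 := rfl
def n114352 : Q := act 7 n52772
theorem D114352 : act 7 n52772 = n114352 := rfl
def n114353 : Q := act 4 n52773
theorem D114353 : act 4 n52773 = n114353 := rfl
def n114354 : Q := act 6 n52773
theorem D114354 : act 6 n52773 = n114354 := rfl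
theorem F178321 : act 3 n114354 = n52775 := d7_1 D114354 (iv6 D52775) D52773
theorem F178322 : act 5 n114354 = n92690 := d12_1 D114354 (iv6 D92690) F68100 (iv6 F82830) (iv5 F83365)
def n114355 : Q := act 3 n52774
theorem D114355 : act 3 n52774 = n114355 := rfl
theorem F178323 : act 5 n114355 = n114334 := d6_2 (iv5 F83366) D114355 (iv3 D114334)
def n114356 : Q := act 6 n52774
theorem D114356 : act 6 n52774 = n114356 := rfl
theorem F178324 : act 4 n114356 = n52775 := d10_1 D114356 (iv6 D52775) D52774
def n114357 : Q := act 0 n52775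
theorem D114357 : act 0 n52775 = n114357 := rfl
def n114358 : Q := act 1 n52775
theorem D114358 : act 1 n52775 = n114358 := rfl
def n114359 : Q := act 7 n52775
theorem D114359 : act 7 n52775 = n114359 := rfl
theorem F178325 : act 5 n114359 = n92631 := d13_1 D114359 F176017 (iv5 F83368)
theorem F178326 : act 1 n94017 = n114359 := d17_6 (iv1 F143310) D103797 (iv1 F159230) F144806 F144805 D94017 F178325 F142738 (iv4 F143306)
theorem E17691 : n94003 = n92421 := (c21_6 (iv5 F178325) (iv1 F178326) (iv5 D94017) (iv6 D43941) D43937 D94003 (iv5 F176008) (iv1 F176011) F176014 (iv6 D92962) (iv1 F142738))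
theorem E17692 : n94394 = n90112 := (((F142146).symm.trans (sb E17691 (iv3 F145553)))).symm
theorem E17693 : n90112 = n43937 := ((F142147).symm.trans (sb E17691 (iv6 D94003)))
theorem E17694 : n94394 = n43937 := (E17692).trans E17693
theorem F178327 : act 6 n43937 = n44117 := (sb E17694 (iv6 D94394))
theorem E17695 : n93824 = n92424 := (((iv1 F144643)).symm.trans (sb E17693 (iv1 F142154)))
theorem E17697 : n94000 = n92426 := ((D94000).symm.trans (sb E17693 (iv2 F142157)))
theorem E17698 : n92421 = n44117 := (((F144763).symm.trans (sb E17693 (iv3 F142146)))).symm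
theorem E17699 : n96963 = n94001 := (((D94001).symm.trans (sb E17693 (iv4 F149546)))).symm
theorem E17700 : n94004 = n42121 := ((D94004).symm.trans (sb E17693 (iv7 D90112)))
theorem E17701 : n43938 = n43229 := ((((iv1 D92424)).symm.trans (sb E17695 (iv1 F144645)))).symm
theorem F178328 : act 1 n92424 = n43937 := (sb E17695 F144643)
theorem F178329 : act 2 n92424 = n43857 := (sb E17695 (iv2 D93824))
theorem F178330 : act 3 n92424 = n43960 := (sb E17695 F144640)
theorem F178331 : act 4 n92424 = n44798 := (sb E17695 F144641)
theorem F178332 : act 7 n92424 = n43939 := (sb E17695 F144642)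
theorem F178333 : act 2 n92426 = n43937 := (sb E17697 (iv2 D94000))
theorem E17702 : n94176 = n90115 := (((iv1 F145190)).symm.trans (sb E17698 (iv1 F142149)))
theorem E17705 : n95569 = n93933 := (((F144762).symm.trans (sb E17698 (iv4 F147236)))).symm
theorem E17706 : n113011 = n94393 := (((D94393).symm.trans (sb E17698 (iv5 F176008)))).symm
theorem E17707 : n94395 = n43227 := ((D94395).symm.trans (sb E17698 (iv7 D92421)))
theorem F178334 : act 2 n94001 = n95564 := (sb E17699 F149545)
theorem F178335 : act 6 n94001 = n93933 := (sb E17699 (tr F149547 E17705))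
theorem F178336 : act 7 n94001 = n45330 := (sb E17699 (iv7 D96963))
theorem F178337 : act 7 n42121 = n43937 := (sb E17700 (iv7 D94004))
theorem F178338 : act 0 n43229 = n20821 := (sb E17701 (iv1 D43938))
theorem E17710 : n94005 = n92422 := ((((iv3 F142152)).symm.trans (sb E17701 D94005))).symm
theorem E17711 : n94006 = n44637 := ((((iv4 F70188)).symm.trans (sb E17701 D94006))).symm
theorem E17714 : n44118 = n42123 := ((((iv1 D90115)).symm.trans (sb E17702 (iv1 F145191)))).symm
theorem F178342 : act 4 n90115 = n45466 := (sb E17702 F145188)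
theorem F178345 : act 2 n93933 = n96958 := (sb E17705 (iv2 F149533))
theorem F178346 : act 7 n93933 = n44639 := (sb E17705 (iv7 D95569))
theorem F178348 : act 1 n94393 = n112916 := (sb E17706 F176012)
theorem F178350 : act 6 n94393 = n107481 := (sb E17706 F176009)
theorem F178351 : act 7 n94393 = n52162 := (sb E17706 (iv7 D113011))
theorem F178352 : act 7 n43227 = n44117 := (sb E17707 (iv7 D94395))
theorem F178353 : act 0 n92422 = n93784 := (sb E17710 F144838)
theorem F178354 : act 1 n92422 = n93789 := (sb E17710 (iv0 F145559))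
theorem E17717 : n94396 = n90113 := (((F142151).symm.trans (sb E17710 (iv2 F145556)))).symm
theorem F178355 : act 0 n44637 = n45494 := (sb E17711 (iv1 F144839))
theorem F178356 : act 1 n44637 = n44089 := (sb E17711 (iv0 F144836))
theorem E17718 : n93932 = n45328 := ((((iv3 F71411)).symm.trans (sb E17711 (iv3 F144837)))).symm
theorem F178357 : act 0 n42123 = n20966 := (sb E17714 (iv1 D44118))
theorem F178358 : act 0 n90113 = n94132 := (sb E17717 F145558)
theorem F178359 : act 1 n90113 = n94137 := (sb E17717 (iv0 F145560))
theorem F178360 : act 0 n45328 = n44826 := (sb E17718 (iv1 F144760))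
theorem F178361 : act 1 n45328 = n43906 := (sb E17718 (iv0 D93932))
theorem F178362 : act 0 n93965 = n107476 := d18_2 F157806 D93965 F165809 F82389 (iv4 F71412) F178361 (iv4 D43906) D43904 D93927
theorem F178363 : act 0 n94407 = n92688 := d21_7 (iv5 F45925) (iv1 F45927) F39969 D42123 F178357 D44121 D94407 (iv5 D92688) (iv6 D43357) (iv1 F32545)
theorem F178364 : act 7 n90111 = n94002 := d8_2 F178351 (iv3 F138553) (iv3 F145552)
theorem E17721 : n113054 = n94402 := (c21_10 (iv5 D44120) D44117 D94393 F178350 (iv1 F176046) (iv6 F178009) (iv5 F178008) F163455 F83200 D113054 (iv1 D94402))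
theorem F178365 : act 2 n94402 = n112955 := (sb E17721 F176137)
theorem F178366 : act 5 n94402 = n114083 := (sb E17721 (iv5 F177598))
theorem F178367 : act 6 n94402 = n52178 := (sb E17721 (iv6 D113054))
theorem F178368 : act 0 n95787 = n96569 := d17_2 F157607 D95787 F160386 F160384 (iv5 F175848) (iv0 D112916) F82389 D90115 F178342
theorem E17722 : n104696 = n103115 := (c21_5 D95787 F178368 F160386 (iv6 D104699) D104696 (iv6 D103115) D103114 F160664 F160661 (iv6 D97352) F157607)
theorem F178369 : act 0 n103115 = n103799 := (sb E17722 (iv1 F160378))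
theorem F178370 : act 1 n103115 = n48407 := (sb E17722 (iv0 D104696))
theorem F178371 : act 7 n104697 = n104789 := d15_2 F178370 D104697 F160592
theorem F178372 : act 0 n94017 = n60021 := d21_7 F32554 D28394 F45916 D43229 F178338 D43941 D94017 F94505 (iv6 D34947) (iv1 F32556)
theorem F178373 : act 0 n97155 = n95535 := d17_2 F157281 D97155 F147164 F144815 D94036 (iv0 F161694) (iv5 D92425) D92424 F178331
def n114361 : Q := act 6 n52776
theorem D114361 : act 6 n52776 = n114361 := rfl
theorem F178374 : act 4 n114361 = n52859 := d10_1 D114361 (iv6 D52859) (iv4 F83369)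
def n114362 : Q := act 3 n52777
theorem D114362 : act 3 n52777 = n114362 := rfl
def n114363 : Q := act 6 n52777
theorem D114363 : act 6 n52777 = n114363 := rfl
theorem F178375 : act 4 n114363 = n52861 := d10_1 D114363 (iv6 D52861) (iv4 F83370)
def n114364 : Q := act 0 n52778
theorem D114364 : act 0 n52778 = n114364 := rfl
def n114365 : Q := act 1 n52778
theorem D114365 : act 1 n52778 = n114365 := rfl
def n114366 : Q := act 2 n52778
theorem D114366 : act 2 n52778 = n114366 := rfl
def n114367 : Q := act 5 n52778
theorem D114367 : act 5 n52778 = n114367 := rfl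
theorem F178376 : act 3 n114367 = n52779 := d6_1 D114367 (iv5 D52779) D52778
theorem F178377 : act 7 n60024 = n114367 := d8_0 F178376 F83372 D60024
def n114368 : Q := act 7 n52778
theorem D114368 : act 7 n52778 = n114368 := rfl
theorem F178378 : act 3 n114368 = n52780 := d8_1 D114368 (iv7 D52780) D52778
theorem F178379 : act 5 n114368 = n60024 := d13_1 D114368 F178377 (iv5 D114367)
def n114369 : Q := act 6 n52779
theorem D114369 : act 6 n52779 = n114369 := rfl
theorem F178380 : act 4 n114369 = n60025 := d10_1 D114369 (iv6 D60025) (iv4 F83371)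
def n114370 : Q := act 6 n52780
theorem D114370 : act 6 n52780 = n114370 := rfl
theorem F178381 : act 2 n114370 = n114369 := d3_1 D114370 (iv6 D114369) (iv2 F83375)
theorem F178382 : act 4 n114370 = n52781 := d10_1 D114370 (iv6 D52781) (iv4 F83376)
def n114371 : Q := act 0 n52781
theorem D114371 : act 0 n52781 = n114371 := rfl
theorem F178383 : act 6 n114371 = n113635 := d21_5 (iv5 D28494) F22746 (iv5 F40517) D52781 D114371 (iv5 D113635) (iv1 D52461) D52462 F82827 (iv1 F46026)
def n114372 : Q := act 1 n52781
theorem D114372 : act 1 n52781 = n114372 := rfl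
def n114373 : Q := act 5 n52782
theorem D114373 : act 5 n52782 = n114373 := rfl
theorem F178384 : act 2 n114373 = n52917 := d2_1 D114373 F83616 F83379
theorem F178385 : act 7 n114373 = n52899 := d13_2 (iv7 F83381) D114373 (iv5 D52899)
theorem F178386 : act 0 n114373 = n52915 := d17_2 D52782 D114373 (iv5 F87982) F87981 F43285 (iv0 F86143) (iv5 D54527) (iv0 D26369) (iv4 F40519)
theorem F178387 : act 1 n114373 = n52858 := d17_6 (iv1 D68017) D68020 F115249 (iv5 D70581) F83382 D114373 F83503 (iv0 F104140) F104138
def n114374 : Q := act 0 n52783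
theorem D114374 : act 0 n52783 = n114374 := rfl
theorem F178388 : act 5 n114374 = n68092 := d21_2 D52783 D114374 F104216 (iv1 F80523) F38880 (iv5 F40594) (iv1 F40598) (iv5 D12202) D12203 (iv1 F50901)
theorem F178389 : act 1 n52914 = n114374 := d15_0 (iv0 D114374) F83388 (iv2 F83614)
theorem F178390 : act 2 n71275 = n114374 := d2_3 F178388 (iv2 F104215) (iv5 F107769)
theorem F178391 : act 7 n71274 = n114374 := d13_0 F178388 (iv7 F176769) F176771
def n114375 : Q := act 1 n52783
theorem D114375 : act 1 n52783 = n114375 := rfl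
theorem F178392 : act 1 n114375 = n52914 := d15_1 D114375 F83615 (iv2 F83386)
theorem F178393 : act 7 n114375 = n71275 := d15_2 (iv0 D114374) D114375 F178390
theorem F178394 : act 5 n114375 = n67845 := d17_7 (iv1 F85001) F46293 F46298 (iv5 D26370) (iv4 F40519) D52783 D114375 F176822 F176818
theorem F178395 : act 2 n71274 = n114375 := d2_3 F178394 (iv2 F176766) F176771
theorem F178396 : act 3 n52977 = n114375 := d6_3 F178394 F114655 (iv5 F114656)
def n114376 : Q := act 4 n52783
theorem D114376 : act 4 n52783 = n114376 := rfl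
theorem F178397 : act 2 n114376 = n71812 := d1_1 D114376 (iv4 D71812) (iv2 F83386)
theorem F178398 : act 7 n114376 = n71276 := d11_2 (iv7 F83388) D114376 (iv4 D71276)
def n114377 : Q := act 6 n52783
theorem D114377 : act 6 n52783 = n114377 := rfl
theorem F178399 : act 2 n114377 = n71810 := d3_1 D114377 F108264 (iv2 F83386)
theorem F178400 : act 3 n114377 = n52785 := d7_1 D114377 (iv6 D52785) (iv3 F83387)
theorem F178401 : act 5 n114377 = n54544 := d12_1 D114377 (iv6 D54544) (iv5 D26377) (iv6 F40520) D52783
def n114378 : Q := act 3 n52784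
theorem D114378 : act 3 n52784 = n114378 := rfl
theorem F178403 : act 7 n114378 = n71282 := d8_2 (iv7 F83389) D114378 (iv3 D71282)
def n114379 : Q := act 6 n52784
theorem D114379 : act 6 n52784 = n114379 := rfl
theorem F178404 : act 4 n114379 = n52785 := d10_1 D114379 (iv6 D52785) D52784
def n114380 : Q := act 0 n52785
theorem D114380 : act 0 n52785 = n114380 := rfl
theorem F178405 : act 6 n114380 = n90654 := d21_5 (iv5 D12191) F20179 D25621 D52785 D114380 (iv5 D90654) F157739 (iv5 F83506) (iv6 D52861) (iv1 D25655)
theorem F178406 : act 2 n90663 = n114380 := d3_3 F178405 F139566 D90663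
def n114381 : Q := act 1 n52785
theorem D114381 : act 1 n52785 = n114381 := rfl
theorem F178407 : act 7 n114381 = n90663 := d15_2 (iv0 D114380) D114381 F178406
theorem F178408 : act 3 n90676 = n114381 := d8_3 F178407 F139577 D90676
def n114382 : Q := act 7 n52785
theorem D114382 : act 7 n52785 = n114382 := rfl
theorem F178409 : act 6 n114382 = n71286 := d14_1 D114382 (iv7 D71286) (iv6 D32988) (iv7 F40522) D52785
def n114383 : Q := act 4 n52786
theorem D114383 : act 4 n52786 = n114383 := rfl
theorem F178410 : act 7 n114383 = n71084 := d11_2 (iv7 F83392) D114383 (iv4 D71084)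
def n114384 : Q := act 6 n52786
theorem D114384 : act 6 n52786 = n114384 := rfl
theorem F178411 : act 3 n114384 = n52788 := d7_1 D114384 (iv6 D52788) (iv3 F83391)
def n114385 : Q := act 3 n52787
theorem D114385 : act 3 n52787 = n114385 := rfl
def n114386 : Q := act 6 n52787
theorem D114386 : act 6 n52787 = n114386 := rfl
theorem F178413 : act 2 n114386 = n71283 := d3_1 D114386 (iv6 D71283) (iv2 F83393)
theorem F178414 : act 4 n114386 = n52788 := d10_1 D114386 (iv6 D52788) D52787
def n114387 : Q := act 0 n52788
theorem D114387 : act 0 n52788 = n114387 := rfl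
def n114388 : Q := act 1 n52788
theorem D114388 : act 1 n52788 = n114388 := rfl
theorem F178415 : act 1 n114388 = n71286 := d15_1 D114388 (iv7 D71286) (iv2 F83395)
def n114389 : Q := act 7 n52788
theorem D114389 : act 7 n52788 = n114389 := rfl
theorem F178416 : act 2 n114389 = n71286 := d4_1 D114389 (iv7 D71286) (iv2 F83395)
theorem F178417 : act 1 n71286 = n114387 := d15_0 (iv0 D114387) D114389 F178416
theorem F178418 : act 1 n71285 = n114389 := d15_1 D71285 (iv7 D114389) F83395
theorem F178419 : act 1 n114389 = n71284 := d15_0 (iv0 D71284) D71286 (iv2 F178416)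
def n114390 : Q := act 0 n52790
theorem D114390 : act 0 n52790 = n114390 := rfl
def n114391 : Q := act 1 n52790
theorem D114391 : act 1 n52790 = n114391 := rfl
def n114392 : Q := act 2 n52790
theorem D114392 : act 2 n52790 = n114392 := rfl
def n114393 : Q := act 4 n52790
theorem D114393 : act 4 n52790 = n114393 := rfl
def n114394 : Q := act 5 n52790
theorem D114394 : act 5 n52790 = n114394 := rfl
theorem F178420 : act 3 n114394 = n52792 := d6_1 D114394 (iv5 D52792) D52790
def n114395 : Q := act 6 n52790
theorem D114395 : act 6 n52790 = n114395 := rfl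
theorem F178421 : act 3 n114395 = n52793 := d7_1 D114395 (iv6 D52793) D52790
def n114396 : Q := act 1 n52792
theorem D114396 : act 1 n52792 = n114396 := rfl
theorem F178422 : act 1 n114396 = n52797 := d15_1 D114396 (iv7 F161737) F161736
theorem F178423 : act 7 n114396 = n105476 := d15_2 (iv0 F83766) D114396 F161904
theorem F178424 : act 5 n76452 = n114396 := d13_3 F178423 (iv5 D105476) F161788
theorem F178425 : act 6 n114396 = n110336 := d12_2 F161766 F178424 (iv5 F171481) (iv6 D110780) F161768
theorem F178426 : act 5 n114306 = n114157 := d17_3 (iv1 F46018) D52759 (iv1 F178177) F177892 F178424 F178422 (iv5 D52797) F76744 F76741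
def n114397 : Q := act 4 n52792
theorem D114397 : act 4 n52792 = n114397 := rfl
def n114398 : Q := act 6 n52792
theorem D114398 : act 6 n52792 = n114398 := rfl
def n114399 : Q := act 0 n52793
theorem D114399 : act 0 n52793 = n114399 := rfl
theorem F178427 : act 4 n114399 = n114310 := d18_1 D114399 (iv1 F178198) F177679 (iv5 D78969) D78968 F178264 (iv4 D53001) D53000 (iv5 F83720)
theorem F178428 : act 2 n76379 = n114399 := d15_3 (iv0 D114399) (iv0 F177479) F177483
theorem F178429 : act 6 n114399 = n76375 := d3_2 D76379 F178428 F114488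
def n114400 : Q := act 7 n52793
theorem D114400 : act 7 n52793 = n114400 := rfl
theorem F178430 : act 4 n114400 = n94258 := d11_1 D114400 F145387 (iv4 F136454)
theorem F178431 : act 5 n114400 = n55981 := d13_1 D114400 F161743 (iv5 F83720)
theorem F178432 : act 0 n76379 = n114400 := d17_0 F178431 (iv1 F88593) F83723 F40638 (iv5 F83212) F83217 D90118 (iv0 F178021) F177660
def n114401 : Q := act 0 n52795
theorem D114401 : act 0 n52795 = n114401 := rfl
def n114402 : Q := act 1 n52795
theorem D114402 : act 1 n52795 = n114402 := rfl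
def n114403 : Q := act 2 n52795
theorem D114403 : act 2 n52795 = n114403 := rfl
def n114404 : Q := act 4 n52795
theorem D114404 : act 4 n52795 = n114404 := rfl
def n114405 : Q := act 5 n52795
theorem D114405 : act 5 n52795 = n114405 := rfl
theorem F178433 : act 3 n114405 = n52797 := d6_1 D114405 (iv5 D52797) D52795
def n114406 : Q := act 6 n52795
theorem D114406 : act 6 n52795 = n114406 := rfl
theorem F178434 : act 3 n114406 = n52798 := d7_1 D114406 (iv6 D52798) D52795
def n114407 : Q := act 4 n52797
theorem D114407 : act 4 n52797 = n114407 := rfl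
def n114408 : Q := act 6 n52797
theorem D114408 : act 6 n52797 = n114408 := rfl
theorem F178435 : act 0 n61519 = n114408 := d21_4 (iv5 D25303) (iv1 F23481) (iv5 F46793) D61519 (iv6 D114408) (iv5 D52797) (iv1 D25625) D25626 F40526 (iv1 F39964)
def n114409 : Q := act 0 n52798
theorem D114409 : act 0 n52798 = n114409 := rfl
theorem F178436 : act 5 n114409 = n53078 := d21_0 (iv1 F83773) F83739 F40657 (iv1 F37059) D25742 D53065 (iv1 F161748) (iv5 D52797) D52798 D114409
theorem F178437 : act 0 n52853 = n105361 := d17_0 (iv5 D105361) (iv1 F76651) F40360 (iv4 F40656) (iv5 F83739) F83773 (iv5 F178436) (iv0 D114409) F136459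
theorem F178438 : act 7 n55270 = n114409 := d13_0 F178436 F177456 (iv5 F87469)
theorem F178439 : act 4 n106270 = n114409 := d17_4 (iv1 D23983) (iv5 F37410) D49107 D106270 F178436 (iv0 D53078) (iv5 D25746) D25745 (iv4 F177650)
theorem F178440 : act 1 n52853 = n69697 := d18_8 (iv1 D48707) (iv4 F76647) D105354 F177662 D106270 F178439 (iv0 D114409) F136459 F106066
theorem E17723 : n114240 = n76357 := ((c17_10 (iv1 D114240) D114241 F178037 (iv5 D53059) (iv4 D25740) D25741 F83760 F83756 F178440 (iv4 F177809))).symm
theorem F178441 : act 0 n76357 = n52727 := (sb E17723 (iv1 D114240))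
def n114410 : Q := act 1 n52798
theorem D114410 : act 1 n52798 = n114410 := rfl
def n114411 : Q := act 5 n52798
theorem D114411 : act 5 n52798 = n114411 := rfl
theorem F178442 : act 1 n114411 = n53013 := d17_6 D12217 D25736 D53043 F83756 (iv4 F136459) D114411 (iv5 D53013) (iv0 D25729) F20214
theorem F178443 : act 1 n53018 = n114411 := d15_0 F178442 F177821 (iv2 F177827)
theorem E17724 : n114410 = n78883 := (c17_9 (iv1 F178185) (iv5 F163170) (iv1 F163174) (iv5 D49069) F177826 D53018 F178443 (iv5 D114411) D114410 (iv4 F177623))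
theorem F178444 : act 0 n78883 = n52798 := (sb E17724 (iv1 D114410))
def n114412 : Q := act 7 n52798
theorem D114412 : act 7 n52798 = n114412 := rfl
theorem F178445 : act 4 n114412 = n113980 := d11_1 D114412 F177321 (iv4 F136459)
theorem F178446 : act 1 n55270 = n114412 := d17_8 F177322 (iv5 D52614) (iv1 D25531) F20063 (iv4 F20214) D25731 D53021 (iv5 F87469) F178445
theorem F178447 : act 1 n105406 = n55270 := d15_0 F178446 (iv7 D114412) (iv2 F161749)
def n114413 : Q := act 3 n52799
theorem D114413 : act 3 n52799 = n114413 := rfl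
def n114414 : Q := act 6 n52799
theorem D114414 : act 6 n52799 = n114414 := rfl
def n114416 : Q := act 6 n52800
theorem D114416 : act 6 n52800 = n114416 := rfl
def n114417 : Q := act 3 n52801
theorem D114417 : act 3 n52801 = n114417 := rfl
theorem F178448 : act 6 n114417 = n52803 := d7_2 (iv6 F83398) D114417 (iv3 D52803)
def n114418 : Q := act 5 n52801
theorem D114418 : act 5 n52801 = n114418 := rfl
theorem F178449 : act 6 n114418 = n113126 := d12_2 (iv6 F83398) D114418 (iv5 D113126) (iv6 D52213) (iv5 F40528)
def n114419 : Q := act 7 n52801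
theorem D114419 : act 7 n52801 = n114419 := rfl
theorem F178450 : act 4 n114419 = n52802 := d11_1 D114419 (iv7 D52802) D52801
theorem F178451 : act 6 n114419 = n113125 := d14_1 D114419 (iv7 D113125) (iv6 D52212) F40529 (iv6 F83398)
theorem F178452 : act 1 n112954 = n114419 := d15_1 (iv0 F175893) (iv7 D114419) (iv2 F161751)
theorem F178453 : act 1 n114419 = n112951 := d15_1 F178452 (iv7 F176134) F176133
def n114420 : Q := act 6 n52802
theorem D114420 : act 6 n52802 = n114420 := rfl
theorem F178454 : act 4 n114420 = n113125 := d10_1 D114420 (iv6 F178451) F178450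
theorem F178455 : act 7 n114420 = n52804 := d14_2 D52802 D114420 (iv6 D52804) (iv7 D25629) (iv6 F40526)
def n114421 : Q := act 0 n52803
theorem D114421 : act 0 n52803 = n114421 := rfl
theorem F178456 : act 1 n113117 = n114421 := d15_0 (iv0 D114421) F83401 (iv2 F176232)
def n114422 : Q := act 1 n52803
theorem D114422 : act 1 n52803 = n114422 := rfl
def n114423 : Q := act 2 n52803
theorem D114423 : act 2 n52803 = n114423 := rfl
theorem F178457 : act 5 n114423 = n113104 := d2_2 (iv5 F83400) D114423 (iv2 F176224)
theorem F178458 : act 7 n114423 = n113117 := d4_2 (iv7 F83401) D114423 F176232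
theorem F178459 : act 1 n114423 = n113118 := d15_0 (iv0 D113118) (iv7 F83401) D114423
theorem F178460 : act 1 n114422 = n113117 := d15_1 D114422 (iv7 F178458) (iv2 D114423)
theorem F178461 : act 1 n113119 = n114423 := d15_1 D113119 F178458 F176232
def n114424 : Q := act 0 n52804
theorem D114424 : act 0 n52804 = n114424 := rfl
def n114425 : Q := act 1 n52804
theorem D114425 : act 1 n52804 = n114425 := rfl
def n114426 : Q := act 6 n52808
theorem D114426 : act 6 n52808 = n114426 := rfl
theorem F178462 : act 3 n114426 = n52811 := d7_1 D114426 (iv6 D52811) (iv3 F83434)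
def n114427 : Q := act 6 n52809
theorem D114427 : act 6 n52809 = n114427 := rfl
theorem F178463 : act 2 n114427 = n114426 := d3_1 D114427 (iv6 D114426) (iv2 F83437)
theorem F178464 : act 4 n114427 = n114127 := d10_1 D114427 (iv6 D114127) (iv4 F83440)
def n114428 : Q := act 6 n52810
theorem D114428 : act 6 n52810 = n114428 := rfl
theorem F178465 : act 3 n114428 = n72335 := d7_1 D114428 (iv6 D72335) (iv3 F83443)
theorem F178466 : act 4 n114428 = n52811 := d10_1 D114428 (iv6 D52811) D52810
def n114429 : Q := act 0 n52811
theorem D114429 : act 0 n52811 = n114429 := rfl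
def n114430 : Q := act 1 n52811
theorem D114430 : act 1 n52811 = n114430 := rfl
def n114431 : Q := act 7 n52811
theorem D114431 : act 7 n52811 = n114431 := rfl
def n114432 : Q := act 5 n52813
theorem D114432 : act 5 n52813 = n114432 := rfl
theorem F178467 : act 3 n114432 = n52817 := d6_1 D114432 (iv5 D52817) (iv3 F83448)
def n114433 : Q := act 6 n52814
theorem D114433 : act 6 n52814 = n114433 := rfl
theorem F178468 : act 3 n114433 = n76304 := d7_1 D114433 (iv6 D76304) (iv3 F83449)
theorem F178469 : act 4 n114433 = n72450 := d10_1 D114433 (iv6 D72450) (iv4 F83451)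
def n114434 : Q := act 6 n52815
theorem D114434 : act 6 n52815 = n114434 := rfl
theorem F178470 : act 4 n114434 = n52816 := d10_1 D114434 (iv6 D52816) D52815
def n114435 : Q := act 0 n52816
theorem D114435 : act 0 n52816 = n114435 := rfl
def n114436 : Q := act 1 n52816
theorem D114436 : act 1 n52816 = n114436 := rfl
def n114437 : Q := act 7 n52816
theorem D114437 : act 7 n52816 = n114437 := rfl
def n114438 : Q := act 4 n52817
theorem D114438 : act 4 n52817 = n114438 := rfl
def n114439 : Q := act 3 n52818
theorem D114439 : act 3 n52818 = n114439 := rfl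
theorem F178471 : act 2 n114439 = n114192 := d0_1 D114439 (iv3 D114192) F83296 (iv3 F40542) (iv2 F83454)
def n114440 : Q := act 6 n52818
theorem D114440 : act 6 n52818 = n114440 := rfl
theorem F178472 : act 2 n114440 = n52833 := d3_1 D114440 (iv6 D52833) (iv2 F83454)
theorem F178473 : act 4 n114440 = n52819 := d10_1 D114440 (iv6 D52819) D52818
def n114441 : Q := act 1 n52819
theorem D114441 : act 1 n52819 = n114441 := rfl
theorem F178474 : act 1 n114441 = n52837 := d15_1 D114441 (iv7 D52837) (iv2 F83455)
theorem F178475 : act 7 n114441 = n52834 := d15_2 (iv0 F138833) D114441 (iv2 F138832)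
theorem F178476 : act 2 n52835 = n114441 := d4_3 F178475 (iv2 F138832) (iv7 F138834)
theorem F178477 : act 1 n52837 = n90265 := d15_1 F178474 (iv7 F138834) F178476
def n114442 : Q := act 7 n52819
theorem D114442 : act 7 n52819 = n114442 := rfl
theorem F178478 : act 2 n114442 = n52837 := d4_1 D114442 (iv7 D52837) (iv2 F83455)
theorem F178479 : act 1 n52835 = n114442 := d15_1 D52835 (iv7 D114442) F83455
theorem F178480 : act 1 n114442 = n52834 := d15_1 F178479 (iv7 F178475) (iv2 F178476)
def n114443 : Q := act 5 n52820
theorem D114443 : act 5 n52820 = n114443 := rfl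
theorem F178481 : act 2 n114443 = n52838 := d2_1 D114443 (iv5 D52838) F83458
theorem F178482 : act 7 n114443 = n52841 := d13_2 F83460 D114443 (iv5 D52841)
theorem F178483 : act 0 n114443 = n71278 := d17_2 D52820 D114443 F107771 F82969 D106510 (iv0 F177967) (iv5 D114188) (iv0 F83288) (iv4 F40541)
theorem F178484 : act 1 n114443 = n90295 := d17_6 (iv1 F65498) D43433 (iv1 F143178) (iv5 F143179) (iv4 F83456) D114443 (iv5 D90295) F65150 (iv4 F65495)
theorem F178485 : act 6 n114443 = n90674 := d21_3 F65502 D52820 D114443 (iv1 D90674) (iv6 D42447) (iv5 D20037) (iv1 D9445) D9446 (iv6 F31865) D42417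
def n114444 : Q := act 5 n52821
theorem D114444 : act 5 n52821 = n114444 := rfl
theorem F178486 : act 2 n114444 = n52841 := d2_1 D114444 (iv5 D52841) F83466
theorem F178487 : act 7 n114444 = n52838 := d13_2 (iv7 F83463) D114444 (iv5 D52838)
theorem F178488 : act 1 n114444 = n71278 := d17_6 D20533 D43428 D92815 F143175 F83464 D114444 F107771 (iv0 D42206) F31753
theorem F178489 : act 0 n114444 = n90295 := d21_7 (iv5 F139351) (iv1 F139354) (iv5 D48690) (iv6 F65474) (iv1 F68245) (iv6 F83465) D114444 (iv5 D90295) F82973 (iv1 F77479)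
def n114445 : Q := act 6 n52823
theorem D114445 : act 6 n52823 = n114445 := rfl
theorem F178490 : act 3 n114445 = n52825 := d7_1 D114445 (iv6 D52825) D52823
theorem F178491 : act 4 n114445 = n72860 := d10_1 D114445 (iv6 D72860) (iv4 F83470)
def n114446 : Q := act 0 n52824
theorem D114446 : act 0 n52824 = n114446 := rfl
theorem F178492 : act 5 n114446 = n72331 := d17_1 D114446 (iv1 F109156) F109154 (iv4 D52815) (iv5 D25638) F25390 D33028 F52209 D52824
theorem F178493 : act 4 n114446 = n54787 := d18_1 D114446 F86682 (iv4 F108423) F108424 (iv4 D57609) F90320 F109316 (iv0 D60260) F83472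
theorem F178494 : act 3 n114446 = n95830 := d20_5 F94613 (iv1 D33602) (iv4 F46200) (iv3 F83471) D114446 (iv4 D95830) (iv1 F71583) D97091 F149792 (iv1 F94615)
theorem F178495 : act 1 n52828 = n114446 := d15_0 (iv0 D114446) (iv7 F109324) F109322
theorem F178496 : act 7 n106130 = n114446 := d8_0 F178494 (iv7 F149931) (iv3 F163144)
theorem F178497 : act 2 n114446 = n54789 := d15_3 (iv0 F161731) (iv0 F163146) F178496
def n114447 : Q := act 1 n52824
theorem D114447 : act 1 n52824 = n114447 := rfl
theorem F178498 : act 1 n114447 = n52828 := d15_1 D114447 (iv7 F161730) F161728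
theorem F178499 : act 7 n114447 = n54789 := d15_2 (iv0 D114446) D114447 (iv2 F178497)
theorem F178500 : act 5 n114447 = n72332 := d17_7 (iv1 F108945) D72445 (iv1 F108965) F87743 (iv4 F46199) F83472 D114447 F109158 F109153
theorem F178501 : act 4 n114447 = n54791 := d17_9 (iv1 F86693) F52458 F40386 D25575 D52690 (iv5 F94807) (iv0 D60260) F83472 D114447
theorem F178502 : act 2 n106130 = n114447 := d1_3 F178501 F86690 D106130
def n114448 : Q := act 6 n52824
theorem D114448 : act 6 n52824 = n114448 := rfl
theorem F178503 : act 3 n114448 = n60264 := d7_1 D114448 (iv6 D60264) (iv3 F83471)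
theorem F178504 : act 4 n114448 = n52825 := d10_1 D114448 (iv6 D52825) D52824
def n114449 : Q := act 0 n52825
theorem D114449 : act 0 n52825 = n114449 := rfl
def n114451 : Q := act 5 n52825
theorem D114451 : act 5 n52825 = n114451 := rfl
theorem F178505 : act 6 n114451 = n76298 := d12_2 D52825 D114451 (iv5 D76298) (iv6 D34854) (iv5 F65521)
def n114452 : Q := act 7 n52825
theorem D114452 : act 7 n52825 = n114452 := rfl
def n114453 : Q := act 6 n52827
theorem D114453 : act 6 n52827 = n114453 := rfl
theorem F178506 : act 3 n114453 = n52829 := d7_1 D114453 (iv6 D52829) D52827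
theorem F178507 : act 4 n114453 = n76783 := d10_1 D114453 (iv6 D76783) (iv4 F83476)
def n114454 : Q := act 6 n52828
theorem D114454 : act 6 n52828 = n114454 := rfl
theorem F178508 : act 4 n114454 = n52829 := d10_1 D114454 (iv6 D52829) D52828
def n114455 : Q := act 0 n52829
theorem D114455 : act 0 n52829 = n114455 := rfl
def n114456 : Q := act 5 n52829
theorem D114456 : act 5 n52829 = n114456 := rfl
theorem F178509 : act 6 n114456 = n76302 := d12_2 D52829 D114456 (iv5 D76302) (iv6 D34858) (iv5 F46143)
def n114457 : Q := act 7 n52829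
theorem D114457 : act 7 n52829 = n114457 := rfl
theorem F178510 : act 1 n55272 = n114457 := d15_1 (iv0 F161727) (iv7 D114457) (iv2 F161726)
def n114458 : Q := act 3 n52830
theorem D114458 : act 3 n52830 = n114458 := rfl
theorem F178512 : act 4 n114458 = n70307 := d5_2 (iv4 F86688) D114458 F148043 F148041 F88611
theorem F178513 : act 5 n114458 = n77020 := d6_2 F132278 D114458 (iv3 F132276)
def n114460 : Q := act 6 n52831
theorem D114460 : act 6 n52831 = n114460 := rfl
theorem F178514 : act 3 n114460 = n76996 := d7_1 D114460 (iv6 D76996) F83479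
theorem F178515 : act 4 n114460 = n78889 := d10_1 D114460 (iv6 D78889) (iv4 F83478)
def n114461 : Q := act 6 n52832
theorem D114461 : act 6 n52832 = n114461 := rfl
theorem F178516 : act 3 n114461 = n114197 := d7_1 D114461 (iv6 D114197) (iv3 F83481)
theorem F178517 : act 4 n114461 = n72446 := d10_1 D114461 (iv6 D72446) (iv4 F83483)
def n114462 : Q := act 0 n52833
theorem D114462 : act 0 n52833 = n114462 := rfl
theorem F178518 : act 6 n114462 = n89557 := d21_5 F83707 F83482 (iv5 D52832) D52833 D114462 (iv5 F139292) F139293 F135572 (iv6 F114403) F114405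
theorem F178519 : act 4 n89558 = n114462 := d10_3 F178518 (iv4 D89557) D89558
def n114463 : Q := act 1 n52833
theorem D114463 : act 1 n52833 = n114463 := rfl
def n114464 : Q := act 5 n52833
theorem D114464 : act 5 n52833 = n114464 := rfl
theorem F178520 : act 3 n114464 = n114200 := d6_1 D114464 (iv5 D114200) (iv3 F83484)
def n114465 : Q := act 7 n52833
theorem D114465 : act 7 n52833 = n114465 := rfl
theorem F178521 : act 3 n114465 = n114201 := d8_1 D114465 (iv7 D114201) (iv3 F83484)
theorem F178522 : act 4 n114465 = n52837 := d11_1 D114465 (iv7 D52837) (iv4 F83485)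
def n114466 : Q := act 4 n52834
theorem D114466 : act 4 n52834 = n114466 := rfl
theorem F178523 : act 6 n114466 = n87042 := d10_2 (iv6 F83486) D114466 (iv4 D87042)
def n114467 : Q := act 5 n52834
theorem D114467 : act 5 n52834 = n114467 := rfl
theorem F178524 : act 2 n114467 = n90632 := d2_1 D114467 F139545 F138832
theorem F178525 : act 6 n114467 = n87043 := d12_2 (iv6 F83486) D114467 (iv5 D87043) (iv6 D40439) D40438
def n114468 : Q := act 3 n52835
theorem D114468 : act 3 n52835 = n114468 := rfl
def n114469 : Q := act 4 n52835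
theorem D114469 : act 4 n52835 = n114469 := rfl
def n114470 : Q := act 5 n52835
theorem D114470 : act 5 n52835 = n114470 := rfl
theorem F178526 : act 7 n114470 = n90632 := d13_2 (iv7 F138834) D114470 F139545
def n114471 : Q := act 6 n52835
theorem D114471 : act 6 n52835 = n114471 := rfl
theorem F178527 : act 7 n114471 = n92473 := d14_2 (iv7 F138834) D114471 (iv6 D92473) F67787 D90265
def n114472 : Q := act 0 n52836
theorem D114472 : act 0 n52836 = n114472 := rfl
def n114473 : Q := act 1 n52836
theorem D114473 : act 1 n52836 = n114473 := rfl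
def n114474 : Q := act 4 n52836
theorem D114474 : act 4 n52836 = n114474 := rfl
theorem F178528 : act 6 n114474 = n52843 := d10_2 (iv6 F83488) D114474 (iv4 D52843)
def n114475 : Q := act 7 n52836
theorem D114475 : act 7 n52836 = n114475 := rfl
theorem F178529 : act 3 n114475 = n52857 := d8_1 D114475 (iv7 D52857) (iv3 F83487)
theorem F178530 : act 5 n114475 = n52837 := d13_1 D114475 (iv7 D52837) D52836
def n114476 : Q := act 4 n52838
theorem D114476 : act 4 n52838 = n114476 := rfl
def n114477 : Q := act 6 n52838
theorem D114477 : act 6 n52838 = n114477 := rfl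
theorem F178531 : act 2 n114477 = n90674 := d3_1 D114477 (iv6 F178485) F178481
theorem F178532 : act 5 n114477 = n114433 := d12_1 D114477 (iv6 D114433) (iv5 D52814) F76685 D52838
theorem F178533 : act 0 n114477 = n90312 := d21_4 (iv5 D25648) D25646 D52838 D114477 (iv6 D90312) (iv5 D42214) (iv1 D19928) D19929 (iv6 F65152) F65153
theorem F178534 : act 1 n114477 = n90676 := d15_1 (iv0 F178533) (iv7 D90676) (iv2 F138928)
def n114478 : Q := act 5 n52839
theorem D114478 : act 5 n52839 = n114478 := rfl
theorem F178535 : act 3 n114478 = n52841 := d6_1 D114478 (iv5 D52841) D52839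
def n114479 : Q := act 5 n52840
theorem D114479 : act 5 n52840 = n114479 := rfl
theorem F178536 : act 2 n114479 = n92815 := d2_1 D114479 F143175 (iv2 F83490)
theorem F178537 : act 3 n114479 = n114444 := d6_1 D114479 (iv5 D114444) (iv3 F83493)
theorem F178538 : act 7 n114479 = n92816 := d13_2 (iv7 F83492) D114479 (iv5 F143179)
theorem F178539 : act 1 n114479 = n76225 := d17_6 D20025 D42410 F83497 (iv5 D52841) D52840 D114479 F114196 (iv0 D42403) F31864
theorem F178540 : act 0 n114479 = n90585 := d21_1 D114479 (iv5 D90585) (iv6 F114377) (iv1 F114379) (iv6 F114371) (iv5 F164382) (iv1 D106682) (iv5 D49293) (iv6 F55019) F83494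
def n114480 : Q := act 4 n52841
theorem D114480 : act 4 n52841 = n114480 := rfl
def n114481 : Q := act 6 n52841
theorem D114481 : act 6 n52841 = n114481 := rfl
def n114482 : Q := act 0 n52843
theorem D114482 : act 0 n52843 = n114482 := rfl
def n114483 : Q := act 1 n52843
theorem D114483 : act 1 n52843 = n114483 := rfl
theorem F178541 : act 4 n90124 = n114483 := d20_6 (iv4 F83369) F83374 F83371 (iv3 F52480) (iv1 F108300) (iv3 F138563) (iv1 D114483) (iv4 D52843) F40544 D25654
theorem F178542 : act 6 n114483 = n90412 := d10_2 (iv6 F138564) F178541 (iv4 D90412)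
def n114484 : Q := act 3 n52843
theorem D114484 : act 3 n52843 = n114484 := rfl
theorem F178543 : act 4 n114484 = n52864 := d5_2 D52843 D114484 (iv3 D52864) (iv4 D25656) (iv3 F40544)
def n114485 : Q := act 5 n52843
theorem D114485 : act 5 n52843 = n114485 := rfl
def n114486 : Q := act 0 n52845
theorem D114486 : act 0 n52845 = n114486 := rfl
def n114487 : Q := act 1 n52845
theorem D114487 : act 1 n52845 = n114487 := rfl
def n114488 : Q := act 2 n52845
theorem D114488 : act 2 n52845 = n114488 := rfl
def n114489 : Q := act 4 n52845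
theorem D114489 : act 4 n52845 = n114489 := rfl
theorem F178544 : act 3 n114489 = n114393 := d5_1 D114489 (iv4 D114393) (iv3 D52790) (iv4 F136455) D52845
theorem F178545 : act 0 n54854 = n114489 := d20_7 (iv4 F76718) (iv1 F76721) (iv4 F114632) D60005 (iv1 F178287) F86796 (iv4 F86799) (iv4 D114489) (iv3 D52845) (iv1 F54604)
def n114490 : Q := act 5 n52845
theorem D114490 : act 5 n52845 = n114490 := rfl
theorem F178546 : act 3 n114490 = n52847 := d6_1 D114490 (iv5 D52847) D52845
def n114491 : Q := act 6 n52845
theorem D114491 : act 6 n52845 = n114491 := rfl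
theorem F178547 : act 3 n114491 = n52848 := d7_1 D114491 (iv6 D52848) D52845
theorem F178548 : act 5 n76476 = n114491 := d6_0 F178547 F83499 D76476
def n114492 : Q := act 0 n52847
theorem D114492 : act 0 n52847 = n114492 := rfl
theorem F178549 : act 5 n114492 = n53019 := d17_3 D25650 D52847 D114492 F177830 D106190 (iv0 F163182) (iv5 D52721) (iv0 D25590) (iv4 F20190)
theorem F178550 : act 1 n52852 = n114492 := d15_0 (iv0 D114492) F145384 F145378
theorem F178551 : act 1 n53019 = n52993 := d17_8 (iv1 F161767) D53065 (iv1 F161748) (iv5 D52797) (iv4 F136458) D52852 F178550 F178549 F136446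
theorem F178552 : act 0 n75156 = n114323 := d18_2 (iv1 D75155) D75156 (iv4 D114323) (iv5 F177898) F177897 (iv0 D106188) (iv4 F177830) F178551 F112694
def n114493 : Q := act 1 n52847
theorem D114493 : act 1 n52847 = n114493 := rfl
theorem F178553 : act 1 n114493 = n52852 := d15_1 D114493 (iv7 F145377) F145385
def n114494 : Q := act 4 n52847
theorem D114494 : act 4 n52847 = n114494 := rfl
def n114495 : Q := act 6 n52847
theorem D114495 : act 6 n52847 = n114495 := rfl
theorem F178554 : act 2 n114495 = n90661 := d3_1 D114495 (iv6 F157811) F145385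
theorem F178555 : act 5 n114495 = n76478 := d12_1 D114495 (iv6 D76478) (iv5 F83499) (iv6 D52848) D52847
theorem F178556 : act 0 n114495 = n90654 := d21_10 (iv5 D90654) F157739 (iv5 F83506) (iv6 D52861) (iv1 D25655) (iv6 F40547) (iv5 D25652) D25650 D52847 D114495
theorem F178557 : act 1 n114495 = n90302 := d15_1 (iv0 F178556) F138906 (iv2 F139566)
def n114497 : Q := act 1 n52850
theorem D114497 : act 1 n52850 = n114497 := rfl
def n114498 : Q := act 2 n52850
theorem D114498 : act 2 n52850 = n114498 := rfl
def n114499 : Q := act 4 n52850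
theorem D114499 : act 4 n52850 = n114499 := rfl
theorem F178558 : act 3 n114499 = n114404 := d5_1 D114499 (iv4 D114404) (iv3 D52795) (iv4 F136458) D52850
def n114501 : Q := act 6 n52850
theorem D114501 : act 6 n52850 = n114501 := rfl
theorem F178560 : act 3 n114501 = n52853 := d7_1 D114501 (iv6 D52853) D52850
def n114502 : Q := act 4 n52852
theorem D114502 : act 4 n52852 = n114502 := rfl
def n114503 : Q := act 3 n52854
theorem D114503 : act 3 n52854 = n114503 := rfl
def n114504 : Q := act 4 n52854
theorem D114504 : act 4 n52854 = n114504 := rfl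
def n114505 : Q := act 5 n52854
theorem D114505 : act 5 n52854 = n114505 := rfl
theorem F178561 : act 7 n114505 = n52993 := d13_2 (iv7 F153459) D114505 F112694
theorem F178562 : act 4 n114505 = n76454 := d17_4 (iv1 D25651) D25652 D52854 D114505 (iv5 F161795) (iv0 D52799) (iv5 D25626) D25625 (iv4 F136458)
theorem F178563 : act 1 n114505 = n53077 := d17_8 D106385 F163447 (iv1 F82501) F82498 F76718 (iv5 F112698) F112701 D114505 F177654
theorem E17725 : n114504 = n114328 := ((c18_3 (iv1 D52762) D52763 D114328 (iv4 D114504) D114505 F178562 (iv0 F161859) (iv4 F177800) F177798 F83353)).symm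
theorem F178564 : act 4 n114328 = n52854 := (sb E17725 (iv4 D114504))
theorem F178565 : act 6 n114505 = n53049 := d21_3 D25652 D52854 D114505 (iv1 D53049) (iv6 D25737) D25736 D53043 F83756 (iv6 D52853) (iv1 D25651)
def n114506 : Q := act 6 n52854
theorem D114506 : act 6 n52854 = n114506 := rfl
theorem F178566 : act 5 n114506 = n106494 := d21_6 (iv5 D25623) F20181 D12191 (iv6 F40547) D52854 D114506 (iv1 D106494) D106495 F163743 F77717
def n114507 : Q := act 3 n52855
theorem D114507 : act 3 n52855 = n114507 := rfl
def n114508 : Q := act 6 n52855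
theorem D114508 : act 6 n52855 = n114508 := rfl
def n114509 : Q := act 0 n52856
theorem D114509 : act 0 n52856 = n114509 := rfl
def n114510 : Q := act 1 n52856
theorem D114510 : act 1 n52856 = n114510 := rfl
theorem F178567 : act 4 n114510 = n60010 := d18_7 (iv1 F46012) F114632 (iv1 D25591) (iv4 F20190) D25652 D52856 D114510 F94473 F83355
theorem F178568 : act 2 n114326 = n114510 := d1_3 F178567 (iv2 F161678) D114326
theorem F178569 : act 7 n114323 = n114510 := d11_0 F178567 (iv7 F161680) D114323
theorem F178570 : act 2 n114323 = n114509 := d15_3 (iv0 D114509) D114510 (iv7 F178569)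
theorem F178571 : act 4 n114509 = n60009 := d1_2 D114323 F178570 F161681
theorem F178572 : act 7 n114509 = n114326 := d4_2 (iv7 F178569) F178570 F178568
theorem F178573 : act 1 n53077 = n55975 := d18_8 (iv1 D52855) D52856 D114509 F178571 (iv5 F161682) F163450 (iv0 D106385) (iv4 F177654) F88588
def n114511 : Q := act 3 n52856
theorem D114511 : act 3 n52856 = n114511 := rfl
theorem F178574 : act 6 n114511 = n52864 := d7_2 (iv6 F83501) D114511 (iv3 D52864)
def n114512 : Q := act 5 n52856
theorem D114512 : act 5 n52856 = n114512 := rfl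
def n114513 : Q := act 7 n52856
theorem D114513 : act 7 n52856 = n114513 := rfl
theorem F178575 : act 4 n114513 = n52857 := d11_1 D114513 (iv7 D52857) D52856
theorem F178576 : act 1 n114326 = n114513 := d15_1 (iv0 F178301) (iv7 D114513) (iv2 F112695)
theorem F178577 : act 1 n114513 = n114323 := d15_1 F178576 F178569 (iv2 F178568)
def n114514 : Q := act 6 n52857
theorem D114514 : act 6 n52857 = n114514 := rfl
theorem F178578 : act 7 n114514 = n52867 := d14_2 D52857 D114514 (iv6 D52867) (iv7 D25657) (iv6 F40547)
def n114515 : Q := act 2 n52858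
theorem D114515 : act 2 n52858 = n114515 := rfl
theorem F178579 : act 5 n114515 = n113642 := d2_2 (iv5 F83503) D114515 (iv2 D113642)
theorem F178580 : act 7 n114515 = n52915 := d4_2 F104219 D114515 (iv2 F104217)
theorem F178581 : act 1 n114515 = n52899 := d15_0 (iv0 F104221) F104219 D114515
theorem F178582 : act 1 n52917 = n114515 := d15_0 F178581 (iv7 F178385) F178384
def n114516 : Q := act 4 n52858
theorem D114516 : act 4 n52858 = n114516 := rfl
theorem F178583 : act 1 n114516 = n54862 := d18_6 F83810 F83808 F42831 (iv4 F82838) (iv5 F83503) D114516 (iv4 D54862) D54861 (iv5 F86802)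
def n114517 : Q := act 6 n52858
theorem D114517 : act 6 n52858 = n114517 := rfl
theorem F178584 : act 3 n114517 = n52859 := d7_1 D114517 (iv6 D52859) D52858
def n114518 : Q := act 0 n52859
theorem D114518 : act 0 n52859 = n114518 := rfl
def n114519 : Q := act 1 n52859
theorem D114519 : act 1 n52859 = n114519 := rfl
def n114520 : Q := act 5 n52859
theorem D114520 : act 5 n52859 = n114520 := rfl
theorem F178585 : act 6 n114520 = n53082 := d12_2 D52859 D114520 F83782 F53339 (iv5 F40549)
def n114521 : Q := act 7 n52859
theorem D114521 : act 7 n52859 = n114521 := rfl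
def n114522 : Q := act 4 n52860
theorem D114522 : act 4 n52860 = n114522 := rfl
def n114523 : Q := act 0 n52861
theorem D114523 : act 0 n52861 = n114523 := rfl
def n114524 : Q := act 1 n52861
theorem D114524 : act 1 n52861 = n114524 := rfl
def n114525 : Q := act 3 n52862
theorem D114525 : act 3 n52862 = n114525 := rfl
theorem F178586 : act 7 n114525 = n114355 := d8_2 F83509 D114525 (iv3 D114355)
def n114526 : Q := act 6 n52862
theorem D114526 : act 6 n52862 = n114526 := rfl
theorem F178587 : act 2 n114526 = n114349 := d3_1 D114526 (iv6 D114349) F83508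
theorem F178588 : act 4 n114526 = n60020 := d10_1 D114526 (iv6 D60020) (iv4 F83507)
def n114527 : Q := act 3 n52863
theorem D114527 : act 3 n52863 = n114527 := rfl
theorem F178589 : act 7 n114527 = n114348 := d8_2 (iv7 F83510) D114527 (iv3 D114348)
def n114528 : Q := act 6 n52863
theorem D114528 : act 6 n52863 = n114528 := rfl
theorem F178590 : act 2 n114528 = n114356 := d3_1 D114528 (iv6 D114356) F83512
theorem F178591 : act 4 n114528 = n60021 := d10_1 D114528 (iv6 D60021) (iv4 F83511)
def n114529 : Q := act 0 n52864
theorem D114529 : act 0 n52864 = n114529 := rfl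
def n114530 : Q := act 1 n52864
theorem D114530 : act 1 n52864 = n114530 := rfl
def n114531 : Q := act 2 n52864
theorem D114531 : act 2 n52864 = n114531 := rfl
def n114532 : Q := act 5 n52864
theorem D114532 : act 5 n52864 = n114532 := rfl
theorem F178592 : act 3 n114532 = n52865 := d6_1 D114532 (iv5 D52865) D52864
theorem F178593 : act 7 n75159 = n114532 := d8_0 F178592 F83514 D75159
def n114533 : Q := act 7 n52864
theorem D114533 : act 7 n52864 = n114533 := rfl
theorem F178594 : act 3 n114533 = n52866 := d8_1 D114533 (iv7 D52866) D52864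
theorem F178595 : act 5 n114533 = n75159 := d13_1 D114533 F178593 (iv5 D114532)
def n114534 : Q := act 6 n52865
theorem D114534 : act 6 n52865 = n114534 := rfl
theorem F178596 : act 4 n114534 = n75160 := d10_1 D114534 (iv6 D75160) (iv4 F83513)
def n114535 : Q := act 6 n52866
theorem D114535 : act 6 n52866 = n114535 := rfl
theorem F178597 : act 2 n114535 = n114534 := d3_1 D114535 (iv6 D114534) (iv2 F83517)
theorem F178598 : act 4 n114535 = n52867 := d10_1 D114535 (iv6 D52867) (iv4 F83518)
def n114536 : Q := act 0 n52867
theorem D114536 : act 0 n52867 = n114536 := rfl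
theorem F178599 : act 6 n114536 = n113909 := d21_5 (iv5 D28500) F22759 (iv5 F40551) D52867 D114536 (iv5 D113909) (iv1 D52587) D52588 F83102 (iv1 F46045)
def n114537 : Q := act 1 n52867
theorem D114537 : act 1 n52867 = n114537 := rfl
def n114538 : Q := act 6 n52868
theorem D114538 : act 6 n52868 = n114538 := rfl
theorem F178600 : act 2 n114538 = n52958 := d3_1 D114538 (iv6 D52958) (iv2 F83522)
theorem F178601 : act 3 n114538 = n99607 := d7_1 D114538 (iv6 D99607) F83527
theorem F178602 : act 4 n114538 = n52869 := d10_1 D114538 (iv6 D52869) D52868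
def n114539 : Q := act 0 n52869
theorem D114539 : act 0 n52869 = n114539 := rfl
def n114540 : Q := act 1 n52869
theorem D114540 : act 1 n52869 = n114540 := rfl
theorem F178603 : act 1 n114540 = n52969 := d15_1 D114540 F83694 (iv2 F83528)
def n114541 : Q := act 5 n52869
theorem D114541 : act 5 n52869 = n114541 := rfl
theorem F178604 : act 2 n114541 = n52972 := d2_1 D114541 (iv5 D52972) (iv2 F83528)
theorem F178605 : act 6 n114541 = n52870 := d12_2 D52869 D114541 (iv5 D52870) (iv6 D25659) D25658
def n114542 : Q := act 7 n52869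
theorem D114542 : act 7 n52869 = n114542 := rfl
theorem F178606 : act 2 n114542 = n52969 := d4_1 D114542 F83694 (iv2 F83528)
theorem F178607 : act 6 n114542 = n52927 := d14_1 D114542 (iv7 D52927) (iv6 D25694) (iv7 F40553) D52869
theorem F178608 : act 1 n52969 = n114539 := d15_0 (iv0 D114539) D114542 F178606
theorem F178609 : act 1 n52971 = n114542 := d15_1 D52971 (iv7 D114542) F83528
theorem F178610 : act 1 n114542 = n52970 := d15_0 (iv0 D52970) (iv7 F83694) (iv2 F178606)
def n114543 : Q := act 4 n52870
theorem D114543 : act 4 n52870 = n114543 := rfl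
theorem F178611 : act 2 n114543 = n52978 := d1_1 D114543 (iv4 D52978) (iv2 F83529)
theorem F178612 : act 7 n114543 = n72090 := d11_2 (iv7 F83530) D114543 (iv4 D72090)
def n114544 : Q := act 6 n52872
theorem D114544 : act 6 n52872 = n114544 := rfl
def n114545 : Q := act 0 n52873
theorem D114545 : act 0 n52873 = n114545 := rfl
def n114546 : Q := act 1 n52873
theorem D114546 : act 1 n52873 = n114546 := rfl
def n114547 : Q := act 5 n52873
theorem D114547 : act 5 n52873 = n114547 := rfl
theorem F178617 : act 6 n114547 = n52874 := d12_2 D52873 D114547 (iv5 D52874) (iv6 D25662) D25661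
def n114548 : Q := act 7 n52873
theorem D114548 : act 7 n52873 = n114548 := rfl
theorem F178618 : act 2 n114548 = n52893 := d4_1 D114548 (iv7 D52893) (iv2 F83541)
theorem F178619 : act 6 n114548 = n52913 := d14_1 D114548 (iv7 D52913) (iv6 D25686) (iv7 F40566) D52873
theorem F178621 : act 1 n52891 = n114548 := d15_1 D52891 (iv7 D114548) F83541
def n114549 : Q := act 4 n52874
theorem D114549 : act 4 n52874 = n114549 := rfl
theorem F178623 : act 2 n114549 = n52897 := d1_1 D114549 (iv4 D52897) (iv2 F83542)
theorem F178624 : act 1 n114549 = n78895 := d18_6 (iv1 F42434) (iv4 F83536) (iv1 D28518) (iv4 F40570) D52874 D114549 (iv4 D78895) F77994 F77992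
def n114550 : Q := act 6 n52875
theorem D114550 : act 6 n52875 = n114550 := rfl
theorem F178625 : act 3 n114550 = n114427 := d7_1 D114550 (iv6 D114427) (iv3 F83544)
theorem F178626 : act 4 n114550 = n76780 := d10_1 D114550 (iv6 D76780) (iv4 F83546)
def n114551 : Q := act 6 n52876
theorem D114551 : act 6 n52876 = n114551 := rfl
theorem F178627 : act 4 n114551 = n59883 := d10_1 D114551 F94353 (iv4 F83547)
def n114552 : Q := act 0 n52877
theorem D114552 : act 0 n52877 = n114552 := rfl
def n114553 : Q := act 1 n52877
theorem D114553 : act 1 n52877 = n114553 := rfl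
def n114554 : Q := act 5 n52877
theorem D114554 : act 5 n52877 = n114554 := rfl
theorem F178628 : act 3 n114554 = n52892 := d6_1 D114554 (iv5 D52892) (iv3 F83548)
theorem F178629 : act 6 n114554 = n52879 := d12_2 D52877 D114554 (iv5 D52879) (iv6 D25666) D25665
def n114555 : Q := act 7 n52877
theorem D114555 : act 7 n52877 = n114555 := rfl
def n114556 : Q := act 5 n52878
theorem D114556 : act 5 n52878 = n114556 := rfl
theorem F178631 : act 3 n114556 = n93872 := d6_1 D114556 F144703 F83550
theorem F178632 : act 7 n114556 = n93869 := d13_2 (iv7 F83549) D114556 (iv5 D93869)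
theorem F178633 : act 0 n110746 = n114556 := d21_1 D110746 (iv5 D114556) (iv6 F144561) (iv1 F144562) (iv6 D49123) D49122 (iv1 F106613) F106610 (iv6 F171422) (iv1 D110745)
def n114557 : Q := act 0 n52879
theorem D114557 : act 0 n52879 = n114557 := rfl
def n114558 : Q := act 1 n52879
theorem D114558 : act 1 n52879 = n114558 := rfl
theorem F178634 : act 5 n114558 = n76300 := d17_7 (iv1 D24069) D24071 D49319 F77977 F77560 D52879 D114558 (iv0 F114392) (iv4 D49315)
theorem F178635 : act 3 n76302 = n114558 := d6_3 F178634 F114391 D76302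
def n114559 : Q := act 7 n52879
theorem D114559 : act 7 n52879 = n114559 := rfl
theorem F178636 : act 3 n114559 = n52898 := d8_1 D114559 (iv7 D52898) (iv3 F83551)
theorem F178637 : act 5 n114559 = n52880 := d13_1 D114559 (iv7 D52880) D52879
def n114560 : Q := act 0 n52881
theorem D114560 : act 0 n52881 = n114560 := rfl
def n114561 : Q := act 1 n52881
theorem D114561 : act 1 n52881 = n114561 := rfl
theorem F178638 : act 1 n114561 = n60045 := d15_1 D114561 (iv7 D60045) (iv2 F83555)
def n114562 : Q := act 5 n52881
theorem D114562 : act 5 n52881 = n114562 := rfl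
theorem F178639 : act 2 n114562 = n60044 := d2_1 D114562 (iv5 D60044) (iv2 F83555)
theorem F178640 : act 3 n114562 = n107927 := d6_1 D114562 F166787 F106829
theorem F178641 : act 6 n114562 = n52883 := d12_2 D52881 D114562 (iv5 D52883) (iv6 D25670) D25669
def n114563 : Q := act 7 n52881
theorem D114563 : act 7 n52881 = n114563 := rfl
theorem F178642 : act 2 n114563 = n60045 := d4_1 D114563 (iv7 D60045) (iv2 F83555)
theorem F178643 : act 4 n114563 = n75583 := d11_1 D114563 (iv7 D75583) (iv4 F83556)
theorem F178644 : act 1 n60045 = n114560 := d15_0 (iv0 D114560) D114563 F178642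
theorem F178645 : act 1 n60043 = n114563 := d15_1 D60043 (iv7 D114563) F83555
theorem F178646 : act 1 n114563 = n60042 := d15_0 (iv0 D60042) D60045 (iv2 F178642)
def n114564 : Q := act 0 n52883
theorem D114564 : act 0 n52883 = n114564 := rfl
theorem F178647 : act 5 n114564 = n74804 := d17_3 (iv1 F54275) D52883 D114564 F112260 (iv5 F120071) F120073 F77746 (iv0 F46899) (iv4 D29237)
theorem F178648 : act 4 n114564 = n107853 := d18_1 D114564 (iv1 F166607) F86786 F42476 (iv4 F42436) F78716 (iv4 F83557) (iv0 D52882) D52883
theorem F178649 : act 2 n60049 = n114564 := d15_3 (iv0 D114564) F83564 (iv7 F94571)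
theorem F178650 : act 1 n60052 = n114564 := d15_0 (iv0 D114564) (iv7 F83565) (iv2 F94579)
theorem F178651 : act 7 n114564 = n60050 := d15_2 F94582 F178650 (iv2 F94575)
theorem F178652 : act 3 n61696 = n114564 := d20_3 D26402 D54596 F96295 (iv1 F178650) F94580 (iv4 F94668) (iv1 F94669) (iv4 D34319) (iv3 F42155) (iv1 D26401)
def n114565 : Q := act 6 n52885
theorem D114565 : act 6 n52885 = n114565 := rfl
theorem F178653 : act 2 n114565 = n55262 := d3_1 D114565 (iv6 D55262) (iv2 F83573)
theorem F178654 : act 4 n114565 = n52886 := d10_1 D114565 (iv6 D52886) D52885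
def n114566 : Q := act 0 n52886
theorem D114566 : act 0 n52886 = n114566 := rfl
def n114567 : Q := act 1 n52886
theorem D114567 : act 1 n52886 = n114567 := rfl
theorem F178655 : act 1 n114567 = n55265 := d15_1 D114567 (iv7 D55265) (iv2 F83577)
def n114568 : Q := act 7 n52886
theorem D114568 : act 7 n52886 = n114568 := rfl
theorem F178656 : act 2 n114568 = n55265 := d4_1 D114568 (iv7 D55265) (iv2 F83577)
theorem F178657 : act 1 n55265 = n114566 := d15_0 (iv0 D114566) D114568 F178656
theorem F178658 : act 1 n55264 = n114568 := d15_1 D55264 (iv7 D114568) F83577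
theorem F178659 : act 1 n114568 = n55263 := d15_0 (iv0 D55263) D55265 (iv2 F178656)
def n114569 : Q := act 3 n52887
theorem D114569 : act 3 n52887 = n114569 := rfl
theorem F178660 : act 2 n114569 = n57575 := d0_1 D114569 F90734 F147904 F147900 F86698
theorem F178661 : act 4 n114569 = n57568 := d5_2 (iv4 F83578) D114569 F90724 (iv4 D52736) (iv3 F56617)
theorem F178662 : act 0 n114569 = n97227 := d19_4 D17395 D35931 (iv4 F83578) D114569 F149979 F129399 (iv3 F115010) F115013 (iv5 F85373) (iv4 D54092) F41517 (iv1 F20812) (iv5 D12491) (iv4 D5941) (iv3 F12594) (iv1 D5761) F3797 (iv4 F5697) (iv3 F12917)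
def n114570 : Q := act 6 n52887
theorem D114570 : act 6 n52887 = n114570 := rfl
theorem F178663 : act 4 n114570 = n78931 := d10_1 D114570 (iv6 D78931) (iv4 F83578)
def n114571 : Q := act 6 n52888
theorem D114571 : act 6 n52888 = n114571 := rfl
def n114576 : Q := act 2 n52890
theorem D114576 : act 2 n52890 = n114576 := rfl
theorem F178666 : act 7 n52891 = n114576 := d15_2 (iv0 D52890) D52891 (iv2 D114576)
def n114577 : Q := act 3 n52890
theorem D114577 : act 3 n52890 = n114577 := rfl
def n114578 : Q := act 4 n52890
theorem D114578 : act 4 n52890 = n114578 := rfl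
def n114579 : Q := act 5 n52890
theorem D114579 : act 5 n52890 = n114579 := rfl
def n114580 : Q := act 6 n52890
theorem D114580 : act 6 n52890 = n114580 := rfl
def n114581 : Q := act 7 n52890
theorem D114581 : act 7 n52890 = n114581 := rfl
theorem F178667 : act 2 n114581 = n52891 := d4_1 D114581 F178666 (iv2 D114576)
def n114586 : Q := act 0 n52892
theorem D114586 : act 0 n52892 = n114586 := rfl
def n114587 : Q := act 1 n52892
theorem D114587 : act 1 n52892 = n114587 := rfl
def n114588 : Q := act 4 n52892
theorem D114588 : act 4 n52892 = n114588 := rfl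
theorem F178668 : act 6 n114588 = n52897 := d10_2 (iv6 F83583) D114588 (iv4 D52897)
def n114589 : Q := act 7 n52892
theorem D114589 : act 7 n52892 = n114589 := rfl
def n114590 : Q := act 6 n52893
theorem D114590 : act 6 n52893 = n114590 := rfl
theorem F178670 : act 2 n114590 = n52913 := d3_1 D114590 (iv6 F178619) F178618
theorem F178671 : act 7 n114590 = n52894 := d14_2 D52893 D114590 (iv6 D52894) (iv7 D25675) D25674
theorem F178672 : act 1 n52911 = n114590 := d15_1 D52911 F178671 F83584
theorem F178673 : act 1 n114590 = n52910 := d15_0 (iv0 D52910) D52913 (iv2 F178670)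
def n114591 : Q := act 0 n52894
theorem D114591 : act 0 n52894 = n114591 := rfl
theorem F178674 : act 1 n52913 = n114591 := d15_0 (iv0 D114591) (iv7 F178671) F178670
def n114592 : Q := act 1 n52894
theorem D114592 : act 1 n52894 = n114592 := rfl
def n114593 : Q := act 5 n52894
theorem D114593 : act 5 n52894 = n114593 := rfl
theorem F178676 : act 2 n114593 = n52912 := d2_1 D114593 (iv5 D52912) (iv2 F83584)
theorem F178677 : act 6 n114593 = n52899 := d12_2 D52894 D114593 (iv5 D52899) (iv6 D25680) (iv5 F40597)
def n114594 : Q := act 4 n52895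
theorem D114594 : act 4 n52895 = n114594 := rfl
theorem F178678 : act 2 n114594 = n61514 := d1_1 D114594 (iv4 D61514) (iv2 F83585)
theorem F178679 : act 0 n114594 = n106498 := d18_2 F95769 D114594 (iv4 D106498) (iv5 D49213) F37550 (iv0 F26730) (iv4 F43272) F46653 D61287
def n114595 : Q := act 6 n52895
theorem D114595 : act 6 n52895 = n114595 := rfl
theorem F178680 : act 2 n114595 = n61515 := d3_1 D114595 (iv6 D61515) (iv2 F83585)
theorem F178681 : act 3 n114595 = n94226 := d7_1 D114595 F145277 F97928
theorem F178682 : act 5 n114595 = n94223 := d12_1 D114595 (iv6 D94223) (iv5 F83067) (iv6 F83071) D52895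
def n114596 : Q := act 4 n52896
theorem D114596 : act 4 n52896 = n114596 := rfl
theorem F178683 : act 2 n114596 = n61290 := d1_1 D114596 (iv4 D61290) F83587
theorem F178684 : act 0 n114596 = n106744 := d18_2 D52896 D114596 (iv4 D106744) F77992 F37984 F26676 (iv4 F54280) (iv0 D25676) D25678
theorem F178685 : act 1 n114596 = n54808 := d18_6 F54425 (iv4 D29641) (iv1 F23522) (iv4 F46654) (iv5 F83586) D114596 (iv4 D54808) (iv0 F56584) (iv5 D35915)
def n114597 : Q := act 6 n52896
theorem D114597 : act 6 n52896 = n114597 := rfl
theorem F178686 : act 2 n114597 = n61291 := d3_1 D114597 (iv6 D61291) F83587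
def n114598 : Q := act 0 n52897
theorem D114598 : act 0 n52897 = n114598 := rfl
theorem F178687 : act 4 n114598 = n78896 := d18_3 F50921 D52897 D114598 F120071 (iv4 F112260) F112263 F78770 (iv0 D29610) D29612
theorem F178688 : act 7 n78895 = n114598 := d11_0 F178687 (iv7 D78896) D78895
def n114599 : Q := act 3 n52897
theorem D114599 : act 3 n52897 = n114599 := rfl
def n114600 : Q := act 5 n52897
theorem D114600 : act 5 n52897 = n114600 := rfl
def n114601 : Q := act 7 n52897
theorem D114601 : act 7 n52897 = n114601 := rfl
theorem F178689 : act 4 n114601 = n52898 := d11_1 D114601 (iv7 D52898) D52897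
theorem F178690 : act 1 n78895 = n114601 := d15_1 F178624 (iv7 D114601) (iv2 F178623)
def n114602 : Q := act 6 n52898
theorem D114602 : act 6 n52898 = n114602 := rfl
def n114603 : Q := act 4 n52899
theorem D114603 : act 4 n52899 = n114603 := rfl
theorem F178691 : act 2 n114603 = n52916 := d1_1 D114603 (iv4 D52916) (iv2 F83590)
def n114604 : Q := act 3 n52900
theorem D114604 : act 3 n52900 = n114604 := rfl
theorem F178692 : act 4 n114604 = n52907 := d5_2 D52900 D114604 (iv3 D52907) (iv4 D25685) (iv3 F40601)
theorem F178693 : act 4 n70308 = n86323 := d20_8 F112845 F58668 F55927 (iv3 F56582) (iv1 F83592) D114604 F178692 (iv1 F106768) F132300 (iv1 F112848)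
theorem F178694 : act 5 n70547 = n70308 := d19_1 (iv1 F107413) F178693 F132300 (iv1 F112848) (iv5 D75268) (iv4 D34460) F27409 F21510 (iv5 D8573) (iv4 D3846) (iv3 D1674) (iv1 D890) D892 D1683 D3882 D8650 D18363 D38551 (iv3 F107408)
def n114605 : Q := act 6 n52900
theorem D114605 : act 6 n52900 = n114605 := rfl
theorem F178695 : act 4 n114605 = n52901 := d10_1 D114605 (iv6 D52901) D52900
def n114606 : Q := act 0 n52901
theorem D114606 : act 0 n52901 = n114606 := rfl
def n114607 : Q := act 1 n52901
theorem D114607 : act 1 n52901 = n114607 := rfl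
def n114608 : Q := act 5 n52901
theorem D114608 : act 5 n52901 = n114608 := rfl
theorem F178696 : act 3 n114608 = n52912 := d6_1 D114608 (iv5 D52912) (iv3 F83593)
theorem F178697 : act 6 n114608 = n52902 := d12_2 D52901 D114608 (iv5 D52902) (iv6 D25682) D25681
def n114609 : Q := act 7 n52901
theorem D114609 : act 7 n52901 = n114609 := rfl
theorem F178698 : act 3 n114609 = n52913 := d8_1 D114609 (iv7 D52913) (iv3 F83593)
def n114610 : Q := act 0 n52902
theorem D114610 : act 0 n52902 = n114610 := rfl
theorem F178699 : act 5 n114610 = n72103 := d17_3 (iv1 F50919) D52902 D114610 (iv4 D72103) (iv5 D33291) (iv0 D16078) (iv5 D7509) D7508 D16075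
theorem F178700 : act 1 n52974 = n114610 := d15_0 (iv0 D114610) (iv7 F177183) F177181
theorem F178701 : act 3 n53082 = n114610 := d6_3 F178699 F108558 (iv5 F83782)
theorem F178702 : act 7 n76490 = n114610 := d13_0 F178699 F108560 D76490
theorem F178703 : act 4 n71953 = n114610 := d18_3 (iv1 D33243) D33244 D71953 F178699 (iv4 D72103) (iv0 F52517) (iv4 F54429) (iv0 F104115) F104117
def n114611 : Q := act 1 n52902
theorem D114611 : act 1 n52902 = n114611 := rfl
theorem F178704 : act 1 n114611 = n52974 := d15_1 D114611 (iv7 F162629) F162628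
theorem F178705 : act 5 n72111 = n114611 := d21_0 (iv1 D114611) (iv5 D52902) (iv6 D25682) F37279 (iv6 F26972) D32009 D68812 F105005 D69688 F108571
theorem F178706 : act 2 n114611 = n76490 := d2_1 F178705 (iv5 D76490) (iv2 F108568)
theorem F178707 : act 3 n114611 = n76425 := d6_1 F178705 (iv5 D76425) (iv3 F108569)
theorem F178708 : act 4 n114611 = n71954 := d20_6 (iv4 F83507) (iv1 F83516) F83513 (iv3 F86495) (iv1 F114574) (iv3 F178707) (iv1 D71954) (iv4 D33244) F25581 D28496
def n114612 : Q := act 4 n52902
theorem D114612 : act 4 n52902 = n114612 := rfl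
def n114613 : Q := act 0 n52903
theorem D114613 : act 0 n52903 = n114613 := rfl
def n114614 : Q := act 1 n52903
theorem D114614 : act 1 n52903 = n114614 := rfl
def n114615 : Q := act 5 n52903
theorem D114615 : act 5 n52903 = n114615 := rfl
theorem F178709 : act 3 n114615 = n60101 := d6_1 D114615 (iv5 D60101) (iv3 F83595)
theorem F178710 : act 6 n114615 = n52905 := d12_2 D52903 D114615 (iv5 D52905) (iv6 D25684) D25683
def n114616 : Q := act 7 n52903
theorem D114616 : act 7 n52903 = n114616 := rfl
theorem F178711 : act 3 n114616 = n60098 := d8_1 D114616 F94649 (iv3 F83595)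
theorem F178712 : act 4 n114616 = n75589 := d11_1 D114616 (iv7 D75589) (iv4 F83596)
theorem F178713 : act 6 n114616 = n60045 := d14_1 D114616 (iv7 D60045) (iv6 D28516) (iv7 F40604) D52903
def n114617 : Q := act 5 n52904
theorem D114617 : act 5 n52904 = n114617 := rfl
theorem F178714 : act 2 n114617 = n54464 := d2_1 D114617 (iv5 D54464) (iv2 F83600)
theorem F178715 : act 7 n114617 = n70580 := d13_2 (iv7 F83598) D114617 (iv5 D70580)
theorem F178716 : act 1 n70583 = n114617 := d15_1 D70583 F178715 F107045
theorem F178717 : act 1 n114617 = n70582 := d15_0 (iv0 D70582) (iv7 F86006) (iv2 F178714)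
theorem F178718 : act 7 n70582 = n76257 := d15_2 F178716 F178717 F114295
theorem F178719 : act 3 n76244 = n70582 := d8_3 F178718 (iv3 D76257) F114259
def n114618 : Q := act 1 n52905
theorem D114618 : act 1 n52905 = n114618 := rfl
theorem F178720 : act 1 n114618 = n70581 := d15_1 D114618 (iv7 F114281) F114279
theorem F178721 : act 2 n54470 = n114618 := d15_3 F178720 (iv0 F115249) F104142
def n114619 : Q := act 4 n52905
theorem D114619 : act 4 n52905 = n114619 := rfl
theorem F178722 : act 2 n114619 = n72229 := d1_1 D114619 (iv4 F114282) F114279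
theorem F178723 : act 1 n114619 = n54886 := d18_6 (iv1 F42073) (iv4 F50904) (iv1 D25688) (iv4 F40608) D52905 D114619 (iv4 D54886) (iv0 F86143) (iv5 D54527)
theorem F178724 : act 0 n114619 = n54747 := d20_7 (iv4 F25616) (iv1 F25618) (iv4 D15866) D15865 (iv1 F54146) (iv3 F83602) D114619 (iv4 D54747) (iv3 D26475) (iv1 F21040)
theorem F178725 : act 7 n72230 = n114619 := d15_2 (iv0 D72229) D72230 F178722
def n114620 : Q := act 7 n52905
theorem D114620 : act 7 n52905 = n114620 := rfl
theorem F178726 : act 2 n114620 = n70581 := d4_1 D114620 (iv7 F114281) F114279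
theorem F178727 : act 3 n114620 = n54487 := d8_1 D114620 F86047 (iv3 F83602)
theorem F178728 : act 4 n114620 = n72230 := d11_1 D114620 F178725 (iv4 D114619)
theorem F178729 : act 5 n114620 = n52906 := d13_1 D114620 (iv7 D52906) D52905
theorem F178730 : act 1 n54470 = n114620 := d15_1 (iv0 F114283) (iv7 D114620) (iv2 F114279)
def n114621 : Q := act 6 n52907
theorem D114621 : act 6 n52907 = n114621 := rfl
def n114622 : Q := act 6 n52908
theorem D114622 : act 6 n52908 = n114622 := rfl
theorem F178732 : act 2 n114622 = n83674 := d3_1 D114622 (iv6 D83674) (iv2 F83609)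
theorem F178733 : act 4 n114622 = n54971 := d10_1 D114622 (iv6 D54971) (iv4 F83610)
def n114623 : Q := act 0 n52909
theorem D114623 : act 0 n52909 = n114623 := rfl
def n114624 : Q := act 1 n52909
theorem D114624 : act 1 n52909 = n114624 := rfl
def n114625 : Q := act 5 n52909
theorem D114625 : act 5 n52909 = n114625 := rfl
def n114626 : Q := act 7 n52909
theorem D114626 : act 7 n52909 = n114626 := rfl
theorem F178734 : act 4 n114626 = n52913 := d11_1 D114626 (iv7 D52913) (iv4 F83612)
def n114629 : Q := act 4 n52910
theorem D114629 : act 4 n52910 = n114629 := rfl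
def n114631 : Q := act 6 n52910
theorem D114631 : act 6 n52910 = n114631 := rfl
def n114633 : Q := act 3 n52911
theorem D114633 : act 3 n52911 = n114633 := rfl
def n114634 : Q := act 4 n52911
theorem D114634 : act 4 n52911 = n114634 := rfl
def n114635 : Q := act 5 n52911
theorem D114635 : act 5 n52911 = n114635 := rfl
def n114636 : Q := act 6 n52911
theorem D114636 : act 6 n52911 = n114636 := rfl
def n114637 : Q := act 0 n52912
theorem D114637 : act 0 n52912 = n114637 := rfl
def n114638 : Q := act 1 n52912
theorem D114638 : act 1 n52912 = n114638 := rfl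
def n114639 : Q := act 4 n52912
theorem D114639 : act 4 n52912 = n114639 := rfl
theorem F178737 : act 6 n114639 = n52916 := d10_2 (iv6 F83613) D114639 (iv4 D52916)
def n114640 : Q := act 7 n52912
theorem D114640 : act 7 n52912 = n114640 := rfl
theorem F178738 : act 5 n114640 = n52913 := d13_1 D114640 (iv7 D52913) D52912
def n114641 : Q := act 4 n52914
theorem D114641 : act 4 n52914 = n114641 := rfl
theorem F178739 : act 2 n114641 = n71276 := d1_1 D114641 (iv4 D71276) (iv2 F83614)
theorem F178740 : act 7 n114641 = n71812 := d11_2 (iv7 F83615) D114641 (iv4 D71812)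
def n114642 : Q := act 6 n52914
theorem D114642 : act 6 n52914 = n114642 := rfl
theorem F178741 : act 2 n114642 = n71277 := d3_1 D114642 (iv6 D71277) (iv2 F83614)
theorem F178742 : act 5 n114642 = n68825 := d12_1 D114642 (iv6 D68825) (iv5 D32013) (iv6 F50905) D52914
def n114643 : Q := act 4 n52915
theorem D114643 : act 4 n52915 = n114643 := rfl
theorem F178743 : act 0 n114643 = n54862 := d18_2 F178386 D114643 (iv4 D54862) (iv5 D26540) F21085 D12681 (iv4 F50904) F83380 D114373
def n114644 : Q := act 6 n52915
theorem D114644 : act 6 n52915 = n114644 := rfl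
theorem F178744 : act 3 n114644 = n92772 := d7_1 D114644 F143086 F110760
theorem F178745 : act 5 n114644 = n92767 := d12_1 D114644 (iv6 D92767) F68205 D55618 F87982
def n114645 : Q := act 0 n52916
theorem D114645 : act 0 n52916 = n114645 := rfl
def n114646 : Q := act 1 n52916
theorem D114646 : act 1 n52916 = n114646 := rfl
theorem F178746 : act 4 n114646 = n114286 := d18_7 (iv1 F82877) F83599 (iv1 D52904) F40608 D25689 D52916 D114646 (iv0 F178138) (iv5 D53097)
def n114647 : Q := act 3 n52916
theorem D114647 : act 3 n52916 = n114647 := rfl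
def n114648 : Q := act 5 n52916
theorem D114648 : act 5 n52916 = n114648 := rfl
def n114649 : Q := act 7 n52916
theorem D114649 : act 7 n52916 = n114649 := rfl
theorem F178747 : act 4 n114649 = n52917 := d11_1 D114649 (iv7 D52917) D52916
def n114650 : Q := act 6 n52917
theorem D114650 : act 6 n52917 = n114650 := rfl
def n114651 : Q := act 6 n52918
theorem D114651 : act 6 n52918 = n114651 := rfl
theorem F178748 : act 2 n114651 = n71778 := d3_1 D114651 (iv6 D71778) (iv2 F83619)
theorem F178749 : act 3 n114651 = n52920 := d7_1 D114651 (iv6 D52920) D52918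
def n114652 : Q := act 6 n52919
theorem D114652 : act 6 n52919 = n114652 := rfl
theorem F178751 : act 4 n114652 = n52920 := d10_1 D114652 (iv6 D52920) D52919
def n114653 : Q := act 0 n52920
theorem D114653 : act 0 n52920 = n114653 := rfl
def n114654 : Q := act 1 n52920
theorem D114654 : act 1 n52920 = n114654 := rfl
theorem F178752 : act 1 n114654 = n52936 := d15_1 D114654 (iv7 D52936) (iv2 F83625)
def n114655 : Q := act 5 n52920
theorem D114655 : act 5 n52920 = n114655 := rfl
theorem F178753 : act 2 n114655 = n52935 := d2_1 D114655 (iv5 D52935) (iv2 F83625)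
theorem F178754 : act 6 n114655 = n69679 := d12_2 D52920 D114655 (iv5 D69679) (iv6 D32341) (iv5 F40610)
theorem F178755 : act 4 n86947 = n114655 := d10_3 F178754 F106031 D86947
def n114656 : Q := act 7 n52920
theorem D114656 : act 7 n52920 = n114656 := rfl
theorem F178756 : act 2 n114656 = n52936 := d4_1 D114656 (iv7 D52936) (iv2 F83625)
theorem F178757 : act 6 n114656 = n52945 := d14_1 D114656 (iv7 D52945) (iv6 D25702) (iv7 F42886) D52920
theorem F178760 : act 1 n114656 = n52933 := d15_0 (iv0 D52933) D52936 (iv2 F178756)
def n114657 : Q := act 0 n52921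
theorem D114657 : act 0 n52921 = n114657 := rfl
def n114658 : Q := act 1 n52921
theorem D114658 : act 1 n52921 = n114658 := rfl
theorem F178761 : act 1 n114658 = n52945 := d15_1 D114658 (iv7 D52945) (iv2 F83626)
def n114659 : Q := act 5 n52921
theorem D114659 : act 5 n52921 = n114659 := rfl
theorem F178762 : act 2 n114659 = n52939 := d2_1 D114659 F83660 (iv2 F83626)
theorem F178763 : act 6 n114659 = n52937 := d12_2 D52921 D114659 F83653 F50915 (iv5 F40612)
def n114660 : Q := act 7 n52921
theorem D114660 : act 7 n52921 = n114660 := rfl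
theorem F178764 : act 2 n114660 = n52945 := d4_1 D114660 (iv7 D52945) (iv2 F83626)
theorem F178766 : act 1 n52945 = n114657 := d15_0 (iv0 D114657) D114660 F178764
theorem F178767 : act 1 n52944 = n114660 := d15_1 D52944 (iv7 D114660) F83626
theorem F178768 : act 1 n114660 = n52943 := d15_0 (iv0 D52943) D52945 (iv2 F178764)
def n114661 : Q := act 6 n52922
theorem D114661 : act 6 n52922 = n114661 := rfl
theorem F178769 : act 2 n114661 = n52948 := d3_1 D114661 (iv6 D52948) F83631
theorem F178770 : act 4 n114661 = n69729 := d10_1 D114661 (iv6 D69729) (iv4 F83630)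
def n114662 : Q := act 6 n52923
theorem D114662 : act 6 n52923 = n114662 := rfl
def n114663 : Q := act 0 n52924
theorem D114663 : act 0 n52924 = n114663 := rfl
theorem F178772 : act 4 n114663 = n106140 := d20_2 (iv4 F83635) D114663 (iv3 D106140) (iv1 F120168) (iv3 F163383) F163384 (iv1 F92176) D72934 (iv3 F177663) (iv1 D52926)
theorem F178773 : act 0 n114663 = n52957 := d20_7 F177795 (iv1 D34843) F27674 (iv3 F37363) D49058 D106140 (iv4 F178772) F83688 F40629 (iv1 F37056)
def n114664 : Q := act 1 n52924
theorem D114664 : act 1 n52924 = n114664 := rfl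
theorem F178774 : act 1 n114664 = n52957 := d15_1 D114664 (iv7 D52957) (iv2 F83634)
def n114665 : Q := act 5 n52924
theorem D114665 : act 5 n52924 = n114665 := rfl
theorem F178775 : act 2 n114665 = n52956 := d2_1 D114665 (iv5 D52956) (iv2 F83634)
theorem F178776 : act 6 n114665 = n83684 := d12_2 D52924 D114665 (iv5 D83684) (iv6 D38577) (iv5 F40614)
def n114666 : Q := act 7 n52924
theorem D114666 : act 7 n52924 = n114666 := rfl
theorem F178777 : act 2 n114666 = n52957 := d4_1 D114666 (iv7 D52957) (iv2 F83634)
theorem F178778 : act 4 n114666 = n52927 := d11_1 D114666 (iv7 D52927) (iv4 F83635)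
theorem F178779 : act 1 n52955 = n114666 := d15_1 D52955 (iv7 D114666) F83634
theorem F178780 : act 1 n114666 = n52954 := d15_0 (iv0 D52954) D52957 (iv2 F178777)
def n114667 : Q := act 3 n52925
theorem D114667 : act 3 n52925 = n114667 := rfl
theorem F178781 : act 7 n114667 = n52965 := d8_2 (iv7 F177850) D114667 (iv3 D52965)
def n114669 : Q := act 5 n52925
theorem D114669 : act 5 n52925 = n114669 := rfl
theorem F178784 : act 2 n114669 = n52962 := d2_1 D114669 (iv5 D52962) (iv2 F177849)
theorem F178785 : act 7 n114669 = n52967 := d13_2 (iv7 F177850) D114669 (iv5 D52967)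
def n114670 : Q := act 6 n52925
theorem D114670 : act 6 n52925 = n114670 := rfl
theorem F178786 : act 2 n114670 = n52963 := d3_1 D114670 (iv6 D52963) (iv2 F177849)
theorem F178787 : act 5 n114670 = n110767 := d21_6 F40597 F37265 D12206 D25694 D52925 D114670 (iv1 D110767) F80529 (iv6 D26707) (iv1 F40599)
def n114671 : Q := act 4 n52926
theorem D114671 : act 4 n52926 = n114671 := rfl
theorem F178788 : act 2 n114671 = n52966 := d1_1 D114671 (iv4 D52966) (iv2 F177847)
theorem F178789 : act 7 n114671 = n52961 := d11_2 (iv7 F177848) D114671 (iv4 D52961)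
def n114672 : Q := act 5 n52926
theorem D114672 : act 5 n52926 = n114672 := rfl
theorem F178790 : act 2 n114672 = n52967 := d2_1 D114672 (iv5 D52967) (iv2 F177847)
theorem F178791 : act 7 n114672 = n52962 := d13_2 (iv7 F177848) D114672 (iv5 D52962)
def n114674 : Q := act 0 n52929
theorem D114674 : act 0 n52929 = n114674 := rfl
def n114675 : Q := act 1 n52929
theorem D114675 : act 1 n52929 = n114675 := rfl
def n114676 : Q := act 7 n52929
theorem D114676 : act 7 n52929 = n114676 := rfl
theorem F178793 : act 3 n114676 = n52936 := d8_1 D114676 (iv7 D52936) (iv3 F83644)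
theorem F178794 : act 5 n114676 = n94129 := d13_1 D114676 (iv7 D94129) (iv5 F83645)
def n114677 : Q := act 3 n52930
theorem D114677 : act 3 n52930 = n114677 := rfl
theorem F178795 : act 4 n114677 = n114121 := d5_2 (iv4 F83646) D114677 (iv3 D114121) (iv4 D52681) D52680
theorem F178796 : act 0 n114677 = n103688 := d19_4 (iv1 F40502) (iv5 F83253) (iv4 F83646) D114677 F159131 F148597 (iv3 F115061) F106652 F74071 F55668 F27874 (iv1 F21308) F21310 F10694 (iv3 F10692) F10889 (iv5 F18686) (iv4 F26785) (iv3 F26617)
def n114678 : Q := act 6 n52930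
theorem D114678 : act 6 n52930 = n114678 := rfl
theorem F178797 : act 4 n114678 = n114120 := d10_1 D114678 (iv6 D114120) (iv4 F83646)
def n114679 : Q := act 6 n52931
theorem D114679 : act 6 n52931 = n114679 := rfl
theorem F178798 : act 4 n114679 = n70595 := d10_1 D114679 (iv6 D70595) (iv4 F83649)
def n114680 : Q := act 0 n52932
theorem D114680 : act 0 n52932 = n114680 := rfl
def n114681 : Q := act 1 n52932
theorem D114681 : act 1 n52932 = n114681 := rfl
def n114682 : Q := act 5 n52932
theorem D114682 : act 5 n52932 = n114682 := rfl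
def n114683 : Q := act 7 n52932
theorem D114683 : act 7 n52932 = n114683 := rfl
def n114684 : Q := act 2 n52933
theorem D114684 : act 2 n52933 = n114684 := rfl
def n114685 : Q := act 3 n52933
theorem D114685 : act 3 n52933 = n114685 := rfl
def n114686 : Q := act 4 n52933
theorem D114686 : act 4 n52933 = n114686 := rfl
def n114687 : Q := act 5 n52933
theorem D114687 : act 5 n52933 = n114687 := rfl
def n114688 : Q := act 6 n52933
theorem D114688 : act 6 n52933 = n114688 := rfl
def n114689 : Q := act 7 n52933
theorem D114689 : act 7 n52933 = n114689 := rfl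
def n114692 : Q := act 5 n52934
theorem D114692 : act 5 n52934 = n114692 := rfl
def n114694 : Q := act 0 n52935
theorem D114694 : act 0 n52935 = n114694 := rfl
def n114695 : Q := act 1 n52935
theorem D114695 : act 1 n52935 = n114695 := rfl
theorem F178802 : act 5 n114631 = n114695 := d21_6 (iv5 D25658) (iv1 F20196) D12202 D25686 D52910 D114631 (iv1 D114695) (iv5 D52935) (iv6 D25698) (iv1 F40555)
def n114696 : Q := act 7 n52935
theorem D114696 : act 7 n52935 = n114696 := rfl
theorem F178803 : act 3 n114696 = n94129 := d8_1 D114696 (iv7 D94129) (iv3 F83651)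
theorem F178804 : act 5 n114696 = n52936 := d13_1 D114696 (iv7 D52936) D52935
def n114697 : Q := act 3 n52938
theorem D114697 : act 3 n52938 = n114697 := rfl
theorem F178805 : act 4 n114697 = n52940 := d5_2 D52938 D114697 (iv3 D52940) (iv4 D25701) D25700
def n114698 : Q := act 6 n52938
theorem D114698 : act 6 n52938 = n114698 := rfl
theorem F178806 : act 4 n114698 = n52939 := d10_1 D114698 (iv6 D52939) D52938
def n114699 : Q := act 0 n52939
theorem D114699 : act 0 n52939 = n114699 := rfl
def n114700 : Q := act 1 n52939
theorem D114700 : act 1 n52939 = n114700 := rfl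
theorem F178807 : act 5 n114580 = n114700 := d21_6 (iv5 D5784) D5781 D12197 D25674 D52890 D114580 (iv1 D114700) F83660 (iv6 D25702) (iv1 D12208)
def n114701 : Q := act 7 n52939
theorem D114701 : act 7 n52939 = n114701 := rfl
theorem F178808 : act 3 n114701 = n52945 := d8_1 D114701 (iv7 D52945) (iv3 F83659)
theorem F178809 : act 5 n114701 = n52945 := d13_1 D114701 (iv7 D52945) (iv5 F83660)
def n114702 : Q := act 6 n52940
theorem D114702 : act 6 n52940 = n114702 := rfl
theorem F178810 : act 3 n114702 = n52942 := d7_1 D114702 (iv6 D52942) D52940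
def n114703 : Q := act 6 n52941
theorem D114703 : act 6 n52941 = n114703 := rfl
theorem F178812 : act 4 n114703 = n54955 := d10_1 D114703 (iv6 D54955) (iv4 F83662)
def n114704 : Q := act 0 n52942
theorem D114704 : act 0 n52942 = n114704 := rfl
def n114705 : Q := act 1 n52942
theorem D114705 : act 1 n52942 = n114705 := rfl
def n114706 : Q := act 5 n52942
theorem D114706 : act 5 n52942 = n114706 := rfl
def n114707 : Q := act 7 n52942
theorem D114707 : act 7 n52942 = n114707 := rfl
theorem F178813 : act 4 n114707 = n52945 := d11_1 D114707 (iv7 D52945) (iv4 F83664)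
def n114708 : Q := act 2 n52943
theorem D114708 : act 2 n52943 = n114708 := rfl
theorem F178814 : act 7 n52944 = n114708 := d15_2 (iv0 D52943) D52944 (iv2 D114708)
def n114709 : Q := act 3 n52943
theorem D114709 : act 3 n52943 = n114709 := rfl
def n114710 : Q := act 4 n52943
theorem D114710 : act 4 n52943 = n114710 := rfl
def n114711 : Q := act 5 n52943
theorem D114711 : act 5 n52943 = n114711 := rfl
def n114712 : Q := act 6 n52943
theorem D114712 : act 6 n52943 = n114712 := rfl
def n114713 : Q := act 7 n52943
theorem D114713 : act 7 n52943 = n114713 := rfl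
theorem F178815 : act 2 n114713 = n52944 := d4_1 D114713 F178814 (iv2 D114708)
def n114714 : Q := act 3 n52944
theorem D114714 : act 3 n52944 = n114714 := rfl
def n114715 : Q := act 4 n52944
theorem D114715 : act 4 n52944 = n114715 := rfl
def n114716 : Q := act 5 n52944
theorem D114716 : act 5 n52944 = n114716 := rfl
def n114717 : Q := act 6 n52944
theorem D114717 : act 6 n52944 = n114717 := rfl
def n114718 : Q := act 4 n52946
theorem D114718 : act 4 n52946 = n114718 := rfl
theorem F178817 : act 3 n114718 = n90248 := d5_1 D114718 (iv4 D90248) F65114 F42847 D52946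
theorem F178818 : act 5 n114718 = n78063 := d9_2 (iv5 F83666) D114718 F127146 (iv5 D82496) (iv4 F125497) (iv5 D81600) F58245 D37299 D81616 F125530 (iv4 F119259) F116266 D82494 (iv5 F132393) F132392
theorem F178819 : act 0 n114718 = n114059 := d17_0 F177566 F123603 (iv5 F148961) (iv4 D96658) (iv5 D45139) (iv0 F43653) (iv5 F88023) F88025 D114718
theorem F178820 : act 1 n114718 = n78068 := d15_1 (iv0 F178819) F119264 (iv2 F177565)
theorem F178821 : act 6 n90259 = n114718 := d7_0 F178817 F138811 D90259
def n114719 : Q := act 6 n52946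
theorem D114719 : act 6 n52946 = n114719 := rfl
theorem F178823 : act 3 n114719 = n52947 := d7_1 D114719 (iv6 D52947) D52946
theorem F178824 : act 4 n114719 = n90259 := d10_1 D114719 F178821 (iv4 D114718)
def n114720 : Q := act 0 n52947
theorem D114720 : act 0 n52947 = n114720 := rfl
def n114721 : Q := act 5 n52947
theorem D114721 : act 5 n52947 = n114721 := rfl
def n114722 : Q := act 7 n52947
theorem D114722 : act 7 n52947 = n114722 := rfl
theorem F178825 : act 4 n114722 = n90247 := d11_1 D114722 (iv7 D90247) (iv4 F83667)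
def n114723 : Q := act 0 n52948
theorem D114723 : act 0 n52948 = n114723 := rfl
def n114724 : Q := act 1 n52948
theorem D114724 : act 1 n52948 = n114724 := rfl
def n114725 : Q := act 5 n52948
theorem D114725 : act 5 n52948 = n114725 := rfl
theorem F178827 : act 6 n114725 = n96685 := d12_2 D52948 D114725 (iv5 D96685) (iv6 D45165) (iv5 F40620)
def n114726 : Q := act 7 n52948
theorem D114726 : act 7 n52948 = n114726 := rfl
theorem F178828 : act 3 n114726 = n96690 := d8_1 D114726 (iv7 D96690) (iv3 F83668)
theorem F178829 : act 4 n114726 = n78930 := d11_1 D114726 (iv7 D78930) (iv4 F83669)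
def n114727 : Q := act 6 n52949
theorem D114727 : act 6 n52949 = n114727 := rfl
theorem F178830 : act 2 n114727 = n70227 := d3_1 D114727 (iv6 D70227) F83671
theorem F178831 : act 4 n114727 = n76527 := d10_1 D114727 (iv6 D76527) (iv4 F83670)
def n114728 : Q := act 6 n52950
theorem D114728 : act 6 n52950 = n114728 := rfl
theorem F178833 : act 4 n114728 = n53005 := d10_1 D114728 (iv6 D53005) (iv4 F83674)
def n114729 : Q := act 6 n52951
theorem D114729 : act 6 n52951 = n114729 := rfl
theorem F178835 : act 3 n114729 = n52953 := d7_1 D114729 (iv6 D52953) (iv3 F83680)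
def n114731 : Q := act 1 n52952
theorem D114731 : act 1 n52952 = n114731 := rfl
def n114733 : Q := act 7 n52952
theorem D114733 : act 7 n52952 = n114733 := rfl
theorem F178838 : act 3 n114733 = n52957 := d8_1 D114733 (iv7 D52957) (iv3 F83684)
theorem F178839 : act 4 n114733 = n53009 := d11_1 D114733 (iv7 D53009) (iv4 F83685)
theorem F178840 : act 6 n114733 = n105438 := d14_1 D114733 (iv7 D105438) (iv6 D48755) F40622 D52952
def n114734 : Q := act 0 n52953
theorem D114734 : act 0 n52953 = n114734 := rfl
def n114735 : Q := act 1 n52953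
theorem D114735 : act 1 n52953 = n114735 := rfl
theorem F178841 : act 1 n114735 = n83685 := d15_1 D114735 (iv7 D83685) (iv2 F83686)
def n114736 : Q := act 5 n52953
theorem D114736 : act 5 n52953 = n114736 := rfl
theorem F178842 : act 2 n114736 = n83684 := d2_1 D114736 (iv5 D83684) (iv2 F83686)
theorem F178843 : act 6 n114736 = n52956 := d12_2 D52953 D114736 (iv5 D52956) (iv6 D25707) D25706
def n114737 : Q := act 7 n52953
theorem D114737 : act 7 n52953 = n114737 := rfl
theorem F178844 : act 2 n114737 = n83685 := d4_1 D114737 (iv7 D83685) (iv2 F83686)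
theorem F178845 : act 4 n114737 = n83650 := d11_1 D114737 (iv7 D83650) (iv4 F83687)
theorem F178846 : act 1 n83685 = n114734 := d15_0 (iv0 D114734) D114737 F178844
theorem F178847 : act 1 n83683 = n114737 := d15_1 D83683 (iv7 D114737) F83686
theorem F178848 : act 1 n114737 = n83682 := d15_0 (iv0 D83682) D83685 (iv2 F178844)
def n114738 : Q := act 2 n52954
theorem D114738 : act 2 n52954 = n114738 := rfl
theorem F178849 : act 7 n52955 = n114738 := d15_2 (iv0 D52954) D52955 (iv2 D114738)
def n114739 : Q := act 3 n52954
theorem D114739 : act 3 n52954 = n114739 := rfl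
def n114740 : Q := act 4 n52954
theorem D114740 : act 4 n52954 = n114740 := rfl
def n114741 : Q := act 5 n52954
theorem D114741 : act 5 n52954 = n114741 := rfl
def n114742 : Q := act 6 n52954
theorem D114742 : act 6 n52954 = n114742 := rfl
def n114743 : Q := act 7 n52954
theorem D114743 : act 7 n52954 = n114743 := rfl
theorem F178850 : act 2 n114743 = n52955 := d4_1 D114743 F178849 (iv2 D114738)
def n114744 : Q := act 3 n52955
theorem D114744 : act 3 n52955 = n114744 := rfl
def n114745 : Q := act 4 n52955
theorem D114745 : act 4 n52955 = n114745 := rfl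
theorem F178851 : act 3 n114745 = n78988 := d20_3 (iv4 F178778) (iv1 F178779) D114745 (iv1 D78988) (iv3 F77588) F77589 D58307 (iv4 F177844) (iv3 D52960) (iv1 F83640)
def n114746 : Q := act 5 n52955
theorem D114746 : act 5 n52955 = n114746 := rfl
def n114747 : Q := act 6 n52955
theorem D114747 : act 6 n52955 = n114747 := rfl
def n114748 : Q := act 0 n52956
theorem D114748 : act 0 n52956 = n114748 := rfl
def n114749 : Q := act 1 n52956
theorem D114749 : act 1 n52956 = n114749 := rfl
def n114750 : Q := act 4 n52956
theorem D114750 : act 4 n52956 = n114750 := rfl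
def n114751 : Q := act 7 n52956
theorem D114751 : act 7 n52956 = n114751 := rfl
theorem F178852 : act 5 n114751 = n52957 := d13_1 D114751 (iv7 D52957) D52956
def n114752 : Q := act 6 n52957
theorem D114752 : act 6 n52957 = n114752 := rfl
theorem F178853 : act 3 n114752 = n105438 := d7_1 D114752 (iv6 F178840) F178838
theorem F178854 : act 4 n114752 = n52969 := d10_1 D114752 (iv6 D52969) (iv4 F83688)
theorem F178855 : act 7 n114752 = n52958 := d14_2 D52957 D114752 (iv6 D52958) (iv7 D25708) D25707
def n114753 : Q := act 0 n52958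
theorem D114753 : act 0 n52958 = n114753 := rfl
def n114754 : Q := act 1 n52958
theorem D114754 : act 1 n52958 = n114754 := rfl
def n114755 : Q := act 5 n52958
theorem D114755 : act 5 n52958 = n114755 := rfl
theorem F178856 : act 3 n114755 = n105437 := d6_1 D114755 (iv5 D105437) (iv3 F83689)
def n114756 : Q := act 0 n52960
theorem D114756 : act 0 n52960 = n114756 := rfl
def n114757 : Q := act 1 n52960
theorem D114757 : act 1 n52960 = n114757 := rfl
def n114758 : Q := act 5 n52960
theorem D114758 : act 5 n52960 = n114758 := rfl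
theorem F178857 : act 3 n114758 = n52962 := d6_1 D114758 (iv5 D52962) D52960
def n114759 : Q := act 6 n52960
theorem D114759 : act 6 n52960 = n114759 := rfl
theorem F178858 : act 3 n114759 = n52963 := d7_1 D114759 (iv6 D52963) D52960
def n114762 : Q := act 3 n52961
theorem D114762 : act 3 n52961 = n114762 := rfl
def n114764 : Q := act 6 n52961
theorem D114764 : act 6 n52961 = n114764 := rfl
theorem F178861 : act 4 n114764 = n52963 := d10_1 D114764 (iv6 D52963) D52961
def n114765 : Q := act 0 n52962
theorem D114765 : act 0 n52962 = n114765 := rfl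
theorem F178862 : act 5 n114765 = n114636 := d21_2 D52962 D114765 (iv6 D114636) (iv1 D52911) (iv6 D25686) (iv5 D12202) (iv1 D5782) D5784 D12210 D25709
theorem F178863 : act 1 n52967 = n114765 := d15_0 (iv0 D114765) (iv7 F178791) F178790
def n114766 : Q := act 1 n52962
theorem D114766 : act 1 n52962 = n114766 := rfl
theorem F178864 : act 1 n114766 = n52967 := d15_1 D114766 (iv7 F178785) F178784
def n114767 : Q := act 4 n52962
theorem D114767 : act 4 n52962 = n114767 := rfl
def n114768 : Q := act 6 n52962
theorem D114768 : act 6 n52962 = n114768 := rfl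
def n114769 : Q := act 0 n52963
theorem D114769 : act 0 n52963 = n114769 := rfl
def n114770 : Q := act 1 n52963
theorem D114770 : act 1 n52963 = n114770 := rfl
def n114771 : Q := act 5 n52963
theorem D114771 : act 5 n52963 = n114771 := rfl
theorem F178865 : act 2 n114771 = n110767 := d2_1 D114771 (iv5 F178787) F178786
theorem F178866 : act 0 n114771 = n110755 := d21_7 (iv5 D12202) (iv1 D5782) D5784 D12210 D25709 D52963 D114771 F171445 (iv6 D52886) (iv1 F40598)
theorem F178867 : act 1 n114771 = n110768 := d15_1 (iv0 F178866) (iv7 D110768) (iv2 F171443)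
def n114772 : Q := act 7 n52963
theorem D114772 : act 7 n52963 = n114772 := rfl
def n114773 : Q := act 0 n52965
theorem D114773 : act 0 n52965 = n114773 := rfl
def n114774 : Q := act 1 n52965
theorem D114774 : act 1 n52965 = n114774 := rfl
def n114775 : Q := act 2 n52965
theorem D114775 : act 2 n52965 = n114775 := rfl
def n114776 : Q := act 4 n52965
theorem D114776 : act 4 n52965 = n114776 := rfl
def n114777 : Q := act 5 n52965
theorem D114777 : act 5 n52965 = n114777 := rfl
theorem F178868 : act 3 n114777 = n52967 := d6_1 D114777 (iv5 D52967) D52965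
def n114778 : Q := act 6 n52965
theorem D114778 : act 6 n52965 = n114778 := rfl
def n114782 : Q := act 4 n52967
theorem D114782 : act 4 n52967 = n114782 := rfl
def n114783 : Q := act 6 n52967
theorem D114783 : act 6 n52967 = n114783 := rfl
def n114786 : Q := act 5 n52968
theorem D114786 : act 5 n52968 = n114786 := rfl
theorem F178871 : act 0 n114579 = n114786 := d21_1 D114579 (iv5 D114786) (iv6 D52968) (iv1 D25710) (iv6 D12210) (iv5 D5784) D5781 D12197 D25674 D52890
def n114788 : Q := act 5 n52969
theorem D114788 : act 5 n52969 = n114788 := rfl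
theorem F178872 : act 3 n114788 = n53067 := d6_1 D114788 (iv5 D53067) (iv3 F83693)
theorem F178873 : act 7 n114788 = n52972 := d13_2 (iv7 F83694) D114788 (iv5 D52972)
def n114789 : Q := act 2 n52970
theorem D114789 : act 2 n52970 = n114789 := rfl
theorem F178874 : act 7 n52971 = n114789 := d15_2 (iv0 D52970) D52971 (iv2 D114789)
def n114790 : Q := act 3 n52970
theorem D114790 : act 3 n52970 = n114790 := rfl
def n114791 : Q := act 4 n52970
theorem D114791 : act 4 n52970 = n114791 := rfl
def n114792 : Q := act 5 n52970
theorem D114792 : act 5 n52970 = n114792 := rfl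
def n114793 : Q := act 6 n52970
theorem D114793 : act 6 n52970 = n114793 := rfl
def n114794 : Q := act 7 n52970
theorem D114794 : act 7 n52970 = n114794 := rfl
theorem F178875 : act 2 n114794 = n52971 := d4_1 D114794 F178874 (iv2 D114789)
def n114795 : Q := act 3 n52971
theorem D114795 : act 3 n52971 = n114795 := rfl
def n114796 : Q := act 4 n52971
theorem D114796 : act 4 n52971 = n114796 := rfl
def n114797 : Q := act 5 n52971
theorem D114797 : act 5 n52971 = n114797 := rfl
def n114798 : Q := act 6 n52971
theorem D114798 : act 6 n52971 = n114798 := rfl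
def n114799 : Q := act 0 n52972
theorem D114799 : act 0 n52972 = n114799 := rfl
def n114800 : Q := act 1 n52972
theorem D114800 : act 1 n52972 = n114800 := rfl
def n114801 : Q := act 4 n52972
theorem D114801 : act 4 n52972 = n114801 := rfl
theorem F178876 : act 6 n114801 = n52978 := d10_2 (iv6 F83696) D114801 (iv4 D52978)
def n114802 : Q := act 5 n52973
theorem D114802 : act 5 n52973 = n114802 := rfl
theorem F178877 : act 3 n114802 = n52974 := d6_1 D114802 (iv5 D52974) D52973
theorem F178878 : act 0 n114802 = n90583 := d21_1 D114802 (iv5 D90583) (iv6 D42402) D42401 (iv6 F65486) (iv5 F83643) (iv1 F106164) F106162 D106285 F163348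
def n114803 : Q := act 4 n52974
theorem D114803 : act 4 n52974 = n114803 := rfl
def n114804 : Q := act 6 n52974
theorem D114804 : act 6 n52974 = n114804 := rfl
def n114805 : Q := act 3 n52976
theorem D114805 : act 3 n52976 = n114805 := rfl
theorem F178879 : act 5 n114805 = n90276 := d6_2 F95773 D114805 (iv3 F139448)
def n114806 : Q := act 4 n52976
theorem D114806 : act 4 n52976 = n114806 := rfl
def n114807 : Q := act 6 n52976
theorem D114807 : act 6 n52976 = n114807 := rfl
def n114808 : Q := act 4 n52977
theorem D114808 : act 4 n52977 = n114808 := rfl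
def n114809 : Q := act 6 n52977
theorem D114809 : act 6 n52977 = n114809 := rfl
def n114810 : Q := act 0 n52978
theorem D114810 : act 0 n52978 = n114810 := rfl
theorem F178880 : act 4 n114810 = n71940 := d18_3 (iv1 D52977) D52978 D114810 F108445 F95889 F46706 (iv4 F55305) D76489 (iv5 F114656)
theorem F178881 : act 1 n72090 = n114810 := d15_0 (iv0 D114810) (iv7 F177195) F177194
def n114811 : Q := act 3 n52978
theorem D114811 : act 3 n52978 = n114811 := rfl
theorem F178882 : act 4 n114811 = n53095 := d5_2 D52978 D114811 (iv3 D53095) (iv4 D25753) (iv3 F40633)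
def n114812 : Q := act 5 n52978
theorem D114812 : act 5 n52978 = n114812 := rfl
theorem F178883 : act 4 n114812 = n72093 := d16_2 D52978 D114812 (iv5 D72093) (iv4 D33286) (iv5 D16076) D16075 D33285 (iv7 F83530) F83529
theorem F178884 : act 1 n114812 = n71956 := d17_6 (iv1 D114611) (iv5 D52902) F50918 D25715 D52978 D114812 (iv5 D71956) D71954 (iv4 F178708)
def n114813 : Q := act 3 n52979
theorem D114813 : act 3 n52979 = n114813 := rfl
theorem F178885 : act 2 n114813 = n114052 := d0_1 D114813 (iv3 D114052) F83167 (iv3 F40635) (iv2 F83703)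
def n114814 : Q := act 6 n52979
theorem D114814 : act 6 n52979 = n114814 := rfl
theorem F178886 : act 2 n114814 = n52984 := d3_1 D114814 (iv6 D52984) (iv2 F83703)
theorem F178887 : act 4 n114814 = n52980 := d10_1 D114814 (iv6 D52980) D52979
def n114815 : Q := act 0 n52980
theorem D114815 : act 0 n52980 = n114815 := rfl
theorem F178888 : act 1 n52988 = n114815 := d15_0 (iv0 D114815) (iv7 F144674) F144673
def n114816 : Q := act 1 n52980
theorem D114816 : act 1 n52980 = n114816 := rfl
theorem F178889 : act 1 n114816 = n52988 := d15_1 D114816 (iv7 D52988) (iv2 F83704)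
def n114817 : Q := act 3 n52981
theorem D114817 : act 3 n52981 = n114817 := rfl
theorem F178890 : act 2 n114817 = n77085 := d0_1 D114817 F115812 (iv2 F57254) (iv3 F108355) F108354
theorem F178891 : act 4 n114817 = n70260 := d5_2 (iv4 F83705) D114817 (iv3 F107852) (iv4 D71356) (iv3 F83267)
theorem F178892 : act 5 n114817 = n77084 := d6_2 F122868 D114817 (iv3 F122866)
def n114818 : Q := act 6 n52981
theorem D114818 : act 6 n52981 = n114818 := rfl
theorem F178893 : act 4 n114818 = n114145 := d10_1 D114818 (iv6 D114145) (iv4 F83705)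
def n114819 : Q := act 6 n52982
theorem D114819 : act 6 n52982 = n114819 := rfl
theorem F178894 : act 3 n114819 = n77069 := d7_1 D114819 (iv6 D77069) F83708
theorem F178895 : act 4 n114819 = n114053 := d10_1 D114819 (iv6 D114053) (iv4 F83706)
def n114820 : Q := act 6 n52983
theorem D114820 : act 6 n52983 = n114820 := rfl
theorem F178896 : act 3 n114820 = n114066 := d7_1 D114820 (iv6 D114066) (iv3 F83709)
def n114821 : Q := act 0 n52984
theorem D114821 : act 0 n52984 = n114821 := rfl
def n114822 : Q := act 1 n52984
theorem D114822 : act 1 n52984 = n114822 := rfl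
def n114823 : Q := act 5 n52984
theorem D114823 : act 5 n52984 = n114823 := rfl
theorem F178898 : act 3 n114823 = n114069 := d6_1 D114823 (iv5 D114069) (iv3 F83712)
def n114824 : Q := act 7 n52984
theorem D114824 : act 7 n52984 = n114824 := rfl
theorem F178899 : act 3 n114824 = n114070 := d8_1 D114824 (iv7 D114070) (iv3 F83712)
theorem F178900 : act 4 n114824 = n52988 := d11_1 D114824 (iv7 D52988) (iv4 F83713)
theorem F178901 : act 6 n114824 = n92796 := d14_1 D114824 F143138 F69399 F55134 D52984
def n114825 : Q := act 2 n52985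
theorem D114825 : act 2 n52985 = n114825 := rfl
theorem F178902 : act 7 n52986 = n114825 := d15_2 (iv0 D52985) D52986 (iv2 D114825)
def n114826 : Q := act 3 n52985
theorem D114826 : act 3 n52985 = n114826 := rfl
def n114827 : Q := act 4 n52985
theorem D114827 : act 4 n52985 = n114827 := rfl
def n114828 : Q := act 5 n52985
theorem D114828 : act 5 n52985 = n114828 := rfl
def n114829 : Q := act 6 n52985
theorem D114829 : act 6 n52985 = n114829 := rfl
def n114830 : Q := act 7 n52985
theorem D114830 : act 7 n52985 = n114830 := rfl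
theorem F178903 : act 2 n114830 = n52986 := d4_1 D114830 F178902 (iv2 D114825)
def n114831 : Q := act 3 n52986
theorem D114831 : act 3 n52986 = n114831 := rfl
def n114832 : Q := act 4 n52986
theorem D114832 : act 4 n52986 = n114832 := rfl
def n114833 : Q := act 5 n52986
theorem D114833 : act 5 n52986 = n114833 := rfl
def n114834 : Q := act 6 n52986
theorem D114834 : act 6 n52986 = n114834 := rfl
def n114835 : Q := act 0 n52987
theorem D114835 : act 0 n52987 = n114835 := rfl
theorem F178904 : act 1 n94248 = n114835 := d15_0 (iv0 D114835) (iv7 F144693) (iv2 F145330)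
def n114836 : Q := act 1 n52987
theorem D114836 : act 1 n52987 = n114836 := rfl
theorem F178905 : act 1 n114836 = n94248 := d15_1 D114836 (iv7 F161826) F161823
def n114837 : Q := act 4 n52987
theorem D114837 : act 4 n52987 = n114837 := rfl
theorem F178906 : act 6 n114837 = n106282 := d10_2 (iv6 F83715) D114837 (iv4 D106282)
def n114840 : Q := act 2 n52990
theorem D114840 : act 2 n52990 = n114840 := rfl
def n114841 : Q := act 4 n52990
theorem D114841 : act 4 n52990 = n114841 := rfl
theorem F178907 : act 3 n114841 = n76436 := d5_1 D114841 (iv4 D76436) (iv3 D34923) F136445 D52990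
def n114842 : Q := act 5 n52990
theorem D114842 : act 5 n52990 = n114842 := rfl
theorem F178908 : act 3 n114842 = n52992 := d6_1 D114842 (iv5 D52992) D52990
def n114843 : Q := act 6 n52990
theorem D114843 : act 6 n52990 = n114843 := rfl
theorem F178909 : act 3 n114843 = n52993 := d7_1 D114843 (iv6 D52993) D52990
def n114844 : Q := act 0 n52992
theorem D114844 : act 0 n52992 = n114844 := rfl
theorem F178910 : act 5 n114844 = n76379 := d17_3 D25721 D52992 D114844 (iv4 F177660) F177541 (iv0 F161625) (iv5 D52655) (iv0 D25556) (iv4 F20211)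
theorem F178911 : act 1 n52997 = n114844 := d15_0 (iv0 D114844) (iv7 F153465) (iv2 F153466)
def n114845 : Q := act 1 n52992
theorem D114845 : act 1 n52992 = n114845 := rfl
theorem F178912 : act 1 n114845 = n52997 := d15_1 D114845 F153462 (iv2 F153463)
def n114846 : Q := act 4 n52992
theorem D114846 : act 4 n52992 = n114846 := rfl
def n114847 : Q := act 6 n52992
theorem D114847 : act 6 n52992 = n114847 := rfl
def n114848 : Q := act 1 n52993
theorem D114848 : act 1 n52993 = n114848 := rfl
theorem F178913 : act 7 n114848 = n53077 := d15_2 F178551 D114848 (iv2 F177829)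
theorem F178914 : act 4 n114848 = n106387 := d17_9 F163455 F83200 (iv1 D52178) F40048 F37036 D34414 D75155 (iv5 F112694) D114848
theorem F178915 : act 5 n114493 = n114848 := d17_3 (iv1 F54603) D52852 (iv1 F178553) F178914 F178008 F178006 (iv5 D52726) F76721 F76718
def n114850 : Q := act 1 n52995
theorem D114850 : act 1 n52995 = n114850 := rfl
def n114851 : Q := act 2 n52995
theorem D114851 : act 2 n52995 = n114851 := rfl
def n114852 : Q := act 4 n52995
theorem D114852 : act 4 n52995 = n114852 := rfl
theorem F178916 : act 3 n114852 = n76459 := d5_1 D114852 (iv4 D76459) (iv3 D34928) (iv4 F136441) D52995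
def n114853 : Q := act 5 n52995
theorem D114853 : act 5 n52995 = n114853 := rfl
theorem F178917 : act 3 n114853 = n52997 := d6_1 D114853 (iv5 D52997) D52995
def n114854 : Q := act 6 n52995
theorem D114854 : act 6 n52995 = n114854 := rfl
theorem F178918 : act 3 n114854 = n52998 := d7_1 D114854 (iv6 D52998) D52995
def n114855 : Q := act 4 n52997
theorem D114855 : act 4 n52997 = n114855 := rfl
def n114856 : Q := act 6 n52997
theorem D114856 : act 6 n52997 = n114856 := rfl
theorem F178919 : act 0 n70563 = n114856 := d21_4 (iv5 D32622) F37048 (iv5 F51814) D70563 (iv6 D114856) (iv5 D52997) (iv1 D25722) D25723 F40637 (iv1 F51675)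
def n114857 : Q := act 5 n52998
theorem D114857 : act 5 n52998 = n114857 := rfl
theorem F178920 : act 1 n114857 = n55269 := d17_6 D34895 D76374 F114610 (iv5 D76468) (iv4 F136443) D114857 (iv5 D55269) (iv0 D26708) (iv4 F27744)
theorem F178921 : act 0 n114857 = n55274 := d21_7 (iv5 D94258) (iv1 F69390) F55293 (iv6 F43580) (iv1 F43582) D52998 D114857 (iv5 D55274) D55275 (iv1 F177779)
theorem E17726 : n114087 = n53041 := ((c17_10 (iv1 D114087) D114088 F177667 (iv5 D114030) F177773 D55274 (iv0 F178921) (iv5 D114857) F161886 (iv4 F83752))).symm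
theorem F178922 : act 0 n53041 = n52661 := (sb E17726 (iv1 D114087))
def n114858 : Q := act 3 n52999
theorem D114858 : act 3 n52999 = n114858 := rfl
def n114859 : Q := act 5 n52999
theorem D114859 : act 5 n52999 = n114859 := rfl
theorem F178923 : act 2 n114859 = n114400 := d2_1 D114859 F178431 (iv2 F161744)
theorem F178924 : act 7 n114859 = n105403 := d13_2 (iv7 F161742) D114859 F161740
theorem F178925 : act 4 n114859 = n76473 := d17_4 (iv1 D25722) D25723 D52999 D114859 (iv5 D76473) (iv0 D34932) (iv5 D16941) D16940 (iv4 F136441)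
theorem F178926 : act 1 n114859 = n114399 := d17_8 (iv1 F178198) (iv5 D114092) (iv1 F83213) (iv5 F76693) F76692 (iv5 F88592) F88595 D114859 F178427
theorem F178927 : act 0 n114859 = n113982 := d18_0 (iv4 F178187) (iv1 D114311) (iv4 F120146) (iv5 D78974) D78973 F149565 F149563 F88595 D114859
theorem F178928 : act 6 n114859 = n114412 := d21_3 D25723 D52999 D114859 (iv1 F178446) (iv6 D55270) D55269 (iv1 F178920) (iv5 D114857) (iv6 D52998) (iv1 D25722)
def n114860 : Q := act 6 n52999
theorem D114860 : act 6 n52999 = n114860 := rfl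
def n114861 : Q := act 3 n53000
theorem D114861 : act 3 n53000 = n114861 := rfl
theorem F178929 : act 5 n114861 = n114395 := d6_2 F83720 D114861 F178421
def n114862 : Q := act 6 n53000
theorem D114862 : act 6 n53000 = n114862 := rfl
theorem F178930 : act 5 n114862 = n114398 := d12_1 D114862 (iv6 D114398) (iv5 D52792) D52793 F83720
def n114863 : Q := act 5 n53001
theorem D114863 : act 5 n53001 = n114863 := rfl
theorem F178931 : act 2 n114863 = n96968 := d2_1 D114863 (iv5 D96968) (iv2 F83721)
theorem F178932 : act 6 n114863 = n96964 := d12_2 (iv6 F83722) D114863 (iv5 D96964) (iv6 D45332) D45331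
theorem F178933 : act 4 n114863 = n95806 := d16_2 D53001 D114863 F147498 F70334 (iv5 F76693) F76692 (iv5 F88592) (iv7 D55983) F43577
theorem F178934 : act 7 n95805 = n114863 := d11_0 F178933 (iv7 D95806) D95805
def n114864 : Q := act 7 n53001
theorem D114864 : act 7 n53001 = n114864 := rfl
theorem F178935 : act 2 n114864 = n96969 := d4_1 D114864 (iv7 D96969) (iv2 F83721)
theorem F178936 : act 4 n114864 = n53002 := d11_1 D114864 (iv7 D53002) D53001
theorem F178937 : act 5 n114864 = n95805 := d13_1 D114864 F178934 (iv5 D114863)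
theorem F178938 : act 1 n96967 = n114864 := d15_1 D96967 (iv7 D114864) F83721
theorem F178939 : act 1 n114864 = n96966 := d15_1 F178938 (iv7 F178262) (iv2 F178261)
def n114865 : Q := act 0 n53003
theorem D114865 : act 0 n53003 = n114865 := rfl
def n114866 : Q := act 1 n53003
theorem D114866 : act 1 n53003 = n114866 := rfl
theorem F178940 : act 1 n114866 = n105432 := d15_1 D114866 (iv7 D105432) (iv2 F83724)
def n114867 : Q := act 7 n53003
theorem D114867 : act 7 n53003 = n114867 := rfl
theorem F178941 : act 2 n114867 = n105432 := d4_1 D114867 (iv7 D105432) (iv2 F83724)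
theorem F178942 : act 3 n114867 = n55983 := d8_1 D114867 (iv7 D55983) (iv3 F83725)
theorem F178943 : act 5 n114867 = n55970 := d13_1 D114867 (iv7 D55970) (iv5 F83726)
theorem F178944 : act 6 n114867 = n76433 := d14_1 D114867 F145307 (iv6 D48749) F40647 D53003
theorem F178945 : act 1 n105432 = n114865 := d15_0 (iv0 D114865) D114867 F178941
theorem F178946 : act 1 n105431 = n114867 := d15_1 D105431 (iv7 D114867) F83724
theorem F178947 : act 1 n114867 = n105430 := d15_0 (iv0 D105430) D105432 (iv2 F178941)
def n114868 : Q := act 0 n53005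
theorem D114868 : act 0 n53005 = n114868 := rfl
def n114869 : Q := act 1 n53005
theorem D114869 : act 1 n53005 = n114869 := rfl
theorem F178948 : act 1 n114869 = n53009 := d15_1 D114869 (iv7 D53009) (iv2 F83730)
def n114870 : Q := act 5 n53005
theorem D114870 : act 5 n53005 = n114870 := rfl
theorem F178949 : act 2 n114870 = n53008 := d2_1 D114870 (iv5 D53008) (iv2 F83730)
theorem F178950 : act 3 n114870 = n114541 := d6_1 D114870 (iv5 D114541) (iv3 F83731)
theorem F178951 : act 6 n114870 = n54677 := d12_2 D53005 D114870 (iv5 D54677) F42289 (iv5 F40650)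
def n114871 : Q := act 7 n53005
theorem D114871 : act 7 n53005 = n114871 := rfl
theorem F178952 : act 2 n114871 = n53009 := d4_1 D114871 (iv7 D53009) (iv2 F83730)
theorem F178953 : act 3 n114871 = n114542 := d8_1 D114871 (iv7 D114542) (iv3 F83731)
theorem F178954 : act 6 n114871 = n105427 := d14_1 D114871 (iv7 D105427) (iv6 D48748) (iv7 F40651) D53005
theorem F178955 : act 1 n53009 = n114868 := d15_0 (iv0 D114868) D114871 F178952
def n114872 : Q := act 2 n53006
theorem D114872 : act 2 n53006 = n114872 := rfl
theorem F178958 : act 7 n53007 = n114872 := d15_2 (iv0 D53006) D53007 (iv2 D114872)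
def n114873 : Q := act 3 n53006
theorem D114873 : act 3 n53006 = n114873 := rfl
def n114874 : Q := act 4 n53006
theorem D114874 : act 4 n53006 = n114874 := rfl
def n114875 : Q := act 5 n53006
theorem D114875 : act 5 n53006 = n114875 := rfl
def n114876 : Q := act 6 n53006
theorem D114876 : act 6 n53006 = n114876 := rfl
def n114877 : Q := act 7 n53006
theorem D114877 : act 7 n53006 = n114877 := rfl
theorem F178959 : act 2 n114877 = n53007 := d4_1 D114877 F178958 (iv2 D114872)
def n114878 : Q := act 3 n53007
theorem D114878 : act 3 n53007 = n114878 := rfl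
def n114879 : Q := act 4 n53007
theorem D114879 : act 4 n53007 = n114879 := rfl
def n114880 : Q := act 5 n53007
theorem D114880 : act 5 n53007 = n114880 := rfl
def n114881 : Q := act 6 n53007
theorem D114881 : act 6 n53007 = n114881 := rfl
def n114882 : Q := act 0 n53008
theorem D114882 : act 0 n53008 = n114882 := rfl
def n114883 : Q := act 1 n53008
theorem D114883 : act 1 n53008 = n114883 := rfl
def n114884 : Q := act 4 n53008
theorem D114884 : act 4 n53008 = n114884 := rfl
theorem F178960 : act 6 n114884 = n76219 := d10_2 (iv6 F83733) D114884 (iv4 D76219)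
def n114885 : Q := act 7 n53008
theorem D114885 : act 7 n53008 = n114885 := rfl
theorem F178961 : act 3 n114885 = n53023 := d8_1 D114885 (iv7 D53023) (iv3 F83732)
theorem F178962 : act 5 n114885 = n53009 := d13_1 D114885 (iv7 D53009) D53008
def n114886 : Q := act 0 n53011
theorem D114886 : act 0 n53011 = n114886 := rfl
def n114887 : Q := act 1 n53011
theorem D114887 : act 1 n53011 = n114887 := rfl
def n114888 : Q := act 2 n53011
theorem D114888 : act 2 n53011 = n114888 := rfl
def n114889 : Q := act 4 n53011
theorem D114889 : act 4 n53011 = n114889 := rfl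
theorem F178963 : act 3 n114889 = n106158 := d5_1 D114889 (iv4 D106158) (iv3 D49062) F177819 D53011
def n114890 : Q := act 5 n53011
theorem D114890 : act 5 n53011 = n114890 := rfl
theorem F178964 : act 3 n114890 = n53013 := d6_1 D114890 (iv5 D53013) D53011
def n114891 : Q := act 6 n53011
theorem D114891 : act 6 n53011 = n114891 := rfl
theorem F178965 : act 3 n114891 = n53014 := d7_1 D114891 (iv6 D53014) D53011
def n114892 : Q := act 1 n53013
theorem D114892 : act 1 n53013 = n114892 := rfl
theorem F178966 : act 1 n114892 = n53018 := d15_1 D114892 F177828 (iv2 F177820)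
def n114893 : Q := act 4 n53013
theorem D114893 : act 4 n53013 = n114893 := rfl
def n114894 : Q := act 6 n53013
theorem D114894 : act 6 n53013 = n114894 := rfl
def n114895 : Q := act 1 n53014
theorem D114895 : act 1 n53014 = n114895 := rfl
theorem F178967 : act 1 n114895 = n76466 := d15_1 D114895 (iv7 F177836) (iv2 F177815)
theorem F178968 : act 7 n114895 = n76317 := d15_2 (iv0 F178023) D114895 F153443
theorem F178969 : act 4 n114895 = n53049 := d17_9 (iv1 D53049) F78524 (iv1 D49697) F37994 F28337 D32352 D69704 (iv5 F106068) D114895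
theorem F178970 : act 6 n76454 = n114895 := d21_3 D25626 D52799 F161795 (iv1 D114895) (iv6 D53014) D53013 (iv1 F178442) (iv5 D114411) (iv6 D52798) (iv1 D25625)
theorem F178971 : act 2 n114895 = n76469 := d3_1 F178970 (iv6 F161762) F161761
def n114896 : Q := act 7 n53014
theorem D114896 : act 7 n53014 = n114896 := rfl
theorem F178972 : act 2 n114896 = n76466 := d4_1 D114896 (iv7 F177836) (iv2 F177815)
theorem F178973 : act 4 n114896 = n78962 := d11_1 D114896 F163473 (iv4 F177816)
theorem F178974 : act 5 n114896 = n76380 := d13_1 D114896 F177842 (iv5 F106068)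
theorem F178975 : act 6 n114896 = n114848 := d14_1 D114896 F178913 (iv6 D53077) F177822 D53014
theorem F178976 : act 1 n76469 = n114896 := d15_1 (iv0 F161792) (iv7 D114896) F177815
theorem F178977 : act 1 n114896 = n76317 := d15_1 F178976 (iv7 F178968) F178971
def n114898 : Q := act 1 n53016
theorem D114898 : act 1 n53016 = n114898 := rfl
def n114899 : Q := act 2 n53016
theorem D114899 : act 2 n53016 = n114899 := rfl
def n114900 : Q := act 4 n53016
theorem D114900 : act 4 n53016 = n114900 := rfl
theorem F178978 : act 3 n114900 = n106180 := d5_1 D114900 (iv4 D106180) (iv3 D49067) F177826 D53016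
def n114901 : Q := act 5 n53016
theorem D114901 : act 5 n53016 = n114901 := rfl
theorem F178979 : act 3 n114901 = n53018 := d6_1 D114901 (iv5 D53018) D53016
def n114902 : Q := act 6 n53016
theorem D114902 : act 6 n53016 = n114902 := rfl
theorem F178980 : act 3 n114902 = n53019 := d7_1 D114902 (iv6 D53019) D53016
def n114903 : Q := act 4 n53018
theorem D114903 : act 4 n53018 = n114903 := rfl
def n114904 : Q := act 6 n53018
theorem D114904 : act 6 n53018 = n114904 := rfl
theorem F178981 : act 0 n114520 = n114904 := d21_4 F55025 F53342 (iv5 F83782) (iv6 F178585) (iv6 D114904) (iv5 D53018) (iv1 D25730) D25731 F40655 D34815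
def n114905 : Q := act 0 n53019
theorem D114905 : act 0 n53019 = n114905 := rfl
theorem F178982 : act 5 n114905 = n75154 := d17_1 D114905 (iv1 F112699) F83502 F40548 (iv5 F82415) F82499 (iv5 F163180) (iv0 D106188) (iv4 F177830)
theorem F178983 : act 4 n114905 = n53063 := d18_3 F163451 (iv4 F177830) D114905 F161758 (iv4 F176123) (iv0 D113045) F82495 D52178 (iv5 F83200)
theorem F178984 : act 2 n114505 = n114905 := d15_3 (iv0 D114905) F178551 (iv7 F178561)
theorem F178985 : act 6 n114905 = n105465 := d3_2 (iv6 F178565) F178984 F161887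
theorem F178986 : act 7 n114905 = n55975 := d4_2 (iv7 F178561) F178984 (iv2 F153455)
theorem F178987 : act 1 n114848 = n114905 := d15_1 D114848 F178986 (iv2 F153455)
theorem F178988 : act 6 n114493 = n71285 := d21_3 (iv5 F178982) (iv1 F178987) (iv5 F178915) (iv1 D71285) (iv6 D32988) (iv5 D15883) F12078 D16685 (iv6 F54599) D75154
def n114906 : Q := act 7 n53019
theorem D114906 : act 7 n53019 = n114906 := rfl
theorem F178989 : act 2 n114906 = n114848 := d4_1 D114906 F178913 (iv2 F177829)
theorem F178990 : act 4 n114906 = n106191 := d11_1 D114906 (iv7 D106191) (iv4 F177830)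
theorem F178991 : act 6 n114906 = n76466 := d14_1 D114906 (iv7 F177836) (iv6 D53072) (iv7 F177824) D53019
theorem F178992 : act 1 n55975 = n114906 := d15_1 F178573 (iv7 D114906) F177829
theorem F178993 : act 1 n114906 = n114505 := d15_1 F178992 F178561 F153455
def n114907 : Q := act 4 n53020
theorem D114907 : act 4 n53020 = n114907 := rfl
theorem F178994 : act 6 n114907 = n92876 := d10_2 (iv6 F177453) D114907 (iv4 D92876)
def n114908 : Q := act 5 n53020
theorem D114908 : act 5 n53020 = n114908 := rfl
theorem F178995 : act 2 n114908 = n114409 := d2_1 D114908 F178436 (iv2 F177451)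
theorem F178996 : act 3 n114908 = n92886 := d6_1 D114908 (iv5 D92886) (iv3 F177452)
theorem F178997 : act 6 n114908 = n92880 := d12_2 (iv6 F177453) D114908 (iv5 D92880) (iv6 D43457) D43456
theorem F178998 : act 7 n114908 = n78883 := d13_2 (iv7 F177454) D114908 F120056
theorem F178999 : act 4 n114908 = n106117 := d17_4 (iv1 D25730) D25731 D53020 D114908 (iv5 D106117) (iv0 D49050) F37353 D23938 F177826
theorem F179000 : act 1 n114908 = n105406 := d17_8 (iv1 F177324) (iv5 D52609) (iv1 F76653) F76650 (iv4 F40661) D53067 F83770 D114908 F161750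
theorem F179001 : act 0 n76287 = n114907 := d18_2 (iv1 D76286) D76287 (iv4 D114907) D114908 F178999 (iv0 F178033) (iv4 F114633) (iv0 F178441) F114468
theorem F179002 : act 1 n114412 = n114908 := d15_1 F178446 F178998 (iv2 F177457)
def n114909 : Q := act 3 n53021
theorem D114909 : act 3 n53021 = n114909 := rfl
def n114910 : Q := act 4 n53021
theorem D114910 : act 4 n53021 = n114910 := rfl
theorem F179003 : act 0 n114910 = n76287 := d18_2 (iv1 F83769) D114910 (iv4 D76287) (iv5 D34844) F27674 D23938 F177826 F40663 D53067
def n114911 : Q := act 6 n53021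
theorem D114911 : act 6 n53021 = n114911 := rfl
def n114912 : Q := act 0 n53022
theorem D114912 : act 0 n53022 = n114912 := rfl
theorem F179004 : act 4 n114912 = n106342 := d18_3 (iv1 D53021) D53022 D114912 F177629 (iv4 D113981) F177324 (iv4 F161750) F178447 F87469
def n114913 : Q := act 1 n53022
theorem D114913 : act 1 n53022 = n114913 := rfl
theorem F179005 : act 4 n114913 = n106343 := d18_7 (iv1 F177628) (iv4 D25740) (iv1 D12218) (iv4 F20214) D25731 D53022 D114913 F163406 F114334
def n114914 : Q := act 3 n53022
theorem D114914 : act 3 n53022 = n114914 := rfl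
theorem F179006 : act 6 n114914 = n76232 := d7_2 (iv6 F83738) D114914 (iv3 D76232)
def n114915 : Q := act 5 n53022
theorem D114915 : act 5 n53022 = n114915 := rfl
def n114916 : Q := act 7 n53022
theorem D114916 : act 7 n53022 = n114916 := rfl
theorem F179007 : act 4 n114916 = n53023 := d11_1 D114916 (iv7 D53023) D53022
def n114917 : Q := act 6 n53023
theorem D114917 : act 6 n53023 = n114917 := rfl
theorem F179008 : act 2 n114917 = n114002 := d3_1 D114917 F177494 F83767
theorem F179009 : act 5 n114917 = n105367 := d12_1 D114917 (iv6 D105367) F76650 (iv6 F40657) (iv5 F83739)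
theorem F179010 : act 7 n114917 = n76233 := d14_2 D53023 D114917 (iv6 D76233) (iv7 D34818) (iv6 F40655)
theorem F179011 : act 1 n114014 = n114917 := d15_1 D114014 F179010 F114219
theorem F179012 : act 1 n114917 = n114013 := d15_0 (iv0 D114013) (iv7 F177495) (iv2 F179008)
def n114919 : Q := act 3 n53030
theorem D114919 : act 3 n53030 = n114919 := rfl
def n114920 : Q := act 4 n53030
theorem D114920 : act 4 n53030 = n114920 := rfl
def n114921 : Q := act 5 n53030
theorem D114921 : act 5 n53030 = n114921 := rfl
def n114922 : Q := act 6 n53030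
theorem D114922 : act 6 n53030 = n114922 := rfl
def n114924 : Q := act 3 n53031
theorem D114924 : act 3 n53031 = n114924 := rfl
def n114928 : Q := act 4 n53032
theorem D114928 : act 4 n53032 = n114928 := rfl
theorem F179015 : act 2 n114928 = n53033 := d1_1 D114928 (iv4 D53033) D53032
def n114929 : Q := act 5 n53032
theorem D114929 : act 5 n53032 = n114929 := rfl
theorem F179016 : act 2 n114929 = n53034 := d2_1 D114929 (iv5 D53034) D53032
def n114930 : Q := act 6 n53032
theorem D114930 : act 6 n53032 = n114930 := rfl
theorem F179017 : act 2 n114930 = n53035 := d3_1 D114930 (iv6 D53035) D53032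
def n114931 : Q := act 0 n53033
theorem D114931 : act 0 n53033 = n114931 := rfl
def n114932 : Q := act 1 n53033
theorem D114932 : act 1 n53033 = n114932 := rfl
def n114933 : Q := act 3 n53033
theorem D114933 : act 3 n53033 = n114933 := rfl
theorem F179018 : act 4 n114933 = n53039 := d5_2 D53033 D114933 (iv3 D53039) (iv4 D25735) D25734
def n114934 : Q := act 5 n53033
theorem D114934 : act 5 n53033 = n114934 := rfl
def n114935 : Q := act 6 n53033
theorem D114935 : act 6 n53033 = n114935 := rfl
theorem F179019 : act 4 n114935 = n53035 := d10_1 D114935 (iv6 D53035) D53033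
def n114936 : Q := act 0 n53034
theorem D114936 : act 0 n53034 = n114936 := rfl
def n114937 : Q := act 1 n53034
theorem D114937 : act 1 n53034 = n114937 := rfl
def n114938 : Q := act 4 n53034
theorem D114938 : act 4 n53034 = n114938 := rfl
def n114939 : Q := act 6 n53034
theorem D114939 : act 6 n53034 = n114939 := rfl
theorem F179020 : act 3 n114939 = n53046 := d7_1 D114939 (iv6 D53046) (iv3 F83748)
def n114940 : Q := act 0 n53035
theorem D114940 : act 0 n53035 = n114940 := rfl
def n114941 : Q := act 1 n53035
theorem D114941 : act 1 n53035 = n114941 := rfl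
def n114942 : Q := act 7 n53035
theorem D114942 : act 7 n53035 = n114942 := rfl
theorem F179021 : act 3 n114942 = n53050 := d8_1 D114942 (iv7 D53050) (iv3 F83749)
theorem F179022 : act 5 n114942 = n110778 := d13_1 D114942 F171477 F165961
def n114943 : Q := act 0 n53039
theorem D114943 : act 0 n53039 = n114943 := rfl
def n114944 : Q := act 1 n53039
theorem D114944 : act 1 n53039 = n114944 := rfl
def n114945 : Q := act 2 n53039
theorem D114945 : act 2 n53039 = n114945 := rfl
def n114946 : Q := act 5 n53039
theorem D114946 : act 5 n53039 = n114946 := rfl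
theorem F179023 : act 3 n114946 = n53040 := d6_1 D114946 (iv5 D53040) D53039
def n114947 : Q := act 6 n53039
theorem D114947 : act 6 n53039 = n114947 := rfl
theorem F179024 : act 3 n114947 = n53041 := d7_1 D114947 (iv6 D53041) D53039
def n114948 : Q := act 1 n53040
theorem D114948 : act 1 n53040 = n114948 := rfl
theorem F179025 : act 1 n114948 = n53059 := d15_1 D114948 (iv7 F177790) F177789
def n114949 : Q := act 4 n53040
theorem D114949 : act 4 n53040 = n114949 := rfl
def n114950 : Q := act 6 n53040
theorem D114950 : act 6 n53040 = n114950 := rfl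
def n114951 : Q := act 1 n53041
theorem D114951 : act 1 n53041 = n114951 := rfl
theorem F179026 : act 1 n114951 = n114086 := d15_1 D114951 (iv7 F177785) F177783
theorem F179027 : act 7 n114951 = n105380 := d15_2 (iv0 F178922) D114951 F161701
theorem F179028 : act 4 n114951 = n106371 := d17_9 (iv1 D106371) F77751 (iv1 D49232) (iv5 F40384) F40383 D34870 D76333 (iv5 F177624) D114951
theorem F179029 : act 6 n106385 = n114951 := d21_3 (iv5 F39978) D52135 (iv5 F163447) (iv1 D114951) (iv6 D53041) D53040 (iv1 F178036) (iv5 D114241) (iv6 D52727) (iv1 D25591)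
theorem F179030 : act 2 n114951 = n114089 := d3_1 F179029 F177670 F163448
def n114952 : Q := act 7 n53041
theorem D114952 : act 7 n53041 = n114952 := rfl
theorem F179031 : act 2 n114952 = n114086 := d4_1 D114952 (iv7 F177785) F177783
theorem F179032 : act 4 n114952 = n53050 := d11_1 D114952 (iv7 D53050) (iv4 F83752)
theorem F179033 : act 5 n114952 = n114032 := d13_1 D114952 F177860 (iv5 F177624)
theorem F179034 : act 6 n114952 = n114157 := d14_1 D114952 (iv7 F177894) (iv6 D76284) F177793 D53041
theorem F179035 : act 1 n114089 = n114952 := d15_1 (iv0 F177671) (iv7 D114952) (iv2 F177783)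
theorem F179036 : act 1 n114952 = n105380 := d15_1 F179035 (iv7 F179027) F179030
def n114953 : Q := act 3 n53043
theorem D114953 : act 3 n53043 = n114953 := rfl
theorem F179037 : act 5 n114953 = n114501 := d6_2 (iv5 F83756) D114953 F178560
def n114954 : Q := act 4 n53043
theorem D114954 : act 4 n53043 = n114954 := rfl
theorem F179038 : act 0 n114954 = n106186 := d18_2 D53043 D114954 (iv4 D106186) (iv5 D49069) F177826 F40663 F40661 F37060 D25736
theorem F179039 : act 5 n113958 = n106186 := d17_7 (iv1 F83760) (iv5 D25741) (iv1 D12218) (iv5 F20063) (iv4 F40359) D52604 D113958 (iv0 F179038) (iv4 D114954)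
theorem F179040 : act 1 n114954 = n106170 := d15_1 (iv0 F179038) (iv7 F163483) F163497
def n114955 : Q := act 6 n53043
theorem D114955 : act 6 n53043 = n114955 := rfl
theorem F179041 : act 5 n114955 = n113911 := d12_1 D114955 F177204 (iv5 D52852) D52853 (iv5 F83756)
def n114956 : Q := act 3 n53044
theorem D114956 : act 3 n53044 = n114956 := rfl
def n114957 : Q := act 4 n53044
theorem D114957 : act 4 n53044 = n114957 := rfl
theorem F179042 : act 0 n114957 = n106170 := d18_2 (iv1 F83757) D114957 (iv4 D106170) (iv5 D49064) F177819 (iv0 D25729) F20214 D12218 D25741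
theorem F179043 : act 1 n114957 = n106186 := d15_1 (iv0 F179042) F163496 F163484
def n114958 : Q := act 5 n53044
theorem D114958 : act 5 n53044 = n114958 := rfl
theorem F179044 : act 2 n114958 = n113980 := d2_1 D114958 (iv5 F177325) (iv2 F161872)
theorem F179045 : act 6 n114958 = n94258 := d12_2 F177327 D114958 (iv5 D94258) D94259 F161497
theorem F179046 : act 7 n114958 = n75153 := d13_2 (iv7 F161869) D114958 (iv5 F161857)
theorem F179047 : act 0 n105361 = n114958 := d21_1 D105361 (iv5 D114958) (iv6 F177327) (iv1 D105318) (iv6 D48692) (iv5 D23744) (iv1 D11121) D11123 D23753 D48706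
theorem F179048 : act 1 n69697 = n114958 := d15_1 F178440 F179046 F145379
def n114959 : Q := act 0 n53045
theorem D114959 : act 0 n53045 = n114959 := rfl
theorem F179049 : act 4 n114959 = n106365 := d18_3 (iv1 D53044) D53045 D114959 F163430 (iv4 F114633) (iv0 F178441) F177809 F179048 (iv5 D114958)
theorem F179050 : act 1 n53061 = n114959 := d15_0 (iv0 D114959) (iv7 F161903) F161902
def n114960 : Q := act 1 n53045
theorem D114960 : act 1 n53045 = n114960 := rfl
theorem F179051 : act 1 n114960 = n53061 := d15_1 D114960 (iv7 F161874) F161873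
theorem F179052 : act 4 n114960 = n106366 := d18_7 (iv1 D23983) (iv4 F37462) F177626 (iv4 D25735) D25736 D53045 D114960 F163431 (iv5 D49154)
theorem F179053 : act 6 n113750 = n114960 := d10_0 F179052 F178206 D113750
def n114961 : Q := act 3 n53045
theorem D114961 : act 3 n53045 = n114961 := rfl
def n114962 : Q := act 5 n53045
theorem D114962 : act 5 n53045 = n114962 := rfl
theorem F179054 : act 1 n114962 = n106265 := d17_6 (iv1 D25531) F20063 D12217 D25736 D53045 D114962 (iv5 D106265) F177630 (iv4 D52613)
def n114963 : Q := act 6 n53045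
theorem D114963 : act 6 n53045 = n114963 := rfl
theorem F179055 : act 4 n114963 = n53046 := d10_1 D114963 (iv6 D53046) D53045
def n114964 : Q := act 1 n53046
theorem D114964 : act 1 n53046 = n114964 := rfl
theorem F179056 : act 5 n106488 = n114964 := d21_0 (iv1 D114964) (iv5 F165962) (iv6 D107575) (iv1 D49697) (iv6 D24236) (iv5 D11394) F18347 D24014 D49208 D106488
def n114965 : Q := act 7 n53046
theorem D114965 : act 7 n53046 = n114965 := rfl
theorem F179057 : act 6 n114965 = n112700 := d14_1 D114965 F175392 F103898 F161786 D53046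
def n114966 : Q := act 3 n53049
theorem D114966 : act 3 n53049 = n114966 := rfl
def n114967 : Q := act 5 n53049
theorem D114967 : act 5 n53049 = n114967 := rfl
theorem F179058 : act 6 n114967 = n106494 := d12_2 F178565 D114967 (iv5 F178566) (iv6 D114506) D114505
theorem F179059 : act 0 n55274 = n114967 := d21_1 D55274 (iv5 D114967) (iv6 F178565) (iv1 F178993) F178991 F114609 (iv1 F114497) F114494 (iv6 F56566) (iv1 F56568)
theorem F179060 : act 1 n55269 = n114967 := d15_0 (iv0 F179059) (iv7 F177464) F177477
def n114968 : Q := act 2 n53052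
theorem D114968 : act 2 n53052 = n114968 := rfl
theorem F179061 : act 7 n53053 = n114968 := d15_2 (iv0 D53052) D53053 (iv2 D114968)
def n114973 : Q := act 7 n53052
theorem D114973 : act 7 n53052 = n114973 := rfl
theorem F179062 : act 2 n114973 = n53053 := d4_1 D114973 F179061 (iv2 D114968)
def n114974 : Q := act 3 n53053
theorem D114974 : act 3 n53053 = n114974 := rfl
def n114975 : Q := act 4 n53053
theorem D114975 : act 4 n53053 = n114975 := rfl
def n114976 : Q := act 5 n53053
theorem D114976 : act 5 n53053 = n114976 := rfl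
def n114977 : Q := act 6 n53053
theorem D114977 : act 6 n53053 = n114977 := rfl
def n114978 : Q := act 4 n53054
theorem D114978 : act 4 n53054 = n114978 := rfl
theorem F179063 : act 2 n114978 = n53055 := d1_1 D114978 (iv4 D53055) D53054
def n114979 : Q := act 5 n53054
theorem D114979 : act 5 n53054 = n114979 := rfl
theorem F179064 : act 2 n114979 = n53056 := d2_1 D114979 (iv5 D53056) D53054
def n114980 : Q := act 6 n53054
theorem D114980 : act 6 n53054 = n114980 := rfl
theorem F179065 : act 2 n114980 = n53057 := d3_1 D114980 (iv6 D53057) D53054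
def n114981 : Q := act 0 n53055
theorem D114981 : act 0 n53055 = n114981 := rfl
def n114982 : Q := act 1 n53055
theorem D114982 : act 1 n53055 = n114982 := rfl
def n114983 : Q := act 3 n53055
theorem D114983 : act 3 n53055 = n114983 := rfl
theorem F179066 : act 4 n114983 = n53058 := d5_2 D53055 D114983 (iv3 D53058) (iv4 D25740) D25739
def n114984 : Q := act 5 n53055
theorem D114984 : act 5 n53055 = n114984 := rfl
def n114985 : Q := act 6 n53055
theorem D114985 : act 6 n53055 = n114985 := rfl
theorem F179067 : act 4 n114985 = n53057 := d10_1 D114985 (iv6 D53057) D53055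
def n114986 : Q := act 0 n53056
theorem D114986 : act 0 n53056 = n114986 := rfl
def n114987 : Q := act 1 n53056
theorem D114987 : act 1 n53056 = n114987 := rfl
def n114988 : Q := act 4 n53056
theorem D114988 : act 4 n53056 = n114988 := rfl
def n114989 : Q := act 6 n53056
theorem D114989 : act 6 n53056 = n114989 := rfl
theorem F179068 : act 3 n114989 = n53062 := d7_1 D114989 (iv6 D53062) (iv3 F83762)
def n114990 : Q := act 0 n53057
theorem D114990 : act 0 n53057 = n114990 := rfl
def n114991 : Q := act 1 n53057
theorem D114991 : act 1 n53057 = n114991 := rfl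
def n114992 : Q := act 5 n53057
theorem D114992 : act 5 n53057 = n114992 := rfl
theorem F179069 : act 3 n114992 = n53065 := d6_1 D114992 (iv5 D53065) (iv3 F83763)
def n114993 : Q := act 7 n53057
theorem D114993 : act 7 n53057 = n114993 := rfl
theorem F179070 : act 3 n114993 = n53066 := d8_1 D114993 (iv7 D53066) (iv3 F83763)
def n114994 : Q := act 0 n53058
theorem D114994 : act 0 n53058 = n114994 := rfl
def n114995 : Q := act 1 n53058
theorem D114995 : act 1 n53058 = n114995 := rfl
def n114996 : Q := act 2 n53058
theorem D114996 : act 2 n53058 = n114996 := rfl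
def n114997 : Q := act 5 n53058
theorem D114997 : act 5 n53058 = n114997 := rfl
theorem F179071 : act 3 n114997 = n53059 := d6_1 D114997 (iv5 D53059) D53058
def n114998 : Q := act 6 n53058
theorem D114998 : act 6 n53058 = n114998 := rfl
theorem F179072 : act 3 n114998 = n53060 := d7_1 D114998 (iv6 D53060) D53058
def n114999 : Q := act 4 n53059
theorem D114999 : act 4 n53059 = n114999 := rfl
def n115000 : Q := act 6 n53059
theorem D115000 : act 6 n53059 = n115000 := rfl
theorem F179073 : act 0 n114347 = n115000 := d21_4 F77611 (iv1 F82835) (iv5 F83359) D114347 (iv6 D115000) (iv5 D53059) F177627 D49144 F77602 D49156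
def n115001 : Q := act 3 n53061
theorem D115001 : act 3 n53061 = n115001 := rfl
def n115002 : Q := act 5 n53061
theorem D115002 : act 5 n53061 = n115002 := rfl
theorem F179074 : act 0 n115002 = n106265 := d17_2 (iv1 F179050) D115002 (iv5 D106265) F77527 F37410 D23983 D49154 F163434 (iv4 F179049)
def n115003 : Q := act 6 n53061
theorem D115003 : act 6 n53061 = n115003 := rfl
theorem F179075 : act 4 n115003 = n53062 := d10_1 D115003 (iv6 D53062) D53061
theorem F179076 : act 0 n113248 = n115003 := d21_4 (iv5 D25403) (iv1 F40162) D52273 D113248 (iv6 D115003) D115002 F179074 (iv5 D106265) (iv6 D49106) (iv1 F40184)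
def n115004 : Q := act 5 n53062
theorem D115004 : act 5 n53062 = n115004 := rfl
theorem F179077 : act 6 n115004 = n53065 := d12_2 D53062 D115004 (iv5 D53065) (iv6 D25742) D25741
def n115005 : Q := act 3 n53063
theorem D115005 : act 3 n53063 = n115005 := rfl
def n115006 : Q := act 4 n53065
theorem D115006 : act 4 n53065 = n115006 := rfl
def n115007 : Q := act 7 n53065
theorem D115007 : act 7 n53065 = n115007 := rfl
theorem F179078 : act 2 n115007 = n114396 := d4_1 D115007 F178423 F161904
theorem F179079 : act 5 n115007 = n53066 := d13_1 D115007 (iv7 D53066) D53065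
theorem F179080 : act 1 n105402 = n115007 := d15_1 (iv0 F161905) (iv7 D115007) (iv2 F161904)
theorem F179081 : act 1 n115007 = n105405 := d15_1 F179080 F161747 (iv2 F161736)
theorem F179082 : act 6 n62735 = n115007 := d12_0 F179079 (iv6 F161882) F161881 D107572 F165960
def n115008 : Q := act 4 n53067
theorem D115008 : act 4 n53067 = n115008 := rfl
theorem F179083 : act 2 n115008 = n114916 := d1_1 D115008 F179007 (iv2 F83767)
theorem F179084 : act 7 n115008 = n53080 := d11_2 (iv7 F83768) D115008 (iv4 D53080)
theorem F179085 : act 5 n115008 = n113959 := d16_1 D115008 (iv4 D113959) (iv5 D52604) F40359 F20063 (iv4 F20214) D25731 D53023 (iv2 F83767)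
theorem F179086 : act 0 n115008 = n114913 := d18_2 (iv1 F83770) D115008 F179005 (iv5 F177634) (iv4 D113997) (iv0 F177322) (iv4 F178445) F179002 (iv5 D114908)
theorem F179087 : act 1 n115008 = n114912 := d18_6 F177626 (iv4 D25735) (iv1 F37060) (iv4 F40661) D53067 D115008 F179004 (iv0 D106342) (iv5 D49144)
def n115009 : Q := act 0 n53069
theorem D115009 : act 0 n53069 = n115009 := rfl
theorem F179088 : act 1 n114899 = n115009 := d15_0 (iv0 D115009) (iv7 F177825) D114899
def n115010 : Q := act 1 n53069
theorem D115010 : act 1 n53069 = n115010 := rfl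
def n115011 : Q := act 2 n53069
theorem D115011 : act 2 n53069 = n115011 := rfl
theorem F179089 : act 3 n115011 = n114888 := d0_2 D53069 D115011 (iv2 D114888) (iv3 D53011) (iv2 F177817)
theorem F179090 : act 7 n115011 = n114899 := d4_2 F177825 D115011 (iv2 D114899)
theorem F179092 : act 1 n115010 = n114899 := d15_1 D115010 (iv7 F179090) (iv2 D115011)
theorem F179093 : act 1 n114898 = n115011 := d15_1 D114898 F179090 (iv2 D114899)
def n115012 : Q := act 4 n53069
theorem D115012 : act 4 n53069 = n115012 := rfl
theorem F179094 : act 3 n115012 = n106355 := d5_1 D115012 (iv4 D106355) (iv3 D49147) F177643 D53069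
theorem F179095 : act 7 n115012 = n114900 := d11_2 F177825 D115012 (iv4 D114900)
def n115013 : Q := act 5 n53069
theorem D115013 : act 5 n53069 = n115013 := rfl
theorem F179096 : act 3 n115013 = n53071 := d6_1 D115013 (iv5 D53071) D53069
theorem F179097 : act 7 n115013 = n114901 := d13_2 F177825 D115013 (iv5 D114901)
def n115014 : Q := act 6 n53069
theorem D115014 : act 6 n53069 = n115014 := rfl
theorem F179098 : act 3 n115014 = n53072 := d7_1 D115014 (iv6 D53072) D53069
def n115015 : Q := act 0 n53071
theorem D115015 : act 0 n53071 = n115015 := rfl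
theorem F179099 : act 5 n115015 = n105406 := d17_3 D25744 D53071 D115015 F161750 (iv5 F161857) (iv0 D105460) (iv5 D48762) (iv0 D23781) (iv4 F20216)
theorem F179100 : act 1 n53076 = n115015 := d15_0 (iv0 D115015) (iv7 F177828) F177827
theorem F179101 : act 2 n114411 = n115015 := d2_3 F179099 F161749 D114411
theorem F179102 : act 7 n114892 = n115015 := d15_2 F178442 D114892 (iv2 F179101)
def n115016 : Q := act 1 n53071
theorem D115016 : act 1 n53071 = n115016 := rfl
theorem F179103 : act 1 n115016 = n53076 := d15_1 D115016 (iv7 F177821) F177820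
theorem F179104 : act 7 n115016 = n114411 := d15_2 (iv0 D115015) D115016 F179101
theorem F179105 : act 5 n115016 = n114412 := d17_7 F178207 (iv5 F178205) (iv1 D106366) (iv5 D49149) F177643 D53071 D115016 F179002 F178999
theorem F179106 : act 2 n114892 = n115016 := d4_3 F179104 F179101 (iv7 F179102)
def n115017 : Q := act 4 n53071
theorem D115017 : act 4 n53071 = n115017 := rfl
theorem F179107 : act 2 n115017 = n114893 := d1_1 D115017 (iv4 D114893) F177820
theorem F179108 : act 7 n115017 = n114903 := d11_2 F177828 D115017 (iv4 D114903)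
def n115018 : Q := act 6 n53071
theorem D115018 : act 6 n53071 = n115018 := rfl
theorem F179109 : act 2 n115018 = n114894 := d3_1 D115018 (iv6 D114894) F177820
def n115019 : Q := act 0 n53074
theorem D115019 : act 0 n53074 = n115019 := rfl
theorem F179110 : act 1 n114888 = n115019 := d15_0 (iv0 D115019) (iv7 F177818) D114888
def n115020 : Q := act 1 n53074
theorem D115020 : act 1 n53074 = n115020 := rfl
def n115021 : Q := act 2 n53074
theorem D115021 : act 2 n53074 = n115021 := rfl
theorem F179111 : act 3 n115021 = n114899 := d0_2 D53074 D115021 (iv2 D114899) (iv3 D53016) F177823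
theorem F179112 : act 7 n115021 = n114888 := d4_2 F177818 D115021 (iv2 D114888)
theorem F179113 : act 1 n115021 = n114886 := d15_0 (iv0 D114886) F177818 D115021
theorem F179114 : act 1 n115020 = n114888 := d15_1 D115020 (iv7 F179112) (iv2 D115021)
theorem F179115 : act 1 n114887 = n115021 := d15_1 D114887 F179112 (iv2 D114888)
def n115022 : Q := act 4 n53074
theorem D115022 : act 4 n53074 = n115022 := rfl
theorem F179116 : act 3 n115022 = n106377 := d5_1 D115022 (iv4 D106377) (iv3 D49152) F177650 D53074
theorem F179117 : act 7 n115022 = n114889 := d11_2 F177818 D115022 (iv4 D114889)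
def n115023 : Q := act 5 n53074
theorem D115023 : act 5 n53074 = n115023 := rfl
theorem F179118 : act 3 n115023 = n53076 := d6_1 D115023 (iv5 D53076) D53074
theorem F179119 : act 7 n115023 = n114890 := d13_2 F177818 D115023 (iv5 D114890)
def n115024 : Q := act 6 n53074
theorem D115024 : act 6 n53074 = n115024 := rfl
theorem F179120 : act 3 n115024 = n53077 := d7_1 D115024 (iv6 D53077) D53074
def n115025 : Q := act 4 n53076
theorem D115025 : act 4 n53076 = n115025 := rfl
theorem F179121 : act 2 n115025 = n114903 := d1_1 D115025 (iv4 D114903) F177827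
theorem F179122 : act 7 n115025 = n114893 := d11_2 F177821 D115025 (iv4 D114893)
def n115026 : Q := act 6 n53076
theorem D115026 : act 6 n53076 = n115026 := rfl
theorem F179123 : act 2 n115026 = n114904 := d3_1 D115026 (iv6 D114904) F177827
def n115027 : Q := act 5 n53077
theorem D115027 : act 5 n53077 = n115027 := rfl
theorem F179124 : act 2 n115027 = n114492 := d2_1 D115027 F178549 F177829
theorem F179125 : act 7 n115027 = n114493 := d13_2 F178913 D115027 F178915
theorem F179126 : act 0 n115027 = n75152 := d17_2 (iv1 F178573) D115027 (iv5 D75152) (iv4 F145381) D105405 F161906 (iv5 D105476) F161860 F136680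
theorem F179127 : act 1 n115027 = n75147 := d17_6 D48723 D105390 F163453 (iv5 D106386) (iv4 F177654) D115027 (iv5 D75147) (iv0 D34412) (iv4 F37036)
def n115028 : Q := act 3 n53078
theorem D115028 : act 3 n53078 = n115028 := rfl
theorem F179128 : act 7 n115028 = n114909 := d8_2 (iv7 F177456) D115028 (iv3 D114909)
def n115029 : Q := act 4 n53078
theorem D115029 : act 4 n53078 = n115029 := rfl
theorem F179129 : act 2 n115029 = n114907 := d1_1 D115029 (iv4 D114907) F177451
theorem F179130 : act 7 n115029 = n114910 := d11_2 (iv7 F177456) D115029 (iv4 D114910)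
theorem F179131 : act 1 n115029 = n106344 := d18_6 (iv1 F178230) F161725 F178183 F178439 F178436 D115029 (iv4 D106344) D106343 (iv5 F177634)
def n115030 : Q := act 4 n53079
theorem D115030 : act 4 n53079 = n115030 := rfl
theorem F179132 : act 2 n115030 = n114910 := d1_1 D115030 (iv4 D114910) (iv2 F177455)
theorem F179133 : act 7 n115030 = n114907 := d11_2 F177454 D115030 (iv4 D114907)
theorem F179134 : act 0 n115030 = n106344 := d18_2 (iv1 F83774) D115030 (iv4 D106344) (iv5 D49144) F37462 D23983 F177650 F40666 (iv5 F83739)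
def n115031 : Q := act 6 n53079
theorem D115031 : act 6 n53079 = n115031 := rfl
theorem F179135 : act 2 n115031 = n114911 := d3_1 D115031 (iv6 D114911) (iv2 F177455)
def n115032 : Q := act 0 n53080
theorem D115032 : act 0 n53080 = n115032 := rfl
theorem F179136 : act 4 n115032 = n76285 := d18_3 (iv1 D53079) D53080 D115032 (iv5 F178032) (iv4 F178035) (iv0 F178437) (iv4 F136459) (iv0 F178444) F120056
theorem F179137 : act 1 n114916 = n115032 := d15_0 (iv0 D115032) (iv7 F179084) F179083
def n115033 : Q := act 1 n53080
theorem D115033 : act 1 n53080 = n115033 := rfl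
theorem F179138 : act 1 n115033 = n114916 := d15_1 D115033 (iv7 D114916) (iv2 F83775)
theorem F179139 : act 4 n115033 = n76286 := d18_7 (iv1 F77607) (iv4 F177795) (iv1 D23782) (iv4 F20216) D25746 D53080 D115033 F163412 F163410
def n115034 : Q := act 3 n53080
theorem D115034 : act 3 n53080 = n115034 := rfl
theorem F179140 : act 6 n115034 = n53095 := d7_2 (iv6 F83776) D115034 (iv3 D53095)
def n115035 : Q := act 5 n53080
theorem D115035 : act 5 n53080 = n115035 := rfl
theorem F179141 : act 2 n115035 = n114915 := d2_1 D115035 (iv5 D114915) (iv2 F83775)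
theorem F179142 : act 7 n115035 = n113959 := d13_2 F179084 D115035 (iv5 F179085)
theorem F179143 : act 4 n115035 = n113960 := d16_2 D53080 D115035 F177302 F83106 F40360 (iv4 F40656) (iv5 F83739) (iv7 D53023) (iv2 F40667)
def n115036 : Q := act 4 n53081
theorem D115036 : act 4 n53081 = n115036 := rfl
theorem F179144 : act 2 n115036 = n76495 := d1_1 D115036 (iv4 D76495) F83779
theorem F179145 : act 5 n115036 = n76495 := d16_1 D115036 (iv4 D76495) (iv5 D34941) F27790 (iv5 F25934) D34018 (iv5 F83782) F83781 F83779
theorem F179146 : act 0 n115036 = n53103 := d17_0 F83812 F83797 (iv5 D53096) (iv4 D25753) (iv5 D12223) D12222 D25749 F83778 D115036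
theorem F179147 : act 1 n115036 = n53098 := d18_6 F82833 (iv4 D28709) (iv1 F23475) (iv4 F43319) (iv5 F83777) D115036 (iv4 D53098) F83361 F83359
def n115037 : Q := act 4 n53082
theorem D115037 : act 4 n53082 = n115037 := rfl
theorem F179148 : act 7 n115037 = n76495 := d11_2 (iv7 F83781) D115037 (iv4 D76495)
theorem F179149 : act 0 n115037 = n53098 := d17_0 F83801 (iv1 D53094) D53096 F83796 F55035 F27626 D25747 D53082 D115037
theorem F179150 : act 1 n115037 = n53103 := d18_6 F47543 F47541 (iv1 F25938) D34018 (iv5 F83782) D115037 (iv4 D53103) (iv0 F55319) (iv5 D34952)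
def n115038 : Q := act 1 n53083
theorem D115038 : act 1 n53083 = n115038 := rfl
theorem F179151 : act 1 n115038 = n53086 := d15_1 D115038 (iv7 F114189) F114188
theorem F179152 : act 7 n115038 = n76519 := d15_2 F177686 D115038 (iv2 F177683)
theorem F179153 : act 5 n115038 = n114346 := d17_7 (iv1 F114184) F114186 F83806 F55161 D53091 F83790 D115038 F178316 (iv4 D76223)
theorem F179154 : act 4 n115038 = n60447 := d17_9 (iv1 F94982) (iv5 D34820) (iv1 F27679) (iv5 F55112) (iv4 F114342) F114343 (iv0 F83791) F83790 D115038
theorem F179155 : act 2 n114346 = n115038 := d1_3 F179154 (iv2 F94981) D114346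
def n115039 : Q := act 3 n53083
theorem D115039 : act 3 n53083 = n115039 := rfl
def n115040 : Q := act 6 n53083
theorem D115040 : act 6 n53083 = n115040 := rfl
theorem F179156 : act 4 n115040 = n53084 := d10_1 D115040 (iv6 D53084) D53083
def n115041 : Q := act 0 n53084
theorem D115041 : act 0 n53084 = n115041 := rfl
def n115042 : Q := act 1 n53084
theorem D115042 : act 1 n53084 = n115042 := rfl
def n115043 : Q := act 7 n53084
theorem D115043 : act 7 n53084 = n115043 := rfl
theorem F179157 : act 5 n115043 = n106485 := d13_1 D115043 (iv7 D106485) (iv5 F83783)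
def n115044 : Q := act 4 n53085
theorem D115044 : act 4 n53085 = n115044 := rfl
theorem F179158 : act 2 n115044 = n92822 := d1_1 D115044 (iv4 D92822) (iv2 F83784)
theorem F179159 : act 7 n115044 = n92824 := d11_2 (iv7 F83786) D115044 (iv4 D92824)
theorem F179160 : act 0 n115044 = n114284 := d18_2 F83787 D115044 (iv4 D114284) F178051 (iv4 F142205) F142208 F97639 (iv0 D42403) D42405
theorem F179161 : act 1 n115044 = n114287 := d18_6 (iv1 F83332) (iv4 F82923) (iv1 F82922) F40684 D53085 D115044 (iv4 D114287) F178087 F178086
def n115045 : Q := act 6 n53085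
theorem D115045 : act 6 n53085 = n115045 := rfl
theorem F179162 : act 2 n115045 = n92823 := d3_1 D115045 (iv6 D92823) (iv2 F83784)
theorem F179163 : act 3 n115045 = n53087 := d7_1 D115045 (iv6 D53087) (iv3 F83785)
def n115046 : Q := act 3 n53086
theorem D115046 : act 3 n53086 = n115046 := rfl
def n115047 : Q := act 6 n53086
theorem D115047 : act 6 n53086 = n115047 := rfl
theorem F179164 : act 4 n115047 = n53087 := d10_1 D115047 (iv6 D53087) D53086
def n115048 : Q := act 0 n53087
theorem D115048 : act 0 n53087 = n115048 := rfl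
def n115049 : Q := act 1 n53087
theorem D115049 : act 1 n53087 = n115049 := rfl
def n115050 : Q := act 7 n53087
theorem D115050 : act 7 n53087 = n115050 := rfl
def n115051 : Q := act 4 n53088
theorem D115051 : act 4 n53088 = n115051 := rfl
def n115052 : Q := act 6 n53088
theorem D115052 : act 6 n53088 = n115052 := rfl
theorem F179165 : act 3 n115052 = n53090 := d7_1 D115052 (iv6 D53090) D53088
def n115053 : Q := act 3 n53089
theorem D115053 : act 3 n53089 = n115053 := rfl
theorem F179166 : act 5 n115053 = n115046 := d6_2 (iv5 F83788) D115053 (iv3 D115046)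
def n115054 : Q := act 6 n53089
theorem D115054 : act 6 n53089 = n115054 := rfl
theorem F179167 : act 4 n115054 = n53090 := d10_1 D115054 (iv6 D53090) D53089
def n115055 : Q := act 0 n53090
theorem D115055 : act 0 n53090 = n115055 := rfl
def n115056 : Q := act 1 n53090
theorem D115056 : act 1 n53090 = n115056 := rfl
def n115057 : Q := act 7 n53090
theorem D115057 : act 7 n53090 = n115057 := rfl
def n115058 : Q := act 3 n53091
theorem D115058 : act 3 n53091 = n115058 := rfl
theorem F179168 : act 5 n115058 = n115039 := d6_2 (iv5 F83790) D115058 (iv3 D115039)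
def n115059 : Q := act 6 n53091
theorem D115059 : act 6 n53091 = n115059 := rfl
theorem F179169 : act 4 n115059 = n53092 := d10_1 D115059 (iv6 D53092) D53091
def n115060 : Q := act 0 n53092
theorem D115060 : act 0 n53092 = n115060 := rfl
def n115061 : Q := act 1 n53092
theorem D115061 : act 1 n53092 = n115061 := rfl
def n115062 : Q := act 7 n53092
theorem D115062 : act 7 n53092 = n115062 := rfl
def n115063 : Q := act 3 n53093
theorem D115063 : act 3 n53093 = n115063 := rfl
def n115064 : Q := act 6 n53093
theorem D115064 : act 6 n53093 = n115064 := rfl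
theorem F179170 : act 4 n115064 = n76289 := d10_1 D115064 (iv6 D76289) (iv4 F83792)
def n115065 : Q := act 3 n53094
theorem D115065 : act 3 n53094 = n115065 := rfl
def n115066 : Q := act 6 n53094
theorem D115066 : act 6 n53094 = n115066 := rfl
theorem F179171 : act 4 n115066 = n76291 := d10_1 D115066 (iv6 D76291) (iv4 F83793)
def n115067 : Q := act 0 n53095
theorem D115067 : act 0 n53095 = n115067 := rfl
def n115068 : Q := act 1 n53095
theorem D115068 : act 1 n53095 = n115068 := rfl
def n115069 : Q := act 2 n53095
theorem D115069 : act 2 n53095 = n115069 := rfl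
def n115070 : Q := act 5 n53095
theorem D115070 : act 5 n53095 = n115070 := rfl
theorem F179172 : act 3 n115070 = n53096 := d6_1 D115070 (iv5 D53096) D53095
theorem F179173 : act 7 n115070 = n76232 := d13_2 F177501 D115070 (iv5 F177500)
def n115071 : Q := act 6 n53096
theorem D115071 : act 6 n53096 = n115071 := rfl
theorem F179174 : act 2 n115071 = n114015 := d3_1 D115071 F177499 (iv2 F83794)
theorem F179175 : act 4 n115071 = n76233 := d10_1 D115071 (iv6 D76233) (iv4 F83796)
def n115072 : Q := act 1 n53097
theorem D115072 : act 1 n53097 = n115072 := rfl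
theorem F179176 : act 1 n115072 = n54810 := d15_1 D115072 (iv7 F177969) F177968
theorem F179177 : act 7 n115072 = n54861 := d15_2 (iv0 F178138) D115072 (iv2 F178134)
theorem F179178 : act 5 n115072 = n68019 := d17_7 (iv1 F85000) (iv5 F86586) (iv1 F86589) F42507 (iv4 F40672) D53097 D115072 (iv0 F104227) (iv4 D68095)
theorem F179179 : act 4 n114645 = n115072 := d18_3 (iv1 D52915) D52916 D114645 F179178 (iv4 D68019) D68017 (iv4 F104138) (iv0 F104139) F87982
theorem F179180 : act 2 n54860 = n115072 := d4_3 F179177 (iv2 F178134) (iv7 F178139)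
def n115073 : Q := act 4 n53097
theorem D115073 : act 4 n53097 = n115073 := rfl
theorem F179181 : act 7 n115073 = n54862 := d11_2 (iv7 F83800) D115073 (iv4 D54862)
def n115074 : Q := act 6 n53097
theorem D115074 : act 6 n53097 = n115074 := rfl
theorem F179182 : act 3 n115074 = n53099 := d7_1 D115074 (iv6 D53099) (iv3 F83799)
theorem F179183 : act 5 n115074 = n106745 := d12_1 D115074 (iv6 D106745) F77992 (iv6 F40673) D53097
def n115075 : Q := act 3 n53098
theorem D115075 : act 3 n53098 = n115075 := rfl
theorem F179184 : act 5 n115075 = n115065 := d6_2 (iv5 F83801) D115075 (iv3 D115065)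
def n115076 : Q := act 6 n53098
theorem D115076 : act 6 n53098 = n115076 := rfl
theorem F179185 : act 4 n115076 = n53099 := d10_1 D115076 (iv6 D53099) D53098
def n115077 : Q := act 0 n53099
theorem D115077 : act 0 n53099 = n115077 := rfl
def n115078 : Q := act 1 n53099
theorem D115078 : act 1 n53099 = n115078 := rfl
def n115079 : Q := act 7 n53099
theorem D115079 : act 7 n53099 = n115079 := rfl
theorem F179186 : act 5 n115079 = n106748 := d13_1 D115079 (iv7 D106748) (iv5 F83802)
def n115080 : Q := act 0 n53101
theorem D115080 : act 0 n53101 = n115080 := rfl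
theorem F179187 : act 5 n115080 = n54860 := d17_1 D115080 (iv1 F177971) (iv5 D114189) F83290 D54527 (iv0 F86144) F42356 (iv0 F42831) (iv4 F83808)
theorem F179188 : act 4 n115080 = n68018 := d20_2 (iv4 F83808) D115080 (iv3 F166761) (iv1 F166759) F104005 (iv4 F84937) F84939 F54113 (iv3 F54112) F50388
theorem F179189 : act 3 n115080 = n90590 := d20_5 F27790 F20224 D25757 D53101 D115080 F139475 (iv1 F138569) (iv4 D43432) (iv3 F82974) (iv1 F55162)
theorem F179190 : act 6 n115080 = n71948 := d21_5 D52124 (iv1 F87494) (iv5 D55283) (iv6 F83809) D115080 (iv5 D71948) (iv1 F87033) (iv5 D55036) (iv6 F82393) (iv1 F82395)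
theorem F179191 : act 2 n68019 = n115080 := d15_3 (iv0 D115080) (iv0 F83810) (iv7 F104134)
theorem F179192 : act 1 n114050 = n115080 := d15_0 (iv0 D115080) (iv7 F94991) (iv2 F177542)
theorem F179193 : act 7 n115080 = n92445 := d15_2 (iv0 F177546) F179192 F142209
def n115081 : Q := act 0 n53102
theorem D115081 : act 0 n53102 = n115081 := rfl
theorem F179194 : act 5 n115081 = n92444 := d17_3 (iv1 F82922) D53102 D115081 F142205 (iv5 F178051) (iv0 D52747) (iv5 D25607) D25606 (iv4 F82923)
theorem F179195 : act 2 n71946 = n115081 := d15_3 (iv0 D115081) (iv0 F138565) (iv7 F138566)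
theorem F179196 : act 7 n115081 = n92443 := d4_2 (iv7 F138566) F179195 F142199
theorem F179197 : act 4 n114482 = n115081 := d18_3 F65153 D52843 D114482 F179194 F142205 (iv0 F94211) (iv4 F82969) (iv0 D42206) D42208
def n115082 : Q := act 6 n53102
theorem D115082 : act 6 n53102 = n115082 := rfl
theorem F179198 : act 3 n115082 = n53104 := d7_1 D115082 (iv6 D53104) (iv3 F83811)
theorem F179199 : act 5 n115082 = n106131 := d12_1 D115082 (iv6 D106131) (iv5 D49055) (iv6 F40685) D53102
def n115083 : Q := act 3 n53103
theorem D115083 : act 3 n53103 = n115083 := rfl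
theorem F179200 : act 5 n115083 = n115063 := d6_2 (iv5 F83812) D115083 (iv3 D115063)
def n115084 : Q := act 6 n53103
theorem D115084 : act 6 n53103 = n115084 := rfl
theorem F179201 : act 4 n115084 = n53104 := d10_1 D115084 (iv6 D53104) D53103
def n115085 : Q := act 0 n53104
theorem D115085 : act 0 n53104 = n115085 := rfl
def n115086 : Q := act 1 n53104
theorem D115086 : act 1 n53104 = n115086 := rfl
theorem F179202 : act 5 n78970 = n115086 := d21_6 (iv5 D16904) F26349 D8152 (iv6 F28366) D35943 D78970 (iv1 D115086) F83813 (iv6 D49056) F37359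
def n115087 : Q := act 7 n53104
theorem D115087 : act 7 n53104 = n115087 := rfl
theorem F179203 : act 5 n115087 = n106134 := d13_1 D115087 (iv7 D106134) (iv5 F83813)
def n115088 : Q := act 3 n53105
theorem D115088 : act 3 n53105 = n115088 := rfl
theorem F179204 : act 4 n115088 = n62956 := d5_2 D53105 D115088 (iv3 D62956) (iv4 D29781) (iv3 F40689)
theorem F179205 : act 7 n115088 = n63021 := d8_2 (iv7 F83815) D115088 (iv3 D63021)
def n115089 : Q := act 3 n53106
theorem D115089 : act 3 n53106 = n115089 := rfl
theorem F179206 : act 4 n115089 = n106808 := d5_2 D53106 D115089 (iv3 D106808) (iv4 D49351) (iv3 F40692)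
theorem F179207 : act 7 n115089 = n64085 := d8_2 (iv7 F83819) D115089 (iv3 D64085)
def n115090 : Q := act 6 n53106
theorem D115090 : act 6 n53106 = n115090 := rfl
theorem F179208 : act 2 n115090 = n63023 := d3_1 D115090 (iv6 D63023) (iv2 F83818)
theorem F179209 : act 4 n115090 = n53107 := d10_1 D115090 (iv6 D53107) D53106
theorem F179210 : act 0 n60702 = n115090 := d21_4 D59351 (iv1 F95292) (iv5 D60701) D60702 (iv6 D115090) (iv5 F161936) (iv1 D105488) (iv5 D48772) F37062 D28189
theorem F179211 : act 0 n115090 = n60848 := d20_1 (iv4 F179209) (iv4 D60848) D60847 (iv1 F96469) F96467 (iv4 F96476) (iv1 F96477) F95150 (iv3 F98725) F98728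
theorem F179212 : act 1 n59528 = n107211 := d18_6 F98728 (iv4 F179209) F179211 (iv4 D60848) F95300 (iv4 F93954) (iv4 D107211) F102179 (iv5 F98727)
theorem F179213 : act 0 n59514 = n105666 := d20_4 D107211 (iv1 F179212) F93954 (iv3 F93938) (iv3 D105666) D105667 F162264 F95035 F82536 (iv1 F102179)
theorem F179214 : act 1 n53307 = n105666 := d15_0 (iv0 F179213) (iv7 D59514) (iv2 F84153)
def n115091 : Q := act 1 n53108
theorem D115091 : act 1 n53108 = n115091 := rfl
theorem F179215 : act 1 n115091 = n64095 := d15_1 D115091 (iv7 D64095) (iv2 F83824)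
theorem F179216 : act 7 n115091 = n63167 := d15_2 (iv0 F168431) D115091 (iv2 F165673)
theorem F179217 : act 2 n64094 = n115091 := d4_3 F179216 (iv2 F165673) (iv7 F168152)
theorem F179218 : act 3 n53120 = n115091 := d8_3 F179216 (iv3 D63167) (iv7 F99270)
theorem F179219 : act 4 n115091 = n62190 := d20_6 D29452 F49207 F46586 (iv3 F48013) (iv1 F83853) F179218 (iv1 D62190) F47185 F23342 D14005
def n115092 : Q := act 7 n53108
theorem D115092 : act 7 n53108 = n115092 := rfl
theorem F179220 : act 2 n115092 = n64095 := d4_1 D115092 (iv7 D64095) (iv2 F83824)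
theorem F179221 : act 3 n115092 = n62966 := d8_1 D115092 (iv7 D62966) (iv3 F83825)
theorem F179222 : act 5 n115092 = n65430 := d13_1 D115092 (iv7 D65430) (iv5 F83826)
theorem F179223 : act 6 n115092 = n63080 := d14_1 D115092 (iv7 D63080) (iv6 D29835) (iv7 F40702) D53108
theorem F179224 : act 1 n64094 = n115092 := d15_1 D64094 (iv7 D115092) F83824
theorem F179225 : act 1 n115092 = n63167 := d15_1 F179224 (iv7 F179216) (iv2 F179217)
def n115093 : Q := act 0 n53109
theorem D115093 : act 0 n53109 = n115093 := rfl
def n115094 : Q := act 1 n53109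
theorem D115094 : act 1 n53109 = n115094 := rfl
def n115095 : Q := act 5 n53109
theorem D115095 : act 5 n53109 = n115095 := rfl
theorem F179226 : act 2 n115095 = n64100 := d2_1 D115095 F99711 F99072
theorem F179227 : act 3 n115095 = n53110 := d6_1 D115095 (iv5 D53110) D53109
theorem F179228 : act 6 n115095 = n53110 := d12_2 (iv6 F83828) D115095 (iv5 D53110) F40695 F48302
theorem F179229 : act 7 n115095 = n64237 := d13_2 F95527 D115095 F100038
theorem F179230 : act 4 n64242 = n115095 := d10_3 F179228 F83831 D64242
def n115096 : Q := act 0 n53112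
theorem D115096 : act 0 n53112 = n115096 := rfl
def n115097 : Q := act 1 n53112
theorem D115097 : act 1 n53112 = n115097 := rfl
def n115098 : Q := act 2 n53112
theorem D115098 : act 2 n53112 = n115098 := rfl
theorem F179231 : act 3 n115098 = n61315 := d0_2 D53112 D115098 (iv2 D61315) (iv3 D29027) (iv2 F40710)
theorem F179232 : act 4 n115098 = n63717 := d1_2 (iv4 F83837) D115098 (iv2 D63717)
def n115099 : Q := act 5 n53112
theorem D115099 : act 5 n53112 = n115099 := rfl
theorem F179233 : act 3 n115099 = n53113 := d6_1 D115099 (iv5 D53113) D53112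
def n115100 : Q := act 6 n53112
theorem D115100 : act 6 n53112 = n115100 := rfl
theorem F179234 : act 3 n115100 = n53114 := d7_1 D115100 (iv6 D53114) D53112
theorem F179235 : act 4 n115100 = n63719 := d10_1 D115100 (iv6 D63719) (iv4 F83837)
def n115101 : Q := act 6 n53113
theorem D115101 : act 6 n53113 = n115101 := rfl
theorem F179236 : act 2 n115101 = n61319 := d3_1 D115101 (iv6 D61319) (iv2 F83838)
def n115102 : Q := act 0 n53114
theorem D115102 : act 0 n53114 = n115102 := rfl
theorem F179237 : act 4 n115102 = n60722 := d18_3 F81414 (iv4 F83840) D115102 F169870 F169874 F173523 F173521 F81337 D51581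
theorem F179238 : act 6 n63721 = n115102 := d10_0 F179237 (iv6 F96692) F99087
theorem F179239 : act 7 n61321 = n115102 := d11_0 F179237 (iv7 F170820) F170823
theorem F179240 : act 1 n61323 = n115102 := d18_6 F173090 (iv4 F174523) F174524 F81776 (iv5 F46675) (iv4 F95806) F179237 F169869 (iv5 F93106)
theorem F179241 : act 2 n115102 = n61320 := d15_3 (iv0 D61320) D61321 F179239
theorem F179242 : act 6 n61320 = n62512 := d3_2 F179238 F179241 F170688
def n115103 : Q := act 1 n53114
theorem D115103 : act 1 n53114 = n115103 := rfl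
theorem F179243 : act 1 n115103 = n61323 := d15_1 D115103 (iv7 D61323) (iv2 F83839)
theorem F179244 : act 7 n115103 = n61320 := d15_2 (iv0 D115102) D115103 (iv2 F179241)
theorem F179245 : act 2 n61321 = n115103 := d4_3 F179244 (iv2 F179241) (iv7 F179239)
theorem F179246 : act 4 n115103 = n107626 := d1_2 F170823 F179245 (iv2 F170818)
def n115104 : Q := act 5 n53114
theorem D115104 : act 5 n53114 = n115104 := rfl
theorem F179247 : act 2 n115104 = n61322 := d2_1 D115104 (iv5 D61322) (iv2 F83839)
def n115105 : Q := act 7 n53114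
theorem D115105 : act 7 n53114 = n115105 := rfl
theorem F179248 : act 2 n115105 = n61323 := d4_1 D115105 (iv7 D61323) (iv2 F83839)
theorem F179249 : act 4 n115105 = n53115 := d11_1 D115105 (iv7 D53115) (iv4 F83840)
theorem F179250 : act 1 n61321 = n115105 := d15_1 D61321 (iv7 D115105) F83839
theorem F179251 : act 1 n115105 = n61320 := d15_1 F179250 (iv7 F179244) (iv2 F179245)
def n115106 : Q := act 0 n53116
theorem D115106 : act 0 n53116 = n115106 := rfl
def n115107 : Q := act 1 n53116
theorem D115107 : act 1 n53116 = n115107 := rfl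
def n115108 : Q := act 2 n53116
theorem D115108 : act 2 n53116 = n115108 := rfl
theorem F179252 : act 3 n115108 = n61055 := d0_2 D53116 D115108 F95576 F46571 (iv2 F40714)
theorem F179253 : act 4 n115108 = n63734 := d1_2 (iv4 F83847) D115108 (iv2 D63734)
def n115109 : Q := act 5 n53116
theorem D115109 : act 5 n53116 = n115109 := rfl
theorem F179254 : act 3 n115109 = n53117 := d6_1 D115109 (iv5 D53117) D53116
def n115110 : Q := act 6 n53116
theorem D115110 : act 6 n53116 = n115110 := rfl
theorem F179255 : act 3 n115110 = n53118 := d7_1 D115110 (iv6 D53118) D53116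
theorem F179256 : act 4 n115110 = n63736 := d10_1 D115110 (iv6 D63736) (iv4 F83847)
def n115111 : Q := act 6 n53117
theorem D115111 : act 6 n53117 = n115111 := rfl
theorem F179257 : act 2 n115111 = n63161 := d3_1 D115111 (iv6 D63161) (iv2 F83848)
def n115112 : Q := act 0 n53118
theorem D115112 : act 0 n53118 = n115112 := rfl
def n115113 : Q := act 1 n53118
theorem D115113 : act 1 n53118 = n115113 := rfl
theorem F179258 : act 1 n115113 = n63165 := d15_1 D115113 (iv7 D63165) (iv2 F83849)
def n115114 : Q := act 5 n53118
theorem D115114 : act 5 n53118 = n115114 := rfl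
theorem F179259 : act 2 n115114 = n63164 := d2_1 D115114 (iv5 D63164) (iv2 F83849)
def n115115 : Q := act 7 n53118
theorem D115115 : act 7 n53118 = n115115 := rfl
theorem F179260 : act 2 n115115 = n63165 := d4_1 D115115 (iv7 D63165) (iv2 F83849)
theorem F179261 : act 4 n115115 = n53121 := d11_1 D115115 (iv7 D53121) (iv4 F83850)
theorem F179262 : act 1 n63165 = n115112 := d15_0 (iv0 D115112) D115115 F179260
theorem F179263 : act 1 n63163 = n115115 := d15_1 D63163 (iv7 D115115) F83849
theorem F179264 : act 4 n115112 = n60912 := d18_7 F93823 (iv4 F167102) F167104 (iv4 D74253) (iv5 F53464) (iv4 F98431) F179262 (iv0 F174544) F167619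
theorem F179265 : act 6 n63190 = n115112 := d10_0 F179264 (iv6 F171903) F171904
theorem F179266 : act 1 n115115 = n63162 := d15_0 (iv0 D63162) D63165 (iv2 F179260)
def n115116 : Q := act 4 n53119
theorem D115116 : act 4 n53119 = n115116 := rfl
theorem F179267 : act 2 n115116 = n63168 := d1_1 D115116 (iv4 D63168) (iv2 F99267)
theorem F179268 : act 6 n115116 = n63199 := d10_2 (iv6 F83851) D115116 (iv4 D63199)
theorem F179269 : act 7 n115116 = n63172 := d11_2 (iv7 F99268) D115116 (iv4 D63172)
theorem F179270 : act 0 n53124 = n115116 := d20_7 (iv4 F96557) (iv1 F164165) (iv4 D106592) (iv3 F168068) (iv1 D60487) (iv3 F93579) F93580 (iv4 D115116) F165527 (iv1 F78043)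
theorem F179271 : act 1 n63168 = n53150 := d15_0 (iv0 F167620) (iv7 F179269) F179267
def n115117 : Q := act 5 n53119
theorem D115117 : act 5 n53119 = n115117 := rfl
theorem F179272 : act 2 n115117 = n63169 := d2_1 D115117 (iv5 D63169) (iv2 F99267)
theorem F179273 : act 3 n115117 = n106822 := d6_1 D115117 (iv5 D106822) (iv3 F165527)
theorem F179274 : act 6 n115117 = n112098 := d12_2 (iv6 F83851) D115117 (iv5 D112098) F81751 F81750
theorem F179275 : act 7 n115117 = n63173 := d13_2 (iv7 F99268) D115117 (iv5 D63173)
theorem F179276 : act 0 n115117 = n74287 := d21_1 D115117 F111491 F99925 (iv1 D61302) (iv6 D29022) F23070 (iv1 F38569) F38567 D25769 D53119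
theorem F179277 : act 0 n107186 = n115117 := d21_10 (iv5 D115117) F83852 F53464 F53462 (iv1 F84034) (iv6 F99208) (iv5 F99207) F99365 F99364 D107186
def n115118 : Q := act 4 n53120
theorem D115118 : act 4 n53120 = n115118 := rfl
theorem F179278 : act 2 n115118 = n63172 := d1_1 D115118 (iv4 D63172) (iv2 F99269)
theorem F179279 : act 7 n115118 = n63168 := d11_2 (iv7 F99270) D115118 (iv4 D63168)
theorem F179280 : act 0 n115118 = n53124 := d20_1 D115118 (iv4 F93580) F93579 F168073 (iv3 D29451) D29452 F49207 F46586 (iv3 F48013) (iv1 F83853)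
def n115119 : Q := act 6 n53120
theorem D115119 : act 6 n53120 = n115119 := rfl
theorem F179281 : act 2 n115119 = n63174 := d3_1 D115119 (iv6 D63174) (iv2 F99269)
theorem F179282 : act 5 n115119 = n61440 := d12_1 D115119 F95939 (iv5 D53362) D53363 F84188
theorem F179283 : act 7 n115119 = n63196 := d14_2 (iv7 F99270) D115119 (iv6 D63196) (iv7 F99260) (iv6 F81655)
theorem F179284 : act 0 n115119 = n53273 := d21_4 (iv5 F111491) F111493 F84188 D115119 F84120 (iv5 D30404) (iv1 F48534) (iv5 F83871) (iv6 F95922) (iv1 F97426)
theorem F179285 : act 0 n53277 = n115119 := d21_4 F97487 (iv1 F102009) (iv5 D63305) (iv6 F102012) (iv6 D115119) (iv5 F84188) F165210 F165208 (iv6 F99363) F99362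
def n115120 : Q := act 0 n53122
theorem D115120 : act 0 n53122 = n115120 := rfl
def n115121 : Q := act 1 n53122
theorem D115121 : act 1 n53122 = n115121 := rfl
def n115122 : Q := act 2 n53122
theorem D115122 : act 2 n53122 = n115122 := rfl
def n115123 : Q := act 5 n53122
theorem D115123 : act 5 n53122 = n115123 := rfl
theorem F179286 : act 3 n115123 = n53123 := d6_1 D115123 (iv5 D53123) D53122
def n115124 : Q := act 6 n53122
theorem D115124 : act 6 n53122 = n115124 := rfl
theorem F179287 : act 3 n115124 = n53124 := d7_1 D115124 (iv6 D53124) D53122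
def n115125 : Q := act 6 n53123
theorem D115125 : act 6 n53123 = n115125 := rfl
def n115126 : Q := act 5 n53124
theorem D115126 : act 5 n53124 = n115126 := rfl
def n115127 : Q := act 7 n53124
theorem D115127 : act 7 n53124 = n115127 := rfl
theorem F179288 : act 1 n63172 = n115127 := d15_1 (iv0 F167620) (iv7 D115127) (iv2 F83919)
theorem F179289 : act 1 n115127 = n63168 := d15_1 F179288 (iv7 F179279) F179278
def n115128 : Q := act 0 n53125
theorem D115128 : act 0 n53125 = n115128 := rfl
theorem F179290 : act 3 n115128 = n61052 := d20_5 (iv4 F80566) (iv1 F80568) F45567 D53125 D115128 (iv4 D61052) (iv1 D28935) D28937 F46571 D29861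
def n115129 : Q := act 1 n53125
theorem D115129 : act 1 n53125 = n115129 := rfl
def n115130 : Q := act 2 n53125
theorem D115130 : act 2 n53125 = n115130 := rfl
def n115131 : Q := act 5 n53125
theorem D115131 : act 5 n53125 = n115131 := rfl
theorem F179291 : act 3 n115131 = n53126 := d6_1 D115131 (iv5 D53126) D53125
def n115132 : Q := act 6 n53125
theorem D115132 : act 6 n53125 = n115132 := rfl
theorem F179292 : act 3 n115132 = n53127 := d7_1 D115132 (iv6 D53127) D53125
def n115133 : Q := act 6 n53126
theorem D115133 : act 6 n53126 = n115133 := rfl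
def n115134 : Q := act 0 n53127
theorem D115134 : act 0 n53127 = n115134 := rfl
def n115135 : Q := act 5 n53127
theorem D115135 : act 5 n53127 = n115135 := rfl
def n115136 : Q := act 7 n53127
theorem D115136 : act 7 n53127 = n115136 := rfl
def n115137 : Q := act 0 n53128
theorem D115137 : act 0 n53128 = n115137 := rfl
theorem F179293 : act 2 n53132 = n115137 := d15_3 (iv0 D115137) (iv0 D53128) D53132
theorem F179294 : act 6 n115137 = n63881 := d3_2 F99143 F179293 F99351
theorem F179295 : act 7 n115137 = n53130 := d4_2 D53132 F179293 (iv2 D53130)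
theorem F179296 : act 1 n53129 = n115137 := d15_1 D53129 F179295 (iv2 D53130)
def n115138 : Q := act 2 n53128
theorem D115138 : act 2 n53128 = n115138 := rfl
theorem F179297 : act 7 n53129 = n115138 := d15_2 (iv0 D53128) D53129 (iv2 D115138)
def n115139 : Q := act 3 n53128
theorem D115139 : act 3 n53128 = n115139 := rfl
def n115140 : Q := act 4 n53128
theorem D115140 : act 4 n53128 = n115140 := rfl
def n115141 : Q := act 5 n53128
theorem D115141 : act 5 n53128 = n115141 := rfl
def n115142 : Q := act 6 n53128
theorem D115142 : act 6 n53128 = n115142 := rfl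
def n115143 : Q := act 7 n53128
theorem D115143 : act 7 n53128 = n115143 := rfl
theorem F179298 : act 2 n115143 = n53129 := d4_1 D115143 F179297 (iv2 D115138)
def n115144 : Q := act 3 n53129
theorem D115144 : act 3 n53129 = n115144 := rfl
def n115145 : Q := act 4 n53129
theorem D115145 : act 4 n53129 = n115145 := rfl
def n115146 : Q := act 5 n53129
theorem D115146 : act 5 n53129 = n115146 := rfl
def n115147 : Q := act 6 n53129
theorem D115147 : act 6 n53129 = n115147 := rfl
def n115148 : Q := act 0 n53130
theorem D115148 : act 0 n53130 = n115148 := rfl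
theorem F179299 : act 1 n53132 = n115148 := d15_0 (iv0 D115148) (iv7 F179295) (iv2 F179293)
def n115149 : Q := act 1 n53130
theorem D115149 : act 1 n53130 = n115149 := rfl
theorem F179300 : act 1 n115149 = n53132 := d15_1 D115149 (iv7 D53132) D53130
def n115150 : Q := act 5 n53130
theorem D115150 : act 5 n53130 = n115150 := rfl
theorem F179301 : act 2 n115150 = n53131 := d2_1 D115150 (iv5 D53131) D53130
theorem F179302 : act 6 n115150 = n63884 := d12_2 (iv6 F83858) D115150 (iv5 D63884) (iv6 D30133) (iv5 F48354)
def n115151 : Q := act 0 n53131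
theorem D115151 : act 0 n53131 = n115151 := rfl
def n115152 : Q := act 1 n53131
theorem D115152 : act 1 n53131 = n115152 := rfl
def n115153 : Q := act 4 n53131
theorem D115153 : act 4 n53131 = n115153 := rfl
def n115154 : Q := act 3 n53133
theorem D115154 : act 3 n53133 = n115154 := rfl
def n115155 : Q := act 6 n53133
theorem D115155 : act 6 n53133 = n115155 := rfl
def n115156 : Q := act 3 n53134
theorem D115156 : act 3 n53134 = n115156 := rfl
def n115158 : Q := act 0 n53135
theorem D115158 : act 0 n53135 = n115158 := rfl
def n115159 : Q := act 1 n53135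
theorem D115159 : act 1 n53135 = n115159 := rfl
def n115160 : Q := act 7 n53135
theorem D115160 : act 7 n53135 = n115160 := rfl
theorem F179303 : act 5 n115160 = n63784 := d13_1 D115160 (iv7 D63784) (iv5 F83861)
def n115161 : Q := act 5 n53136
theorem D115161 : act 5 n53136 = n115161 := rfl
theorem F179304 : act 3 n115161 = n115160 := d6_1 D115161 F179303 F99142
theorem F179305 : act 7 n115161 = n63787 := d13_2 (iv7 F83863) D115161 (iv5 D63787)
def n115162 : Q := act 0 n53137
theorem D115162 : act 0 n53137 = n115162 := rfl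
theorem F179306 : act 1 n115098 = n115162 := d15_0 (iv0 D115162) F83865 D115098
def n115163 : Q := act 1 n53137
theorem D115163 : act 1 n53137 = n115163 := rfl
def n115164 : Q := act 2 n53137
theorem D115164 : act 2 n53137 = n115164 := rfl
theorem F179307 : act 3 n115164 = n62644 := d0_2 D53137 D115164 (iv2 D62644) (iv3 D29623) (iv2 F40721)
theorem F179308 : act 4 n115164 = n63810 := d1_2 (iv4 F83864) D115164 (iv2 D63810)
theorem F179309 : act 7 n115164 = n115098 := d4_2 (iv7 F83865) D115164 (iv2 D115098)
theorem F179310 : act 1 n115164 = n115096 := d15_0 (iv0 D115096) (iv7 F83865) D115164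
theorem F179311 : act 1 n115163 = n115098 := d15_1 D115163 (iv7 F179309) (iv2 D115164)
theorem F179312 : act 1 n115097 = n115164 := d15_1 D115097 F179309 (iv2 D115098)
def n115165 : Q := act 5 n53137
theorem D115165 : act 5 n53137 = n115165 := rfl
theorem F179313 : act 3 n115165 = n53138 := d6_1 D115165 (iv5 D53138) D53137
def n115166 : Q := act 6 n53137
theorem D115166 : act 6 n53137 = n115166 := rfl
def n115168 : Q := act 0 n53139
theorem D115168 : act 0 n53139 = n115168 := rfl
theorem F179319 : act 4 n115168 = n62130 := d18_3 F40725 (iv4 F83870) D115168 (iv5 F162164) F162163 (iv0 F100004) (iv4 D30403) (iv0 D14441) D14443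
theorem F179320 : act 2 n62651 = n115168 := d15_3 (iv0 D115168) (iv0 F95926) (iv7 F102086)
theorem F179321 : act 7 n115168 = n62505 := d4_2 (iv7 F102086) F179320 F97457
theorem F179322 : act 1 n62653 = n115168 := d15_1 F97743 F179321 F97457
def n115170 : Q := act 7 n53139
theorem D115170 : act 7 n53139 = n115170 := rfl
theorem F179324 : act 2 n115170 = n62653 := d4_1 D115170 (iv7 D62653) (iv2 F83869)
theorem F179325 : act 4 n115170 = n53141 := d11_1 D115170 (iv7 D53141) (iv4 F83870)
theorem F179326 : act 6 n115170 = n115105 := d14_1 D115170 (iv7 D115105) (iv6 D53114) (iv7 F40722) D53139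
theorem F179327 : act 1 n62505 = n115170 := d15_1 (iv0 F97459) (iv7 D115170) F83869
theorem F179328 : act 1 n115170 = n62651 := d15_1 F179327 F102086 (iv2 F97457)
def n115171 : Q := act 4 n53140
theorem D115171 : act 4 n53140 = n115171 := rfl
theorem F179330 : act 7 n115171 = n62499 := d11_2 (iv7 F83873) D115171 F97439
def n115172 : Q := act 0 n53142
theorem D115172 : act 0 n53142 = n115172 := rfl
theorem F179333 : act 1 n115108 = n115172 := d15_0 (iv0 D115172) F83888 D115108
def n115173 : Q := act 1 n53142
theorem D115173 : act 1 n53142 = n115173 := rfl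
def n115174 : Q := act 2 n53142
theorem D115174 : act 2 n53142 = n115174 := rfl
theorem F179334 : act 3 n115174 = n62347 := d0_2 D53142 D115174 F97216 F47300 (iv2 F40726)
theorem F179335 : act 4 n115174 = n63827 := d1_2 (iv4 F83887) D115174 (iv2 D63827)
theorem F179336 : act 7 n115174 = n115108 := d4_2 (iv7 F83888) D115174 (iv2 D115108)
theorem F179337 : act 1 n115174 = n115106 := d15_0 (iv0 D115106) (iv7 F83888) D115174
theorem F179338 : act 1 n115173 = n115108 := d15_1 D115173 (iv7 F179336) (iv2 D115174)
theorem F179339 : act 1 n115107 = n115174 := d15_1 D115107 F179336 (iv2 D115108)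
def n115175 : Q := act 5 n53142
theorem D115175 : act 5 n53142 = n115175 := rfl
theorem F179340 : act 3 n115175 = n53143 := d6_1 D115175 (iv5 D53143) D53142
theorem F179341 : act 7 n115175 = n115109 := d13_2 (iv7 F83888) D115175 (iv5 D115109)
def n115176 : Q := act 6 n53142
theorem D115176 : act 6 n53142 = n115176 := rfl
theorem F179342 : act 3 n115176 = n53144 := d7_1 D115176 (iv6 D53144) D53142
theorem F179343 : act 4 n115176 = n63829 := d10_1 D115176 (iv6 D63829) (iv4 F83887)
def n115177 : Q := act 6 n53143
theorem D115177 : act 6 n53143 = n115177 := rfl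
theorem F179344 : act 2 n115177 = n63571 := d3_1 D115177 (iv6 D63571) (iv2 F83889)
theorem F179345 : act 4 n115177 = n107707 := d10_1 D115177 (iv6 D107707) (iv4 F83890)
def n115178 : Q := act 0 n53144
theorem D115178 : act 0 n53144 = n115178 := rfl
theorem F179346 : act 4 n115178 = n62262 := d18_3 (iv1 D53146) (iv4 F83893) D115178 F97075 F169867 (iv0 D109866) F80027 (iv0 F83898) F83897
theorem F179347 : act 0 n115178 = n63575 := d20_7 (iv4 F80108) (iv1 D29471) F23364 (iv3 F23357) D29461 D62262 (iv4 F179346) F98908 F48232 (iv1 F23789)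
theorem F179348 : act 0 n59330 = n62262 := d18_0 (iv4 F179346) F179347 F98908 F48233 (iv4 F79830) F169233 (iv4 F169235) F170669 (iv5 F93585)
theorem F179349 : act 0 n59023 = n59153 := d21_1 F97075 (iv5 F163803) F163804 (iv1 F96468) (iv6 D60550) (iv5 F76851) (iv1 D48791) F45564 D59330 F179348
theorem F179350 : act 0 n107583 = n59024 := d20_1 (iv4 F165982) (iv4 D59024) D59023 F179349 F93338 (iv4 F82744) (iv1 F165572) (iv4 D105226) D105225 F168427
theorem F179351 : act 1 n62263 = n59355 := d18_6 F168427 (iv4 F165982) F179350 (iv4 D59024) (iv5 F93704) D62263 F93631 D63697 (iv5 F168425)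
def n115179 : Q := act 1 n53144
theorem D115179 : act 1 n53144 = n115179 := rfl
theorem F179352 : act 1 n115179 = n63575 := d15_1 D115179 (iv7 D63575) (iv2 F83892)
def n115180 : Q := act 5 n53144
theorem D115180 : act 5 n53144 = n115180 := rfl
theorem F179353 : act 2 n115180 = n63574 := d2_1 D115180 (iv5 D63574) (iv2 F83892)
def n115181 : Q := act 7 n53144
theorem D115181 : act 7 n53144 = n115181 := rfl
theorem F179354 : act 2 n115181 = n63575 := d4_1 D115181 (iv7 D63575) (iv2 F83892)
theorem F179355 : act 4 n115181 = n53147 := d11_1 D115181 (iv7 D53147) (iv4 F83893)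
theorem F179356 : act 6 n115181 = n115115 := d14_1 D115181 (iv7 D115115) (iv6 D53118) (iv7 F40727) D53144
theorem F179357 : act 1 n63573 = n115181 := d15_1 D63573 (iv7 D115181) F83892
theorem F179358 : act 0 n63572 = n115181 := d18_2 D60608 (iv4 F173733) F179355 F83910 (iv4 F169232) F169236 D109352 F170674 F92875
def n115182 : Q := act 4 n53145
theorem D115182 : act 4 n53145 = n115182 := rfl
theorem F179359 : act 2 n115182 = n63578 := d1_1 D115182 (iv4 D63578) (iv2 F99776)
theorem F179360 : act 7 n115182 = n63582 := d11_2 (iv7 F99777) D115182 (iv4 D63582)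
theorem F179361 : act 1 n115182 = n53153 := d18_6 (iv1 D59152) (iv4 F93337) (iv1 F169879) (iv4 D109870) (iv5 F83894) D115182 F83926 D60609 (iv5 F173178)
theorem E17727 : n115134 = n63578 := ((c15_4 (iv0 D115134) (iv0 F168380) (iv7 F179360) F179359)).symm
theorem F179362 : act 1 n63578 = n53127 := (sb E17727 (iv0 D115134))
def n115183 : Q := act 4 n53146
theorem D115183 : act 4 n53146 = n115183 := rfl
theorem F179363 : act 2 n115183 = n63582 := d1_1 D115183 (iv4 D63582) (iv2 F99769)
theorem F179364 : act 6 n115183 = n63549 := d10_2 F83900 D115183 (iv4 D63549)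
theorem F179365 : act 7 n115183 = n63578 := d11_2 (iv7 F99770) D115183 (iv4 D63578)
theorem F179366 : act 0 n115183 = n53153 := d18_2 (iv1 F83896) D115183 F83926 (iv5 F92875) (iv4 F174000) (iv0 F174001) (iv4 D109265) F79779 (iv5 F48233)
theorem F179367 : act 1 n115183 = n115136 := d15_1 (iv0 F179366) (iv7 D115136) (iv2 F83925)
theorem F179368 : act 1 n115136 = n115182 := d15_1 F179367 F179360 (iv2 F179363)
def n115184 : Q := act 0 n53148
theorem D115184 : act 0 n53148 = n115184 := rfl
theorem F179369 : act 3 n115184 = n62344 := d20_5 F48221 F79248 F79247 D53148 D115184 (iv4 D62344) (iv1 D29491) D29493 F47300 D30015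
theorem F179370 : act 1 n115130 = n115184 := d15_0 (iv0 D115184) F83915 D115130
def n115185 : Q := act 1 n53148
theorem D115185 : act 1 n53148 = n115185 := rfl
def n115186 : Q := act 2 n53148
theorem D115186 : act 2 n53148 = n115186 := rfl
theorem F179371 : act 3 n115186 = n115122 := d0_2 D53148 D115186 (iv2 D115122) (iv3 D53122) F45561
theorem F179372 : act 4 n115186 = n63481 := d1_2 (iv4 F83914) D115186 (iv2 D63481)
theorem F179373 : act 7 n115186 = n115130 := d4_2 (iv7 F83915) D115186 (iv2 D115130)
theorem F179374 : act 1 n115186 = n115128 := d15_0 (iv0 D115128) (iv7 F83915) D115186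
theorem F179375 : act 1 n115185 = n115130 := d15_1 D115185 (iv7 F179373) (iv2 D115186)
theorem F179376 : act 1 n115129 = n115186 := d15_1 D115129 F179373 (iv2 D115130)
def n115187 : Q := act 5 n53148
theorem D115187 : act 5 n53148 = n115187 := rfl
theorem F179377 : act 3 n115187 = n53149 := d6_1 D115187 (iv5 D53149) D53148
theorem F179378 : act 7 n115187 = n115131 := d13_2 (iv7 F83915) D115187 (iv5 D115131)
def n115188 : Q := act 6 n53148
theorem D115188 : act 6 n53148 = n115188 := rfl
theorem F179379 : act 3 n115188 = n53150 := d7_1 D115188 (iv6 D53150) D53148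
theorem F179380 : act 4 n115188 = n63483 := d10_1 D115188 (iv6 D63483) (iv4 F83914)
def n115189 : Q := act 6 n53149
theorem D115189 : act 6 n53149 = n115189 := rfl
theorem F179381 : act 2 n115189 = n115125 := d3_1 D115189 (iv6 D115125) (iv2 F83916)
theorem F179382 : act 4 n115189 = n107693 := d10_1 D115189 (iv6 D107693) (iv4 F83918)
def n115190 : Q := act 5 n53150
theorem D115190 : act 5 n53150 = n115190 := rfl
theorem F179383 : act 2 n115190 = n115126 := d2_1 D115190 (iv5 D115126) (iv2 F83919)
def n115191 : Q := act 7 n53150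
theorem D115191 : act 7 n53150 = n115191 := rfl
theorem F179384 : act 2 n115191 = n115127 := d4_1 D115191 (iv7 D115127) (iv2 F83919)
theorem F179385 : act 6 n115191 = n115136 := d14_1 D115191 (iv7 D115136) (iv6 D53127) F45563 D53150
theorem F179386 : act 1 n115118 = n115191 := d15_1 (iv0 F179280) (iv7 D115191) F83919
theorem F179387 : act 1 n115191 = n115116 := d15_1 F179386 F179269 (iv2 F179278)
def n115192 : Q := act 0 n53151
theorem D115192 : act 0 n53151 = n115192 := rfl
theorem F179388 : act 1 n115122 = n115192 := d15_0 (iv0 D115192) F83921 D115122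
def n115193 : Q := act 1 n53151
theorem D115193 : act 1 n53151 = n115193 := rfl
def n115194 : Q := act 2 n53151
theorem D115194 : act 2 n53151 = n115194 := rfl
theorem F179389 : act 3 n115194 = n115130 := d0_2 D53151 D115194 (iv2 D115130) (iv3 D53125) (iv2 F45562)
theorem F179390 : act 4 n115194 = n60613 := d1_2 (iv4 F83920) D115194 (iv2 D60613)
theorem F179391 : act 7 n115194 = n115122 := d4_2 (iv7 F83921) D115194 (iv2 D115122)
theorem F179392 : act 1 n115194 = n115120 := d15_0 (iv0 D115120) (iv7 F83921) D115194
theorem F179393 : act 1 n115193 = n115122 := d15_1 D115193 (iv7 F179391) (iv2 D115194)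
theorem F179394 : act 1 n115121 = n115194 := d15_1 D115121 F179391 (iv2 D115122)
def n115195 : Q := act 5 n53151
theorem D115195 : act 5 n53151 = n115195 := rfl
theorem F179395 : act 3 n115195 = n53152 := d6_1 D115195 (iv5 D53152) D53151
theorem F179396 : act 7 n115195 = n115123 := d13_2 (iv7 F83921) D115195 (iv5 D115123)
def n115196 : Q := act 6 n53151
theorem D115196 : act 6 n53151 = n115196 := rfl
theorem F179397 : act 3 n115196 = n53153 := d7_1 D115196 (iv6 D53153) D53151
theorem F179398 : act 4 n115196 = n60615 := d10_1 D115196 (iv6 D60615) (iv4 F83920)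
def n115197 : Q := act 6 n53152
theorem D115197 : act 6 n53152 = n115197 := rfl
theorem F179399 : act 2 n115197 = n115133 := d3_1 D115197 (iv6 D115133) (iv2 F83922)
theorem F179400 : act 4 n115197 = n107676 := d10_1 D115197 (iv6 D107676) (iv4 F83923)
def n115198 : Q := act 5 n53153
theorem D115198 : act 5 n53153 = n115198 := rfl
theorem F179401 : act 2 n115198 = n115135 := d2_1 D115198 (iv5 D115135) (iv2 F83925)
def n115199 : Q := act 7 n53153
theorem D115199 : act 7 n53153 = n115199 := rfl
theorem F179402 : act 2 n115199 = n115136 := d4_1 D115199 (iv7 D115136) (iv2 F83925)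
theorem F179403 : act 4 n115199 = n60610 := d11_1 D115199 (iv7 D60610) (iv4 F83926)
theorem F179404 : act 6 n115199 = n115127 := d14_1 D115199 (iv7 D115127) (iv6 D53124) (iv7 F45560) D53153
theorem F179405 : act 1 n63582 = n115199 := d15_1 (iv0 F168380) (iv7 D115199) F83925
theorem F179406 : act 1 n115199 = n63578 := d15_1 F179405 (iv7 F179365) F179363
def n115200 : Q := act 0 n53154
theorem D115200 : act 0 n53154 = n115200 := rfl
theorem F179407 : act 2 n53158 = n115200 := d15_3 (iv0 D115200) (iv0 D53154) D53158
theorem F179408 : act 3 n115200 = n115137 := d0_2 (iv3 F83931) F179407 (iv2 F179293) F83860 (iv2 F40737)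
theorem F179409 : act 4 n115200 = n106782 := d1_2 (iv4 F83932) F179407 (iv2 F164585)
theorem F179410 : act 7 n115200 = n53156 := d4_2 D53158 F179407 (iv2 D53156)
theorem F179411 : act 1 n53155 = n115200 := d15_1 D53155 F179410 (iv2 D53156)
def n115201 : Q := act 2 n53154
theorem D115201 : act 2 n53154 = n115201 := rfl
theorem F179412 : act 7 n53155 = n115201 := d15_2 (iv0 D53154) D53155 (iv2 D115201)
def n115202 : Q := act 3 n53154
theorem D115202 : act 3 n53154 = n115202 := rfl
def n115203 : Q := act 4 n53154
theorem D115203 : act 4 n53154 = n115203 := rfl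
def n115204 : Q := act 5 n53154
theorem D115204 : act 5 n53154 = n115204 := rfl
def n115205 : Q := act 6 n53154
theorem D115205 : act 6 n53154 = n115205 := rfl
def n115206 : Q := act 7 n53154
theorem D115206 : act 7 n53154 = n115206 := rfl
theorem F179413 : act 2 n115206 = n53155 := d4_1 D115206 F179412 (iv2 D115201)
def n115207 : Q := act 3 n53155
theorem D115207 : act 3 n53155 = n115207 := rfl
def n115208 : Q := act 4 n53155
theorem D115208 : act 4 n53155 = n115208 := rfl
theorem F179414 : act 3 n115208 = n61981 := d20_9 F47004 D29512 D62415 (iv3 F97295) D106833 F164639 (iv4 F179409) (iv1 F179411) D115208 (iv1 D61981)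
def n115209 : Q := act 5 n53155
theorem D115209 : act 5 n53155 = n115209 := rfl
def n115210 : Q := act 6 n53155
theorem D115210 : act 6 n53155 = n115210 := rfl
def n115211 : Q := act 0 n53156
theorem D115211 : act 0 n53156 = n115211 := rfl
theorem F179415 : act 4 n115211 = n61971 := d20_8 F96563 (iv1 F47319) D29509 D62404 (iv1 F97292) F78053 (iv4 F83928) D115211 (iv3 D61971) D61969
theorem F179416 : act 1 n53158 = n115211 := d15_0 (iv0 D115211) (iv7 F179410) (iv2 F179407)
def n115212 : Q := act 1 n53156
theorem D115212 : act 1 n53156 = n115212 := rfl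
theorem F179417 : act 1 n115212 = n53158 := d15_1 D115212 (iv7 D53158) D53156
def n115213 : Q := act 5 n53156
theorem D115213 : act 5 n53156 = n115213 := rfl
theorem F179418 : act 2 n115213 = n53157 := d2_1 D115213 (iv5 D53157) D53156
theorem F179419 : act 3 n115213 = n115150 := d6_1 D115213 (iv5 D115150) (iv3 F83927)
def n115214 : Q := act 0 n53157
theorem D115214 : act 0 n53157 = n115214 := rfl
def n115215 : Q := act 1 n53157
theorem D115215 : act 1 n53157 = n115215 := rfl
def n115216 : Q := act 4 n53157
theorem D115216 : act 4 n53157 = n115216 := rfl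
def n115217 : Q := act 6 n53157
theorem D115217 : act 6 n53157 = n115217 := rfl
theorem F179420 : act 3 n115217 = n53162 := d7_1 D115217 (iv6 D53162) (iv3 F83930)
theorem F179421 : act 5 n115217 = n63875 := d12_1 D115217 (iv6 D63875) (iv5 D30129) (iv6 F40735) D53157
def n115218 : Q := act 7 n53157
theorem D115218 : act 7 n53157 = n115218 := rfl
theorem F179422 : act 3 n115218 = n53163 := d8_1 D115218 (iv7 D53163) (iv3 F83930)
theorem F179423 : act 5 n115218 = n53158 := d13_1 D115218 (iv7 D53158) D53157
def n115219 : Q := act 6 n53158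
theorem D115219 : act 6 n53158 = n115219 := rfl
theorem F179424 : act 3 n115219 = n53164 := d7_1 D115219 (iv6 D53164) (iv3 F83931)
theorem F179425 : act 4 n115219 = n106800 := d10_1 D115219 (iv6 D106800) (iv4 F83932)
theorem F179426 : act 7 n115219 = n63876 := d14_2 D53158 D115219 (iv6 D63876) (iv7 D30130) (iv6 F40735)
def n115220 : Q := act 3 n53159
theorem D115220 : act 3 n53159 = n115220 := rfl
theorem F179427 : act 5 n115220 = n107623 := d6_2 (iv5 F83933) D115220 (iv3 D107623)
theorem F179428 : act 7 n115220 = n115156 := d8_2 (iv7 F93571) D115220 (iv3 D115156)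
def n115221 : Q := act 6 n53159
theorem D115221 : act 6 n53159 = n115221 := rfl
theorem F179430 : act 4 n115221 = n107660 := d10_1 D115221 (iv6 D107660) F83934
def n115222 : Q := act 3 n53160
theorem D115222 : act 3 n53160 = n115222 := rfl
theorem F179431 : act 5 n115222 = n60552 := d6_2 (iv5 F83937) D115222 (iv3 D60552)
theorem F179432 : act 7 n115222 = n115154 := d8_2 F93569 D115222 (iv3 D115154)
def n115223 : Q := act 6 n53160
theorem D115223 : act 6 n53160 = n115223 := rfl
def n115224 : Q := act 3 n53161
theorem D115224 : act 3 n53161 = n115224 := rfl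
theorem F179435 : act 5 n115224 = n107614 := d6_2 (iv5 F83940) D115224 F166041
theorem F179436 : act 7 n115224 = n107613 := d8_2 (iv7 F83943) D115224 F166040
def n115225 : Q := act 6 n53161
theorem D115225 : act 6 n53161 = n115225 := rfl
theorem F179437 : act 2 n115225 = n107746 := d3_1 D115225 (iv6 D107746) (iv2 F83939)
theorem F179438 : act 4 n115225 = n53162 := d10_1 D115225 (iv6 D53162) D53161
def n115226 : Q := act 0 n53162
theorem D115226 : act 0 n53162 = n115226 := rfl
def n115227 : Q := act 1 n53162
theorem D115227 : act 1 n53162 = n115227 := rfl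
theorem F179439 : act 1 n115227 = n115160 := d15_1 D115227 (iv7 D115160) (iv2 F83944)
def n115228 : Q := act 7 n53162
theorem D115228 : act 7 n53162 = n115228 := rfl
theorem F179440 : act 2 n115228 = n115160 := d4_1 D115228 (iv7 D115160) (iv2 F83944)
theorem F179441 : act 5 n115228 = n63881 := d13_1 D115228 (iv7 D63881) (iv5 F83945)
theorem F179442 : act 1 n115160 = n115226 := d15_0 (iv0 D115226) D115228 F179440
theorem F179443 : act 1 n115159 = n115228 := d15_1 D115159 (iv7 D115228) F83944
theorem F179444 : act 1 n115228 = n115158 := d15_0 (iv0 D115158) D115160 (iv2 F179440)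
def n115229 : Q := act 6 n53163
theorem D115229 : act 6 n53163 = n115229 := rfl
theorem F179445 : act 2 n115229 = n107742 := d3_1 D115229 (iv6 D107742) (iv2 F83946)
theorem F179446 : act 4 n115229 = n107615 := d10_1 D115229 (iv6 D107615) (iv4 F83947)
def n115230 : Q := act 5 n53164
theorem D115230 : act 5 n53164 = n115230 := rfl
theorem F179447 : act 2 n115230 = n115161 := d2_1 D115230 (iv5 D115161) (iv2 F83951)
theorem F179448 : act 7 n115230 = n63884 := d13_2 (iv7 F83953) D115230 (iv5 D63884)
def n115231 : Q := act 0 n53165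
theorem D115231 : act 0 n53165 = n115231 := rfl
theorem F179449 : act 1 n53212 = n115231 := d15_0 (iv0 D115231) F83954 D53212
def n115232 : Q := act 1 n53165
theorem D115232 : act 1 n53165 = n115232 := rfl
def n115233 : Q := act 2 n53165
theorem D115233 : act 2 n53165 = n115233 := rfl
theorem F179450 : act 3 n115233 = n53238 := d0_2 D53165 D115233 (iv2 D53238) (iv3 D25814) (iv2 F40746)
theorem F179451 : act 7 n115233 = n53212 := d4_2 (iv7 F83954) D115233 (iv2 D53212)
theorem F179452 : act 1 n115233 = n53210 := d15_0 (iv0 D53210) (iv7 F83954) D115233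
theorem F179453 : act 1 n115232 = n53212 := d15_1 D115232 (iv7 F179451) (iv2 D115233)
theorem F179454 : act 1 n53211 = n115233 := d15_1 D53211 F179451 (iv2 D53212)
def n115234 : Q := act 6 n53165
theorem D115234 : act 6 n53165 = n115234 := rfl
theorem F179455 : act 3 n115234 = n53166 := d7_1 D115234 (iv6 D53166) D53165
def n115235 : Q := act 0 n53166
theorem D115235 : act 0 n53166 = n115235 := rfl
theorem F179456 : act 4 n115235 = n107489 := d18_3 F40750 (iv4 F83956) D115235 F165842 (iv4 F174345) (iv0 D112136) (iv4 D51713) (iv0 D25115) (iv5 F24321)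
theorem F179457 : act 2 n53242 = n115235 := d15_3 (iv0 D115235) (iv0 F111082) F171692
theorem F179458 : act 7 n115235 = n53243 := d4_2 F171692 F179457 (iv2 F111081)
theorem F179459 : act 1 n53245 = n115235 := d15_1 F111083 F179458 (iv2 F111081)
def n115236 : Q := act 5 n53166
theorem D115236 : act 5 n53166 = n115236 := rfl
theorem F179460 : act 2 n115236 = n53244 := d2_1 D115236 (iv5 D53244) (iv2 F83955)
def n115237 : Q := act 7 n53166
theorem D115237 : act 7 n53166 = n115237 := rfl
theorem F179461 : act 2 n115237 = n53245 := d4_1 D115237 (iv7 D53245) (iv2 F83955)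
theorem F179462 : act 4 n115237 = n53168 := d11_1 D115237 (iv7 D53168) (iv4 F83956)
theorem F179463 : act 6 n115237 = n53221 := d14_1 D115237 (iv7 D53221) (iv6 D25808) (iv7 F40747) D53166
theorem F179464 : act 1 n53243 = n115237 := d15_1 D53243 (iv7 D115237) F83955
theorem F179465 : act 1 n115237 = n53242 := d15_1 F179464 (iv7 F171692) F111081
def n115238 : Q := act 4 n53167
theorem D115238 : act 4 n53167 = n115238 := rfl
theorem F179466 : act 2 n115238 = n53246 := d1_1 D115238 (iv4 D53246) F83958
theorem F179467 : act 7 n115238 = n53248 := d11_2 (iv7 F83960) D115238 (iv4 D53248)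
theorem F179468 : act 0 n115238 = n66156 := d18_2 D53167 D115238 (iv4 F168794) (iv5 F175065) F175064 F174083 (iv4 D109293) (iv0 D50435) (iv5 F40749)
theorem F179469 : act 1 n115238 = n65534 := d18_6 D106193 (iv4 F173191) (iv1 F174274) F174264 (iv5 F83957) D115238 F101266 (iv0 F85074) F85071
def n115239 : Q := act 0 n53169
theorem D115239 : act 0 n53169 = n115239 := rfl
theorem F179470 : act 1 n53260 = n115239 := d15_0 (iv0 D115239) F83971 D53260
def n115240 : Q := act 1 n53169
theorem D115240 : act 1 n53169 = n115240 := rfl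
def n115241 : Q := act 2 n53169
theorem D115241 : act 2 n53169 = n115241 := rfl
theorem F179471 : act 3 n115241 = n53282 := d0_2 D53169 D115241 (iv2 D53282) (iv3 D25831) (iv2 F40751)
theorem F179472 : act 4 n115241 = n105619 := d1_2 (iv4 F83970) D115241 (iv2 D105619)
theorem F179473 : act 7 n115241 = n53260 := d4_2 (iv7 F83971) D115241 (iv2 D53260)
theorem F179474 : act 1 n115241 = n53258 := d15_0 (iv0 D53258) (iv7 F83971) D115241
theorem F179475 : act 1 n115240 = n53260 := d15_1 D115240 (iv7 F179473) (iv2 D115241)
theorem F179476 : act 1 n53259 = n115241 := d15_1 D53259 F179473 (iv2 D53260)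
def n115242 : Q := act 5 n53169
theorem D115242 : act 5 n53169 = n115242 := rfl
theorem F179477 : act 3 n115242 = n53170 := d6_1 D115242 (iv5 D53170) D53169
theorem F179478 : act 7 n115242 = n53261 := d13_2 (iv7 F83971) D115242 (iv5 D53261)
def n115243 : Q := act 6 n53169
theorem D115243 : act 6 n53169 = n115243 := rfl
theorem F179479 : act 3 n115243 = n53171 := d7_1 D115243 (iv6 D53171) D53169
theorem F179480 : act 4 n115243 = n105621 := d10_1 D115243 (iv6 D105621) (iv4 F83970)
def n115244 : Q := act 6 n53170
theorem D115244 : act 6 n53170 = n115244 := rfl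
theorem F179481 : act 2 n115244 = n53285 := d3_1 D115244 (iv6 D53285) (iv2 F83972)
theorem F179482 : act 4 n115244 = n59219 := d10_1 D115244 (iv6 D59219) (iv4 F83974)
def n115245 : Q := act 0 n53171
theorem D115245 : act 0 n53171 = n115245 := rfl
def n115246 : Q := act 1 n53171
theorem D115246 : act 1 n53171 = n115246 := rfl
theorem F179483 : act 1 n115246 = n53289 := d15_1 D115246 (iv7 D53289) (iv2 F83975)
def n115247 : Q := act 5 n53171
theorem D115247 : act 5 n53171 = n115247 := rfl
theorem F179484 : act 2 n115247 = n53288 := d2_1 D115247 (iv5 D53288) (iv2 F83975)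
def n115248 : Q := act 7 n53171
theorem D115248 : act 7 n53171 = n115248 := rfl
theorem F179485 : act 2 n115248 = n53289 := d4_1 D115248 (iv7 D53289) (iv2 F83975)
theorem F179486 : act 4 n115248 = n53174 := d11_1 D115248 (iv7 D53174) (iv4 F83976)
theorem F179487 : act 6 n115248 = n53269 := d14_1 D115248 (iv7 D53269) (iv6 D25826) (iv7 F40752) D53171
theorem F179488 : act 1 n53289 = n115245 := d15_0 (iv0 D115245) D115248 F179485
theorem F179489 : act 1 n53287 = n115248 := d15_1 D53287 (iv7 D115248) F83975
theorem F179490 : act 0 n53286 = n115248 := d20_1 (iv4 F171720) F179486 (iv3 F165268) (iv1 F165272) F163550 D53597 F171721 F80646 (iv3 F80642) D110863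
def n115249 : Q := act 4 n53172
theorem D115249 : act 4 n53172 = n115249 := rfl
theorem F179491 : act 2 n115249 = n53292 := d1_1 D115249 (iv4 D53292) (iv2 F99897)
theorem F179492 : act 7 n115249 = n53296 := d11_2 (iv7 F99898) D115249 (iv4 D53296)
theorem F179493 : act 1 n115249 = n53180 := d18_6 F166089 F99608 (iv1 F166091) (iv4 D63997) (iv5 F83977) D115249 F83997 (iv0 F166483) F94078
theorem F179494 : act 1 n53325 = n115249 := d15_1 (iv0 F166206) F179492 F161278
def n115250 : Q := act 0 n53175
theorem D115250 : act 0 n53175 = n115250 := rfl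
theorem F179495 : act 1 n53316 = n115250 := d15_0 (iv0 D115250) F83987 D53316
def n115251 : Q := act 1 n53175
theorem D115251 : act 1 n53175 = n115251 := rfl
def n115252 : Q := act 2 n53175
theorem D115252 : act 2 n53175 = n115252 := rfl
theorem F179496 : act 3 n115252 = n53303 := d0_2 D53175 D115252 (iv2 D53303) (iv3 D25839) (iv2 F40829)
theorem F179497 : act 4 n115252 = n59519 := d1_2 (iv4 F83986) D115252 (iv2 D59519)
theorem F179498 : act 7 n115252 = n53316 := d4_2 (iv7 F83987) D115252 (iv2 D53316)
theorem F179499 : act 1 n115252 = n53314 := d15_0 (iv0 D53314) (iv7 F83987) D115252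
theorem F179500 : act 1 n115251 = n53316 := d15_1 D115251 (iv7 F179498) (iv2 D115252)
theorem F179501 : act 1 n53315 = n115252 := d15_1 D53315 F179498 (iv2 D53316)
def n115253 : Q := act 5 n53175
theorem D115253 : act 5 n53175 = n115253 := rfl
theorem F179502 : act 3 n115253 = n53176 := d6_1 D115253 (iv5 D53176) D53175
theorem F179503 : act 7 n115253 = n53318 := d13_2 (iv7 F83987) D115253 (iv5 D53318)
def n115254 : Q := act 6 n53175
theorem D115254 : act 6 n53175 = n115254 := rfl
theorem F179504 : act 3 n115254 = n53177 := d7_1 D115254 (iv6 D53177) D53175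
theorem F179505 : act 4 n115254 = n59521 := d10_1 D115254 (iv6 D59521) (iv4 F83986)
def n115255 : Q := act 6 n53176
theorem D115255 : act 6 n53176 = n115255 := rfl
theorem F179506 : act 2 n115255 = n53309 := d3_1 D115255 (iv6 D53309) (iv2 F83988)
def n115256 : Q := act 5 n53177
theorem D115256 : act 5 n53177 = n115256 := rfl
def n115257 : Q := act 7 n53177
theorem D115257 : act 7 n53177 = n115257 := rfl
theorem F179508 : act 2 n115257 = n53313 := d4_1 D115257 (iv7 D53313) (iv2 F83990)
theorem F179509 : act 4 n115257 = n59514 := d11_1 D115257 (iv7 D59514) (iv4 F83991)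
theorem F179510 : act 6 n115257 = n53325 := d14_1 D115257 (iv7 D53325) (iv6 D25846) (iv7 F40830) D53177
theorem F179511 : act 1 n53276 = n115257 := d15_1 (iv0 F97707) (iv7 D115257) F83990
theorem F179512 : act 1 n115257 = n53272 := d15_1 F179511 (iv7 F165202) F165201
def n115258 : Q := act 0 n53178
theorem D115258 : act 0 n53178 = n115258 := rfl
theorem F179513 : act 1 n53303 = n115258 := d15_0 (iv0 D115258) F83993 D53303
def n115259 : Q := act 1 n53178
theorem D115259 : act 1 n53178 = n115259 := rfl
def n115260 : Q := act 2 n53178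
theorem D115260 : act 2 n53178 = n115260 := rfl
theorem F179514 : act 3 n115260 = n53316 := d0_2 D53178 D115260 (iv2 D53316) (iv3 D25843) (iv2 F40828)
theorem F179515 : act 4 n115260 = n110866 := d1_2 (iv4 F83992) D115260 (iv2 D110866)
theorem F179516 : act 7 n115260 = n53303 := d4_2 (iv7 F83993) D115260 (iv2 D53303)
theorem F179517 : act 1 n115260 = n53301 := d15_0 (iv0 D53301) (iv7 F83993) D115260
theorem F179518 : act 1 n115259 = n53303 := d15_1 D115259 (iv7 F179516) (iv2 D115260)
theorem F179519 : act 1 n53302 = n115260 := d15_1 D53302 F179516 (iv2 D53303)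
def n115261 : Q := act 5 n53178
theorem D115261 : act 5 n53178 = n115261 := rfl
theorem F179520 : act 3 n115261 = n53179 := d6_1 D115261 (iv5 D53179) D53178
theorem F179521 : act 7 n115261 = n53305 := d13_2 (iv7 F83993) D115261 (iv5 D53305)
def n115262 : Q := act 6 n53178
theorem D115262 : act 6 n53178 = n115262 := rfl
theorem F179522 : act 3 n115262 = n53180 := d7_1 D115262 (iv6 D53180) D53178
theorem F179523 : act 4 n115262 = n110868 := d10_1 D115262 (iv6 D110868) (iv4 F83992)
def n115263 : Q := act 6 n53179
theorem D115263 : act 6 n53179 = n115263 := rfl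
theorem F179524 : act 2 n115263 = n53321 := d3_1 D115263 (iv6 D53321) (iv2 F83994)
def n115264 : Q := act 5 n53180
theorem D115264 : act 5 n53180 = n115264 := rfl
theorem F179525 : act 2 n115264 = n53324 := d2_1 D115264 (iv5 D53324) (iv2 F83996)
def n115265 : Q := act 7 n53180
theorem D115265 : act 7 n53180 = n115265 := rfl
theorem F179526 : act 2 n115265 = n53325 := d4_1 D115265 (iv7 D53325) (iv2 F83996)
theorem F179527 : act 4 n115265 = n110864 := d11_1 D115265 (iv7 D110864) (iv4 F83997)
theorem F179528 : act 6 n115265 = n53313 := d14_1 D115265 (iv7 D53313) (iv6 D25842) F40827 D53180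
theorem F179529 : act 1 n53296 = n115265 := d15_1 (iv0 F166208) (iv7 D115265) F83996
theorem F179530 : act 1 n115265 = n53292 := d15_1 F179529 F161285 (iv2 F161278)
def n115266 : Q := act 0 n53181
theorem D115266 : act 0 n53181 = n115266 := rfl
theorem F179531 : act 2 n53185 = n115266 := d15_3 (iv0 D115266) (iv0 D53181) D53185
theorem F179532 : act 3 n115266 = n53326 := d0_2 (iv3 F84001) F179531 (iv2 F84169) F40840 (iv2 F40761)
theorem F179533 : act 4 n115266 = n64023 := d1_2 (iv4 F84002) F179531 (iv2 F99618)
theorem F179534 : act 7 n115266 = n53183 := d4_2 D53185 F179531 (iv2 D53183)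
theorem F179535 : act 1 n53182 = n115266 := d15_1 D53182 F179534 (iv2 D53183)
def n115267 : Q := act 2 n53181
theorem D115267 : act 2 n53181 = n115267 := rfl
theorem F179536 : act 7 n53182 = n115267 := d15_2 (iv0 D53181) D53182 (iv2 D115267)
def n115268 : Q := act 3 n53181
theorem D115268 : act 3 n53181 = n115268 := rfl
def n115269 : Q := act 4 n53181
theorem D115269 : act 4 n53181 = n115269 := rfl
theorem F179537 : act 0 n64566 = n115269 := d20_10 (iv4 D115269) D115266 F179533 F99619 (iv1 F48882) D30478 D64829 F100670 (iv4 D64567) D64566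
def n115270 : Q := act 5 n53181
theorem D115270 : act 5 n53181 = n115270 := rfl
def n115271 : Q := act 6 n53181
theorem D115271 : act 6 n53181 = n115271 := rfl
def n115272 : Q := act 7 n53181
theorem D115272 : act 7 n53181 = n115272 := rfl
theorem F179538 : act 2 n115272 = n53182 := d4_1 D115272 F179536 (iv2 D115267)
def n115273 : Q := act 3 n53182
theorem D115273 : act 3 n53182 = n115273 := rfl
def n115274 : Q := act 4 n53182
theorem D115274 : act 4 n53182 = n115274 := rfl
theorem F179539 : act 3 n115274 = n64552 := d20_3 (iv4 F179533) (iv1 F179535) D115274 (iv1 F171411) F171408 (iv4 F171618) (iv1 F171622) (iv4 F101819) (iv3 D64025) D64023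
def n115275 : Q := act 5 n53182
theorem D115275 : act 5 n53182 = n115275 := rfl
def n115276 : Q := act 6 n53182
theorem D115276 : act 6 n53182 = n115276 := rfl
def n115277 : Q := act 0 n53183
theorem D115277 : act 0 n53183 = n115277 := rfl
theorem F179540 : act 1 n53185 = n115277 := d15_0 (iv0 D115277) (iv7 F179534) (iv2 F179531)
def n115278 : Q := act 1 n53183
theorem D115278 : act 1 n53183 = n115278 := rfl
theorem F179541 : act 1 n115278 = n53185 := d15_1 D115278 (iv7 D53185) D53183
def n115279 : Q := act 5 n53183
theorem D115279 : act 5 n53183 = n115279 := rfl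
theorem F179542 : act 2 n115279 = n53184 := d2_1 D115279 (iv5 D53184) D53183
theorem F179543 : act 3 n115279 = n53339 := d6_1 D115279 (iv5 D53339) (iv3 F83998)
def n115280 : Q := act 0 n53184
theorem D115280 : act 0 n53184 = n115280 := rfl
def n115281 : Q := act 1 n53184
theorem D115281 : act 1 n53184 = n115281 := rfl
def n115282 : Q := act 4 n53184
theorem D115282 : act 4 n53184 = n115282 := rfl
def n115283 : Q := act 6 n53184
theorem D115283 : act 6 n53184 = n115283 := rfl
theorem F179544 : act 3 n115283 = n53188 := d7_1 D115283 (iv6 D53188) (iv3 F84000)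
def n115284 : Q := act 6 n53185
theorem D115284 : act 6 n53185 = n115284 := rfl
theorem F179545 : act 3 n115284 = n53189 := d7_1 D115284 (iv6 D53189) (iv3 F84001)
theorem F179546 : act 4 n115284 = n64041 := d10_1 D115284 (iv6 D64041) (iv4 F84002)
def n115285 : Q := act 3 n53186
theorem D115285 : act 3 n53186 = n115285 := rfl
theorem F179547 : act 5 n115285 = n59437 := d6_2 (iv5 F84003) D115285 (iv3 D59437)
theorem F179548 : act 7 n115285 = n53348 := d8_2 F84006 D115285 (iv3 D53348)
def n115286 : Q := act 6 n53186
theorem D115286 : act 6 n53186 = n115286 := rfl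
theorem F179549 : act 2 n115286 = n53347 := d3_1 D115286 (iv6 D53347) F84005
def n115287 : Q := act 3 n53187
theorem D115287 : act 3 n53187 = n115287 := rfl
theorem F179550 : act 5 n115287 = n65533 := d6_2 (iv5 F84009) D115287 (iv3 D65533)
theorem F179551 : act 7 n115287 = n53346 := d8_2 (iv7 F84008) D115287 (iv3 D53346)
def n115288 : Q := act 6 n53187
theorem D115288 : act 6 n53187 = n115288 := rfl
theorem F179552 : act 2 n115288 = n53349 := d3_1 D115288 (iv6 D53349) F84010
def n115289 : Q := act 0 n53188
theorem D115289 : act 0 n53188 = n115289 := rfl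
def n115290 : Q := act 1 n53188
theorem D115290 : act 1 n53188 = n115290 := rfl
theorem F179553 : act 1 n115290 = n53354 := d15_1 D115290 (iv7 D53354) (iv2 F84011)
def n115291 : Q := act 7 n53188
theorem D115291 : act 7 n53188 = n115291 := rfl
theorem F179554 : act 2 n115291 = n53354 := d4_1 D115291 (iv7 D53354) (iv2 F84011)
theorem F179555 : act 1 n53354 = n115289 := d15_0 (iv0 D115289) D115291 F179554
theorem F179556 : act 1 n53353 = n115291 := d15_1 D53353 (iv7 D115291) F84011
theorem F179557 : act 1 n115291 = n53352 := d15_0 (iv0 D53352) D53354 (iv2 F179554)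
def n115292 : Q := act 5 n53189
theorem D115292 : act 5 n53189 = n115292 := rfl
theorem F179558 : act 2 n115292 = n53358 := d2_1 D115292 (iv5 D53358) (iv2 F84012)
def n115293 : Q := act 0 n53190
theorem D115293 : act 0 n53190 = n115293 := rfl
def n115294 : Q := act 1 n53190
theorem D115294 : act 1 n53190 = n115294 := rfl
def n115295 : Q := act 2 n53190
theorem D115295 : act 2 n53190 = n115295 := rfl
theorem F179559 : act 3 n115295 = n109276 := d0_2 D53190 D115295 (iv2 D109276) (iv3 D50426) (iv2 F40770)
theorem F179560 : act 4 n115295 = n53212 := d1_2 (iv4 F84014) D115295 (iv2 D53212)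
def n115296 : Q := act 6 n53190
theorem D115296 : act 6 n53190 = n115296 := rfl
theorem F179561 : act 3 n115296 = n53191 := d7_1 D115296 (iv6 D53191) D53190
theorem F179562 : act 4 n115296 = n53214 := d10_1 D115296 (iv6 D53214) (iv4 F84014)
def n115297 : Q := act 5 n53191
theorem D115297 : act 5 n53191 = n115297 := rfl
theorem F179563 : act 2 n115297 = n109278 := d2_1 D115297 (iv5 D109278) (iv2 F84015)
def n115298 : Q := act 6 n53193
theorem D115298 : act 6 n53193 = n115298 := rfl
theorem F179564 : act 2 n115298 = n65520 := d3_1 D115298 (iv6 D65520) (iv2 F111302)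
theorem F179565 : act 3 n115298 = n107103 := d7_1 D115298 (iv6 D107103) F111281
def n115299 : Q := act 0 n53195
theorem D115299 : act 0 n53195 = n115299 := rfl
def n115300 : Q := act 1 n53195
theorem D115300 : act 1 n53195 = n115300 := rfl
def n115301 : Q := act 2 n53195
theorem D115301 : act 2 n53195 = n115301 := rfl
theorem F179566 : act 3 n115301 = n65537 := d0_2 D53195 D115301 (iv2 D65537) (iv3 D30719) (iv2 F40784)
theorem F179567 : act 4 n115301 = n64312 := d1_2 (iv4 F84025) D115301 (iv2 D64312)
def n115302 : Q := act 5 n53195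
theorem D115302 : act 5 n53195 = n115302 := rfl
theorem F179568 : act 3 n115302 = n53196 := d6_1 D115302 (iv5 D53196) D53195
def n115303 : Q := act 6 n53195
theorem D115303 : act 6 n53195 = n115303 := rfl
theorem F179569 : act 3 n115303 = n53197 := d7_1 D115303 (iv6 D53197) D53195
theorem F179570 : act 4 n115303 = n64314 := d10_1 D115303 (iv6 D64314) (iv4 F84025)
def n115304 : Q := act 6 n53196
theorem D115304 : act 6 n53196 = n115304 := rfl
theorem F179571 : act 2 n115304 = n65540 := d3_1 D115304 (iv6 D65540) (iv2 F84026)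
theorem F179572 : act 4 n115304 = n112744 := d10_1 D115304 (iv6 D112744) (iv4 F84027)
def n115305 : Q := act 0 n53197
theorem D115305 : act 0 n53197 = n115305 := rfl
def n115306 : Q := act 1 n53197
theorem D115306 : act 1 n53197 = n115306 := rfl
theorem F179573 : act 1 n115306 = n65544 := d15_1 D115306 (iv7 D65544) (iv2 F84030)
def n115307 : Q := act 5 n53197
theorem D115307 : act 5 n53197 = n115307 := rfl
theorem F179574 : act 2 n115307 = n65543 := d2_1 D115307 (iv5 D65543) (iv2 F84030)
theorem F179575 : act 1 n115307 = n74297 := d17_6 (iv1 D34077) (iv5 F38624) F39405 (iv5 F40787) (iv4 F84031) D115307 (iv5 D74297) (iv0 F111158) (iv4 D74270)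
def n115308 : Q := act 7 n53197
theorem D115308 : act 7 n53197 = n115308 := rfl
theorem F179576 : act 2 n115308 = n65544 := d4_1 D115308 (iv7 D65544) (iv2 F84030)
theorem F179577 : act 4 n115308 = n53200 := d11_1 D115308 (iv7 D53200) (iv4 F84031)
theorem F179578 : act 1 n65544 = n115305 := d15_0 (iv0 D115305) D115308 F179576
theorem F179579 : act 1 n65542 = n115308 := d15_1 D65542 (iv7 D115308) F84030
theorem F179580 : act 4 n67635 = n115305 := d20_6 (iv4 F49699) (iv1 D31422) F24477 (iv3 F24473) D31414 D67635 (iv1 F179578) F101272 F49191 (iv1 F38635)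
theorem F179581 : act 0 n108705 = n67635 := d18_0 F179580 (iv1 F179578) F101272 F49192 (iv4 F81581) (iv0 F171262) (iv4 D110659) F93044 (iv5 F168651)
theorem F179582 : act 1 n115308 = n65541 := d15_0 (iv0 D65541) D65544 (iv2 F179576)
def n115309 : Q := act 4 n53198
theorem D115309 : act 4 n53198 = n115309 := rfl
theorem F179583 : act 2 n115309 = n65546 := d1_1 D115309 (iv4 D65546) F99258
theorem F179584 : act 7 n115309 = n65550 := d11_2 (iv7 F99257) D115309 (iv4 D65550)
theorem F179585 : act 0 n53206 = n115309 := d20_7 (iv4 F165037) (iv1 F165039) (iv4 D68137) (iv3 F168052) (iv1 D53916) (iv3 F85018) F85019 (iv4 D115309) (iv3 F165614) (iv1 F82129)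
theorem F179586 : act 1 n65546 = n107045 := d15_0 (iv0 F169650) (iv7 F179584) F179583
def n115310 : Q := act 4 n53199
theorem D115310 : act 4 n53199 = n115310 := rfl
theorem F179587 : act 2 n115310 = n65550 := d1_1 D115310 (iv4 D65550) (iv2 F99255)
theorem F179588 : act 7 n115310 = n65546 := d11_2 F99256 D115310 (iv4 D65546)
theorem F179589 : act 0 n115310 = n53206 := d18_2 (iv1 F84034) D115310 (iv4 F85019) F85020 (iv4 F93040) (iv0 F93041) F79908 F39437 (iv5 F49192)
def n115311 : Q := act 0 n53201
theorem D115311 : act 0 n53201 = n115311 := rfl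
theorem F179590 : act 1 n65537 = n115311 := d15_0 (iv0 D115311) F84042 D65537
theorem F179591 : act 4 n65712 = n115311 := d20_0 (iv1 F179590) F101268 (iv3 F79963) (iv1 F79967) D65602 (iv4 F101420) (iv1 F101425) (iv4 D30773) D30772 D65712
def n115312 : Q := act 1 n53201
theorem D115312 : act 1 n53201 = n115312 := rfl
theorem F179592 : act 4 n65625 = n115312 := d20_6 (iv4 D5865) (iv1 F8713) (iv4 F11226) D14570 D30747 D65625 (iv1 D115312) F84041 (iv3 D25872) F20357
theorem F179593 : act 7 n115312 = n65536 := d11_2 F162350 F179592 (iv4 F103727)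
theorem F179594 : act 1 n115312 = n65537 := d18_6 (iv1 F41099) (iv4 F51136) (iv1 F84781) (iv4 F94439) (iv5 F101364) F179592 F101268 F84254 F171348
theorem F179595 : act 5 n53341 = n115312 := d17_7 (iv1 F84258) F171172 (iv1 D26007) (iv5 D12327) (iv4 F20331) D25850 D53341 F179594 F101268
theorem F179596 : act 2 n65536 = n115311 := d15_3 (iv0 D115311) D115312 F179593
theorem F179597 : act 2 n115312 = n65535 := d15_3 (iv0 D65535) D65536 (iv7 F179593)
theorem F179598 : act 7 n65535 = n115311 := d4_2 (iv7 F179593) F179597 (iv2 F179596)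
theorem F179599 : act 2 n65712 = n67690 := d1_3 F103727 F179596 (iv4 F179591)
theorem E17728 : n65713 = n65625 := (c15_2 (iv0 D65712) D65713 (iv7 F162350) (iv2 F179599))
theorem F179600 : act 0 n65625 = n30772 := (sb E17728 (iv1 D65713))
def n115313 : Q := act 2 n53201
theorem D115313 : act 2 n53201 = n115313 := rfl
theorem F179601 : act 4 n115313 = n53402 := d1_2 (iv4 F84041) D115313 (iv2 D53402)
theorem F179602 : act 7 n115313 = n65537 := d4_2 (iv7 F84042) D115313 (iv2 D65537)
theorem F179603 : act 1 n115313 = n65535 := d15_0 (iv0 D65535) (iv7 F84042) D115313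
theorem F179604 : act 1 n65536 = n115313 := d15_0 F179603 F179598 (iv2 F179596)
def n115314 : Q := act 5 n53201
theorem D115314 : act 5 n53201 = n115314 := rfl
theorem F179605 : act 3 n115314 = n53202 := d6_1 D115314 (iv5 D53202) D53201
theorem F179606 : act 7 n115314 = n65538 := d13_2 (iv7 F84042) D115314 (iv5 D65538)
def n115315 : Q := act 6 n53201
theorem D115315 : act 6 n53201 = n115315 := rfl
theorem F179607 : act 3 n115315 = n53203 := d7_1 D115315 (iv6 D53203) D53201
theorem F179608 : act 4 n115315 = n53403 := d10_1 D115315 (iv6 D53403) (iv4 F84041)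
def n115316 : Q := act 6 n53202
theorem D115316 : act 6 n53202 = n115316 := rfl
theorem F179609 : act 4 n115316 = n112751 := d10_1 D115316 (iv6 D112751) (iv4 F84043)
def n115317 : Q := act 0 n53203
theorem D115317 : act 0 n53203 = n115317 := rfl
theorem F179610 : act 4 n115317 = n63026 := d20_2 (iv4 F84047) D115317 F98342 D63029 (iv3 F101616) (iv4 F104285) (iv1 F165753) F165755 (iv3 F82117) (iv1 F53471)
theorem F179611 : act 6 n115317 = n61443 := d21_5 D53176 (iv1 F84046) (iv5 D53202) D53203 D115317 (iv5 F111042) (iv1 D74212) (iv5 D34043) F26069 D25790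
theorem F179612 : act 2 n108075 = n115317 := d3_3 F179611 (iv2 F95942) D108075
def n115318 : Q := act 1 n53203
theorem D115318 : act 1 n53203 = n115318 := rfl
theorem F179613 : act 7 n115318 = n108075 := d15_2 (iv0 D115317) D115318 F179612
theorem F179614 : act 4 n67507 = n115318 := d20_6 (iv4 F24144) D30561 F49755 D34268 D74791 (iv3 F112241) (iv1 D115318) F84047 F40789 F20361
def n115319 : Q := act 5 n53203
theorem D115319 : act 5 n53203 = n115319 := rfl
def n115320 : Q := act 0 n53204
theorem D115320 : act 0 n53204 = n115320 := rfl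
def n115321 : Q := act 1 n53204
theorem D115321 : act 1 n53204 = n115321 := rfl
def n115322 : Q := act 2 n53204
theorem D115322 : act 2 n53204 = n115322 := rfl
def n115323 : Q := act 5 n53204
theorem D115323 : act 5 n53204 = n115323 := rfl
theorem F179615 : act 3 n115323 = n53205 := d6_1 D115323 (iv5 D53205) D53204
def n115324 : Q := act 6 n53204
theorem D115324 : act 6 n53204 = n115324 := rfl
theorem F179616 : act 3 n115324 = n53206 := d7_1 D115324 (iv6 D53206) D53204
def n115325 : Q := act 6 n53205
theorem D115325 : act 6 n53205 = n115325 := rfl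
theorem F179617 : act 4 n115325 = n112722 := d10_1 D115325 (iv6 D112722) (iv4 F84048)
def n115326 : Q := act 5 n53206
theorem D115326 : act 5 n53206 = n115326 := rfl
theorem F179618 : act 1 n115326 = n74264 := d17_6 (iv1 D107665) (iv5 F82211) F82212 (iv5 F85020) F85019 D115326 (iv5 D74264) D74263 F175905
def n115327 : Q := act 7 n53206
theorem D115327 : act 7 n53206 = n115327 := rfl
theorem F179619 : act 1 n65550 = n115327 := d15_1 (iv0 F169650) (iv7 D115327) (iv2 F164987)
theorem F179620 : act 1 n115327 = n65546 := d15_1 F179619 (iv7 F179588) F179587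
def n115328 : Q := act 0 n53207
theorem D115328 : act 0 n53207 = n115328 := rfl
theorem F179621 : act 3 n115328 = n65559 := d20_5 F49186 (iv1 F45675) (iv4 F45678) D53207 D115328 (iv4 D65559) (iv1 D30726) (iv4 F49187) (iv3 D30719) D30718
def n115329 : Q := act 1 n53207
theorem D115329 : act 1 n53207 = n115329 := rfl
def n115330 : Q := act 2 n53207
theorem D115330 : act 2 n53207 = n115330 := rfl
theorem F179622 : act 4 n115330 = n65944 := d1_2 (iv4 F84051) D115330 (iv2 D65944)
def n115331 : Q := act 5 n53207
theorem D115331 : act 5 n53207 = n115331 := rfl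
theorem F179623 : act 3 n115331 = n53208 := d6_1 D115331 (iv5 D53208) D53207
def n115332 : Q := act 6 n53207
theorem D115332 : act 6 n53207 = n115332 := rfl
theorem F179624 : act 3 n115332 = n53209 := d7_1 D115332 (iv6 D53209) D53207
theorem F179625 : act 4 n115332 = n65946 := d10_1 D115332 (iv6 D65946) (iv4 F84051)
def n115333 : Q := act 6 n53208
theorem D115333 : act 6 n53208 = n115333 := rfl
theorem F179626 : act 4 n115333 = n112732 := d10_1 D115333 (iv6 D112732) (iv4 F84052)
def n115334 : Q := act 5 n53209
theorem D115334 : act 5 n53209 = n115334 := rfl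
def n115335 : Q := act 7 n53209
theorem D115335 : act 7 n53209 = n115335 := rfl
def n115336 : Q := act 2 n53210
theorem D115336 : act 2 n53210 = n115336 := rfl
theorem F179627 : act 7 n53211 = n115336 := d15_2 (iv0 D53210) D53211 (iv2 D115336)
def n115337 : Q := act 3 n53210
theorem D115337 : act 3 n53210 = n115337 := rfl
def n115338 : Q := act 4 n53210
theorem D115338 : act 4 n53210 = n115338 := rfl
def n115339 : Q := act 5 n53210
theorem D115339 : act 5 n53210 = n115339 := rfl
def n115340 : Q := act 6 n53210
theorem D115340 : act 6 n53210 = n115340 := rfl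
def n115341 : Q := act 7 n53210
theorem D115341 : act 7 n53210 = n115341 := rfl
theorem F179628 : act 2 n115341 = n53211 := d4_1 D115341 F179627 (iv2 D115336)
def n115342 : Q := act 3 n53211
theorem D115342 : act 3 n53211 = n115342 := rfl
def n115343 : Q := act 4 n53211
theorem D115343 : act 4 n53211 = n115343 := rfl
def n115344 : Q := act 5 n53211
theorem D115344 : act 5 n53211 = n115344 := rfl
def n115345 : Q := act 6 n53211
theorem D115345 : act 6 n53211 = n115345 := rfl
def n115346 : Q := act 5 n53212
theorem D115346 : act 5 n53212 = n115346 := rfl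
theorem F179629 : act 2 n115346 = n53213 := d2_1 D115346 (iv5 D53213) D53212
def n115347 : Q := act 6 n53212
theorem D115347 : act 6 n53212 = n115347 := rfl
theorem F179630 : act 2 n115347 = n53214 := d3_1 D115347 (iv6 D53214) D53212
def n115348 : Q := act 0 n53213
theorem D115348 : act 0 n53213 = n115348 := rfl
def n115349 : Q := act 1 n53213
theorem D115349 : act 1 n53213 = n115349 := rfl
def n115350 : Q := act 4 n53213
theorem D115350 : act 4 n53213 = n115350 := rfl
theorem F179631 : act 3 n115350 = n112760 := d5_1 D115350 (iv4 D112760) F82263 (iv4 F40793) (iv3 F84055)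
def n115351 : Q := act 6 n53213
theorem D115351 : act 6 n53213 = n115351 := rfl
theorem F179632 : act 3 n115351 = n53217 := d7_1 D115351 (iv6 D53217) (iv3 F84055)
def n115352 : Q := act 0 n53214
theorem D115352 : act 0 n53214 = n115352 := rfl
def n115353 : Q := act 1 n53214
theorem D115353 : act 1 n53214 = n115353 := rfl
def n115354 : Q := act 5 n53214
theorem D115354 : act 5 n53214 = n115354 := rfl
theorem F179633 : act 3 n115354 = n53220 := d6_1 D115354 (iv5 D53220) (iv3 F84056)
def n115355 : Q := act 7 n53214
theorem D115355 : act 7 n53214 = n115355 := rfl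
theorem F179634 : act 3 n115355 = n53221 := d8_1 D115355 (iv7 D53221) (iv3 F84056)
def n115356 : Q := act 3 n53215
theorem D115356 : act 3 n53215 = n115356 := rfl
theorem F179635 : act 5 n115356 = n53255 := d6_2 (iv5 F84057) D115356 (iv3 D53255)
def n115357 : Q := act 6 n53215
theorem D115357 : act 6 n53215 = n115357 := rfl
theorem F179636 : act 4 n115357 = n107590 := d10_1 D115357 (iv6 D107590) (iv4 F84058)
def n115358 : Q := act 3 n53216
theorem D115358 : act 3 n53216 = n115358 := rfl
theorem F179637 : act 5 n115358 = n53257 := d6_2 (iv5 F84061) D115358 (iv3 D53257)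
def n115359 : Q := act 6 n53216
theorem D115359 : act 6 n53216 = n115359 := rfl
theorem F179638 : act 4 n115359 = n112707 := d10_1 D115359 (iv6 D112707) F84062
def n115360 : Q := act 0 n53217
theorem D115360 : act 0 n53217 = n115360 := rfl
def n115361 : Q := act 1 n53217
theorem D115361 : act 1 n53217 = n115361 := rfl
def n115362 : Q := act 5 n53217
theorem D115362 : act 5 n53217 = n115362 := rfl
theorem F179639 : act 6 n115362 = n53220 := d12_2 D53217 D115362 (iv5 D53220) (iv6 D25808) D25807
def n115363 : Q := act 7 n53217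
theorem D115363 : act 7 n53217 = n115363 := rfl
theorem F179640 : act 4 n115363 = n112769 := d11_1 D115363 (iv7 D112769) (iv4 F84063)
def n115364 : Q := act 3 n53218
theorem D115364 : act 3 n53218 = n115364 := rfl
def n115365 : Q := act 5 n53218
theorem D115365 : act 5 n53218 = n115365 := rfl
theorem F179641 : act 0 n115365 = n74284 := d17_2 D53218 D115365 (iv5 D74284) F53496 F26104 D30155 (iv5 F48493) (iv0 D25809) (iv4 F40794)
def n115366 : Q := act 3 n53219
theorem D115366 : act 3 n53219 = n115366 := rfl
def n115367 : Q := act 5 n53219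
theorem D115367 : act 5 n53219 = n115367 := rfl
theorem F179642 : act 1 n115367 = n74284 := d17_6 F165800 (iv5 D59448) D59446 F93835 (iv4 F165010) D115367 (iv5 D74284) D74283 (iv4 F165797)
def n115368 : Q := act 6 n53219
theorem D115368 : act 6 n53219 = n115368 := rfl
def n115369 : Q := act 0 n53220
theorem D115369 : act 0 n53220 = n115369 := rfl
def n115370 : Q := act 1 n53220
theorem D115370 : act 1 n53220 = n115370 := rfl
theorem F179643 : act 5 n115370 = n64418 := d17_7 (iv1 F53502) F101972 F101965 (iv5 D25811) (iv4 F40794) D53220 D115370 F111484 F111482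
def n115371 : Q := act 4 n53220
theorem D115371 : act 4 n53220 = n115371 := rfl
def n115372 : Q := act 7 n53220
theorem D115372 : act 7 n53220 = n115372 := rfl
theorem F179644 : act 5 n115372 = n53221 := d13_1 D115372 (iv7 D53221) D53220
def n115373 : Q := act 0 n53224
theorem D115373 : act 0 n53224 = n115373 := rfl
theorem F179645 : act 4 n115373 = n59441 := d20_2 D53224 D115373 F93826 (iv1 F111380) F84914 D67815 F162030 F84016 F40773 D25809
theorem F179646 : act 2 n65819 = n115373 := d15_3 (iv0 D115373) (iv0 F176283) (iv7 F176284)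
theorem F179647 : act 1 n53227 = n115373 := d15_0 (iv0 D115373) (iv7 F100325) F100324
theorem F179648 : act 7 n115373 = n59438 := d15_2 (iv0 F176282) F179647 (iv2 F176280)
theorem F179649 : act 6 n66156 = n115373 := d14_5 F179648 (iv6 D59438) (iv7 F79616) D108823 (iv7 F168792)
def n115374 : Q := act 3 n53224
theorem D115374 : act 3 n53224 = n115374 := rfl
theorem F179650 : act 4 n115374 = n64398 := d5_2 D53224 D115374 (iv3 D64398) (iv4 D30324) (iv3 F111207)
def n115375 : Q := act 5 n53224
theorem D115375 : act 5 n53224 = n115375 := rfl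
theorem F179651 : act 2 n115375 = n65822 := d2_1 D115375 (iv5 D65822) F111217
theorem F179652 : act 0 n115375 = n74308 := d17_2 F176283 D115375 (iv5 D74308) (iv4 F82419) F82420 F111441 (iv5 F168670) (iv0 F168669) (iv4 F176281)
def n115377 : Q := act 5 n53227
theorem D115377 : act 5 n53227 = n115377 := rfl
theorem F179655 : act 7 n115377 = n65822 := d13_2 F111218 D115377 (iv5 D65822)
theorem F179656 : act 1 n115377 = n74308 := d17_6 (iv1 D34084) F26104 F111193 (iv5 F111198) D53227 D115377 (iv5 D74308) (iv0 F162013) (iv4 D74288)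
def n115378 : Q := act 6 n53227
theorem D115378 : act 6 n53227 = n115378 := rfl
theorem F179657 : act 4 n115378 = n53228 := d10_1 D115378 (iv6 D53228) D53227
def n115379 : Q := act 4 n53229
theorem D115379 : act 4 n53229 = n115379 := rfl
theorem F179658 : act 2 n115379 = n64188 := d1_1 D115379 (iv4 D64188) (iv2 F99940)
theorem F179659 : act 7 n115379 = n64192 := d11_2 (iv7 F99941) D115379 (iv4 D64192)
theorem F179660 : act 1 n115379 = n63907 := d18_6 F165800 (iv4 F111029) (iv1 F111488) (iv4 D64413) (iv5 F84067) D115379 F99400 (iv0 F165799) (iv5 F165795)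
theorem F179661 : act 1 n64212 = n115379 := d15_1 F167838 F179659 (iv2 F111955)
def n115380 : Q := act 6 n53229
theorem D115380 : act 6 n53229 = n115380 := rfl
theorem F179662 : act 2 n115380 = n64189 := d3_1 D115380 (iv6 D64189) (iv2 F99940)
theorem F179663 : act 3 n115380 = n64414 := d7_1 D115380 (iv6 D64414) (iv3 F102073)
theorem F179664 : act 5 n115380 = n62634 := d12_1 D115380 (iv6 F100008) (iv5 F100333) (iv6 D64414) (iv5 F84067)
theorem F179665 : act 7 n115380 = n63981 := d14_2 (iv7 F99941) D115380 (iv6 D63981) (iv7 F99936) (iv6 F81362)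
theorem F179666 : act 0 n115380 = n63554 := d21_4 D14390 D30331 (iv5 F84067) D115380 (iv6 F98870) D64055 F99828 F99825 (iv6 D30330) (iv1 D14389)
theorem F179667 : act 0 n63550 = n115380 := d21_4 (iv5 D24654) D24652 D50617 (iv6 F98867) (iv6 D115380) F84067 (iv1 F53504) F53500 F48495 (iv1 F38655)
def n115381 : Q := act 0 n53231
theorem D115381 : act 0 n53231 = n115381 := rfl
def n115382 : Q := act 1 n53231
theorem D115382 : act 1 n53231 = n115382 := rfl
theorem F179668 : act 1 n115382 = n64185 := d15_1 D115382 (iv7 D64185) (iv2 F84070)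
theorem F179669 : act 5 n64388 = n115382 := d17_7 (iv1 F101966) (iv5 F101972) (iv1 D30332) (iv5 D14390) (iv4 F24029) D30320 D64388 F179668 F99921
theorem F179670 : act 6 n63970 = n115382 := d21_5 D30304 F48735 (iv5 D30167) D30168 D63970 (iv5 F179669) (iv1 D64388) (iv5 D30320) (iv6 D14387) D14383
theorem F179671 : act 2 n115382 = n64183 := d3_1 F179670 F172080 (iv2 F103590)
def n115383 : Q := act 3 n53231
theorem D115383 : act 3 n53231 = n115383 := rfl
theorem F179672 : act 4 n115383 = n107715 := d5_2 D53231 D115383 F166355 (iv4 F79313) F79312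
theorem F179673 : act 6 n115383 = n53234 := d7_2 (iv6 F84071) D115383 (iv3 D53234)
def n115384 : Q := act 5 n53231
theorem D115384 : act 5 n53231 = n115384 := rfl
theorem F179674 : act 2 n115384 = n64184 := d2_1 D115384 (iv5 D64184) (iv2 F84070)
def n115385 : Q := act 7 n53231
theorem D115385 : act 7 n53231 = n115385 := rfl
theorem F179675 : act 2 n115385 = n64185 := d4_1 D115385 (iv7 D64185) (iv2 F84070)
theorem F179676 : act 4 n115385 = n53232 := d11_1 D115385 (iv7 D53232) D53231
theorem F179677 : act 6 n115385 = n64166 := d14_1 D115385 (iv7 D64166) (iv6 D30236) (iv7 F40798) (iv6 F84071)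
theorem F179678 : act 1 n64185 = n115381 := d15_0 (iv0 D115381) D115385 F179675
theorem F179679 : act 1 n64183 = n115385 := d15_1 D64183 (iv7 D115385) F84070
theorem F179680 : act 7 n115381 = n64183 := d15_2 F179668 F179678 (iv2 F179671)
theorem F179681 : act 2 n115381 = n64182 := d15_3 (iv0 D64182) D64183 (iv7 F179680)
theorem F179682 : act 7 n64182 = n115382 := d4_2 (iv7 F179680) F179681 F179671
theorem F179683 : act 1 n115385 = n64182 := d15_1 F179679 F179682 F179671
def n115386 : Q := act 3 n53233
theorem D115386 : act 3 n53233 = n115386 := rfl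
theorem F179684 : act 4 n115386 = n65082 := d5_2 (iv4 F84079) D115386 (iv3 D65082) F48986 F47948
theorem F179685 : act 7 n115386 = n64154 := d8_2 (iv7 F84078) D115386 (iv3 D64154)
theorem F179686 : act 0 n115386 = n65310 := d20_4 (iv4 F46393) (iv1 F47023) (iv4 F84079) D115386 (iv3 D65310) (iv4 D30642) (iv1 D14524) (iv4 F23969) (iv3 D14356) D14354
def n115387 : Q := act 6 n53233
theorem D115387 : act 6 n53233 = n115387 := rfl
theorem F179687 : act 2 n115387 = n64153 := d3_1 D115387 (iv6 D64153) F84080
theorem F179688 : act 4 n115387 = n62007 := d10_1 D115387 (iv6 D62007) (iv4 F84079)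
theorem F179689 : act 7 n115387 = n63963 := d14_2 (iv7 F84078) D115387 (iv6 D63963) F48523 F48627
theorem F179690 : act 1 n64058 = n115387 := d15_1 (iv0 F100219) F179689 F99526
theorem F179691 : act 1 n115387 = n64054 := d15_1 F179690 F99790 F99759
def n115388 : Q := act 0 n53234
theorem D115388 : act 0 n53234 = n115388 := rfl
theorem F179692 : act 1 n64157 = n115388 := d15_0 (iv0 D115388) F84082 D64157
def n115389 : Q := act 1 n53234
theorem D115389 : act 1 n53234 = n115389 := rfl
def n115390 : Q := act 2 n53234
theorem D115390 : act 2 n53234 = n115390 := rfl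
theorem F179693 : act 3 n115390 = n64178 := d0_2 D53234 D115390 (iv2 D64178) (iv3 D30240) (iv2 F40797)
theorem F179694 : act 4 n115390 = n107713 := d1_2 (iv4 F84081) D115390 (iv2 D107713)
theorem F179695 : act 7 n115390 = n64157 := d4_2 (iv7 F84082) D115390 (iv2 D64157)
theorem F179696 : act 1 n115390 = n64155 := d15_0 (iv0 D64155) (iv7 F84082) D115390
theorem F179697 : act 1 n115389 = n64157 := d15_1 D115389 (iv7 F179695) (iv2 D115390)
theorem F179698 : act 1 n64156 = n115390 := d15_1 D64156 F179695 (iv2 D64157)
def n115391 : Q := act 5 n53234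
theorem D115391 : act 5 n53234 = n115391 := rfl
theorem F179699 : act 3 n115391 = n53235 := d6_1 D115391 (iv5 D53235) D53234
theorem F179700 : act 7 n115391 = n64158 := d13_2 (iv7 F84082) D115391 (iv5 D64158)
def n115392 : Q := act 6 n53235
theorem D115392 : act 6 n53235 = n115392 := rfl
theorem F179701 : act 2 n115392 = n64181 := d3_1 D115392 (iv6 D64181) (iv2 F84083)
theorem F179702 : act 4 n115392 = n62188 := d10_1 D115392 (iv6 D62188) (iv4 F84085)
def n115393 : Q := act 2 n53236
theorem D115393 : act 2 n53236 = n115393 := rfl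
theorem F179703 : act 7 n53237 = n115393 := d15_2 (iv0 D53236) D53237 (iv2 D115393)
def n115394 : Q := act 3 n53236
theorem D115394 : act 3 n53236 = n115394 := rfl
def n115395 : Q := act 4 n53236
theorem D115395 : act 4 n53236 = n115395 := rfl
def n115396 : Q := act 5 n53236
theorem D115396 : act 5 n53236 = n115396 := rfl
def n115397 : Q := act 6 n53236
theorem D115397 : act 6 n53236 = n115397 := rfl
def n115398 : Q := act 7 n53236
theorem D115398 : act 7 n53236 = n115398 := rfl
theorem F179704 : act 2 n115398 = n53237 := d4_1 D115398 F179703 (iv2 D115393)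
def n115399 : Q := act 3 n53237
theorem D115399 : act 3 n53237 = n115399 := rfl
def n115400 : Q := act 5 n53237
theorem D115400 : act 5 n53237 = n115400 := rfl
def n115401 : Q := act 6 n53237
theorem D115401 : act 6 n53237 = n115401 := rfl
def n115402 : Q := act 5 n53238
theorem D115402 : act 5 n53238 = n115402 := rfl
theorem F179705 : act 2 n115402 = n53239 := d2_1 D115402 (iv5 D53239) D53238
def n115403 : Q := act 6 n53238
theorem D115403 : act 6 n53238 = n115403 := rfl
theorem F179706 : act 2 n115403 = n53240 := d3_1 D115403 (iv6 D53240) D53238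
theorem F179707 : act 4 n115403 = n112676 := d10_1 D115403 (iv6 D112676) (iv4 F84086)
def n115404 : Q := act 0 n53239
theorem D115404 : act 0 n53239 = n115404 := rfl
def n115405 : Q := act 1 n53239
theorem D115405 : act 1 n53239 = n115405 := rfl
theorem F179708 : act 5 n115405 = n53281 := d17_7 (iv1 F163677) F172122 (iv1 D106413) F77650 (iv4 F40799) D53239 D115405 F165178 F165175
def n115406 : Q := act 4 n53239
theorem D115406 : act 4 n53239 = n115406 := rfl
def n115407 : Q := act 6 n53239
theorem D115407 : act 6 n53239 = n115407 := rfl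
theorem F179709 : act 3 n115407 = n53241 := d7_1 D115407 (iv6 D53241) (iv3 F84087)
def n115408 : Q := act 0 n53240
theorem D115408 : act 0 n53240 = n115408 := rfl
def n115409 : Q := act 1 n53240
theorem D115409 : act 1 n53240 = n115409 := rfl
def n115410 : Q := act 5 n53240
theorem D115410 : act 5 n53240 = n115410 := rfl
theorem F179710 : act 3 n115410 = n53244 := d6_1 D115410 (iv5 D53244) (iv3 F84088)
def n115411 : Q := act 7 n53240
theorem D115411 : act 7 n53240 = n115411 := rfl
theorem F179711 : act 3 n115411 = n53245 := d8_1 D115411 (iv7 D53245) (iv3 F84088)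
theorem F179712 : act 4 n115411 = n112680 := d11_1 D115411 (iv7 D112680) (iv4 F84089)
def n115412 : Q := act 0 n53241
theorem D115412 : act 0 n53241 = n115412 := rfl
def n115413 : Q := act 1 n53241
theorem D115413 : act 1 n53241 = n115413 := rfl
def n115414 : Q := act 5 n53241
theorem D115414 : act 5 n53241 = n115414 := rfl
theorem F179713 : act 6 n115414 = n53244 := d12_2 D53241 D115414 (iv5 D53244) (iv6 D25816) D25815
def n115415 : Q := act 7 n53241
theorem D115415 : act 7 n53241 = n115415 := rfl
def n115416 : Q := act 3 n53242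
theorem D115416 : act 3 n53242 = n115416 := rfl
theorem F179714 : act 4 n115416 = n65987 := d5_2 (iv4 F171691) D115416 (iv3 D65987) D65988 (iv3 F171686)
def n115417 : Q := act 5 n53242
theorem D115417 : act 5 n53242 = n115417 := rfl
def n115418 : Q := act 6 n53242
theorem D115418 : act 6 n53242 = n115418 := rfl
def n115419 : Q := act 3 n53243
theorem D115419 : act 3 n53243 = n115419 := rfl
def n115420 : Q := act 5 n53243
theorem D115420 : act 5 n53243 = n115420 := rfl
def n115421 : Q := act 0 n53244
theorem D115421 : act 0 n53244 = n115421 := rfl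
def n115422 : Q := act 1 n53244
theorem D115422 : act 1 n53244 = n115422 := rfl
def n115423 : Q := act 4 n53244
theorem D115423 : act 4 n53244 = n115423 := rfl
def n115424 : Q := act 7 n53244
theorem D115424 : act 7 n53244 = n115424 := rfl
theorem F179715 : act 5 n115424 = n53245 := d13_1 D115424 (iv7 D53245) D53244
def n115425 : Q := act 0 n53246
theorem D115425 : act 0 n53246 = n115425 := rfl
theorem F179716 : act 4 n115425 = n110843 := d18_3 D25817 D53246 D115425 (iv5 F176839) F176837 F174053 (iv4 D111888) F161264 F39428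
theorem F179717 : act 2 n66156 = n115425 := d15_3 (iv0 D115425) (iv0 F168791) (iv7 F168792)
theorem F179718 : act 1 n53248 = n115425 := d15_0 (iv0 D115425) F84091 (iv2 F84095)
theorem F179719 : act 7 n115425 = n65534 := d15_2 (iv0 F168790) F179718 (iv2 F168788)
theorem F179720 : act 6 n65819 = n115425 := d14_5 F179719 (iv6 D65534) (iv7 F82574) D113143 (iv7 F176284)
def n115426 : Q := act 3 n53246
theorem D115426 : act 3 n53246 = n115426 := rfl
theorem F179721 : act 4 n115426 = n53499 := d5_2 D53246 D115426 (iv3 D53499) (iv4 D25916) (iv3 F83901)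
def n115427 : Q := act 5 n53246
theorem D115427 : act 5 n53246 = n115427 := rfl
theorem F179723 : act 7 n115427 = n66158 := d13_2 (iv7 F84091) D115427 (iv5 D66158)
def n115428 : Q := act 6 n53246
theorem D115428 : act 6 n53246 = n115428 := rfl
theorem F179724 : act 4 n115428 = n53247 := d10_1 D115428 (iv6 D53247) D53246
theorem F179725 : act 7 n115428 = n61442 := d14_2 (iv7 F84091) D115428 F95940 (iv7 F48759) (iv6 F49364)
def n115429 : Q := act 3 n53248
theorem D115429 : act 3 n53248 = n115429 := rfl
theorem F179726 : act 4 n115429 = n64504 := d5_2 D53248 D115429 (iv3 D64504) (iv4 D30368) (iv3 F40803)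
def n115430 : Q := act 5 n53248
theorem D115430 : act 5 n53248 = n115430 := rfl
theorem F179727 : act 2 n115430 = n66158 := d2_1 D115430 (iv5 D66158) (iv2 F84095)
def n115431 : Q := act 0 n53249
theorem D115431 : act 0 n53249 = n115431 := rfl
theorem F179728 : act 1 n105619 = n115431 := d15_0 (iv0 D115431) F84097 D105619
def n115432 : Q := act 1 n53249
theorem D115432 : act 1 n53249 = n115432 := rfl
def n115433 : Q := act 2 n53249
theorem D115433 : act 2 n53249 = n115433 := rfl
theorem F179729 : act 3 n115433 = n105611 := d0_2 D53249 D115433 (iv2 D105611) (iv3 D48827) (iv2 F40806)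
theorem F179730 : act 4 n115433 = n53260 := d1_2 (iv4 F84096) D115433 (iv2 D53260)
theorem F179731 : act 7 n115433 = n105619 := d4_2 (iv7 F84097) D115433 (iv2 D105619)
theorem F179732 : act 1 n115433 = n105617 := d15_0 (iv0 D105617) (iv7 F84097) D115433
theorem F179733 : act 1 n115432 = n105619 := d15_1 D115432 (iv7 F179731) (iv2 D115433)
theorem F179734 : act 1 n105618 = n115433 := d15_1 D105618 F179731 (iv2 D105619)
def n115434 : Q := act 6 n53249
theorem D115434 : act 6 n53249 = n115434 := rfl
theorem F179735 : act 3 n115434 = n53250 := d7_1 D115434 (iv6 D53250) D53249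
theorem F179736 : act 4 n115434 = n53262 := d10_1 D115434 (iv6 D53262) (iv4 F84096)
def n115435 : Q := act 1 n53250
theorem D115435 : act 1 n53250 = n115435 := rfl
theorem F179737 : act 1 n115435 = n105616 := d15_1 D115435 (iv7 D105616) (iv2 F84098)
theorem F179738 : act 7 n115435 = n105584 := d15_2 (iv0 F102035) D115435 F162191
theorem F179739 : act 4 n105506 = n115435 := d20_0 (iv1 D115435) F84099 F40810 D25827 (iv3 F102015) D30403 F100004 (iv4 F162163) F162162 (iv1 F161975)
theorem F179740 : act 2 n115435 = n105586 := d1_1 F179739 (iv4 D105586) F162021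
def n115436 : Q := act 5 n53250
theorem D115436 : act 5 n53250 = n115436 := rfl
theorem F179741 : act 2 n115436 = n105615 := d2_1 D115436 (iv5 D105615) (iv2 F84098)
def n115437 : Q := act 7 n53250
theorem D115437 : act 7 n53250 = n115437 := rfl
theorem F179742 : act 2 n115437 = n105616 := d4_1 D115437 (iv7 D105616) (iv2 F84098)
theorem F179743 : act 4 n115437 = n53254 := d11_1 D115437 (iv7 D53254) (iv4 F84099)
theorem F179744 : act 6 n115437 = n105626 := d14_1 D115437 (iv7 D105626) (iv6 D48832) (iv7 F40807) D53250
theorem F179745 : act 1 n105586 = n115437 := d15_1 (iv0 F162197) (iv7 D115437) F84098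
theorem F179746 : act 1 n115437 = n105584 := d15_1 F179745 (iv7 F179738) F179740
def n115438 : Q := act 5 n53251
theorem D115438 : act 5 n53251 = n115438 := rfl
theorem F179747 : act 3 n115438 = n66210 := d6_1 D115438 (iv5 D66210) (iv3 F111140)
theorem F179748 : act 6 n115438 = n64544 := d12_2 (iv6 F111141) D115438 (iv5 D64544) D64545 F100493
theorem F179749 : act 7 n115438 = n66287 := d13_2 (iv7 F111142) D115438 (iv5 D66287)
def n115439 : Q := act 5 n53252
theorem D115439 : act 5 n53252 = n115439 := rfl
theorem F179750 : act 2 n115439 = n66287 := d2_1 D115439 (iv5 D66287) (iv2 F163613)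
theorem F179751 : act 3 n115439 = n106856 := d6_1 D115439 F176205 (iv3 F176207)
theorem F179752 : act 6 n115439 = n63700 := d21_3 (iv5 F163619) (iv1 F163621) D115439 (iv1 D63700) (iv6 D30064) F23814 (iv1 F22509) D14227 D29960 D63416
def n115440 : Q := act 6 n53252
theorem D115440 : act 6 n53252 = n115440 := rfl
theorem F179753 : act 2 n115440 = n66288 := d3_1 D115440 (iv6 D66288) (iv2 F163613)
def n115441 : Q := act 0 n53255
theorem D115441 : act 0 n53255 = n115441 := rfl
theorem F179754 : act 3 n115441 = n64031 := d20_5 F40765 (iv1 F39929) (iv4 F40811) D53255 D115441 (iv4 D64031) (iv1 D30187) (iv4 F40759) (iv3 D25792) D25790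
def n115442 : Q := act 1 n53255
theorem D115442 : act 1 n53255 = n115442 := rfl
def n115443 : Q := act 2 n53255
theorem D115443 : act 2 n53255 = n115443 := rfl
def n115444 : Q := act 6 n53255
theorem D115444 : act 6 n53255 = n115444 := rfl
theorem F179755 : act 3 n115444 = n53256 := d7_1 D115444 (iv6 D53256) D53255
def n115445 : Q := act 5 n53256
theorem D115445 : act 5 n53256 = n115445 := rfl
def n115446 : Q := act 0 n53257
theorem D115446 : act 0 n53257 = n115446 := rfl
theorem F179756 : act 3 n115446 = n53753 := d20_5 F40756 (iv1 F40758) F40814 D53257 D115446 (iv4 D53753) (iv1 F41092) (iv4 F40841) F40840 (iv1 F40755)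
def n115447 : Q := act 1 n53257
theorem D115447 : act 1 n53257 = n115447 := rfl
def n115448 : Q := act 2 n53257
theorem D115448 : act 2 n53257 = n115448 := rfl
theorem F179757 : act 4 n115448 = n66507 := d1_2 (iv4 F84105) D115448 (iv2 D66507)
theorem F179758 : act 1 n115448 = n53742 := d15_0 (iv0 F165166) F165165 D115448
def n115449 : Q := act 2 n53258
theorem D115449 : act 2 n53258 = n115449 := rfl
theorem F179759 : act 7 n53259 = n115449 := d15_2 (iv0 D53258) D53259 (iv2 D115449)
def n115450 : Q := act 3 n53258
theorem D115450 : act 3 n53258 = n115450 := rfl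
def n115451 : Q := act 4 n53258
theorem D115451 : act 4 n53258 = n115451 := rfl
def n115452 : Q := act 5 n53258
theorem D115452 : act 5 n53258 = n115452 := rfl
def n115453 : Q := act 6 n53258
theorem D115453 : act 6 n53258 = n115453 := rfl
def n115454 : Q := act 7 n53258
theorem D115454 : act 7 n53258 = n115454 := rfl
theorem F179760 : act 2 n115454 = n53259 := d4_1 D115454 F179759 (iv2 D115449)
def n115455 : Q := act 3 n53259
theorem D115455 : act 3 n53259 = n115455 := rfl
def n115456 : Q := act 4 n53259
theorem D115456 : act 4 n53259 = n115456 := rfl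
theorem F179761 : act 3 n115456 = n64763 := d20_9 F162172 (iv1 F99585) D64757 (iv3 F162218) (iv1 F165278) F165275 (iv4 F179472) (iv1 F179476) D115456 (iv1 F162174)
def n115457 : Q := act 5 n53259
theorem D115457 : act 5 n53259 = n115457 := rfl
def n115458 : Q := act 6 n53259
theorem D115458 : act 6 n53259 = n115458 := rfl
def n115459 : Q := act 5 n53260
theorem D115459 : act 5 n53260 = n115459 := rfl
theorem F179762 : act 2 n115459 = n53261 := d2_1 D115459 (iv5 D53261) D53260
def n115460 : Q := act 6 n53260
theorem D115460 : act 6 n53260 = n115460 := rfl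
theorem F179763 : act 2 n115460 = n53262 := d3_1 D115460 (iv6 D53262) D53260
def n115461 : Q := act 0 n53261
theorem D115461 : act 0 n53261 = n115461 := rfl
def n115462 : Q := act 1 n53261
theorem D115462 : act 1 n53261 = n115462 := rfl
def n115463 : Q := act 4 n53261
theorem D115463 : act 4 n53261 = n115463 := rfl
theorem F179764 : act 3 n115463 = n112416 := d5_1 D115463 (iv4 D112416) F81894 F45319 (iv3 F84106)
def n115464 : Q := act 6 n53261
theorem D115464 : act 6 n53261 = n115464 := rfl
theorem F179765 : act 3 n115464 = n53265 := d7_1 D115464 (iv6 D53265) (iv3 F84106)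
def n115465 : Q := act 0 n53262
theorem D115465 : act 0 n53262 = n115465 := rfl
def n115466 : Q := act 1 n53262
theorem D115466 : act 1 n53262 = n115466 := rfl
def n115467 : Q := act 5 n53262
theorem D115467 : act 5 n53262 = n115467 := rfl
theorem F179766 : act 3 n115467 = n53268 := d6_1 D115467 (iv5 D53268) (iv3 F84107)
def n115468 : Q := act 7 n53262
theorem D115468 : act 7 n53262 = n115468 := rfl
theorem F179767 : act 3 n115468 = n53269 := d8_1 D115468 (iv7 D53269) (iv3 F84107)
def n115469 : Q := act 3 n53263
theorem D115469 : act 3 n53263 = n115469 := rfl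
theorem F179768 : act 5 n115469 = n67505 := d6_2 (iv5 F84108) D115469 (iv3 D67505)
theorem F179769 : act 7 n115469 = n115323 := d8_2 F84112 D115469 F179615
def n115470 : Q := act 6 n53263
theorem D115470 : act 6 n53263 = n115470 := rfl
theorem F179770 : act 2 n115470 = n115333 := d3_1 D115470 (iv6 D115333) F84111
theorem F179771 : act 4 n115470 = n110374 := d10_1 D115470 (iv6 D110374) (iv4 F84109)
def n115471 : Q := act 3 n53264
theorem D115471 : act 3 n53264 = n115471 := rfl
theorem F179772 : act 5 n115471 = n107044 := d6_2 (iv5 F84115) D115471 (iv3 D107044)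
theorem F179773 : act 7 n115471 = n115331 := d8_2 (iv7 F84114) D115471 F179623
def n115472 : Q := act 6 n53264
theorem D115472 : act 6 n53264 = n115472 := rfl
theorem F179774 : act 2 n115472 = n115325 := d3_1 D115472 (iv6 D115325) F84116
theorem F179775 : act 4 n115472 = n110389 := d10_1 D115472 (iv6 D110389) F84117
def n115473 : Q := act 0 n53265
theorem D115473 : act 0 n53265 = n115473 := rfl
def n115474 : Q := act 1 n53265
theorem D115474 : act 1 n53265 = n115474 := rfl
def n115475 : Q := act 5 n53265
theorem D115475 : act 5 n53265 = n115475 := rfl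
theorem F179776 : act 6 n115475 = n53268 := d12_2 D53265 D115475 (iv5 D53268) (iv6 D25826) D25825
def n115476 : Q := act 7 n53265
theorem D115476 : act 7 n53265 = n115476 := rfl
def n115477 : Q := act 3 n53266
theorem D115477 : act 3 n53266 = n115477 := rfl
def n115478 : Q := act 5 n53266
theorem D115478 : act 5 n53266 = n115478 := rfl
def n115479 : Q := act 3 n53267
theorem D115479 : act 3 n53267 = n115479 := rfl
def n115480 : Q := act 4 n53267
theorem D115480 : act 4 n53267 = n115480 := rfl
theorem F179777 : act 2 n115480 = n105666 := d1_1 D115480 F165185 F165199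
def n115481 : Q := act 5 n53267
theorem D115481 : act 5 n53267 = n115481 := rfl
def n115482 : Q := act 6 n53267
theorem D115482 : act 6 n53267 = n115482 := rfl
def n115483 : Q := act 0 n53268
theorem D115483 : act 0 n53268 = n115483 := rfl
theorem F179778 : act 5 n115483 = n74227 := d21_8 D34064 (iv1 F111089) F111091 (iv6 F53485) (iv1 D25823) D25826 D53268 D115483 (iv6 D74227) (iv1 F53429)
theorem E17729 : n115480 = n59512 := (c17_10 (iv1 D59512) D59513 F93937 D61881 (iv4 F111079) (iv5 F179778) (iv0 D115483) (iv5 D53268) D53267 D115480)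
theorem F179779 : act 2 n59512 = n105666 := (sb E17729 F179777)
theorem F179780 : act 4 n59512 = n53267 := (sb E17729 (iv4 D115480))
def n115484 : Q := act 1 n53268
theorem D115484 : act 1 n53268 = n115484 := rfl
theorem F179781 : act 5 n115418 = n115484 := d21_6 (iv5 F84057) (iv1 F84059) (iv5 D25815) D25816 D53242 D115418 (iv1 D115484) (iv5 D53268) (iv6 D25826) D25822
def n115485 : Q := act 4 n53268
theorem D115485 : act 4 n53268 = n115485 := rfl
def n115486 : Q := act 7 n53268
theorem D115486 : act 7 n53268 = n115486 := rfl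
theorem F179782 : act 5 n115486 = n53269 := d13_1 D115486 (iv7 D53269) D53268
def n115487 : Q := act 3 n53272
theorem D115487 : act 3 n53272 = n115487 := rfl
theorem F179783 : act 4 n115487 = n64607 := d5_2 D53272 D115487 (iv3 D64607) (iv4 D30403) F102015
def n115488 : Q := act 5 n53272
theorem D115488 : act 5 n53272 = n115488 := rfl
theorem F179784 : act 2 n115488 = n66459 := d2_1 D115488 (iv5 D66459) (iv2 F102034)
def n115489 : Q := act 4 n53273
theorem D115489 : act 4 n53273 = n115489 := rfl
theorem F179785 : act 2 n115489 = n66460 := d1_1 D115489 (iv4 D66460) F102038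
theorem F179786 : act 6 n115489 = n64610 := d10_2 (iv6 F84120) D115489 (iv4 D64610)
def n115490 : Q := act 3 n53276
theorem D115490 : act 3 n53276 = n115490 := rfl
theorem F179787 : act 4 n115490 = n53572 := d5_2 D53276 D115490 (iv3 D53572) (iv4 D25943) F102018
theorem F179788 : act 7 n115490 = n66458 := d8_2 (iv7 F102019) D115490 (iv3 D66458)
def n115491 : Q := act 5 n53276
theorem D115491 : act 5 n53276 = n115491 := rfl
theorem F179789 : act 7 n115491 = n66459 := d13_2 (iv7 F102019) D115491 (iv5 D66459)
def n115492 : Q := act 6 n53276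
theorem D115492 : act 6 n53276 = n115492 := rfl
theorem F179790 : act 4 n115492 = n53278 := d10_1 D115492 (iv6 D53278) D53276
def n115493 : Q := act 4 n53277
theorem D115493 : act 4 n53277 = n115493 := rfl
theorem F179791 : act 6 n115493 = n63304 := d10_2 (iv6 F102012) D115493 (iv4 D63304)
theorem F179792 : act 7 n115493 = n66460 := d11_2 (iv7 F102013) D115493 (iv4 D66460)
def n115494 : Q := act 1 n53279
theorem D115494 : act 1 n53279 = n115494 := rfl
theorem F179793 : act 1 n115494 = n63817 := d15_1 D115494 F99202 F95790
def n115495 : Q := act 3 n53279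
theorem D115495 : act 3 n53279 = n115495 := rfl
theorem F179794 : act 6 n115495 = n62628 := d7_2 (iv6 F84123) D115495 (iv3 D62628)
def n115496 : Q := act 5 n53279
theorem D115496 : act 5 n53279 = n115496 := rfl
def n115497 : Q := act 3 n53280
theorem D115497 : act 3 n53280 = n115497 := rfl
def n115498 : Q := act 5 n53280
theorem D115498 : act 5 n53280 = n115498 := rfl
def n115499 : Q := act 6 n53280
theorem D115499 : act 6 n53280 = n115499 := rfl
def n115500 : Q := act 3 n53281
theorem D115500 : act 3 n53281 = n115500 := rfl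
theorem F179795 : act 7 n115500 = n53721 := d8_2 (iv7 F165338) D115500 (iv3 F165172)
theorem F179796 : act 2 n53720 = n115500 := d4_3 F179795 (iv2 F102802) (iv7 F102804)
theorem F179797 : act 1 n53758 = n115500 := d15_1 (iv0 F102258) F179795 (iv2 F102802)
def n115501 : Q := act 6 n53281
theorem D115501 : act 6 n53281 = n115501 := rfl
def n115502 : Q := act 5 n53282
theorem D115502 : act 5 n53282 = n115502 := rfl
theorem F179798 : act 2 n115502 = n53283 := d2_1 D115502 (iv5 D53283) D53282
def n115503 : Q := act 6 n53282
theorem D115503 : act 6 n53282 = n115503 := rfl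
theorem F179799 : act 2 n115503 = n53284 := d3_1 D115503 (iv6 D53284) D53282
def n115504 : Q := act 0 n53283
theorem D115504 : act 0 n53283 = n115504 := rfl
def n115505 : Q := act 1 n53283
theorem D115505 : act 1 n53283 = n115505 := rfl
def n115506 : Q := act 4 n53283
theorem D115506 : act 4 n53283 = n115506 := rfl
def n115507 : Q := act 6 n53283
theorem D115507 : act 6 n53283 = n115507 := rfl
theorem F179800 : act 3 n115507 = n53285 := d7_1 D115507 (iv6 D53285) (iv3 F84124)
def n115508 : Q := act 0 n53284
theorem D115508 : act 0 n53284 = n115508 := rfl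
def n115509 : Q := act 1 n53284
theorem D115509 : act 1 n53284 = n115509 := rfl
def n115510 : Q := act 5 n53284
theorem D115510 : act 5 n53284 = n115510 := rfl
theorem F179801 : act 3 n115510 = n53288 := d6_1 D115510 (iv5 D53288) (iv3 F84125)
def n115511 : Q := act 7 n53284
theorem D115511 : act 7 n53284 = n115511 := rfl
theorem F179802 : act 3 n115511 = n53289 := d8_1 D115511 (iv7 D53289) (iv3 F84125)
def n115512 : Q := act 0 n53285
theorem D115512 : act 0 n53285 = n115512 := rfl
def n115513 : Q := act 1 n53285
theorem D115513 : act 1 n53285 = n115513 := rfl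
def n115514 : Q := act 5 n53285
theorem D115514 : act 5 n53285 = n115514 := rfl
theorem F179803 : act 6 n115514 = n53288 := d12_2 D53285 D115514 (iv5 D53288) (iv6 D25833) D25832
def n115515 : Q := act 7 n53285
theorem D115515 : act 7 n53285 = n115515 := rfl
def n115516 : Q := act 2 n53286
theorem D115516 : act 2 n53286 = n115516 := rfl
theorem F179804 : act 7 n53287 = n115516 := d15_2 (iv0 D53286) D53287 (iv2 D115516)
def n115517 : Q := act 3 n53286
theorem D115517 : act 3 n53286 = n115517 := rfl
theorem F179805 : act 4 n115517 = n66542 := d5_2 (iv4 F171720) D115517 (iv3 D66542) D66543 F171719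
def n115518 : Q := act 5 n53286
theorem D115518 : act 5 n53286 = n115518 := rfl
theorem F179806 : act 1 n115518 = n64707 := d17_6 (iv1 D108047) (iv5 F99609) F166207 (iv5 F171718) (iv4 F171720) D115518 (iv5 D64707) D64705 (iv4 F167020)
def n115519 : Q := act 6 n53286
theorem D115519 : act 6 n53286 = n115519 := rfl
def n115520 : Q := act 7 n53286
theorem D115520 : act 7 n53286 = n115520 := rfl
theorem F179807 : act 2 n115520 = n53287 := d4_1 D115520 F179804 (iv2 D115516)
def n115521 : Q := act 3 n53287
theorem D115521 : act 3 n53287 = n115521 := rfl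
def n115522 : Q := act 5 n53287
theorem D115522 : act 5 n53287 = n115522 := rfl
theorem F179808 : act 0 n115522 = n64707 := d17_2 (iv1 F179489) D115522 (iv5 D64707) (iv4 D30442) (iv5 D14455) D14454 (iv5 F83877) F83984 (iv4 F179486)
def n115523 : Q := act 0 n53288
theorem D115523 : act 0 n53288 = n115523 := rfl
def n115524 : Q := act 1 n53288
theorem D115524 : act 1 n53288 = n115524 := rfl
theorem F179809 : act 5 n115524 = n74233 := d17_7 D34055 F84139 (iv1 D53298) (iv5 D25836) (iv4 F40818) D53288 D115524 (iv0 D74233) F53432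
def n115525 : Q := act 4 n53288
theorem D115525 : act 4 n53288 = n115525 := rfl
def n115526 : Q := act 7 n53288
theorem D115526 : act 7 n53288 = n115526 := rfl
theorem F179810 : act 5 n115526 = n53289 := d13_1 D115526 (iv7 D53289) D53288
def n115527 : Q := act 3 n53292
theorem D115527 : act 3 n53292 = n115527 := rfl
theorem F179811 : act 4 n115527 = n53636 := d5_2 D53292 D115527 (iv3 D53636) (iv4 D25966) F161284
theorem F179812 : act 7 n115527 = n66738 := d8_2 (iv7 F161285) D115527 (iv3 D66738)
def n115528 : Q := act 5 n53292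
theorem D115528 : act 5 n53292 = n115528 := rfl
theorem F179813 : act 7 n115528 = n66739 := d13_2 (iv7 F161285) D115528 (iv5 D66739)
def n115529 : Q := act 6 n53292
theorem D115529 : act 6 n53292 = n115529 := rfl
theorem F179814 : act 4 n115529 = n53293 := d10_1 D115529 (iv6 D53293) D53292
def n115530 : Q := act 3 n53296
theorem D115530 : act 3 n53296 = n115530 := rfl
theorem F179815 : act 4 n115530 = n64697 := d5_2 D53296 D115530 (iv3 D64697) (iv4 D30437) (iv3 F161290)
def n115531 : Q := act 5 n53296
theorem D115531 : act 5 n53296 = n115531 := rfl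
theorem F179816 : act 2 n115531 = n66739 := d2_1 D115531 (iv5 D66739) (iv2 F161278)
def n115532 : Q := act 4 n53298
theorem D115532 : act 4 n53298 = n115532 := rfl
theorem F179817 : act 2 n115532 = n64135 := d1_1 D115532 (iv4 D64135) (iv2 F99841)
theorem F179818 : act 7 n115532 = n64132 := d11_2 (iv7 F99842) D115532 (iv4 D64132)
theorem F179819 : act 0 n115532 = n108038 := d18_2 (iv1 F84138) D115532 F166989 (iv5 F84168) F84167 (iv0 F166208) (iv4 D53296) F83984 F83981
def n115533 : Q := act 0 n53299
theorem D115533 : act 0 n53299 = n115533 := rfl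
def n115534 : Q := act 1 n53299
theorem D115534 : act 1 n53299 = n115534 := rfl
theorem F179820 : act 1 n115534 = n64129 := d15_1 D115534 (iv7 D64129) (iv2 F84140)
theorem F179821 : act 4 n74730 = n115534 := d20_6 (iv4 F111188) (iv1 F175719) F175716 F82334 (iv1 F80693) D74730 (iv1 D115534) (iv4 D53299) F40820 D52112
theorem F179822 : act 7 n115534 = n64126 := d11_2 F166994 F179821 F166993
theorem F179823 : act 2 n64126 = n115533 := d15_3 (iv0 D115533) D115534 F179822
theorem F179824 : act 6 n115533 = n63933 := d3_2 (iv6 F100317) F179823 F111373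
theorem F179825 : act 7 n64127 = n115533 := d15_2 (iv0 D64126) D64127 (iv2 F179823)
theorem F179826 : act 2 n115534 = n64127 := d4_3 F179825 (iv2 F179823) (iv7 F179822)
theorem F179827 : act 1 n64129 = n115533 := d15_1 F179820 (iv7 F179825) (iv2 F179826)
theorem F179828 : act 4 n64127 = n108040 := d1_2 F179821 F179826 (iv2 F167029)
theorem F179829 : act 5 n64678 = n64127 := d17_3 (iv1 D30427) D30428 D64678 F179828 (iv5 F167015) (iv0 D108046) (iv5 F99609) (iv0 F166089) F161378
def n115535 : Q := act 3 n53299
theorem D115535 : act 3 n53299 = n115535 := rfl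
theorem F179830 : act 4 n115535 = n112904 := d5_2 D53299 D115535 F175823 F82371 (iv3 F40820)
def n115536 : Q := act 5 n53299
theorem D115536 : act 5 n53299 = n115536 := rfl
theorem F179832 : act 2 n115536 = n64128 := d2_1 D115536 (iv5 D64128) (iv2 F84140)
theorem F179833 : act 0 n115536 = n64671 := d17_2 (iv1 D115534) D115536 (iv5 D64671) D64670 (iv5 F171718) (iv0 D110863) (iv5 F92802) (iv0 F166216) F179821
theorem F179834 : act 1 n115536 = n64676 := d17_6 (iv1 F48547) (iv5 F83877) (iv1 D25835) D25836 D53299 D115536 (iv5 D64676) F99572 F99569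
def n115537 : Q := act 7 n53299
theorem D115537 : act 7 n53299 = n115537 := rfl
theorem F179835 : act 2 n115537 = n64129 := d4_1 D115537 (iv7 D64129) (iv2 F84140)
theorem F179836 : act 4 n115537 = n53300 := d11_1 D115537 (iv7 D53300) D53299
theorem F179837 : act 6 n115537 = n64145 := d14_1 D115537 (iv7 D64145) (iv6 D30227) (iv7 F47042) (iv6 F84141)
theorem F179838 : act 1 n64127 = n115537 := d15_1 D64127 (iv7 D115537) F84140
theorem F179839 : act 1 n115537 = n64126 := d15_1 F179838 (iv7 F179822) F179826
def n115538 : Q := act 2 n53301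
theorem D115538 : act 2 n53301 = n115538 := rfl
theorem F179840 : act 7 n53302 = n115538 := d15_2 (iv0 D53301) D53302 (iv2 D115538)
def n115539 : Q := act 3 n53301
theorem D115539 : act 3 n53301 = n115539 := rfl
theorem F179841 : act 4 n115539 = n105618 := d20_6 (iv4 D28717) (iv1 F40823) (iv4 D25840) D25839 D53301 D115539 (iv1 D105618) (iv4 F83970) (iv3 D53169) (iv1 F46319)
def n115540 : Q := act 4 n53301
theorem D115540 : act 4 n53301 = n115540 := rfl
def n115541 : Q := act 5 n53301
theorem D115541 : act 5 n53301 = n115541 := rfl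
def n115542 : Q := act 6 n53301
theorem D115542 : act 6 n53301 = n115542 := rfl
def n115543 : Q := act 7 n53301
theorem D115543 : act 7 n53301 = n115543 := rfl
theorem F179842 : act 2 n115543 = n53302 := d4_1 D115543 F179840 (iv2 D115538)
def n115544 : Q := act 3 n53302
theorem D115544 : act 3 n53302 = n115544 := rfl
def n115545 : Q := act 4 n53302
theorem D115545 : act 4 n53302 = n115545 := rfl
theorem F179843 : act 3 n110879 = n115545 := d20_5 (iv4 D14533) (iv1 F20432) (iv4 F39015) D51131 D110879 (iv4 D115545) (iv1 D53302) D53304 F84149 (iv1 F47901)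
def n115546 : Q := act 5 n53302
theorem D115546 : act 5 n53302 = n115546 := rfl
def n115547 : Q := act 6 n53302
theorem D115547 : act 6 n53302 = n115547 := rfl
def n115548 : Q := act 4 n53303
theorem D115548 : act 4 n53303 = n115548 := rfl
theorem F179844 : act 2 n115548 = n53304 := d1_1 D115548 (iv4 D53304) D53303
theorem F179845 : act 7 n115548 = n110866 := d11_2 F179516 D115548 (iv4 F179515)
theorem F179846 : act 1 n110865 = n115548 := d15_1 D110865 F179845 (iv2 D110866)
theorem F179847 : act 3 n110855 = n115548 := d0_0 F179844 F84149 (iv2 F47900) D51116 D110855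
theorem F179848 : act 1 n115548 = n66350 := d15_0 (iv0 F102261) (iv7 F84150) (iv2 F179844)
def n115549 : Q := act 5 n53303
theorem D115549 : act 5 n53303 = n115549 := rfl
theorem F179849 : act 2 n115549 = n53305 := d2_1 D115549 (iv5 D53305) D53303
def n115550 : Q := act 6 n53303
theorem D115550 : act 6 n53303 = n115550 := rfl
theorem F179850 : act 2 n115550 = n53306 := d3_1 D115550 (iv6 D53306) D53303
def n115551 : Q := act 0 n53304
theorem D115551 : act 0 n53304 = n115551 := rfl
theorem F179851 : act 3 n115551 = n53605 := d20_5 (iv4 D24861) D24860 (iv4 F47899) (iv3 F84149) D115551 (iv4 D53605) (iv1 D25955) (iv4 F41011) (iv3 D25948) (iv1 F38949)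
theorem F179852 : act 1 n110866 = n115551 := d15_0 (iv0 D115551) F84150 D110866
theorem F179853 : act 7 n66350 = n115551 := d8_0 F179851 F102808 D66350
theorem F179854 : act 2 n115551 = n110865 := d15_3 F179846 F179848 F179853
def n115552 : Q := act 1 n53304
theorem D115552 : act 1 n53304 = n115552 := rfl
theorem F179855 : act 1 n115552 = n110866 := d15_1 D115552 (iv7 F179845) F179844
theorem F179856 : act 7 n115552 = n110865 := d15_2 (iv0 D115551) D115552 (iv2 F179854)
theorem F179857 : act 4 n115497 = n115552 := d20_6 F40762 (iv1 F20297) D12266 D25831 D53280 D115497 (iv1 D115552) (iv4 D53304) (iv3 D25839) (iv1 F40766)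
theorem F179858 : act 2 n66350 = n115552 := d4_3 F179856 (iv2 F179854) (iv7 F179853)
def n115553 : Q := act 5 n53304
theorem D115553 : act 5 n53304 = n115553 := rfl
theorem F179859 : act 3 n115553 = n62945 := d6_1 D115553 (iv5 D62945) (iv3 F84149)
theorem F179860 : act 7 n115553 = n110867 := d13_2 (iv7 F84150) D115553 (iv5 D110867)
def n115554 : Q := act 6 n53304
theorem D115554 : act 6 n53304 = n115554 := rfl
theorem F179861 : act 3 n115554 = n62946 := d7_1 D115554 (iv6 D62946) (iv3 F84149)
theorem F179862 : act 4 n115554 = n53306 := d10_1 D115554 (iv6 D53306) D53304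
def n115559 : Q := act 0 n53306
theorem D115559 : act 0 n53306 = n115559 := rfl
def n115560 : Q := act 1 n53306
theorem D115560 : act 1 n53306 = n115560 := rfl
def n115561 : Q := act 5 n53306
theorem D115561 : act 5 n53306 = n115561 := rfl
theorem F179864 : act 3 n115561 = n53312 := d6_1 D115561 (iv5 D53312) (iv3 F84152)
def n115562 : Q := act 7 n53306
theorem D115562 : act 7 n53306 = n115562 := rfl
theorem F179865 : act 3 n115562 = n53313 := d8_1 D115562 (iv7 D53313) (iv3 F84152)
def n115563 : Q := act 0 n53307
theorem D115563 : act 0 n53307 = n115563 := rfl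
theorem F179866 : act 4 n115563 = n107181 := d20_0 (iv1 F165190) F84118 (iv3 F84103) F102195 (iv3 D30967) D30968 F98753 F98206 (iv3 F84154) D115563
theorem F179867 : act 2 n59511 = n115563 := d15_3 (iv0 D115563) F179214 (iv7 F165196)
theorem F179868 : act 6 n115563 = n112961 := d3_2 F165796 F179867 F175908
theorem F179869 : act 7 n115563 = n59512 := d4_2 (iv7 F165196) F179867 F179779
theorem F179870 : act 1 n59514 = n115563 := d15_1 (iv0 F179213) F179869 F179779
def n115564 : Q := act 7 n53307
theorem D115564 : act 7 n53307 = n115564 := rfl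
theorem F179871 : act 2 n115564 = n59514 := d4_1 D115564 (iv7 D59514) (iv2 F84153)
theorem F179872 : act 3 n115564 = n110812 := d8_1 D115564 (iv7 D110812) (iv3 F84154)
theorem F179873 : act 4 n115564 = n53313 := d11_1 D115564 (iv7 D53313) (iv4 F84155)
theorem F179874 : act 5 n115564 = n61880 := d13_1 D115564 F96463 F95162
theorem F179875 : act 6 n115564 = n110864 := d14_1 D115564 (iv7 D110864) (iv6 D51123) F40826 D53307
theorem F179876 : act 1 n59512 = n115564 := d15_1 D59512 (iv7 D115564) F84153
theorem F179877 : act 1 n115564 = n59511 := d15_1 F179876 F165196 (iv2 F179779)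
def n115565 : Q := act 3 n53308
theorem D115565 : act 3 n53308 = n115565 := rfl
theorem F179878 : act 5 n115565 = n107043 := d6_2 (iv5 F84156) D115565 (iv3 D107043)
theorem F179879 : act 7 n115565 = n115302 := d8_2 (iv7 F84160) D115565 F179568
def n115566 : Q := act 6 n53308
theorem D115566 : act 6 n53308 = n115566 := rfl
theorem F179880 : act 2 n115566 = n115316 := d3_1 D115566 (iv6 D115316) F84158
theorem F179881 : act 4 n115566 = n110399 := d10_1 D115566 (iv6 D110399) (iv4 F84157)
def n115569 : Q := act 5 n53309
theorem D115569 : act 5 n53309 = n115569 := rfl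
theorem F179882 : act 6 n115569 = n53312 := d12_2 D53309 D115569 (iv5 D53312) (iv6 D25842) D25841
def n115571 : Q := act 0 n53312
theorem D115571 : act 0 n53312 = n115571 := rfl
theorem F179883 : act 5 n115571 = n63820 := d17_3 F97707 D53312 D115571 (iv4 D63820) (iv5 D30110) (iv0 F40817) (iv5 D25829) D25828 D53276
def n115572 : Q := act 1 n53312
theorem D115572 : act 1 n53312 = n115572 := rfl
theorem F179884 : act 5 n115428 = n115572 := d21_6 (iv5 F82605) F82607 F79619 D108823 F168791 D115428 (iv1 D115572) (iv5 D53312) (iv6 D25842) (iv1 F40766)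
def n115574 : Q := act 7 n53312
theorem D115574 : act 7 n53312 = n115574 := rfl
theorem F179885 : act 5 n115574 = n53313 := d13_1 D115574 (iv7 D53313) D53312
def n115575 : Q := act 2 n53314
theorem D115575 : act 2 n53314 = n115575 := rfl
theorem F179886 : act 7 n53315 = n115575 := d15_2 (iv0 D53314) D53315 (iv2 D115575)
def n115576 : Q := act 4 n53314
theorem D115576 : act 4 n53314 = n115576 := rfl
def n115577 : Q := act 5 n53314
theorem D115577 : act 5 n53314 = n115577 := rfl
def n115578 : Q := act 6 n53314
theorem D115578 : act 6 n53314 = n115578 := rfl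
def n115579 : Q := act 7 n53314
theorem D115579 : act 7 n53314 = n115579 := rfl
theorem F179887 : act 2 n115579 = n53315 := d4_1 D115579 F179886 (iv2 D115575)
def n115580 : Q := act 3 n53315
theorem D115580 : act 3 n53315 = n115580 := rfl
def n115581 : Q := act 4 n53315
theorem D115581 : act 4 n53315 = n115581 := rfl
theorem F179888 : act 3 n59570 = n115581 := d20_5 (iv4 D29912) (iv1 F26044) (iv4 F26051) D28278 D59570 (iv4 D115581) (iv1 D53315) D53317 F84161 (iv1 F48050)
def n115582 : Q := act 5 n53315
theorem D115582 : act 5 n53315 = n115582 := rfl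
def n115583 : Q := act 6 n53315
theorem D115583 : act 6 n53315 = n115583 := rfl
def n115584 : Q := act 4 n53316
theorem D115584 : act 4 n53316 = n115584 := rfl
theorem F179889 : act 2 n115584 = n53317 := d1_1 D115584 (iv4 D53317) D53316
theorem F179890 : act 7 n115584 = n59519 := d11_2 F179498 D115584 (iv4 F179497)
theorem F179891 : act 1 n59518 = n115584 := d15_1 D59518 F179890 (iv2 D59519)
theorem F179892 : act 3 n59548 = n115584 := d0_0 F179889 F84161 F45657 D28271 D59548
theorem F179893 : act 1 n115584 = n59517 := d15_0 (iv0 D59517) (iv7 F84162) (iv2 F179889)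
def n115585 : Q := act 5 n53316
theorem D115585 : act 5 n53316 = n115585 := rfl
theorem F179894 : act 2 n115585 = n53318 := d2_1 D115585 (iv5 D53318) D53316
def n115586 : Q := act 6 n53316
theorem D115586 : act 6 n53316 = n115586 := rfl
theorem F179895 : act 2 n115586 = n53319 := d3_1 D115586 (iv6 D53319) D53316
def n115587 : Q := act 0 n53317
theorem D115587 : act 0 n53317 = n115587 := rfl
theorem F179896 : act 3 n115587 = n64567 := d20_5 F22651 (iv1 F22604) D28216 (iv3 F84161) D115587 (iv4 D64567) (iv1 D30389) (iv4 F48811) (iv3 D30378) F24075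
theorem F179897 : act 1 n59519 = n115587 := d15_0 (iv0 D115587) F84162 D59519
def n115588 : Q := act 1 n53317
theorem D115588 : act 1 n53317 = n115588 := rfl
theorem F179898 : act 1 n115588 = n59519 := d15_1 D115588 (iv7 F179890) F179889
theorem F179899 : act 4 n115450 = n115588 := d20_6 (iv4 D5818) D5816 D12264 D25824 D53258 D115450 (iv1 D115588) (iv4 D53317) (iv3 D25843) (iv1 D12269)
theorem F179900 : act 0 n53722 = n115450 := d20_10 F179899 (iv1 D115588) (iv4 D53317) (iv3 D25843) (iv1 D12269) D12270 F20331 D12324 D25995 D53722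
def n115589 : Q := act 5 n53317
theorem D115589 : act 5 n53317 = n115589 := rfl
theorem F179901 : act 3 n115589 = n59420 := d6_1 D115589 (iv5 D59420) (iv3 F84161)
theorem F179902 : act 7 n115589 = n59520 := d13_2 (iv7 F84162) D115589 (iv5 D59520)
def n115590 : Q := act 6 n53317
theorem D115590 : act 6 n53317 = n115590 := rfl
theorem F179903 : act 3 n115590 = n59421 := d7_1 D115590 (iv6 D59421) (iv3 F84161)
theorem F179904 : act 4 n115590 = n53319 := d10_1 D115590 (iv6 D53319) D53317
def n115591 : Q := act 0 n53318
theorem D115591 : act 0 n53318 = n115591 := rfl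
def n115592 : Q := act 1 n53318
theorem D115592 : act 1 n53318 = n115592 := rfl
def n115593 : Q := act 4 n53318
theorem D115593 : act 4 n53318 = n115593 := rfl
def n115594 : Q := act 6 n53318
theorem D115594 : act 6 n53318 = n115594 := rfl
theorem F179905 : act 3 n115594 = n53321 := d7_1 D115594 (iv6 D53321) (iv3 F84163)
def n115595 : Q := act 0 n53319
theorem D115595 : act 0 n53319 = n115595 := rfl
def n115596 : Q := act 1 n53319
theorem D115596 : act 1 n53319 = n115596 := rfl
def n115597 : Q := act 5 n53319
theorem D115597 : act 5 n53319 = n115597 := rfl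
theorem F179906 : act 3 n115597 = n53324 := d6_1 D115597 (iv5 D53324) (iv3 F84164)
def n115598 : Q := act 7 n53319
theorem D115598 : act 7 n53319 = n115598 := rfl
theorem F179907 : act 3 n115598 = n53325 := d8_1 D115598 (iv7 D53325) (iv3 F84164)
def n115599 : Q := act 0 n53320
theorem D115599 : act 0 n53320 = n115599 := rfl
theorem F179908 : act 4 n115599 = n115245 := d18_1 D115599 (iv1 F179488) F84126 (iv5 F84144) (iv4 F179836) F179839 F166993 (iv0 D108039) (iv5 F84168)
theorem F179909 : act 5 n64775 = n115599 := d18_4 (iv1 F161287) (iv4 F48542) D63991 (iv4 F166215) F179908 (iv0 D115245) F83976 F161275 (iv5 F41044)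
theorem F179910 : act 3 n59659 = n115599 := d20_5 D49565 F104356 (iv4 F37979) (iv3 F45822) D59659 F179908 (iv1 F179488) F84126 (iv3 F77670) (iv1 F77673)
theorem F179911 : act 2 n115599 = n110863 := d0_1 F179910 (iv3 F171719) F166462 (iv3 D59670) (iv2 F166405)
theorem F179912 : act 7 n115599 = n59674 := d8_2 (iv7 F166406) F179910 (iv3 D59674)
theorem F179913 : act 0 n115599 = n110864 := d20_10 (iv4 F179527) (iv1 F179529) (iv4 D53296) F161290 (iv1 D14454) (iv3 F24102) (iv4 F48848) D64631 F165335 F179910
theorem E17730 : n115516 = n115245 := (c11_3 F179912 F163599 F179804 (iv4 F179908))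
theorem F179914 : act 2 n115245 = n53286 := (sb E17730 (iv2 D115516))
theorem F179915 : act 7 n115245 = n53287 := (sb E17730 (iv7 F179804))
theorem E17731 : n115520 = n115246 := (c15_4 F179483 F179488 F179915 (iv2 F179807))
theorem F179916 : act 2 n115246 = n53287 := (sb E17731 F179807)
theorem F179917 : act 7 n115246 = n53286 := (sb E17731 (iv7 D115520))
def n115600 : Q := act 1 n53320
theorem D115600 : act 1 n53320 = n115600 := rfl
theorem F179918 : act 1 n115600 = n110864 := d15_1 D115600 (iv7 D110864) (iv2 F84165)
theorem F179919 : act 7 n115600 = n110863 := d15_2 (iv0 D115599) D115600 (iv2 F179911)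
theorem F179920 : act 5 n115600 = n64776 := d18_9 (iv1 D64776) F48878 (iv1 F166059) (iv4 D30432) (iv5 F84129) D53292 F166079 (iv4 F84167) D115600
theorem F179921 : act 3 n110875 = n115600 := d20_9 F84167 (iv1 F166079) (iv4 D53292) (iv3 F161284) (iv1 F20445) (iv3 F24370) (iv4 F49467) (iv1 F102380) (iv4 F171744) (iv1 D115600)
theorem F179922 : act 2 n115600 = n59674 := d0_1 F179921 (iv3 D59674) (iv2 F166414) (iv3 F102410) (iv2 F171742)
theorem F179923 : act 6 n115600 = n112959 := d7_2 F171746 F179921 F175895
theorem F179924 : act 4 n115246 = n115600 := d20_2 (iv4 F84126) (iv1 F179483) (iv3 F179921) F171745 (iv3 F99607) F99608 (iv1 F166091) (iv4 D63997) (iv3 F161292) (iv1 F83983)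
def n115601 : Q := act 7 n53320
theorem D115601 : act 7 n53320 = n115601 := rfl
theorem F179925 : act 2 n115601 = n110864 := d4_1 D115601 (iv7 D110864) (iv2 F84165)
theorem F179926 : act 3 n115601 = n59424 := d8_1 D115601 (iv7 D59424) (iv3 F84166)
theorem F179927 : act 4 n115601 = n53325 := d11_1 D115601 (iv7 D53325) (iv4 F84167)
theorem F179928 : act 5 n115601 = n108041 := d13_1 D115601 (iv7 D108041) (iv5 F84168)
theorem F179929 : act 6 n115601 = n59514 := d14_1 D115601 (iv7 D59514) (iv6 D28260) (iv7 F40833) D53320
theorem F179930 : act 1 n59674 = n115601 := d15_1 (iv0 F166483) (iv7 D115601) F84165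
theorem F179931 : act 1 n115601 = n110863 := d15_1 F179930 (iv7 F179919) F179922
def n115602 : Q := act 0 n53321
theorem D115602 : act 0 n53321 = n115602 := rfl
def n115603 : Q := act 1 n53321
theorem D115603 : act 1 n53321 = n115603 := rfl
def n115604 : Q := act 5 n53321
theorem D115604 : act 5 n53321 = n115604 := rfl
theorem F179932 : act 6 n115604 = n53324 := d12_2 D53321 D115604 (iv5 D53324) (iv6 D25846) D25845
def n115605 : Q := act 7 n53321
theorem D115605 : act 7 n53321 = n115605 := rfl
def n115606 : Q := act 0 n53324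
theorem D115606 : act 0 n53324 = n115606 := rfl
theorem F179933 : act 5 n115606 = n74240 := d17_3 F166208 D53324 D115606 (iv4 D74240) F111210 F111200 (iv5 D25836) D25835 D53296
def n115607 : Q := act 1 n53324
theorem D115607 : act 1 n53324 = n115607 := rfl
theorem F179934 : act 5 n115607 = n74238 := d17_7 D108046 F167015 (iv1 D108040) (iv5 F84168) F84167 D53324 D115607 F167013 F167011
def n115608 : Q := act 4 n53324
theorem D115608 : act 4 n53324 = n115608 := rfl
def n115609 : Q := act 7 n53324
theorem D115609 : act 7 n53324 = n115609 := rfl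
theorem F179935 : act 5 n115609 = n53325 := d13_1 D115609 (iv7 D53325) D53324
def n115610 : Q := act 5 n53326
theorem D115610 : act 5 n53326 = n115610 := rfl
theorem F179936 : act 2 n115610 = n53344 := d2_1 D115610 F84182 F84169
theorem F179937 : act 7 n115610 = n53339 := d13_2 (iv7 F84171) D115610 (iv5 D53339)
theorem F179938 : act 1 n53341 = n115610 := d15_1 D53341 F179937 F84179
theorem F179939 : act 1 n115610 = n53340 := d15_0 (iv0 D53340) D53344 (iv2 F179936)
theorem F179940 : act 5 n53340 = n115311 := d17_7 D53400 F171348 (iv1 F41099) (iv5 F41087) (iv4 F84170) D115610 F179939 (iv0 D115311) F84041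
theorem F179941 : act 4 n109318 = n53340 := d16_6 (iv4 F179592) F101364 F94439 F84783 F80448 D109318 F179940 (iv7 F179598) (iv2 F179597)
def n115611 : Q := act 6 n53326
theorem D115611 : act 6 n53326 = n115611 := rfl
theorem F179942 : act 2 n115611 = n53345 := d3_1 D115611 (iv6 D53345) F84169
theorem F179943 : act 4 n115611 = n53706 := d10_1 D115611 (iv6 D53706) (iv4 F84170)
def n115612 : Q := act 3 n53327
theorem D115612 : act 3 n53327 = n115612 := rfl
theorem F179944 : act 4 n115612 = n105691 := d5_2 (iv4 F173696) D115612 (iv3 D105691) (iv4 D48863) D48862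
theorem F179945 : act 7 n115612 = n53333 := d8_2 F84173 D115612 (iv3 D53333)
def n115613 : Q := act 5 n53327
theorem D115613 : act 5 n53327 = n115613 := rfl
theorem F179946 : act 2 n115613 = n53330 := d2_1 D115613 (iv5 D53330) D53327
theorem F179947 : act 7 n115613 = n53335 := d13_2 F84173 D115613 (iv5 D53335)
theorem F179948 : act 1 n53330 = n65538 := d15_0 F175007 (iv7 F179947) F179946
def n115614 : Q := act 6 n53327
theorem D115614 : act 6 n53327 = n115614 := rfl
theorem F179949 : act 2 n115614 = n53331 := d3_1 D115614 (iv6 D53331) D53327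
theorem F179950 : act 4 n115614 = n105688 := d10_1 D115614 (iv6 D105688) (iv4 F173696)
def n115615 : Q := act 0 n53328
theorem D115615 : act 0 n53328 = n115615 := rfl
def n115616 : Q := act 1 n53328
theorem D115616 : act 1 n53328 = n115616 := rfl
def n115617 : Q := act 2 n53328
theorem D115617 : act 2 n53328 = n115617 := rfl
def n115618 : Q := act 4 n53328
theorem D115618 : act 4 n53328 = n115618 := rfl
theorem F179951 : act 0 n115618 = n53905 := d20_7 (iv4 D12266) (iv1 D5817) D5818 D12270 D25847 D53328 D115618 F85002 (iv3 D53255) (iv1 F40812)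
def n115619 : Q := act 5 n53328
theorem D115619 : act 5 n53328 = n115619 := rfl
theorem F179952 : act 3 n115619 = n53330 := d6_1 D115619 (iv5 D53330) D53328
def n115620 : Q := act 6 n53328
theorem D115620 : act 6 n53328 = n115620 := rfl
theorem F179953 : act 3 n115620 = n53331 := d7_1 D115620 (iv6 D53331) D53328
def n115621 : Q := act 7 n53328
theorem D115621 : act 7 n53328 = n115621 := rfl
theorem F179954 : act 3 n115621 = n53332 := d8_1 D115621 (iv7 D53332) D53328
theorem F179955 : act 4 n115621 = n60471 := d20_6 (iv4 D24169) F18539 (iv4 F20332) (iv3 F40840) (iv1 F173700) (iv3 F179954) (iv1 D60471) (iv4 F95021) (iv3 D60466) F46318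
theorem F179956 : act 7 n60471 = n115618 := d11_2 D115621 F179955 (iv4 D115618)
theorem F179957 : act 2 n115618 = n60470 := d15_3 (iv0 D60470) D60471 F179956
theorem F179958 : act 4 n60470 = n115617 := d1_2 D115618 F179957 (iv2 D115617)
def n115622 : Q := act 0 n53329
theorem D115622 : act 0 n53329 = n115622 := rfl
theorem F179959 : act 4 n115622 = n115500 := d20_2 D53329 D115622 (iv3 D115500) (iv1 D53281) (iv3 D25831) (iv4 D12266) (iv1 D5817) D5818 D12270 D25847
theorem F179960 : act 2 n53604 = n115622 := d15_3 (iv0 D115622) (iv0 F102252) (iv7 F102805)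
theorem F179961 : act 3 n115622 = n66326 := d0_2 D53604 F179960 (iv2 D66326) (iv3 D30981) F102806
theorem F179962 : act 7 n115622 = n66346 := d4_2 (iv7 F102805) F179960 (iv2 D66346)
theorem E17732 : n105685 = n53604 := ((c15_4 (iv0 D105685) (iv0 F102830) (iv7 F179962) (iv2 F179960))).symm
theorem F179963 : act 1 n53604 = n48862 := (sb E17732 (iv0 D105685))
theorem E17733 : n105690 = n67028 := ((c20_1 D67028 (iv1 D105690) (iv4 D48863) D48862 (iv1 F179963) (iv3 D53604) D53605 F103068 (iv4 D67107) (iv3 F102840) (iv1 F102842))).symm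
theorem F179964 : act 0 n67028 = n48863 := (sb E17733 (iv1 D105690))
theorem F179965 : act 1 n67028 = n48868 := (sb E17733 F162308)
theorem F179966 : act 1 n53334 = n115622 := d15_1 (iv0 F173698) F179962 (iv2 D66346)
theorem F179967 : act 0 n53753 = n115500 := d20_1 D53753 (iv4 F179959) F179961 (iv1 F102824) (iv3 F102779) F100660 F102784 F24111 (iv3 F20460) D26003
theorem E17734 : n66774 = n53757 := ((c20_10 D66776 F102828 (iv4 D59689) D59688 (iv1 F102823) (iv3 F179961) F179959 (iv1 F179797) (iv4 D53758) D53757 (iv1 D66774))).symm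
theorem F179968 : act 0 n53757 = n31131 := (sb E17734 (iv1 D66774))
theorem F179969 : act 1 n53753 = n66347 := d15_1 (iv0 F179967) (iv7 F102804) F179796
def n115623 : Q := act 3 n53329
theorem D115623 : act 3 n53329 = n115623 := rfl
theorem F179970 : act 2 n115623 = n66304 := d0_1 D115623 (iv3 D66304) F173681 D48862 (iv2 F173697)
theorem F179971 : act 0 n115623 = n53526 := d20_4 (iv4 F20331) D25847 D53329 D115623 (iv3 D53526) D53527 F84765 (iv4 D53739) (iv3 D25999) (iv1 D12325)
theorem F179972 : act 4 n115623 = n66759 := d20_6 D31237 (iv1 F102251) (iv4 D30987) D30986 F102252 D115623 (iv1 D66759) (iv4 D31127) D31126 (iv1 F102949)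
theorem F179973 : act 3 n115618 = n66759 := d5_5 (iv4 F179972) (iv3 D115623) (iv4 D53329) D53328 D115618
theorem F179974 : act 0 n66591 = n115623 := d20_4 D14745 (iv1 F49543) (iv4 F102542) F102514 (iv3 D115623) (iv4 D53329) D53326 F84170 F41086 (iv1 F24396)
theorem F179975 : act 7 n115623 = n105705 := d15_2 F162314 (iv0 F179971) (iv2 D105705)
def n115624 : Q := act 5 n53329
theorem D115624 : act 5 n53329 = n115624 := rfl
theorem F179976 : act 2 n115624 = n105687 := d2_1 D115624 (iv5 D105687) (iv2 F173697)
def n115625 : Q := act 6 n53329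
theorem D115625 : act 6 n53329 = n115625 := rfl
theorem F179977 : act 2 n115625 = n105688 := d3_1 D115625 (iv6 D105688) (iv2 F173697)
theorem F179978 : act 4 n115625 = n53331 := d10_1 D115625 (iv6 D53331) D53329
def n115626 : Q := act 7 n53329
theorem D115626 : act 7 n53329 = n115626 := rfl
theorem F179979 : act 2 n115626 = n53334 := d4_1 D115626 F173676 (iv2 F173697)
theorem F179980 : act 3 n115626 = n105705 := d8_1 D115626 (iv7 F179975) (iv3 D115623)
theorem F179981 : act 4 n115626 = n53332 := d11_1 D115626 (iv7 D53332) D53329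
theorem F179982 : act 1 n66346 = n115626 := d15_1 (iv0 F102830) (iv7 D115626) F173697
theorem F179983 : act 1 n115626 = n53604 := d15_1 F179982 F102805 D66346
theorem E17735 : n105705 = n66590 := ((c20_5 D31208 (iv1 F103004) (iv4 F100654) (iv3 F102657) (iv1 F102659) (iv3 F179980) F179981 F173699 F40838 F20460 (iv1 F102988))).symm
theorem F179984 : act 2 n66590 = n48867 := (sb E17735 (iv2 D105705))
theorem F179985 : act 3 n66590 = n115626 := (sb E17735 (iv3 F179980))
theorem F179986 : act 7 n66590 = n115623 := (sb E17735 (iv7 F179975))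
theorem E17736 : n66589 = n66304 := ((c15_4 (iv0 D66589) D66590 F179986 F179970)).symm
theorem F179987 : act 0 n66304 = n66797 := (sb E17736 (iv1 F102660))
theorem F179988 : act 1 n66304 = n31072 := (sb E17736 (iv0 D66589))
def n115627 : Q := act 0 n53330
theorem D115627 : act 0 n53330 = n115627 := rfl
theorem F179989 : act 5 n115627 = n115313 := d17_3 D25847 D53330 D115627 F179601 (iv5 F175003) (iv0 D53726) (iv5 D25996) (iv0 D12324) (iv4 F20331)
theorem F179990 : act 2 n115314 = n115627 := d15_3 (iv0 D115627) F179948 (iv7 F179606)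
def n115628 : Q := act 6 n53330
theorem D115628 : act 6 n53330 = n115628 := rfl
def n115629 : Q := act 7 n53330
theorem D115629 : act 7 n53330 = n115629 := rfl
theorem F179991 : act 2 n115629 = n53335 := d4_1 D115629 (iv7 F179947) F179946
theorem F179992 : act 4 n115629 = n109344 := d11_1 D115629 (iv7 F174122) (iv4 F174123)
theorem F179993 : act 5 n115629 = n53332 := d13_1 D115629 (iv7 D53332) D53330
theorem F179994 : act 1 n53335 = n115627 := d15_0 (iv0 D115627) D115629 F179991
def n115630 : Q := act 0 n53331
theorem D115630 : act 0 n53331 = n115630 := rfl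
def n115631 : Q := act 1 n53331
theorem D115631 : act 1 n53331 = n115631 := rfl
def n115632 : Q := act 5 n53331
theorem D115632 : act 5 n53331 = n115632 := rfl
def n115633 : Q := act 7 n53331
theorem D115633 : act 7 n53331 = n115633 := rfl
def n115634 : Q := act 6 n53332
theorem D115634 : act 6 n53332 = n115634 := rfl
theorem F179995 : act 2 n115634 = n53336 := d3_1 D115634 (iv6 D53336) (iv2 F84174)
def n115635 : Q := act 0 n53333
theorem D115635 : act 0 n53333 = n115635 := rfl
theorem F179996 : act 4 n115635 = n105617 := d20_0 (iv1 F179732) F179730 (iv3 F165174) (iv1 F165178) D115500 (iv4 F179959) (iv1 F179966) (iv4 D53334) D53333 D115635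
def n115636 : Q := act 1 n53333
theorem D115636 : act 1 n53333 = n115636 := rfl
def n115637 : Q := act 2 n53333
theorem D115637 : act 2 n53333 = n115637 := rfl
def n115638 : Q := act 4 n53333
theorem D115638 : act 4 n53333 = n115638 := rfl
theorem F179997 : act 3 n115638 = n66300 := d5_1 D115638 (iv4 D66300) (iv3 F84175) (iv4 D53334) D53333
theorem F179998 : act 7 n115638 = n105691 := d11_2 F179945 D115638 (iv4 F179944)
theorem F179999 : act 0 n115451 = n115638 := d20_1 D115451 (iv4 D115638) (iv3 D53333) (iv1 D25848) (iv3 D12270) (iv4 D5818) D5816 D12264 D25824 D53258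
theorem F180000 : act 0 n115638 = n115456 := d20_4 (iv4 D30975) D30972 D66300 (iv3 F179997) F179761 F103034 (iv1 D67051) (iv4 F103024) (iv3 D67033) F49538
theorem F180001 : act 0 n115455 = n64026 := d20_10 (iv4 D64026) D64023 (iv4 F179533) F179532 (iv1 F84172) D53333 D115638 F180000 (iv4 D115456) D115455
def n115639 : Q := act 5 n53333
theorem D115639 : act 5 n53333 = n115639 := rfl
theorem F180002 : act 3 n115639 = n53335 := d6_1 D115639 (iv5 D53335) D53333
def n115640 : Q := act 6 n53333
theorem D115640 : act 6 n53333 = n115640 := rfl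
theorem F180003 : act 3 n115640 = n53336 := d7_1 D115640 (iv6 D53336) D53333
def n115641 : Q := act 5 n53334
theorem D115641 : act 5 n53334 = n115641 := rfl
theorem F180004 : act 3 n115641 = n66301 := d6_1 D115641 (iv5 D66301) (iv3 F84175)
theorem F180005 : act 7 n115641 = n105687 := d13_2 (iv7 F173676) D115641 (iv5 D105687)
theorem F180006 : act 4 n115641 = n112533 := d16_2 D53334 D115641 (iv5 D112533) F81961 (iv5 F174121) (iv4 F174123) (iv5 D53330) D53332 F84174
def n115642 : Q := act 6 n53334
theorem D115642 : act 6 n53334 = n115642 := rfl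
theorem F180007 : act 3 n115642 = n66302 := d7_1 D115642 (iv6 D66302) (iv3 F84175)
theorem F180008 : act 4 n115642 = n53336 := d10_1 D115642 (iv6 D53336) D53334
def n115643 : Q := act 4 n53335
theorem D115643 : act 4 n53335 = n115643 := rfl
theorem F180009 : act 2 n115643 = n109344 := d1_1 D115643 (iv4 F179992) F179991
theorem F180010 : act 5 n115643 = n109709 := d16_7 (iv4 F81961) D112533 (iv4 F180006) (iv5 D115641) (iv4 D53334) D53335 D115643 (iv7 F174569) (iv2 D112236)
def n115644 : Q := act 6 n53335
theorem D115644 : act 6 n53335 = n115644 := rfl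
def n115645 : Q := act 0 n53336
theorem D115645 : act 0 n53336 = n115645 := rfl
def n115646 : Q := act 1 n53336
theorem D115646 : act 1 n53336 = n115646 := rfl
def n115647 : Q := act 5 n53336
theorem D115647 : act 5 n53336 = n115647 := rfl
def n115648 : Q := act 7 n53336
theorem D115648 : act 7 n53336 = n115648 := rfl
def n115649 : Q := act 0 n53339
theorem D115649 : act 0 n53339 = n115649 := rfl
theorem F180011 : act 1 n53344 = n115649 := d15_0 (iv0 D115649) (iv7 F179937) F179936
theorem F180012 : act 5 n115649 = n65536 := d17_7 (iv1 F84259) (iv5 F105788) (iv1 D15218) (iv5 F20464) (iv4 F40841) (iv5 F84182) F180011 F179604 F179601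
theorem F180013 : act 2 n53340 = n115649 := d2_3 F180012 F179596 (iv5 F179940)
theorem F180014 : act 7 n53341 = n115649 := d13_0 F180012 (iv7 F179593) (iv5 F179595)
def n115650 : Q := act 1 n53339
theorem D115650 : act 1 n53339 = n115650 := rfl
theorem F180015 : act 1 n115650 = n53344 := d15_1 D115650 (iv7 D53344) (iv2 F84179)
theorem F180016 : act 7 n115650 = n53340 := d15_2 (iv0 D115649) D115650 F180013
theorem F180017 : act 5 n115650 = n65535 := d17_7 D30725 F105785 (iv1 F41098) (iv5 D26005) (iv4 F40838) D53339 D115650 (iv0 D65535) F49187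
theorem F180018 : act 2 n53341 = n115650 := d2_3 F180017 (iv2 F179597) (iv5 F179595)
theorem F180019 : act 4 n109728 = n115650 := d16_6 (iv4 F103727) (iv5 F162354) (iv4 D69201) F81995 F81989 (iv5 F169717) F180017 F179598 (iv2 F179596)
def n115651 : Q := act 4 n53339
theorem D115651 : act 4 n53339 = n115651 := rfl
theorem F180020 : act 2 n115651 = n53342 := d1_1 D115651 (iv4 D53342) (iv2 F84179)
theorem F180021 : act 5 n115651 = n69206 := d16_1 D115651 (iv4 D69206) (iv5 D32185) F24809 (iv5 F20464) (iv4 F40841) (iv5 F84182) (iv7 D53344) (iv2 F84179)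
def n115652 : Q := act 6 n53339
theorem D115652 : act 6 n53339 = n115652 := rfl
theorem F180022 : act 2 n115652 = n53343 := d3_1 D115652 (iv6 D53343) (iv2 F84179)
def n115653 : Q := act 3 n53340
theorem D115653 : act 3 n53340 = n115653 := rfl
def n115654 : Q := act 6 n53340
theorem D115654 : act 6 n53340 = n115654 := rfl
def n115655 : Q := act 3 n53341
theorem D115655 : act 3 n53341 = n115655 := rfl
def n115656 : Q := act 4 n53341
theorem D115656 : act 4 n53341 = n115656 := rfl
theorem F180023 : act 2 n115656 = n109728 := d1_1 D115656 F180019 (iv2 F180018)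
theorem F180024 : act 5 n115656 = n111997 := d16_5 (iv4 F94439) (iv5 F101364) F179592 (iv5 F179595) D115656 (iv4 F175074) F175075 (iv7 F84787) (iv2 F84786)
def n115657 : Q := act 6 n53341
theorem D115657 : act 6 n53341 = n115657 := rfl
def n115658 : Q := act 0 n53342
theorem D115658 : act 0 n53342 = n115658 := rfl
def n115659 : Q := act 1 n53342
theorem D115659 : act 1 n53342 = n115659 := rfl
def n115660 : Q := act 3 n53342
theorem D115660 : act 3 n53342 = n115660 := rfl
theorem F180025 : act 4 n115660 = n53350 := d5_2 D53342 D115660 (iv3 D53350) (iv4 D25854) (iv3 F40839)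
theorem F180026 : act 0 n109286 = n115660 := d20_4 D51775 F81775 (iv4 F79809) (iv3 F169305) (iv3 D115660) (iv4 D53342) D53340 (iv4 F179941) F169339 F79823
theorem F180027 : act 5 n64067 = n115660 := d19_1 D64067 F180025 (iv3 D53350) F45318 (iv5 D25265) (iv4 D11994) F8704 (iv1 F8634) F8636 F8301 F5156 (iv1 F3873) (iv5 D1275) F4876 D2320 (iv1 F10117) D6844 D14332 D30199
def n115661 : Q := act 5 n53342
theorem D115661 : act 5 n53342 = n115661 := rfl
theorem F180028 : act 2 n115661 = n69206 := d2_1 D115661 (iv5 F180021) F180020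
theorem F180029 : act 3 n115661 = n64067 := d6_1 D115661 F180027 (iv3 D115660)
theorem F180030 : act 4 n115661 = n69203 := d16_2 D53342 D115661 (iv5 D69203) F51136 (iv5 F41087) (iv4 F84170) D115610 F179937 F84179
theorem F180031 : act 0 n112273 = n115661 := d19_0 (iv5 D115661) (iv4 D53342) F40839 D25852 (iv5 F82575) (iv4 D52222) F40100 F38938 (iv5 D14610) F11248 F4950 F4901 (iv5 F4882) D5599 D11933 D25118 (iv5 F81766) D51790 D112273
def n115662 : Q := act 6 n53342
theorem D115662 : act 6 n53342 = n115662 := rfl
theorem F180032 : act 4 n115662 = n53343 := d10_1 D115662 (iv6 D53343) D53342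
def n115663 : Q := act 7 n53342
theorem D115663 : act 7 n53342 = n115663 := rfl
theorem F180033 : act 4 n115663 = n53344 := d11_1 D115663 (iv7 D53344) D53342
def n115664 : Q := act 0 n53343
theorem D115664 : act 0 n53343 = n115664 := rfl
def n115665 : Q := act 1 n53343
theorem D115665 : act 1 n53343 = n115665 := rfl
def n115666 : Q := act 7 n53343
theorem D115666 : act 7 n53343 = n115666 := rfl
theorem F180034 : act 3 n115666 = n53354 := d8_1 D115666 (iv7 D53354) (iv3 F84180)
def n115667 : Q := act 6 n53344
theorem D115667 : act 6 n53344 = n115667 := rfl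
theorem F180035 : act 3 n115667 = n53355 := d7_1 D115667 (iv6 D53355) (iv3 F84181)
def n115668 : Q := act 0 n53345
theorem D115668 : act 0 n53345 = n115668 := rfl
def n115669 : Q := act 1 n53345
theorem D115669 : act 1 n53345 = n115669 := rfl
def n115670 : Q := act 5 n53345
theorem D115670 : act 5 n53345 = n115670 := rfl
theorem F180036 : act 3 n115670 = n53358 := d6_1 D115670 (iv5 D53358) (iv3 F84183)
def n115671 : Q := act 0 n53346
theorem D115671 : act 0 n53346 = n115671 := rfl
def n115672 : Q := act 1 n53346
theorem D115672 : act 1 n53346 = n115672 := rfl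
def n115673 : Q := act 2 n53346
theorem D115673 : act 2 n53346 = n115673 := rfl
def n115674 : Q := act 4 n53346
theorem D115674 : act 4 n53346 = n115674 := rfl
def n115675 : Q := act 6 n53346
theorem D115675 : act 6 n53346 = n115675 := rfl
theorem F180037 : act 3 n115675 = n53347 := d7_1 D115675 (iv6 D53347) D53346
def n115676 : Q := act 0 n53347
theorem D115676 : act 0 n53347 = n115676 := rfl
def n115677 : Q := act 1 n53347
theorem D115677 : act 1 n53347 = n115677 := rfl
def n115678 : Q := act 5 n53347
theorem D115678 : act 5 n53347 = n115678 := rfl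
def n115679 : Q := act 7 n53347
theorem D115679 : act 7 n53347 = n115679 := rfl
def n115680 : Q := act 0 n53348
theorem D115680 : act 0 n53348 = n115680 := rfl
def n115681 : Q := act 1 n53348
theorem D115681 : act 1 n53348 = n115681 := rfl
def n115682 : Q := act 2 n53348
theorem D115682 : act 2 n53348 = n115682 := rfl
def n115683 : Q := act 4 n53348
theorem D115683 : act 4 n53348 = n115683 := rfl
def n115684 : Q := act 6 n53348
theorem D115684 : act 6 n53348 = n115684 := rfl
theorem F180038 : act 3 n115684 = n53349 := d7_1 D115684 (iv6 D53349) D53348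
def n115685 : Q := act 0 n53349
theorem D115685 : act 0 n53349 = n115685 := rfl
def n115686 : Q := act 1 n53349
theorem D115686 : act 1 n53349 = n115686 := rfl
def n115687 : Q := act 5 n53349
theorem D115687 : act 5 n53349 = n115687 := rfl
def n115688 : Q := act 7 n53349
theorem D115688 : act 7 n53349 = n115688 := rfl
def n115689 : Q := act 0 n53350
theorem D115689 : act 0 n53350 = n115689 := rfl
def n115690 : Q := act 1 n53350
theorem D115690 : act 1 n53350 = n115690 := rfl
def n115691 : Q := act 2 n53350
theorem D115691 : act 2 n53350 = n115691 := rfl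
def n115692 : Q := act 6 n53350
theorem D115692 : act 6 n53350 = n115692 := rfl
theorem F180039 : act 3 n115692 = n53351 := d7_1 D115692 (iv6 D53351) D53350
def n115693 : Q := act 0 n53351
theorem D115693 : act 0 n53351 = n115693 := rfl
def n115694 : Q := act 1 n53351
theorem D115694 : act 1 n53351 = n115694 := rfl
def n115695 : Q := act 5 n53351
theorem D115695 : act 5 n53351 = n115695 := rfl
def n115696 : Q := act 7 n53351
theorem D115696 : act 7 n53351 = n115696 := rfl
theorem F180040 : act 4 n115696 = n53354 := d11_1 D115696 (iv7 D53354) (iv4 F84185)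
def n115697 : Q := act 2 n53352
theorem D115697 : act 2 n53352 = n115697 := rfl
theorem F180041 : act 7 n53353 = n115697 := d15_2 (iv0 D53352) D53353 (iv2 D115697)
def n115698 : Q := act 3 n53352
theorem D115698 : act 3 n53352 = n115698 := rfl
def n115699 : Q := act 4 n53352
theorem D115699 : act 4 n53352 = n115699 := rfl
def n115700 : Q := act 5 n53352
theorem D115700 : act 5 n53352 = n115700 := rfl
def n115701 : Q := act 6 n53352
theorem D115701 : act 6 n53352 = n115701 := rfl
def n115702 : Q := act 7 n53352
theorem D115702 : act 7 n53352 = n115702 := rfl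
theorem F180042 : act 2 n115702 = n53353 := d4_1 D115702 F180041 (iv2 D115697)
def n115703 : Q := act 3 n53353
theorem D115703 : act 3 n53353 = n115703 := rfl
def n115704 : Q := act 4 n53353
theorem D115704 : act 4 n53353 = n115704 := rfl
def n115705 : Q := act 5 n53353
theorem D115705 : act 5 n53353 = n115705 := rfl
def n115706 : Q := act 6 n53353
theorem D115706 : act 6 n53353 = n115706 := rfl
def n115707 : Q := act 6 n53354
theorem D115707 : act 6 n53354 = n115707 := rfl
theorem F180043 : act 7 n115707 = n53355 := d14_2 D53354 D115707 (iv6 D53355) (iv7 D25856) D25855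
def n115708 : Q := act 0 n53355
theorem D115708 : act 0 n53355 = n115708 := rfl
def n115709 : Q := act 1 n53355
theorem D115709 : act 1 n53355 = n115709 := rfl
def n115710 : Q := act 5 n53355
theorem D115710 : act 5 n53355 = n115710 := rfl
theorem F180044 : act 6 n115710 = n53358 := d12_2 D53355 D115710 (iv5 D53358) (iv6 D25857) (iv5 F40842)
def n115711 : Q := act 3 n53356
theorem D115711 : act 3 n53356 = n115711 := rfl
def n115712 : Q := act 5 n53356
theorem D115712 : act 5 n53356 = n115712 := rfl
def n115713 : Q := act 6 n53356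
theorem D115713 : act 6 n53356 = n115713 := rfl
def n115714 : Q := act 3 n53357
theorem D115714 : act 3 n53357 = n115714 := rfl
def n115715 : Q := act 5 n53357
theorem D115715 : act 5 n53357 = n115715 := rfl
def n115716 : Q := act 6 n53357
theorem D115716 : act 6 n53357 = n115716 := rfl
def n115717 : Q := act 0 n53358
theorem D115717 : act 0 n53358 = n115717 := rfl
def n115718 : Q := act 1 n53358
theorem D115718 : act 1 n53358 = n115718 := rfl
def n115719 : Q := act 4 n53358
theorem D115719 : act 4 n53358 = n115719 := rfl
def n115720 : Q := act 5 n53360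
theorem D115720 : act 5 n53360 = n115720 := rfl
theorem F180045 : act 3 n115720 = n53362 := d6_1 D115720 (iv5 D53362) D53360
theorem F180046 : act 0 n115298 = n115720 := d21_10 (iv5 D115720) (iv1 F168329) F80908 (iv6 D51293) (iv1 F39093) (iv6 F48708) (iv5 D30288) D30286 F84019 D115298
def n115721 : Q := act 6 n53360
theorem D115721 : act 6 n53360 = n115721 := rfl
theorem F180047 : act 3 n115721 = n53363 := d7_1 D115721 (iv6 D53363) D53360
theorem F180048 : act 5 n115721 = n115091 := d21_6 (iv5 D11626) D11624 D24576 D50423 F168326 D115721 (iv1 D115091) F83826 (iv6 D30679) (iv1 F38579)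
def n115722 : Q := act 3 n53361
theorem D115722 : act 3 n53361 = n115722 := rfl
def n115723 : Q := act 5 n53361
theorem D115723 : act 5 n53361 = n115723 := rfl
def n115724 : Q := act 6 n53361
theorem D115724 : act 6 n53361 = n115724 := rfl
theorem F180049 : act 4 n115724 = n53363 := d10_1 D115724 (iv6 D53363) D53361
def n115725 : Q := act 4 n53362
theorem D115725 : act 4 n53362 = n115725 := rfl
def n115726 : Q := act 3 n53366
theorem D115726 : act 3 n53366 = n115726 := rfl
theorem F180050 : act 4 n115726 = n111118 := d5_2 D53366 D115726 (iv3 D111118) F165545 (iv3 F165544)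
def n115727 : Q := act 5 n53366
theorem D115727 : act 5 n53366 = n115727 := rfl
def n115728 : Q := act 4 n53367
theorem D115728 : act 4 n53367 = n115728 := rfl
theorem F180051 : act 6 n115728 = n115309 := d10_2 (iv6 F84190) D115728 (iv4 D115309)
def n115729 : Q := act 0 n53368
theorem D115729 : act 0 n53368 = n115729 := rfl
theorem F180052 : act 1 n65919 = n115729 := d15_0 (iv0 D115729) F84192 D65919
def n115730 : Q := act 1 n53368
theorem D115730 : act 1 n53368 = n115730 := rfl
def n115731 : Q := act 2 n53368
theorem D115731 : act 2 n53368 = n115731 := rfl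
theorem F180053 : act 3 n115731 = n65928 := d0_2 D53368 D115731 (iv2 D65928) (iv3 D30852) (iv2 F40844)
theorem F180054 : act 4 n115731 = n68147 := d1_2 (iv4 F84191) D115731 (iv2 D68147)
theorem F180055 : act 7 n115731 = n65919 := d4_2 (iv7 F84192) D115731 (iv2 D65919)
theorem F180056 : act 1 n115731 = n65917 := d15_0 (iv0 D65917) (iv7 F84192) D115731
theorem F180057 : act 1 n115730 = n65919 := d15_1 D115730 (iv7 F180055) (iv2 D115731)
theorem F180058 : act 1 n65918 = n115731 := d15_1 D65918 F180055 (iv2 D65919)
def n115732 : Q := act 5 n53368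
theorem D115732 : act 5 n53368 = n115732 := rfl
theorem F180059 : act 3 n115732 = n53369 := d6_1 D115732 (iv5 D53369) D53368
theorem F180060 : act 7 n115732 = n65920 := d13_2 (iv7 F84192) D115732 (iv5 D65920)
def n115733 : Q := act 6 n53368
theorem D115733 : act 6 n53368 = n115733 := rfl
theorem F180061 : act 3 n115733 = n53370 := d7_1 D115733 (iv6 D53370) D53368
theorem F180062 : act 4 n115733 = n68148 := d10_1 D115733 (iv6 D68148) (iv4 F84191)
def n115734 : Q := act 6 n53369
theorem D115734 : act 6 n53369 = n115734 := rfl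
def n115735 : Q := act 0 n53370
theorem D115735 : act 0 n53370 = n115735 := rfl
def n115736 : Q := act 1 n53370
theorem D115736 : act 1 n53370 = n115736 := rfl
theorem F180065 : act 1 n115736 = n65935 := d15_1 D115736 (iv7 D65935) (iv2 F84198)
theorem F180066 : act 4 n115736 = n67486 := d18_7 (iv1 D113572) F82767 F94230 F80990 (iv5 F40849) (iv4 F84199) D115736 F168657 F176723
def n115737 : Q := act 5 n53370
theorem D115737 : act 5 n53370 = n115737 := rfl
theorem F180067 : act 2 n115737 = n65934 := d2_1 D115737 (iv5 D65934) (iv2 F84198)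
def n115738 : Q := act 7 n53370
theorem D115738 : act 7 n53370 = n115738 := rfl
theorem F180069 : act 2 n115738 = n65935 := d4_1 D115738 (iv7 D65935) (iv2 F84198)
theorem F180070 : act 4 n115738 = n53373 := d11_1 D115738 (iv7 D53373) (iv4 F84199)
theorem F180071 : act 6 n115738 = n65049 := d14_1 D115738 F100853 (iv6 D30850) (iv7 F40845) D53370
theorem F180072 : act 1 n65935 = n115735 := d15_0 (iv0 D115735) D115738 F180069
theorem F180073 : act 1 n65933 = n115738 := d15_1 D65933 (iv7 D115738) F84198
theorem E17737 : n112783 = n108707 := ((c20_3 (iv4 F180070) (iv1 F180073) F168653 (iv3 D112783) (iv1 D52056) F39866 (iv4 F24234) (iv1 F49705) (iv4 D30736) D30735 (iv1 F163958))).symm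
theorem F180074 : act 3 n108707 = n52056 := (sb E17737 (iv3 D112783))
theorem F180075 : act 4 n115735 = n67485 := d18_7 F171182 (iv4 F172639) (iv1 F172645) F81187 (iv5 F49315) (iv4 F101629) F180072 (iv0 D67485) (iv5 F80628)
theorem F180076 : act 3 n67485 = n105531 := d20_3 (iv4 F84199) D115735 F180075 F162043 F82273 (iv4 F49214) (iv1 F49698) F49699 D50584 F163916
theorem F180077 : act 1 n115738 = n65932 := d15_0 (iv0 D65932) D65935 (iv2 F180069)
theorem F180078 : act 4 n65932 = n108706 := d18_7 F172993 (iv4 D111479) (iv1 F172651) F172648 (iv5 F84209) (iv4 F180070) F180077 (iv0 D108706) (iv5 F93896)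
def n115739 : Q := act 4 n53371
theorem D115739 : act 4 n53371 = n115739 := rfl
theorem F180079 : act 2 n115739 = n65587 := d1_1 D115739 (iv4 D65587) (iv2 F163960)
theorem F180080 : act 7 n115739 = n65940 := d11_2 F84204 D115739 (iv4 D65940)
theorem F180081 : act 0 n115739 = n65959 := d18_2 D53371 D115739 (iv4 F103347) F103348 F168691 (iv0 F172656) (iv4 D111290) (iv0 D51328) (iv5 F40849)
theorem F180082 : act 1 n115739 = n53378 := d15_0 (iv0 F169647) F169646 (iv2 F180079)
def n115740 : Q := act 0 n53374
theorem D115740 : act 0 n53374 = n115740 := rfl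
theorem F180083 : act 1 n65928 = n115740 := d15_0 (iv0 D115740) F84213 D65928
def n115741 : Q := act 1 n53374
theorem D115741 : act 1 n53374 = n115741 := rfl
def n115742 : Q := act 2 n53374
theorem D115742 : act 2 n53374 = n115742 := rfl
theorem F180084 : act 3 n115742 = n65919 := d0_2 D53374 D115742 (iv2 D65919) (iv3 D30848) (iv2 F40850)
theorem F180085 : act 7 n115742 = n65928 := d4_2 (iv7 F84213) D115742 (iv2 D65928)
theorem F180086 : act 1 n115742 = n65926 := d15_0 (iv0 D65926) (iv7 F84213) D115742
theorem F180087 : act 1 n115741 = n65928 := d15_1 D115741 (iv7 F180085) (iv2 D115742)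
theorem F180088 : act 1 n65927 = n115742 := d15_1 D65927 F180085 (iv2 D65928)
def n115743 : Q := act 5 n53374
theorem D115743 : act 5 n53374 = n115743 := rfl
theorem F180089 : act 3 n115743 = n53375 := d6_1 D115743 (iv5 D53375) D53374
theorem F180090 : act 7 n115743 = n65929 := d13_2 (iv7 F84213) D115743 (iv5 D65929)
def n115744 : Q := act 6 n53374
theorem D115744 : act 6 n53374 = n115744 := rfl
theorem F180091 : act 3 n115744 = n53376 := d7_1 D115744 (iv6 D53376) D53374
def n115745 : Q := act 6 n53375
theorem D115745 : act 6 n53375 = n115745 := rfl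
theorem F180092 : act 2 n115745 = n65922 := d3_1 D115745 (iv6 D65922) (iv2 F84214)
theorem F180093 : act 4 n115745 = n109064 := d10_1 D115745 (iv6 D109064) (iv4 F84215)
def n115746 : Q := act 1 n53376
theorem D115746 : act 1 n53376 = n115746 := rfl
theorem F180094 : act 1 n115746 = n65049 := d15_1 D115746 F100853 (iv2 F84219)
theorem F180095 : act 7 n115746 = n65923 := d15_2 (iv0 F98668) D115746 (iv2 F101624)
theorem F180096 : act 4 n67687 = n115746 := d20_0 (iv1 D115746) F84220 (iv3 F48700) F48702 F47489 (iv4 F47523) D62597 (iv4 F103407) F103350 (iv1 F103724)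
theorem F180097 : act 2 n115746 = n65924 := d1_1 F180096 (iv4 F101626) F103722
def n115747 : Q := act 5 n53376
theorem D115747 : act 5 n53376 = n115747 := rfl
def n115748 : Q := act 0 n53377
theorem D115748 : act 0 n53377 = n115748 := rfl
theorem F180099 : act 1 n65944 = n115748 := d15_0 (iv0 D115748) F84221 D65944
def n115749 : Q := act 1 n53377
theorem D115749 : act 1 n53377 = n115749 := rfl
def n115750 : Q := act 2 n53377
theorem D115750 : act 2 n53377 = n115750 := rfl
theorem F180100 : act 3 n115750 = n65952 := d0_2 D53377 D115750 (iv2 D65952) (iv3 D30862) (iv2 F40862)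
theorem F180101 : act 7 n115750 = n65944 := d4_2 (iv7 F84221) D115750 (iv2 D65944)
theorem F180102 : act 1 n115750 = n65942 := d15_0 (iv0 D65942) (iv7 F84221) D115750
theorem F180103 : act 1 n115749 = n65944 := d15_1 D115749 (iv7 F180101) (iv2 D115750)
theorem F180104 : act 1 n65943 = n115750 := d15_1 D65943 F180101 (iv2 D65944)
def n115751 : Q := act 6 n53377
theorem D115751 : act 6 n53377 = n115751 := rfl
theorem F180105 : act 3 n115751 = n53378 := d7_1 D115751 (iv6 D53378) D53377
def n115752 : Q := act 5 n53378
theorem D115752 : act 5 n53378 = n115752 := rfl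
theorem F180106 : act 2 n115752 = n65958 := d2_1 D115752 (iv5 D65958) (iv2 F84222)
theorem F180107 : act 1 n115752 = n74459 := d17_6 (iv1 D63369) (iv5 F49288) F93897 F93896 (iv4 F84223) D115752 (iv5 D74459) D74458 (iv4 F171750)
def n115753 : Q := act 7 n53378
theorem D115753 : act 7 n53378 = n115753 := rfl
theorem F180108 : act 2 n115753 = n65959 := d4_1 D115753 (iv7 D65959) (iv2 F84222)
theorem F180109 : act 4 n115753 = n108708 := d11_1 D115753 (iv7 D108708) (iv4 F84223)
theorem F180110 : act 6 n115753 = n65046 := d14_1 D115753 F167806 (iv6 D30861) F40863 D53378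
theorem F180111 : act 1 n65940 = n115753 := d15_1 (iv0 F168144) (iv7 D115753) F84222
theorem F180112 : act 1 n115753 = n65587 := d15_1 F180111 (iv7 F169646) F169645
def n115754 : Q := act 0 n53379
theorem D115754 : act 0 n53379 = n115754 := rfl
theorem F180113 : act 1 n65952 = n115754 := d15_0 (iv0 D115754) F84224 D65952
def n115755 : Q := act 1 n53379
theorem D115755 : act 1 n53379 = n115755 := rfl
def n115756 : Q := act 2 n53379
theorem D115756 : act 2 n53379 = n115756 := rfl
theorem F180114 : act 3 n115756 = n65944 := d0_2 D53379 D115756 (iv2 D65944) (iv3 D30858) F40864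
theorem F180115 : act 7 n115756 = n65952 := d4_2 (iv7 F84224) D115756 (iv2 D65952)
theorem F180116 : act 1 n115756 = n65950 := d15_0 (iv0 D65950) (iv7 F84224) D115756
theorem F180117 : act 1 n115755 = n65952 := d15_1 D115755 (iv7 F180115) (iv2 D115756)
theorem F180118 : act 1 n65951 = n115756 := d15_1 D65951 F180115 (iv2 D65952)
def n115757 : Q := act 6 n53379
theorem D115757 : act 6 n53379 = n115757 := rfl
theorem F180119 : act 3 n115757 = n53380 := d7_1 D115757 (iv6 D53380) D53379
def n115758 : Q := act 5 n53380
theorem D115758 : act 5 n53380 = n115758 := rfl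
def n115759 : Q := act 2 n53381
theorem D115759 : act 2 n53381 = n115759 := rfl
theorem F180121 : act 7 n53382 = n115759 := d15_2 (iv0 D53381) D53382 (iv2 D115759)
theorem F180122 : act 4 n115759 = n68211 := d11_1 F180121 (iv7 D68211) F84229
def n115760 : Q := act 3 n53381
theorem D115760 : act 3 n53381 = n115760 := rfl
theorem F180123 : act 4 n115760 = n105560 := d20_6 (iv4 D25862) (iv1 D12275) D12276 D25866 D53381 D115760 (iv1 D105560) (iv4 F162126) (iv3 D105556) F76873
def n115761 : Q := act 4 n53381
theorem D115761 : act 4 n53381 = n115761 := rfl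
theorem F180124 : act 2 n115761 = n68211 := d1_1 D115761 (iv4 F180122) (iv2 D115759)
theorem F180125 : act 3 n68230 = n115761 := d0_0 F180124 F104380 F50053 D31754 D68230
theorem F180126 : act 7 n68208 = n115761 := d4_0 F180124 (iv7 D68211) D68208
theorem F180127 : act 1 n115761 = n68206 := d15_0 (iv0 D68206) D68211 (iv2 F180124)
theorem F180128 : act 1 n68207 = n115761 := d15_1 D68207 (iv7 F180126) (iv2 D68208)
theorem F180129 : act 0 n68230 = n109683 := d20_10 F169673 (iv1 D67677) F49726 (iv3 D14819) F11312 D12283 (iv4 F40865) D53381 D115761 (iv3 F180125)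
theorem F180130 : act 5 n67037 = n68230 := d18_9 F180129 F169673 (iv1 D67677) F49726 (iv5 F49420) D66400 (iv0 F103086) (iv4 D67038) D67037
theorem F180131 : act 2 n68232 = n67037 := d2_3 F180130 (iv2 D68230) D68232
def n115762 : Q := act 5 n53381
theorem D115762 : act 5 n53381 = n115762 := rfl
def n115763 : Q := act 6 n53381
theorem D115763 : act 6 n53381 = n115763 := rfl
def n115764 : Q := act 7 n53381
theorem D115764 : act 7 n53381 = n115764 := rfl
theorem F180132 : act 2 n115764 = n53382 := d4_1 D115764 F180121 (iv2 D115759)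
theorem F180133 : act 4 n115764 = n68208 := d11_1 D115764 F180126 (iv4 D115761)
def n115765 : Q := act 3 n53382
theorem D115765 : act 3 n53382 = n115765 := rfl
theorem F180134 : act 4 n115765 = n68214 := d5_2 F84229 D115765 (iv3 D68214) (iv4 D31750) D31749
def n115766 : Q := act 5 n53382
theorem D115766 : act 5 n53382 = n115766 := rfl
def n115767 : Q := act 6 n53382
theorem D115767 : act 6 n53382 = n115767 := rfl
theorem F180135 : act 4 n115767 = n68210 := d10_1 D115767 (iv6 D68210) F84229
def n115768 : Q := act 5 n53383
theorem D115768 : act 5 n53383 = n115768 := rfl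
theorem F180136 : act 2 n115768 = n53384 := d2_1 D115768 (iv5 D53384) D53383
theorem F180137 : act 7 n115768 = n65969 := d13_2 (iv7 F84232) D115768 (iv5 D65969)
theorem F180138 : act 1 n115768 = n66517 := d17_6 D14695 F103123 (iv1 F84268) (iv5 D53415) (iv4 F84231) D115768 (iv5 D66517) (iv0 D31049) F24368
theorem E17738 : n66517 = n65971 := (c15_1 F180138 (iv0 D65971) (iv7 F84236) (iv2 F180136))
theorem F180139 : act 0 n65971 = n115768 := (sb E17738 (iv1 F180138))
theorem F180140 : act 5 n65971 = n31049 := (sb E17738 (iv5 D66517))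
theorem F180141 : act 1 n65972 = n115768 := d15_1 D65972 F180137 F101664
def n115769 : Q := act 6 n53383
theorem D115769 : act 6 n53383 = n115769 := rfl
def n115770 : Q := act 0 n53384
theorem D115770 : act 0 n53384 = n115770 := rfl
theorem F180144 : act 1 n65969 = n115770 := d15_0 (iv0 D115770) F84236 (iv2 F101664)
def n115771 : Q := act 1 n53384
theorem D115771 : act 1 n53384 = n115771 := rfl
theorem F180145 : act 1 n115771 = n65969 := d15_1 D115771 (iv7 F180137) F180136
def n115772 : Q := act 4 n53384
theorem D115772 : act 4 n53384 = n115772 := rfl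
theorem F180146 : act 7 n115772 = n65973 := d11_2 (iv7 F84236) D115772 (iv4 D65973)
def n115773 : Q := act 6 n53384
theorem D115773 : act 6 n53384 = n115773 := rfl
theorem F180147 : act 3 n115773 = n53388 := d7_1 D115773 (iv6 D53388) (iv3 F84235)
def n115776 : Q := act 5 n53385
theorem D115776 : act 5 n53385 = n115776 := rfl
theorem F180148 : act 3 n115776 = n53391 := d6_1 D115776 (iv5 D53391) (iv3 F84237)
def n115777 : Q := act 7 n53385
theorem D115777 : act 7 n53385 = n115777 := rfl
theorem F180149 : act 3 n115777 = n53392 := d8_1 D115777 (iv7 D53392) (iv3 F84237)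
theorem F180151 : act 6 n115777 = n65978 := d14_1 D115777 (iv7 D65978) (iv6 D30869) (iv7 F40866) D53385
def n115778 : Q := act 3 n53386
theorem D115778 : act 3 n53386 = n115778 := rfl
theorem F180152 : act 5 n115778 = n53502 := d6_2 (iv5 F84239) D115778 (iv3 D53502)
theorem F180153 : act 7 n115778 = n65979 := d8_2 F84243 D115778 (iv3 D65979)
def n115779 : Q := act 6 n53386
theorem D115779 : act 6 n53386 = n115779 := rfl
theorem F180154 : act 2 n115779 = n65982 := d3_1 D115779 (iv6 D65982) F84242
theorem F180155 : act 4 n115779 = n108779 := d10_1 D115779 (iv6 D108779) (iv4 F84240)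
def n115780 : Q := act 3 n53387
theorem D115780 : act 3 n53387 = n115780 := rfl
theorem F180156 : act 5 n115780 = n53504 := d6_2 (iv5 F84246) D115780 (iv3 D53504)
theorem F180157 : act 7 n115780 = n65981 := d8_2 (iv7 F84245) D115780 (iv3 D65981)
def n115781 : Q := act 6 n53387
theorem D115781 : act 6 n53387 = n115781 := rfl
theorem F180158 : act 2 n115781 = n65980 := d3_1 D115781 (iv6 D65980) F84248
theorem F180159 : act 4 n115781 = n108777 := d10_1 D115781 (iv6 D108777) (iv4 F84247)
theorem F180160 : act 5 n115781 = n63380 := d12_1 D115781 (iv6 D63380) (iv5 D29945) (iv6 F40974) (iv5 F84246)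
def n115782 : Q := act 0 n53388
theorem D115782 : act 0 n53388 = n115782 := rfl
def n115783 : Q := act 1 n53388
theorem D115783 : act 1 n53388 = n115783 := rfl
def n115784 : Q := act 5 n53388
theorem D115784 : act 5 n53388 = n115784 := rfl
theorem F180161 : act 6 n115784 = n53391 := d12_2 D53388 D115784 (iv5 D53391) (iv6 D25868) D25867
def n115785 : Q := act 7 n53388
theorem D115785 : act 7 n53388 = n115785 := rfl
theorem F180162 : act 6 n115785 = n65986 := d14_1 D115785 (iv7 D65986) (iv6 D30873) (iv7 F40867) D53388
def n115786 : Q := act 3 n53389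
theorem D115786 : act 3 n53389 = n115786 := rfl
def n115787 : Q := act 5 n53389
theorem D115787 : act 5 n53389 = n115787 := rfl
theorem F180163 : act 0 n115787 = n108542 := d17_2 D53389 D115787 (iv5 D108542) F79376 F38357 D30669 (iv5 F49123) (iv0 D25869) (iv4 F40868)
def n115788 : Q := act 3 n53390
theorem D115788 : act 3 n53390 = n115788 := rfl
def n115789 : Q := act 5 n53390
theorem D115789 : act 5 n53390 = n115789 := rfl
theorem F180164 : act 1 n115789 = n108542 := d17_6 (iv1 D63373) (iv5 F80584) F111369 (iv5 F111365) F111364 D115789 (iv5 D108542) D108541 (iv4 F168677)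
def n115790 : Q := act 6 n53390
theorem D115790 : act 6 n53390 = n115790 := rfl
theorem F180165 : act 4 n115790 = n108717 := d10_1 D115790 (iv6 D108717) F111364
def n115791 : Q := act 0 n53391
theorem D115791 : act 0 n53391 = n115791 := rfl
theorem F180166 : act 5 n115791 = n65160 := d17_3 (iv1 D53390) D53391 D115791 F167848 (iv5 F171599) (iv0 D107685) F78617 D50199 F111364
def n115792 : Q := act 1 n53391
theorem D115792 : act 1 n53391 = n115792 := rfl
theorem F180167 : act 5 n115792 = n65161 := d17_7 (iv1 F79389) (iv5 F80930) (iv1 D34176) F26185 (iv4 F40868) D53391 D115792 F167846 F167844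
def n115793 : Q := act 4 n53391
theorem D115793 : act 4 n53391 = n115793 := rfl
def n115794 : Q := act 7 n53391
theorem D115794 : act 7 n53391 = n115794 := rfl
theorem F180168 : act 5 n115794 = n53392 := d13_1 D115794 (iv7 D53392) D53391
def n115795 : Q := act 3 n53395
theorem D115795 : act 3 n53395 = n115795 := rfl
theorem F180169 : act 4 n115795 = n110982 := d5_2 D53395 D115795 (iv3 D110982) F111182 (iv3 F111181)
def n115796 : Q := act 5 n53395
theorem D115796 : act 5 n53395 = n115796 := rfl
theorem F180170 : act 0 n115796 = n108561 := d17_2 F167968 D115796 (iv5 D108561) F79401 F78976 D51105 F111414 (iv0 F111420) (iv4 F167965)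
def n115797 : Q := act 3 n53398
theorem D115797 : act 3 n53398 = n115797 := rfl
def n115798 : Q := act 5 n53398
theorem D115798 : act 5 n53398 = n115798 := rfl
theorem F180171 : act 1 n115798 = n108561 := d17_6 (iv1 D50122) F38357 D30668 F49121 D53398 D115798 (iv5 D108561) (iv0 F167860) (iv4 D108546)
def n115799 : Q := act 6 n53398
theorem D115799 : act 6 n53398 = n115799 := rfl
theorem F180172 : act 4 n115799 = n53399 := d10_1 D115799 (iv6 D53399) D53398
def n115800 : Q := act 3 n53400
theorem D115800 : act 3 n53400 = n115800 := rfl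
theorem F180173 : act 5 n115800 = n53764 := d6_2 (iv5 F171348) D115800 (iv3 D53764)
theorem F180174 : act 7 n115800 = n65553 := d8_2 (iv7 F173380) D115800 (iv3 D65553)
theorem F180175 : act 4 n115800 = n67625 := d20_6 (iv4 D5837) (iv1 F8955) D12281 D25872 D53400 D115800 (iv1 D67625) F49683 (iv3 D14810) F11307
theorem F180176 : act 7 n67625 = n65668 := d11_2 (iv7 F180174) F180175 (iv4 F101394)
theorem F180177 : act 2 n65668 = n67624 := d15_3 (iv0 D67624) D67625 F180176
theorem F180178 : act 2 n67625 = n65667 := d15_3 (iv0 D65667) D65668 (iv7 F180176)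
theorem F180179 : act 2 n67738 = n115800 := d1_3 F180175 F180178 (iv4 F103775)
theorem F180180 : act 7 n65667 = n67624 := d4_2 (iv7 F180176) F180178 (iv2 F180177)
theorem E17739 : n67739 = n65553 := (c15_2 (iv0 D67738) D67739 (iv7 F180174) (iv2 F180179))
theorem F180181 : act 0 n65553 = n31452 := (sb E17739 (iv1 D67739))
def n115801 : Q := act 4 n53400
theorem D115801 : act 4 n53400 = n115801 := rfl
theorem F180182 : act 2 n115801 = n65559 := d1_1 D115801 (iv4 D65559) (iv2 F173379)
theorem F180183 : act 7 n115801 = n65554 := d11_2 (iv7 F173380) D115801 (iv4 D65554)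
theorem F180184 : act 1 n65559 = n65715 := d15_0 (iv0 F101431) (iv7 F180183) F180182
theorem F180185 : act 0 n59953 = n65739 := d18_0 F105778 (iv1 F105795) (iv4 D32270) F105788 D65559 F180184 (iv4 D65715) (iv0 F179600) F101364
theorem E17740 : n68206 = n65558 := ((c20_10 (iv4 D115761) (iv1 F84228) F49322 (iv3 F40941) (iv1 F40945) D30772 D65715 (iv1 F180184) (iv4 D65559) D65558 (iv1 F180127))).symm
theorem F180186 : act 0 n65558 = n115761 := (sb E17740 (iv1 F180127))
theorem F180187 : act 1 n65558 = n31749 := (sb E17740 (iv0 D68206))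
def n115802 : Q := act 6 n53400
theorem D115802 : act 6 n53400 = n115802 := rfl
def n115803 : Q := act 3 n53401
theorem D115803 : act 3 n53401 = n115803 := rfl
theorem F180189 : act 5 n115803 = n53769 := d6_2 (iv5 F171172) D115803 (iv3 D53769)
theorem F180190 : act 7 n115803 = n65558 := d8_2 (iv7 F173389) D115803 (iv3 D65558)
theorem F180191 : act 2 n115803 = n68207 := d15_3 F180128 (iv0 F180186) (iv7 F180190)
def n115804 : Q := act 4 n53401
theorem D115804 : act 4 n53401 = n115804 := rfl
theorem F180192 : act 2 n115804 = n65554 := d1_1 D115804 (iv4 D65554) (iv2 F173388)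
theorem F180193 : act 7 n115804 = n65559 := d11_2 (iv7 F173389) D115804 (iv4 D65559)
def n115805 : Q := act 6 n53401
theorem D115805 : act 6 n53401 = n115805 := rfl
theorem F180194 : act 2 n115805 = n65556 := d3_1 D115805 (iv6 D65556) (iv2 F173388)
theorem F180195 : act 0 n66161 = n115805 := d21_4 D34214 D74636 F167160 (iv6 F101783) (iv6 D115805) F171172 (iv1 D26007) (iv5 D12327) (iv6 F11954) D16557
def n115806 : Q := act 6 n53402
theorem D115806 : act 6 n53402 = n115806 := rfl
theorem F180196 : act 2 n115806 = n53403 := d3_1 D115806 (iv6 D53403) D53402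
theorem F180197 : act 3 n115806 = n65607 := d7_1 D115806 (iv6 D65607) (iv3 F84255)
def n115807 : Q := act 0 n53403
theorem D115807 : act 0 n53403 = n115807 := rfl
def n115808 : Q := act 1 n53403
theorem D115808 : act 1 n53403 = n115808 := rfl
def n115809 : Q := act 5 n53403
theorem D115809 : act 5 n53403 = n115809 := rfl
theorem F180198 : act 3 n115809 = n53404 := d6_1 D115809 (iv5 D53404) (iv3 F84260)
def n115810 : Q := act 0 n53404
theorem D115810 : act 0 n53404 = n115810 := rfl
theorem F180199 : act 5 n115810 = n60963 := d17_3 (iv1 F53931) D53404 D115810 (iv4 D60963) (iv5 D28905) (iv0 D13772) (iv5 F20489) F27070 (iv4 F53930)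
theorem F180200 : act 2 n65621 = n115810 := d15_3 (iv0 D115810) (iv0 F103229) F103228
theorem F180201 : act 1 n65081 = n115810 := d15_0 (iv0 D115810) (iv7 F111744) F111743
theorem F180202 : act 7 n115810 = n65622 := d15_2 F103230 F180201 (iv2 F103227)
def n115811 : Q := act 4 n53404
theorem D115811 : act 4 n53404 = n115811 := rfl
theorem F180203 : act 2 n115811 = n65623 := d1_1 D115811 (iv4 D65623) (iv2 F84261)
def n115812 : Q := act 0 n53405
theorem D115812 : act 0 n53405 = n115812 := rfl
theorem F180204 : act 1 n53410 = n115812 := d15_0 (iv0 D115812) (iv7 F84262) (iv2 F84263)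
def n115814 : Q := act 3 n53405
theorem D115814 : act 3 n53405 = n115814 := rfl
theorem F180206 : act 7 n115814 = n53411 := d8_2 F84262 D115814 (iv3 D53411)
def n115815 : Q := act 4 n53405
theorem D115815 : act 4 n53405 = n115815 := rfl
theorem F180207 : act 2 n115815 = n53407 := d1_1 D115815 (iv4 D53407) D53405
theorem F180208 : act 7 n115815 = n53412 := d11_2 F84262 D115815 (iv4 D53412)
def n115816 : Q := act 5 n53405
theorem D115816 : act 5 n53405 = n115816 := rfl
theorem F180209 : act 2 n115816 = n53408 := d2_1 D115816 (iv5 D53408) D53405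
theorem F180210 : act 7 n115816 = n53413 := d13_2 F84262 D115816 (iv5 D53413)
def n115818 : Q := act 0 n53406
theorem D115818 : act 0 n53406 = n115818 := rfl
def n115819 : Q := act 1 n53406
theorem D115819 : act 1 n53406 = n115819 := rfl
theorem F180212 : act 3 n65712 = n115819 := d20_9 F85052 (iv1 D53925) F41247 (iv3 D12364) (iv1 F20358) D25872 (iv4 F84041) D115311 (iv4 F179591) (iv1 D115819)
theorem F180213 : act 2 n115819 = n65629 := d0_1 F180212 (iv3 D65629) F162340 D67690 (iv2 F179599)
def n115820 : Q := act 2 n53406
theorem D115820 : act 2 n53406 = n115820 := rfl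
def n115821 : Q := act 5 n53406
theorem D115821 : act 5 n53406 = n115821 := rfl
theorem F180214 : act 3 n115821 = n53408 := d6_1 D115821 (iv5 D53408) D53406
def n115822 : Q := act 6 n53406
theorem D115822 : act 6 n53406 = n115822 := rfl
theorem F180215 : act 3 n115822 = n53409 := d7_1 D115822 (iv6 D53409) D53406
def n115823 : Q := act 7 n53406
theorem D115823 : act 7 n53406 = n115823 := rfl
theorem F180216 : act 3 n115823 = n53410 := d8_1 D115823 (iv7 D53410) D53406
def n115824 : Q := act 0 n53407
theorem D115824 : act 0 n53407 = n115824 := rfl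
theorem F180217 : act 4 n115824 = n115803 := d20_2 D53407 D115824 (iv3 D115803) (iv1 D53401) (iv3 D25872) (iv4 D12281) (iv1 D5825) D5826 D12283 D25874
theorem F180218 : act 7 n66035 = n115824 := d11_0 F180217 F180190 (iv4 F101715)
theorem F180219 : act 2 n115824 = n66036 := d15_3 F101716 F101720 F180218
theorem F180220 : act 4 n66036 = n68207 := d1_2 (iv4 F180217) F180219 (iv2 F180191)
theorem F180221 : act 3 n66036 = n115741 := d20_3 D115761 (iv1 F180128) (iv4 F180220) (iv1 D115741) (iv3 D53374) (iv4 D25862) (iv1 D12275) D12276 D25866 D53381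
def n115825 : Q := act 1 n53407
theorem D115825 : act 1 n53407 = n115825 := rfl
theorem F180222 : act 1 n115825 = n53412 := d15_1 D115825 (iv7 F180208) F180207
theorem F180223 : act 7 n115825 = n66036 := d15_2 (iv0 D115824) D115825 (iv2 F180219)
theorem F180224 : act 2 n66035 = n115825 := d4_3 F180223 (iv2 F180219) (iv7 F180218)
theorem F180225 : act 1 n53412 = n115824 := d15_1 F180222 (iv7 F180218) F180224
def n115826 : Q := act 3 n53407
theorem D115826 : act 3 n53407 = n115826 := rfl
def n115827 : Q := act 5 n53407
theorem D115827 : act 5 n53407 = n115827 := rfl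
def n115828 : Q := act 6 n53407
theorem D115828 : act 6 n53407 = n115828 := rfl
theorem F180226 : act 4 n115828 = n53409 := d10_1 D115828 (iv6 D53409) D53407
def n115829 : Q := act 7 n53407
theorem D115829 : act 7 n53407 = n115829 := rfl
theorem F180227 : act 2 n115829 = n53412 := d4_1 D115829 (iv7 F180208) F180207
theorem F180228 : act 4 n115829 = n53410 := d11_1 D115829 (iv7 D53410) D53407
def n115831 : Q := act 1 n53408
theorem D115831 : act 1 n53408 = n115831 := rfl
theorem F180229 : act 1 n115831 = n53413 := d15_1 D115831 (iv7 F180210) F180209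
def n115832 : Q := act 4 n53408
theorem D115832 : act 4 n53408 = n115832 := rfl
def n115833 : Q := act 6 n53408
theorem D115833 : act 6 n53408 = n115833 := rfl
def n115834 : Q := act 7 n53408
theorem D115834 : act 7 n53408 = n115834 := rfl
theorem F180230 : act 2 n115834 = n53413 := d4_1 D115834 (iv7 F180210) F180209
theorem F180231 : act 5 n115834 = n53410 := d13_1 D115834 (iv7 D53410) D53408
def n115835 : Q := act 0 n53409
theorem D115835 : act 0 n53409 = n115835 := rfl
def n115836 : Q := act 1 n53409
theorem D115836 : act 1 n53409 = n115836 := rfl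
def n115837 : Q := act 5 n53409
theorem D115837 : act 5 n53409 = n115837 := rfl
def n115838 : Q := act 7 n53409
theorem D115838 : act 7 n53409 = n115838 := rfl
def n115839 : Q := act 6 n53410
theorem D115839 : act 6 n53410 = n115839 := rfl
theorem F180233 : act 2 n115839 = n53414 := d3_1 D115839 (iv6 D53414) (iv2 F84263)
def n115840 : Q := act 0 n53411
theorem D115840 : act 0 n53411 = n115840 := rfl
theorem F180234 : act 4 n115840 = n64324 := d20_0 (iv1 F169579) F169577 F79963 (iv1 F84258) D115803 (iv4 F180217) (iv1 F180225) (iv4 D53412) D53411 D115840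
theorem F180235 : act 2 n65655 = n115840 := d1_3 F180234 F177225 (iv4 F169572)
theorem F180236 : act 3 n65691 = n115840 := d5_5 F180234 F172287 (iv4 D111086) (iv3 F172276) F172278
theorem F180237 : act 7 n66051 = n115840 := d11_0 F180234 F177223 (iv4 F169571)
theorem F180238 : act 5 n67198 = n115840 := d18_4 (iv1 D14752) D14753 D31271 D67198 F180234 (iv0 D64324) F48729 D30740 F103142
theorem F180239 : act 0 n115840 = n66053 := d20_1 (iv4 F180234) (iv4 F103430) (iv3 D64472) (iv1 D30357) (iv3 D14410) (iv4 D6894) (iv1 F11150) D14381 D30299 D64324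
theorem E17741 : n115814 = n30896 := (c15_3 (iv0 F180239) (iv0 D115840) (iv7 F180206) D66053)
theorem E17742 : n53405 = n14629 := ((((iv3 D30896)).symm.trans (sb E17741 (iv3 D115814)))).symm
theorem E17743 : n66025 = n53411 := (((iv7 F101706)).symm.trans (sb E17741 F180206))
theorem E17744 : n115812 = n6989 := ((((iv1 D14629)).symm.trans (sb E17742 D115812))).symm
theorem E17746 : n30895 = n25874 := (((iv2 F49350)).symm.trans (sb E17742 (iv2 D53405)))
theorem E17747 : n115815 = n30897 := (((D30897).symm.trans (sb E17742 D115815))).symm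
theorem E17748 : n115816 = n30898 := (((D30898).symm.trans (sb E17742 D115816))).symm
theorem E17750 : n30890 = n25875 := ((F49349).symm.trans (sb E17742 (iv7 F84262)))
theorem F180240 : act 7 n53411 = n30896 := (sb E17743 F101706)
theorem E17751 : n53410 = n14628 := (((D14628).symm.trans (sb E17744 (iv1 F180204)))).symm
theorem F180241 : act 2 n25874 = n14629 := (sb E17746 F49350)
theorem E17754 : n66034 = n53406 := (((D53406).symm.trans (sb E17746 (iv3 F101714)))).symm
theorem E17755 : n66040 = n53407 := (((D53407).symm.trans (sb E17746 (iv4 F101719)))).symm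
theorem E17756 : n66045 = n53408 := (((D53408).symm.trans (sb E17746 (iv5 F101723)))).symm
theorem E17757 : n66050 = n53409 := (((D53409).symm.trans (sb E17746 D66050))).symm
theorem E17758 : n66026 = n53412 := (((iv7 F101708)).symm.trans (sb E17747 F180208))
theorem E17759 : n66027 = n53413 := (((iv7 F101710)).symm.trans (sb E17748 F180210))
theorem F180242 : act 7 n25875 = n14629 := (sb E17750 (iv7 F49349))
theorem F180243 : act 2 n14628 = n25875 := (sb E17751 F84263)
theorem E17761 : n115823 = n30891 := (((D30891).symm.trans (sb E17751 (iv3 F180216)))).symm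
theorem E17762 : n115829 = n30892 := (((D30892).symm.trans (sb E17751 (iv4 F180228)))).symm
theorem E17763 : n115834 = n30893 := (((D30893).symm.trans (sb E17751 (iv5 F180231)))).symm
theorem E17764 : n115839 = n30894 := (((D30894).symm.trans (sb E17751 D115839))).symm
theorem F180244 : act 7 n14628 = n25874 := (sb E17751 (iv7 D53410))
theorem E17765 : n115820 = n67537 := ((D115820).symm.trans (sb E17754 (iv2 F103425)))
theorem E17766 : n67536 = n53925 := (((F85052).symm.trans (sb E17754 (iv4 F103424)))).symm
theorem F180245 : act 2 n53407 = n30897 := (sb E17755 F101718)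
theorem F180246 : act 2 n53408 = n30898 := (sb E17756 F101722)
theorem F180247 : act 2 n53409 = n30899 := (sb E17757 F101725)
theorem F180248 : act 7 n53412 = n30897 := (sb E17758 F101708)
theorem F180249 : act 7 n53413 = n30898 := (sb E17759 F101710)
theorem F180250 : act 7 n30891 = n53406 := (sb E17761 (iv7 D115823))
theorem F180251 : act 2 n30892 = n53412 := (sb E17762 F180227)
theorem F180252 : act 7 n30892 = n53407 := (sb E17762 (iv7 D115829))
theorem F180253 : act 2 n30893 = n53413 := (sb E17763 F180230)
theorem F180254 : act 7 n30893 = n53408 := (sb E17763 (iv7 D115834))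
theorem F180255 : act 2 n30894 = n53414 := (sb E17764 F180233)
theorem F180256 : act 2 n67537 = n53406 := (sb E17765 (iv2 D115820))
theorem F180257 : act 2 n53925 = n31379 := (sb E17766 (iv2 D67536))
theorem F180258 : act 7 n53925 = n31380 := (sb E17766 (iv7 F103423))
theorem E17767 : n67540 = n53924 := (c15_4 (iv0 D53924) D53925 F180258 (iv2 F103432))
theorem F180259 : act 2 n53924 = n31380 := (sb E17767 F103432)
theorem F180260 : act 4 n53924 = n66031 := (sb E17767 F103433)
theorem F180261 : act 7 n53924 = n31379 := (sb E17767 (iv7 D67540))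
theorem F180262 : act 0 n67695 = n66031 := d20_10 (iv4 F180260) (iv1 F85051) F49644 (iv3 F41150) (iv1 F41154) D31754 D68231 (iv1 F162353) (iv4 D67696) D67695
theorem E17768 : n115818 = n67695 := ((c15_1 (iv0 F180262) (iv0 D115818) (iv7 F180250) D66031)).symm
theorem F180263 : act 1 n67695 = n53406 := (sb E17768 (iv0 D115818))
theorem F180264 : act 1 n115819 = n66031 := d15_0 (iv0 F180262) (iv7 F162346) (iv2 F180213)
theorem F180265 : act 7 n115821 = n66032 := d8_2 F180254 (iv3 F180214) F101712
theorem F180266 : act 7 n115832 = n66043 := d11_2 F180254 D115832 (iv4 D66043)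
theorem F180267 : act 7 n115826 = n66037 := d8_2 F180252 D115826 (iv3 D66037)
theorem F180268 : act 7 n115827 = n66038 := d13_2 F180252 D115827 (iv5 D66038)
theorem F180269 : act 7 n66057 = n108842 := d8_2 F180248 D66057 F168843
theorem F180270 : act 2 n66059 = n115828 := d1_3 F180226 F180247 (iv4 F101729)
theorem F180271 : act 2 n66064 = n115837 := d2_3 (iv5 D115837) F180247 D66064
theorem F180272 : act 2 n66065 = n115838 := d4_3 (iv7 D115838) F180247 D66065
theorem F180273 : act 1 n66063 = n115838 := d15_1 D66063 (iv7 D115838) F180247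
theorem F180274 : act 1 n115836 = n66065 := d15_1 D115836 (iv7 D66065) (iv2 F180247)
theorem F180275 : act 1 n115838 = n66062 := d15_0 (iv0 D66062) D66065 F180272
theorem F180276 : act 1 n66065 = n115835 := d15_0 (iv0 D115835) D115838 (iv2 F180272)
theorem F180277 : act 2 n66060 = n115832 := d1_3 (iv4 D115832) F180246 D66060
theorem F180278 : act 2 n66061 = n115833 := d3_3 (iv6 D115833) F180246 D66061
theorem F180279 : act 2 n66058 = n115827 := d2_3 (iv5 D115827) F180245 D66058
theorem F180280 : act 6 n115838 = n66049 := d14_3 F180244 D53409 D115838 (iv7 D66049) (iv6 D30894)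
theorem F180281 : act 2 n67650 = n65691 := d0_5 F180236 (iv2 F180235) (iv3 D65655) (iv2 F177231) D67650
theorem F180282 : act 0 n53847 = n115803 := d20_10 (iv4 F180217) (iv1 F180225) (iv4 D53412) D53411 D115840 (iv3 F180236) (iv4 F172278) F172279 (iv4 D53848) D53847
theorem F180283 : act 2 n111082 = n68212 := d1_3 F104381 F180281 (iv4 F172278)
theorem E17769 : n65690 = n65660 := (c15_2 F104308 F104307 F177241 F180281)
theorem F180284 : act 0 n65660 = n68154 := (sb E17769 (iv1 F104307))
theorem F180285 : act 1 n65660 = n30767 := (sb E17769 (iv0 D65690))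
theorem F180286 : act 5 n68212 = n111080 := d2_2 D111082 F180283 (iv2 D111080)
theorem F180287 : act 7 n68213 = n111082 := d15_2 (iv0 D68212) D68213 F180283
theorem F180288 : act 3 n111057 = n68213 := d8_3 F180287 F172276 (iv7 F172255)
theorem F180289 : act 5 n111055 = n68213 := d13_3 F180287 (iv5 D111082) (iv7 F172251)
theorem F180290 : act 1 n66899 = n111055 := d17_6 (iv1 D14937) (iv5 F24406) (iv1 F166929) (iv5 D31165) D31164 D66899 F180289 F104382 (iv4 D31755)
theorem F180291 : act 1 n111055 = n66918 := d15_1 F180290 F172114 (iv2 F172109)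
theorem F180292 : act 1 n111080 = n66899 := d15_0 F180290 F172251 D111080
theorem F180293 : act 1 n66918 = n111080 := d15_0 F180292 F172271 (iv2 F172270)
theorem F180294 : act 1 n53411 = n67645 := d15_1 (iv0 D115840) (iv7 F177230) F180235
def n115841 : Q := act 2 n53411
theorem D115841 : act 2 n53411 = n115841 := rfl
theorem F180295 : act 3 n115841 = n66031 := d0_2 D53411 D115841 (iv2 D66031) (iv3 D30891) F180243
theorem F180296 : act 7 n115841 = n66053 := d4_2 (iv7 F180240) D115841 (iv2 D66053)
theorem F180297 : act 1 n115841 = n66051 := d15_0 (iv0 D66051) (iv7 F180240) D115841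
theorem F180298 : act 1 n65655 = n115841 := d15_0 F180297 F180237 (iv2 F180235)
def n115842 : Q := act 4 n53411
theorem D115842 : act 4 n53411 = n115842 := rfl
theorem F180299 : act 7 n115842 = n66054 := d11_2 (iv7 F180240) D115842 (iv4 D66054)
theorem F180300 : act 0 n109684 = n115842 := d20_1 D109684 (iv4 D115842) (iv3 D53411) (iv1 D25875) (iv3 D12283) (iv4 D5826) (iv1 F8233) D11670 D24644 D50590
theorem F180301 : act 5 n115842 = n67056 := d17_1 F180300 (iv1 F103041) (iv5 D31241) (iv4 D14745) D14746 F49551 (iv5 F103079) F79962 D109684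
theorem F180302 : act 5 n53411 = n66631 := d18_4 D50590 D109684 F180300 (iv4 D115842) (iv4 F103087) (iv0 D67076) (iv4 D31226) F103074 F49503
theorem E17770 : n66633 = n25875 := (c6_3 F180302 (iv3 D66631) D66633 D53411)
theorem E17771 : n53413 = n31084 := ((D53413).symm.trans (sb E17770 (iv5 D66633)))
theorem E17772 : n115831 = n14698 := ((((iv1 D31084)).symm.trans (sb E17771 (iv1 F180229)))).symm
theorem E17774 : n66630 = n30893 := (((iv2 F102565)).symm.trans (sb E17771 (iv2 F180253)))
theorem F180303 : act 5 n31084 = n25875 := (sb E17771 (iv5 D53413))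
theorem E17775 : n66625 = n30898 := ((F102564).symm.trans (sb E17771 F180249))
theorem E17776 : n53408 = n31083 := (((D31083).symm.trans (sb E17772 (iv1 D115831)))).symm
theorem F180304 : act 2 n30893 = n31084 := (sb E17774 F102565)
theorem F180305 : act 7 n30898 = n31084 := (sb E17775 (iv7 F102564))
theorem F180306 : act 2 n31083 = n30898 := (sb E17776 F180246)
theorem E17777 : n115821 = n66626 := (((D66626).symm.trans (sb E17776 (iv3 F180214)))).symm
theorem E17778 : n115832 = n66627 := (((D66627).symm.trans (sb E17776 D115832))).symm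
theorem E17779 : n66628 = n25874 := ((D66628).symm.trans (sb E17776 (iv5 D53408)))
theorem E17780 : n115833 = n66629 := (((D66629).symm.trans (sb E17776 D115833))).symm
theorem F180307 : act 7 n31083 = n30893 := (sb E17776 (iv7 F180254))
theorem F180308 : act 5 n66626 = n53406 := (sb E17777 (iv5 D115821))
theorem F180309 : act 7 n66626 = n66032 := (sb E17777 F180265)
theorem F180310 : act 2 n66627 = n66060 := (sb E17778 (iv2 F180277))
theorem F180311 : act 7 n66627 = n66043 := (sb E17778 F180266)
theorem F180312 : act 5 n25874 = n31083 := (sb E17779 (iv5 D66628))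
theorem F180313 : act 2 n66629 = n66061 := (sb E17780 (iv2 F180278))
theorem F180314 : act 7 n66631 = n66055 := d13_2 (iv7 F180240) F180302 (iv5 D66055)
theorem F180315 : act 7 n66632 = n66060 := d11_2 F180305 D66632 (iv4 D66060)
theorem F180316 : act 2 n66043 = n66632 := d4_3 F180315 (iv2 F180310) F180311
theorem E17781 : n115766 = n66526 := (c17_2 F84230 D115766 (iv1 D66526) (iv5 D31052) F24368 D14698 D31084 F180303 F40879 (iv4 F49322))
theorem F180318 : act 5 n66526 = n53382 := (sb E17781 (iv5 D115766))
def n115843 : Q := act 6 n53411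
theorem D115843 : act 6 n53411 = n115843 := rfl
theorem F180319 : act 3 n115843 = n53414 := d7_1 D115843 (iv6 D53414) D53411
def n115844 : Q := act 5 n53412
theorem D115844 : act 5 n53412 = n115844 := rfl
theorem F180320 : act 2 n115844 = n66038 := d2_1 D115844 (iv5 D66038) F180251
theorem F180321 : act 7 n115844 = n66058 := d13_2 (iv7 F180248) D115844 (iv5 D66058)
def n115845 : Q := act 6 n53412
theorem D115845 : act 6 n53412 = n115845 := rfl
theorem F180322 : act 2 n115845 = n66039 := d3_1 D115845 (iv6 D66039) F180251
theorem F180323 : act 4 n115845 = n53414 := d10_1 D115845 (iv6 D53414) D53412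
def n115846 : Q := act 0 n53414
theorem D115846 : act 0 n53414 = n115846 := rfl
def n115847 : Q := act 1 n53414
theorem D115847 : act 1 n53414 = n115847 := rfl
def n115848 : Q := act 5 n53414
theorem D115848 : act 5 n53414 = n115848 := rfl
def n115849 : Q := act 7 n53414
theorem D115849 : act 7 n53414 = n115849 := rfl
theorem F180327 : act 6 n115849 = n66065 := d14_1 D115849 (iv7 D66065) (iv6 D30899) (iv7 F180242) D53414
def n115850 : Q := act 4 n53415
theorem D115850 : act 4 n53415 = n115850 := rfl
theorem F180331 : act 2 n115850 = n53419 := d1_1 D115850 (iv4 D53419) (iv2 F84264)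
theorem F180332 : act 7 n115850 = n66066 := d11_2 (iv7 F84266) D115850 (iv4 D66066)
theorem F180333 : act 1 n66083 = n115850 := d15_1 D66083 F180332 F101730
def n115851 : Q := act 6 n53415
theorem D115851 : act 6 n53415 = n115851 := rfl
theorem F180335 : act 2 n115851 = n53420 := d3_1 D115851 (iv6 D53420) (iv2 F84264)
def n115853 : Q := act 1 n53416
theorem D115853 : act 1 n53416 = n115853 := rfl
theorem F180337 : act 1 n115853 = n53424 := d15_1 D115853 (iv7 D53424) (iv2 F84269)
def n115855 : Q := act 7 n53416
theorem D115855 : act 7 n53416 = n115855 := rfl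
theorem F180340 : act 2 n115855 = n53424 := d4_1 D115855 (iv7 D53424) (iv2 F84269)
theorem F180341 : act 3 n115855 = n65732 := d8_1 D115855 (iv7 D65732) (iv3 F84270)
theorem F180342 : act 6 n115855 = n66071 := d14_1 D115855 (iv7 D66071) (iv6 D30901) (iv7 F40877) D53416
theorem F180345 : act 1 n115855 = n53421 := d15_0 (iv0 D53421) D53424 (iv2 F180340)
def n115856 : Q := act 2 n53417
theorem D115856 : act 2 n53417 = n115856 := rfl
theorem F180346 : act 7 n53418 = n115856 := d15_2 (iv0 D53417) D53418 (iv2 D115856)
def n115857 : Q := act 3 n53417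
theorem D115857 : act 3 n53417 = n115857 := rfl
def n115858 : Q := act 4 n53417
theorem D115858 : act 4 n53417 = n115858 := rfl
def n115859 : Q := act 5 n53417
theorem D115859 : act 5 n53417 = n115859 := rfl
def n115860 : Q := act 6 n53417
theorem D115860 : act 6 n53417 = n115860 := rfl
def n115861 : Q := act 7 n53417
theorem D115861 : act 7 n53417 = n115861 := rfl
def n115862 : Q := act 3 n53418
theorem D115862 : act 3 n53418 = n115862 := rfl
def n115863 : Q := act 4 n53418
theorem D115863 : act 4 n53418 = n115863 := rfl
def n115864 : Q := act 5 n53418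
theorem D115864 : act 5 n53418 = n115864 := rfl
def n115865 : Q := act 6 n53418
theorem D115865 : act 6 n53418 = n115865 := rfl
def n115866 : Q := act 0 n53419
theorem D115866 : act 0 n53419 = n115866 := rfl
theorem F180348 : act 1 n66066 = n115866 := d15_0 (iv0 D115866) F84274 (iv2 F101730)
theorem F180349 : act 4 n115866 = n69488 := d18_7 F180186 (iv4 D115761) (iv1 F84228) F49322 D30900 D66066 F180348 (iv0 D69488) (iv5 F105790)
def n115867 : Q := act 1 n53419
theorem D115867 : act 1 n53419 = n115867 := rfl
theorem F180350 : act 1 n115867 = n66066 := d15_1 D115867 (iv7 F180332) F180331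
theorem F180351 : act 4 n66893 = n115867 := d20_6 (iv4 D11180) F7634 (iv4 F11284) D14758 (iv1 F166929) (iv3 F102748) (iv1 D115867) (iv4 D53419) F40881 F20366
theorem E17782 : n115859 = n25927 := (c18_10 (iv1 F40983) (iv4 F49457) F84422 (iv4 F84421) D66893 F180351 F180350 (iv4 D66066) F84271 D115859)
theorem E17783 : n53528 = n53417 := ((D53528).symm.trans (sb E17782 (iv5 D115859)))
theorem E17784 : n115856 = n30903 := ((D115856).symm.trans (sb E17783 F103124))
theorem F180352 : act 5 n53417 = n25927 := (sb E17783 (iv5 D53528))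
theorem E17785 : n115861 = n30902 := ((D115861).symm.trans (sb E17783 F103125))
theorem F180353 : act 2 n30903 = n53417 := (sb E17784 (iv2 D115856))
theorem E17786 : n53533 = n53418 := (((iv7 F103121)).symm.trans (sb E17784 (iv7 F180346)))
theorem F180354 : act 7 n30902 = n53417 := (sb E17785 (iv7 D115861))
theorem F180355 : act 2 n53418 = n30902 := (sb E17786 F103120)
theorem E17787 : n115864 = n25928 := ((D115864).symm.trans (sb E17786 (iv5 D53533)))
theorem F180356 : act 7 n53418 = n30903 := (sb E17786 F103121)
theorem F180357 : act 5 n25928 = n53418 := (sb E17787 (iv5 D115864))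
theorem F180358 : act 5 n115862 = n53531 := d6_2 F180357 D115862 (iv3 D53531)
theorem F180359 : act 5 n115771 = n53506 := d17_7 (iv1 F40987) F180357 (iv1 D53418) (iv5 D25877) (iv4 F40865) D53384 D115771 (iv0 F84422) F49457
theorem F180360 : act 2 n65971 = n115771 := d2_3 F180359 F102845 (iv5 F180140)
theorem F180361 : act 7 n65972 = n115771 := d13_0 F180359 F102846 (iv5 F103129)
theorem F180362 : act 2 n65972 = n115770 := d15_3 (iv0 D115770) D115771 (iv7 F180361)
theorem F180363 : act 5 n115770 = n53505 := d2_2 (iv5 F103129) F180362 F102868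
theorem F180364 : act 7 n115770 = n65971 := d4_2 (iv7 F180361) F180362 F180360
theorem F180365 : act 7 n66078 = n115862 := d13_0 F180358 F102528 (iv5 F103127)
theorem F180366 : act 1 n67198 = n115862 := d17_6 (iv1 D14468) D14470 D30485 (iv5 F103147) (iv4 F180234) (iv5 F180238) F180358 F102536 (iv4 D30479)
theorem F180367 : act 1 n115862 = n67203 := d15_1 F180366 (iv7 F177244) (iv2 F177251)
theorem F180368 : act 7 n66079 = n115863 := d11_2 F180356 D66079 (iv4 D115863)
theorem F180369 : act 2 n66074 = n115863 := d1_3 (iv4 D115863) F180355 D66074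
theorem F180370 : act 2 n66076 = n115865 := d3_3 (iv6 D115865) F180355 D66076
theorem F180371 : act 7 n115857 = n66073 := d8_2 F180354 D115857 (iv3 D66073)
theorem F180372 : act 7 n115858 = n66074 := d11_2 F180354 D115858 (iv4 D66074)
theorem F180373 : act 2 n66079 = n115858 := d4_3 F180372 F180369 (iv7 F180368)
theorem F180374 : act 1 n66079 = n69491 := d15_0 F105797 (iv7 F180372) (iv2 F180373)
theorem E17788 : n69489 = n66893 := (c18_9 (iv1 F102757) (iv4 F102504) (iv1 F102509) (iv4 D31078) F103128 D66079 F180374 (iv4 D69491) D69489 (iv5 D66893))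
theorem F180375 : act 0 n66893 = n32269 := (sb E17788 (iv1 D69489))
theorem F180376 : act 5 n53526 = n115857 := d13_3 F180371 F103122 (iv7 F102520)
theorem F180377 : act 2 n115860 = n66081 := d3_3 (iv6 D66081) F180353 D115860
def n115868 : Q := act 5 n53419
theorem D115868 : act 5 n53419 = n115868 := rfl
theorem F180378 : act 3 n115868 = n54238 := d6_1 D115868 (iv5 D54238) (iv3 F84273)
theorem F180379 : act 7 n115868 = n66084 := d13_2 (iv7 F84274) D115868 (iv5 D66084)
def n115869 : Q := act 6 n53419
theorem D115869 : act 6 n53419 = n115869 := rfl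
theorem F180380 : act 3 n115869 = n54239 := d7_1 D115869 (iv6 D54239) (iv3 F84273)
def n115872 : Q := act 5 n53420
theorem D115872 : act 5 n53420 = n115872 := rfl
theorem F180383 : act 6 n115872 = n53423 := d12_2 D53420 D115872 (iv5 D53423) (iv6 D25878) D25877
def n115873 : Q := act 7 n53420
theorem D115873 : act 7 n53420 = n115873 := rfl
theorem F180384 : act 3 n115873 = n53428 := d8_1 D115873 (iv7 D53428) (iv3 F84275)
theorem F180385 : act 6 n115873 = n66089 := d14_1 D115873 (iv7 D66089) (iv6 D30905) (iv7 F40882) D53420
def n115875 : Q := act 3 n53421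
theorem D115875 : act 3 n53421 = n115875 := rfl
def n115888 : Q := act 0 n53427
theorem D115888 : act 0 n53427 = n115888 := rfl
def n115889 : Q := act 1 n53427
theorem D115889 : act 1 n53427 = n115889 := rfl
theorem F180391 : act 5 n115889 = n68498 := d17_7 F85282 F85281 (iv1 D34295) F27089 (iv4 F40885) D53427 D115889 (iv0 F130305) F87298
theorem E17789 : n53618 = n31870 := (c21_5 F18143 (iv1 F10471) D12313 D25959 D53618 D68498 (iv5 F180391) (iv1 D115889) (iv5 D53427) (iv6 D25879) F20366)
theorem E17790 : n68494 = n31094 := ((D68494).symm.trans (sb E17789 (iv1 F84582)))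
theorem E17791 : n68495 = n25959 := ((D68495).symm.trans (sb E17789 (iv0 D53618)))
theorem E17792 : n53619 = n31875 := (((iv1 F84576)).symm.trans (sb E17790 (iv1 F104700)))
theorem F180392 : act 1 n31094 = n31870 := (sb E17790 (iv0 D68494))
theorem F180393 : act 0 n25959 = n31870 := (sb E17791 (iv1 D68495))
theorem F180394 : act 0 n31875 = n25959 := (sb E17792 (iv1 D53619))
theorem F180395 : act 1 n31875 = n31094 := (sb E17792 F84576)
theorem F180396 : act 1 n54061 = n68526 := d18_6 (iv1 F41317) D31875 F180394 F41027 D26149 D54061 (iv4 D68526) F85180 F85177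
theorem F180397 : act 1 n68526 = n68798 := d15_1 F180396 (iv7 D68798) (iv2 F85286)
theorem E17793 : n68754 = n54046 := ((c20_4 D68526 (iv1 F180396) (iv4 D54061) (iv3 F85274) (iv1 D68754) (iv3 D31988) F104980 (iv1 F84722) F84718 (iv3 F85176) (iv1 F85180))).symm
theorem F180398 : act 0 n54046 = n31988 := (sb E17793 (iv1 D68754))
theorem F180399 : act 0 n69462 = n55281 := d21_7 (iv5 D12429) (iv1 F26925) D26146 (iv6 F85275) F180398 D68758 (iv5 F105758) F87488 (iv6 D54143) (iv1 D26200)
theorem F180400 : act 0 n68522 = n68798 := d18_2 D31878 D68522 F104993 F50366 (iv4 F49479) F180392 (iv4 D31870) (iv0 D15001) D15003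
def n115902 : Q := act 0 n53436
theorem D115902 : act 0 n53436 = n115902 := rfl
theorem F180435 : act 4 n115902 = n59449 := d20_2 D53436 D115902 (iv3 F167976) (iv1 F167978) F111363 D67483 (iv1 F111361) F99427 F48475 F111193
theorem F180436 : act 2 n64396 = n115902 := d15_3 (iv0 D115902) (iv0 F162014) (iv7 F162023)
theorem F180437 : act 1 n63942 = n115902 := d15_0 (iv0 D115902) (iv7 F111203) (iv2 F99851)
theorem F180438 : act 7 n115902 = n59445 := d15_2 (iv0 F162012) F180437 (iv2 F162010)
theorem F180439 : act 6 n64500 = n115902 := d14_5 F180438 (iv6 D59445) (iv7 F79635) D108841 (iv7 F168842)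
def n115904 : Q := act 5 n53436
theorem D115904 : act 5 n53436 = n115904 := rfl
theorem F180442 : act 2 n115904 = n64399 := d2_1 D115904 (iv5 D64399) (iv2 F111197)
theorem F180443 : act 7 n115904 = n64409 := d13_2 F111203 D115904 (iv5 D64409)
def n115918 : Q := act 0 n53448
theorem D115918 : act 0 n53448 = n115918 := rfl
theorem F180473 : act 1 n62949 = n115918 := d15_0 (iv0 D115918) F84331 D62949
def n115919 : Q := act 1 n53448
theorem D115919 : act 1 n53448 = n115919 := rfl
theorem F180474 : act 3 n66330 = n115919 := d20_3 (iv4 F84533) (iv1 F102944) F102947 (iv1 D115919) (iv3 D53448) (iv4 D25892) F20385 D12310 D25948 D53581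
theorem F180475 : act 4 n105627 = n115919 := d20_6 (iv4 D23809) (iv1 D11161) D11162 D23813 D48833 D105627 (iv1 D115919) (iv4 F162168) (iv3 D105571) (iv1 F76892)
theorem F180476 : act 7 n115919 = n62948 := d8_2 F103065 F180474 (iv3 F103066)
theorem F180477 : act 2 n62948 = n115918 := d15_3 (iv0 D115918) D115919 F180476
theorem F180478 : act 2 n115919 = n62947 := d15_3 (iv0 D62947) D62948 (iv7 F180476)
theorem F180479 : act 7 n62947 = n115918 := d4_2 (iv7 F180476) F180478 (iv2 F180477)
theorem F180480 : act 1 n115919 = n62949 := d15_0 F180473 (iv7 F180479) (iv2 F180478)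
def n115920 : Q := act 2 n53448
theorem D115920 : act 2 n53448 = n115920 := rfl
theorem F180481 : act 3 n115920 = n65375 := d0_2 D53448 D115920 (iv2 D65375) (iv3 D30660) (iv2 F40903)
theorem F180482 : act 7 n115920 = n62949 := d4_2 (iv7 F84331) D115920 (iv2 D62949)
theorem F180483 : act 1 n115920 = n62947 := d15_0 (iv0 D62947) (iv7 F84331) D115920
theorem F180484 : act 1 n62948 = n115920 := d15_0 F180483 F180479 (iv2 F180477)
def n115921 : Q := act 5 n53448
theorem D115921 : act 5 n53448 = n115921 := rfl
theorem F180485 : act 3 n115921 = n53449 := d6_1 D115921 (iv5 D53449) D53448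
theorem F180486 : act 7 n115921 = n62950 := d13_2 (iv7 F84331) D115921 (iv5 D62950)
def n115922 : Q := act 6 n53448
theorem D115922 : act 6 n53448 = n115922 := rfl
theorem F180487 : act 3 n115922 = n53450 := d7_1 D115922 (iv6 D53450) D53448
theorem F180488 : act 7 n115922 = n111258 := d14_2 (iv7 F84331) D115922 (iv6 D111258) (iv7 D51312) (iv6 F47903)
def n115923 : Q := act 6 n53449
theorem D115923 : act 6 n53449 = n115923 := rfl
theorem F180489 : act 2 n115923 = n65378 := d3_1 D115923 (iv6 D65378) (iv2 F84332)
def n115924 : Q := act 5 n53450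
theorem D115924 : act 5 n53450 = n115924 := rfl
theorem F180490 : act 2 n115924 = n65381 := d2_1 D115924 (iv5 D65381) (iv2 F84336)
theorem F180491 : act 7 n115924 = n111266 := d13_2 (iv7 F84338) D115924 (iv5 D111266)
def n115925 : Q := act 0 n53451
theorem D115925 : act 0 n53451 = n115925 := rfl
theorem F180492 : act 1 n65412 = n115925 := d15_0 (iv0 D115925) F84340 D65412
def n115926 : Q := act 1 n53451
theorem D115926 : act 1 n53451 = n115926 := rfl
def n115927 : Q := act 2 n53451
theorem D115927 : act 2 n53451 = n115927 := rfl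
theorem F180493 : act 3 n115927 = n65433 := d0_2 D53451 D115927 (iv2 D65433) (iv3 D30680) (iv2 F40916)
theorem F180494 : act 4 n115927 = n67531 := d1_2 (iv4 F84339) D115927 (iv2 D67531)
theorem F180495 : act 7 n115927 = n65412 := d4_2 (iv7 F84340) D115927 (iv2 D65412)
theorem F180496 : act 1 n115927 = n65410 := d15_0 (iv0 D65410) (iv7 F84340) D115927
theorem F180497 : act 1 n115926 = n65412 := d15_1 D115926 (iv7 F180495) (iv2 D115927)
theorem F180498 : act 1 n65411 = n115927 := d15_1 D65411 F180495 (iv2 D65412)
def n115928 : Q := act 5 n53451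
theorem D115928 : act 5 n53451 = n115928 := rfl
theorem F180499 : act 3 n115928 = n53452 := d6_1 D115928 (iv5 D53452) D53451
theorem F180500 : act 7 n115928 = n65413 := d13_2 (iv7 F84340) D115928 (iv5 D65413)
def n115929 : Q := act 6 n53451
theorem D115929 : act 6 n53451 = n115929 := rfl
theorem F180501 : act 3 n115929 = n53453 := d7_1 D115929 (iv6 D53453) D53451
theorem F180502 : act 4 n115929 = n67533 := d10_1 D115929 (iv6 D67533) (iv4 F84339)
def n115930 : Q := act 6 n53452
theorem D115930 : act 6 n53452 = n115930 := rfl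
theorem F180503 : act 2 n115930 = n65436 := d3_1 D115930 (iv6 D65436) (iv2 F84341)
theorem F180504 : act 4 n115930 = n111524 := d10_1 D115930 (iv6 D111524) (iv4 F84342)
def n115931 : Q := act 1 n53453
theorem D115931 : act 1 n53453 = n115931 := rfl
theorem F180505 : act 1 n115931 = n65439 := d15_1 D115931 (iv7 D65439) (iv2 F84344)
theorem F180506 : act 7 n115931 = n63028 := d15_2 (iv0 F166266) D115931 (iv2 F166264)
theorem F180507 : act 2 n65437 = n115931 := d4_3 F180506 (iv2 F166264) (iv7 F166268)
theorem F180508 : act 4 n63031 = n115931 := d11_3 F180506 F98344 D63031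
theorem F180509 : act 4 n63063 = n61905 := d18_7 (iv1 F166272) F180508 (iv1 D115931) F84345 F40921 (iv4 F47997) D63063 F171533 F171531
def n115932 : Q := act 5 n53453
theorem D115932 : act 5 n53453 = n115932 := rfl
theorem F180510 : act 2 n115932 = n65438 := d2_1 D115932 (iv5 D65438) (iv2 F84344)
def n115933 : Q := act 0 n53454
theorem D115933 : act 0 n53454 = n115933 := rfl
theorem F180511 : act 1 n65443 = n115933 := d15_0 (iv0 D115933) F84347 D65443
def n115934 : Q := act 1 n53454
theorem D115934 : act 1 n53454 = n115934 := rfl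
def n115935 : Q := act 2 n53454
theorem D115935 : act 2 n53454 = n115935 := rfl
theorem F180512 : act 3 n115935 = n65453 := d0_2 D53454 D115935 (iv2 D65453) (iv3 D30688) F40928
theorem F180513 : act 4 n115935 = n64344 := d1_2 (iv4 F84346) D115935 (iv2 D64344)
theorem F180514 : act 7 n115935 = n65443 := d4_2 (iv7 F84347) D115935 (iv2 D65443)
theorem F180515 : act 1 n115935 = n65441 := d15_0 (iv0 D65441) (iv7 F84347) D115935
theorem F180516 : act 1 n115934 = n65443 := d15_1 D115934 (iv7 F180514) (iv2 D115935)
theorem F180517 : act 1 n65442 = n115935 := d15_1 D65442 F180514 (iv2 D65443)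
def n115936 : Q := act 6 n53454
theorem D115936 : act 6 n53454 = n115936 := rfl
theorem F180518 : act 3 n115936 = n53455 := d7_1 D115936 (iv6 D53455) D53454
theorem F180519 : act 4 n115936 = n64346 := d10_1 D115936 (iv6 D64346) (iv4 F84346)
def n115937 : Q := act 5 n53455
theorem D115937 : act 5 n53455 = n115937 := rfl
theorem F180520 : act 2 n115937 = n65457 := d2_1 D115937 (iv5 D65457) (iv2 F84348)
def n115938 : Q := act 0 n53456
theorem D115938 : act 0 n53456 = n115938 := rfl
theorem F180521 : act 1 n65453 = n115938 := d15_0 (iv0 D115938) F84351 D65453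
def n115939 : Q := act 1 n53456
theorem D115939 : act 1 n53456 = n115939 := rfl
def n115940 : Q := act 2 n53456
theorem D115940 : act 2 n53456 = n115940 := rfl
theorem F180522 : act 3 n115940 = n65443 := d0_2 D53456 D115940 (iv2 D65443) (iv3 D30685) F40926
theorem F180523 : act 4 n115940 = n107428 := d1_2 (iv4 F84350) D115940 (iv2 D107428)
theorem F180524 : act 7 n115940 = n65453 := d4_2 (iv7 F84351) D115940 (iv2 D65453)
theorem F180525 : act 1 n115940 = n65451 := d15_0 (iv0 D65451) (iv7 F84351) D115940
theorem F180526 : act 1 n115939 = n65453 := d15_1 D115939 (iv7 F180524) (iv2 D115940)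
theorem F180527 : act 1 n65452 = n115940 := d15_1 D65452 F180524 (iv2 D65453)
theorem F180528 : act 5 n110901 = n65452 := d17_7 (iv1 F165708) F177274 (iv1 D51240) (iv5 D24920) (iv4 F39017) D51137 D110901 F180527 F180523
theorem F180529 : act 4 n107327 = n65452 := d18_5 (iv1 F80829) (iv4 F171409) (iv1 F171412) (iv4 F100500) D107327 F180527 F180523 F165706 F177271
theorem E17794 : n107056 = n49589 := (c20_5 (iv4 D11339) D11337 D24140 D49456 D107056 (iv3 F165386) F180529 (iv1 D65452) (iv4 F50023) (iv3 D31716) F24578)
theorem E17795 : n107336 = n68141 := ((D107336).symm.trans (sb E17794 (iv1 F165017)))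
theorem E17796 : n107337 = n49456 := ((D107337).symm.trans (sb E17794 (iv0 D107056)))
theorem E17797 : n107057 = n49594 := (((iv1 F165022)).symm.trans (sb E17795 (iv1 F165398)))
theorem F180530 : act 1 n68141 = n49589 := (sb E17795 (iv0 D107336))
theorem F180531 : act 0 n49456 = n49589 := (sb E17796 (iv1 D107337))
theorem F180532 : act 0 n49594 = n49456 := (sb E17797 (iv1 D107057))
theorem F180533 : act 1 n49594 = n68141 := (sb E17797 F165022)
theorem F180534 : act 1 n115732 = n106912 := d17_6 (iv1 F78332) D49594 F180532 F78206 (iv4 F84191) D115732 (iv5 D106912) F164774 F164772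
def n115941 : Q := act 6 n53456
theorem D115941 : act 6 n53456 = n115941 := rfl
theorem F180535 : act 3 n115941 = n53457 := d7_1 D115941 (iv6 D53457) D53456
theorem F180536 : act 4 n115941 = n107429 := d10_1 D115941 (iv6 D107429) (iv4 F84350)
def n115942 : Q := act 5 n53457
theorem D115942 : act 5 n53457 = n115942 := rfl
theorem F180537 : act 2 n115942 = n65449 := d2_1 D115942 (iv5 D65449) (iv2 F84352)
theorem F180538 : act 0 n111146 = n115942 := d21_7 D25900 (iv1 F80592) (iv5 D51091) F53726 (iv1 F53724) D51267 D111146 (iv5 D115942) (iv6 D53457) (iv1 D25898)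
def n115943 : Q := act 7 n53457
theorem D115943 : act 7 n53457 = n115943 := rfl
theorem F180539 : act 2 n115943 = n65450 := d4_1 D115943 (iv7 D65450) (iv2 F84352)
theorem F180540 : act 4 n115943 = n65916 := d11_1 D115943 (iv7 D65916) (iv4 F84353)
theorem F180541 : act 6 n115943 = n65458 := d14_1 D115943 (iv7 D65458) (iv6 D30690) F40927 D53457
theorem F180542 : act 1 n65425 = n115943 := d15_1 (iv0 F101535) (iv7 D115943) F84352
theorem F180543 : act 1 n115943 = n65421 := d15_1 F180542 (iv7 F168885) F168884
def n115944 : Q := act 2 n53458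
theorem D115944 : act 2 n53458 = n115944 := rfl
theorem F180544 : act 7 n53459 = n115944 := d15_2 (iv0 D53458) D53459 (iv2 D115944)
theorem F180545 : act 4 n115944 = n67721 := d11_1 F180544 (iv7 D67721) F84355
def n115945 : Q := act 3 n53458
theorem D115945 : act 3 n53458 = n115945 := rfl
def n115946 : Q := act 4 n53458
theorem D115946 : act 4 n53458 = n115946 := rfl
theorem F180546 : act 2 n115946 = n67721 := d1_1 D115946 (iv4 F180545) (iv2 D115944)
theorem F180547 : act 3 n67740 = n115946 := d0_0 F180546 F103763 F49767 D31452 D67740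
theorem F180548 : act 7 n67718 = n115946 := d4_0 F180546 (iv7 D67721) D67718
theorem F180549 : act 1 n115946 = n67716 := d15_0 (iv0 D67716) D67721 (iv2 F180546)
theorem F180550 : act 1 n67717 = n115946 := d15_1 D67717 (iv7 F180548) (iv2 D67718)
theorem F180551 : act 0 n67740 = n115800 := d20_10 F180175 (iv1 D67625) F49683 (iv3 D14810) F11307 D12295 (iv4 F40930) D53458 D115946 (iv3 F180547)
def n115947 : Q := act 5 n53458
theorem D115947 : act 5 n53458 = n115947 := rfl
def n115948 : Q := act 6 n53458
theorem D115948 : act 6 n53458 = n115948 := rfl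
def n115949 : Q := act 7 n53458
theorem D115949 : act 7 n53458 = n115949 := rfl
theorem F180552 : act 2 n115949 = n53459 := d4_1 D115949 F180544 (iv2 D115944)
theorem F180553 : act 4 n115949 = n67718 := d11_1 D115949 F180548 (iv4 D115946)
def n115950 : Q := act 3 n53459
theorem D115950 : act 3 n53459 = n115950 := rfl
theorem F180554 : act 4 n115950 = n67724 := d5_2 F84355 D115950 (iv3 D67724) (iv4 D31448) D31447
def n115951 : Q := act 5 n53459
theorem D115951 : act 5 n53459 = n115951 := rfl
def n115952 : Q := act 6 n53459
theorem D115952 : act 6 n53459 = n115952 := rfl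
theorem F180555 : act 4 n115952 = n67720 := d10_1 D115952 (iv6 D67720) F84355
def n115953 : Q := act 5 n53460
theorem D115953 : act 5 n53460 = n115953 := rfl
theorem F180556 : act 2 n115953 = n53461 := d2_1 D115953 (iv5 D53461) D53460
theorem F180557 : act 7 n115953 = n65468 := d13_2 (iv7 F84357) D115953 (iv5 D65468)
theorem F180558 : act 1 n115953 = n66225 := d17_6 D14662 F105775 (iv1 F84380) (iv5 D53481) (iv4 F84356) D115953 (iv5 D66225) (iv0 D30949) F24334
theorem E17798 : n66225 = n65470 := (c15_1 F180558 (iv0 D65470) (iv7 F84362) (iv2 F180556))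
theorem F180559 : act 0 n65470 = n115953 := (sb E17798 (iv1 F180558))
theorem F180560 : act 5 n65470 = n30949 := (sb E17798 (iv5 D66225))
theorem F180561 : act 1 n65471 = n115953 := d15_1 D65471 F180557 F101165
def n115954 : Q := act 6 n53460
theorem D115954 : act 6 n53460 = n115954 := rfl
theorem F180562 : act 2 n115954 = n53462 := d3_1 D115954 (iv6 D53462) D53460
theorem F180563 : act 4 n115954 = n53482 := d10_1 D115954 (iv6 D53482) (iv4 F84356)
def n115955 : Q := act 0 n53461
theorem D115955 : act 0 n53461 = n115955 := rfl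
theorem F180564 : act 1 n65468 = n115955 := d15_0 (iv0 D115955) F84362 (iv2 F101165)
def n115956 : Q := act 1 n53461
theorem D115956 : act 1 n53461 = n115956 := rfl
theorem F180565 : act 1 n115956 = n65468 := d15_1 D115956 (iv7 F180557) F180556
def n115957 : Q := act 4 n53461
theorem D115957 : act 4 n53461 = n115957 := rfl
theorem F180566 : act 7 n115957 = n65472 := d11_2 (iv7 F84362) D115957 (iv4 D65472)
def n115958 : Q := act 6 n53461
theorem D115958 : act 6 n53461 = n115958 := rfl
theorem F180567 : act 3 n115958 = n53463 := d7_1 D115958 (iv6 D53463) (iv3 F84361)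
def n115959 : Q := act 0 n53462
theorem D115959 : act 0 n53462 = n115959 := rfl
def n115960 : Q := act 1 n53462
theorem D115960 : act 1 n53462 = n115960 := rfl
def n115961 : Q := act 5 n53462
theorem D115961 : act 5 n53462 = n115961 := rfl
def n115962 : Q := act 7 n53462
theorem D115962 : act 7 n53462 = n115962 := rfl
theorem F180570 : act 4 n115962 = n53490 := d11_1 D115962 (iv7 D53490) (iv4 F84364)
theorem F180571 : act 6 n115962 = n65477 := d14_1 D115962 (iv7 D65477) (iv6 D30695) (iv7 F40931) D53462
def n115963 : Q := act 0 n53463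
theorem D115963 : act 0 n53463 = n115963 := rfl
def n115964 : Q := act 1 n53463
theorem D115964 : act 1 n53463 = n115964 := rfl
def n115965 : Q := act 5 n53463
theorem D115965 : act 5 n53463 = n115965 := rfl
theorem F180572 : act 6 n115965 = n53466 := d12_2 D53463 D115965 (iv5 D53466) (iv6 D25901) D25900
def n115966 : Q := act 7 n53463
theorem D115966 : act 7 n53463 = n115966 := rfl
theorem F180573 : act 6 n115966 = n65481 := d14_1 D115966 (iv7 D65481) (iv6 D30696) (iv7 F40932) D53463
def n115967 : Q := act 3 n53464
theorem D115967 : act 3 n53464 = n115967 := rfl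
theorem F180574 : act 4 n115967 = n64490 := d5_2 (iv4 F104325) D115967 (iv3 D64490) D64491 (iv3 F100427)
def n115968 : Q := act 5 n53464
theorem D115968 : act 5 n53464 = n115968 := rfl
def n115969 : Q := act 6 n53464
theorem D115969 : act 6 n53464 = n115969 := rfl
theorem F180575 : act 7 n115969 = n64961 := d14_2 F111667 D115969 (iv6 D64961) (iv7 F53587) D74407
def n115970 : Q := act 3 n53465
theorem D115970 : act 3 n53465 = n115970 := rfl
theorem F180576 : act 4 n115970 = n107516 := d5_2 F84365 D115970 (iv3 D107516) (iv4 D49668) D49667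
theorem F180577 : act 6 n115970 = n64962 := d7_2 (iv6 F84366) D115970 (iv3 D64962)
def n115971 : Q := act 5 n53465
theorem D115971 : act 5 n53465 = n115971 := rfl
def n115975 : Q := act 7 n53466
theorem D115975 : act 7 n53466 = n115975 := rfl
theorem F180578 : act 5 n115975 = n53467 := d13_1 D115975 (iv7 D53467) D53466
def n115976 : Q := act 0 n53468
theorem D115976 : act 0 n53468 = n115976 := rfl
theorem F180579 : act 4 n115976 = n59494 := d18_3 D25902 D53468 D115976 (iv5 F171187) F171186 (iv0 F173790) (iv4 D111881) (iv0 D51589) F39335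
theorem F180581 : act 1 n53470 = n115976 := d15_0 (iv0 D115976) F84369 (iv2 F84371)
theorem F180582 : act 7 n115976 = n59492 := d15_2 (iv0 F100756) F180581 F93909
theorem F180583 : act 6 n65506 = n115976 := d14_5 F180582 (iv6 D59492) F45748 D51103 F101948
def n115977 : Q := act 3 n53468
theorem D115977 : act 3 n53468 = n115977 := rfl
theorem F180584 : act 7 n115977 = n111545 := d8_2 (iv7 F84369) D115977 (iv3 D111545)
def n115978 : Q := act 5 n53468
theorem D115978 : act 5 n53468 = n115978 := rfl
def n115979 : Q := act 6 n53468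
theorem D115979 : act 6 n53468 = n115979 := rfl
theorem F180586 : act 4 n115979 = n53469 := d10_1 D115979 (iv6 D53469) D53468
theorem F180587 : act 7 n115979 = n64954 := d14_2 (iv7 F84369) D115979 (iv6 D64954) (iv7 F53578) (iv6 F81228)
def n115980 : Q := act 3 n53470
theorem D115980 : act 3 n53470 = n115980 := rfl
theorem F180588 : act 6 n115980 = n64957 := d7_2 (iv6 F84372) D115980 (iv3 D64957)
def n115982 : Q := act 0 n53471
theorem D115982 : act 0 n53471 = n115982 := rfl
theorem F180590 : act 1 n53476 = n115982 := d15_0 (iv0 D115982) (iv7 F84373) (iv2 F84375)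
def n115984 : Q := act 3 n53471
theorem D115984 : act 3 n53471 = n115984 := rfl
theorem F180592 : act 7 n115984 = n53477 := d8_2 F84373 D115984 (iv3 D53477)
def n115985 : Q := act 4 n53471
theorem D115985 : act 4 n53471 = n115985 := rfl
theorem F180593 : act 2 n115985 = n53473 := d1_1 D115985 (iv4 D53473) D53471
theorem F180594 : act 7 n115985 = n53478 := d11_2 F84373 D115985 (iv4 D53478)
def n115986 : Q := act 5 n53471
theorem D115986 : act 5 n53471 = n115986 := rfl
theorem F180595 : act 2 n115986 = n53474 := d2_1 D115986 (iv5 D53474) D53471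
theorem F180596 : act 7 n115986 = n53479 := d13_2 F84373 D115986 (iv5 D53479)
def n115988 : Q := act 0 n53472
theorem D115988 : act 0 n53472 = n115988 := rfl
def n115989 : Q := act 1 n53472
theorem D115989 : act 1 n53472 = n115989 := rfl
theorem F180598 : act 3 n66051 = n115989 := d20_9 F84374 (iv1 D49631) F37926 (iv3 D12339) (iv1 F19010) D24644 (iv4 F79933) D109592 (iv4 F169571) (iv1 D115989)
theorem F180599 : act 2 n115989 = n65660 := d0_1 F180598 (iv3 D65660) F177234 D67645 F177226
theorem F180600 : act 7 n115989 = n65691 := d8_2 (iv7 F180237) F180598 F180236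
theorem F180601 : act 4 n115989 = n68213 := d20_6 (iv4 F101715) (iv1 F101720) (iv4 D30897) D30896 D66051 F180598 (iv1 D68213) (iv4 D31750) D31749 (iv1 F180187)
theorem E17799 : n115988 = n67650 := ((c15_4 (iv0 D115988) D115989 F180600 (iv2 F180281))).symm
theorem F180602 : act 1 n67650 = n53472 := (sb E17799 (iv0 D115988))
theorem F180603 : act 1 n115989 = n107447 := d15_0 (iv0 F177259) (iv7 F177241) (iv2 F180599)
theorem E17800 : n111057 = n107439 := (c20_4 D107447 (iv1 F180603) F180601 (iv3 F180288) (iv1 D107439) (iv3 D49626) (iv4 D24201) (iv1 D11367) D11368 D24203 D49630)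
theorem F180604 : act 2 n107439 = n51229 := (sb E17800 F172254)
theorem F180605 : act 3 n107439 = n68213 := (sb E17800 F180288)
theorem F180606 : act 5 n107439 = n51226 := (sb E17800 (iv5 D111057))
theorem F180607 : act 7 n107439 = n51234 := (sb E17800 F172255)
theorem E17801 : n111073 = n107438 := (c15_4 (iv0 D107438) D107439 F180607 (iv2 F172265))
theorem F180608 : act 2 n107438 = n51234 := (sb E17801 F172265)
theorem F180609 : act 5 n107438 = n51231 := (sb E17801 F172266)
theorem F180610 : act 7 n107438 = n51229 := (sb E17801 (iv7 D111073))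
def n115990 : Q := act 2 n53472
theorem D115990 : act 2 n53472 = n115990 := rfl
theorem F180611 : act 4 n115990 = n107450 := d1_2 (iv4 F84374) D115990 F165767
theorem F180612 : act 7 n107447 = n115990 := d15_2 D115989 F180603 (iv2 D115990)
def n115991 : Q := act 5 n53472
theorem D115991 : act 5 n53472 = n115991 := rfl
theorem F180613 : act 3 n115991 = n53474 := d6_1 D115991 (iv5 D53474) D53472
def n115992 : Q := act 6 n53472
theorem D115992 : act 6 n53472 = n115992 := rfl
theorem F180614 : act 3 n115992 = n53475 := d7_1 D115992 (iv6 D53475) D53472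
theorem F180615 : act 4 n115992 = n107453 := d10_1 D115992 (iv6 D107453) (iv4 F84374)
def n115993 : Q := act 7 n53472
theorem D115993 : act 7 n53472 = n115993 := rfl
theorem F180616 : act 2 n115993 = n107447 := d4_1 D115993 F180612 (iv2 D115990)
theorem F180617 : act 3 n115993 = n53476 := d8_1 D115993 (iv7 D53476) D53472
theorem F180618 : act 4 n115993 = n107445 := d11_1 D115993 (iv7 F165765) (iv4 F84374)
def n115994 : Q := act 0 n53473
theorem D115994 : act 0 n53473 = n115994 := rfl
theorem F180619 : act 4 n115994 = n109687 := d20_2 D53473 D115994 (iv3 D109687) (iv1 D50591) (iv3 D24644) (iv4 D11670) F8234 D5837 D12295 D25905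
def n115995 : Q := act 1 n53473
theorem D115995 : act 1 n53473 = n115995 := rfl
theorem F180620 : act 1 n115995 = n53478 := d15_1 D115995 (iv7 F180594) F180593
def n115996 : Q := act 3 n53473
theorem D115996 : act 3 n53473 = n115996 := rfl
theorem F180621 : act 4 n115996 = n107451 := d5_2 D53473 D115996 (iv3 D107451) (iv4 F84374) (iv3 D53472)
def n115997 : Q := act 5 n53473
theorem D115997 : act 5 n53473 = n115997 := rfl
def n115998 : Q := act 6 n53473
theorem D115998 : act 6 n53473 = n115998 := rfl
theorem F180622 : act 4 n115998 = n53475 := d10_1 D115998 (iv6 D53475) D53473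
def n115999 : Q := act 7 n53473
theorem D115999 : act 7 n53473 = n115999 := rfl
theorem F180623 : act 2 n115999 = n53478 := d4_1 D115999 (iv7 F180594) F180593
theorem F180624 : act 4 n115999 = n53476 := d11_1 D115999 (iv7 D53476) D53473
theorem F180625 : act 1 n53478 = n115994 := d15_0 (iv0 D115994) D115999 F180623
def n116000 : Q := act 0 n53474
theorem D116000 : act 0 n53474 = n116000 := rfl
def n116002 : Q := act 4 n53474
theorem D116002 : act 4 n53474 = n116002 := rfl
def n116003 : Q := act 6 n53474
theorem D116003 : act 6 n53474 = n116003 := rfl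
def n116004 : Q := act 7 n53474
theorem D116004 : act 7 n53474 = n116004 := rfl
theorem F180627 : act 2 n116004 = n53479 := d4_1 D116004 (iv7 F180596) F180595
theorem F180628 : act 5 n116004 = n53476 := d13_1 D116004 (iv7 D53476) D53474
theorem F180629 : act 1 n53479 = n116000 := d15_0 (iv0 D116000) D116004 F180627
def n116005 : Q := act 0 n53475
theorem D116005 : act 0 n53475 = n116005 := rfl
def n116006 : Q := act 1 n53475
theorem D116006 : act 1 n53475 = n116006 := rfl
def n116007 : Q := act 5 n53475
theorem D116007 : act 5 n53475 = n116007 := rfl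
def n116008 : Q := act 7 n53475
theorem D116008 : act 7 n53475 = n116008 := rfl
def n116009 : Q := act 6 n53476
theorem D116009 : act 6 n53476 = n116009 := rfl
theorem F180630 : act 2 n116009 = n53480 := d3_1 D116009 (iv6 D53480) (iv2 F84375)
def n116010 : Q := act 0 n53477
theorem D116010 : act 0 n53477 = n116010 := rfl
theorem F180631 : act 4 n116010 = n65535 := d20_0 (iv1 F179603) F179601 F84255 (iv1 F79966) D109687 (iv4 F180619) (iv1 F180625) (iv4 D53478) D53477 D116010
theorem F180632 : act 2 n65625 = n116010 := d1_3 F180631 (iv2 F179597) (iv4 F179592)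
theorem F180633 : act 7 n65712 = n116010 := d11_0 F180631 F179598 (iv4 F179591)
theorem F180634 : act 5 n69198 = n116010 := d16_1 D69198 F180631 (iv5 F180017) (iv4 F180019) F169717 (iv4 F81989) (iv5 F81995) (iv7 F84784) F84786
theorem F180635 : act 3 n116010 = n66030 := d20_3 (iv4 F49187) D65535 (iv4 F180631) (iv1 D66030) (iv3 D30891) D30892 D66035 F101715 (iv3 D65558) (iv1 D30726)
theorem F180636 : act 2 n66030 = n67695 := d0_1 F180635 (iv3 D67695) F162342 D65625 F180632
theorem F180637 : act 7 n66030 = n115819 := d8_2 F180633 F180635 (iv3 F180212)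
theorem F180638 : act 0 n109688 = n64472 := d20_1 D109688 F103430 F103426 (iv1 F103429) (iv3 F180635) F180631 (iv1 F179603) F179601 F84255 (iv1 F79966)
theorem F180639 : act 5 n64472 = n67057 := d17_1 F180638 (iv1 D67057) (iv5 D31221) (iv4 D14740) D14741 F103074 F49503 D50591 D109688
theorem F180640 : act 1 n109688 = n115842 := d15_1 (iv0 F180638) F180299 F103431
theorem F180641 : act 0 n109687 = n65461 := d20_10 (iv4 D65461) (iv1 F84358) F84356 F40941 (iv1 F40879) D53411 D115842 (iv1 F180640) (iv4 D109688) D109687
theorem F180642 : act 3 n67057 = n64474 := d6_1 F180639 (iv5 D64474) D64472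
theorem E17802 : n66029 = n65629 := ((c15_4 (iv0 D66029) D66030 F180637 F180213)).symm
theorem F180643 : act 0 n65629 = n67537 := (sb E17802 (iv1 F103428))
theorem F180644 : act 1 n65629 = n30891 := (sb E17802 (iv0 D66029))
theorem F180645 : act 1 n65714 = n116010 := d15_1 (iv0 F104309) (iv7 F180633) F179599
theorem E17803 : n115984 = n30772 := (c15_3 F180645 (iv0 D116010) (iv7 F180592) D65714)
theorem E17804 : n53471 = n14577 := ((((iv3 D30772)).symm.trans (sb E17803 (iv3 D115984)))).symm
theorem E17805 : n65686 = n53477 := (((iv7 F101411)).symm.trans (sb E17803 F180592))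
theorem E17806 : n115982 = n6965 := ((((iv1 D14577)).symm.trans (sb E17804 D115982))).symm
theorem E17808 : n30771 = n25905 := (((iv2 F49221)).symm.trans (sb E17804 (iv2 D53471)))
theorem E17809 : n115985 = n30773 := (((D30773).symm.trans (sb E17804 D115985))).symm
theorem E17810 : n115986 = n30774 := (((D30774).symm.trans (sb E17804 D115986))).symm
theorem E17812 : n30766 = n25906 := ((F49220).symm.trans (sb E17804 (iv7 F84373)))
theorem F180646 : act 7 n53477 = n30772 := (sb E17805 F101411)
theorem E17813 : n53476 = n14576 := (((D14576).symm.trans (sb E17806 (iv1 F180590)))).symm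
theorem F180647 : act 2 n25905 = n14577 := (sb E17808 F49221)
theorem E17816 : n65695 = n53472 := (((D53472).symm.trans (sb E17808 (iv3 F101419)))).symm
theorem E17817 : n65701 = n53473 := (((D53473).symm.trans (sb E17808 (iv4 F101424)))).symm
theorem E17818 : n65706 = n53474 := (((D53474).symm.trans (sb E17808 (iv5 F101428)))).symm
theorem E17819 : n65711 = n53475 := (((D53475).symm.trans (sb E17808 D65711))).symm
theorem E17820 : n65687 = n53478 := (((iv7 F101413)).symm.trans (sb E17809 F180594))
theorem E17821 : n65688 = n53479 := (((iv7 F101415)).symm.trans (sb E17810 F180596))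
theorem F180648 : act 7 n25906 = n14577 := (sb E17812 (iv7 F49220))
theorem F180649 : act 2 n14576 = n25906 := (sb E17813 F84375)
theorem E17823 : n115993 = n30767 := (((D30767).symm.trans (sb E17813 (iv3 F180617)))).symm
theorem E17824 : n115999 = n30768 := (((D30768).symm.trans (sb E17813 (iv4 F180624)))).symm
theorem E17825 : n116004 = n30769 := (((D30769).symm.trans (sb E17813 (iv5 F180628)))).symm
theorem E17826 : n116009 = n30770 := (((D30770).symm.trans (sb E17813 D116009))).symm
theorem F180650 : act 7 n14576 = n25905 := (sb E17813 (iv7 D53476))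
theorem E17827 : n115990 = n68154 := ((D115990).symm.trans (sb E17816 (iv2 F104304)))
theorem E17828 : n68152 = n49631 := (((F84374).symm.trans (sb E17816 (iv4 F104303)))).symm
theorem F180651 : act 2 n53473 = n30773 := (sb E17817 F101423)
theorem F180652 : act 2 n53474 = n30774 := (sb E17818 F101427)
theorem F180653 : act 2 n53475 = n30775 := (sb E17819 F101430)
theorem F180654 : act 7 n53478 = n30773 := (sb E17820 F101413)
theorem F180655 : act 7 n53479 = n30774 := (sb E17821 F101415)
theorem E17829 : n107447 = n65692 := (((D65692).symm.trans (sb E17823 F180616))).symm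
theorem E17830 : n107445 = n31730 := (((F50034).symm.trans (sb E17823 F180618))).symm
theorem F180656 : act 7 n30767 = n53472 := (sb E17823 (iv7 D115993))
theorem F180657 : act 2 n30768 = n53478 := (sb E17824 F180623)
theorem F180658 : act 7 n30768 = n53473 := (sb E17824 (iv7 D115999))
theorem F180659 : act 2 n30769 = n53479 := (sb E17825 F180627)
theorem F180660 : act 7 n30769 = n53474 := (sb E17825 (iv7 D116004))
theorem F180661 : act 2 n30770 = n53480 := (sb E17826 F180630)
theorem F180662 : act 2 n68154 = n53472 := (sb E17827 (iv2 D115990))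
theorem E17831 : n107450 = n31729 := ((((iv4 D68154)).symm.trans (sb E17827 F180611))).symm
theorem E17832 : n107490 = n107452 := (((D107452).symm.trans (sb E17828 F166890))).symm
theorem F180663 : act 0 n65692 = n115989 := (sb E17829 (iv1 F180603))
theorem F180664 : act 1 n65692 = n67650 := (sb E17829 (iv0 F177259))
theorem E17833 : n68157 = n49630 := (((iv4 F104311)).symm.trans (sb E17829 (iv4 D107447)))
theorem F180665 : act 7 n31730 = n49631 := (sb E17830 (iv7 F165765))
theorem F180666 : act 2 n31729 = n49631 := (sb E17831 F165767)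
theorem F180667 : act 2 n107452 = n49657 := (sb E17832 (iv2 D107490))
theorem F180668 : act 7 n107452 = n49658 := (sb E17832 (iv7 F165844))
theorem F180669 : act 2 n49630 = n31730 := (sb E17833 F104310)
theorem F180670 : act 4 n49630 = n65692 := (sb E17833 F104311)
theorem E17834 : n107495 = n107448 := (((D107448).symm.trans (sb E17833 F166892))).symm
theorem F180671 : act 7 n49630 = n31729 := (sb E17833 (iv7 D68157))
theorem F180672 : act 2 n107448 = n49658 := (sb E17834 F165845)
theorem F180673 : act 7 n107448 = n49657 := (sb E17834 (iv7 D107495))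
theorem F180674 : act 7 n68153 = n107446 := d8_2 F180671 D68153 (iv3 D107446)
theorem E17835 : n115393 = n107047 := (c11_3 F180674 F165766 F179703 (iv4 F164989))
theorem F180675 : act 2 n107047 = n53236 := (sb E17835 (iv2 D115393))
theorem F180676 : act 7 n107047 = n53237 := (sb E17835 (iv7 F179703))
theorem E17836 : n115398 = n107046 := (c15_4 (iv0 D107046) D107047 F180676 (iv2 F179704))
theorem F180677 : act 2 n107046 = n53237 := (sb E17836 F179704)
theorem F180678 : act 7 n107046 = n53236 := (sb E17836 (iv7 D115398))
theorem F180679 : act 2 n115395 = n68153 := d1_3 F164989 F180675 D115395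
theorem F180680 : act 2 n68160 = n107449 := d3_3 (iv6 D107449) F180669 D68160
theorem F180681 : act 2 n107453 = n68156 := d3_3 (iv6 D68156) F180666 D107453
theorem F180682 : act 7 n107451 = n68158 := d8_2 F180665 D107451 (iv3 D68158)
theorem F180683 : act 7 n65698 = n115996 := d11_2 F180682 F104312 F180621
theorem F180684 : act 7 n115991 = n65693 := d8_2 F180660 (iv3 F180613) F101417
theorem F180685 : act 7 n116002 = n65704 := d11_2 F180660 D116002 (iv4 D65704)
theorem F180686 : act 7 n115997 = n65699 := d13_2 F180658 D115997 (iv5 D65699)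
theorem F180687 : act 2 n65720 = n115998 := d1_3 F180622 F180653 (iv4 F101435)
theorem F180688 : act 2 n65725 = n116007 := d2_3 (iv5 D116007) F180653 D65725
theorem F180689 : act 2 n65726 = n116008 := d4_3 (iv7 D116008) F180653 D65726
theorem F180690 : act 1 n65724 = n116008 := d15_1 D65724 (iv7 D116008) F180653
theorem F180693 : act 1 n65726 = n116005 := d15_0 (iv0 D116005) D116008 (iv2 F180689)
theorem F180694 : act 2 n65721 = n116002 := d1_3 (iv4 D116002) F180652 D65721
theorem F180695 : act 2 n65722 = n116003 := d3_3 (iv6 D116003) F180652 D65722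
theorem F180696 : act 2 n65719 = n115997 := d2_3 (iv5 D115997) F180651 D65719
theorem F180697 : act 6 n116008 = n65710 := d14_3 F180650 D53475 D116008 (iv7 D65710) (iv6 D30770)
theorem F180698 : act 1 n53477 = n67690 := d15_1 (iv0 D116010) F162350 F180632
def n116011 : Q := act 2 n53477
theorem D116011 : act 2 n53477 = n116011 := rfl
theorem F180699 : act 3 n116011 = n65692 := d0_2 D53477 D116011 (iv2 D65692) (iv3 D30767) F180649
theorem F180700 : act 7 n116011 = n65714 := d4_2 (iv7 F180646) D116011 (iv2 D65714)
theorem F180701 : act 1 n116011 = n65712 := d15_0 (iv0 D65712) (iv7 F180646) D116011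
theorem F180702 : act 1 n65625 = n116011 := d15_0 F180701 F180633 (iv2 F180632)
theorem F180703 : act 4 n116011 = n115399 := d20_2 (iv4 F179591) (iv1 F180701) (iv3 D115399) (iv1 D53237) (iv3 D25814) (iv4 D12259) (iv1 F20312) D25802 D53201 D115311
theorem F180704 : act 4 n67723 = n115819 := d20_2 D31453 (iv1 F103765) (iv3 F180212) (iv1 F180701) F180699 (iv4 F180670) (iv1 F78396) F50035 (iv3 F41256) (iv1 F41260)
theorem F180705 : act 0 n115399 = n65554 := d20_1 F180703 (iv4 D65554) D65553 F180181 (iv3 D31452) D31453 (iv1 F103765) F180704 (iv3 F180212) (iv1 F180701)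
theorem F180706 : act 1 n115399 = n65559 := d15_1 (iv0 F180705) (iv7 F180193) F180192
theorem E17837 : n67716 = n65602 := (c20_11 (iv4 F101420) (iv1 F101425) (iv4 D30773) D30772 D65712 F180212 (iv4 F180704) (iv1 D67723) (iv4 D31448) D31447 D67716)
theorem F180707 : act 0 n65602 = n115946 := (sb E17837 (iv1 F180549))
theorem F180708 : act 1 n65602 = n31447 := (sb E17837 (iv0 D67716))
theorem F180709 : act 0 n66054 = n65603 := d20_7 (iv4 D115946) (iv1 F84354) F49138 (iv3 F40876) (iv1 F40880) D30896 D66054 (iv4 D65603) D65602 F180707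
theorem F180710 : act 1 n66078 = n59741 := d18_8 F177229 D66054 F180709 (iv4 D65603) F103142 D31268 F103134 (iv4 F103126) (iv5 F162510)
theorem E17838 : n110970 = n49630 := (c19_18 (iv1 F180702) F101364 F94439 (iv3 F84782) (iv1 F81231) (iv5 D51450) (iv4 D25007) (iv3 D11877) (iv1 D5573) (iv5 D2312) (iv4 F3660) F3659 D2292 D5531 D11817 D24898 D51165 D110970 F180670 (iv3 F180699))
theorem E17839 : n107448 = n51165 := ((D107448).symm.trans (sb E17838 (iv5 D110970)))
theorem E17840 : n110967 = n49658 := ((D110967).symm.trans (sb E17839 F180672))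
theorem F180711 : act 5 n51165 = n49630 := (sb E17839 (iv5 D107448))
theorem E17841 : n110972 = n49657 := ((D110972).symm.trans (sb E17839 F180673))
theorem F180712 : act 2 n49658 = n51165 := (sb E17840 (iv2 D110967))
theorem E17842 : n107452 = n51166 := (((iv7 F180668)).symm.trans (sb E17840 (iv7 F172015)))
theorem F180713 : act 7 n49657 = n51165 := (sb E17841 (iv7 D110972))
theorem F180714 : act 2 n51166 = n49657 := (sb E17842 F180667)
theorem E17843 : n110975 = n49631 := ((D110975).symm.trans (sb E17842 (iv5 D107452)))
theorem F180715 : act 7 n51166 = n49658 := (sb E17842 F180668)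
theorem F180716 : act 5 n49631 = n51166 := (sb E17843 (iv5 D110975))
theorem F180717 : act 5 n110973 = n107451 := d6_2 F180716 D110973 (iv3 D107451)
theorem E17844 : n66951 = n26032 := (c17_8 (iv1 F78401) F180716 (iv1 D51166) F39036 (iv4 D14729) D14730 D31179 D66951 F41153 (iv4 F50035))
theorem E17845 : n53854 = n31179 := ((D53854).symm.trans (sb E17844 (iv5 D66951)))
theorem F180718 : act 5 n31179 = n26032 := (sb E17845 (iv5 D53854))
theorem F180719 : act 5 n53851 = n66948 := d2_2 F180718 (iv2 F84886) F102897
theorem F180720 : act 5 n53852 = n66949 := d6_2 F180718 D53852 (iv3 D66949)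
theorem F180721 : act 5 n53846 = n66943 := d13_3 (iv7 F102896) F180718 F84884
theorem E17846 : n66946 = n26031 := (c2_3 F180721 (iv2 D66943) D66946 D53846)
theorem E17847 : n53849 = n31178 := ((D53849).symm.trans (sb E17846 (iv5 D66946)))
theorem F180722 : act 5 n31178 = n26031 := (sb E17847 (iv5 D53849))
theorem F180723 : act 5 n53847 = n66944 := d6_2 F180722 D53847 (iv3 D66944)
theorem F180724 : act 7 n107496 = n110973 := d13_0 F180717 F180682 (iv5 F166901)
theorem F180725 : act 7 n107497 = n110974 := d11_2 F180715 D107497 (iv4 D110974)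
theorem F180726 : act 2 n107492 = n110974 := d1_3 (iv4 D110974) F180714 D107492
theorem F180727 : act 2 n107494 = n110976 := d3_3 (iv6 D110976) F180714 D107494
theorem F180728 : act 7 n110968 = n107491 := d8_2 F180713 D110968 (iv3 D107491)
theorem F180729 : act 7 n110969 = n107492 := d11_2 F180713 D110969 (iv4 D107492)
theorem F180730 : act 2 n107497 = n110969 := d4_3 F180729 F180726 (iv7 F180725)
theorem F180731 : act 7 n109275 = n107126 := d11_2 F180728 F169277 (iv4 F172016)
theorem F180732 : act 5 n107446 = n110968 := d13_3 F180728 (iv5 F166891) F180674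
theorem E17848 : n107138 = n52000 := (c18_10 (iv1 F82132) (iv4 F164992) (iv1 F164995) (iv4 F165766) F180732 F172016 F169282 F169279 F93289 D107138)
theorem E17849 : n112669 = n49497 := ((D112669).symm.trans (sb E17848 (iv5 D107138)))
theorem F180733 : act 5 n49497 = n52000 := (sb E17849 (iv5 D112669))
theorem F180734 : act 5 n112666 = n107136 := d2_2 F180733 D112666 (iv2 D107136)
theorem F180735 : act 5 n112667 = n53853 := d6_2 F180733 D112667 (iv3 F84887)
theorem F180736 : act 5 n112671 = n107140 := d13_3 (iv7 D107140) F180733 D112671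
theorem F180737 : act 0 n115396 = n115502 := d17_2 D53236 D115396 (iv5 D115502) (iv4 F163673) F163674 F93289 F180733 (iv0 D52000) (iv4 F40799)
theorem F180738 : act 1 n115396 = n107178 := d15_1 (iv0 F180737) F165180 (iv2 F179798)
theorem E17850 : n107143 = n52001 := (c2_3 F180736 F165122 D107143 (iv2 F175341))
theorem E17851 : n112674 = n49498 := ((D112674).symm.trans (sb E17850 (iv5 D107143)))
theorem F180739 : act 5 n49498 = n52001 := (sb E17851 (iv5 D112674))
theorem F180740 : act 5 n112672 = n107141 := d6_2 F180739 D112672 (iv3 D107141)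
theorem F180741 : act 0 n115400 = n107178 := d17_2 (iv1 F164995) D115400 (iv5 D107178) F78273 F37885 D49498 F180739 F82136 (iv4 F164992)
theorem F180742 : act 2 n107126 = n109274 := d15_3 (iv0 D109274) D109275 F180731
theorem F180743 : act 2 n109275 = n107125 := d15_3 (iv0 D107125) D107126 (iv7 F180731)
theorem F180744 : act 7 n107125 = n109274 := d4_2 (iv7 F180731) F180743 (iv2 F180742)
theorem F180745 : act 2 n110971 = n107499 := d3_3 (iv6 D107499) F180712 D110971
def n116012 : Q := act 4 n53477
theorem D116012 : act 4 n53477 = n116012 := rfl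
theorem F180746 : act 2 n116012 = n115399 := d1_1 D116012 (iv4 F180703) (iv2 D116011)
theorem F180747 : act 7 n116012 = n65715 := d11_2 (iv7 F180646) D116012 (iv4 D65715)
theorem F180748 : act 0 n115801 = n116012 := d20_1 D115801 (iv4 D116012) (iv3 D53477) (iv1 D25906) (iv3 D12295) (iv4 D5837) (iv1 F8955) D12281 D25872 D53400
theorem F180749 : act 1 n115804 = n116012 := d15_0 (iv0 F180748) F180183 (iv2 F180192)
theorem F180750 : act 0 n115803 = n65962 := d20_10 (iv4 D65962) (iv1 F84233) F84231 F40876 (iv1 F40944) D53477 D116012 (iv1 F180749) (iv4 D115804) D115803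
def n116013 : Q := act 5 n53477
theorem D116013 : act 5 n53477 = n116013 := rfl
theorem F180751 : act 3 n116013 = n53479 := d6_1 D116013 (iv5 D53479) D53477
theorem F180752 : act 7 n116013 = n65716 := d13_2 (iv7 F180646) D116013 (iv5 D65716)
theorem F180753 : act 0 n116013 = n115624 := d17_2 (iv1 F180698) D116013 (iv5 D115624) (iv4 D53329) D53330 F179948 (iv5 D65538) D65536 (iv4 F103727)
theorem F180754 : act 1 n116013 = n115641 := d17_8 F175000 (iv5 F175069) (iv1 F175071) (iv5 D69199) D69198 F180634 (iv0 D116010) D116013 F180006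
def n116014 : Q := act 6 n53477
theorem D116014 : act 6 n53477 = n116014 := rfl
theorem F180755 : act 3 n116014 = n53480 := d7_1 D116014 (iv6 D53480) D53477
def n116015 : Q := act 3 n53478
theorem D116015 : act 3 n53478 = n116015 := rfl
theorem F180756 : act 7 n116015 = n65718 := d8_2 (iv7 F180654) D116015 (iv3 D65718)
theorem F180757 : act 0 n65408 = n116015 := d20_4 (iv4 F45743) (iv1 F45745) F49130 D65408 (iv3 D116015) (iv4 D53478) (iv1 D25906) (iv4 F40930) (iv3 D25899) D25897
theorem F180758 : act 1 n110847 = n116015 := d15_0 (iv0 F180757) F101108 D110847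
def n116016 : Q := act 5 n53478
theorem D116016 : act 5 n53478 = n116016 := rfl
theorem F180759 : act 2 n116016 = n65699 := d2_1 D116016 (iv5 D65699) F180657
theorem F180760 : act 7 n116016 = n65719 := d13_2 (iv7 F180654) D116016 (iv5 D65719)
def n116017 : Q := act 6 n53478
theorem D116017 : act 6 n53478 = n116017 := rfl
theorem F180761 : act 2 n116017 = n65700 := d3_1 D116017 (iv6 D65700) F180657
theorem F180762 : act 4 n116017 = n53480 := d10_1 D116017 (iv6 D53480) D53478
def n116018 : Q := act 4 n53479
theorem D116018 : act 4 n53479 = n116018 := rfl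
theorem F180763 : act 2 n116018 = n65704 := d1_1 D116018 (iv4 D65704) F180659
theorem F180764 : act 7 n116018 = n65721 := d11_2 (iv7 F180655) D116018 (iv4 D65721)
def n116019 : Q := act 6 n53479
theorem D116019 : act 6 n53479 = n116019 := rfl
theorem F180765 : act 2 n116019 = n65705 := d3_1 D116019 (iv6 D65705) F180659
def n116020 : Q := act 0 n53480
theorem D116020 : act 0 n53480 = n116020 := rfl
def n116021 : Q := act 1 n53480
theorem D116021 : act 1 n53480 = n116021 := rfl
theorem F180766 : act 1 n116021 = n65710 := d15_1 D116021 (iv7 D65710) F180661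
def n116022 : Q := act 5 n53480
theorem D116022 : act 5 n53480 = n116022 := rfl
theorem F180767 : act 2 n116022 = n65709 := d2_1 D116022 (iv5 D65709) F180661
def n116023 : Q := act 7 n53480
theorem D116023 : act 7 n53480 = n116023 := rfl
theorem F180768 : act 2 n116023 = n65710 := d4_1 D116023 (iv7 D65710) F180661
theorem F180769 : act 6 n116023 = n65726 := d14_1 D116023 (iv7 D65726) (iv6 D30775) (iv7 F180648) D53480
theorem F180770 : act 1 n65710 = n116020 := d15_0 (iv0 D116020) D116023 F180768
theorem F180771 : act 1 n65708 = n116023 := d15_1 D65708 (iv7 D116023) (iv2 F180661)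
theorem F180772 : act 1 n116023 = n65707 := d15_0 (iv0 D65707) D65710 (iv2 F180768)
def n116024 : Q := act 4 n53481
theorem D116024 : act 4 n53481 = n116024 := rfl
theorem F180773 : act 2 n116024 = n53485 := d1_1 D116024 (iv4 D53485) (iv2 F84376)
theorem F180774 : act 7 n116024 = n65727 := d11_2 (iv7 F84378) D116024 (iv4 D65727)
theorem F180775 : act 1 n65744 = n116024 := d15_1 D65744 F180774 F101436
theorem F180776 : act 1 n116024 = n65743 := d15_0 (iv0 D65743) (iv7 F84386) (iv2 F180773)
def n116025 : Q := act 6 n53481
theorem D116025 : act 6 n53481 = n116025 := rfl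
theorem F180777 : act 2 n116025 = n53486 := d3_1 D116025 (iv6 D53486) (iv2 F84376)
theorem F180778 : act 3 n116025 = n66067 := d7_1 D116025 (iv6 D66067) (iv3 F84377)
def n116026 : Q := act 0 n53482
theorem D116026 : act 0 n53482 = n116026 := rfl
def n116027 : Q := act 1 n53482
theorem D116027 : act 1 n53482 = n116027 := rfl
theorem F180779 : act 1 n116027 = n53490 := d15_1 D116027 (iv7 D53490) (iv2 F84381)
def n116028 : Q := act 5 n53482
theorem D116028 : act 5 n53482 = n116028 := rfl
theorem F180780 : act 2 n116028 = n53489 := d2_1 D116028 (iv5 D53489) (iv2 F84381)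
theorem F180781 : act 3 n116028 = n66070 := d6_1 D116028 (iv5 D66070) (iv3 F84382)
def n116029 : Q := act 7 n53482
theorem D116029 : act 7 n53482 = n116029 := rfl
theorem F180782 : act 2 n116029 = n53490 := d4_1 D116029 (iv7 D53490) (iv2 F84381)
theorem F180783 : act 3 n116029 = n66071 := d8_1 D116029 (iv7 D66071) (iv3 F84382)
theorem F180784 : act 6 n116029 = n65732 := d14_1 D116029 (iv7 D65732) (iv6 D30777) (iv7 F40942) D53482
theorem F180785 : act 1 n53490 = n116026 := d15_0 (iv0 D116026) D116029 F180782
theorem F180786 : act 1 n53488 = n116029 := d15_1 D53488 (iv7 D116029) F84381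
theorem F180787 : act 1 n116029 = n53487 := d15_0 (iv0 D53487) D53490 (iv2 F180782)
def n116030 : Q := act 2 n53483
theorem D116030 : act 2 n53483 = n116030 := rfl
theorem F180788 : act 7 n53484 = n116030 := d15_2 (iv0 D53483) D53484 (iv2 D116030)
def n116031 : Q := act 3 n53483
theorem D116031 : act 3 n53483 = n116031 := rfl
def n116032 : Q := act 4 n53483
theorem D116032 : act 4 n53483 = n116032 := rfl
def n116033 : Q := act 5 n53483
theorem D116033 : act 5 n53483 = n116033 := rfl
def n116034 : Q := act 6 n53483
theorem D116034 : act 6 n53483 = n116034 := rfl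
def n116035 : Q := act 7 n53483
theorem D116035 : act 7 n53483 = n116035 := rfl
theorem F180789 : act 2 n116035 = n53484 := d4_1 D116035 F180788 (iv2 D116030)
def n116036 : Q := act 3 n53484
theorem D116036 : act 3 n53484 = n116036 := rfl
def n116037 : Q := act 4 n53484
theorem D116037 : act 4 n53484 = n116037 := rfl
def n116038 : Q := act 5 n53484
theorem D116038 : act 5 n53484 = n116038 := rfl
def n116039 : Q := act 6 n53484
theorem D116039 : act 6 n53484 = n116039 := rfl
def n116040 : Q := act 0 n53485
theorem D116040 : act 0 n53485 = n116040 := rfl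
theorem F180790 : act 1 n65727 = n116040 := d15_0 (iv0 D116040) F84386 (iv2 F101436)
theorem F180791 : act 4 n116040 = n67184 := d18_7 F180707 (iv4 D115946) (iv1 F84354) F49138 D30776 D65727 F180790 (iv0 D67184) F103141
def n116041 : Q := act 1 n53485
theorem D116041 : act 1 n53485 = n116041 := rfl
theorem F180792 : act 1 n116041 = n65727 := d15_1 D116041 (iv7 F180774) F180773
theorem F180793 : act 4 n67238 = n116041 := d20_6 F18125 (iv1 F10531) (iv4 F11280) D14756 D31281 D67238 (iv1 D116041) (iv4 D53485) F40946 F20398
def n116042 : Q := act 5 n53485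
theorem D116042 : act 5 n53485 = n116042 := rfl
theorem F180794 : act 3 n116042 = n54214 := d6_1 D116042 (iv5 D54214) (iv3 F84385)
theorem F180795 : act 7 n116042 = n65745 := d13_2 (iv7 F84386) D116042 (iv5 D65745)
def n116043 : Q := act 6 n53485
theorem D116043 : act 6 n53485 = n116043 := rfl
theorem F180796 : act 3 n116043 = n54215 := d7_1 D116043 (iv6 D54215) (iv3 F84385)
theorem F180797 : act 4 n116043 = n53486 := d10_1 D116043 (iv6 D53486) D53485
def n116044 : Q := act 0 n53486
theorem D116044 : act 0 n53486 = n116044 := rfl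
def n116045 : Q := act 1 n53486
theorem D116045 : act 1 n53486 = n116045 := rfl
def n116046 : Q := act 5 n53486
theorem D116046 : act 5 n53486 = n116046 := rfl
theorem F180799 : act 6 n116046 = n53489 := d12_2 D53486 D116046 (iv5 D53489) (iv6 D25909) D25908
def n116047 : Q := act 7 n53486
theorem D116047 : act 7 n53486 = n116047 := rfl
theorem F180801 : act 6 n116047 = n65750 := d14_1 D116047 (iv7 D65750) (iv6 D30781) (iv7 F40947) D53486
def n116048 : Q := act 2 n53487
theorem D116048 : act 2 n53487 = n116048 := rfl
def n116049 : Q := act 3 n53487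
theorem D116049 : act 3 n53487 = n116049 := rfl
def n116050 : Q := act 4 n53487
theorem D116050 : act 4 n53487 = n116050 := rfl
def n116051 : Q := act 5 n53487
theorem D116051 : act 5 n53487 = n116051 := rfl
def n116052 : Q := act 6 n53487
theorem D116052 : act 6 n53487 = n116052 := rfl
def n116053 : Q := act 7 n53487
theorem D116053 : act 7 n53487 = n116053 := rfl
def n116054 : Q := act 3 n53488
theorem D116054 : act 3 n53488 = n116054 := rfl
def n116055 : Q := act 4 n53488
theorem D116055 : act 4 n53488 = n116055 := rfl
def n116056 : Q := act 5 n53488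
theorem D116056 : act 5 n53488 = n116056 := rfl
def n116057 : Q := act 6 n53488
theorem D116057 : act 6 n53488 = n116057 := rfl
def n116058 : Q := act 0 n53489
theorem D116058 : act 0 n53489 = n116058 := rfl
def n116059 : Q := act 1 n53489
theorem D116059 : act 1 n53489 = n116059 := rfl
def n116060 : Q := act 4 n53489
theorem D116060 : act 4 n53489 = n116060 := rfl
def n116061 : Q := act 7 n53489
theorem D116061 : act 7 n53489 = n116061 := rfl
theorem F180805 : act 5 n116061 = n53490 := d13_1 D116061 (iv7 D53490) D53489
def n116062 : Q := act 0 n53493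
theorem D116062 : act 0 n53493 = n116062 := rfl
def n116063 : Q := act 1 n53493
theorem D116063 : act 1 n53493 = n116063 := rfl
theorem F180806 : act 1 n116063 = n66117 := d15_1 D116063 (iv7 D66117) (iv2 F84392)
theorem F180807 : act 5 n68582 = n116063 := d21_6 (iv5 D11168) (iv1 F8991) D12303 D25932 (iv1 F110676) D68582 (iv1 D116063) (iv5 D53493) (iv6 D25910) F20398
theorem F180808 : act 2 n116063 = n66115 := d2_1 F180807 (iv5 F102329) (iv2 F105866)
theorem F180809 : act 7 n116063 = n66114 := d13_2 F110669 F180807 F110670
theorem F180810 : act 2 n66114 = n116062 := d15_3 (iv0 D116062) D116063 F180809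
theorem F180811 : act 7 n66115 = n116062 := d4_2 (iv7 F180809) F180808 (iv2 F180810)
theorem F180812 : act 1 n66117 = n116062 := d15_1 F180806 (iv7 F180811) (iv2 F180808)
def n116064 : Q := act 4 n53493
theorem D116064 : act 4 n53493 = n116064 := rfl
theorem F180814 : act 6 n116064 = n53497 := d10_2 (iv6 F84393) D116064 (iv4 D53497)
def n116065 : Q := act 7 n53493
theorem D116065 : act 7 n53493 = n116065 := rfl
theorem F180816 : act 5 n116065 = n53494 := d13_1 D116065 (iv7 D53494) D53493
theorem F180817 : act 1 n66115 = n116065 := d15_1 D66115 (iv7 D116065) F84392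
theorem F180818 : act 1 n116065 = n66114 := d15_1 F180817 (iv7 F180809) F180808
def n116067 : Q := act 6 n53495
theorem D116067 : act 6 n53495 = n116067 := rfl
def n116070 : Q := act 0 n53497
theorem D116070 : act 0 n53497 = n116070 := rfl
theorem F180825 : act 4 n116070 = n53954 := d18_1 D116070 (iv1 F85090) (iv4 F104415) (iv5 F169803) (iv4 D109825) (iv0 D50644) D50646 D109830 (iv5 F169820)
theorem F180826 : act 2 n66141 = n116070 := d1_3 F180825 F85093 (iv4 F101768)
theorem F180827 : act 7 n66142 = n116070 := d11_0 F180825 F85092 (iv4 F101769)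
def n116072 : Q := act 3 n53497
theorem D116072 : act 3 n53497 = n116072 := rfl
def n116073 : Q := act 7 n53497
theorem D116073 : act 7 n53497 = n116073 := rfl
theorem F180834 : act 4 n116073 = n53498 := d11_1 D116073 (iv7 D53498) D53497
theorem F180835 : act 5 n116073 = n66186 := d13_1 D116073 (iv7 F169817) (iv5 F169820)
def n116075 : Q := act 0 n53499
theorem D116075 : act 0 n53499 = n116075 := rfl
theorem F180840 : act 1 n66161 = n116075 := d15_0 (iv0 D116075) F84408 D66161
theorem F180841 : act 7 n116075 = n65556 := d15_2 (iv0 F180195) F180840 (iv2 F180194)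
def n116076 : Q := act 1 n53499
theorem D116076 : act 1 n53499 = n116076 := rfl
def n116077 : Q := act 2 n53499
theorem D116077 : act 2 n53499 = n116077 := rfl
theorem F180842 : act 3 n116077 = n66149 := d0_2 D53499 D116077 (iv2 D66149) (iv3 D30923) (iv2 F40961)
theorem F180843 : act 7 n116077 = n66161 := d4_2 (iv7 F84408) D116077 (iv2 D66161)
theorem E17852 : n116076 = n115805 := (c15_1 D116076 (iv0 F180195) (iv7 F180843) (iv2 D116077))
theorem F180845 : act 0 n115805 = n53499 := (sb E17852 (iv1 D116076))
theorem F180846 : act 1 n66160 = n116077 := d15_1 D66160 F180843 (iv2 D66161)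
def n116078 : Q := act 5 n53499
theorem D116078 : act 5 n53499 = n116078 := rfl
theorem F180847 : act 3 n116078 = n53500 := d6_1 D116078 (iv5 D53500) D53499
theorem F180848 : act 7 n116078 = n66162 := d13_2 (iv7 F84408) D116078 (iv5 D66162)
def n116079 : Q := act 6 n53499
theorem D116079 : act 6 n53499 = n116079 := rfl
theorem F180849 : act 3 n116079 = n53501 := d7_1 D116079 (iv6 D53501) D53499
theorem F180850 : act 7 n116079 = n61474 := d14_2 (iv7 F84408) D116079 F95979 (iv7 F49241) (iv6 F49365)
def n116080 : Q := act 6 n53500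
theorem D116080 : act 6 n53500 = n116080 := rfl
def n116081 : Q := act 1 n53502
theorem D116081 : act 1 n53502 = n116081 := rfl
theorem F180852 : act 4 n115268 = n116081 := d20_6 (iv4 D25788) (iv1 D12246) D12247 D25792 D53181 D115268 (iv1 D116081) (iv4 F165164) (iv3 D107173) (iv1 F78271)
theorem F180853 : act 0 n66507 = n116081 := d20_1 F179757 (iv4 F180852) (iv3 D115268) D115266 F179532 F84170 (iv1 F41089) D26000 D53742 (iv1 F179758)
def n116082 : Q := act 2 n53502
theorem D116082 : act 2 n53502 = n116082 := rfl
theorem F180854 : act 3 n116082 = n66510 := d0_2 D53502 D116082 (iv2 D66510) (iv3 D31047) F40968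
theorem F180855 : act 7 n116082 = n66507 := d4_2 (iv7 F84414) D116082 (iv2 D66507)
theorem F180856 : act 1 n116082 = n66505 := d15_0 (iv0 D66505) (iv7 F84414) D116082
theorem F180857 : act 1 n66506 = n116082 := d15_1 D66506 F180855 (iv2 D66507)
def n116083 : Q := act 6 n53502
theorem D116083 : act 6 n53502 = n116083 := rfl
theorem F180858 : act 3 n116083 = n53503 := d7_1 D116083 (iv6 D53503) D53502
def n116084 : Q := act 5 n53503
theorem D116084 : act 5 n53503 = n116084 := rfl
theorem F180859 : act 2 n116084 = n66514 := d2_1 D116084 (iv5 D66514) (iv2 F84415)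
def n116085 : Q := act 0 n53504
theorem D116085 : act 0 n53504 = n116085 := rfl
theorem F180860 : act 1 n66510 = n116085 := d15_0 (iv0 D116085) F84419 D66510
def n116086 : Q := act 1 n53504
theorem D116086 : act 1 n53504 = n116086 := rfl
def n116087 : Q := act 2 n53504
theorem D116087 : act 2 n53504 = n116087 := rfl
theorem F180861 : act 3 n116087 = n66507 := d0_2 D53504 D116087 (iv2 D66507) (iv3 D31046) (iv2 F40973)
theorem F180862 : act 4 n116087 = n60461 := d1_2 (iv4 F84417) D116087 (iv2 D60461)
theorem F180863 : act 6 n116087 = n63377 := d3_2 (iv6 F84418) D116087 (iv2 D63377)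
theorem F180864 : act 7 n116087 = n66510 := d4_2 (iv7 F84419) D116087 (iv2 D66510)
theorem F180865 : act 1 n116087 = n66508 := d15_0 (iv0 D66508) (iv7 F84419) D116087
theorem F180866 : act 1 n116086 = n66510 := d15_1 D116086 (iv7 F180864) (iv2 D116087)
theorem F180867 : act 1 n66509 = n116087 := d15_1 D66509 F180864 (iv2 D66510)
def n116088 : Q := act 3 n53505
theorem D116088 : act 3 n53505 = n116088 := rfl
theorem F180868 : act 7 n116088 = n66516 := d8_2 (iv7 F102869) D116088 (iv3 D66516)
theorem F180869 : act 4 n116088 = n105592 := d20_6 (iv4 D14205) (iv1 F19207) D12300 D25920 D53505 D116088 (iv1 D105592) (iv4 F98540) (iv3 D63314) (iv1 D29914)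
def n116089 : Q := act 4 n53505
theorem D116089 : act 4 n53505 = n116089 := rfl
theorem F180870 : act 2 n116089 = n53646 := d1_1 D116089 F84645 (iv2 F102868)
theorem F180871 : act 7 n116089 = n53736 := d11_2 (iv7 F102869) D116089 F84763
theorem F180872 : act 5 n116089 = n69488 := d17_5 (iv1 D53382) D53384 D115770 F180363 D116089 (iv0 D69488) (iv5 F105790) F180187 F84229
theorem F180873 : act 3 n116089 = n66913 := d20_3 (iv4 F40975) D53505 D116089 (iv1 F102941) F49541 (iv4 F49546) (iv1 F102999) (iv4 F103000) (iv3 D53531) (iv1 D25928)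
theorem F180874 : act 0 n53752 = n116089 := d20_10 (iv4 D116089) (iv1 F84420) F49457 (iv3 F41018) (iv1 F41022) D30986 D66347 (iv1 F179969) (iv4 D53753) D53752
theorem F180875 : act 1 n66891 = n116089 := d15_1 D66891 F180871 F102844
def n116090 : Q := act 6 n53505
theorem D116090 : act 6 n53505 = n116090 := rfl
theorem F180876 : act 2 n116090 = n66522 := d3_1 D116090 (iv6 D66522) (iv2 F102868)
def n116091 : Q := act 6 n53506
theorem D116091 : act 6 n53506 = n116091 := rfl
def n116092 : Q := act 5 n53507
theorem D116092 : act 5 n53507 = n116092 := rfl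
theorem F180879 : act 2 n116092 = n53508 := d2_1 D116092 (iv5 D53508) D53507
theorem F180880 : act 7 n116092 = n66523 := d13_2 (iv7 F84424) D116092 (iv5 D66523)
theorem F180881 : act 1 n116092 = n115762 := d17_6 D25874 F180312 (iv1 F84445) (iv5 D53535) (iv4 F84423) D116092 (iv5 D115762) (iv0 D53381) F40865
theorem E17853 : n115762 = n66525 := (c15_1 F180881 (iv0 D66525) (iv7 F84428) (iv2 F180879))
theorem F180882 : act 0 n66525 = n116092 := (sb E17853 (iv1 F180881))
theorem F180883 : act 5 n66525 = n53381 := (sb E17853 (iv5 D115762))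
theorem F180884 : act 1 n66526 = n116092 := d15_1 D66526 F180880 F102394
def n116093 : Q := act 6 n53507
theorem D116093 : act 6 n53507 = n116093 := rfl
theorem F180885 : act 2 n116093 = n53509 := d3_1 D116093 (iv6 D53509) D53507
theorem F180886 : act 4 n116093 = n53536 := d10_1 D116093 (iv6 D53536) (iv4 F84423)
def n116094 : Q := act 0 n53508
theorem D116094 : act 0 n53508 = n116094 := rfl
theorem F180887 : act 1 n66523 = n116094 := d15_0 (iv0 D116094) F84428 (iv2 F102394)
def n116095 : Q := act 1 n53508
theorem D116095 : act 1 n53508 = n116095 := rfl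
theorem F180888 : act 1 n116095 = n66523 := d15_1 D116095 (iv7 F180880) F180879
def n116096 : Q := act 4 n53508
theorem D116096 : act 4 n53508 = n116096 := rfl
theorem F180889 : act 7 n116096 = n66527 := d11_2 (iv7 F84428) D116096 (iv4 D66527)
def n116097 : Q := act 6 n53508
theorem D116097 : act 6 n53508 = n116097 := rfl
theorem F180890 : act 3 n116097 = n53510 := d7_1 D116097 (iv6 D53510) (iv3 F84427)
def n116098 : Q := act 0 n53509
theorem D116098 : act 0 n53509 = n116098 := rfl
def n116099 : Q := act 1 n53509
theorem D116099 : act 1 n53509 = n116099 := rfl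
def n116100 : Q := act 5 n53509
theorem D116100 : act 5 n53509 = n116100 := rfl
theorem F180891 : act 3 n116100 = n53513 := d6_1 D116100 (iv5 D53513) (iv3 F84429)
def n116101 : Q := act 7 n53509
theorem D116101 : act 7 n53509 = n116101 := rfl
theorem F180892 : act 3 n116101 = n53514 := d8_1 D116101 (iv7 D53514) (iv3 F84429)
theorem F180893 : act 4 n116101 = n53544 := d11_1 D116101 (iv7 D53544) (iv4 F84430)
theorem F180894 : act 6 n116101 = n66532 := d14_1 D116101 (iv7 D66532) (iv6 D31053) (iv7 F40976) D53509
def n116102 : Q := act 0 n53510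
theorem D116102 : act 0 n53510 = n116102 := rfl
def n116103 : Q := act 1 n53510
theorem D116103 : act 1 n53510 = n116103 := rfl
def n116104 : Q := act 5 n53510
theorem D116104 : act 5 n53510 = n116104 := rfl
theorem F180895 : act 6 n116104 = n53513 := d12_2 D53510 D116104 (iv5 D53513) (iv6 D25922) D25921
def n116105 : Q := act 7 n53510
theorem D116105 : act 7 n53510 = n116105 := rfl
theorem F180896 : act 6 n116105 = n66540 := d14_1 D116105 (iv7 D66540) (iv6 D31056) (iv7 F40977) D53510
def n116106 : Q := act 3 n53511
theorem D116106 : act 3 n53511 = n116106 := rfl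
def n116107 : Q := act 4 n53511
theorem D116107 : act 4 n53511 = n116107 := rfl
theorem F180897 : act 2 n116107 = n105663 := d1_1 D116107 (iv4 F164719) F172150
theorem F180898 : act 6 n116107 = n63373 := d10_2 (iv6 F172153) D116107 F168677
theorem F180899 : act 3 n116107 = n115563 := d20_9 (iv4 F179509) (iv1 F179511) (iv4 D53276) (iv3 F102018) (iv1 D12306) (iv3 F20413) (iv4 F40978) D53511 D116107 (iv1 F179870)
theorem F180900 : act 0 n60451 = n116107 := d20_10 (iv4 D116107) (iv1 F164728) F164725 F78101 (iv1 F49380) D30967 D66286 (iv1 F162190) F161974 (iv3 F94992)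
theorem F180901 : act 1 n60451 = n111013 := d15_1 (iv0 F180900) F172147 (iv2 F180897)
def n116108 : Q := act 5 n53511
theorem D116108 : act 5 n53511 = n116108 := rfl
def n116109 : Q := act 3 n53512
theorem D116109 : act 3 n53512 = n116109 := rfl
def n116110 : Q := act 5 n53512
theorem D116110 : act 5 n53512 = n116110 := rfl
def n116111 : Q := act 6 n53512
theorem D116111 : act 6 n53512 = n116111 := rfl
def n116112 : Q := act 0 n53513
theorem D116112 : act 0 n53513 = n116112 := rfl
theorem F180902 : act 5 n116112 = n74350 := d17_3 (iv1 D53512) D53513 D116112 F111560 F98660 (iv0 F96656) F96655 F180901 F172148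
def n116113 : Q := act 1 n53513
theorem D116113 : act 1 n53513 = n116113 := rfl
def n116114 : Q := act 4 n53513
theorem D116114 : act 4 n53513 = n116114 := rfl
def n116115 : Q := act 7 n53513
theorem D116115 : act 7 n53513 = n116115 := rfl
theorem F180903 : act 5 n116115 = n53514 := d13_1 D116115 (iv7 D53514) D53513
def n116116 : Q := act 3 n53517
theorem D116116 : act 3 n53517 = n116116 := rfl
theorem F180904 : act 4 n116116 = n111027 := d5_2 D53517 D116116 (iv3 D111027) (iv4 F95186) F95185
def n116117 : Q := act 5 n53517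
theorem D116117 : act 5 n53517 = n116117 := rfl
def n116118 : Q := act 4 n53518
theorem D116118 : act 4 n53518 = n116118 := rfl
theorem F180905 : act 6 n116118 = n66281 := d10_2 (iv6 F84435) D116118 (iv4 D66281)
def n116119 : Q := act 4 n53520
theorem D116119 : act 4 n53520 = n116119 := rfl
theorem F180906 : act 2 n116119 = n59526 := d1_1 D116119 F165194 (iv2 F102180)
theorem F180907 : act 7 n116119 = n59525 := d11_2 (iv7 F102181) D116119 F102189
theorem F180908 : act 0 n116119 = n59416 := d20_1 D116119 F93780 F45656 D51119 F103609 F102186 (iv1 F99543) F48833 (iv3 F48821) (iv1 F102185)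
theorem F180909 : act 0 n59528 = n116119 := d20_1 (iv4 F93954) (iv4 D116119) (iv3 D53520) (iv1 D25924) F20413 (iv4 F20419) D25933 F46742 D48851 F162104
def n116120 : Q := act 5 n53520
theorem D116120 : act 5 n53520 = n116120 := rfl
theorem F180910 : act 2 n116120 = n64549 := d2_1 D116120 (iv5 D64549) (iv2 F102180)
theorem F180911 : act 3 n116120 = n53522 := d6_1 D116120 (iv5 D53522) D53520
theorem F180912 : act 7 n116120 = n64544 := d13_2 (iv7 F102181) D116120 (iv5 D64544)
theorem F180913 : act 6 n116120 = n63156 := d21_3 F97745 (iv1 F102185) D116120 F102163 (iv6 D30211) F23955 (iv1 F20234) D25762 D53107 (iv1 F98733)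
def n116121 : Q := act 6 n53520
theorem D116121 : act 6 n53520 = n116121 := rfl
theorem F180914 : act 2 n116121 = n64550 := d3_1 D116121 (iv6 D64550) (iv2 F102180)
theorem F180915 : act 3 n116121 = n53523 := d7_1 D116121 (iv6 D53523) D53520
def n116122 : Q := act 3 n53521
theorem D116122 : act 3 n53521 = n116122 := rfl
def n116123 : Q := act 5 n53521
theorem D116123 : act 5 n53521 = n116123 := rfl
def n116124 : Q := act 6 n53521
theorem D116124 : act 6 n53521 = n116124 := rfl
theorem F180916 : act 4 n116124 = n53523 := d10_1 D116124 (iv6 D53523) D53521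
def n116125 : Q := act 4 n53522
theorem D116125 : act 4 n53522 = n116125 := rfl
theorem F180917 : act 6 n116125 = n63157 := d10_2 F84437 D116125 (iv4 D63157)
def n116126 : Q := act 1 n53524
theorem D116126 : act 1 n53524 = n116126 := rfl
theorem F180918 : act 7 n116126 = n74400 := d15_2 (iv0 F171551) D116126 (iv2 F171549)
theorem F180919 : act 4 n74403 = n116126 := d20_0 (iv1 D116126) (iv4 D53524) F40979 F20423 (iv3 F23500) (iv4 F47586) D62651 (iv4 F102085) F171557 (iv1 F171554)
def n116127 : Q := act 3 n53524
theorem D116127 : act 3 n53524 = n116127 := rfl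
theorem F180920 : act 4 n116127 = n53576 := d5_2 D53524 D116127 (iv3 D53576) (iv4 D25946) (iv3 F40979)
theorem F180921 : act 6 n116127 = n60767 := d7_2 (iv6 F84438) D116127 F95356
def n116128 : Q := act 5 n53524
theorem D116128 : act 5 n53524 = n116128 := rfl
def n116129 : Q := act 6 n53526
theorem D116129 : act 6 n53526 = n116129 := rfl
theorem F180922 : act 3 n116129 = n53529 := d7_1 D116129 (iv6 D53529) D53526
def n116130 : Q := act 1 n53527
theorem D116130 : act 1 n53527 = n116130 := rfl
theorem F180923 : act 1 n116130 = n53532 := d15_1 D116130 F102530 (iv2 F102522)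
def n116131 : Q := act 3 n53527
theorem D116131 : act 3 n53527 = n116131 := rfl
theorem F180924 : act 7 n116131 = n66597 := d8_2 (iv7 F102523) D116131 (iv3 D66597)
def n116132 : Q := act 5 n53527
theorem D116132 : act 5 n53527 = n116132 := rfl
theorem F180925 : act 2 n116132 = n66611 := d2_1 D116132 (iv5 D66611) (iv2 F102522)
theorem F180926 : act 7 n116132 = n66598 := d13_2 (iv7 F102523) D116132 (iv5 D66598)
def n116133 : Q := act 6 n53527
theorem D116133 : act 6 n53527 = n116133 := rfl
theorem F180927 : act 2 n116133 = n66612 := d3_1 D116133 (iv6 D66612) (iv2 F102522)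
theorem F180928 : act 4 n116133 = n53529 := d10_1 D116133 (iv6 D53529) D53527
def n116134 : Q := act 0 n53529
theorem D116134 : act 0 n53529 = n116134 := rfl
def n116135 : Q := act 1 n53529
theorem D116135 : act 1 n53529 = n116135 := rfl
def n116136 : Q := act 5 n53529
theorem D116136 : act 5 n53529 = n116136 := rfl
theorem F180930 : act 2 n116136 = n66617 := d2_1 D116136 (iv5 D66617) (iv2 F102550)
def n116137 : Q := act 7 n53529
theorem D116137 : act 7 n53529 = n116137 := rfl
def n116138 : Q := act 6 n53531
theorem D116138 : act 6 n53531 = n116138 := rfl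
def n116139 : Q := act 5 n53532
theorem D116139 : act 5 n53532 = n116139 := rfl
theorem F180937 : act 2 n116139 = n66598 := d2_1 D116139 (iv5 D66598) (iv2 F102529)
theorem F180938 : act 7 n116139 = n66611 := d13_2 (iv7 F102530) D116139 (iv5 D66611)
def n116140 : Q := act 6 n53532
theorem D116140 : act 6 n53532 = n116140 := rfl
def n116145 : Q := act 4 n53535
theorem D116145 : act 4 n53535 = n116145 := rfl
theorem F180948 : act 2 n116145 = n53539 := d1_1 D116145 (iv4 D53539) (iv2 F84441)
theorem F180949 : act 7 n116145 = n66619 := d11_2 (iv7 F84443) D116145 (iv4 D66619)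
theorem F180950 : act 0 n116145 = n66636 := d18_2 (iv1 F84445) D116145 (iv4 F166903) (iv5 D68209) F84229 (iv0 F84230) F49322 F40875 F180312
theorem F180951 : act 1 n116145 = n66635 := d15_0 (iv0 D66635) (iv7 F84451) (iv2 F180948)
def n116146 : Q := act 6 n53535
theorem D116146 : act 6 n53535 = n116146 := rfl
theorem F180952 : act 2 n116146 = n53540 := d3_1 D116146 (iv6 D53540) (iv2 F84441)
theorem F180953 : act 3 n116146 = n66360 := d7_1 D116146 (iv6 D66360) (iv3 F84442)
def n116147 : Q := act 0 n53536
theorem D116147 : act 0 n53536 = n116147 := rfl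
def n116148 : Q := act 1 n53536
theorem D116148 : act 1 n53536 = n116148 := rfl
theorem F180954 : act 1 n116148 = n53544 := d15_1 D116148 (iv7 D53544) (iv2 F84446)
def n116149 : Q := act 5 n53536
theorem D116149 : act 5 n53536 = n116149 := rfl
theorem F180955 : act 2 n116149 = n53543 := d2_1 D116149 (iv5 D53543) (iv2 F84446)
theorem F180956 : act 3 n116149 = n66363 := d6_1 D116149 (iv5 D66363) (iv3 F84447)
def n116150 : Q := act 7 n53536
theorem D116150 : act 7 n53536 = n116150 := rfl
theorem F180957 : act 2 n116150 = n53544 := d4_1 D116150 (iv7 D53544) (iv2 F84446)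
theorem F180958 : act 3 n116150 = n66364 := d8_1 D116150 (iv7 D66364) (iv3 F84447)
theorem F180959 : act 6 n116150 = n66624 := d14_1 D116150 (iv7 D66624) (iv6 D31082) (iv7 F40985) D53536
theorem F180960 : act 1 n53544 = n116147 := d15_0 (iv0 D116147) D116150 F180957
theorem F180961 : act 1 n53542 = n116150 := d15_1 D53542 (iv7 D116150) F84446
theorem F180962 : act 1 n116150 = n53541 := d15_0 (iv0 D53541) D53544 (iv2 F180957)
def n116154 : Q := act 5 n53537
theorem D116154 : act 5 n53537 = n116154 := rfl
def n116161 : Q := act 0 n53539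
theorem D116161 : act 0 n53539 = n116161 := rfl
theorem F180965 : act 1 n66619 = n116161 := d15_0 (iv0 D116161) F84451 (iv2 F102556)
def n116162 : Q := act 1 n53539
theorem D116162 : act 1 n53539 = n116162 := rfl
theorem F180966 : act 1 n116162 = n66619 := d15_1 D116162 (iv7 F180949) F180948
theorem F180967 : act 4 n66944 = n116162 := d20_6 F24235 (iv1 D7136) (iv4 F11276) (iv3 F24391) D31178 D66944 (iv1 D116162) (iv4 D53539) F40989 (iv1 F24237)
theorem E17854 : n116154 = n14628 := (c18_10 (iv1 F40878) (iv4 F84231) (iv1 F84234) (iv4 F84885) F180723 F180967 F180966 (iv4 D66619) F84448 D116154)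
theorem E17855 : n53537 = n30893 := (((D30893).symm.trans (sb E17854 (iv5 D116154)))).symm
theorem E17856 : n66041 = n31081 := ((D66041).symm.trans (sb E17855 (iv1 F84448)))
theorem E17857 : n66042 = n25930 := ((D66042).symm.trans (sb E17855 (iv0 D53537)))
theorem E17863 : n53538 = n30898 := (((iv1 F84449)).symm.trans (sb E17856 (iv1 F101724)))
theorem F180968 : act 1 n31081 = n30893 := (sb E17856 (iv0 D66041))
theorem F180969 : act 0 n25930 = n30893 := (sb E17857 (iv1 D66042))
theorem F180970 : act 0 n30898 = n25930 := (sb E17863 (iv1 D53538))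
theorem F180971 : act 1 n30898 = n31081 := (sb E17863 F84449)
theorem E17868 : n116095 = n65967 := (c17_7 (iv1 F40880) D30898 F180970 (iv5 D25930) (iv4 F40975) D53508 D116095 (iv5 D65967) F84234 F84231)
theorem F180972 : act 0 n65967 = n53508 := (sb E17868 (iv1 D116095))
theorem F180973 : act 1 n65967 = n66523 := (sb E17868 F180888)
theorem E17869 : n116094 = n65963 := ((c17_2 D30865 D65963 (iv1 F180887) (iv5 D66523) F49457 D31081 F180968 (iv5 D30893) (iv0 D14628) (iv4 F24299))).symm
theorem F180974 : act 0 n65963 = n66523 := (sb E17869 (iv1 F180887))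
theorem F180975 : act 1 n65963 = n53508 := (sb E17869 (iv0 D116094))
def n116163 : Q := act 5 n53539
theorem D116163 : act 5 n53539 = n116163 := rfl
theorem F180976 : act 3 n116163 = n54085 := d6_1 D116163 (iv5 D54085) (iv3 F84450)
theorem F180977 : act 7 n116163 = n66637 := d13_2 (iv7 F84451) D116163 (iv5 D66637)
def n116164 : Q := act 6 n53539
theorem D116164 : act 6 n53539 = n116164 := rfl
theorem F180978 : act 3 n116164 = n54086 := d7_1 D116164 (iv6 D54086) (iv3 F84450)
theorem F180979 : act 4 n116164 = n53540 := d10_1 D116164 (iv6 D53540) D53539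
def n116165 : Q := act 0 n53540
theorem D116165 : act 0 n53540 = n116165 := rfl
def n116166 : Q := act 1 n53540
theorem D116166 : act 1 n53540 = n116166 := rfl
def n116167 : Q := act 5 n53540
theorem D116167 : act 5 n53540 = n116167 := rfl
theorem F180980 : act 3 n116167 = n53547 := d6_1 D116167 (iv5 D53547) (iv3 F84452)
theorem F180981 : act 6 n116167 = n53543 := d12_2 D53540 D116167 (iv5 D53543) (iv6 D25931) D25930
def n116168 : Q := act 7 n53540
theorem D116168 : act 7 n53540 = n116168 := rfl
def n116169 : Q := act 2 n53541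
theorem D116169 : act 2 n53541 = n116169 := rfl
theorem F180984 : act 7 n53542 = n116169 := d15_2 (iv0 D53541) D53542 (iv2 D116169)
def n116170 : Q := act 3 n53541
theorem D116170 : act 3 n53541 = n116170 := rfl
def n116171 : Q := act 4 n53541
theorem D116171 : act 4 n53541 = n116171 := rfl
def n116172 : Q := act 5 n53541
theorem D116172 : act 5 n53541 = n116172 := rfl
def n116173 : Q := act 6 n53541
theorem D116173 : act 6 n53541 = n116173 := rfl
def n116174 : Q := act 7 n53541
theorem D116174 : act 7 n53541 = n116174 := rfl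
theorem F180985 : act 2 n116174 = n53542 := d4_1 D116174 F180984 (iv2 D116169)
def n116175 : Q := act 3 n53542
theorem D116175 : act 3 n53542 = n116175 := rfl
def n116176 : Q := act 4 n53542
theorem D116176 : act 4 n53542 = n116176 := rfl
def n116177 : Q := act 5 n53542
theorem D116177 : act 5 n53542 = n116177 := rfl
def n116178 : Q := act 6 n53542
theorem D116178 : act 6 n53542 = n116178 := rfl
def n116179 : Q := act 0 n53543
theorem D116179 : act 0 n53543 = n116179 := rfl
def n116180 : Q := act 1 n53543
theorem D116180 : act 1 n53543 = n116180 := rfl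
def n116181 : Q := act 4 n53543
theorem D116181 : act 4 n53543 = n116181 := rfl
def n116182 : Q := act 7 n53543
theorem D116182 : act 7 n53543 = n116182 := rfl
theorem F180986 : act 3 n116182 = n53557 := d8_1 D116182 (iv7 D53557) (iv3 F84453)
theorem F180987 : act 5 n116182 = n53544 := d13_1 D116182 (iv7 D53544) D53543
def n116183 : Q := act 0 n53547
theorem D116183 : act 0 n53547 = n116183 := rfl
def n116184 : Q := act 1 n53547
theorem D116184 : act 1 n53547 = n116184 := rfl
theorem F180988 : act 1 n116184 = n66427 := d15_1 D116184 (iv7 D66427) (iv2 F84457)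
theorem F180989 : act 5 n65769 = n116184 := d21_6 (iv5 D14574) (iv1 D6964) D6966 D14581 D30786 D65769 (iv1 D116184) (iv5 D53547) (iv6 D25932) (iv1 F24237)
theorem F180990 : act 4 n53986 = n65769 := d17_4 (iv1 F41411) (iv5 F85236) (iv1 F85238) (iv5 F85168) F180989 F180988 F102332 F110679 (iv4 D31903)
theorem F180991 : act 2 n65769 = n68378 := d1_1 F180990 F104551 (iv2 F131113)
theorem E17870 : n65767 = n26108 := (c10_4 D53986 F180990 (iv6 D65769) D65767)
theorem E17871 : n53984 = n30786 := ((D53984).symm.trans (sb E17870 (iv4 D65767)))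
theorem E17872 : n65765 = n31814 := ((D65765).symm.trans (sb E17871 F131109))
theorem F180992 : act 4 n30786 = n26108 := (sb E17871 (iv4 D53984))
theorem E17873 : n65770 = n31819 := ((D65770).symm.trans (sb E17871 F131110))
theorem E17874 : n53989 = n30787 := (((iv7 F131102)).symm.trans (sb E17872 (iv7 F101456)))
theorem F180994 : act 7 n31819 = n30786 := (sb E17873 (iv7 D65770))
theorem E17875 : n65772 = n26109 := ((D65772).symm.trans (sb E17874 (iv4 D53989)))
theorem E17876 : n69584 = n65774 := (((D65774).symm.trans (sb E17874 (iv6 F131121)))).symm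
theorem F180996 : act 7 n30787 = n31814 := (sb E17874 F131102)
theorem F180997 : act 4 n26109 = n30787 := (sb E17875 (iv4 D65772))
theorem F180998 : act 1 n65774 = n32304 := (sb E17876 (iv0 D69584))
theorem F180999 : act 2 n65774 = n68396 := (sb E17876 (iv2 F131119))
theorem F181000 : act 4 n65774 = n53991 := (sb E17876 F131120)
theorem E17877 : n74816 = n65192 := ((c18_7 (iv1 F41295) F180997 (iv1 D30787) F24241 D15215 (iv4 F49043) D65192 (iv4 D74816) F54371 F50118)).symm
theorem F181001 : act 2 n65192 = n68407 := (sb E17877 (iv2 F131548))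
theorem F181002 : act 4 n65192 = n34277 := (sb E17877 (iv4 D74816))
theorem F181007 : act 4 n54000 = n66661 := d18_5 (iv1 F54420) (iv4 F111940) (iv1 F111943) F181002 (iv5 F85183) (iv0 F102578) F53277 D33924 (iv5 F53279)
theorem F181008 : act 2 n66661 = n68498 := d1_1 F181007 F104697 (iv2 F131520)
theorem E17879 : n66659 = n26115 := (c10_4 D54000 F181007 (iv6 D66661) D66659)
theorem E17880 : n53998 = n31091 := ((D53998).symm.trans (sb E17879 (iv4 D66659)))
theorem E17881 : n66657 = n31870 := ((D66657).symm.trans (sb E17880 F131516))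
theorem F181009 : act 4 n31091 = n26115 := (sb E17880 (iv4 D53998))
theorem E17883 : n54003 = n31092 := (((iv7 F131509)).symm.trans (sb E17881 (iv7 F102576)))
theorem E17884 : n66664 = n26116 := ((D66664).symm.trans (sb E17883 (iv4 D54003)))
theorem F181013 : act 7 n31092 = n31870 := (sb E17883 F131509)
theorem F181014 : act 4 n26116 = n31092 := (sb E17884 (iv4 D66664))
theorem F181015 : act 4 n66666 = n54005 := d10_3 (iv6 D54005) F181014 D66666
theorem F181016 : act 4 n68795 = n53994 := d18_7 (iv1 F41313) F181014 (iv1 D31092) F24373 D15090 D31999 D68795 F85173 F50185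
theorem F181018 : act 1 n108290 = n66666 := d18_6 (iv1 D59996) D59997 (iv1 F167444) (iv4 D69666) (iv5 F104972) F167439 F181015 F131504 F104000
theorem F181019 : act 0 n69625 = n66665 := d21_7 (iv5 D108290) (iv1 F79102) F78711 F51215 (iv1 F51216) D32321 D69625 (iv5 D66665) D66666 (iv1 F181018)
theorem E17885 : n69624 = n66108 := ((c17_10 (iv1 D69624) D69625 F181019 (iv5 D66665) (iv4 F181014) D54004 (iv0 F87906) F87905 (iv0 F122600) F105663)).symm
theorem F181020 : act 0 n66108 = n32321 := (sb E17885 (iv1 D69624))
theorem E17886 : n69613 = n68757 := (c20_5 F105663 F181020 F51344 (iv3 F51343) D69613 F104952 D68767 F113960 F113959 (iv3 F113913) (iv1 F131063))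
theorem F181021 : act 0 n68757 = n75852 := (sb E17886 (iv1 F130921))
theorem F181022 : act 1 n68757 = n32318 := (sb E17886 (iv0 D69613))
theorem F181030 : act 7 n73869 = n68498 := d15_2 (iv0 F102578) D73869 (iv2 F181008)
theorem F181031 : act 4 n60391 = n73869 := d11_3 F181030 F104697 (iv7 F131527)
theorem F181032 : act 5 n73869 = n65775 := d17_5 (iv1 D26109) (iv5 F27078) D34276 F94905 F181031 (iv0 D65775) (iv5 D30788) D30787 (iv4 F180997)
theorem F181044 : act 2 n66425 = n116184 := d2_3 (iv5 F180989) F180991 F130307
def n116185 : Q := act 4 n53547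
theorem D116185 : act 4 n53547 = n116185 := rfl
theorem F181046 : act 6 n116185 = n53556 := d10_2 (iv6 F84458) D116185 (iv4 D53556)
def n116186 : Q := act 7 n53547
theorem D116186 : act 7 n53547 = n116186 := rfl
theorem F181047 : act 2 n116186 = n66427 := d4_1 D116186 (iv7 D66427) (iv2 F84457)
theorem F181049 : act 1 n66427 = n116183 := d15_0 (iv0 D116183) D116186 F181047
theorem F181051 : act 7 n116183 = n66425 := d15_2 F180988 F181049 F181044
theorem F181052 : act 2 n116183 = n66424 := d15_3 (iv0 D66424) D66425 (iv7 F181051)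
theorem F181053 : act 7 n66424 = n116184 := d4_2 (iv7 F181051) F181052 (iv2 F181044)
def n116190 : Q := act 4 n53549
theorem D116190 : act 4 n53549 = n116190 := rfl
theorem F181062 : act 7 n116190 = n66440 := d11_2 (iv7 F84465) D116190 (iv4 D66440)
def n116192 : Q := act 0 n53550
theorem D116192 : act 0 n53550 = n116192 := rfl
theorem F181065 : act 5 n116192 = n61473 := d17_3 D25933 D53550 D116192 (iv4 D61473) (iv5 F48240) (iv0 F48243) (iv5 D25940) (iv0 D12305) (iv4 F20419)
theorem F181067 : act 2 n66433 = n116192 := d2_3 F181065 F95974 (iv5 F102335)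
theorem F181068 : act 7 n66434 = n116192 := d13_0 F181065 F95976 (iv5 F102338)
def n116196 : Q := act 0 n53551
theorem D116196 : act 0 n53551 = n116196 := rfl
theorem F181077 : act 1 n66430 = n116196 := d15_0 (iv0 D116196) F84468 D66430
def n116197 : Q := act 1 n53551
theorem D116197 : act 1 n53551 = n116197 := rfl
def n116198 : Q := act 2 n53551
theorem D116198 : act 2 n53551 = n116198 := rfl
theorem F181079 : act 7 n116198 = n66430 := d4_2 (iv7 F84468) D116198 (iv2 D66430)
theorem F181080 : act 1 n116198 = n66428 := d15_0 (iv0 D66428) (iv7 F84468) D116198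
theorem F181081 : act 1 n116197 = n66430 := d15_1 D116197 (iv7 F181079) (iv2 D116198)
theorem F181082 : act 1 n66429 = n116198 := d15_1 D66429 F181079 (iv2 D66430)
def n116199 : Q := act 4 n53551
theorem D116199 : act 4 n53551 = n116199 := rfl
theorem F181083 : act 3 n116199 = n105586 := d5_1 D116199 (iv4 D105586) F101893 F47154 D53551
theorem F181084 : act 7 n116199 = n66431 := d11_2 (iv7 F84468) D116199 (iv4 D66431)
def n116200 : Q := act 5 n53551
theorem D116200 : act 5 n53551 = n116200 := rfl
theorem F181086 : act 7 n116200 = n66432 := d13_2 (iv7 F84468) D116200 (iv5 D66432)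
def n116201 : Q := act 6 n53551
theorem D116201 : act 6 n53551 = n116201 := rfl
theorem F181087 : act 3 n116201 = n53553 := d7_1 D116201 (iv6 D53553) D53551
def n116204 : Q := act 3 n53554
theorem D116204 : act 3 n53554 = n116204 := rfl
theorem F181091 : act 5 n116204 = n60892 := d6_2 (iv5 F84473) D116204 (iv3 D60892)
theorem F181092 : act 7 n116204 = n66448 := d8_2 F84475 D116204 (iv3 D66448)
def n116205 : Q := act 6 n53554
theorem D116205 : act 6 n53554 = n116205 := rfl
theorem F181094 : act 5 n116205 = n60897 := d12_1 D116205 (iv6 D60897) (iv5 D28883) (iv6 F46522) (iv5 F84473)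
def n116206 : Q := act 3 n53555
theorem D116206 : act 3 n53555 = n116206 := rfl
theorem F181095 : act 5 n116206 = n68283 := d6_2 F84479 D116206 F104443
theorem F181096 : act 7 n116206 = n66445 := d8_2 (iv7 F84478) D116206 (iv3 D66445)
theorem F181097 : act 0 n116206 = n105702 := d21_7 F49400 (iv1 F76985) F162344 D67698 F167388 D68283 (iv5 F181095) (iv5 D105702) (iv6 D48865) (iv1 F49402)
def n116207 : Q := act 6 n53555
theorem D116207 : act 6 n53555 = n116207 := rfl
def n116208 : Q := act 0 n53556
theorem D116208 : act 0 n53556 = n116208 := rfl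
theorem F181100 : act 4 n116208 = n53669 := d18_3 (iv1 D53555) D53556 D116208 F84672 (iv4 D29639) D29638 (iv4 F95438) F95437 F84479
theorem F181101 : act 2 n66451 = n116208 := d1_3 F181100 (iv2 F84673) (iv4 F102349)
theorem F181102 : act 7 n66452 = n116208 := d11_0 F181100 (iv7 F84674) (iv4 F102350)
theorem F181103 : act 1 n66455 = n116208 := d18_6 (iv1 F47164) (iv4 D25939) (iv1 F20426) (iv4 F24361) (iv5 F49438) (iv4 F102353) F181100 (iv0 D53669) (iv5 D25979)
def n116209 : Q := act 1 n53556
theorem D116209 : act 1 n53556 = n116209 := rfl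
theorem F181105 : act 7 n116209 = n66451 := d15_2 (iv0 D116208) D116209 F181101
theorem F181106 : act 4 n116209 = n53670 := d18_7 (iv1 F46732) (iv4 D25943) (iv1 D12306) (iv4 F20419) D25935 D53556 D116209 F84676 F49511
theorem F181108 : act 5 n62679 = n116209 := d16_1 D62679 F181106 (iv5 F84678) F84412 F40964 (iv4 F46729) (iv5 F95952) (iv7 D61464) (iv2 F47599)
def n116210 : Q := act 3 n53556
theorem D116210 : act 3 n53556 = n116210 := rfl
def n116211 : Q := act 5 n53556
theorem D116211 : act 5 n53556 = n116211 := rfl
theorem F181110 : act 4 n116211 = n60879 := d16_2 D53556 D116211 (iv5 D60879) F46738 (iv5 F23513) (iv4 F24361) (iv5 F49438) (iv7 D31019) (iv2 F40995)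
theorem F181111 : act 7 n66487 = n116211 := d11_0 F181110 F95422 D66487
def n116212 : Q := act 7 n53556
theorem D116212 : act 7 n53556 = n116212 := rfl
theorem F181113 : act 4 n116212 = n53557 := d11_1 D116212 (iv7 D53557) D53556
theorem F181114 : act 5 n116212 = n66487 := d13_1 D116212 F181111 (iv5 D116211)
theorem F181115 : act 1 n66452 = n116212 := d15_1 D66452 (iv7 D116212) F84481
def n116213 : Q := act 6 n53557
theorem D116213 : act 6 n53557 = n116213 := rfl
theorem F181118 : act 5 n116213 = n66697 := d12_1 D116213 (iv6 D66697) F49483 (iv6 F40998) (iv5 F84483)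
def n116214 : Q := act 3 n53561
theorem D116214 : act 3 n53561 = n116214 := rfl
theorem F181120 : act 7 n116214 = n64617 := d8_2 F101969 D116214 (iv3 D64617)
def n116215 : Q := act 5 n53561
theorem D116215 : act 5 n53561 = n116215 := rfl
theorem F181121 : act 2 n116215 = n64608 := d2_1 D116215 (iv5 D64608) (iv2 F101961)
theorem F181122 : act 7 n116215 = n64618 := d13_2 F101969 D116215 (iv5 D64618)
def n116216 : Q := act 4 n53562
theorem D116216 : act 4 n53562 = n116216 := rfl
theorem F181123 : act 2 n116216 = n64610 := d1_1 D116216 (iv4 D64610) (iv2 F101964)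
theorem F181124 : act 6 n116216 = n66460 := d10_2 (iv6 F84494) D116216 (iv4 D66460)
theorem F181125 : act 7 n116216 = n64620 := d11_2 F101970 D116216 (iv4 D64620)
def n116218 : Q := act 1 n53563
theorem D116218 : act 1 n53563 = n116218 := rfl
def n116219 : Q := act 2 n53563
theorem D116219 : act 2 n53563 = n116219 := rfl
theorem F181128 : act 7 n116219 = n66473 := d4_2 (iv7 F84496) D116219 (iv2 D66473)
theorem F181130 : act 1 n116218 = n66473 := d15_1 D116218 (iv7 F181128) (iv2 D116219)
theorem F181131 : act 1 n66472 = n116219 := d15_1 D66472 F181128 (iv2 D66473)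
def n116221 : Q := act 0 n53564
theorem D116221 : act 0 n53564 = n116221 := rfl
theorem F181134 : act 5 n116221 = n60889 := d17_3 (iv1 F47164) D53564 D116221 (iv4 D60889) (iv5 F47263) (iv0 F47266) (iv5 D28304) (iv0 D13508) (iv4 F20453)
def n116222 : Q := act 1 n53564
theorem D116222 : act 1 n53564 = n116222 := rfl
theorem F181138 : act 1 n116222 = n53573 := d15_1 D116222 F84515 (iv2 F84497)
theorem F181140 : act 5 n116222 = n60887 := d17_7 D29095 (iv5 F48216) F48220 (iv5 D25940) D25939 D53564 D116222 F95429 (iv4 D29097)
def n116225 : Q := act 3 n53565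
theorem D116225 : act 3 n53565 = n116225 := rfl
theorem F181146 : act 6 n116225 = n66469 := d7_2 (iv6 F84500) D116225 (iv3 D66469)
theorem F181147 : act 7 n116225 = n66479 := d8_2 (iv7 F84501) D116225 (iv3 D66479)
def n116226 : Q := act 5 n53565
theorem D116226 : act 5 n53565 = n116226 := rfl
theorem F181150 : act 0 n116226 = n62166 := d17_2 (iv1 F97055) D116226 (iv5 D62166) (iv4 D29427) (iv5 F37139) F37143 D28304 (iv0 F47227) (iv4 F97051)
def n116227 : Q := act 0 n53572
theorem D116227 : act 0 n53572 = n116227 := rfl
theorem F181152 : act 1 n66463 = n116227 := d15_0 (iv0 D116227) F84513 D66463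
def n116228 : Q := act 1 n53572
theorem D116228 : act 1 n53572 = n116228 := rfl
def n116229 : Q := act 2 n53572
theorem D116229 : act 2 n53572 = n116229 := rfl
theorem F181153 : act 3 n116229 = n66473 := d0_2 D53572 D116229 (iv2 D66473) (iv3 D31034) (iv2 F49080)
theorem F181154 : act 7 n116229 = n66463 := d4_2 (iv7 F84513) D116229 (iv2 D66463)
theorem F181157 : act 1 n66462 = n116229 := d15_1 D66462 F181154 (iv2 D66463)
def n116230 : Q := act 5 n53572
theorem D116230 : act 5 n53572 = n116230 := rfl
def n116231 : Q := act 6 n53572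
theorem D116231 : act 6 n53572 = n116231 := rfl
theorem F181160 : act 3 n116231 = n53574 := d7_1 D116231 (iv6 D53574) D53572
def n116234 : Q := act 3 n53575
theorem D116234 : act 3 n53575 = n116234 := rfl
theorem F181164 : act 6 n116234 = n61220 := d7_2 (iv6 F98522) D116234 (iv3 D61220)
theorem F181165 : act 7 n116234 = n66469 := d8_2 (iv7 F84520) D116234 (iv3 D66469)
def n116235 : Q := act 5 n53575
theorem D116235 : act 5 n53575 = n116235 := rfl
theorem F181169 : act 1 n116235 = n62166 := d17_6 D14075 (iv5 F23513) (iv1 F20420) D25944 D53575 D116235 (iv5 D62166) F47162 F23505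
def n116236 : Q := act 0 n53576
theorem D116236 : act 0 n53576 = n116236 := rfl
def n116237 : Q := act 1 n53576
theorem D116237 : act 1 n53576 = n116237 := rfl
def n116238 : Q := act 2 n53576
theorem D116238 : act 2 n53576 = n116238 := rfl
theorem F181170 : act 3 n116238 = n66483 := d0_2 D53576 D116238 (iv2 D66483) (iv3 D31038) (iv2 F41006)
theorem F181171 : act 6 n116238 = n60766 := d3_2 (iv6 F84521) D116238 (iv2 D60766)
def n116239 : Q := act 5 n53576
theorem D116239 : act 5 n53576 = n116239 := rfl
theorem F181172 : act 3 n116239 = n53577 := d6_1 D116239 (iv5 D53577) D53576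
def n116240 : Q := act 0 n53577
theorem D116240 : act 0 n53577 = n116240 := rfl
theorem F181173 : act 5 n116240 = n105670 := d17_3 (iv1 F47152) D53577 D116240 (iv4 D105670) (iv5 D48852) (iv0 D23819) (iv5 F22991) F23328 (iv4 F47150)
theorem F181174 : act 1 n60879 = n116240 := d15_0 (iv0 D116240) (iv7 F95966) F95965
theorem F181175 : act 2 n66485 = n116240 := d2_3 F181173 F162272 (iv5 F102370)
theorem F181176 : act 7 n66486 = n116240 := d13_0 F181173 F162274 (iv5 F102373)
def n116241 : Q := act 1 n53577
theorem D116241 : act 1 n53577 = n116241 := rfl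
theorem F181177 : act 1 n116241 = n60879 := d15_1 D116241 F95422 (iv2 F84522)
theorem F181178 : act 7 n116241 = n66485 := d15_2 (iv0 D116240) D116241 F181175
theorem F181179 : act 5 n116241 = n62489 := d17_7 F48242 (iv5 D25944) (iv1 D12306) D12307 D25946 D53577 D116241 (iv0 F97388) F95556
theorem F181180 : act 2 n66486 = n116241 := d2_3 F181179 F97384 (iv5 F102373)
def n116242 : Q := act 4 n53577
theorem D116242 : act 4 n53577 = n116242 := rfl
theorem F181181 : act 2 n116242 = n66487 := d1_1 D116242 (iv4 D66487) (iv2 F84522)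
theorem F181182 : act 5 n116242 = n66455 := d9_2 D53577 D116242 F102353 F49438 F24361 F23513 (iv4 F46738) D60879 (iv4 F181110) (iv5 D116211) (iv4 D53556) (iv5 D25935) F20419 D12307 D25946
theorem F181183 : act 7 n116242 = n66454 := d11_2 F95966 D116242 F102352
def n116243 : Q := act 6 n53577
theorem D116243 : act 6 n53577 = n116243 := rfl
theorem F181184 : act 2 n116243 = n66488 := d3_1 D116243 (iv6 D66488) (iv2 F84522)
theorem F181185 : act 5 n116243 = n60769 := d12_1 D116243 (iv6 D60769) (iv5 D28832) (iv6 F41007) D53577
def n116244 : Q := act 4 n53578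
theorem D116244 : act 4 n53578 = n116244 := rfl
theorem F181186 : act 2 n116244 = n53593 := d1_1 D116244 (iv4 D53593) (iv2 F102439)
theorem F181187 : act 7 n116244 = n53597 := d11_2 (iv7 F102440) D116244 (iv4 D53597)
theorem F181188 : act 1 n116244 = n59542 := d18_6 F166498 (iv4 F98548) (iv1 F166198) (iv4 D66501) (iv5 F84523) D116244 F93968 D59544 F166140
theorem F181189 : act 0 n116244 = n110871 := d20_1 D116244 F171726 (iv3 F171722) (iv1 F179918) (iv3 F179921) F171744 (iv1 D66496) F49451 (iv3 F41009) D53578
def n116245 : Q := act 4 n53579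
theorem D116245 : act 4 n53579 = n116245 := rfl
theorem F181190 : act 2 n116245 = n53597 := d1_1 D116245 (iv4 D53597) (iv2 F102447)
theorem F181191 : act 6 n116245 = n65098 := d10_2 (iv6 F95819) D116245 (iv4 D65098)
theorem F181192 : act 7 n116245 = n53593 := d11_2 (iv7 F102448) D116245 (iv4 D53593)
theorem F181193 : act 0 n116245 = n59542 := d18_2 (iv1 F84525) D116245 F93968 (iv5 F48122) (iv4 F98661) (iv0 F167667) (iv4 D108440) F79262 F53528
theorem F181194 : act 0 n110871 = n116245 := d20_1 (iv4 F171726) (iv4 D116245) F163579 (iv1 D30418) F24102 (iv4 F24103) D30426 D64670 F166470 (iv1 F93973)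
def n116246 : Q := act 3 n53581
theorem D116246 : act 3 n53581 = n116246 := rfl
theorem F181195 : act 7 n116246 = n66223 := d8_2 (iv7 F102977) D116246 (iv3 D66223)
def n116247 : Q := act 5 n53581
theorem D116247 : act 5 n53581 = n116247 := rfl
theorem F181196 : act 2 n116247 = n65471 := d2_1 D116247 F105781 (iv2 F102976)
theorem F181197 : act 7 n116247 = n65470 := d13_2 (iv7 F102977) D116247 F180560
def n116248 : Q := act 6 n53581
theorem D116248 : act 6 n53581 = n116248 := rfl
def n116249 : Q := act 3 n53582
theorem D116249 : act 3 n53582 = n116249 := rfl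
theorem F181200 : act 4 n116249 = n66760 := d5_2 F84534 D116249 (iv3 D66760) (iv4 D31127) D31126
theorem F181201 : act 7 n116249 = n66228 := d8_2 (iv7 F102973) D116249 (iv3 D66228)
def n116250 : Q := act 5 n53582
theorem D116250 : act 5 n53582 = n116250 := rfl
theorem F181202 : act 2 n116250 = n65470 := d2_1 D116250 F180560 (iv2 F102972)
theorem F181203 : act 7 n116250 = n65471 := d13_2 (iv7 F102973) D116250 F105781
def n116251 : Q := act 6 n53582
theorem D116251 : act 6 n53582 = n116251 := rfl
theorem F181204 : act 2 n116251 = n66226 := d3_1 D116251 (iv6 D66226) (iv2 F102972)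
theorem F181205 : act 4 n116251 = n66756 := d10_1 D116251 (iv6 D66756) F84534
def n116252 : Q := act 5 n53583
theorem D116252 : act 5 n53583 = n116252 := rfl
theorem F181206 : act 2 n116252 = n53584 := d2_1 D116252 (iv5 D53584) D53583
theorem F181207 : act 7 n116252 = n66231 := d13_2 (iv7 F84536) D116252 (iv5 D66231)
theorem F181208 : act 1 n66234 = n116252 := d15_1 D66234 F181207 F101824
theorem F181209 : act 1 n116252 = n66233 := d15_0 (iv0 D66233) (iv7 F84541) (iv2 F181206)
def n116253 : Q := act 6 n53583
theorem D116253 : act 6 n53583 = n116253 := rfl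
theorem F181210 : act 2 n116253 = n53585 := d3_1 D116253 (iv6 D53585) D53583
theorem F181211 : act 4 n116253 = n53609 := d10_1 D116253 (iv6 D53609) (iv4 F84535)
def n116254 : Q := act 0 n53584
theorem D116254 : act 0 n53584 = n116254 := rfl
theorem F181212 : act 1 n66231 = n116254 := d15_0 (iv0 D116254) F84541 (iv2 F101824)
def n116255 : Q := act 1 n53584
theorem D116255 : act 1 n53584 = n116255 := rfl
theorem F181213 : act 1 n116255 = n66231 := d15_1 D116255 (iv7 F181207) F181206
def n116256 : Q := act 4 n53584
theorem D116256 : act 4 n53584 = n116256 := rfl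
theorem F181214 : act 7 n116256 = n66235 := d11_2 (iv7 F84541) D116256 (iv4 D66235)
def n116257 : Q := act 6 n53584
theorem D116257 : act 6 n53584 = n116257 := rfl
theorem F181215 : act 3 n116257 = n53586 := d7_1 D116257 (iv6 D53586) (iv3 F84540)
def n116258 : Q := act 0 n53585
theorem D116258 : act 0 n53585 = n116258 := rfl
def n116259 : Q := act 1 n53585
theorem D116259 : act 1 n53585 = n116259 := rfl
def n116260 : Q := act 5 n53585
theorem D116260 : act 5 n53585 = n116260 := rfl
theorem F181216 : act 3 n116260 = n53589 := d6_1 D116260 (iv5 D53589) (iv3 F84542)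
def n116261 : Q := act 7 n53585
theorem D116261 : act 7 n53585 = n116261 := rfl
theorem F181219 : act 6 n116261 = n66240 := d14_1 D116261 (iv7 D66240) (iv6 D30953) (iv7 F41012) D53585
def n116262 : Q := act 0 n53586
theorem D116262 : act 0 n53586 = n116262 := rfl
def n116263 : Q := act 1 n53586
theorem D116263 : act 1 n53586 = n116263 := rfl
def n116264 : Q := act 5 n53586
theorem D116264 : act 5 n53586 = n116264 := rfl
theorem F181220 : act 6 n116264 = n53589 := d12_2 D53586 D116264 (iv5 D53589) (iv6 D25950) D25949
def n116265 : Q := act 7 n53586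
theorem D116265 : act 7 n53586 = n116265 := rfl
theorem F181221 : act 6 n116265 = n66248 := d14_1 D116265 (iv7 D66248) (iv6 D30956) (iv7 F41013) D53586
def n116266 : Q := act 3 n53587
theorem D116266 : act 3 n53587 = n116266 := rfl
theorem F181222 : act 4 n116266 = n64669 := d5_2 (iv4 F166465) D116266 (iv3 D64669) D64670 F166470
def n116267 : Q := act 5 n53587
theorem D116267 : act 5 n53587 = n116267 := rfl
theorem F181223 : act 1 n116267 = n64973 := d17_6 (iv1 D62988) (iv5 F76898) (iv1 F166499) (iv5 F166463) (iv4 F166465) D116267 (iv5 D64973) D64972 (iv4 F111424)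
def n116268 : Q := act 6 n53587
theorem D116268 : act 6 n53587 = n116268 := rfl
def n116269 : Q := act 3 n53588
theorem D116269 : act 3 n53588 = n116269 := rfl
def n116270 : Q := act 5 n53588
theorem D116270 : act 5 n53588 = n116270 := rfl
theorem F181224 : act 0 n116270 = n64973 := d17_2 (iv1 F171796) D116270 (iv5 D64973) F48917 F24125 D14693 (iv5 F84548) F84530 (iv4 F171794)
def n116271 : Q := act 0 n53589
theorem D116271 : act 0 n53589 = n116271 := rfl
def n116272 : Q := act 1 n53589
theorem D116272 : act 1 n53589 = n116272 := rfl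
theorem F181225 : act 5 n116272 = n111132 := d17_7 D51262 F80855 (iv1 D34111) F26113 (iv4 F41014) D53589 D116272 (iv0 D111132) F80853
def n116273 : Q := act 4 n53589
theorem D116273 : act 4 n53589 = n116273 := rfl
def n116274 : Q := act 7 n53589
theorem D116274 : act 7 n53589 = n116274 := rfl
theorem F181226 : act 5 n116274 = n53590 := d13_1 D116274 (iv7 D53590) D53589
def n116275 : Q := act 0 n53593
theorem D116275 : act 0 n53593 = n116275 := rfl
theorem F181227 : act 4 n116275 = n59545 := d20_2 D53593 D116275 F93971 (iv1 F166074) (iv3 D48860) (iv4 F53667) (iv1 D25961) F20441 (iv3 F20435) D25951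
theorem F181228 : act 2 n110871 = n116275 := d15_3 (iv0 D116275) (iv0 F166482) D110871
theorem F181229 : act 1 n53597 = n116275 := d15_0 (iv0 D116275) (iv7 F181192) F181190
theorem F181230 : act 7 n116275 = n59542 := d15_2 (iv0 F171721) F181229 F93967
theorem F181231 : act 6 n66275 = n116275 := d14_5 F181230 (iv6 D59542) F45774 D51118 (iv7 F101865)
def n116276 : Q := act 3 n53593
theorem D116276 : act 3 n53593 = n116276 := rfl
def n116277 : Q := act 5 n53593
theorem D116277 : act 5 n53593 = n116277 := rfl
def n116278 : Q := act 6 n53593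
theorem D116278 : act 6 n53593 = n116278 := rfl
theorem F181232 : act 4 n116278 = n53594 := d10_1 D116278 (iv6 D53594) D53593
def n116279 : Q := act 3 n53597
theorem D116279 : act 3 n53597 = n116279 := rfl
def n116280 : Q := act 5 n53597
theorem D116280 : act 5 n53597 = n116280 := rfl
def n116281 : Q := act 5 n53599
theorem D116281 : act 5 n53599 = n116281 := rfl
theorem F181233 : act 3 n116281 = n53601 := d6_1 D116281 (iv5 D53601) D53599
theorem F181234 : act 7 n116281 = n65734 := d13_2 (iv7 F102816) D116281 F105774
theorem F181235 : act 0 n116281 = n105840 := d17_2 F100688 D116281 F169587 (iv4 F104381) F180286 F180292 (iv5 D66899) D66897 F102753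
def n116282 : Q := act 6 n53599
theorem D116282 : act 6 n53599 = n116282 := rfl
def n116283 : Q := act 3 n53600
theorem D116283 : act 3 n53600 = n116283 := rfl
theorem F181238 : act 4 n116283 = n107281 := d5_2 D53600 D116283 (iv3 D107281) (iv4 F84559) (iv3 D53599)
theorem F181239 : act 7 n116283 = n66331 := d8_2 (iv7 F102818) D116283 (iv3 D66331)
theorem F181240 : act 0 n116283 = n111094 := d20_10 (iv4 D111094) (iv1 F80822) (iv4 F80661) F80660 (iv1 F39021) D25948 F41011 D25954 D53600 D116283
theorem E17887 : n111093 = n111055 := (c20_10 (iv4 F172088) (iv1 F172089) (iv4 D107303) F78326 (iv1 F78321) D107281 (iv4 F181238) F181240 (iv4 D111094) D111093 (iv1 F180290))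
theorem E17888 : n51236 = n51226 := ((((iv3 D111055)).symm.trans (sb E17887 (iv3 D111093)))).symm
theorem E17889 : n111053 = n24921 := ((D111053).symm.trans (sb E17888 (iv1 F80822)))
theorem E17890 : n111054 = n24919 := ((D111054).symm.trans (sb E17888 (iv0 D51236)))
theorem E17892 : n111094 = n111056 := (((D111056).symm.trans (sb E17888 D111094))).symm
theorem E17896 : n51237 = n51231 := (((iv1 F80823)).symm.trans (sb E17889 (iv1 F172249)))
theorem F181241 : act 1 n24921 = n51226 := (sb E17889 (iv0 D111053))
theorem F181242 : act 0 n24919 = n51226 := (sb E17890 (iv1 D111054))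
theorem F181243 : act 1 n111056 = n116283 := (sb E17892 (iv0 F181240))
theorem F181244 : act 3 n111056 = n62936 := (sb E17892 (iv3 F172290))
theorem F181245 : act 0 n51231 = n24919 := (sb E17896 (iv1 D51237))
theorem F181246 : act 1 n51231 = n24921 := (sb E17896 F80823)
theorem E17897 : n111063 = n106911 := (((iv3 F172259)).symm.trans (sb E17896 F164779))
theorem F181247 : act 3 n106911 = n51231 := (sb E17897 F172259)
theorem F181248 : act 7 n106911 = n51227 := (sb E17897 (iv7 D111063))
theorem F181249 : act 1 n116283 = n111068 := d15_1 F181243 (iv7 D111068) (iv2 F172252)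
theorem E17901 : n106914 = n106904 := (c11_2 F181248 F164781 (iv7 F164775) D106911)
theorem F181250 : act 0 n106904 = n49396 := (sb E17901 (iv1 F164780))
theorem F181251 : act 1 n106904 = n49394 := (sb E17901 (iv0 D106914))
theorem F181252 : act 4 n106904 = n51227 := (sb E17901 (iv4 F164781))
theorem E17902 : n111060 = n106906 := (c1_2 F181252 D111060 (iv4 D106906) D106904)
theorem F181253 : act 2 n106906 = n51227 := (sb E17902 (iv2 D111060))
theorem E17903 : n106915 = n106909 := (c15_2 F181251 D106915 (iv7 D106909) D106904)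
theorem F181254 : act 0 n106909 = n49394 := (sb E17903 (iv1 D106915))
theorem F181255 : act 1 n106909 = n49396 := (sb E17903 F164782)
theorem F181256 : act 7 n62936 = n65373 := d8_2 (iv7 F172253) F181244 F101069
theorem F181257 : act 2 n65373 = n62937 := d15_3 F101074 F101072 F181256
theorem F181258 : act 2 n62936 = n65374 := d15_3 F101073 F101070 (iv7 F181256)
theorem F181259 : act 7 n65374 = n62937 := d4_2 (iv7 F181256) F181258 (iv2 F181257)
theorem F181260 : act 2 n116283 = n111064 := d15_3 F172260 (iv0 F102247) (iv7 F181239)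
theorem F181261 : act 3 n111064 = n115552 := d0_2 D116283 F181260 (iv2 F179858) (iv3 D66350) (iv2 F102817)
def n116284 : Q := act 5 n53600
theorem D116284 : act 5 n53600 = n116284 := rfl
theorem F181262 : act 2 n116284 = n66351 := d2_1 D116284 (iv5 D66351) (iv2 F102817)
theorem F181263 : act 7 n116284 = n66332 := d13_2 (iv7 F102818) D116284 (iv5 D66332)
def n116285 : Q := act 6 n53600
theorem D116285 : act 6 n53600 = n116285 := rfl
def n116287 : Q := act 1 n53601
theorem D116287 : act 1 n53601 = n116287 := rfl
theorem F181267 : act 1 n116287 = n53606 := d15_1 D116287 F105773 (iv2 F105776)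
def n116288 : Q := act 4 n53601
theorem D116288 : act 4 n53601 = n116288 := rfl
theorem F181268 : act 2 n116288 = n65740 := d1_1 D116288 (iv4 D65740) (iv2 F105776)
theorem F181269 : act 7 n116288 = n65735 := d11_2 (iv7 F105777) D116288 (iv4 D65735)
theorem F181270 : act 1 n65740 = n67187 := d15_0 (iv0 F103140) (iv7 F181269) F181268
theorem E17904 : n67185 = n66755 := (c18_9 (iv1 F102949) D31237 (iv1 F102251) (iv4 D30987) F105780 D65740 F181270 (iv4 D67187) D67185 (iv5 D66755))
theorem F181271 : act 0 n66755 = n31267 := (sb E17904 (iv1 D67185))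
def n116289 : Q := act 6 n53601
theorem D116289 : act 6 n53601 = n116289 := rfl
theorem F181272 : act 2 n116289 = n65742 := d3_1 D116289 (iv6 D65742) (iv2 F105776)
def n116294 : Q := act 5 n53604
theorem D116294 : act 5 n53604 = n116294 := rfl
theorem F181280 : act 3 n116294 = n53606 := d6_1 D116294 (iv5 D53606) D53604
theorem F181281 : act 7 n116294 = n65739 := d13_2 (iv7 F102805) D116294 F105779
theorem F181282 : act 0 n116294 = n69198 := d17_2 (iv1 F179963) D116294 F180634 F180631 (iv5 F180017) F180015 F84182 (iv0 F173694) F173696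
theorem F181283 : act 1 n116294 = n69201 := d15_1 (iv0 F181282) F105488 (iv2 F105486)
def n116295 : Q := act 6 n53604
theorem D116295 : act 6 n53604 = n116295 := rfl
theorem F181284 : act 3 n116295 = n53607 := d7_1 D116295 (iv6 D53607) D53604
def n116296 : Q := act 5 n53605
theorem D116296 : act 5 n53605 = n116296 := rfl
theorem F181285 : act 2 n116296 = n66332 := d2_1 D116296 (iv5 D66332) (iv2 F102807)
theorem F181286 : act 7 n116296 = n66351 := d13_2 (iv7 F102808) D116296 (iv5 D66351)
def n116297 : Q := act 6 n53605
theorem D116297 : act 6 n53605 = n116297 := rfl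
theorem F181287 : act 2 n116297 = n66333 := d3_1 D116297 (iv6 D66333) (iv2 F102807)
theorem F181288 : act 4 n116297 = n53607 := d10_1 D116297 (iv6 D53607) D53605
def n116298 : Q := act 4 n53606
theorem D116298 : act 4 n53606 = n116298 := rfl
theorem F181289 : act 2 n116298 = n65735 := d1_1 D116298 (iv4 D65735) (iv2 F105772)
theorem F181290 : act 7 n116298 = n65740 := d11_2 (iv7 F105773) D116298 (iv4 D65740)
def n116299 : Q := act 6 n53606
theorem D116299 : act 6 n53606 = n116299 := rfl
theorem F181291 : act 2 n116299 = n65737 := d3_1 D116299 (iv6 D65737) (iv2 F105772)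
def n116300 : Q := act 0 n53607
theorem D116300 : act 0 n53607 = n116300 := rfl
def n116301 : Q := act 1 n53607
theorem D116301 : act 1 n53607 = n116301 := rfl
theorem F181292 : act 1 n116301 = n66343 := d15_1 D116301 (iv7 D66343) (iv2 F102811)
def n116302 : Q := act 5 n53607
theorem D116302 : act 5 n53607 = n116302 := rfl
theorem F181293 : act 2 n116302 = n66342 := d2_1 D116302 (iv5 D66342) (iv2 F102811)
def n116303 : Q := act 7 n53607
theorem D116303 : act 7 n53607 = n116303 := rfl
theorem F181294 : act 2 n116303 = n66343 := d4_1 D116303 (iv7 D66343) (iv2 F102811)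
theorem F181296 : act 1 n66343 = n116300 := d15_0 (iv0 D116300) D116303 F181294
def n116304 : Q := act 4 n53608
theorem D116304 : act 4 n53608 = n116304 := rfl
theorem F181299 : act 2 n116304 = n53612 := d1_1 D116304 (iv4 D53612) (iv2 F84561)
theorem F181300 : act 7 n116304 = n66359 := d11_2 (iv7 F84563) D116304 (iv4 D66359)
theorem F181301 : act 1 n66376 = n116304 := d15_1 D66376 F181300 F102263
theorem F181302 : act 1 n116304 = n66375 := d15_0 (iv0 D66375) (iv7 F84571) (iv2 F181299)
def n116305 : Q := act 6 n53608
theorem D116305 : act 6 n53608 = n116305 := rfl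
theorem F181304 : act 3 n116305 = n66620 := d7_1 D116305 (iv6 D66620) (iv3 F84562)
def n116306 : Q := act 0 n53609
theorem D116306 : act 0 n53609 = n116306 := rfl
def n116307 : Q := act 1 n53609
theorem D116307 : act 1 n53609 = n116307 := rfl
def n116308 : Q := act 5 n53609
theorem D116308 : act 5 n53609 = n116308 := rfl
theorem F181306 : act 2 n116308 = n53616 := d2_1 D116308 (iv5 D53616) (iv2 F84566)
def n116309 : Q := act 7 n53609
theorem D116309 : act 7 n53609 = n116309 := rfl
theorem F181308 : act 2 n116309 = n53617 := d4_1 D116309 (iv7 D53617) (iv2 F84566)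
theorem F181309 : act 3 n116309 = n66624 := d8_1 D116309 (iv7 D66624) (iv3 F84567)
theorem F181310 : act 6 n116309 = n66364 := d14_1 D116309 (iv7 D66364) (iv6 D30991) (iv7 F41019) D53609
theorem F181312 : act 1 n53615 = n116309 := d15_1 D53615 (iv7 D116309) F84566
theorem F181313 : act 1 n116309 = n53614 := d15_0 (iv0 D53614) D53617 (iv2 F181308)
def n116311 : Q := act 3 n53610
theorem D116311 : act 3 n53610 = n116311 := rfl
def n116320 : Q := act 0 n53612
theorem D116320 : act 0 n53612 = n116320 := rfl
theorem F181316 : act 1 n66359 = n116320 := d15_0 (iv0 D116320) F84571 (iv2 F102263)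
theorem F181317 : act 4 n116320 = n67113 := d18_7 D31234 F84533 (iv1 F84532) F49382 D30990 D66359 F181316 (iv0 D67113) (iv5 D31238)
def n116321 : Q := act 1 n53612
theorem D116321 : act 1 n53612 = n116321 := rfl
theorem F181318 : act 1 n116321 = n66359 := d15_1 D116321 (iv7 F181300) F181299
theorem F181319 : act 4 n66812 = n116321 := d20_6 F24231 (iv1 F11451) (iv4 F11275) (iv3 F24377) D31142 D66812 (iv1 D116321) (iv4 D53612) F41023 (iv1 F24233)
def n116322 : Q := act 5 n53612
theorem D116322 : act 5 n53612 = n116322 := rfl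
theorem F181320 : act 3 n116322 = n54042 := d6_1 D116322 (iv5 D54042) (iv3 F84570)
theorem F181321 : act 7 n116322 = n66377 := d13_2 (iv7 F84571) D116322 (iv5 D66377)
def n116323 : Q := act 6 n53612
theorem D116323 : act 6 n53612 = n116323 := rfl
theorem F181322 : act 3 n116323 = n54043 := d7_1 D116323 (iv6 D54043) (iv3 F84570)
def n116327 : Q := act 7 n53613
theorem D116327 : act 7 n53613 = n116327 := rfl
theorem F181326 : act 3 n116327 = n53621 := d8_1 D116327 (iv7 D53621) (iv3 F84572)
theorem F181327 : act 6 n116327 = n66382 := d14_1 D116327 (iv7 D66382) (iv6 D30995) (iv7 F41024) D53613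
def n116328 : Q := act 2 n53614
theorem D116328 : act 2 n53614 = n116328 := rfl
theorem F181328 : act 7 n53615 = n116328 := d15_2 (iv0 D53614) D53615 (iv2 D116328)
def n116329 : Q := act 3 n53614
theorem D116329 : act 3 n53614 = n116329 := rfl
def n116330 : Q := act 4 n53614
theorem D116330 : act 4 n53614 = n116330 := rfl
def n116331 : Q := act 5 n53614
theorem D116331 : act 5 n53614 = n116331 := rfl
def n116332 : Q := act 6 n53614
theorem D116332 : act 6 n53614 = n116332 := rfl
def n116333 : Q := act 7 n53614
theorem D116333 : act 7 n53614 = n116333 := rfl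
theorem F181329 : act 2 n116333 = n53615 := d4_1 D116333 F181328 (iv2 D116328)
def n116334 : Q := act 3 n53615
theorem D116334 : act 3 n53615 = n116334 := rfl
def n116335 : Q := act 4 n53615
theorem D116335 : act 4 n53615 = n116335 := rfl
def n116336 : Q := act 5 n53615
theorem D116336 : act 5 n53615 = n116336 := rfl
def n116337 : Q := act 6 n53615
theorem D116337 : act 6 n53615 = n116337 := rfl
def n116341 : Q := act 7 n53616
theorem D116341 : act 7 n53616 = n116341 := rfl
theorem F181331 : act 5 n116341 = n53617 := d13_1 D116341 (iv7 D53617) D53616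
def n116342 : Q := act 0 n53620
theorem D116342 : act 0 n53620 = n116342 := rfl
def n116343 : Q := act 1 n53620
theorem D116343 : act 1 n53620 = n116343 := rfl
theorem F181332 : act 1 n116343 = n66670 := d15_1 D116343 (iv7 D66670) (iv2 F84577)
theorem F181333 : act 5 n66108 = n116343 := d21_6 (iv5 D14571) (iv1 F11227) D6990 D14633 D30910 D66108 (iv1 D116343) (iv5 D53620) (iv6 D25959) (iv1 F24233)
def n116345 : Q := act 7 n53620
theorem D116345 : act 7 n53620 = n116345 := rfl
theorem F181336 : act 2 n116345 = n66670 := d4_1 D116345 (iv7 D66670) (iv2 F84577)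
theorem F181337 : act 5 n116345 = n53621 := d13_1 D116345 (iv7 D53621) D53620
theorem F181338 : act 1 n66670 = n116342 := d15_0 (iv0 D116342) D116345 F181336
theorem F181340 : act 5 n116342 = n69623 := d17_7 D32322 F85292 (iv1 F85290) F50366 (iv4 F49479) (iv5 F102581) F181338 (iv0 D69623) F51344
theorem F181341 : act 4 n69623 = n59982 := d17_4 F180394 D53620 D116342 F181340 F94461 (iv0 D31878) (iv5 D15003) D15002 D31875
theorem F181342 : act 1 n68522 = n54061 := d18_6 F85956 (iv4 F51344) D69623 F181341 F94461 D68522 (iv4 D54061) D54060 (iv5 F85285)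
theorem F181343 : act 1 n116345 = n66667 := d15_0 (iv0 D66667) D66670 (iv2 F181336)
def n116346 : Q := act 0 n53622
theorem D116346 : act 0 n53622 = n116346 := rfl
theorem F181344 : act 1 n66681 = n116346 := d15_0 (iv0 D116346) F84585 D66681
def n116347 : Q := act 1 n53622
theorem D116347 : act 1 n53622 = n116347 := rfl
def n116348 : Q := act 2 n53622
theorem D116348 : act 2 n53622 = n116348 := rfl
theorem F181346 : act 7 n116348 = n66681 := d4_2 (iv7 F84585) D116348 (iv2 D66681)
theorem F181348 : act 1 n116347 = n66681 := d15_1 D116347 (iv7 F181346) (iv2 D116348)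
def n116354 : Q := act 0 n53625
theorem D116354 : act 0 n53625 = n116354 := rfl
def n116356 : Q := act 2 n53625
theorem D116356 : act 2 n53625 = n116356 := rfl
theorem F181363 : act 3 n116356 = n66681 := d0_2 D53625 D116356 (iv2 D66681) (iv3 D31101) (iv2 F78657)
def n116357 : Q := act 4 n53625
theorem D116357 : act 4 n53625 = n116357 := rfl
theorem F181368 : act 3 n116357 = n105678 := d5_1 D116357 (iv4 D105678) (iv3 D48860) (iv4 F53667) D53625
theorem F181369 : act 7 n116357 = n66674 := d11_2 (iv7 F84598) D116357 (iv4 D66674)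
def n116370 : Q := act 6 n53630
theorem D116370 : act 6 n53630 = n116370 := rfl
theorem F181404 : act 2 n116370 = n66697 := d3_1 D116370 (iv6 D66697) (iv2 F84611)
theorem F181405 : act 5 n116370 = n66456 := d12_1 D116370 (iv6 D66456) F49438 (iv6 F41032) (iv5 F84612)
def n116371 : Q := act 0 n53636
theorem D116371 : act 0 n53636 = n116371 := rfl
def n116372 : Q := act 1 n53636
theorem D116372 : act 1 n53636 = n116372 := rfl
def n116373 : Q := act 2 n53636
theorem D116373 : act 2 n53636 = n116373 := rfl
def n116374 : Q := act 5 n53636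
theorem D116374 : act 5 n53636 = n116374 := rfl
theorem F181412 : act 3 n116374 = n53637 := d6_1 D116374 (iv5 D53637) D53636
def n116375 : Q := act 6 n53636
theorem D116375 : act 6 n53636 = n116375 := rfl
theorem F181414 : act 3 n116375 = n53638 := d7_1 D116375 (iv6 D53638) D53636
theorem F181415 : act 5 n68262 = n116375 := d6_0 F181414 F84631 D68262
def n116378 : Q := act 3 n53642
theorem D116378 : act 3 n53642 = n116378 := rfl
theorem F181423 : act 4 n116378 = n53643 := d5_2 D53642 D116378 (iv3 D53643) (iv4 D25970) D25969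
theorem F181424 : act 7 n116378 = n64689 := d8_2 F161294 D116378 (iv3 D64689)
def n116379 : Q := act 5 n53642
theorem D116379 : act 5 n53642 = n116379 := rfl
theorem F181425 : act 2 n116379 = n64698 := d2_1 D116379 (iv5 D64698) (iv2 F161289)
theorem F181426 : act 7 n116379 = n64690 := d13_2 F161294 D116379 (iv5 D64690)
def n116380 : Q := act 0 n53643
theorem D116380 : act 0 n53643 = n116380 := rfl
def n116383 : Q := act 5 n53643
theorem D116383 : act 5 n53643 = n116383 := rfl
theorem F181433 : act 3 n116383 = n53644 := d6_1 D116383 (iv5 D53644) D53643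
def n116386 : Q := act 1 n53646
theorem D116386 : act 1 n53646 = n116386 := rfl
theorem F181441 : act 1 n116386 = n53736 := d15_1 D116386 (iv7 F180871) F180870
theorem F181442 : act 7 n116386 = n53738 := d15_2 (iv0 F102849) D116386 (iv2 D53738)
theorem F181443 : act 3 n59595 = n116386 := d20_3 (iv4 F22650) D28284 D59595 (iv1 D116386) (iv3 D53646) D53647 F94105 (iv4 D59717) (iv3 D28333) (iv1 D13519)
theorem F181444 : act 4 n116386 = n116130 := d20_6 (iv4 F102626) (iv1 F102631) (iv4 D31132) D31131 F102632 F181443 (iv1 D116130) (iv4 D53527) D53526 (iv1 F162314)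
theorem F181445 : act 3 n65862 = n116130 := d5_5 (iv4 F181444) (iv3 F181443) (iv4 D59595) D59594 F101516
theorem F181446 : act 0 n66520 = n107367 := d20_10 (iv4 D107367) (iv1 D49597) (iv4 F78110) (iv3 F98549) (iv1 F101519) F181445 (iv4 F181444) (iv1 D116386) F84645 D66520
theorem F181447 : act 2 n53709 = n116386 := d4_3 F181442 (iv2 D53738) (iv7 F84740)
theorem E17905 : n59595 = n53715 := (c0_3 D53709 F181447 (iv3 F181443) (iv2 D53715) (iv3 D25994) D25993)
theorem F181448 : act 1 n53715 = n31131 := (sb E17905 (iv0 F102632))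
theorem F181449 : act 3 n53715 = n116386 := (sb E17905 F181443)
theorem F181450 : act 4 n53715 = n28284 := (sb E17905 (iv4 D59595))
theorem E17906 : n59593 = n53716 := (c1_2 F181450 D59593 (iv4 D53716) D53715)
theorem F181451 : act 2 n53716 = n28284 := (sb E17906 (iv2 D59593))
theorem F181452 : act 7 n53716 = n28285 := (sb E17906 (iv7 F94012))
theorem E17907 : n53757 = n53719 := (c11_2 F181452 (iv4 F84771) (iv7 D53719) D53716)
theorem F181453 : act 0 n53719 = n31131 := (sb E17907 F179968)
theorem E17908 : n26004 = n25998 := (((F84751).symm.trans (sb E17907 (iv3 D53757)))).symm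
theorem F181454 : act 4 n53719 = n28285 := (sb E17907 F84771)
theorem E17909 : n53708 = n12326 := (((iv1 F84739)).symm.trans (sb E17908 (iv1 D26004)))
theorem E17910 : n53707 = n12328 := ((F84738).symm.trans (sb E17908 F41093))
theorem E17912 : n53758 = n53725 := ((((iv4 F84756)).symm.trans (sb E17908 D53758))).symm
theorem E17916 : n26003 = n25993 := ((D26003).symm.trans (sb E17909 (iv1 D53708)))
theorem F181455 : act 1 n12326 = n25998 := (sb E17909 F84739)
theorem F181456 : act 0 n12328 = n25998 := (sb E17910 (iv1 F84738))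
theorem F181457 : act 0 n53725 = n66347 := (sb E17912 F102258)
theorem F181458 : act 1 n53725 = n115500 := (sb E17912 F179797)
theorem F181459 : act 0 n25993 = n12328 := (sb E17916 (iv1 F41092))
theorem F181460 : act 1 n25993 = n12326 := (sb E17916 (iv0 D26003))
theorem E17917 : n53752 = n53709 := (((D53709).symm.trans (sb E17916 D53752))).symm
theorem E17918 : n53753 = n53710 := (((D53710).symm.trans (sb E17916 D53753))).symm
theorem F181461 : act 0 n53709 = n116089 := (sb E17917 F180874)
theorem F181462 : act 1 n53709 = n31163 := (sb E17917 F102757)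
theorem F181463 : act 4 n53709 = n66595 := (sb E17917 (iv4 F102504))
theorem F181464 : act 0 n53710 = n115500 := (sb E17918 F179967)
theorem F181465 : act 1 n53710 = n66347 := (sb E17918 F179969)
theorem F181466 : act 3 n53710 = n115446 := (sb E17918 (iv3 F179756))
theorem E17921 : n59602 = n59598 := ((c15_4 F94014 (iv0 F84746) F181452 (iv2 F94013))).symm
theorem F181467 : act 0 n59598 = n28286 := (sb E17921 (iv1 D59602))
theorem F181468 : act 1 n59598 = n28288 := (sb E17921 F94014)
theorem F181469 : act 7 n115446 = n53742 := d8_2 (iv7 F84742) F181466 (iv3 D53742)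
theorem F181470 : act 2 n66595 = n116130 := d1_1 F181463 (iv4 F181444) (iv2 F181447)
theorem F181471 : act 7 n66595 = n53739 := d11_2 (iv7 F84740) F181463 (iv4 D53739)
theorem F181472 : act 2 n53739 = n66596 := d15_3 F102505 F102509 F181471
theorem F181473 : act 7 n116130 = n66596 := d4_2 (iv7 F181471) F181470 (iv2 F181472)
theorem F181474 : act 4 n66596 = n53738 := d11_1 F181473 (iv7 F181442) F181444
theorem E17922 : n66891 = n53738 := (c15_2 F181462 D66891 (iv7 F181442) (iv2 F181447))
theorem F181475 : act 0 n53738 = n31163 := (sb E17922 (iv1 D66891))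
theorem F181476 : act 1 n53738 = n116089 := (sb E17922 F180875)
theorem F181477 : act 3 n66596 = n63318 := d20_3 D116089 (iv1 F181476) (iv4 F181474) (iv1 D63318) (iv3 D29915) (iv4 D14205) (iv1 F19207) D12300 D25920 D53505
theorem F181478 : act 7 n63318 = n65862 := d8_2 F181473 F181477 F181445
theorem F181479 : act 2 n65862 = n63317 := d15_3 (iv0 D63317) D63318 F181478
theorem F181480 : act 2 n63318 = n65861 := d15_3 (iv0 D65861) D65862 (iv7 F181478)
theorem F181481 : act 7 n65861 = n63317 := d4_2 (iv7 F181478) F181480 (iv2 F181479)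
def n116387 : Q := act 5 n53646
theorem D116387 : act 5 n53646 = n116387 := rfl
theorem F181482 : act 2 n116387 = n69488 := d2_1 D116387 (iv5 F180872) F180870
theorem F181483 : act 3 n116387 = n53648 := d6_1 D116387 (iv5 D53648) D53646
theorem F181484 : act 7 n116387 = n66893 := d13_2 (iv7 F102850) D116387 (iv5 D66893)
theorem F181485 : act 4 n116387 = n66083 := d18_5 (iv1 F40986) (iv4 F84423) (iv1 F84426) (iv4 F84645) D116387 F180333 (iv4 D115850) F84268 (iv5 F103123)
theorem F181486 : act 2 n66083 = n115866 := d1_1 F181485 F180349 (iv2 F181482)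
theorem F181487 : act 7 n66083 = n115867 := d11_2 (iv7 F181484) F181485 (iv4 F180351)
theorem F181488 : act 2 n115867 = n66082 := d15_3 (iv0 D66082) D66083 F181487
theorem F181489 : act 7 n115866 = n66082 := d4_2 (iv7 F181487) F181486 (iv2 F181488)
def n116388 : Q := act 6 n53646
theorem D116388 : act 6 n53646 = n116388 := rfl
theorem F181490 : act 3 n116388 = n53649 := d7_1 D116388 (iv6 D53649) D53646
theorem F181491 : act 4 n116388 = n66522 := d10_1 D116388 (iv6 D66522) (iv4 F84645)
def n116389 : Q := act 3 n53647
theorem D116389 : act 3 n53647 = n116389 := rfl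
theorem F181492 : act 2 n116389 = n107247 := d0_1 D116389 (iv3 D107247) (iv2 F163634) (iv3 D66917) (iv2 F102852)
theorem F181493 : act 4 n116389 = n66520 := d5_2 D53647 D116389 (iv3 D66520) (iv4 F84645) (iv3 D53646)
theorem F181494 : act 7 n116389 = n66898 := d8_2 (iv7 F102853) D116389 (iv3 D66898)
theorem F181495 : act 0 n116389 = n106911 := d20_4 F37901 D25971 D53647 D116389 F181247 (iv4 F172263) (iv1 F181249) F181238 (iv3 D107281) (iv1 D49569)
theorem F181496 : act 0 n107366 = n111019 := d20_10 F172299 (iv1 D64805) F80831 D111106 F172307 D116389 F181493 F181446 (iv4 D107367) D107366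
theorem E17923 : n111059 = n107247 := ((c15_4 (iv0 D111059) (iv0 F102891) (iv7 F181494) F181492)).symm
theorem F181497 : act 1 n107247 = n51227 := (sb E17923 (iv0 D111059))
theorem F181498 : act 0 n106906 = n116389 := d20_1 D106906 F181493 (iv3 D66520) (iv1 D31050) (iv3 D14689) (iv4 D7012) F11195 D11319 D24106 D49392
def n116390 : Q := act 6 n53647
theorem D116390 : act 6 n53647 = n116390 := rfl
theorem F181499 : act 2 n116390 = n66919 := d3_1 D116390 (iv6 D66919) (iv2 F102852)
theorem F181500 : act 4 n116390 = n53649 := d10_1 D116390 (iv6 D53649) D53647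
def n116391 : Q := act 4 n53648
theorem D116391 : act 4 n53648 = n116391 := rfl
theorem F181502 : act 7 n116391 = n66904 := d11_2 (iv7 F102855) D116391 (iv4 D66904)
def n116392 : Q := act 6 n53648
theorem D116392 : act 6 n53648 = n116392 := rfl
def n116393 : Q := act 0 n53649
theorem D116393 : act 0 n53649 = n116393 := rfl
def n116394 : Q := act 1 n53649
theorem D116394 : act 1 n53649 = n116394 := rfl
def n116395 : Q := act 5 n53649
theorem D116395 : act 5 n53649 = n116395 := rfl
def n116396 : Q := act 7 n53649
theorem D116396 : act 7 n53649 = n116396 := rfl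
theorem F181509 : act 1 n66923 = n116396 := d15_1 D66923 (iv7 D116396) F102856
def n116397 : Q := act 4 n53651
theorem D116397 : act 4 n53651 = n116397 := rfl
theorem F181511 : act 2 n116397 = n67028 := d1_1 D116397 (iv4 D67028) (iv2 F102860)
theorem F181512 : act 3 n116397 = n107244 := d5_1 D116397 (iv4 D107244) F84647 (iv4 D53652) D53651
theorem F181513 : act 7 n116397 = n66914 := d11_2 (iv7 F102861) D116397 (iv4 D66914)
theorem F181514 : act 0 n116397 = n66305 := d20_1 D116397 (iv4 D66305) D66304 F179987 F102657 F100654 F103003 F49546 (iv3 F49541) (iv1 F102939)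
theorem F181515 : act 0 n66300 = n116397 := d20_1 D66300 (iv4 D116397) (iv3 D53651) (iv1 D25972) (iv3 D12318) F8998 (iv1 F7606) (iv4 F11264) D14660 D30972
theorem E17924 : n115636 = n115539 := ((c20_1 (iv4 F179841) (iv1 D115636) D115638 F179997 F181515 F181512 (iv4 D107244) (iv1 F163630) F163627 (iv3 F179729) (iv1 F179734))).symm
theorem F181516 : act 0 n115539 = n53333 := (sb E17924 (iv1 D115636))
def n116398 : Q := act 5 n53651
theorem D116398 : act 5 n53651 = n116398 := rfl
theorem F181517 : act 2 n116398 = n67029 := d2_1 D116398 (iv5 D67029) (iv2 F102860)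
theorem F181518 : act 3 n116398 = n53653 := d6_1 D116398 (iv5 D53653) D53651
theorem F181519 : act 7 n116398 = n66915 := d13_2 (iv7 F102861) D116398 (iv5 D66915)
def n116399 : Q := act 6 n53651
theorem D116399 : act 6 n53651 = n116399 := rfl
def n116400 : Q := act 6 n53652
theorem D116400 : act 6 n53652 = n116400 := rfl
theorem F181523 : act 3 n116400 = n107246 := d7_1 D116400 (iv6 D107246) F84647
def n116401 : Q := act 4 n53653
theorem D116401 : act 4 n53653 = n116401 := rfl
theorem F181525 : act 2 n116401 = n66904 := d1_1 D116401 (iv4 D66904) (iv2 F102864)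
theorem F181526 : act 7 n116401 = n66920 := d11_2 (iv7 F102865) D116401 (iv4 D66920)
def n116402 : Q := act 6 n53653
theorem D116402 : act 6 n53653 = n116402 := rfl
theorem F181527 : act 2 n116402 = n66905 := d3_1 D116402 (iv6 D66905) (iv2 F102864)
def n116407 : Q := act 4 n53655
theorem D116407 : act 4 n53655 = n116407 := rfl
theorem F181535 : act 2 n116407 = n53659 := d1_1 D116407 (iv4 D53659) (iv2 F84648)
theorem F181536 : act 7 n116407 = n66927 := d11_2 (iv7 F84650) D116407 (iv4 D66927)
theorem F181537 : act 0 n116407 = n66954 := d20_1 D116407 (iv4 F102898) (iv3 D66366) (iv1 F84565) F84562 D66619 (iv1 F180966) (iv4 F180967) (iv3 D66944) (iv1 F84652)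
theorem E17925 : n115991 = n66366 := (c18_5 (iv1 F41149) (iv4 F50035) (iv1 F78401) (iv4 F84374) D115991 F102898 (iv0 F181537) (iv4 D116407) F84652 F180722)
theorem E17926 : n53474 = n30992 := ((((iv3 D66366)).symm.trans (sb E17925 F180613))).symm
theorem F181538 : act 5 n66366 = n53472 := (sb E17925 (iv5 D115991))
theorem F181539 : act 7 n66366 = n65693 := (sb E17925 F180684)
theorem E17927 : n116000 = n53608 := ((((iv1 F84565)).symm.trans (sb E17926 D116000))).symm
theorem E17929 : n66365 = n30774 := ((D66365).symm.trans (sb E17926 F180652))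
theorem E17930 : n116002 = n66367 := (((D66367).symm.trans (sb E17926 D116002))).symm
theorem E17931 : n66368 = n25905 := ((D66368).symm.trans (sb E17926 (iv5 D53474)))
theorem E17932 : n116003 = n66369 := (((D66369).symm.trans (sb E17926 D116003))).symm
theorem E17933 : n66370 = n30769 := ((D66370).symm.trans (sb E17926 (iv7 F180660)))
theorem E17934 : n53479 = n30993 := ((((iv1 F84564)).symm.trans (sb E17927 (iv1 F180629)))).symm
theorem F181540 : act 2 n30774 = n30992 := (sb E17929 (iv2 D66365))
theorem F181541 : act 2 n66367 = n65721 := (sb E17930 (iv2 F180694))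
theorem F181542 : act 7 n66367 = n65704 := (sb E17930 F180685)
theorem F181543 : act 5 n25905 = n30992 := (sb E17931 (iv5 D66368))
theorem F181544 : act 2 n66369 = n65722 := (sb E17932 (iv2 F180695))
theorem F181545 : act 7 n30769 = n30992 := (sb E17933 (iv7 D66370))
theorem F181546 : act 2 n30993 = n30769 := (sb E17934 (iv2 F180659))
theorem E17935 : n116013 = n66371 := (((D66371).symm.trans (sb E17934 (iv3 F180751)))).symm
theorem E17936 : n116018 = n66372 := (((D66372).symm.trans (sb E17934 D116018))).symm
theorem E17937 : n66373 = n25906 := ((D66373).symm.trans (sb E17934 (iv5 D53479)))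
theorem E17938 : n116019 = n66374 := (((D66374).symm.trans (sb E17934 D116019))).symm
theorem F181547 : act 7 n30993 = n30774 := (sb E17934 F180655)
theorem F181548 : act 0 n66371 = n115624 := (sb E17935 F180753)
theorem F181549 : act 1 n66371 = n115641 := (sb E17935 F180754)
theorem F181550 : act 5 n66371 = n53477 := (sb E17935 (iv5 D116013))
theorem F181551 : act 7 n66371 = n65716 := (sb E17935 F180752)
theorem F181552 : act 2 n66372 = n65704 := (sb E17936 F180763)
theorem F181553 : act 7 n66372 = n65721 := (sb E17936 F180764)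
theorem F181554 : act 5 n25906 = n30993 := (sb E17937 (iv5 D66373))
theorem F181555 : act 2 n66374 = n65705 := (sb E17938 F180765)
theorem E17939 : n115951 = n66234 := ((c17_7 (iv1 F40944) F181554 (iv1 D30993) (iv5 D14665) (iv4 F24334) D30952 D66234 (iv5 D115951) F84359 F49138)).symm
theorem F181556 : act 5 n66234 = n53459 := (sb E17939 (iv5 D115951))
theorem F181557 : act 0 n67111 = n116016 := d17_2 F49553 D67111 (iv5 D116016) (iv4 D53478) F181554 F84564 (iv5 D53608) F41020 D30982
theorem F181558 : act 1 n67111 = n115997 := d15_1 (iv0 F181557) F180686 (iv2 F180759)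
theorem F181559 : act 1 n67719 = n67108 := d17_6 (iv1 F84537) D116252 (iv1 F181208) F181556 (iv4 F84355) D67719 (iv5 D67108) (iv0 F102978) (iv4 D66224)
theorem F181560 : act 4 n66376 = n67719 := d18_7 F102870 F84686 (iv1 D30950) F24334 D14665 D30994 D66376 F181559 (iv5 D67108)
theorem E17940 : n67728 = n31136 := (c20_5 D116304 (iv1 F181301) F181560 F103761 D67728 (iv3 F84649) D116407 F181537 (iv4 F102898) (iv3 D66366) (iv1 F84565))
theorem E17941 : n53691 = n31454 := (((iv1 F84707)).symm.trans (sb E17940 (iv1 F103773)))
theorem E17942 : n53690 = n31449 := ((F84706).symm.trans (sb E17940 (iv0 D67728)))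
theorem E17943 : n67729 = n25985 := (((iv1 F103770)).symm.trans (sb E17941 (iv1 D53691)))
theorem F181561 : act 1 n31454 = n31136 := (sb E17941 F84707)
theorem F181562 : act 0 n31449 = n31136 := (sb E17942 (iv1 F84706))
theorem F181563 : act 0 n25985 = n31449 := (sb E17943 (iv1 D67729))
theorem F181564 : act 1 n25985 = n31454 := (sb E17943 F103770)
theorem F181565 : act 0 n67542 = n53688 := d17_2 (iv1 F85057) D67542 (iv5 D53688) (iv4 D25984) D25985 F181564 (iv5 D31454) F41260 (iv4 F85054)
theorem F181566 : act 1 n66789 = n67538 := d17_6 D14823 D31449 F181562 (iv5 D31136) D31135 D66789 (iv5 D67538) (iv0 D31379) F24444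
theorem F181567 : act 1 n67538 = n53688 := d15_1 F181566 F84703 (iv2 F102645)
theorem F181568 : act 1 n66372 = n67115 := d15_0 F103073 F181542 (iv2 F181552)
theorem E17944 : n115947 = n66233 := ((c17_7 D25905 F181543 (iv1 F84565) (iv5 D53608) (iv4 F84535) D116252 F181209 (iv5 D115947) (iv0 D53458) F40930)).symm
theorem F181569 : act 5 n66233 = n53458 := (sb E17944 (iv5 D115947))
theorem F181570 : act 1 n116407 = n66953 := d15_0 (iv0 D66953) (iv7 F84658) (iv2 F181535)
def n116408 : Q := act 6 n53655
theorem D116408 : act 6 n53655 = n116408 := rfl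
theorem F181571 : act 2 n116408 = n53660 := d3_1 D116408 (iv6 D53660) (iv2 F84648)
theorem F181572 : act 3 n116408 = n66792 := d7_1 D116408 (iv6 D66792) (iv3 F84649)
def n116409 : Q := act 0 n53656
theorem D116409 : act 0 n53656 = n116409 := rfl
def n116410 : Q := act 1 n53656
theorem D116410 : act 1 n53656 = n116410 := rfl
theorem F181573 : act 1 n116410 = n53664 := d15_1 D116410 (iv7 D53664) (iv2 F84653)
def n116411 : Q := act 5 n53656
theorem D116411 : act 5 n53656 = n116411 := rfl
theorem F181574 : act 2 n116411 = n53663 := d2_1 D116411 (iv5 D53663) (iv2 F84653)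
theorem F181575 : act 3 n116411 = n66795 := d6_1 D116411 (iv5 D66795) (iv3 F84654)
def n116412 : Q := act 7 n53656
theorem D116412 : act 7 n53656 = n116412 := rfl
theorem F181576 : act 2 n116412 = n53664 := d4_1 D116412 (iv7 D53664) (iv2 F84653)
theorem F181577 : act 3 n116412 = n66796 := d8_1 D116412 (iv7 D66796) (iv3 F84654)
theorem F181579 : act 1 n53664 = n116409 := d15_0 (iv0 D116409) D116412 F181576
theorem F181580 : act 1 n53662 = n116412 := d15_1 D53662 (iv7 D116412) F84653
def n116413 : Q := act 0 n53659
theorem D116413 : act 0 n53659 = n116413 := rfl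
theorem F181582 : act 1 n66927 = n116413 := d15_0 (iv0 D116413) F84658 (iv2 F102881)
def n116414 : Q := act 1 n53659
theorem D116414 : act 1 n53659 = n116414 := rfl
theorem F181583 : act 1 n116414 = n66927 := d15_1 D116414 (iv7 F181536) F181535
theorem F181584 : act 4 n116311 = n116414 := d20_6 F24227 F11325 (iv4 F20438) (iv3 F41023) D53610 D116311 (iv1 D116414) (iv4 D53659) F41051 (iv1 F24229)
theorem E17945 : n116311 = n65693 := ((c18_5 (iv1 F41152) (iv4 F78397) (iv1 F78402) (iv4 F50034) D65693 F181584 F181583 (iv4 D66927) (iv0 F166894) (iv5 D31751))).symm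
theorem E17946 : n53610 = n30769 := (((F101417).symm.trans (sb E17945 (iv3 D116311)))).symm
theorem F181585 : act 4 n65693 = n116414 := (sb E17945 F181584)
theorem E17947 : n65702 = n30990 := ((D65702).symm.trans (sb E17946 (iv1 F84568)))
theorem E17948 : n65703 = n25957 := ((D65703).symm.trans (sb E17946 (iv0 D53610)))
theorem E17954 : n53611 = n30774 := (((iv1 F84569)).symm.trans (sb E17947 (iv1 F101429)))
theorem F181586 : act 1 n30990 = n30769 := (sb E17947 (iv0 D65702))
theorem F181587 : act 0 n25957 = n30769 := (sb E17948 (iv1 D65703))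
theorem F181588 : act 0 n30774 = n25957 := (sb E17954 (iv1 D53611))
theorem F181589 : act 1 n30774 = n30990 := (sb E17954 F84569)
theorem E17959 : n116255 = n65466 := (c17_7 (iv1 F40945) D30774 F181588 (iv5 D25957) (iv4 F41011) D53584 D116255 (iv5 D65466) F84360 F84356)
theorem F181590 : act 0 n65466 = n53584 := (sb E17959 (iv1 D116255))
theorem F181591 : act 1 n65466 = n66231 := (sb E17959 F181213)
theorem F181592 : act 5 n67113 = n65461 := d18_4 F181588 D53612 D116320 F181317 (iv4 D65461) (iv0 D30691) F24190 D14577 D30774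
theorem E17960 : n116254 = n65462 := ((c17_6 (iv1 F102949) D31238 D67113 F181592 (iv4 D65461) D65462 (iv0 D116254) (iv5 D53584) D53582 (iv4 F84534))).symm
theorem F181593 : act 0 n65462 = n66231 := (sb E17960 (iv1 F181212))
theorem F181594 : act 1 n65462 = n53584 := (sb E17960 (iv0 D116254))
theorem F181595 : act 5 n53940 = n66812 := d18_4 (iv1 F40943) (iv4 F84356) (iv1 F84360) (iv4 F85077) F181319 F181318 (iv4 D66359) F181586 (iv5 D30769)
theorem E17961 : n66814 = n26080 := (c6_3 F181595 (iv3 D66812) D66814 D53940)
theorem E17962 : n53942 = n31142 := ((D53942).symm.trans (sb E17961 (iv5 D66814)))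
theorem F181596 : act 5 n31142 = n26080 := (sb E17962 (iv5 D53942))
theorem F181597 : act 5 n53939 = n66811 := d2_2 F181596 D53939 (iv2 D66811)
theorem F181598 : act 5 n53944 = n66816 := d13_3 (iv7 D66816) F181596 D53944
theorem E17963 : n66819 = n26081 := (c2_3 F181598 F102665 D66819 (iv2 F85078))
theorem E17964 : n53947 = n31143 := ((D53947).symm.trans (sb E17963 (iv5 D66819)))
theorem F181599 : act 5 n31143 = n26081 := (sb E17964 (iv5 D53947))
theorem F181600 : act 5 n53945 = n66817 := d6_2 F181599 D53945 (iv3 D66817)
theorem F181601 : act 5 n53925 = n66804 := d17_1 F85053 (iv1 D66804) (iv5 D31140) (iv4 D14716) D14717 D31143 F181599 F41259 (iv4 F49644)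
theorem F181602 : act 2 n66804 = n67538 := d2_1 F181601 (iv5 D67538) (iv2 F180257)
theorem F181603 : act 7 n66804 = n67542 := d13_2 (iv7 F180258) F181601 (iv5 D67542)
theorem F181604 : act 2 n67542 = n66803 := d15_3 (iv0 D66803) D66804 F181603
theorem F181605 : act 7 n67538 = n66803 := d4_2 (iv7 F181603) F181602 (iv2 F181604)
theorem F181606 : act 5 n66803 = n53924 := d13_1 F181605 F180261 D67538
theorem F181607 : act 1 n67542 = n66789 := d15_0 F181566 F181605 (iv2 F181604)
theorem F181608 : act 7 n116414 = n66954 := d11_2 F181539 F181585 (iv4 F102898)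
theorem F181609 : act 2 n66954 = n116413 := d15_3 (iv0 D116413) D116414 F181608
theorem F181610 : act 2 n116414 = n66953 := d15_3 (iv0 D66953) D66954 (iv7 F181608)
theorem F181611 : act 7 n66953 = n116413 := d4_2 (iv7 F181608) F181610 (iv2 F181609)
def n116415 : Q := act 5 n53659
theorem D116415 : act 5 n53659 = n116415 := rfl
theorem F181612 : act 3 n116415 = n54013 := d6_1 D116415 (iv5 D54013) (iv3 F84657)
theorem F181613 : act 7 n116415 = n66955 := d13_2 (iv7 F84658) D116415 (iv5 D66955)
def n116416 : Q := act 6 n53659
theorem D116416 : act 6 n53659 = n116416 := rfl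
theorem F181614 : act 3 n116416 = n54014 := d7_1 D116416 (iv6 D54014) (iv3 F84657)
theorem F181615 : act 4 n116416 = n53660 := d10_1 D116416 (iv6 D53660) D53659
def n116417 : Q := act 0 n53660
theorem D116417 : act 0 n53660 = n116417 := rfl
def n116418 : Q := act 1 n53660
theorem D116418 : act 1 n53660 = n116418 := rfl
def n116419 : Q := act 5 n53660
theorem D116419 : act 5 n53660 = n116419 := rfl
theorem F181617 : act 6 n116419 = n53663 := d12_2 D53660 D116419 (iv5 D53663) (iv6 D25975) D25974
def n116420 : Q := act 7 n53660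
theorem D116420 : act 7 n53660 = n116420 := rfl
theorem F181618 : act 3 n116420 = n53668 := d8_1 D116420 (iv7 D53668) (iv3 F84659)
theorem F181619 : act 6 n116420 = n66960 := d14_1 D116420 (iv7 D66960) (iv6 D31181) (iv7 F41052) D53660
def n116421 : Q := act 2 n53661
theorem D116421 : act 2 n53661 = n116421 := rfl
theorem F181620 : act 7 n53662 = n116421 := d15_2 (iv0 D53661) D53662 (iv2 D116421)
def n116426 : Q := act 7 n53661
theorem D116426 : act 7 n53661 = n116426 := rfl
theorem F181621 : act 2 n116426 = n53662 := d4_1 D116426 F181620 (iv2 D116421)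
def n116427 : Q := act 3 n53662
theorem D116427 : act 3 n53662 = n116427 := rfl
def n116428 : Q := act 4 n53662
theorem D116428 : act 4 n53662 = n116428 := rfl
def n116429 : Q := act 5 n53662
theorem D116429 : act 5 n53662 = n116429 := rfl
def n116430 : Q := act 6 n53662
theorem D116430 : act 6 n53662 = n116430 := rfl
def n116431 : Q := act 0 n53663
theorem D116431 : act 0 n53663 = n116431 := rfl
def n116432 : Q := act 1 n53663
theorem D116432 : act 1 n53663 = n116432 := rfl
def n116433 : Q := act 4 n53663
theorem D116433 : act 4 n53663 = n116433 := rfl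
def n116434 : Q := act 7 n53663
theorem D116434 : act 7 n53663 = n116434 := rfl
theorem F181622 : act 3 n116434 = n53672 := d8_1 D116434 (iv7 D53672) (iv3 F84660)
theorem F181623 : act 5 n116434 = n53664 := d13_1 D116434 (iv7 D53664) D53663
def n116435 : Q := act 3 n53665
theorem D116435 : act 3 n53665 = n116435 := rfl
theorem F181624 : act 7 n116435 = n66866 := d8_2 (iv7 F110657) D116435 (iv3 D66866)
def n116436 : Q := act 5 n53665
theorem D116436 : act 5 n53665 = n116436 := rfl
theorem F181625 : act 2 n116436 = n66863 := d2_1 D116436 (iv5 D66863) (iv2 F110655)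
theorem F181626 : act 7 n116436 = n66868 := d13_2 (iv7 F110657) D116436 (iv5 D66868)
def n116437 : Q := act 6 n53665
theorem D116437 : act 6 n53665 = n116437 := rfl
theorem F181627 : act 2 n116437 = n66864 := d3_1 D116437 (iv6 D66864) (iv2 F110655)
theorem F181629 : act 7 n116437 = n73850 := d14_2 (iv7 F110657) D116437 (iv6 D73850) (iv7 F87280) F105821
def n116438 : Q := act 3 n53666
theorem D116438 : act 3 n53666 = n116438 := rfl
theorem F181630 : act 6 n116438 = n73856 := d7_2 (iv6 F110653) D116438 (iv3 D73856)
theorem F181631 : act 7 n116438 = n66861 := d8_2 (iv7 F110654) D116438 (iv3 D66861)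
def n116439 : Q := act 5 n53666
theorem D116439 : act 5 n53666 = n116439 := rfl
theorem F181632 : act 2 n116439 = n66868 := d2_1 D116439 (iv5 D66868) (iv2 F110651)
def n116440 : Q := act 0 n53667
theorem D116440 : act 0 n53667 = n116440 := rfl
def n116441 : Q := act 1 n53667
theorem D116441 : act 1 n53667 = n116441 := rfl
theorem F181634 : act 1 n116441 = n66873 := d15_1 D116441 (iv7 D66873) (iv2 F84664)
theorem F181635 : act 5 n67261 = n116441 := d21_6 (iv5 D14568) F11223 (iv5 F11279) D14757 D31286 D67261 (iv1 D116441) (iv5 D53667) (iv6 D25976) (iv1 F24229)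
def n116443 : Q := act 7 n53667
theorem D116443 : act 7 n53667 = n116443 := rfl
theorem F181638 : act 2 n116443 = n66873 := d4_1 D116443 (iv7 D66873) (iv2 F84664)
theorem F181639 : act 5 n116443 = n53668 := d13_1 D116443 (iv7 D53668) D53667
theorem F181640 : act 1 n66873 = n116440 := d15_0 (iv0 D116440) D116443 F181638
theorem F181641 : act 1 n66871 = n116443 := d15_1 D66871 (iv7 D116443) F84664
theorem F181642 : act 5 n67345 = n116440 := d21_0 (iv1 F181640) F102724 (iv6 F84719) (iv1 F84721) D66984 (iv5 F103207) (iv1 F103211) (iv5 D31307) D31308 D67345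
theorem F181643 : act 1 n116443 = n66870 := d15_0 (iv0 D66870) D66873 (iv2 F181638)
def n116444 : Q := act 3 n53669
theorem D116444 : act 3 n53669 = n116444 := rfl
theorem F181644 : act 5 n116444 = n62686 := d6_2 (iv5 F84672) D116444 (iv3 D62686)
theorem F181645 : act 7 n116444 = n66876 := d8_2 F84674 D116444 (iv3 D66876)
def n116445 : Q := act 6 n53669
theorem D116445 : act 6 n53669 = n116445 := rfl
theorem F181647 : act 5 n116445 = n61579 := d12_1 D116445 F96125 F46823 (iv6 F47619) (iv5 F84672)
def n116446 : Q := act 3 n53670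
theorem D116446 : act 3 n53670 = n116446 := rfl
theorem F181648 : act 5 n116446 = n116079 := d6_2 F84678 D116446 F180849
theorem F181649 : act 7 n116446 = n66874 := d8_2 (iv7 F84677) D116446 (iv3 D66874)
theorem F181650 : act 0 n116446 = n53733 := d21_7 F41087 (iv1 F41100) (iv5 F171172) D115805 F180845 D116079 (iv5 F181648) (iv5 D53733) (iv6 D25997) D25992
def n116447 : Q := act 6 n53670
theorem D116447 : act 6 n53670 = n116447 := rfl
theorem F181652 : act 5 n116447 = n116080 := d12_1 D116447 (iv6 D116080) (iv5 D53500) D53501 F84678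
def n116448 : Q := act 3 n53671
theorem D116448 : act 3 n53671 = n116448 := rfl
def n116449 : Q := act 5 n53671
theorem D116449 : act 5 n53671 = n116449 := rfl
theorem F181653 : act 2 n116449 = n66881 := d2_1 D116449 (iv5 D66881) (iv2 F84680)
theorem F181654 : act 4 n116449 = n62166 := d16_2 D53671 D116449 (iv5 D62166) (iv4 D29427) (iv5 F37139) F37138 (iv5 F49511) (iv7 D31161) (iv2 F41057)
def n116450 : Q := act 7 n53671
theorem D116450 : act 7 n53671 = n116450 := rfl
theorem F181655 : act 2 n116450 = n66882 := d4_1 D116450 (iv7 D66882) (iv2 F84680)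
theorem F181656 : act 4 n116450 = n53672 := d11_1 D116450 (iv7 D53672) D53671
theorem F181657 : act 1 n66879 = n116450 := d15_1 D66879 (iv7 D116450) F84680
def n116451 : Q := act 6 n53672
theorem D116451 : act 6 n53672 = n116451 := rfl
def n116452 : Q := act 5 n53674
theorem D116452 : act 5 n53674 = n116452 := rfl
theorem F181661 : act 2 n116452 = n67105 := d2_1 D116452 (iv5 D67105) (iv2 F102965)
theorem F181662 : act 3 n116452 = n53676 := d6_1 D116452 (iv5 D53676) D53674
theorem F181663 : act 7 n116452 = n66755 := d13_2 (iv7 F102966) D116452 (iv5 D66755)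
theorem F181664 : act 4 n116452 = n65744 := d18_5 (iv1 F41020) (iv4 F84535) (iv1 F84539) (iv4 F84686) D116452 F180775 (iv4 D116024) F84380 (iv5 F105775)
theorem E17965 : n53792 = n53676 := (c20_5 (iv4 D6459) (iv1 F9076) (iv4 F20473) D26013 D53792 (iv3 F181662) F181664 (iv1 D65744) (iv4 D30780) F24239 (iv1 F11232))
theorem F181665 : act 0 n53676 = n31283 := (sb E17965 (iv1 F84816))
theorem F181666 : act 1 n53676 = n26013 := (sb E17965 (iv0 D53792))
theorem E17966 : n53793 = n53681 := (c15_2 F181666 D53793 F102960 (iv2 F102969))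
theorem F181667 : act 0 n53681 = n26013 := (sb E17966 (iv1 D53793))
theorem F181668 : act 1 n53681 = n31283 := (sb E17966 F84821)
theorem E17967 : n67184 = n67105 := ((c15_4 (iv0 D67184) (iv0 F181271) (iv7 F181663) F181661)).symm
theorem F181669 : act 1 n67105 = n31267 := (sb E17967 (iv0 D67184))
theorem F181670 : act 4 n67105 = n116040 := (sb E17967 (iv4 F180791))
theorem F181671 : act 2 n116040 = n65744 := d1_1 F181670 (iv4 F181664) F181661
theorem E17968 : n116038 = n25955 := (c18_10 (iv1 D25955) (iv4 F41011) D53581 (iv4 F84533) D67105 F181670 (iv0 D116040) (iv4 D53485) D53484 D116038)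
theorem E17969 : n53606 = n53484 := ((D53606).symm.trans (sb E17968 (iv5 D116038)))
theorem E17970 : n116287 = n25908 := ((((iv1 D53484)).symm.trans (sb E17969 (iv1 F181267)))).symm
theorem E17972 : n116035 = n30778 := (((iv2 F180789)).symm.trans (sb E17969 F105772))
theorem E17973 : n116294 = n116036 := (((D116036).symm.trans (sb E17969 (iv3 F181280)))).symm
theorem E17974 : n116298 = n116037 := (((D116037).symm.trans (sb E17969 D116298))).symm
theorem F181672 : act 5 n53484 = n25955 := (sb E17969 (iv5 D53606))
theorem E17975 : n116299 = n116039 := (((D116039).symm.trans (sb E17969 D116299))).symm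
theorem E17976 : n116030 = n30779 := ((F180788).symm.trans (sb E17969 F105773))
theorem E17977 : n53601 = n53483 := (((D53483).symm.trans (sb E17970 (iv1 D116287)))).symm
theorem F181673 : act 2 n30778 = n53484 := (sb E17972 F180789)
theorem F181674 : act 0 n116036 = n69198 := (sb E17973 F181282)
theorem F181675 : act 1 n116036 = n69201 := (sb E17973 F181283)
theorem F181676 : act 5 n116036 = n53604 := (sb E17973 (iv5 D116294))
theorem F181677 : act 7 n116036 = n65739 := (sb E17973 F181281)
theorem F181678 : act 2 n116037 = n65735 := (sb E17974 F181289)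
theorem F181679 : act 7 n116037 = n65740 := (sb E17974 F181290)
theorem F181680 : act 2 n116039 = n65737 := (sb E17975 F181291)
theorem F181681 : act 7 n30779 = n53484 := (sb E17976 (iv7 F180788))
theorem F181682 : act 2 n53483 = n30779 := (sb E17977 F105776)
theorem E17978 : n116281 = n116031 := (((D116031).symm.trans (sb E17977 (iv3 F181233)))).symm
theorem E17979 : n116288 = n116032 := (((D116032).symm.trans (sb E17977 D116288))).symm
theorem E17980 : n116033 = n25954 := ((D116033).symm.trans (sb E17977 (iv5 D53601)))
theorem E17981 : n116289 = n116034 := (((D116034).symm.trans (sb E17977 D116289))).symm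
theorem F181683 : act 7 n53483 = n30778 := (sb E17977 F105777)
theorem F181684 : act 0 n116031 = n105840 := (sb E17978 F181235)
theorem F181685 : act 5 n116031 = n53599 := (sb E17978 (iv5 D116281))
theorem F181686 : act 7 n116031 = n65734 := (sb E17978 F181234)
theorem F181687 : act 2 n116032 = n65740 := (sb E17979 F181268)
theorem F181688 : act 7 n116032 = n65735 := (sb E17979 F181269)
theorem F181689 : act 5 n25954 = n53483 := (sb E17980 (iv5 D116033))
theorem F181690 : act 2 n116034 = n65742 := (sb E17981 F181272)
theorem E17982 : n116247 = n115955 := ((c17_7 D25954 F181689 (iv1 F84383) (iv5 D30776) (iv4 F49138) D65468 F180564 (iv5 D116247) (iv0 D53581) F41011)).symm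
theorem F181691 : act 2 n115955 = n65471 := (sb E17982 F181196)
theorem F181692 : act 5 n115955 = n53581 := (sb E17982 (iv5 D116247))
theorem F181693 : act 7 n115955 = n65470 := (sb E17982 F181197)
theorem E17983 : n67238 = n66755 := (c18_4 (iv1 F84383) D65727 (iv1 F180792) (iv4 F180793) (iv5 D66755) F84534 F84538 F49382 F41017 F181689)
theorem E17984 : n31281 = n31128 := (((F102623).symm.trans (sb E17983 (iv3 D67238)))).symm
theorem F181694 : act 4 n66755 = n116041 := (sb E17983 F180793)
theorem E17985 : n66764 = n53794 := ((D66764).symm.trans (sb E17984 (iv1 F84820)))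
theorem E17986 : n66765 = n14756 := ((D66765).symm.trans (sb E17984 (iv0 D31281)))
theorem E17992 : n31282 = n31133 := (((iv1 F84822)).symm.trans (sb E17985 (iv1 F102636)))
theorem F181695 : act 1 n53794 = n31128 := (sb E17985 (iv0 D66764))
theorem F181696 : act 0 n14756 = n31128 := (sb E17986 (iv1 D66765))
theorem F181697 : act 0 n31133 = n14756 := (sb E17992 (iv1 D31282))
theorem F181698 : act 1 n31133 = n53794 := (sb E17992 F84822)
theorem E17997 : n67547 = n66801 := (c17_7 (iv1 F41069) D31133 F181697 F24404 (iv4 F24444) D31382 D67547 (iv5 D66801) (iv0 F84690) (iv4 D53683))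
theorem F181699 : act 0 n66801 = n31382 := (sb E17997 (iv1 D67547))
theorem F181700 : act 7 n116041 = n65744 := d11_2 F181663 F181694 (iv4 F181664)
theorem F181701 : act 2 n116041 = n65743 := d15_3 (iv0 D65743) D65744 (iv7 F181700)
theorem F181702 : act 7 n65743 = n116040 := d4_2 (iv7 F181700) F181701 F181671
theorem E17998 : n116250 = n115956 := (c15_4 F180565 F180564 F181693 (iv2 F181202))
theorem F181703 : act 2 n115956 = n65470 := (sb E17998 F181202)
theorem F181704 : act 5 n115956 = n53582 := (sb E17998 (iv5 D116250))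
theorem F181705 : act 7 n115956 = n65471 := (sb E17998 F181203)
def n116453 : Q := act 6 n53674
theorem D116453 : act 6 n53674 = n116453 := rfl
def n116454 : Q := act 0 n53675
theorem D116454 : act 0 n53675 = n116454 := rfl
theorem F181709 : act 4 n116454 = n66304 := d20_2 D53675 D116454 (iv3 D66304) (iv1 D30973) (iv3 D14660) F11264 (iv1 F7605) (iv4 F9004) D12321 D25981
theorem F181710 : act 1 n53680 = n116454 := d15_0 (iv0 D116454) F102968 (iv2 F102957)
theorem F181711 : act 2 n66759 = n116454 := d1_3 F181709 (iv2 F179970) F179972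
theorem F181712 : act 7 n66758 = n116454 := d11_0 F181709 F173683 (iv4 F102626)
def n116455 : Q := act 1 n53675
theorem D116455 : act 1 n53675 = n116455 := rfl
theorem F181713 : act 1 n116455 = n53680 := d15_1 D116455 F102958 (iv2 F102967)
theorem F181714 : act 7 n116455 = n66759 := d15_2 (iv0 D116454) D116455 F181711
theorem F181715 : act 4 n66590 = n116455 := d20_0 (iv1 D116455) (iv4 D53675) D53674 F102935 (iv3 D31207) D31208 (iv1 F103004) (iv4 F100654) (iv3 F102657) (iv1 F102659)
theorem F181716 : act 2 n116455 = n66758 := d1_1 F181715 F102626 (iv2 F179984)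
theorem F181717 : act 3 n116455 = n60471 := d5_1 F181715 (iv4 F179955) F179954 (iv4 F179981) (iv3 F179985)
def n116456 : Q := act 3 n53675
theorem D116456 : act 3 n53675 = n116456 := rfl
theorem F181718 : act 4 n116456 = n66228 := d5_2 D53675 D116456 (iv3 D66228) (iv4 F84686) (iv3 D53674)
theorem F181719 : act 7 n116456 = n66760 := d8_2 (iv7 F102968) D116456 (iv3 D66760)
def n116457 : Q := act 5 n53675
theorem D116457 : act 5 n53675 = n116457 := rfl
theorem F181720 : act 2 n116457 = n66780 := d2_1 D116457 (iv5 D66780) (iv2 F102967)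
theorem F181721 : act 7 n116457 = n66761 := d13_2 (iv7 F102968) D116457 (iv5 D66761)
def n116458 : Q := act 6 n53675
theorem D116458 : act 6 n53675 = n116458 := rfl
def n116459 : Q := act 4 n53676
theorem D116459 : act 4 n53676 = n116459 := rfl
theorem F181724 : act 2 n116459 = n66782 := d1_1 D116459 (iv4 D66782) (iv2 F102969)
theorem F181725 : act 7 n116459 = n66766 := d11_2 (iv7 F102970) D116459 (iv4 D66766)
def n116460 : Q := act 6 n53676
theorem D116460 : act 6 n53676 = n116460 := rfl
theorem F181726 : act 2 n116460 = n66783 := d3_1 D116460 (iv6 D66783) (iv2 F102969)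
def n116465 : Q := act 0 n53679
theorem D116465 : act 0 n53679 = n116465 := rfl
theorem F181734 : act 3 n116465 = n53738 := d20_5 (iv4 F181709) (iv1 F181710) (iv4 D53680) D53679 D116465 (iv4 F181474) (iv1 D66596) (iv4 D31073) D31072 (iv1 F179988)
theorem F181735 : act 4 n116465 = n59598 := d20_0 F181467 F45785 (iv3 F37153) (iv1 F49403) D66304 (iv4 F181709) (iv1 F181710) (iv4 D53680) D53679 D116465
theorem F181736 : act 2 n53719 = n116465 := d15_3 (iv0 D116465) F102803 D53719
theorem F181737 : act 1 n53714 = n116465 := d15_0 (iv0 D116465) F102955 (iv2 F102951)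
theorem F181738 : act 7 n116465 = n53715 := d15_2 D53714 F181737 (iv2 D53715)
def n116466 : Q := act 2 n53679
theorem D116466 : act 2 n53679 = n116466 := rfl
theorem F181739 : act 3 n116466 = n66224 := d0_2 D53679 D116466 F102980 (iv3 D31126) F102956
theorem F181740 : act 7 n116466 = n53714 := d4_2 (iv7 F102955) D116466 F102951
theorem F181741 : act 1 n116466 = n53715 := d15_0 F181448 (iv7 F102955) D116466
theorem F181742 : act 1 n53719 = n116466 := d15_0 F181741 (iv7 F181738) (iv2 F181736)
theorem F181743 : act 5 n116466 = n69472 := d18_9 (iv1 D69472) F94117 (iv1 D59751) (iv4 D28342) (iv5 D13521) (iv4 F22650) D28285 (iv4 F181454) F181742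
def n116467 : Q := act 5 n53679
theorem D116467 : act 5 n53679 = n116467 := rfl
theorem F181745 : act 3 n116467 = n53681 := d6_1 D116467 (iv5 D53681) D53679
theorem F181746 : act 7 n116467 = n66777 := d13_2 (iv7 F102955) D116467 (iv5 D66777)
theorem F181747 : act 0 n116467 = n69473 := d18_0 (iv4 F173394) (iv1 F162501) (iv4 D59738) (iv5 D28339) (iv4 F45785) (iv0 F181467) (iv4 F181735) (iv0 D116465) D116467
theorem F181748 : act 1 n116467 = n53764 := d15_1 (iv0 F181747) F173378 D69473
def n116468 : Q := act 6 n53679
theorem D116468 : act 6 n53679 = n116468 := rfl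
theorem F181749 : act 3 n116468 = n53682 := d7_1 D116468 (iv6 D53682) D53679
def n116469 : Q := act 3 n53680
theorem D116469 : act 3 n53680 = n116469 := rfl
theorem F181750 : act 7 n116469 = n66779 := d8_2 (iv7 F102958) D116469 (iv3 D66779)
theorem F181751 : act 0 n59573 = n116469 := d20_4 (iv4 D25355) D25354 (iv4 F46320) (iv3 F93996) (iv3 D116469) (iv4 D53680) (iv1 D25982) D25984 F41070 (iv1 F40078)
def n116470 : Q := act 5 n53680
theorem D116470 : act 5 n53680 = n116470 := rfl
theorem F181752 : act 2 n116470 = n66761 := d2_1 D116470 (iv5 D66761) (iv2 F102957)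
theorem F181753 : act 7 n116470 = n66780 := d13_2 (iv7 F102958) D116470 (iv5 D66780)
def n116471 : Q := act 6 n53680
theorem D116471 : act 6 n53680 = n116471 := rfl
theorem F181754 : act 2 n116471 = n66762 := d3_1 D116471 (iv6 D66762) (iv2 F102957)
theorem F181755 : act 4 n116471 = n53682 := d10_1 D116471 (iv6 D53682) D53680
def n116472 : Q := act 4 n53681
theorem D116472 : act 4 n53681 = n116472 := rfl
theorem F181756 : act 2 n116472 = n66766 := d1_1 D116472 (iv4 D66766) (iv2 F102959)
theorem F181757 : act 7 n116472 = n66782 := d11_2 (iv7 F102960) D116472 (iv4 D66782)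
def n116473 : Q := act 6 n53681
theorem D116473 : act 6 n53681 = n116473 := rfl
theorem F181758 : act 2 n116473 = n66767 := d3_1 D116473 (iv6 D66767) (iv2 F102959)
def n116474 : Q := act 0 n53682
theorem D116474 : act 0 n53682 = n116474 := rfl
def n116475 : Q := act 1 n53682
theorem D116475 : act 1 n53682 = n116475 := rfl
def n116476 : Q := act 5 n53682
theorem D116476 : act 5 n53682 = n116476 := rfl
theorem F181760 : act 2 n116476 = n66771 := d2_1 D116476 (iv5 D66771) (iv2 F102961)
def n116477 : Q := act 7 n53682
theorem D116477 : act 7 n53682 = n116477 := rfl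
theorem F181761 : act 2 n116477 = n66772 := d4_1 D116477 (iv7 D66772) (iv2 F102961)
theorem F181764 : act 1 n66770 = n116477 := d15_1 D66770 (iv7 D116477) F102961
theorem F181765 : act 1 n116477 = n66769 := d15_0 (iv0 D66769) D66772 (iv2 F181761)
def n116478 : Q := act 5 n53683
theorem D116478 : act 5 n53683 = n116478 := rfl
theorem F181766 : act 2 n116478 = n53688 := d2_1 D116478 (iv5 D53688) (iv2 F84688)
theorem F181767 : act 7 n116478 = n66789 := d13_2 (iv7 F84689) D116478 (iv5 D66789)
theorem F181768 : act 1 n116478 = n66803 := d17_6 D26080 (iv5 F181596) (iv1 F84696) (iv5 D53684) D53683 D116478 F181606 (iv0 D53924) F41247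
theorem F181769 : act 1 n66804 = n116478 := d15_0 F181768 (iv7 F181605) (iv2 F181602)
def n116479 : Q := act 6 n53683
theorem D116479 : act 6 n53683 = n116479 := rfl
theorem F181770 : act 2 n116479 = n53689 := d3_1 D116479 (iv6 D53689) (iv2 F84688)
theorem F181771 : act 4 n116479 = n53685 := d10_1 D116479 (iv6 D53685) D53683
def n116480 : Q := act 4 n53684
theorem D116480 : act 4 n53684 = n116480 := rfl
theorem F181772 : act 2 n116480 = n53692 := d1_1 D116480 (iv4 D53692) (iv2 F84692)
theorem F181773 : act 7 n116480 = n66791 := d11_2 (iv7 F84694) D116480 (iv4 D66791)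
theorem F181774 : act 0 n116480 = n66822 := d18_2 (iv1 F84696) D116480 (iv4 F102666) F180308 F85052 (iv0 F85053) F49644 F41255 (iv5 F181596)
theorem F181775 : act 5 n68543 = n66822 := d17_7 (iv1 F84695) F181599 (iv1 D26081) (iv5 F41109) D53795 (iv5 F84825) D68543 (iv0 F181774) (iv4 D116480)
theorem F181776 : act 3 n68544 = n116480 := d0_0 F181772 F84708 F41307 D31889 D68544
theorem F181777 : act 1 n116480 = n66821 := d15_0 (iv0 D66821) (iv7 F84709) (iv2 F181772)
def n116481 : Q := act 6 n53684
theorem D116481 : act 6 n53684 = n116481 := rfl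
theorem F181778 : act 2 n116481 = n53693 := d3_1 D116481 (iv6 D53693) (iv2 F84692)
def n116482 : Q := act 0 n53685
theorem D116482 : act 0 n53685 = n116482 := rfl
def n116483 : Q := act 1 n53685
theorem D116483 : act 1 n53685 = n116483 := rfl
theorem F181780 : act 1 n116483 = n53697 := d15_1 D116483 (iv7 D53697) (iv2 F84697)
def n116484 : Q := act 5 n53685
theorem D116484 : act 5 n53685 = n116484 := rfl
theorem F181781 : act 2 n116484 = n53696 := d2_1 D116484 (iv5 D53696) (iv2 F84697)
def n116485 : Q := act 7 n53685
theorem D116485 : act 7 n53685 = n116485 := rfl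
theorem F181783 : act 2 n116485 = n53697 := d4_1 D116485 (iv7 D53697) (iv2 F84697)
theorem F181785 : act 6 n116485 = n66796 := d14_1 D116485 (iv7 D66796) (iv6 D31137) (iv7 F41066) D53685
theorem F181786 : act 1 n53697 = n116482 := d15_0 (iv0 D116482) D116485 F181783
theorem F181787 : act 1 n53695 = n116485 := d15_1 D53695 (iv7 D116485) F84697
theorem F181788 : act 1 n116485 = n53694 := d15_0 (iv0 D53694) D53697 (iv2 F181783)
def n116486 : Q := act 3 n53686
theorem D116486 : act 3 n53686 = n116486 := rfl
theorem F181789 : act 4 n116486 = n63965 := d5_2 (iv4 F102515) D116486 F102544 (iv4 F102542) F102514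
theorem F181790 : act 7 n116486 = n64651 := d8_2 F102518 D116486 (iv3 F100557)
theorem F181791 : act 2 n64646 = n116486 := d1_3 F181789 F102543 D64646
def n116487 : Q := act 5 n53686
theorem D116487 : act 5 n53686 = n116487 := rfl
theorem F181792 : act 2 n116487 = n66801 := d2_1 D116487 (iv5 D66801) F102516
theorem F181793 : act 7 n116487 = n66798 := d13_2 F102518 D116487 (iv5 D66798)
theorem F181794 : act 0 n116487 = n67544 := d17_2 D53686 D116487 (iv5 D67544) F49644 (iv5 F49566) (iv0 F181665) (iv5 D53676) (iv0 D25981) D25984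
theorem F181795 : act 1 n116487 = n53927 := d15_1 (iv0 F181794) F85059 (iv2 F103436)
def n116488 : Q := act 6 n53686
theorem D116488 : act 6 n53686 = n116488 := rfl
def n116489 : Q := act 3 n53687
theorem D116489 : act 3 n53687 = n116489 := rfl
theorem F181797 : act 4 n116489 = n116131 := d5_2 F84701 D116489 (iv3 D116131) (iv4 D53527) D53526
theorem F181798 : act 7 n116489 = n66800 := d8_2 (iv7 F102517) D116489 (iv3 D66800)
def n116490 : Q := act 5 n53687
theorem D116490 : act 5 n53687 = n116490 := rfl
theorem F181799 : act 2 n116490 = n66798 := d2_1 D116490 (iv5 D66798) (iv2 F102519)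
theorem F181800 : act 7 n116490 = n66801 := d13_2 (iv7 F102517) D116490 (iv5 D66801)
theorem F181801 : act 0 n116490 = n53927 := d17_2 (iv1 F84700) D116490 (iv5 D53927) F41247 (iv5 F41109) (iv0 F181667) (iv5 D53681) F41068 D31135
theorem E17999 : n67546 = n66798 := ((c15_4 (iv0 D67546) (iv0 F181699) (iv7 F181800) F181799)).symm
theorem F181802 : act 1 n66798 = n31382 := (sb E17999 (iv0 D67546))
theorem F181803 : act 1 n116490 = n67544 := d15_0 (iv0 F181794) F181793 (iv2 F181799)
def n116491 : Q := act 6 n53687
theorem D116491 : act 6 n53687 = n116491 := rfl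
theorem F181804 : act 2 n116491 = n66799 := d3_1 D116491 (iv6 D66799) (iv2 F102519)
theorem F181805 : act 4 n116491 = n116129 := d10_1 D116491 (iv6 D116129) F84701
def n116492 : Q := act 4 n53688
theorem D116492 : act 4 n53688 = n116492 := rfl
theorem F181806 : act 7 n116492 = n66805 := d11_2 (iv7 F84703) D116492 (iv4 D66805)
def n116493 : Q := act 6 n53688
theorem D116493 : act 6 n53688 = n116493 := rfl
theorem F181807 : act 3 n116493 = n59664 := d7_1 D116493 (iv6 D59664) (iv3 F84702)
def n116494 : Q := act 0 n53689
theorem D116494 : act 0 n53689 = n116494 := rfl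
def n116495 : Q := act 1 n53689
theorem D116495 : act 1 n53689 = n116495 := rfl
def n116496 : Q := act 5 n53689
theorem D116496 : act 5 n53689 = n116496 := rfl
theorem F181808 : act 3 n116496 = n59667 := d6_1 D116496 (iv5 D59667) (iv3 F84704)
def n116497 : Q := act 7 n53689
theorem D116497 : act 7 n53689 = n116497 := rfl
theorem F181809 : act 3 n116497 = n59668 := d8_1 D116497 (iv7 D59668) (iv3 F84704)
theorem F181810 : act 4 n116497 = n53697 := d11_1 D116497 (iv7 D53697) (iv4 F84705)
theorem F181811 : act 6 n116497 = n66810 := d14_1 D116497 (iv7 D66810) (iv6 D31141) (iv7 F41071) D53689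
def n116498 : Q := act 0 n53692
theorem D116498 : act 0 n53692 = n116498 := rfl
theorem F181812 : act 1 n66791 = n116498 := d15_0 (iv0 D116498) F84709 (iv2 F102648)
def n116499 : Q := act 1 n53692
theorem D116499 : act 1 n53692 = n116499 := rfl
theorem F181813 : act 1 n116499 = n66791 := d15_1 D116499 (iv7 F181773) F181772
theorem F181814 : act 4 n66032 = n116499 := d20_6 F24222 F11327 (iv4 F20417) (iv3 F40989) F180969 (iv3 F101712) (iv1 D116499) (iv4 D53692) F41072 (iv1 F24224)
theorem F181815 : act 7 n116499 = n66822 := d11_2 F180309 F181814 (iv4 F102666)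
theorem F181816 : act 2 n66822 = n116498 := d15_3 (iv0 D116498) D116499 F181815
theorem F181817 : act 2 n116499 = n66821 := d15_3 (iv0 D66821) D66822 (iv7 F181815)
theorem F181818 : act 7 n66821 = n116498 := d4_2 (iv7 F181815) F181817 (iv2 F181816)
def n116500 : Q := act 6 n53692
theorem D116500 : act 6 n53692 = n116500 := rfl
theorem F181819 : act 3 n116500 = n53992 := d7_1 D116500 (iv6 D53992) (iv3 F84708)
theorem F181820 : act 4 n116500 = n53693 := d10_1 D116500 (iv6 D53693) D53692
def n116501 : Q := act 0 n53693
theorem D116501 : act 0 n53693 = n116501 := rfl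
def n116502 : Q := act 1 n53693
theorem D116502 : act 1 n53693 = n116502 := rfl
def n116503 : Q := act 5 n53693
theorem D116503 : act 5 n53693 = n116503 := rfl
def n116504 : Q := act 7 n53693
theorem D116504 : act 7 n53693 = n116504 := rfl
theorem F181823 : act 3 n116504 = n53701 := d8_1 D116504 (iv7 D53701) (iv3 F84710)
def n116505 : Q := act 2 n53694
theorem D116505 : act 2 n53694 = n116505 := rfl
theorem F181825 : act 7 n53695 = n116505 := d15_2 (iv0 D53694) D53695 (iv2 D116505)
def n116506 : Q := act 3 n53694
theorem D116506 : act 3 n53694 = n116506 := rfl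
def n116507 : Q := act 4 n53694
theorem D116507 : act 4 n53694 = n116507 := rfl
def n116508 : Q := act 5 n53694
theorem D116508 : act 5 n53694 = n116508 := rfl
def n116509 : Q := act 6 n53694
theorem D116509 : act 6 n53694 = n116509 := rfl
def n116510 : Q := act 7 n53694
theorem D116510 : act 7 n53694 = n116510 := rfl
theorem F181826 : act 2 n116510 = n53695 := d4_1 D116510 F181825 (iv2 D116505)
def n116511 : Q := act 3 n53695
theorem D116511 : act 3 n53695 = n116511 := rfl
def n116512 : Q := act 4 n53695
theorem D116512 : act 4 n53695 = n116512 := rfl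
def n116513 : Q := act 5 n53695
theorem D116513 : act 5 n53695 = n116513 := rfl
def n116514 : Q := act 6 n53695
theorem D116514 : act 6 n53695 = n116514 := rfl
def n116519 : Q := act 2 n53698
theorem D116519 : act 2 n53698 = n116519 := rfl
theorem F181829 : act 7 n53699 = n116519 := d15_2 (iv0 D53698) D53699 (iv2 D116519)
def n116521 : Q := act 4 n53698
theorem D116521 : act 4 n53698 = n116521 := rfl
def n116523 : Q := act 6 n53698
theorem D116523 : act 6 n53698 = n116523 := rfl
def n116526 : Q := act 4 n53699
theorem D116526 : act 4 n53699 = n116526 := rfl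
def n116528 : Q := act 6 n53699
theorem D116528 : act 6 n53699 = n116528 := rfl
def n116529 : Q := act 0 n53700
theorem D116529 : act 0 n53700 = n116529 := rfl
def n116530 : Q := act 1 n53700
theorem D116530 : act 1 n53700 = n116530 := rfl
theorem F181831 : act 1 n116530 = n66988 := d15_1 D116530 (iv7 D66988) (iv2 F84715)
theorem F181832 : act 5 n67295 = n116530 := d21_6 (iv5 D14562) F11220 (iv5 F11283) D14759 D31295 D67295 (iv1 D116530) (iv5 D53700) (iv6 D25987) (iv1 F24224)
theorem E18000 : n116521 = n26147 := (c17_10 (iv1 F41459) (iv5 F50366) (iv1 F85284) (iv5 F85285) (iv4 F110639) F181832 F181831 F102912 F84720 D116521)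
theorem E18001 : n54051 = n53698 := ((D54051).symm.trans (sb E18000 (iv4 D116521)))
theorem E18002 : n116519 = n31186 := ((D116519).symm.trans (sb E18001 F105985))
theorem F181833 : act 4 n53698 = n26147 := (sb E18001 (iv4 D54051))
theorem F181834 : act 2 n31186 = n53698 := (sb E18002 (iv2 D116519))
theorem E18004 : n54056 = n53699 := (((iv7 F105978)).symm.trans (sb E18002 (iv7 F181829)))
theorem E18005 : n116526 = n26148 := ((D116526).symm.trans (sb E18004 (iv4 D54056)))
theorem F181838 : act 4 n26148 = n53699 := (sb E18005 (iv4 D116526))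
theorem F181839 : act 4 n116528 = n54058 := d10_3 (iv6 D54058) F181838 D116528
theorem F181840 : act 5 n116529 = n69628 := d17_3 (iv1 D53699) D53700 D116529 (iv4 D69628) F85292 (iv0 D54059) (iv5 D26149) D26148 F181838
theorem F181841 : act 2 n66984 = n116528 := d1_3 F181839 F105974 (iv4 F104976)
theorem F181848 : act 2 n116523 = n66979 := d3_3 (iv6 D66979) F181834 D116523
theorem F181849 : act 4 n54053 = n116523 := d1_0 F181848 F104981 (iv2 F105989)
theorem F181850 : act 7 n116523 = n73873 := d11_2 (iv7 F105990) F181849 (iv4 D73873)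
theorem F181851 : act 1 n106086 = n73873 := d15_1 (iv0 F163062) (iv7 F181850) F181848
def n116532 : Q := act 7 n53700
theorem D116532 : act 7 n53700 = n116532 := rfl
theorem F181854 : act 2 n116532 = n66988 := d4_1 D116532 (iv7 D66988) (iv2 F84715)
theorem F181855 : act 5 n116532 = n53701 := d13_1 D116532 (iv7 D53701) D53700
theorem F181856 : act 1 n66988 = n116529 := d15_0 (iv0 D116529) D116532 F181854
theorem F181857 : act 1 n66986 = n116532 := d15_1 D66986 (iv7 D116532) F84715
theorem E18006 : n69628 = n69538 := (c17_8 D105851 F162548 (iv1 F85179) F50185 (iv4 F49525) (iv5 F102912) F181856 F181840 (iv0 D69538) (iv4 F77154))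
theorem F181858 : act 4 n69538 = n32322 := (sb E18006 (iv4 D69628))
theorem F181859 : act 5 n69538 = n116529 := (sb E18006 (iv5 F181840))
def n116541 : Q := act 5 n53706
theorem D116541 : act 5 n53706 = n116541 := rfl
theorem F181880 : act 2 n116541 = n53782 := d2_1 D116541 (iv5 D53782) (iv2 F84736)
theorem F181881 : act 3 n116541 = n66999 := d6_1 D116541 (iv5 D66999) (iv3 F84737)
theorem F181882 : act 6 n116541 = n69502 := d12_2 D53706 D116541 (iv5 D69502) (iv6 D32273) (iv5 F41087)
def n116542 : Q := act 5 n53709
theorem D116542 : act 5 n53709 = n116542 := rfl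
theorem F181883 : act 3 n116542 = n53711 := d6_1 D116542 (iv5 D53711) D53709
theorem F181884 : act 7 n116542 = n53740 := d13_2 (iv7 F84740) D116542 (iv5 D53740)
def n116543 : Q := act 6 n53709
theorem D116543 : act 6 n53709 = n116543 := rfl
theorem F181885 : act 3 n116543 = n53712 := d7_1 D116543 (iv6 D53712) D53709
def n116544 : Q := act 5 n53710
theorem D116544 : act 5 n53710 = n116544 := rfl
theorem F181886 : act 2 n116544 = n53723 := d2_1 D116544 (iv5 D53723) (iv2 F84741)
theorem F181887 : act 7 n116544 = n53743 := d13_2 (iv7 F84742) D116544 (iv5 D53743)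
def n116545 : Q := act 6 n53710
theorem D116545 : act 6 n53710 = n116545 := rfl
theorem F181888 : act 2 n116545 = n53724 := d3_1 D116545 (iv6 D53724) (iv2 F84741)
theorem F181889 : act 4 n116545 = n53712 := d10_1 D116545 (iv6 D53712) D53710
def n116546 : Q := act 0 n53711
theorem D116546 : act 0 n53711 = n116546 := rfl
theorem F181890 : act 1 n53730 = n116546 := d15_0 (iv0 D116546) F84744 (iv2 F84759)
def n116547 : Q := act 1 n53711
theorem D116547 : act 1 n53711 = n116547 := rfl
theorem F181891 : act 1 n116547 = n53730 := d15_1 D116547 (iv7 D53730) (iv2 F84743)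
def n116548 : Q := act 4 n53711
theorem D116548 : act 4 n53711 = n116548 := rfl
theorem F181892 : act 2 n116548 = n53728 := d1_1 D116548 (iv4 D53728) (iv2 F84743)
theorem F181893 : act 7 n116548 = n53745 := d11_2 (iv7 F84744) D116548 (iv4 D53745)
def n116549 : Q := act 6 n53711
theorem D116549 : act 6 n53711 = n116549 := rfl
theorem F181894 : act 2 n116549 = n53729 := d3_1 D116549 (iv6 D53729) (iv2 F84743)
def n116550 : Q := act 0 n53712
theorem D116550 : act 0 n53712 = n116550 := rfl
def n116551 : Q := act 1 n53712
theorem D116551 : act 1 n53712 = n116551 := rfl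
theorem F181895 : act 1 n116551 = n53734 := d15_1 D116551 (iv7 D53734) (iv2 F84745)
def n116552 : Q := act 5 n53712
theorem D116552 : act 5 n53712 = n116552 := rfl
theorem F181896 : act 2 n116552 = n53733 := d2_1 D116552 (iv5 D53733) (iv2 F84745)
def n116553 : Q := act 7 n53712
theorem D116553 : act 7 n53712 = n116553 := rfl
theorem F181897 : act 2 n116553 = n53734 := d4_1 D116553 (iv7 D53734) (iv2 F84745)
theorem F181899 : act 1 n53734 = n116550 := d15_0 (iv0 D116550) D116553 F181897
theorem F181901 : act 1 n116553 = n53731 := d15_0 (iv0 D53731) D53734 (iv2 F181897)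
def n116554 : Q := act 5 n53714
theorem D116554 : act 5 n53714 = n116554 := rfl
theorem F181902 : act 2 n116554 = n66777 := d2_1 D116554 (iv5 D66777) (iv2 F102951)
theorem F181903 : act 3 n116554 = n67105 := d6_1 D116554 (iv5 D67105) F84748
theorem F181904 : act 7 n116554 = n69472 := d13_2 F181740 D116554 (iv5 F181743)
theorem F181905 : act 0 n116554 = n53764 := d18_0 F162502 (iv1 D105809) F77129 F37189 (iv4 F45788) (iv0 F84746) (iv4 D53716) D53714 D116554
theorem E18007 : n69471 = n66777 := ((c15_4 (iv0 D69471) D69472 (iv7 F181904) F181902)).symm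
theorem F181906 : act 1 n66777 = n32264 := (sb E18007 (iv0 D69471))
theorem F181907 : act 1 n116554 = n69473 := d15_0 (iv0 F181747) F181746 (iv2 F181902)
def n116556 : Q := act 5 n53715
theorem D116556 : act 5 n53715 = n116556 := rfl
theorem F181910 : act 2 n116556 = n53717 := d2_1 D116556 (iv5 D53717) D53715
def n116557 : Q := act 6 n53715
theorem D116557 : act 6 n53715 = n116557 := rfl
theorem F181912 : act 4 n116557 = n59597 := d10_1 D116557 (iv6 D59597) (iv4 F181450)
def n116558 : Q := act 3 n53716
theorem D116558 : act 3 n53716 = n116558 := rfl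
theorem F181913 : act 4 n116558 = n53722 := d5_2 D53716 D116558 (iv3 D53722) (iv4 D25995) D25994
theorem F181914 : act 7 n116558 = n59599 := d8_2 (iv7 F181452) D116558 (iv3 D59599)
def n116559 : Q := act 5 n53716
theorem D116559 : act 5 n53716 = n116559 := rfl
def n116560 : Q := act 6 n53716
theorem D116560 : act 6 n53716 = n116560 := rfl
theorem F181917 : act 2 n116560 = n59597 := d3_1 D116560 (iv6 D59597) (iv2 F181451)
def n116561 : Q := act 0 n53717
theorem D116561 : act 0 n53717 = n116561 := rfl
def n116562 : Q := act 1 n53717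
theorem D116562 : act 1 n53717 = n116562 := rfl
def n116563 : Q := act 4 n53717
theorem D116563 : act 4 n53717 = n116563 := rfl
theorem F181919 : act 0 n116563 = n65673 := d20_7 F20438 (iv1 F11328) (iv4 F24222) (iv3 F49193) F175005 (iv3 F84749) D116563 (iv4 D65673) F49216 F24236
theorem F181920 : act 3 n67113 = n116562 := d20_9 D116563 F181919 (iv4 D65673) F49216 F24236 (iv3 F41023) D53612 D116320 F181317 (iv1 D116562)
def n116564 : Q := act 6 n53717
theorem D116564 : act 6 n53717 = n116564 := rfl
theorem F181921 : act 3 n116564 = n53729 := d7_1 D116564 (iv6 D53729) (iv3 F84749)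
def n116568 : Q := act 5 n53718
theorem D116568 : act 5 n53718 = n116568 := rfl
theorem F181924 : act 3 n116568 = n53733 := d6_1 D116568 (iv5 D53733) (iv3 F84750)
def n116569 : Q := act 7 n53718
theorem D116569 : act 7 n53718 = n116569 := rfl
theorem F181925 : act 3 n116569 = n53734 := d8_1 D116569 (iv7 D53734) (iv3 F84750)
def n116570 : Q := act 6 n53719
theorem D116570 : act 6 n53719 = n116570 := rfl
theorem F181927 : act 4 n116570 = n59601 := d10_1 D116570 (iv6 D59601) (iv4 F181454)
def n116571 : Q := act 3 n53720
theorem D116571 : act 3 n53720 = n116571 := rfl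
theorem F181928 : act 4 n116571 = n115551 := d5_2 (iv4 F84752) D116571 F179851 (iv4 D53605) D53604
def n116572 : Q := act 5 n53720
theorem D116572 : act 5 n53720 = n116572 := rfl
def n116573 : Q := act 6 n53720
theorem D116573 : act 6 n53720 = n116573 := rfl
theorem F181929 : act 4 n116573 = n116295 := d10_1 D116573 (iv6 D116295) (iv4 F84752)
def n116574 : Q := act 5 n53721
theorem D116574 : act 5 n53721 = n116574 := rfl
def n116576 : Q := act 1 n53722
theorem D116576 : act 1 n53722 = n116576 := rfl
theorem F181930 : act 4 n115587 = n116576 := d20_0 (iv1 D116576) (iv4 F181913) (iv3 D116558) F84746 F45787 F22651 (iv1 F22604) D28216 (iv3 F84161) D115587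
def n116577 : Q := act 2 n53722
theorem D116577 : act 2 n53722 = n116577 := rfl
def n116578 : Q := act 5 n53722
theorem D116578 : act 5 n53722 = n116578 := rfl
theorem F181931 : act 3 n116578 = n53723 := d6_1 D116578 (iv5 D53723) D53722
def n116580 : Q := act 7 n53722
theorem D116580 : act 7 n53722 = n116580 := rfl
theorem F181933 : act 3 n116580 = n53725 := d8_1 D116580 (iv7 D53725) D53722
theorem F181934 : act 4 n116580 = n59599 := d11_1 D116580 (iv7 F181914) F181913
def n116581 : Q := act 0 n53723
theorem D116581 : act 0 n53723 = n116581 := rfl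
def n116582 : Q := act 1 n53723
theorem D116582 : act 1 n53723 = n116582 := rfl
theorem F181935 : act 1 n116582 = n53743 := d15_1 D116582 (iv7 F181887) F181886
theorem F181936 : act 5 n116582 = n115399 := d17_7 (iv1 D30726) D30728 F175005 (iv5 D25996) D25995 D53723 D116582 F180706 (iv4 D65559)
theorem F181937 : act 3 n115400 = n116582 := d6_3 F181936 (iv3 D115399) D115400
def n116583 : Q := act 4 n53723
theorem D116583 : act 4 n53723 = n116583 := rfl
def n116584 : Q := act 6 n53723
theorem D116584 : act 6 n53723 = n116584 := rfl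
def n116585 : Q := act 7 n53723
theorem D116585 : act 7 n53723 = n116585 := rfl
theorem F181938 : act 2 n116585 = n53743 := d4_1 D116585 (iv7 F181887) F181886
theorem F181939 : act 5 n116585 = n53725 := d13_1 D116585 (iv7 D53725) D53723
theorem F181940 : act 1 n53743 = n116581 := d15_0 (iv0 D116581) D116585 F181938
theorem F181941 : act 5 n116581 = n65715 := d17_7 (iv1 F84257) (iv5 F175003) (iv1 F84761) (iv5 D26001) D26000 D53743 F181940 (iv0 F101431) (iv4 D65554)
theorem F181942 : act 1 n65716 = n105687 := d17_6 (iv1 D53721) D53723 D116581 F181941 (iv4 D65715) D65716 (iv5 D105687) (iv0 F102830) (iv4 F102801)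
def n116589 : Q := act 7 n53724
theorem D116589 : act 7 n53724 = n116589 := rfl
theorem F181943 : act 4 n116589 = n53734 := d11_1 D116589 (iv7 D53734) (iv4 F84754)
def n116590 : Q := act 6 n53725
theorem D116590 : act 6 n53725 = n116590 := rfl
theorem F181944 : act 2 n116590 = n53744 := d3_1 D116590 (iv6 D53744) (iv2 F84755)
def n116591 : Q := act 4 n53726
theorem D116591 : act 4 n53726 = n116591 := rfl
theorem F181946 : act 2 n116591 = n66846 := d1_1 D116591 (iv4 D66846) (iv2 F175001)
theorem F181947 : act 5 n116591 = n112554 := d17_5 D15217 (iv5 F105785) (iv1 F84257) (iv5 F175003) D116591 F175078 (iv5 D69199) (iv0 D32182) F24809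
theorem F181948 : act 0 n116591 = n112533 := d17_0 (iv5 D112533) F84790 (iv5 D53775) (iv4 D26008) (iv5 D12327) D12325 D26001 F84761 D116591
def n116592 : Q := act 6 n53726
theorem D116592 : act 6 n53726 = n116592 := rfl
theorem F181949 : act 2 n116592 = n66847 := d3_1 D116592 (iv6 D66847) (iv2 F175001)
theorem F181950 : act 3 n116592 = n67070 := d7_1 D116592 (iv6 D67070) (iv3 F175002)
def n116593 : Q := act 0 n53728
theorem D116593 : act 0 n53728 = n116593 := rfl
theorem F181951 : act 4 n116593 = n65716 := d18_3 F175005 D53728 D116593 (iv5 D65716) D65715 (iv0 F101431) (iv4 D65554) (iv0 D30725) D30728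
theorem F181952 : act 1 n53745 = n116593 := d18_6 (iv1 F179963) (iv4 F84752) (iv1 F84757) (iv4 D26000) D26001 D53745 F181951 F181942 (iv5 D105687)
def n116594 : Q := act 1 n53728
theorem D116594 : act 1 n53728 = n116594 := rfl
theorem F181953 : act 1 n116594 = n53745 := d15_1 D116594 (iv7 F181893) F181892
def n116595 : Q := act 6 n53728
theorem D116595 : act 6 n53728 = n116595 := rfl
theorem F181954 : act 4 n116595 = n53729 := d10_1 D116595 (iv6 D53729) D53728
def n116596 : Q := act 7 n53728
theorem D116596 : act 7 n53728 = n116596 := rfl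
theorem F181955 : act 2 n116596 = n53745 := d4_1 D116596 (iv7 F181893) F181892
theorem F181957 : act 4 n116596 = n53730 := d11_1 D116596 (iv7 D53730) D53728
theorem F181958 : act 5 n116596 = n110088 := d13_1 D116596 (iv7 F174796) F174802
theorem E18008 : n66843 = n53730 := (c18_3 F166917 (iv4 D66846) D66843 (iv4 F181957) F181958 F170223 (iv0 F170224) (iv4 D69206) (iv0 F78877) D108013)
theorem E18009 : n116547 = n65562 := (((iv1 F181891)).symm.trans (sb E18008 (iv1 F102677)))
theorem E18010 : n116546 = n31150 := ((F181890).symm.trans (sb E18008 (iv0 D66843)))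
theorem E18011 : n66844 = n53711 := (((iv1 F102682)).symm.trans (sb E18009 (iv1 D116547)))
theorem F181959 : act 1 n65562 = n53730 := (sb E18009 F181891)
theorem F181960 : act 0 n31150 = n53730 := (sb E18010 (iv1 F181890))
theorem F181961 : act 0 n53711 = n31150 := (sb E18011 (iv1 D66844))
theorem F181962 : act 1 n53711 = n65562 := (sb E18011 F102682)
theorem F181963 : act 1 n115314 = n115613 := d17_6 (iv1 F181460) D53711 F181961 F49499 (iv4 F84041) D115314 (iv5 D115613) F173695 F40838
theorem F181964 : act 1 n115629 = n115314 := d15_0 F181963 F179947 (iv2 F179991)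
def n116597 : Q := act 0 n53729
theorem D116597 : act 0 n53729 = n116597 := rfl
def n116599 : Q := act 5 n53729
theorem D116599 : act 5 n53729 = n116599 := rfl
theorem F181965 : act 6 n116599 = n53733 := d12_2 D53729 D116599 (iv5 D53733) (iv6 D25997) D25996
def n116600 : Q := act 7 n53729
theorem D116600 : act 7 n53729 = n116600 := rfl
def n116601 : Q := act 6 n53730
theorem D116601 : act 6 n53730 = n116601 := rfl
def n116602 : Q := act 2 n53731
theorem D116602 : act 2 n53731 = n116602 := rfl
def n116603 : Q := act 3 n53731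
theorem D116603 : act 3 n53731 = n116603 := rfl
def n116604 : Q := act 4 n53731
theorem D116604 : act 4 n53731 = n116604 := rfl
def n116605 : Q := act 5 n53731
theorem D116605 : act 5 n53731 = n116605 := rfl
def n116606 : Q := act 6 n53731
theorem D116606 : act 6 n53731 = n116606 := rfl
def n116607 : Q := act 7 n53731
theorem D116607 : act 7 n53731 = n116607 := rfl
def n116612 : Q := act 0 n53733
theorem D116612 : act 0 n53733 = n116612 := rfl
theorem F181969 : act 2 n66874 = n116612 := d15_3 (iv0 D116612) (iv0 F181650) F181649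
def n116613 : Q := act 4 n53733
theorem D116613 : act 4 n53733 = n116613 := rfl
def n116614 : Q := act 7 n53733
theorem D116614 : act 7 n53733 = n116614 := rfl
theorem F181970 : act 5 n116614 = n53734 := d13_1 D116614 (iv7 D53734) D53733
def n116615 : Q := act 6 n53734
theorem D116615 : act 6 n53734 = n116615 := rfl
theorem F181972 : act 7 n116615 = n53735 := d14_2 D53734 D116615 (iv6 D53735) (iv7 D25998) D25997
theorem F181973 : act 1 n53748 = n116615 := d15_1 D53748 F181972 F84762
def n116617 : Q := act 1 n53735
theorem D116617 : act 1 n53735 = n116617 := rfl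
theorem F181976 : act 1 n116617 = n53750 := d15_1 D116617 (iv7 D53750) (iv2 F84762)
def n116619 : Q := act 5 n53736
theorem D116619 : act 5 n53736 = n116619 := rfl
theorem F181978 : act 2 n116619 = n66893 := d2_1 D116619 (iv5 D66893) (iv2 F102844)
theorem F181979 : act 3 n116619 = n67029 := d6_1 D116619 (iv5 D67029) (iv3 F84764)
theorem F181980 : act 7 n116619 = n69488 := d13_2 F180871 D116619 (iv5 F180872)
theorem F181981 : act 1 n116619 = n53769 := d17_6 (iv1 D30866) D30868 D65971 F180140 (iv4 F84763) D116619 (iv5 F180189) (iv0 F180282) F84885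
theorem F181982 : act 4 n116619 = n66082 := d18_5 (iv1 D14696) (iv4 F24368) D31049 (iv4 F84763) D116619 (iv0 D66082) (iv4 D30904) D30903 (iv5 F103128)
theorem F181983 : act 1 n53769 = n116387 := d15_1 F181981 F181484 (iv2 F181978)
theorem F181984 : act 1 n69490 = n116619 := d15_0 F181981 F173385 D69490
theorem F181985 : act 1 n116387 = n69490 := d15_0 F181984 F181980 (iv2 F181482)
def n116620 : Q := act 6 n53736
theorem D116620 : act 6 n53736 = n116620 := rfl
def n116621 : Q := act 5 n53738
theorem D116621 : act 5 n53738 = n116621 := rfl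
theorem F181989 : act 2 n116621 = n53740 := d2_1 D116621 (iv5 D53740) D53738
theorem F181990 : act 0 n116621 = n66944 := d17_2 (iv1 F181476) D116621 (iv5 F180723) F84885 D65967 F180973 (iv5 D66523) F84420 D116089
def n116622 : Q := act 6 n53738
theorem D116622 : act 6 n53738 = n116622 := rfl
theorem F181991 : act 2 n116622 = n53741 := d3_1 D116622 (iv6 D53741) D53738
def n116623 : Q := act 3 n53739
theorem D116623 : act 3 n53739 = n116623 := rfl
theorem F181992 : act 4 n116623 = n53742 := d5_2 D53739 D116623 (iv3 D53742) (iv4 D26000) D25999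
def n116624 : Q := act 5 n53739
theorem D116624 : act 5 n53739 = n116624 := rfl
theorem F181993 : act 0 n116624 = n66058 := d17_2 F84765 D116624 (iv5 D66058) (iv4 D30897) D30898 F180971 (iv5 D31081) F40983 D53527
theorem F181994 : act 1 n116624 = n66038 := d15_1 (iv0 F181993) (iv7 F180268) (iv2 F180279)
theorem F181995 : act 0 n68209 = n53740 := d17_2 (iv1 D68207) D68209 (iv5 D53740) D53739 D116624 F181994 (iv5 D66038) D66036 F180220
def n116625 : Q := act 6 n53739
theorem D116625 : act 6 n53739 = n116625 := rfl
theorem F181996 : act 4 n116625 = n53741 := d10_1 D116625 (iv6 D53741) D53739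
def n116626 : Q := act 0 n53740
theorem D116626 : act 0 n53740 = n116626 := rfl
theorem F181997 : act 5 n116626 = n115761 := d17_3 F102849 D53740 D116626 (iv4 D115761) (iv5 F180883) (iv0 D66525) (iv5 D31052) D31050 (iv4 F84645)
theorem F181998 : act 4 n116626 = n66635 := d18_1 D116626 (iv1 F180951) (iv4 D116145) (iv5 D53535) (iv4 F84423) F84425 (iv4 F84763) (iv0 D53736) D53740
theorem F181999 : act 3 n116626 = n67037 := d20_3 D31085 D66635 (iv4 F181998) (iv1 D67037) F49539 D31226 D67076 F103087 (iv3 D66631) (iv1 D31084)
def n116627 : Q := act 4 n53740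
theorem D116627 : act 4 n53740 = n116627 := rfl
theorem F182000 : act 0 n116627 = n66060 := d18_2 F181995 D116627 (iv4 D66060) (iv5 D30898) D30897 F101720 F101715 F180187 D68209
theorem F182001 : act 1 n116627 = n66043 := d18_6 D25927 D53527 F84765 (iv4 D53739) D53740 D116627 (iv4 D66043) (iv0 F180969) (iv5 D25930)
def n116628 : Q := act 6 n53740
theorem D116628 : act 6 n53740 = n116628 := rfl
theorem F182002 : act 3 n116628 = n53746 := d7_1 D116628 (iv6 D53746) (iv3 F84766)
def n116629 : Q := act 0 n53741
theorem D116629 : act 0 n53741 = n116629 := rfl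
def n116630 : Q := act 1 n53741
theorem D116630 : act 1 n53741 = n116630 := rfl
def n116631 : Q := act 5 n53741
theorem D116631 : act 5 n53741 = n116631 := rfl
def n116632 : Q := act 7 n53741
theorem D116632 : act 7 n53741 = n116632 := rfl
def n116633 : Q := act 2 n53742
theorem D116633 : act 2 n53742 = n116633 := rfl
def n116634 : Q := act 5 n53742
theorem D116634 : act 5 n53742 = n116634 := rfl
theorem F182005 : act 3 n116634 = n53743 := d6_1 D116634 (iv5 D53743) D53742
def n116635 : Q := act 6 n53742
theorem D116635 : act 6 n53742 = n116635 := rfl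
theorem F182006 : act 3 n116635 = n53744 := d7_1 D116635 (iv6 D53744) D53742
def n116636 : Q := act 4 n53743
theorem D116636 : act 4 n53743 = n116636 := rfl
theorem F182007 : act 5 n116636 = n112273 := d16_1 D116636 (iv4 F174795) F174802 (iv4 D53728) (iv5 D25996) D25995 D53723 D116585 F181938
theorem F182008 : act 3 n112274 = n116636 := d6_3 F182007 (iv3 D112273) D112274
def n116637 : Q := act 6 n53743
theorem D116637 : act 6 n53743 = n116637 := rfl
def n116638 : Q := act 0 n53744
theorem D116638 : act 0 n53744 = n116638 := rfl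
def n116639 : Q := act 1 n53744
theorem D116639 : act 1 n53744 = n116639 := rfl
def n116640 : Q := act 5 n53744
theorem D116640 : act 5 n53744 = n116640 := rfl
def n116641 : Q := act 7 n53744
theorem D116641 : act 7 n53744 = n116641 := rfl
def n116642 : Q := act 3 n53745
theorem D116642 : act 3 n53745 = n116642 := rfl
theorem F182010 : act 0 n68994 = n116642 := d20_4 F103920 (iv1 F104499) F104500 D68994 (iv3 D116642) (iv4 D53745) F175006 D65566 F101287 D67866
def n116643 : Q := act 5 n53745
theorem D116643 : act 5 n53745 = n116643 := rfl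
theorem F182011 : act 2 n116643 = n110088 := d2_1 D116643 (iv5 F181958) F181955
def n116644 : Q := act 6 n53745
theorem D116644 : act 6 n53745 = n116644 := rfl
theorem F182012 : act 4 n116644 = n53746 := d10_1 D116644 (iv6 D53746) D53745
def n116645 : Q := act 0 n53746
theorem D116645 : act 0 n53746 = n116645 := rfl
def n116646 : Q := act 1 n53746
theorem D116646 : act 1 n53746 = n116646 := rfl
def n116647 : Q := act 5 n53746
theorem D116647 : act 5 n53746 = n116647 := rfl
def n116648 : Q := act 7 n53746
theorem D116648 : act 7 n53746 = n116648 := rfl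
def n116649 : Q := act 2 n53747
theorem D116649 : act 2 n53747 = n116649 := rfl
theorem F182014 : act 7 n53748 = n116649 := d15_2 (iv0 D53747) D53748 (iv2 D116649)
def n116654 : Q := act 7 n53747
theorem D116654 : act 7 n53747 = n116654 := rfl
theorem F182015 : act 2 n116654 = n53748 := d4_1 D116654 F182014 (iv2 D116649)
def n116655 : Q := act 3 n53748
theorem D116655 : act 3 n53748 = n116655 := rfl
def n116656 : Q := act 4 n53748
theorem D116656 : act 4 n53748 = n116656 := rfl
def n116657 : Q := act 5 n53748
theorem D116657 : act 5 n53748 = n116657 := rfl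
def n116658 : Q := act 6 n53748
theorem D116658 : act 6 n53748 = n116658 := rfl
def n116663 : Q := act 3 n53761
theorem D116663 : act 3 n53761 = n116663 := rfl
theorem F182017 : act 2 n116663 = n68952 := d0_1 D116663 (iv3 D68952) F50685 (iv3 F41101) (iv2 F84772)
theorem F182018 : act 4 n116663 = n67151 := d5_2 D53761 D116663 (iv3 D67151) (iv4 D31259) (iv3 F41095)
theorem F182019 : act 7 n116663 = n69089 := d8_2 (iv7 F84773) D116663 F105339
theorem F182020 : act 1 n69088 = n116663 := d15_1 D69088 F182019 (iv2 D69089)
theorem F182021 : act 1 n116663 = n69087 := d15_0 (iv0 D69087) (iv7 F105121) (iv2 F182017)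
def n116664 : Q := act 6 n53761
theorem D116664 : act 6 n53761 = n116664 := rfl
theorem F182022 : act 2 n116664 = n53776 := d3_1 D116664 (iv6 D53776) (iv2 F84772)
theorem F182023 : act 4 n116664 = n53762 := d10_1 D116664 (iv6 D53762) D53761
def n116665 : Q := act 0 n53762
theorem D116665 : act 0 n53762 = n116665 := rfl
def n116666 : Q := act 1 n53762
theorem D116666 : act 1 n53762 = n116666 := rfl
theorem F182024 : act 1 n116666 = n53779 := d15_1 D116666 (iv7 D53779) (iv2 F84776)
def n116667 : Q := act 7 n53762
theorem D116667 : act 7 n53762 = n116667 := rfl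
theorem F182025 : act 2 n116667 = n53779 := d4_1 D116667 (iv7 D53779) (iv2 F84776)
theorem F182026 : act 3 n116667 = n67156 := d8_1 D116667 (iv7 D67156) (iv3 F84777)
theorem F182027 : act 6 n116667 = n69503 := d14_1 D116667 (iv7 D69503) (iv6 D32273) (iv7 F41096) D53762
theorem F182028 : act 1 n53779 = n116665 := d15_0 (iv0 D116665) D116667 F182025
def n116668 : Q := act 2 n53764
theorem D116668 : act 2 n53764 = n116668 := rfl
theorem F182033 : act 5 n116668 = n67738 := d2_2 F180173 D116668 F180179
theorem F182035 : act 1 n116668 = n66777 := d15_0 F181906 (iv7 F173378) D116668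
theorem F182037 : act 5 n59604 = n65667 := d17_3 (iv1 D28285) D28287 D59604 (iv4 F103775) (iv5 F182033) F182035 (iv5 D66777) (iv0 F181453) F181454
def n116670 : Q := act 0 n53765
theorem D116670 : act 0 n53765 = n116670 := rfl
theorem F182039 : act 4 n116670 = n116036 := d18_3 D26006 D53765 D116670 F181676 (iv4 F84752) (iv0 D53720) (iv4 D25995) (iv0 D12324) D12327
theorem F182040 : act 1 n53770 = n116670 := d15_0 (iv0 D116670) F173376 (iv2 F173386)
theorem F182041 : act 7 n69477 = n116670 := d11_0 F182039 F181677 F105778
theorem F182042 : act 2 n116670 = n69478 := d15_3 F105782 F105795 F182041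
def n116671 : Q := act 1 n53765
theorem D116671 : act 1 n53765 = n116671 := rfl
theorem F182043 : act 1 n116671 = n53770 := d15_1 D116671 F173387 (iv2 F173375)
theorem F182044 : act 7 n116671 = n69478 := d15_2 (iv0 D116670) D116671 (iv2 F182042)
theorem F182045 : act 2 n69477 = n116671 := d4_3 F182044 (iv2 F182042) (iv7 F182041)
def n116672 : Q := act 6 n53765
theorem D116672 : act 6 n53765 = n116672 := rfl
def n116677 : Q := act 2 n53769
theorem D116677 : act 2 n53769 = n116677 := rfl
theorem F182056 : act 5 n116677 = n68207 := d2_2 F180189 D116677 (iv2 F180191)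
theorem F182058 : act 1 n116677 = n69488 := d15_0 (iv0 D69488) (iv7 F173385) D116677
theorem F182059 : act 1 n66893 = n116677 := d15_0 F182058 (iv7 F181980) F181978
def n116678 : Q := act 4 n53769
theorem D116678 : act 4 n53769 = n116678 := rfl
theorem F182060 : act 7 n116678 = n69491 := d11_2 (iv7 F173385) D116678 (iv4 D69491)
theorem F182061 : act 0 n116678 = n115863 := d18_2 (iv1 F181983) D116678 (iv4 D115863) (iv5 F180357) D53532 F102534 (iv4 D53739) (iv0 F102849) D116387
theorem F182062 : act 1 n116678 = n115858 := d18_6 D25874 D53407 D115824 F180217 F180189 D116678 (iv4 D115858) (iv0 D53417) (iv5 D25877)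
def n116679 : Q := act 6 n53769
theorem D116679 : act 6 n53769 = n116679 := rfl
theorem F182063 : act 3 n116679 = n53772 := d7_1 D116679 (iv6 D53772) D53769
def n116680 : Q := act 3 n53770
theorem D116680 : act 3 n53770 = n116680 := rfl
theorem F182064 : act 7 n116680 = n69493 := d8_2 (iv7 F173387) D116680 (iv3 D69493)
theorem F182065 : act 0 n69116 = n116680 := d20_4 (iv4 F103937) (iv1 F105167) F105168 D69116 (iv3 D116680) (iv4 D53770) (iv1 D26007) D26008 F41101 (iv1 F51099)
def n116681 : Q := act 5 n53770
theorem D116681 : act 5 n53770 = n116681 := rfl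
theorem F182066 : act 2 n116681 = n69480 := d2_1 D116681 (iv5 D69480) (iv2 F173386)
theorem F182067 : act 7 n116681 = n69494 := d13_2 (iv7 F173387) D116681 (iv5 D69494)
theorem F182068 : act 3 n111456 = n116681 := d0_0 F182066 F105791 F173341 D110630 (iv2 F173370)
theorem F182069 : act 5 n116680 = n111456 := d6_0 F182068 (iv5 D116681) D116680
def n116682 : Q := act 6 n53770
theorem D116682 : act 6 n53770 = n116682 := rfl
theorem F182070 : act 2 n116682 = n69481 := d3_1 D116682 (iv6 D69481) (iv2 F173386)
theorem F182071 : act 4 n116682 = n53772 := d10_1 D116682 (iv6 D53772) D53770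
def n116683 : Q := act 0 n53772
theorem D116683 : act 0 n53772 = n116683 := rfl
def n116684 : Q := act 1 n53772
theorem D116684 : act 1 n53772 = n116684 := rfl
def n116685 : Q := act 5 n53772
theorem D116685 : act 5 n53772 = n116685 := rfl
def n116686 : Q := act 7 n53772
theorem D116686 : act 7 n53772 = n116686 := rfl
def n116687 : Q := act 3 n53773
theorem D116687 : act 3 n53773 = n116687 := rfl
theorem F182079 : act 2 n116687 = n110609 := d0_1 D116687 F171194 (iv2 F81991) F81994 F84785
theorem F182080 : act 5 n116687 = n110608 := d6_2 F175075 D116687 (iv3 F175073)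
theorem F182081 : act 7 n116687 = n69197 := d8_2 F84787 D116687 (iv3 D69197)
def n116688 : Q := act 4 n53773
theorem D116688 : act 4 n53773 = n116688 := rfl
theorem F182082 : act 2 n116688 = n69201 := d1_1 D116688 (iv4 D69201) F84785
theorem F182083 : act 5 n116688 = n65712 := d9_2 F175075 D116688 F179591 (iv5 F179940) (iv4 F179941) (iv5 D109318) (iv4 F80448) (iv5 F84783) (iv4 F94439) (iv5 F101364) F179592 (iv5 F179595) D115656 F180024 (iv4 F175074)
theorem F182084 : act 7 n116688 = n69198 := d11_2 F84787 D116688 (iv4 D69198)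
theorem F182085 : act 1 n116688 = n65739 := d18_8 F102252 (iv4 D53329) D53326 F84170 F41087 (iv4 F51136) F84780 D116688 F105779
def n116689 : Q := act 6 n53773
theorem D116689 : act 6 n53773 = n116689 := rfl
theorem F182086 : act 2 n116689 = n69202 := d3_1 D116689 (iv6 D69202) F84785
def n116690 : Q := act 6 n53774
theorem D116690 : act 6 n53774 = n116690 := rfl
theorem F182087 : act 2 n116690 = n69200 := d3_1 D116690 (iv6 D69200) (iv2 F84786)
theorem F182088 : act 3 n116690 = n110600 := d7_1 D116690 (iv6 D110600) F84782
def n116691 : Q := act 4 n53775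
theorem D116691 : act 4 n53775 = n116691 := rfl
theorem F182089 : act 7 n116691 = n69206 := d11_2 (iv7 F84789) D116691 (iv4 D69206)
theorem F182090 : act 0 n116691 = n112273 := d18_2 F84790 D116691 (iv4 F174795) F174802 (iv4 D53728) (iv0 F175005) D65566 (iv0 F175000) (iv5 D112533)
def n116692 : Q := act 6 n53775
theorem D116692 : act 6 n53775 = n116692 := rfl
theorem F182091 : act 3 n116692 = n69221 := d7_1 D116692 (iv6 D69221) (iv3 F84788)
def n116693 : Q := act 0 n53776
theorem D116693 : act 0 n53776 = n116693 := rfl
def n116694 : Q := act 1 n53776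
theorem D116694 : act 1 n53776 = n116694 := rfl
def n116695 : Q := act 5 n53776
theorem D116695 : act 5 n53776 = n116695 := rfl
theorem F182092 : act 3 n116695 = n69239 := d6_1 D116695 (iv5 D69239) (iv3 F84791)
def n116696 : Q := act 7 n53776
theorem D116696 : act 7 n53776 = n116696 := rfl
theorem F182093 : act 3 n116696 = n69236 := d8_1 D116696 F105510 (iv3 F84791)
theorem F182094 : act 4 n116696 = n53779 := d11_1 D116696 (iv7 D53779) (iv4 F84792)
theorem F182095 : act 6 n116696 = n69211 := d14_1 D116696 (iv7 D69211) (iv6 D32186) (iv7 F41102) D53776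
def n116707 : Q := act 2 n53780
theorem D116707 : act 2 n53780 = n116707 := rfl
theorem F182098 : act 7 n53781 = n116707 := d15_2 (iv0 D53780) D53781 (iv2 D116707)
def n116708 : Q := act 3 n53780
theorem D116708 : act 3 n53780 = n116708 := rfl
def n116709 : Q := act 4 n53780
theorem D116709 : act 4 n53780 = n116709 := rfl
def n116710 : Q := act 5 n53780
theorem D116710 : act 5 n53780 = n116710 := rfl
def n116711 : Q := act 6 n53780
theorem D116711 : act 6 n53780 = n116711 := rfl
def n116712 : Q := act 7 n53780
theorem D116712 : act 7 n53780 = n116712 := rfl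
theorem F182099 : act 2 n116712 = n53781 := d4_1 D116712 F182098 (iv2 D116707)
def n116713 : Q := act 3 n53781
theorem D116713 : act 3 n53781 = n116713 := rfl
def n116714 : Q := act 4 n53781
theorem D116714 : act 4 n53781 = n116714 := rfl
def n116715 : Q := act 5 n53781
theorem D116715 : act 5 n53781 = n116715 := rfl
def n116716 : Q := act 6 n53781
theorem D116716 : act 6 n53781 = n116716 := rfl
def n116717 : Q := act 0 n53782
theorem D116717 : act 0 n53782 = n116717 := rfl
def n116718 : Q := act 1 n53782
theorem D116718 : act 1 n53782 = n116718 := rfl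
def n116719 : Q := act 4 n53782
theorem D116719 : act 4 n53782 = n116719 := rfl
theorem F182100 : act 6 n116719 = n69516 := d10_2 (iv6 F84796) D116719 (iv4 D69516)
def n116720 : Q := act 4 n53785
theorem D116720 : act 4 n53785 = n116720 := rfl
theorem F182101 : act 2 n116720 = n53786 := d1_1 D116720 (iv4 D53786) D53785
theorem F182102 : act 7 n116720 = n67281 := d11_2 (iv7 F84800) D116720 (iv4 D67281)
theorem F182103 : act 0 n116720 = n67284 := d18_2 (iv1 F166932) D116720 (iv4 F103179) F105774 F49517 F78322 F78318 F41048 D31165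
theorem F182104 : act 1 n116720 = n67283 := d15_0 (iv0 D67283) (iv7 F84805) (iv2 F182101)
def n116721 : Q := act 6 n53785
theorem D116721 : act 6 n53785 = n116721 := rfl
theorem F182105 : act 2 n116721 = n53787 := d3_1 D116721 (iv6 D53787) D53785
def n116722 : Q := act 0 n53786
theorem D116722 : act 0 n53786 = n116722 := rfl
theorem F182107 : act 1 n67281 = n116722 := d15_0 (iv0 D116722) F84805 (iv2 F103177)
def n116723 : Q := act 1 n53786
theorem D116723 : act 1 n53786 = n116723 := rfl
theorem F182108 : act 1 n116723 = n67281 := d15_1 D116723 (iv7 F182102) F182101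
theorem F182109 : act 4 n116031 = n116723 := d20_6 (iv4 D5915) D5913 (iv4 F20396) (iv3 F40946) D53483 D116031 (iv1 D116723) (iv4 D53786) (iv3 D26011) (iv1 F20467)
theorem F182110 : act 7 n116723 = n67284 := d11_2 (iv7 F181686) F182109 (iv4 F103179)
theorem F182111 : act 2 n67284 = n116722 := d15_3 (iv0 D116722) D116723 F182110
theorem F182112 : act 2 n116723 = n67283 := d15_3 (iv0 D67283) D67284 (iv7 F182110)
theorem F182113 : act 7 n67283 = n116722 := d4_2 (iv7 F182110) F182112 (iv2 F182111)
def n116724 : Q := act 5 n53786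
theorem D116724 : act 5 n53786 = n116724 := rfl
theorem F182114 : act 3 n116724 = n53977 := d6_1 D116724 (iv5 D53977) (iv3 F84804)
theorem F182115 : act 7 n116724 = n67285 := d13_2 (iv7 F84805) D116724 (iv5 D67285)
def n116725 : Q := act 6 n53786
theorem D116725 : act 6 n53786 = n116725 := rfl
theorem F182116 : act 3 n116725 = n53978 := d7_1 D116725 (iv6 D53978) (iv3 F84804)
def n116728 : Q := act 5 n53787
theorem D116728 : act 5 n53787 = n116728 := rfl
theorem F182119 : act 6 n116728 = n53859 := d12_2 D53787 D116728 (iv5 D53859) (iv6 D26034) (iv5 F41105)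
def n116729 : Q := act 7 n53787
theorem D116729 : act 7 n53787 = n116729 := rfl
theorem F182120 : act 3 n116729 = n53791 := d8_1 D116729 (iv7 D53791) (iv3 F84806)
theorem F182121 : act 6 n116729 = n67290 := d14_1 D116729 (iv7 D67290) (iv6 D31294) (iv7 F41106) D53787
def n116730 : Q := act 2 n53788
theorem D116730 : act 2 n53788 = n116730 := rfl
theorem F182122 : act 7 n53789 = n116730 := d15_2 (iv0 D53788) D53789 (iv2 D116730)
def n116732 : Q := act 4 n53788
theorem D116732 : act 4 n53788 = n116732 := rfl
def n116734 : Q := act 6 n53788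
theorem D116734 : act 6 n53788 = n116734 := rfl
theorem F182123 : act 5 n116734 = n66871 := d21_6 F24379 F20357 (iv5 F20465) D26012 D53788 D116734 (iv1 D66871) (iv5 D31156) (iv6 D14721) D14719
theorem F182124 : act 4 n54247 = n116734 := d17_4 (iv1 F41527) (iv5 F85395) (iv1 F85397) (iv5 F85593) F182123 F181641 F181639 F84671 (iv4 F105815)
theorem F182125 : act 2 n116734 = n67261 := d1_1 F182124 F163079 (iv2 F105725)
theorem E18012 : n116732 = n26231 := (c10_4 D54247 F182124 (iv6 D116734) D116732)
theorem E18013 : n54245 = n53788 := ((D54245).symm.trans (sb E18012 (iv4 D116732)))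
theorem E18014 : n116730 = n31286 := ((D116730).symm.trans (sb E18013 F163075))
theorem F182126 : act 4 n53788 = n26231 := (sb E18013 (iv4 D54245))
theorem E18015 : n54250 = n53789 := (((iv7 F163070)).symm.trans (sb E18014 (iv7 F182122)))
theorem F182129 : act 2 n53789 = n31287 := (sb E18015 F163069)
theorem F182130 : act 4 n53789 = n26232 := (sb E18015 (iv4 D54250))
theorem F182131 : act 7 n53789 = n31286 := (sb E18015 F163070)
theorem E18016 : n74848 = n74612 := (c18_2 (iv1 F54415) D74848 (iv1 D74612) F53839 F27078 (iv4 F41108) D53789 F182130 F41638 (iv5 F51189))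
theorem F182132 : act 2 n74612 = n65269 := (sb E18016 (iv2 F163063))
theorem F182133 : act 4 n74612 = n34295 := (sb E18016 (iv4 D74848))
theorem F182134 : act 7 n74612 = n65268 := (sb E18016 (iv7 F163068))
theorem E18017 : n74845 = n74611 := (c15_4 (iv0 D74611) D74612 F182134 F163066)
theorem F182136 : act 4 n74611 = n34294 := (sb E18017 (iv4 D74845))
theorem F182142 : act 2 n116441 = n66871 := d2_3 (iv5 F182123) F182125 F181635
theorem F182144 : act 7 n116440 = n66871 := d15_2 F181634 F181640 (iv2 F182142)
theorem F182146 : act 7 n116734 = n67345 := d13_2 F182144 (iv5 F182123) F181642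
def n116737 : Q := act 6 n53789
theorem D116737 : act 6 n53789 = n116737 := rfl
theorem F182150 : act 2 n116737 = n67266 := d3_1 D116737 (iv6 D67266) (iv2 F182129)
theorem F182151 : act 4 n116737 = n54252 := d10_1 D116737 (iv6 D54252) (iv4 F182130)
theorem F182152 : act 7 n69528 = n116737 := d11_0 F182151 F105741 (iv4 F105827)
theorem F182153 : act 1 n69530 = n116737 := d18_6 (iv1 F130852) (iv4 F52022) (iv1 F107373) (iv4 D70869) D70870 (iv4 F107361) F182151 (iv0 F85597) F130855
theorem F182154 : act 1 n116737 = n54270 := d15_1 F182153 F131065 F131066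
def n116742 : Q := act 4 n53794
theorem D116742 : act 4 n53794 = n116742 := rfl
theorem F182168 : act 2 n116742 = n53795 := d1_1 D116742 (iv4 D53795) D53794
theorem F182169 : act 7 n116742 = n67247 := d11_2 (iv7 F84819) D116742 (iv4 D67247)
theorem F182170 : act 0 n116742 = n67250 := d18_2 (iv1 F181695) D116742 (iv4 F103162) F103122 F49493 (iv0 F84690) (iv4 D53683) F41067 D31128
theorem F182171 : act 5 n68544 = n116742 := d2_0 F182168 (iv5 F84825) D68544
theorem F182172 : act 1 n116742 = n67249 := d15_0 (iv0 D67249) (iv7 F84824) (iv2 F182168)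
def n116744 : Q := act 0 n53795
theorem D116744 : act 0 n53795 = n116744 := rfl
theorem F182175 : act 1 n67247 = n116744 := d15_0 (iv0 D116744) F84824 (iv2 F103160)
def n116745 : Q := act 1 n53795
theorem D116745 : act 1 n53795 = n116745 := rfl
theorem F182176 : act 1 n116745 = n67247 := d15_1 D116745 (iv7 F182169) F182168
theorem F182177 : act 4 n115857 = n116745 := d20_6 F9007 (iv1 F9162) (iv4 F20365) (iv3 F40881) D53417 D115857 (iv1 D116745) (iv4 D53795) (iv3 D26013) (iv1 D12330)
theorem F182178 : act 7 n116745 = n67250 := d11_2 (iv7 F180371) F182177 (iv4 F103162)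
theorem F182179 : act 2 n67250 = n116744 := d15_3 (iv0 D116744) D116745 F182178
theorem F182180 : act 2 n116745 = n67249 := d15_3 (iv0 D67249) D67250 (iv7 F182178)
theorem F182181 : act 7 n67249 = n116744 := d4_2 (iv7 F182178) F182180 (iv2 F182179)
def n116746 : Q := act 6 n53795
theorem D116746 : act 6 n53795 = n116746 := rfl
theorem F182182 : act 3 n116746 = n53885 := d7_1 D116746 (iv6 D53885) (iv3 F84823)
theorem F182183 : act 4 n116746 = n53796 := d10_1 D116746 (iv6 D53796) D53795
def n116749 : Q := act 5 n53796
theorem D116749 : act 5 n53796 = n116749 := rfl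
theorem F182185 : act 6 n116749 = n53952 := d12_2 D53796 D116749 (iv5 D53952) (iv6 D26083) (iv5 F41109)
def n116750 : Q := act 7 n53796
theorem D116750 : act 7 n53796 = n116750 := rfl
theorem F182187 : act 6 n116750 = n67256 := d14_1 D116750 (iv7 D67256) (iv6 D31285) (iv7 F41110) D53796
def n116751 : Q := act 2 n53797
theorem D116751 : act 2 n53797 = n116751 := rfl
theorem F182188 : act 7 n53798 = n116751 := d15_2 (iv0 D53797) D53798 (iv2 D116751)
def n116753 : Q := act 4 n53797
theorem D116753 : act 4 n53797 = n116753 := rfl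
def n116754 : Q := act 5 n53797
theorem D116754 : act 5 n53797 = n116754 := rfl
def n116755 : Q := act 6 n53797
theorem D116755 : act 6 n53797 = n116755 := rfl
theorem F182189 : act 5 n116755 = n66986 := d21_6 F24386 F19009 (iv5 F20472) D26014 D53797 D116755 (iv1 D66986) (iv5 D31188) (iv6 D14732) (iv1 F24384)
theorem F182190 : act 0 n69541 = n116755 := d17_0 F182189 (iv1 D66986) (iv5 D31188) F24393 D15003 D31879 (iv5 F84978) F131063 (iv4 F131062)
theorem F182191 : act 4 n54224 = n116755 := d17_4 (iv1 F41461) (iv5 F85289) (iv1 F85291) (iv5 F85558) F182189 F181857 F181855 F84722 (iv4 F104980)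
theorem E18018 : n116753 = n26222 := (c10_4 D54224 F182191 (iv6 D116755) D116753)
theorem E18019 : n54222 = n53797 := ((D54222).symm.trans (sb E18018 (iv4 D116753)))
theorem F182192 : act 4 n53797 = n26222 := (sb E18019 (iv4 D54222))
theorem F182193 : act 4 n54220 = n116751 := d1_2 F182192 D54220 (iv2 D116751)
theorem E18020 : n54227 = n53798 := ((c11_3 F85557 F182193 (iv7 F182188) (iv4 D54227))).symm
theorem F182194 : act 4 n53798 = n26223 := (sb E18020 (iv4 D54227))
theorem F182195 : act 1 n54273 = n116755 := d15_0 (iv0 F182190) (iv7 D69541) (iv2 F85616)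
def n116756 : Q := act 7 n53797
theorem D116756 : act 7 n53797 = n116756 := rfl
theorem F182196 : act 2 n116756 = n53798 := d4_1 D116756 F182188 (iv2 D116751)
theorem F182197 : act 4 n116756 = n54225 := d11_1 D116756 (iv7 D54225) (iv4 F182192)
def n116759 : Q := act 6 n53798
theorem D116759 : act 6 n53798 = n116759 := rfl
theorem F182198 : act 4 n116759 = n54229 := d10_1 D116759 (iv6 D54229) (iv4 F182194)
def n116760 : Q := act 0 n53799
theorem D116760 : act 0 n53799 = n116760 := rfl
def n116761 : Q := act 1 n53799
theorem D116761 : act 1 n53799 = n116761 := rfl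
theorem F182199 : act 1 n116761 = n67304 := d15_1 D116761 (iv7 D67304) (iv2 F84828)
theorem F182200 : act 5 n116437 = n116761 := d21_6 (iv5 D5848) D5845 D12319 D25976 D53665 D116437 (iv1 D116761) (iv5 D53799) (iv6 D26014) (iv1 D12330)
theorem F182201 : act 2 n116761 = n67302 := d2_1 F182200 (iv5 F103188) (iv2 F181627)
theorem F182202 : act 7 n116761 = n67301 := d13_2 (iv7 F181629) F182200 F110636
theorem F182203 : act 2 n67301 = n116760 := d15_3 (iv0 D116760) D116761 F182202
theorem F182204 : act 7 n67302 = n116760 := d4_2 (iv7 F182202) F182201 (iv2 F182203)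
theorem F182205 : act 1 n67304 = n116760 := d15_1 F182199 (iv7 F182204) (iv2 F182201)
def n116762 : Q := act 4 n53799
theorem D116762 : act 4 n53799 = n116762 := rfl
def n116763 : Q := act 7 n53799
theorem D116763 : act 7 n53799 = n116763 := rfl
theorem F182209 : act 5 n116763 = n53800 := d13_1 D116763 (iv7 D53800) D53799
theorem F182210 : act 1 n67302 = n116763 := d15_1 D67302 (iv7 D116763) F84828
theorem F182211 : act 1 n116763 = n67301 := d15_1 F182210 (iv7 F182202) F182201
def n116766 : Q := act 3 n53801
theorem D116766 : act 3 n53801 = n116766 := rfl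
theorem F182214 : act 7 n116766 = n53807 := d8_2 F84836 D116766 (iv3 D53807)
def n116767 : Q := act 5 n53801
theorem D116767 : act 5 n53801 = n116767 := rfl
theorem F182215 : act 2 n116767 = n53804 := d2_1 D116767 (iv5 D53804) D53801
theorem F182216 : act 7 n116767 = n53809 := d13_2 F84836 D116767 (iv5 D53809)
def n116768 : Q := act 6 n53801
theorem D116768 : act 6 n53801 = n116768 := rfl
theorem F182217 : act 2 n116768 = n53805 := d3_1 D116768 (iv6 D53805) D53801
def n116769 : Q := act 0 n53802
theorem D116769 : act 0 n53802 = n116769 := rfl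
def n116770 : Q := act 1 n53802
theorem D116770 : act 1 n53802 = n116770 := rfl
def n116771 : Q := act 2 n53802
theorem D116771 : act 2 n53802 = n116771 := rfl
def n116772 : Q := act 4 n53802
theorem D116772 : act 4 n53802 = n116772 := rfl
def n116773 : Q := act 5 n53802
theorem D116773 : act 5 n53802 = n116773 := rfl
theorem F182218 : act 3 n116773 = n53804 := d6_1 D116773 (iv5 D53804) D53802
def n116774 : Q := act 6 n53802
theorem D116774 : act 6 n53802 = n116774 := rfl
theorem F182219 : act 3 n116774 = n53805 := d7_1 D116774 (iv6 D53805) D53802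
def n116775 : Q := act 7 n53802
theorem D116775 : act 7 n53802 = n116775 := rfl
def n116776 : Q := act 0 n53804
theorem D116776 : act 0 n53804 = n116776 := rfl
theorem F182221 : act 5 n116776 = n116528 := d17_3 D26015 D53804 D116776 F181839 (iv5 F105964) (iv0 D69648) (iv5 D32329) (iv0 D15236) (iv4 F20476)
theorem F182222 : act 2 n67324 = n116776 := d2_3 F182221 (iv2 F181841) (iv5 F103207)
theorem F182223 : act 7 n67325 = n116776 := d15_2 (iv0 D67324) D67325 (iv2 F182222)
def n116777 : Q := act 1 n53804
theorem D116777 : act 1 n53804 = n116777 := rfl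
theorem F182224 : act 1 n116777 = n53809 := d15_1 D116777 (iv7 F182216) F182215
theorem F182225 : act 7 n116777 = n67324 := d15_2 (iv0 D116776) D116777 F182222
theorem F182226 : act 2 n67325 = n116777 := d4_3 F182225 F182222 (iv7 F182223)
theorem F182227 : act 1 n53809 = n116776 := d15_1 F182224 (iv7 F182223) F182226
theorem F182228 : act 1 n116528 = n65368 := d17_8 (iv1 F131504) (iv5 F131503) F162566 (iv5 D105857) F114322 D53809 F182227 F182221 (iv4 F104784)
def n116778 : Q := act 4 n53804
theorem D116778 : act 4 n53804 = n116778 := rfl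
theorem F182229 : act 5 n116778 = n67891 := d17_5 (iv1 D34233) F26231 D26015 D53804 D116778 F109837 F50098 D50056 F114324
theorem F182230 : act 2 n67326 = n116778 := d2_3 F182229 F110535 (iv5 F104783)
theorem F182231 : act 3 n67892 = n116778 := d6_3 F182229 (iv3 D67891) D67892
theorem F182232 : act 6 n70807 = n116778 := d12_0 F182229 F103949 (iv5 D49034) D49035 (iv5 F107273)
theorem F182233 : act 7 n67343 = n116778 := d13_0 F182229 (iv7 F104681) F110533
theorem F182234 : act 0 n68408 = n116778 := d21_10 F182229 F109836 F104736 (iv6 D49879) (iv1 F38266) D50053 F79224 F77387 F50182 D68408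
theorem E18021 : n67309 = n53804 := ((c11_2 F182233 (iv4 D116778) F103197 D67343)).symm
theorem E18022 : n116767 = n31302 := (((iv2 F182215)).symm.trans (sb E18021 F103196))
theorem E18023 : n31299 = n26015 := ((((iv5 D53804)).symm.trans (sb E18021 (iv5 D67309)))).symm
theorem F182235 : act 7 n53804 = n31307 := (sb E18021 F103197)
theorem F182236 : act 2 n31302 = n53804 := (sb E18022 F182215)
theorem E18024 : n53801 = n14760 := ((((iv5 D31302)).symm.trans (sb E18022 (iv5 D116767)))).symm
theorem E18025 : n67328 = n53809 := ((D67328).symm.trans (sb E18022 F182216))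
theorem E18028 : n67307 = n53802 := (((D53802).symm.trans (sb E18023 D67307))).symm
theorem E18029 : n59985 = n48936 := ((((iv4 F114314)).symm.trans (sb E18023 (iv4 F104773)))).symm
theorem E18031 : n53806 = n14761 := ((D53806).symm.trans (sb E18023 (iv7 F49576)))
theorem F182237 : act 2 n14760 = n26015 := (sb E18024 (iv2 D53801))
theorem E18034 : n116766 = n31300 := (((D31300).symm.trans (sb E18024 D116766))).symm
theorem E18035 : n105852 = n28485 := (((F104774).symm.trans (sb E18024 (iv4 F162556)))).symm
theorem E18036 : n116768 = n31303 := (((D31303).symm.trans (sb E18024 D116768))).symm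
theorem E18037 : n31304 = n26016 := ((D31304).symm.trans (sb E18024 (iv7 F84836)))
theorem F182238 : act 2 n53809 = n31307 := (sb E18025 F103209)
theorem F182239 : act 7 n53809 = n31302 := (sb E18025 (iv7 D67328))
theorem E18038 : n116775 = n31305 := ((D116775).symm.trans (sb E18028 F103193))
theorem E18039 : n105855 = n28486 := ((D105855).symm.trans (sb E18029 (iv7 F94462)))
theorem F182240 : act 7 n14761 = n26015 := (sb E18031 (iv7 D53806))
theorem E18040 : n67317 = n53807 := ((D67317).symm.trans (sb E18034 F182214))
theorem F182241 : act 2 n28485 = n48936 := (sb E18035 (iv2 D105852))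
theorem E18041 : n59990 = n48937 := ((D59990).symm.trans (sb E18035 (iv7 F162557)))
theorem F182242 : act 2 n31303 = n53805 := (sb E18036 F182217)
theorem F182243 : act 2 n26016 = n14761 := (sb E18037 F49577)
theorem E18042 : n67333 = n53810 := (((D53810).symm.trans (sb E18037 D67333))).symm
theorem F182244 : act 7 n26016 = n14760 := (sb E18037 (iv7 D31304))
theorem F182245 : act 7 n31305 = n53802 := (sb E18038 (iv7 D116775))
theorem F182246 : act 7 n28486 = n48936 := (sb E18039 (iv7 D105855))
theorem F182247 : act 7 n53807 = n31300 := (sb E18040 (iv7 D67317))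
theorem F182248 : act 2 n48937 = n28486 := (sb E18041 F94464)
theorem F182249 : act 7 n48937 = n28485 := (sb E18041 (iv7 D59990))
theorem F182250 : act 2 n53810 = n31308 := (sb E18042 F103213)
theorem F182251 : act 1 n74817 = n67343 := d15_1 (iv0 F112275) F182233 (iv2 F182230)
theorem F182252 : act 2 n59994 = n105858 := d1_3 F162567 F182250 (iv4 F104778)
theorem F182253 : act 7 n68385 = n105858 := d15_2 F104781 D68385 (iv2 F182252)
theorem F182254 : act 7 n59989 = n61758 := d14_4 F182253 (iv6 D105858) F182249 D59989 F104562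
theorem F182255 : act 4 n61758 = n67332 := d11_1 F182254 (iv7 D67332) (iv4 F104775)
theorem E18043 : n61760 = n29744 := (c13_3 F182254 (iv5 D61758) D61760 (iv5 F94463))
theorem E18044 : n62855 = n29275 := (((iv2 F98077)).symm.trans (sb E18043 F96346))
theorem E18045 : n62850 = n29274 := ((F98075).symm.trans (sb E18043 (iv7 D61760)))
theorem F182256 : act 2 n29275 = n29744 := (sb E18044 F98077)
theorem E18046 : n61755 = n29743 := ((F96344).symm.trans (sb E18044 (iv7 D62855)))
theorem F182257 : act 7 n29274 = n29744 := (sb E18045 (iv7 F98075))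
theorem F182258 : act 2 n29743 = n29274 := (sb E18046 (iv2 D61755))
theorem F182259 : act 7 n29743 = n29275 := (sb E18046 (iv7 F96344))
theorem F182260 : act 2 n59989 = n61763 := d15_3 (iv0 F162554) (iv0 F162553) (iv7 F182254)
theorem F182261 : act 7 n61761 = n62851 := d8_2 F182259 D61761 (iv3 D62851)
theorem F182262 : act 7 n61206 = n62459 := d11_2 F182259 (iv4 F101354) F102693
theorem F182263 : act 7 n61763 = n62853 := d13_2 F182259 D61763 (iv5 D62853)
theorem F182264 : act 2 n62853 = n61758 := d4_1 F182263 (iv7 F182254) F182260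
theorem F182265 : act 1 n61758 = n68056 := d15_0 F162555 F182263 F182264
theorem E18047 : n68067 = n59989 := (c15_2 (iv0 F104175) D68067 F182254 (iv2 F182264))
theorem F182266 : act 0 n59989 = n31670 := (sb E18047 (iv1 D68067))
theorem F182267 : act 2 n62459 = n61205 := d15_3 (iv0 D61205) D61206 F182262
theorem F182268 : act 2 n61206 = n62460 := d15_3 F97350 F97356 (iv7 F182262)
theorem F182269 : act 7 n62460 = n61205 := d4_2 (iv7 F182262) F182268 (iv2 F182267)
theorem F182270 : act 2 n61759 = n62854 := d3_3 (iv6 D62854) F182258 D61759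
theorem E18048 : n70257 = n54366 := ((c2_3 (iv5 F96345) F182270 F98076 F106704)).symm
theorem F182271 : act 2 n54366 = n32609 := (sb E18048 F106704)
theorem F182272 : act 7 n54366 = n32608 := (sb E18048 (iv7 D70257))
theorem F182273 : act 7 n62921 = n61759 := d15_2 F104183 F98173 F182270
theorem F182274 : act 7 n61824 = n62854 := d15_2 F104519 F98175 (iv2 F182270)
theorem F182275 : act 2 n62921 = n61824 := d4_3 F182274 (iv2 F182270) (iv7 F182273)
theorem E18049 : n70253 = n54365 := (c2_4 (iv5 F98169) F182275 F96384 D70253)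
theorem F182276 : act 2 n54365 = n32608 := (sb E18049 (iv2 D70253))
theorem F182277 : act 7 n54365 = n32609 := (sb E18049 (iv7 F106703))
theorem F182278 : act 7 n62856 = n61756 := d8_2 F182257 D62856 (iv3 D61756)
theorem F182279 : act 2 n62858 = n61764 := d3_3 (iv6 D61764) F182256 D62858
theorem F182280 : act 7 n59986 = n105856 := d8_2 F182249 D59986 (iv3 D105856)
theorem F182281 : act 7 n59988 = n105857 := d13_2 F182249 D59988 (iv5 D105857)
theorem F182282 : act 2 n105857 = n59993 := d15_3 (iv0 F104715) (iv0 F104714) F182281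
theorem F182283 : act 2 n59988 = n105854 := d15_3 (iv0 F162560) (iv0 F162564) (iv7 F182281)
theorem F182284 : act 7 n105854 = n59993 := d4_2 (iv7 F182281) F182283 (iv2 F182282)
theorem F182285 : act 2 n70217 = n70983 := d3_3 (iv6 F162565) F182282 (iv6 F106676)
theorem F182286 : act 7 n70984 = n70217 := d15_2 (iv0 D70983) D70984 F182285
theorem F182287 : act 7 n70218 = n70983 := d15_2 (iv0 D70217) D70218 (iv2 F182285)
theorem F182288 : act 2 n70984 = n70218 := d4_3 F182287 (iv2 F182285) (iv7 F182286)
theorem F182289 : act 7 n105853 = n59991 := d8_2 F182246 D105853 (iv3 D59991)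
theorem F182290 : act 7 n116771 = n67336 := d4_2 F182245 D116771 (iv2 D67336)
theorem F182291 : act 7 n116772 = n67337 := d11_2 F182245 D116772 (iv4 D67337)
theorem F182292 : act 7 n116773 = n67338 := d13_2 F182245 D116773 (iv5 D67338)
theorem F182293 : act 1 n116771 = n67334 := d15_0 (iv0 D67334) F182245 D116771
theorem F182294 : act 1 n67336 = n116769 := d15_0 (iv0 D116769) (iv7 F182245) D67336
theorem F182295 : act 1 n67335 = n116771 := d15_1 D67335 F182290 (iv2 D67336)
theorem F182296 : act 1 n116770 = n67336 := d15_1 D116770 (iv7 F182290) (iv2 D116771)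
def n116779 : Q := act 6 n53804
theorem D116779 : act 6 n53804 = n116779 := rfl
theorem F182298 : act 2 n116779 = n67327 := d3_1 D116779 (iv6 D67327) F182236
theorem F182299 : act 4 n116779 = n70807 := d10_1 D116779 F182232 (iv4 D116778)
def n116780 : Q := act 0 n53805
theorem D116780 : act 0 n53805 = n116780 := rfl
def n116781 : Q := act 1 n53805
theorem D116781 : act 1 n53805 = n116781 := rfl
theorem F182300 : act 1 n116781 = n67332 := d15_1 D116781 (iv7 D67332) F182242
theorem F182301 : act 4 n116781 = n69378 := d18_7 (iv1 F47477) (iv4 F97354) (iv1 F97357) F101354 D61763 (iv4 F114318) D116781 F105917 (iv5 D61409)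
theorem F182302 : act 6 n69538 = n116781 := d21_3 D53700 D116529 (iv5 F181859) (iv1 D116781) (iv6 D53805) D53804 D116776 F182221 (iv6 D116528) (iv1 D53699)
theorem F182303 : act 7 n67300 = n116781 := d11_0 F182301 (iv7 D69378) (iv4 F110642)
theorem F182304 : act 2 n67300 = n116780 := d15_3 (iv0 D116780) D116781 (iv7 F182303)
theorem F182305 : act 4 n116780 = n69365 := d1_2 (iv4 F110642) F182304 F105631
theorem F182306 : act 6 n116780 = n67296 := d3_2 D67300 F182304 F103187
theorem F182307 : act 1 n67332 = n116780 := d18_6 (iv1 D29070) (iv4 F46607) D61205 F102701 D61758 F182255 F182305 F105640 F51349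
def n116782 : Q := act 5 n53805
theorem D116782 : act 5 n53805 = n116782 := rfl
theorem F182308 : act 2 n116782 = n67331 := d2_1 D116782 (iv5 D67331) F182242
def n116783 : Q := act 7 n53805
theorem D116783 : act 7 n53805 = n116783 := rfl
theorem F182310 : act 2 n116783 = n67332 := d4_1 D116783 (iv7 D67332) F182242
theorem F182311 : act 4 n116783 = n62853 := d11_1 D116783 (iv7 F182263) (iv4 F114318)
theorem F182312 : act 6 n116783 = n67348 := d14_1 D116783 (iv7 D67348) (iv6 D31308) F182240 D53805
theorem F182313 : act 1 n67330 = n116783 := d15_1 D67330 (iv7 D116783) (iv2 F182242)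
theorem F182314 : act 0 n67300 = n116783 := d18_2 F105942 (iv4 F110642) F182311 (iv5 D62853) (iv4 F102693) (iv0 D62459) F47344 D29584 (iv5 F85700)
theorem E18050 : n67329 = n67300 := ((c15_1 (iv0 F182314) (iv0 D67329) D67332 (iv2 F182310))).symm
theorem F182315 : act 1 n67300 = n31303 := (sb E18050 (iv0 D67329))
theorem F182316 : act 2 n116781 = n67330 := d15_3 F182313 (iv0 F182314) F182303
theorem F182317 : act 7 n67330 = n116780 := d4_2 F182303 F182316 (iv2 F182304)
def n116784 : Q := act 0 n53807
theorem D116784 : act 0 n53807 = n116784 := rfl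
theorem F182318 : act 1 n67313 = n116784 := d15_0 (iv0 D116784) F182247 D67313
def n116785 : Q := act 1 n53807
theorem D116785 : act 1 n53807 = n116785 := rfl
def n116786 : Q := act 2 n53807
theorem D116786 : act 2 n53807 = n116786 := rfl
theorem F182319 : act 3 n116786 = n67336 := d0_2 D53807 D116786 (iv2 D67336) (iv3 D31305) (iv2 F182243)
theorem F182320 : act 7 n116786 = n67313 := d4_2 (iv7 F182247) D116786 (iv2 D67313)
theorem F182321 : act 1 n116786 = n67311 := d15_0 (iv0 D67311) (iv7 F182247) D116786
theorem F182322 : act 1 n116785 = n67313 := d15_1 D116785 (iv7 F182320) (iv2 D116786)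
theorem F182323 : act 1 n67312 = n116786 := d15_1 D67312 F182320 (iv2 D67313)
def n116787 : Q := act 4 n53807
theorem D116787 : act 4 n53807 = n116787 := rfl
theorem F182324 : act 7 n116787 = n67314 := d11_2 (iv7 F182247) D116787 (iv4 D67314)
def n116789 : Q := act 6 n53807
theorem D116789 : act 6 n53807 = n116789 := rfl
theorem F182327 : act 3 n116789 = n53810 := d7_1 D116789 (iv6 D53810) D53807
def n116790 : Q := act 4 n53809
theorem D116790 : act 4 n53809 = n116790 := rfl
theorem F182328 : act 2 n116790 = n67343 := d1_1 D116790 (iv4 D67343) (iv2 F182238)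
theorem F182329 : act 7 n116790 = n67326 := d11_2 (iv7 F182239) D116790 (iv4 D67326)
theorem F182330 : act 5 n116790 = n68331 := d17_5 (iv1 F53869) F49109 (iv1 F41113) D53809 D116790 F104739 F104736 F79230 F114320
theorem F182331 : act 6 n61642 = n116790 := d21_5 (iv5 D7711) F10701 D13893 (iv6 F46856) D61642 F182330 (iv1 D68331) F50098 (iv6 D24411) (iv1 F18825)
theorem F182332 : act 0 n116790 = n68408 := d21_1 (iv5 F182330) (iv5 F104704) (iv6 D68502) F77156 (iv6 D34745) (iv5 D16825) F30053 (iv5 F51951) (iv6 F104737) (iv1 F104739)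
def n116791 : Q := act 6 n53809
theorem D116791 : act 6 n53809 = n116791 := rfl
theorem F182333 : act 2 n116791 = n67344 := d3_1 D116791 (iv6 D67344) (iv2 F182238)
theorem F182334 : act 4 n116791 = n61642 := d10_1 D116791 F182331 (iv4 D116790)
theorem F182335 : act 0 n61579 = n116791 := d21_4 F26220 (iv1 F23521) (iv5 F46823) (iv6 F96125) (iv6 D116791) (iv5 D53809) (iv1 D26016) (iv5 F26231) (iv6 D16564) D16562
def n116792 : Q := act 0 n53810
theorem D116792 : act 0 n53810 = n116792 := rfl
theorem F182336 : act 5 n116792 = n66870 := d17_1 D116792 (iv1 F181643) F181639 F84667 (iv5 F85236) F85239 (iv5 F131077) (iv0 F162568) F162567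
theorem F182337 : act 4 n116792 = n68935 := d18_3 F162569 F162567 D116792 (iv5 D68935) (iv4 F107464) (iv0 D68606) (iv4 D31913) D31912 (iv5 F85168)
theorem F182338 : act 6 n69528 = n116792 := d10_0 F182337 F105105 (iv4 F105827)
theorem F182339 : act 7 n67261 = n116792 := d11_0 F182337 F105720 (iv4 F163079)
theorem F182340 : act 2 n116792 = n67345 := d4_1 F182339 (iv7 F182146) F182125
theorem F182341 : act 1 n53810 = n116734 := d15_1 (iv0 D116792) F182146 (iv2 F182340)
theorem F182342 : act 1 n116734 = n67348 := d15_1 F182341 (iv7 D67348) (iv2 F182250)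
def n116793 : Q := act 5 n53810
theorem D116793 : act 5 n53810 = n116793 := rfl
theorem F182344 : act 2 n116793 = n67347 := d2_1 D116793 (iv5 D67347) (iv2 F182250)
theorem F182345 : act 0 n116793 = n116439 := d17_2 (iv1 F182341) D116793 (iv5 D116439) F110652 D54099 (iv0 F106011) (iv5 D69663) (iv0 F105971) F182124
theorem F182346 : act 0 n116436 = n116793 := d21_1 D116436 (iv5 D116793) (iv6 D53810) (iv1 D26016) (iv6 D12331) (iv5 D5848) D5845 D12319 D25976 D53665
def n116794 : Q := act 7 n53810
theorem D116794 : act 7 n53810 = n116794 := rfl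
theorem F182348 : act 4 n116794 = n68385 := d11_1 D116794 F182253 F162567
theorem F182349 : act 6 n116794 = n67332 := d14_1 D116794 (iv7 D67332) (iv6 D31303) (iv7 F182244) D53810
theorem F182350 : act 1 n67261 = n116794 := d15_1 (iv0 F163078) (iv7 D116794) F182250
theorem F182351 : act 1 n116794 = n67345 := d15_1 F182350 (iv7 F182146) F182125
def n116795 : Q := act 0 n53812
theorem D116795 : act 0 n53812 = n116795 := rfl
theorem F182352 : act 1 n67362 = n116795 := d15_0 (iv0 D116795) F101323 D67362
def n116796 : Q := act 1 n53812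
theorem D116796 : act 1 n53812 = n116796 := rfl
def n116797 : Q := act 2 n53812
theorem D116797 : act 2 n53812 = n116797 := rfl
theorem F182353 : act 3 n116797 = n67351 := d0_2 D53812 D116797 (iv2 D67351) (iv3 D31310) (iv2 F101301)
theorem F182354 : act 7 n116797 = n67362 := d4_2 (iv7 F101323) D116797 (iv2 D67362)
theorem F182355 : act 1 n116797 = n67360 := d15_0 (iv0 D67360) (iv7 F101323) D116797
theorem F182356 : act 1 n116796 = n67362 := d15_1 D116796 (iv7 F182354) (iv2 D116797)
theorem F182357 : act 1 n67361 = n116797 := d15_1 D67361 F182354 (iv2 D67362)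
def n116798 : Q := act 5 n53812
theorem D116798 : act 5 n53812 = n116798 := rfl
theorem F182359 : act 7 n116798 = n67364 := d13_2 (iv7 F101323) D116798 (iv5 D67364)
def n116799 : Q := act 6 n53812
theorem D116799 : act 6 n53812 = n116799 := rfl
theorem F182360 : act 3 n116799 = n53815 := d7_1 D116799 (iv6 D53815) D53812
def n116802 : Q := act 6 n53814
theorem D116802 : act 6 n53814 = n116802 := rfl
theorem F182367 : act 2 n116802 = n67358 := d3_1 D116802 (iv6 D67358) (iv2 F101328)
def n116804 : Q := act 1 n53817
theorem D116804 : act 1 n53817 = n116804 := rfl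
def n116805 : Q := act 2 n53817
theorem D116805 : act 2 n53817 = n116805 := rfl
theorem F182369 : act 3 n116805 = n67362 := d0_2 D53817 D116805 (iv2 D67362) (iv3 D31315) F101308
theorem F182370 : act 7 n116805 = n67351 := d4_2 F101326 D116805 (iv2 D67351)
theorem F182372 : act 1 n116804 = n67351 := d15_1 D116804 (iv7 F182370) (iv2 D116805)
theorem F182373 : act 1 n67350 = n116805 := d15_1 D67350 F182370 (iv2 D67351)
def n116806 : Q := act 4 n53817
theorem D116806 : act 4 n53817 = n116806 := rfl
theorem F182374 : act 3 n116806 = n59798 := d5_1 D116806 (iv4 D59798) (iv3 D28355) F94151 D53817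
theorem F182375 : act 7 n116806 = n67352 := d11_2 F101326 D116806 (iv4 D67352)
def n116807 : Q := act 5 n53817
theorem D116807 : act 5 n53817 = n116807 := rfl
theorem F182377 : act 7 n116807 = n67353 := d13_2 F101326 D116807 (iv5 D67353)
def n116808 : Q := act 6 n53817
theorem D116808 : act 6 n53817 = n116808 := rfl
theorem F182378 : act 3 n116808 = n53820 := d7_1 D116808 (iv6 D53820) D53817
def n116810 : Q := act 6 n53819
theorem D116810 : act 6 n53819 = n116810 := rfl
theorem F182381 : act 2 n116810 = n67367 := d3_1 D116810 (iv6 D67367) (iv2 F101325)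
def n116811 : Q := act 3 n53821
theorem D116811 : act 3 n53821 = n116811 := rfl
def n116812 : Q := act 4 n53821
theorem D116812 : act 4 n53821 = n116812 := rfl
theorem F182386 : act 0 n116812 = n108297 := d18_2 D53821 D116812 (iv4 D108297) (iv5 D50009) F38227 F22667 (iv4 F94145) (iv0 D26018) D26020
theorem F182387 : act 1 n116812 = n59782 := d18_6 (iv1 F94134) F53685 F45847 D59794 (iv5 F94156) D116812 (iv4 D59782) D59781 (iv5 F94127)
def n116813 : Q := act 6 n53821
theorem D116813 : act 6 n53821 = n116813 := rfl
def n116814 : Q := act 3 n53822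
theorem D116814 : act 3 n53822 = n116814 := rfl
theorem F182389 : act 7 n116814 = n67369 := d8_2 (iv7 F101330) D116814 (iv3 D67369)
def n116815 : Q := act 4 n53822
theorem D116815 : act 4 n53822 = n116815 := rfl
def n116816 : Q := act 6 n53822
theorem D116816 : act 6 n53822 = n116816 := rfl
def n116817 : Q := act 0 n53823
theorem D116817 : act 0 n53823 = n116817 := rfl
theorem F182396 : act 4 n116817 = n66316 := d18_3 (iv1 D53822) D53823 D116817 F102225 (iv4 D53835) (iv0 F41129) (iv4 F84326) F100830 F94144
theorem F182397 : act 1 n65370 = n116817 := d15_0 (iv0 D116817) (iv7 F103245) F103244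
def n116818 : Q := act 1 n53823
theorem D116818 : act 1 n53823 = n116818 := rfl
theorem F182400 : act 1 n116818 = n65370 := d15_1 D116818 F101065 (iv2 F84842)
theorem F182402 : act 4 n116818 = n66317 := d18_7 F100813 (iv4 D26026) (iv1 D12334) (iv4 F20478) D26020 D53823 D116818 F102229 (iv5 D49809)
def n116819 : Q := act 3 n53823
theorem D116819 : act 3 n53823 = n116819 := rfl
theorem F182404 : act 6 n116819 = n69546 := d7_2 (iv6 F84843) D116819 (iv3 D69546)
def n116820 : Q := act 3 n53827
theorem D116820 : act 3 n53827 = n116820 := rfl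
theorem F182405 : act 4 n116820 = n53832 := d5_2 D53827 D116820 (iv3 D53832) (iv4 D26022) D26021
theorem F182406 : act 7 n116820 = n67430 := d8_2 (iv7 F84850) D116820 (iv3 D67430)
def n116821 : Q := act 5 n53827
theorem D116821 : act 5 n53827 = n116821 := rfl
theorem F182407 : act 7 n116821 = n67431 := d13_2 (iv7 F84850) D116821 (iv5 D67431)
def n116822 : Q := act 6 n53827
theorem D116822 : act 6 n53827 = n116822 := rfl
theorem F182408 : act 4 n116822 = n53829 := d10_1 D116822 (iv6 D53829) D53827
def n116823 : Q := act 4 n53828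
theorem D116823 : act 4 n53828 = n116823 := rfl
theorem F182409 : act 7 n116823 = n67435 := d11_2 (iv7 F84852) D116823 (iv4 D67435)
theorem F182410 : act 0 n115790 = n116823 := d20_7 (iv4 F100827) F100829 (iv4 D59802) (iv3 F94141) F168075 (iv3 F168678) (iv4 F180165) (iv4 D116823) F84851 F48949
def n116824 : Q := act 0 n53832
theorem D116824 : act 0 n53832 = n116824 := rfl
theorem F182411 : act 1 n67440 = n116824 := d15_0 (iv0 D116824) F84857 D67440
def n116825 : Q := act 1 n53832
theorem D116825 : act 1 n53832 = n116825 := rfl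
def n116826 : Q := act 2 n53832
theorem D116826 : act 2 n53832 = n116826 := rfl
def n116827 : Q := act 5 n53832
theorem D116827 : act 5 n53832 = n116827 := rfl
def n116828 : Q := act 6 n53832
theorem D116828 : act 6 n53832 = n116828 := rfl
theorem F182419 : act 3 n116828 = n53834 := d7_1 D116828 (iv6 D53834) D53832
def n116832 : Q := act 3 n53835
theorem D116832 : act 3 n53835 = n116832 := rfl
theorem F182428 : act 7 n116832 = n67446 := d8_2 (iv7 F84863) D116832 (iv3 D67446)
def n116833 : Q := act 3 n53839
theorem D116833 : act 3 n53839 = n116833 := rfl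
theorem F182429 : act 4 n116833 = n53841 := d5_2 D53839 D116833 (iv3 D53841) (iv4 D26026) D26025
theorem F182430 : act 7 n116833 = n67393 := d8_2 (iv7 F84870) D116833 (iv3 D67393)
def n116834 : Q := act 5 n53839
theorem D116834 : act 5 n53839 = n116834 := rfl
theorem F182431 : act 7 n116834 = n67394 := d13_2 (iv7 F84870) D116834 (iv5 D67394)
def n116835 : Q := act 4 n53840
theorem D116835 : act 4 n53840 = n116835 := rfl
theorem F182432 : act 6 n116835 = n108892 := d10_2 F168231 D116835 (iv4 D108892)
theorem F182433 : act 7 n116835 = n67398 := d11_2 (iv7 F84873) D116835 (iv4 D67398)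
def n116836 : Q := act 0 n53841
theorem D116836 : act 0 n53841 = n116836 := rfl
def n116837 : Q := act 1 n53841
theorem D116837 : act 1 n53841 = n116837 := rfl
def n116838 : Q := act 2 n53841
theorem D116838 : act 2 n53841 = n116838 := rfl
theorem F182435 : act 3 n116838 = n67440 := d0_2 D53841 D116838 (iv2 D67440) (iv3 D31341) (iv2 F41133)
theorem F182436 : act 7 n116838 = n67403 := d4_2 (iv7 F84874) D116838 (iv2 D67403)
theorem F182437 : act 1 n116838 = n67401 := d15_0 (iv0 D67401) (iv7 F84874) D116838
theorem F182438 : act 1 n116837 = n67403 := d15_1 D116837 (iv7 F182436) (iv2 D116838)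
theorem F182439 : act 1 n67402 = n116838 := d15_1 D67402 F182436 (iv2 D67403)
def n116839 : Q := act 5 n53841
theorem D116839 : act 5 n53841 = n116839 := rfl
def n116842 : Q := act 3 n53843
theorem D116842 : act 3 n53843 = n116842 := rfl
theorem F182446 : act 6 n116842 = n67659 := d7_2 (iv6 F84878) D116842 (iv3 D67659)
theorem F182447 : act 7 n116842 = n67414 := d8_2 (iv7 F84879) D116842 (iv3 D67414)
def n116844 : Q := act 1 n53845
theorem D116844 : act 1 n53845 = n116844 := rfl
theorem F182449 : act 7 n116844 = n108501 := d15_2 (iv0 F97577) D116844 F167728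
theorem F182450 : act 4 n116844 = n64286 := d18_7 (iv1 F99068) F163998 (iv1 D60908) F46530 (iv5 F41148) (iv4 F84883) D116844 F100107 F100096
def n116845 : Q := act 5 n53845
theorem D116845 : act 5 n53845 = n116845 := rfl
def n116846 : Q := act 0 n53846
theorem D116846 : act 0 n53846 = n116846 := rfl
theorem F182451 : act 1 n53851 = n116846 := d15_0 (iv0 D116846) (iv7 F84884) (iv2 F84886)
def n116848 : Q := act 3 n53846
theorem D116848 : act 3 n53846 = n116848 := rfl
theorem F182453 : act 7 n116848 = n53852 := d8_2 F84884 D116848 (iv3 D53852)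
def n116849 : Q := act 4 n53846
theorem D116849 : act 4 n53846 = n116849 := rfl
theorem F182454 : act 2 n116849 = n53848 := d1_1 D116849 (iv4 D53848) D53846
theorem F182455 : act 7 n116849 = n53853 := d11_2 F84884 D116849 (iv4 D53853)
theorem F182456 : act 3 n107140 = n116849 := d8_3 F182455 (iv3 F84887) D107140
def n116851 : Q := act 1 n53847
theorem D116851 : act 1 n53847 = n116851 := rfl
theorem F182459 : act 5 n116851 = n69490 := d18_9 (iv1 F181985) F181485 (iv1 D66083) (iv4 D30904) (iv5 D14631) (iv4 F24299) D30866 (iv4 F84885) D116851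
theorem F182460 : act 3 n67738 = n116851 := d20_9 F84885 (iv1 D30866) F24299 (iv3 D6989) (iv1 F11228) D14573 D30760 D65667 (iv4 F103775) (iv1 D116851)
theorem F182461 : act 2 n116851 = n65558 := d0_1 F182460 (iv3 D65558) (iv2 F173379) D115800 (iv2 F180179)
theorem F182462 : act 4 n116851 = n115825 := d20_6 (iv4 F103764) (iv1 F103769) (iv4 D31453) D31452 D67738 F182460 (iv1 D115825) (iv4 D53407) D53406 (iv1 F180263)
theorem F182463 : act 1 n116851 = n65962 := d15_0 (iv0 F180750) F180190 (iv2 F182461)
theorem F182464 : act 3 n115825 = n65927 := d20_3 D65962 (iv1 F182463) F182462 (iv1 D65927) (iv3 D30852) (iv4 D14615) (iv1 D6982) D6983 D14619 D30865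
theorem F182465 : act 7 n65927 = n115741 := d8_2 (iv7 F180223) F182464 (iv3 F180221)
theorem F182466 : act 2 n115741 = n65926 := d15_3 (iv0 D65926) D65927 F182465
theorem F182467 : act 2 n65927 = n115740 := d15_3 (iv0 D115740) D115741 (iv7 F182465)
theorem F182468 : act 7 n115740 = n65926 := d4_2 (iv7 F182465) F182467 (iv2 F182466)
def n116852 : Q := act 2 n53847
theorem D116852 : act 2 n53847 = n116852 := rfl
theorem F182469 : act 4 n116852 = n65965 := d1_2 (iv4 F84885) D116852 F101663
theorem F182470 : act 7 n65962 = n116852 := d15_2 D116851 F182463 (iv2 D116852)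
def n116853 : Q := act 6 n53847
theorem D116853 : act 6 n53847 = n116853 := rfl
theorem F182471 : act 3 n116853 = n53850 := d7_1 D116853 (iv6 D53850) D53847
theorem F182472 : act 4 n116853 = n65968 := d10_1 D116853 (iv6 D65968) (iv4 F84885)
def n116854 : Q := act 7 n53847
theorem D116854 : act 7 n53847 = n116854 := rfl
theorem F182473 : act 2 n116854 = n65962 := d4_1 D116854 F182470 (iv2 D116852)
theorem F182474 : act 3 n116854 = n53851 := d8_1 D116854 (iv7 D53851) D53847
theorem F182475 : act 4 n116854 = n65960 := d11_1 D116854 (iv7 F101662) (iv4 F84885)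
def n116855 : Q := act 0 n53848
theorem D116855 : act 0 n53848 = n116855 := rfl
theorem F182476 : act 4 n116855 = n65660 := d20_2 D53848 D116855 (iv3 D65660) (iv1 D30758) (iv3 D14573) F11229 (iv1 D5864) D5865 D12339 D26031
theorem F182477 : act 2 n68213 = n116855 := d15_3 (iv0 D116855) (iv0 F172279) (iv7 F180287)
theorem F182478 : act 7 n116855 = n68212 := d4_2 (iv7 F180287) F182477 (iv2 F180283)
theorem F182479 : act 1 n53853 = n116855 := d15_1 F172277 F182478 (iv2 F180283)
def n116856 : Q := act 3 n53848
theorem D116856 : act 3 n53848 = n116856 := rfl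
theorem F182480 : act 2 n116856 = n107141 := d0_1 D116856 (iv3 D107141) (iv2 F165122) F182456 F182454
theorem F182481 : act 4 n116856 = n65966 := d5_2 D53848 D116856 (iv3 D65966) (iv4 F84885) (iv3 D53847)
def n116857 : Q := act 5 n53848
theorem D116857 : act 5 n53848 = n116857 := rfl
theorem F182482 : act 4 n116857 = n67469 := d18_5 (iv1 D49631) F37926 D26031 D53848 D116857 (iv0 D67469) F49615 D51166 (iv5 F180716)
def n116858 : Q := act 6 n53848
theorem D116858 : act 6 n53848 = n116858 := rfl
theorem F182483 : act 4 n116858 = n53850 := d10_1 D116858 (iv6 D53850) D53848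
def n116859 : Q := act 7 n53848
theorem D116859 : act 7 n53848 = n116859 := rfl
theorem F182484 : act 2 n116859 = n53853 := d4_1 D116859 (iv7 F182455) F182454
theorem F182485 : act 4 n116859 = n53851 := d11_1 D116859 (iv7 D53851) D53848
def n116860 : Q := act 0 n53850
theorem D116860 : act 0 n53850 = n116860 := rfl
def n116861 : Q := act 1 n53850
theorem D116861 : act 1 n53850 = n116861 := rfl
def n116862 : Q := act 5 n53850
theorem D116862 : act 5 n53850 = n116862 := rfl
def n116863 : Q := act 7 n53850
theorem D116863 : act 7 n53850 = n116863 := rfl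
def n116864 : Q := act 6 n53851
theorem D116864 : act 6 n53851 = n116864 := rfl
theorem F182486 : act 2 n116864 = n53855 := d3_1 D116864 (iv6 D53855) (iv2 F84886)
def n116865 : Q := act 0 n53852
theorem D116865 : act 0 n53852 = n116865 := rfl
theorem F182487 : act 4 n116865 = n67676 := d20_0 (iv1 F103707) (iv4 D65632) (iv3 F49692) (iv1 F49696) D65660 (iv4 F182476) (iv1 F182479) (iv4 D53853) D53852 D116865
theorem F182488 : act 3 n116865 = n67717 := d20_3 (iv4 F49726) D67676 (iv4 F182487) (iv1 D67717) (iv3 D31447) D31448 D67722 F103764 (iv3 D67695) (iv1 D31439)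
theorem F182489 : act 4 n67717 = n65697 := d20_6 (iv4 F182476) (iv1 F182479) (iv4 D53853) D53852 D116865 F182488 (iv1 D65697) (iv4 D30768) D30767 (iv1 F180285)
theorem F182490 : act 0 n116865 = n68230 := d20_4 D30773 (iv1 F101421) (iv4 F182489) (iv3 F182488) F180125 (iv4 D115761) (iv1 F84228) F49322 (iv3 F40941) (iv1 F40945)
theorem E18051 : n116848 = n31754 := (c15_3 (iv0 F182490) (iv0 D116865) (iv7 F182453) D68230)
theorem E18052 : n53846 = n14937 := ((((iv3 D31754)).symm.trans (sb E18051 (iv3 D116848)))).symm
theorem E18053 : n68202 = n53852 := (((iv7 F104372)).symm.trans (sb E18051 F182453))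
theorem E18054 : n116846 = n7116 := ((((iv1 D14937)).symm.trans (sb E18052 D116846))).symm
theorem E18056 : n31753 = n26031 := (((iv2 F50053)).symm.trans (sb E18052 (iv2 D53846)))
theorem E18057 : n116849 = n31755 := (((D31755).symm.trans (sb E18052 D116849))).symm
theorem E18058 : n66943 = n31756 := (((D31756).symm.trans (sb E18052 F180721))).symm
theorem E18060 : n31748 = n26032 := ((F50052).symm.trans (sb E18052 (iv7 F84884)))
theorem F182491 : act 7 n53852 = n31754 := (sb E18053 F104372)
theorem E18061 : n53851 = n14936 := (((D14936).symm.trans (sb E18054 (iv1 F182451)))).symm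
theorem F182492 : act 2 n26031 = n14937 := (sb E18056 F50053)
theorem E18064 : n68211 = n53847 := (((D53847).symm.trans (sb E18056 (iv3 F104380)))).symm
theorem E18065 : n68217 = n53848 := (((D53848).symm.trans (sb E18056 (iv4 F104385)))).symm
theorem E18066 : n68222 = n31178 := ((((iv5 F180722)).symm.trans (sb E18056 (iv5 F104389)))).symm
theorem E18067 : n68227 = n53850 := (((D53850).symm.trans (sb E18056 D68227))).symm
theorem E18068 : n107140 = n59116 := ((((iv3 F93285)).symm.trans (sb E18057 (iv3 F182456)))).symm
theorem E18069 : n68203 = n53853 := (((iv7 F104374)).symm.trans (sb E18057 F182455))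
theorem E18070 : n68204 = n31179 := (((iv7 F104376)).symm.trans (sb E18058 (iv7 F102896)))
theorem F182493 : act 7 n26032 = n14937 := (sb E18060 (iv7 F50052))
theorem F182494 : act 2 n14936 = n26032 := (sb E18061 F84886)
theorem E18072 : n116854 = n31749 := (((D31749).symm.trans (sb E18061 (iv3 F182474)))).symm
theorem E18073 : n116859 = n31750 := (((D31750).symm.trans (sb E18061 (iv4 F182485)))).symm
theorem E18074 : n66948 = n31751 := (((D31751).symm.trans (sb E18061 F180719))).symm
theorem E18075 : n116864 = n31752 := (((D31752).symm.trans (sb E18061 D116864))).symm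
theorem F182495 : act 7 n14936 = n26031 := (sb E18061 (iv7 D53851))
theorem E18076 : n116852 = n115761 := ((D116852).symm.trans (sb E18064 (iv2 F180124)))
theorem F182496 : act 2 n53848 = n31755 := (sb E18065 F104384)
theorem F182497 : act 2 n31178 = n31756 := (sb E18066 F104388)
theorem F182498 : act 2 n53850 = n31757 := (sb E18067 F104391)
theorem F182499 : act 2 n59116 = n49498 := (sb E18068 F165122)
theorem E18078 : n112671 = n49464 := (((F166899).symm.trans (sb E18068 (iv5 F180736)))).symm
theorem F182500 : act 7 n59116 = n49497 := (sb E18068 (iv7 D107140))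
theorem F182501 : act 7 n53853 = n31755 := (sb E18069 F104374)
theorem F182502 : act 7 n31179 = n31756 := (sb E18070 F104376)
theorem E18079 : n68208 = n65962 := ((D68208).symm.trans (sb E18072 F182473))
theorem E18080 : n65960 = n53382 := (((F84229).symm.trans (sb E18072 F182475))).symm
theorem F182503 : act 7 n31749 = n53847 := (sb E18072 (iv7 D116854))
theorem F182504 : act 2 n31750 = n53853 := (sb E18073 F182484)
theorem F182505 : act 7 n31750 = n53848 := (sb E18073 (iv7 D116859))
theorem F182506 : act 2 n31751 = n31179 := (sb E18074 F102897)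
theorem F182507 : act 7 n31751 = n31178 := (sb E18074 (iv7 D66948))
theorem F182508 : act 2 n31752 = n53855 := (sb E18075 F182486)
theorem F182509 : act 2 n115761 = n53847 := (sb E18076 (iv2 D116852))
theorem E18081 : n65965 = n53381 := ((((iv4 D115761)).symm.trans (sb E18076 F182469))).symm
theorem E18082 : n107077 = n52001 := ((D107077).symm.trans (sb E18078 F175341))
theorem E18083 : n107082 = n52000 := ((D107082).symm.trans (sb E18078 (iv7 D112671)))
theorem F182510 : act 2 n65962 = n31749 := (sb E18079 (iv2 D68208))
theorem E18084 : n115764 = n30865 := ((((iv4 D65962)).symm.trans (sb E18079 (iv4 F180133)))).symm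
theorem F182511 : act 7 n65962 = n115761 := (sb E18079 F180126)
theorem F182512 : act 7 n53382 = n30866 := (sb E18080 (iv7 F101662))
theorem F182513 : act 2 n53381 = n30866 := (sb E18081 F101663)
theorem F182514 : act 2 n52001 = n49464 := (sb E18082 (iv2 D107077))
theorem E18085 : n112666 = n49465 := ((F175339).symm.trans (sb E18082 (iv7 F165061)))
theorem F182515 : act 7 n52000 = n49464 := (sb E18083 (iv7 D107082))
theorem F182516 : act 2 n30865 = n53382 := (sb E18084 F180132)
theorem F182517 : act 7 n30865 = n53381 := (sb E18084 (iv7 D115764))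
theorem F182518 : act 2 n49465 = n52000 := (sb E18085 (iv2 D112666))
theorem E18086 : n107136 = n107085 := (((D107085).symm.trans (sb E18085 F180734))).symm
theorem F182519 : act 7 n49465 = n52001 := (sb E18085 (iv7 F175339))
theorem F182520 : act 2 n107085 = n49497 := (sb E18086 (iv2 D107136))
theorem F182521 : act 7 n107085 = n49498 := (sb E18086 (iv7 F165121))
theorem E18087 : n107085 = n59117 := ((c15_2 (iv0 D59116) D59117 F182521 (iv2 F182499))).symm
theorem F182522 : act 2 n59117 = n49497 := (sb E18087 F182520)
theorem F182523 : act 5 n59117 = n49465 := (sb E18087 (iv5 D107085))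
theorem F182524 : act 7 n59117 = n49498 := (sb E18087 F182521)
theorem F182525 : act 5 n107047 = n115505 := d17_1 F164990 (iv1 D115505) (iv5 D53283) (iv4 F77663) F77664 D59117 F182523 F82137 (iv4 F84086)
theorem F182526 : act 2 n115505 = n115396 := d2_1 F182525 (iv5 D115396) (iv2 F180675)
theorem F182527 : act 7 n115505 = n115400 := d13_2 (iv7 F180676) F182525 (iv5 D115400)
theorem F182528 : act 2 n115400 = n115504 := d15_3 (iv0 D115504) D115505 F182527
theorem F182529 : act 7 n115396 = n115504 := d4_2 (iv7 F182527) F182526 (iv2 F182528)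
theorem F182530 : act 5 n115504 = n107046 := d13_1 F182529 F180678 D115396
theorem F182531 : act 1 n115400 = n115502 := d15_0 (iv0 F180737) F182529 (iv2 F182528)
theorem F182532 : act 7 n112672 = n107083 := d8_2 F182519 D112672 (iv3 D107083)
theorem F182533 : act 7 n112673 = n107084 := d11_2 F182519 D112673 (iv4 D107084)
theorem F182534 : act 2 n112668 = n107084 := d1_3 (iv4 D107084) F182518 D112668
theorem F182535 : act 2 n112670 = n107086 := d3_3 (iv6 D107086) F182518 D112670
theorem F182536 : act 7 n115760 = n65961 := d8_2 F182517 D115760 (iv3 D65961)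
theorem F182537 : act 7 n66525 = n65963 := d13_2 F182517 (iv5 F180883) (iv5 D65963)
theorem F182538 : act 2 n65963 = n66526 := d15_3 F180884 (iv0 F180882) F182537
theorem F182539 : act 2 n66525 = n65967 := d15_3 F180973 (iv0 F180974) (iv7 F182537)
theorem F182540 : act 7 n65967 = n66526 := d4_2 (iv7 F182537) F182539 (iv2 F182538)
theorem F182541 : act 2 n115767 = n65964 := d3_3 (iv6 D65964) F182516 D115767
theorem F182542 : act 7 n68234 = n112667 := d8_2 F182515 (iv3 F166897) (iv3 D112667)
theorem F182543 : act 7 n107079 = n112668 := d11_2 F182515 D107079 (iv4 D112668)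
theorem F182544 : act 2 n112673 = n107079 := d4_3 F182543 F182534 (iv7 F182533)
theorem F182545 : act 7 n67470 = n107483 := d11_2 F182542 F175340 (iv4 F166898)
theorem F182546 : act 2 n107483 = n67469 := d15_3 (iv0 D67469) D67470 F182545
theorem F182547 : act 2 n67470 = n107482 := d15_3 (iv0 D107482) D107483 (iv7 F182545)
theorem F182548 : act 2 n68215 = n112667 := d1_3 F175340 F182547 F166902
theorem F182549 : act 7 n107482 = n67469 := d4_2 (iv7 F182545) F182547 (iv2 F182546)
theorem F182550 : act 7 n116857 = n68215 := d11_2 F182549 (iv4 F182482) (iv4 F166902)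
theorem F182551 : act 2 n68234 = n116857 := d4_3 F182550 F182548 (iv7 F182542)
theorem F182552 : act 2 n107081 = n112675 := d3_3 (iv6 D112675) F182514 D107081
theorem F182553 : act 2 n65968 = n115763 := d3_3 (iv6 D115763) F182513 D65968
theorem F182554 : act 7 n65966 = n115765 := d8_2 F182512 D65966 (iv3 D115765)
theorem F182555 : act 7 n68214 = n116856 := d11_2 F182554 F180134 F182481
theorem F182556 : act 2 n66944 = n116626 := d2_3 F181997 F182509 F180723
theorem F182557 : act 2 n66635 = n116162 := d1_3 (iv4 F180967) F182556 F181998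
theorem F182558 : act 7 n68209 = n66944 := d15_2 (iv0 D116626) (iv0 F181995) F182556
theorem F182559 : act 7 n116162 = n66636 := d11_2 F182558 F180967 (iv4 F166903)
theorem F182560 : act 2 n66636 = n116161 := d15_3 (iv0 D116161) D116162 F182559
theorem F182561 : act 7 n66635 = n116161 := d4_2 (iv7 F182559) (iv2 F182557) (iv2 F182560)
theorem F182562 : act 7 n66945 = n68220 := d11_2 F182507 D66945 (iv4 D68220)
theorem F182563 : act 2 n66950 = n68220 := d1_3 (iv4 D68220) F182506 D66950
theorem F182564 : act 2 n66952 = n68221 := d3_3 (iv6 D68221) F182506 D66952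
theorem F182565 : act 7 n68232 = n66949 := d8_2 F182502 (iv3 F104394) (iv3 D66949)
theorem F182566 : act 7 n68236 = n66950 := d11_2 F182502 D68236 (iv4 D66950)
theorem F182567 : act 2 n66945 = n68236 := d4_3 F182566 F182563 (iv7 F182562)
theorem F182568 : act 2 n68235 = n116858 := d1_3 F182483 F182498 (iv4 F104396)
theorem F182569 : act 2 n68240 = n116862 := d2_3 (iv5 D116862) F182498 D68240
theorem F182570 : act 2 n68241 = n116863 := d4_3 (iv7 D116863) F182498 D68241
theorem F182571 : act 1 n68239 = n116863 := d15_1 D68239 (iv7 D116863) F182498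
theorem F182572 : act 1 n116861 = n68241 := d15_1 D116861 (iv7 D68241) (iv2 F182498)
theorem F182573 : act 1 n116863 = n68238 := d15_0 (iv0 D68238) D68241 F182570
theorem F182574 : act 1 n68241 = n116860 := d15_0 (iv0 D116860) D116863 (iv2 F182570)
theorem F182575 : act 2 n68237 = n66947 := d3_3 (iv6 D66947) F182497 D68237
theorem F182576 : act 6 n116863 = n68226 := d14_3 F182495 D53850 D116863 (iv7 D68226) (iv6 D31752)
theorem F182577 : act 3 n65697 = n108900 := d20_3 D115946 (iv1 F180550) F182489 (iv1 D108900) (iv3 D50282) (iv4 D24524) (iv1 F19426) D12292 D25899 D53458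
def n116866 : Q := act 1 n53852
theorem D116866 : act 1 n53852 = n116866 := rfl
def n116867 : Q := act 2 n53852
theorem D116867 : act 2 n53852 = n116867 := rfl
theorem F182578 : act 3 n116867 = n65962 := d0_2 D53852 D116867 F182510 (iv3 D31749) F182494
theorem F182579 : act 7 n116867 = n68230 := d4_2 (iv7 F182491) D116867 (iv2 D68230)
theorem F182580 : act 1 n116867 = n68228 := d15_0 (iv0 D68228) (iv7 F182491) D116867
theorem E18088 : n116866 = n109683 := (c15_1 D116866 (iv0 F180129) (iv7 F182579) (iv2 D116867))
theorem F182581 : act 0 n109683 = n53852 := (sb E18088 (iv1 D116866))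
theorem F182582 : act 0 n64472 = n109684 := d20_1 (iv4 F103430) (iv4 D109684) D109683 F182581 (iv3 D53852) D53853 (iv1 F172277) F172278 F180236 F180239
theorem F182583 : act 1 n68229 = n116867 := d15_1 D68229 F182579 (iv2 D68230)
theorem E18089 : n68229 = n65597 := (c20_5 (iv4 F24299) D30865 D65962 (iv3 F182578) (iv1 F182583) (iv3 D65597) D65598 F101726 (iv4 D66054) (iv3 D30896) (iv1 D14629))
theorem F182584 : act 0 n65597 = n31754 := (sb E18089 (iv1 D68229))
theorem F182585 : act 1 n65597 = n116867 := (sb E18089 F182583)
theorem F182586 : act 3 n59920 = n109608 := d19_3 (iv1 F182585) F103145 F94395 (iv1 F174966) (iv5 D112488) (iv4 D51897) (iv3 D25182) (iv1 D11951) (iv5 F19027) (iv4 F38550) F38549 (iv1 F38422) D50174 F79511 (iv3 F84427) (iv1 F180975) (iv5 D65963) D65962 (iv3 F182578)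
theorem F182587 : act 4 n109608 = n67170 := d5_2 F94395 F182586 (iv3 D67170) (iv4 D31263) D31262
theorem F182588 : act 5 n109607 = n59920 := d6_0 F182586 (iv5 D109608) D109607
theorem F182589 : act 0 n112113 = n67170 := d20_1 D112113 (iv4 F182587) (iv3 F182586) (iv1 D59920) (iv3 D28461) (iv4 D13569) D13567 D28451 D59899 F94382
theorem F182590 : act 0 n68232 = n67031 := d17_2 F182584 D68232 (iv5 D67031) F102936 D105628 F162322 (iv5 D65637) D65636 (iv4 F101371)
theorem F182591 : act 1 n68232 = n67040 := d15_1 (iv0 F182590) (iv7 D67040) (iv2 F103022)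
def n116868 : Q := act 4 n53852
theorem D116868 : act 4 n53852 = n116868 := rfl
theorem F182592 : act 3 n116868 = n107137 := d5_1 D116868 (iv4 D107137) F84887 (iv4 D53853) D53852
theorem F182593 : act 7 n116868 = n68231 := d11_2 (iv7 F182491) D116868 (iv4 D68231)
theorem F182594 : act 0 n116868 = n65630 := d20_1 D116868 (iv4 D65630) D65629 F180643 (iv3 F103426) (iv4 F103430) F182582 (iv4 D109684) D109683 F182581
theorem F182595 : act 0 n65626 = n116868 := d20_1 D65626 (iv4 D116868) (iv3 D53852) (iv1 D26032) (iv3 D12339) (iv4 D5865) (iv1 F8713) (iv4 F11226) D14570 D30747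
def n116869 : Q := act 6 n53852
theorem D116869 : act 6 n53852 = n116869 := rfl
theorem F182596 : act 3 n116869 = n53855 := d7_1 D116869 (iv6 D53855) D53852
def n116870 : Q := act 6 n53853
theorem D116870 : act 6 n53853 = n116870 := rfl
theorem F182597 : act 2 n116870 = n68216 := d3_1 D116870 (iv6 D68216) F182504
theorem F182598 : act 3 n116870 = n107139 := d7_1 D116870 (iv6 D107139) F84887
theorem F182599 : act 4 n116870 = n53855 := d10_1 D116870 (iv6 D53855) D53853
def n116871 : Q := act 0 n53855
theorem D116871 : act 0 n53855 = n116871 := rfl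
def n116872 : Q := act 1 n53855
theorem D116872 : act 1 n53855 = n116872 := rfl
theorem F182600 : act 1 n116872 = n68226 := d15_1 D116872 (iv7 D68226) F182508
def n116873 : Q := act 5 n53855
theorem D116873 : act 5 n53855 = n116873 := rfl
theorem F182601 : act 2 n116873 = n68225 := d2_1 D116873 (iv5 D68225) F182508
def n116874 : Q := act 7 n53855
theorem D116874 : act 7 n53855 = n116874 := rfl
theorem F182602 : act 2 n116874 = n68226 := d4_1 D116874 (iv7 D68226) F182508
theorem F182603 : act 6 n116874 = n68241 := d14_1 D116874 (iv7 D68241) (iv6 D31757) (iv7 F182493) D53855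
theorem F182604 : act 1 n68226 = n116871 := d15_0 (iv0 D116871) D116874 F182602
theorem F182606 : act 1 n116874 = n68223 := d15_0 (iv0 D68223) D68226 (iv2 F182602)
def n116878 : Q := act 7 n53856
theorem D116878 : act 7 n53856 = n116878 := rfl
theorem F182612 : act 6 n116878 = n68245 := d14_1 D116878 (iv7 D68245) (iv6 D31758) (iv7 F41151) D53856
def n116901 : Q := act 5 n53868
theorem D116901 : act 5 n53868 = n116901 := rfl
theorem F182639 : act 7 n116901 = n67820 := d13_2 (iv7 F84912) D116901 (iv5 D67820)
def n116902 : Q := act 4 n53870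
theorem D116902 : act 4 n53870 = n116902 := rfl
theorem F182640 : act 2 n116902 = n59472 := d1_1 D116902 F93870 (iv2 F101930)
theorem F182642 : act 7 n116902 = n59407 := d11_2 (iv7 F101934) D116902 F93756
theorem F182643 : act 0 n116902 = n59470 := d18_2 F101939 D116902 F111352 (iv5 F79802) D109280 (iv0 F169293) F161957 (iv0 F101928) (iv5 F101941)
theorem F182644 : act 0 n59469 = n116902 := d20_1 (iv4 F111289) (iv4 D116902) F101931 (iv1 F168676) F168672 (iv4 D64384) (iv1 D30319) F24029 (iv3 F23981) D30270
def n116903 : Q := act 6 n53871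
theorem D116903 : act 6 n53871 = n116903 := rfl
theorem F182645 : act 2 n116903 = n53873 := d3_1 D116903 (iv6 D53873) D53871
theorem F182646 : act 3 n116903 = n67816 := d7_1 D116903 (iv6 D67816) (iv3 F84914)
theorem F182647 : act 0 n116903 = n107756 := d21_4 (iv5 D48801) D48799 F111389 D116903 F166391 F166229 F166230 (iv5 D105669) F76925 (iv1 F162016)
theorem F182648 : act 0 n67638 = n116903 := d21_4 F166147 F166194 (iv5 D67637) D67638 (iv6 D116903) (iv5 F111389) F111386 (iv5 F111397) (iv6 F166026) (iv1 F166027)
def n116904 : Q := act 5 n53872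
theorem D116904 : act 5 n53872 = n116904 := rfl
theorem F182650 : act 1 n116904 = n107717 := d17_6 (iv1 D49754) (iv5 F76802) F101925 (iv5 F41167) D53872 D116904 (iv5 D107717) (iv0 F166345) (iv4 D107700)
def n116905 : Q := act 6 n53872
theorem D116905 : act 6 n53872 = n116905 := rfl
theorem F182651 : act 4 n116905 = n53873 := d10_1 D116905 (iv6 D53873) D53872
def n116906 : Q := act 6 n53875
theorem D116906 : act 6 n53875 = n116906 := rfl
theorem F182652 : act 2 n116906 = n67943 := d3_1 D116906 (iv6 D67943) (iv2 F84928)
theorem F182653 : act 3 n116906 = n53876 := d7_1 D116906 (iv6 D53876) D53875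
theorem F182654 : act 4 n116906 = n67845 := d10_1 D116906 (iv6 D67845) (iv4 F84932)
theorem F182655 : act 7 n116906 = n68017 := d14_2 (iv7 F84930) D116906 F104137 F55495 (iv6 F50950)
theorem F182656 : act 0 n116906 = n67960 := d21_4 D59849 F94291 (iv5 F84929) D116906 F104065 D69923 (iv1 F115147) F115144 F97968 (iv1 F83044)
theorem F182657 : act 5 n116906 = n70583 := d21_6 D23887 (iv1 F51494) (iv5 D32436) (iv6 F50617) (iv1 F84935) D116906 (iv1 D70583) (iv5 D32743) (iv6 D15653) (iv1 F37230)
theorem F182658 : act 0 n68018 = n116906 := d21_4 D48962 (iv1 F108574) (iv5 F166757) F166762 (iv6 D116906) F84929 F85151 F85149 (iv6 F52475) F52478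
def n116907 : Q := act 6 n53877
theorem D116907 : act 6 n53877 = n116907 := rfl
theorem F182659 : act 3 n116907 = n53879 := d7_1 D116907 (iv6 D53879) D53877
theorem F182660 : act 5 n116907 = n54500 := d12_1 D116907 (iv6 D54500) (iv5 D26358) (iv6 F41301) (iv5 F84942)
def n116908 : Q := act 3 n53878
theorem D116908 : act 3 n53878 = n116908 := rfl
theorem F182661 : act 5 n116908 = n68342 := d6_2 (iv5 F84947) D116908 (iv3 D68342)
theorem F182662 : act 7 n116908 = n68337 := d8_2 (iv7 F84946) D116908 (iv3 D68337)
def n116909 : Q := act 6 n53878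
theorem D116909 : act 6 n53878 = n116909 := rfl
theorem F182663 : act 2 n116909 = n68343 := d3_1 D116909 (iv6 D68343) (iv2 F84945)
theorem F182664 : act 4 n116909 = n53879 := d10_1 D116909 (iv6 D53879) D53878
def n116910 : Q := act 0 n53879
theorem D116910 : act 0 n53879 = n116910 := rfl
theorem F182665 : act 6 n116910 = n108405 := d21_5 (iv5 D12381) D12378 (iv5 F41191) D53879 D116910 (iv5 D108405) (iv1 D50056) (iv5 F50098) (iv6 D31796) F26635
theorem F182666 : act 0 n116910 = n68346 := d21_4 F104736 (iv1 F79231) D108405 (iv6 F182665) (iv6 F114101) F114102 (iv1 D49031) D49034 (iv6 F103949) F109836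
def n116911 : Q := act 1 n53879
theorem D116911 : act 1 n53879 = n116911 := rfl
theorem F182667 : act 1 n116911 = n68346 := d15_1 D116911 (iv7 D68346) (iv2 F84950)
theorem F182668 : act 5 n71181 = n116911 := d21_0 (iv1 D116911) F84951 (iv6 D26360) F20942 (iv6 F24532) (iv5 D14891) D14889 D31664 D68051 F107674
def n116912 : Q := act 7 n53879
theorem D116912 : act 7 n53879 = n116912 := rfl
theorem F182670 : act 5 n116912 = n54505 := d13_1 D116912 (iv7 D54505) (iv5 F84951)
theorem F182671 : act 6 n116912 = n59968 := d14_1 D116912 F130834 (iv6 D31801) F41194 D53879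
theorem F182672 : act 1 n68345 = n116912 := d15_1 D68345 (iv7 D116912) F84950
theorem F182673 : act 0 n68344 = n116912 := d21_4 F104510 (iv1 F79228) D108006 (iv6 F166879) F182671 F130833 (iv1 F77391) D106088 F163090 (iv1 F104738)
def n116913 : Q := act 6 n53880
theorem D116913 : act 6 n53880 = n116913 := rfl
theorem F182674 : act 3 n116913 = n53882 := d7_1 D116913 (iv6 D53882) D53880
theorem F182675 : act 5 n116913 = n54325 := d12_1 D116913 (iv6 D54325) F41701 (iv6 F41304) (iv5 F84952)
theorem F182676 : act 1 n69224 = n116913 := d18_8 F110491 (iv4 D33687) (iv1 F52871) F52868 (iv5 F51105) (iv4 F105397) F105400 D69224 F182675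
def n116914 : Q := act 3 n53881
theorem D116914 : act 3 n53881 = n116914 := rfl
theorem F182677 : act 5 n116914 = n68337 := d6_2 (iv5 F84957) D116914 (iv3 D68337)
theorem F182678 : act 7 n116914 = n68342 := d8_2 (iv7 F84958) D116914 (iv3 D68342)
def n116915 : Q := act 6 n53881
theorem D116915 : act 6 n53881 = n116915 := rfl
theorem F182679 : act 2 n116915 = n68338 := d3_1 D116915 (iv6 D68338) (iv2 F84956)
theorem F182680 : act 4 n116915 = n53882 := d10_1 D116915 (iv6 D53882) D53881
theorem F182681 : act 0 n116915 = n75931 := d21_4 F51415 F51411 (iv5 F84957) D116915 (iv6 D75931) F54942 D39468 F60385 F51949 (iv1 F51418)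
def n116916 : Q := act 3 n53883
theorem D116916 : act 3 n53883 = n116916 := rfl
theorem F182682 : act 5 n116916 = n68349 := d6_2 (iv5 F84963) D116916 (iv3 D68349)
theorem F182683 : act 7 n116916 = n68347 := d8_2 F84967 D116916 (iv3 D68347)
def n116917 : Q := act 6 n53883
theorem D116917 : act 6 n53883 = n116917 := rfl
theorem F182684 : act 2 n116917 = n68350 := d3_1 D116917 (iv6 D68350) F84966
theorem F182685 : act 4 n116917 = n54006 := d10_1 D116917 (iv6 D54006) (iv4 F84964)
def n116918 : Q := act 3 n53884
theorem D116918 : act 3 n53884 = n116918 := rfl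
theorem F182686 : act 4 n116918 = n68817 := d5_2 (iv4 F84971) D116918 (iv3 D68817) (iv4 D32010) (iv3 F41324)
theorem F182687 : act 5 n116918 = n68347 := d6_2 (iv5 F84970) D116918 (iv3 D68347)
theorem F182688 : act 7 n116918 = n68349 := d8_2 (iv7 F84969) D116918 (iv3 D68349)
def n116919 : Q := act 6 n53884
theorem D116919 : act 6 n53884 = n116919 := rfl
theorem F182689 : act 2 n116919 = n68348 := d3_1 D116919 (iv6 D68348) F84972
theorem F182690 : act 4 n116919 = n54007 := d10_1 D116919 (iv6 D54007) (iv4 F84971)
theorem F182691 : act 0 n116919 = n59971 := d21_4 (iv5 D31807) D31805 (iv5 F84970) D116919 (iv6 F130839) F87961 (iv1 F44927) (iv5 F43097) F43096 F50112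
def n116920 : Q := act 0 n53885
theorem D116920 : act 0 n53885 = n116920 := rfl
def n116921 : Q := act 1 n53885
theorem D116921 : act 1 n53885 = n116921 := rfl
def n116922 : Q := act 5 n53885
theorem D116922 : act 5 n53885 = n116922 := rfl
def n116923 : Q := act 7 n53885
theorem D116923 : act 7 n53885 = n116923 := rfl
theorem F182693 : act 4 n116923 = n53888 := d11_1 D116923 (iv7 D53888) (iv4 F84973)
theorem F182694 : act 6 n116923 = n68355 := d14_1 D116923 (iv7 D68355) (iv6 D31808) (iv7 F41199) D53885
def n116924 : Q := act 3 n53886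
theorem D116924 : act 3 n53886 = n116924 := rfl
theorem F182695 : act 6 n116924 = n68510 := d7_2 (iv6 F84974) D116924 F104710
def n116925 : Q := act 4 n53886
theorem D116925 : act 4 n53886 = n116925 := rfl
theorem F182696 : act 6 n116925 = n68515 := d10_2 (iv6 F84974) D116925 (iv4 D68515)
def n116926 : Q := act 3 n53887
theorem D116926 : act 3 n53887 = n116926 := rfl
def n116927 : Q := act 4 n53887
theorem D116927 : act 4 n53887 = n116927 := rfl
def n116928 : Q := act 6 n53887
theorem D116928 : act 6 n53887 = n116928 := rfl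
theorem F182698 : act 0 n116928 = n108401 := d21_10 (iv5 D108401) (iv1 F79230) (iv5 F104736) F104737 (iv1 F51952) D39777 F60613 D58551 F92489 D116928
def n116931 : Q := act 3 n53889
theorem D116931 : act 3 n53889 = n116931 := rfl
theorem F182701 : act 7 n116931 = n53895 := d8_2 F84977 D116931 (iv3 D53895)
def n116932 : Q := act 5 n53889
theorem D116932 : act 5 n53889 = n116932 := rfl
theorem F182702 : act 2 n116932 = n53892 := d2_1 D116932 (iv5 D53892) D53889
theorem F182703 : act 7 n116932 = n53897 := d13_2 F84977 D116932 (iv5 D53897)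
theorem F182704 : act 1 n71162 = n53897 := d15_1 (iv0 F122601) (iv7 F182703) F182702
def n116933 : Q := act 6 n53889
theorem D116933 : act 6 n53889 = n116933 := rfl
theorem F182705 : act 2 n116933 = n53893 := d3_1 D116933 (iv6 D53893) D53889
theorem F182706 : act 5 n68524 = n116933 := d2_0 F182705 F84978 (iv2 F104721)
theorem F182707 : act 7 n59982 = n116933 := d15_2 F131063 (iv0 F131059) F182705
def n116934 : Q := act 0 n53890
theorem D116934 : act 0 n53890 = n116934 := rfl
def n116935 : Q := act 1 n53890
theorem D116935 : act 1 n53890 = n116935 := rfl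
def n116936 : Q := act 2 n53890
theorem D116936 : act 2 n53890 = n116936 := rfl
def n116938 : Q := act 5 n53890
theorem D116938 : act 5 n53890 = n116938 := rfl
theorem F182708 : act 3 n116938 = n53892 := d6_1 D116938 (iv5 D53892) D53890
def n116939 : Q := act 6 n53890
theorem D116939 : act 6 n53890 = n116939 := rfl
theorem F182709 : act 3 n116939 = n53893 := d7_1 D116939 (iv6 D53893) D53890
theorem F182710 : act 5 n68525 = n116939 := d6_0 F182709 F84978 D68525
def n116940 : Q := act 7 n53890
theorem D116940 : act 7 n53890 = n116940 := rfl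
def n116941 : Q := act 0 n53892
theorem D116941 : act 0 n53892 = n116941 := rfl
theorem F182712 : act 5 n116941 = n68471 := d21_2 D53892 D116941 (iv6 D68471) (iv1 D31859) (iv6 D14998) F11450 (iv1 D5872) D5874 D12352 D26057
theorem F182713 : act 0 n116941 = n68052 := d21_7 (iv5 D61758) (iv1 F47825) (iv5 F50177) F50178 (iv1 F50156) D68471 (iv5 F182712) F104173 D68056 (iv1 F182265)
theorem E18090 : n68587 = n68471 := (c21_11 (iv5 F182712) F182713 F104173 D68056 (iv1 F182265) F104562 F104792 (iv1 D68584) (iv5 D31904) D31905 D68587)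
theorem F182714 : act 0 n68471 = n68072 := (sb E18090 (iv1 F104795))
theorem F182715 : act 1 n68471 = n31905 := (sb E18090 (iv0 D68587))
theorem E18091 : n68033 = n53892 := ((c15_2 (iv0 F182713) (iv0 D116941) F104160 (iv2 F104172))).symm
theorem E18092 : n116932 = n31664 := (((iv2 F182702)).symm.trans (sb E18091 F104159))
theorem E18093 : n31661 = n26057 := ((((iv5 D53892)).symm.trans (sb E18091 (iv5 D68033)))).symm
theorem F182716 : act 7 n53892 = n31669 := (sb E18091 F104160)
theorem F182717 : act 2 n31664 = n53892 := (sb E18092 F182702)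
theorem E18094 : n53889 = n14889 := ((((iv5 D31664)).symm.trans (sb E18092 (iv5 D116932)))).symm
theorem E18095 : n68052 = n53897 := ((D68052).symm.trans (sb E18092 F182703))
theorem E18098 : n68031 = n53890 := (((D53890).symm.trans (sb E18093 D68031))).symm
theorem E18099 : n68032 = n30910 := ((((iv4 F105662)).symm.trans (sb E18093 D68032))).symm
theorem E18101 : n53894 = n14890 := ((D53894).symm.trans (sb E18093 (iv7 F49952)))
theorem F182718 : act 2 n14889 = n26057 := (sb E18094 (iv2 D53889))
theorem E18104 : n116931 = n31662 := (((D31662).symm.trans (sb E18094 D116931))).symm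
theorem E18105 : n66104 = n31663 := (((D31663).symm.trans (sb E18094 F105661))).symm
theorem E18106 : n116933 = n31665 := (((D31665).symm.trans (sb E18094 D116933))).symm
theorem E18107 : n31666 = n26058 := ((D31666).symm.trans (sb E18094 (iv7 F84977)))
theorem F182719 : act 1 n53897 = n116941 := (sb E18095 (iv0 F182713))
theorem F182720 : act 2 n53897 = n31669 := (sb E18095 F104172)
theorem E18108 : n71227 = n54525 := ((((iv6 F86137)).symm.trans (sb E18095 (iv6 F107709)))).symm
theorem F182721 : act 7 n53897 = n31664 := (sb E18095 (iv7 D68052))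
theorem E18109 : n116940 = n31667 := ((D116940).symm.trans (sb E18098 F104156))
theorem E18110 : n66109 = n31668 := ((D66109).symm.trans (sb E18099 F104158))
theorem F182723 : act 7 n14890 = n26057 := (sb E18101 (iv7 D53894))
theorem E18111 : n68041 = n53895 := ((D68041).symm.trans (sb E18104 F182701))
theorem E18112 : n68047 = n30911 := ((D68047).symm.trans (sb E18105 (iv7 F101750)))
theorem F182725 : act 2 n31665 = n53893 := (sb E18106 F182705)
theorem E18113 : n68524 = n53994 := (((F85174).symm.trans (sb E18106 (iv5 F182706)))).symm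
theorem E18114 : n68055 = n59982 := ((D68055).symm.trans (sb E18106 (iv7 F182707)))
theorem F182726 : act 2 n26058 = n14890 := (sb E18107 F49953)
theorem E18115 : n68056 = n53898 := (((D53898).symm.trans (sb E18107 D68056))).symm
theorem F182727 : act 7 n26058 = n14889 := (sb E18107 (iv7 D31666))
theorem F182728 : act 2 n54525 = n32968 := (sb E18108 (iv2 D71227))
theorem F182729 : act 7 n54525 = n32969 := (sb E18108 (iv7 F107710))
theorem F182730 : act 7 n31667 = n53890 := (sb E18109 (iv7 D116940))
theorem F182731 : act 7 n31668 = n30910 := (sb E18110 (iv7 D66109))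
theorem F182732 : act 7 n53895 = n31662 := (sb E18111 (iv7 D68041))
theorem F182733 : act 2 n30911 = n31668 := (sb E18112 F104167)
theorem F182734 : act 7 n30911 = n31663 := (sb E18112 (iv7 D68047))
theorem F182735 : act 2 n53994 = n31879 := (sb E18113 F104721)
theorem F182736 : act 7 n53994 = n31878 := (sb E18113 (iv7 D68524))
theorem F182737 : act 2 n59982 = n105851 := (sb E18114 F162549)
theorem F182738 : act 7 n59982 = n31665 := (sb E18114 (iv7 D68055))
theorem F182739 : act 0 n53898 = n61758 := (sb E18115 (iv1 F182265))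
theorem F182740 : act 1 n53898 = n61763 := (sb E18115 F162555)
theorem F182741 : act 2 n53898 = n31670 := (sb E18115 F104176)
theorem F182742 : act 2 n68065 = n66113 := d1_3 (iv4 F105660) F182741 (iv4 F104179)
theorem F182743 : act 7 n68046 = n69623 := d11_2 F182738 (iv4 F104166) F181341
theorem F182744 : act 7 n116342 = n66668 := d13_2 F182743 (iv5 F181340) (iv5 F105654)
theorem F182745 : act 2 n66668 = n116343 := d15_3 F181332 F181338 F182744
theorem F182748 : act 2 n66108 = n68046 := d2_3 F105654 F182745 (iv5 F181333)
theorem E18116 : n68520 = n53993 := ((c2_3 (iv5 F94461) F182737 F162548 (iv2 D68520))).symm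
theorem F182749 : act 2 n53993 = n31878 := (sb E18116 (iv2 D68520))
theorem F182750 : act 7 n53993 = n31879 := (sb E18116 (iv7 F104719))
theorem F182751 : act 7 n68522 = n68795 := d11_2 F182736 D68522 F181016
theorem F182752 : act 2 n68795 = n68526 := d15_3 F180397 (iv0 F180400) F182751
theorem F182753 : act 2 n68522 = n68794 := d15_3 (iv0 D68794) D68795 (iv7 F182751)
theorem F182754 : act 4 n68794 = n53993 := d1_2 D68522 F182753 F182749
theorem F182755 : act 7 n68794 = n68526 := d4_2 (iv7 F182751) F182753 (iv2 F182752)
theorem F182757 : act 7 n68045 = n66112 := d13_2 F182734 D68045 (iv5 D66112)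
theorem F182758 : act 2 n68064 = n66112 := d2_3 (iv5 D66112) F182733 D68064
theorem F182760 : act 7 n66107 = n68064 := d13_2 F182731 D66107 (iv5 D68064)
theorem F182761 : act 2 n68045 = n66107 := d4_3 F182760 F182758 (iv7 F182757)
theorem F182762 : act 7 n116936 = n68059 := d4_2 F182730 D116936 (iv2 D68059)
theorem F182765 : act 1 n116936 = n68057 := d15_0 (iv0 D68057) F182730 D116936
theorem F182766 : act 1 n68059 = n116934 := d15_0 (iv0 D116934) (iv7 F182730) D68059
theorem F182768 : act 1 n116935 = n68059 := d15_1 D116935 (iv7 F182762) (iv2 D116936)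
theorem E18117 : n71231 = n54526 := (c15_4 F86139 F86138 F182729 (iv2 F107715))
theorem F182769 : act 2 n54526 = n32969 := (sb E18117 F107715)
theorem F182770 : act 7 n54526 = n32968 := (sb E18117 (iv7 D71231))
theorem F182771 : act 3 n116936 = n68037 := d0_4 (iv3 D31662) F182718 D53890 D116936 (iv2 D68037)
def n116942 : Q := act 4 n53892
theorem D116942 : act 4 n53892 = n116942 := rfl
theorem F182772 : act 2 n116942 = n68050 := d1_1 D116942 (iv4 D68050) F182717
theorem F182773 : act 7 n116942 = n68066 := d11_2 (iv7 F182716) D116942 (iv4 D68066)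
def n116943 : Q := act 6 n53892
theorem D116943 : act 6 n53892 = n116943 := rfl
theorem F182774 : act 2 n116943 = n68051 := d3_1 D116943 (iv6 D68051) F182717
theorem F182775 : act 5 n116943 = n68527 := d12_1 D116943 (iv6 D68527) (iv5 F84978) (iv6 D53893) D53892
def n116945 : Q := act 1 n53895
theorem D116945 : act 1 n53895 = n116945 := rfl
def n116946 : Q := act 2 n53895
theorem D116946 : act 2 n53895 = n116946 := rfl
theorem F182777 : act 3 n116946 = n68059 := d0_2 D53895 D116946 (iv2 D68059) (iv3 D31667) (iv2 F182726)
theorem F182778 : act 7 n116946 = n68037 := d4_2 (iv7 F182732) D116946 (iv2 D68037)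
theorem F182779 : act 1 n116946 = n68035 := d15_0 (iv0 D68035) (iv7 F182732) D116946
theorem F182780 : act 1 n116945 = n68037 := d15_1 D116945 (iv7 F182778) (iv2 D116946)
theorem F182781 : act 1 n68036 = n116946 := d15_1 D68036 F182778 (iv2 D68037)
def n116947 : Q := act 4 n53895
theorem D116947 : act 4 n53895 = n116947 := rfl
theorem F182782 : act 7 n116947 = n68038 := d11_2 (iv7 F182732) D116947 (iv4 D68038)
def n116948 : Q := act 5 n53895
theorem D116948 : act 5 n53895 = n116948 := rfl
theorem F182783 : act 3 n116948 = n53897 := d6_1 D116948 (iv5 D53897) D53895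
theorem F182784 : act 7 n116948 = n68039 := d13_2 (iv7 F182732) D116948 (iv5 D68039)
def n116949 : Q := act 6 n53895
theorem D116949 : act 6 n53895 = n116949 := rfl
theorem F182785 : act 3 n116949 = n53898 := d7_1 D116949 (iv6 D53898) D53895
def n116950 : Q := act 4 n53897
theorem D116950 : act 4 n53897 = n116950 := rfl
theorem F182786 : act 2 n116950 = n68066 := d1_1 D116950 (iv4 D68066) (iv2 F182720)
theorem F182787 : act 7 n116950 = n68050 := d11_2 (iv7 F182721) D116950 (iv4 D68050)
def n116951 : Q := act 5 n53898
theorem D116951 : act 5 n53898 = n116951 := rfl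
theorem F182788 : act 2 n116951 = n68068 := d2_1 D116951 (iv5 D68068) (iv2 F182741)
theorem F182790 : act 0 n60422 = n116951 := d21_10 (iv5 D116951) F182739 (iv5 D61758) D61759 F104518 (iv6 D29298) F30463 F46246 D28695 (iv6 F94930)
def n116952 : Q := act 7 n53898
theorem D116952 : act 7 n53898 = n116952 := rfl
theorem F182791 : act 2 n116952 = n68069 := d4_1 D116952 (iv7 D68069) (iv2 F182741)
theorem F182792 : act 6 n116952 = n59982 := d14_1 D116952 F182738 (iv6 D31665) (iv7 F182727) D53898
theorem F182793 : act 1 n59989 = n116952 := d15_1 (iv0 F182266) (iv7 D116952) F182741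
theorem F182794 : act 1 n116952 = n62853 := d15_1 F182793 (iv7 F182263) (iv2 F182260)
def n116953 : Q := act 3 n53899
theorem D116953 : act 3 n53899 = n116953 := rfl
theorem F182795 : act 7 n116953 = n68070 := d8_2 (iv7 F84981) D116953 (iv3 D68070)
def n116954 : Q := act 0 n53900
theorem D116954 : act 0 n53900 = n116954 := rfl
theorem F182796 : act 6 n116954 = n54739 := d21_5 (iv5 F42097) F42099 (iv5 F41213) (iv6 F84985) D116954 F86565 (iv1 F86033) F52105 F42023 D26365
theorem F182797 : act 2 n68076 = n116954 := d3_3 F182796 F86564 (iv6 F104195)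
def n116955 : Q := act 1 n53900
theorem D116955 : act 1 n53900 = n116955 := rfl
theorem F182801 : act 1 n116955 = n68080 := d15_1 D116955 (iv7 D68080) (iv2 F84984)
theorem F182802 : act 7 n116955 = n68076 := d15_2 (iv0 D116954) D116955 F182797
theorem F182803 : act 4 n116955 = n54231 := d18_7 (iv1 F41621) (iv4 F182194) (iv1 D53798) F41112 D26059 D53900 D116955 F85563 F51177
theorem F182804 : act 2 n68077 = n116955 := d1_3 F182803 F85566 (iv4 F110643)
def n116958 : Q := act 7 n53900
theorem D116958 : act 7 n53900 = n116958 := rfl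
theorem F182810 : act 4 n116958 = n53901 := d11_1 D116958 (iv7 D53901) D53900
theorem F182811 : act 1 n68077 = n116958 := d15_1 D68077 (iv7 D116958) F84984
theorem F182812 : act 1 n116958 = n68076 := d15_1 F182811 (iv7 F182802) (iv2 F182804)
theorem F182813 : act 4 n60437 = n74095 := d20_0 (iv1 D74095) F53330 (iv3 F53328) F110800 (iv3 D69379) F104196 (iv1 F182812) F182810 (iv3 F110908) (iv1 F110912)
def n116960 : Q := act 1 n53903
theorem D116960 : act 1 n53903 = n116960 := rfl
def n116962 : Q := act 0 n53905
theorem D116962 : act 0 n53905 = n116962 := rfl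
theorem F182817 : act 2 n60471 = n116962 := d15_3 (iv0 D116962) (iv0 F179951) (iv7 F179956)
theorem F182818 : act 1 n60472 = n116962 := d15_0 (iv0 D116962) F85003 D60472
theorem F182819 : act 7 n116962 = n60470 := d4_2 (iv7 F179956) F182817 (iv2 F179957)
theorem F182820 : act 1 n115618 = n60472 := d15_0 F182818 F182819 (iv2 F179957)
def n116963 : Q := act 2 n53905
theorem D116963 : act 2 n53905 = n116963 := rfl
theorem F182821 : act 3 n116963 = n67453 := d0_2 D53905 D116963 (iv2 D67453) (iv3 D31348) (iv2 F41220)
theorem F182822 : act 4 n116963 = n115443 := d1_2 (iv4 F85002) D116963 (iv2 D115443)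
theorem F182823 : act 7 n116963 = n60472 := d4_2 (iv7 F85003) D116963 (iv2 D60472)
theorem F182824 : act 1 n116963 = n60470 := d15_0 (iv0 D60470) (iv7 F85003) D116963
theorem F182825 : act 1 n60471 = n116963 := d15_0 F182824 (iv7 F182819) (iv2 F182817)
def n116964 : Q := act 5 n53905
theorem D116964 : act 5 n53905 = n116964 := rfl
theorem F182826 : act 3 n116964 = n53906 := d6_1 D116964 (iv5 D53906) D53905
theorem F182827 : act 7 n116964 = n60473 := d13_2 (iv7 F85003) D116964 (iv5 D60473)
def n116965 : Q := act 6 n53905
theorem D116965 : act 6 n53905 = n116965 := rfl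
theorem F182828 : act 3 n116965 = n53907 := d7_1 D116965 (iv6 D53907) D53905
theorem F182829 : act 4 n116965 = n115444 := d10_1 D116965 (iv6 D115444) (iv4 F85002)
theorem F182830 : act 7 n116965 = n112995 := d14_2 (iv7 F85003) D116965 (iv6 D112995) (iv7 D52153) (iv6 F46324)
def n116966 : Q := act 6 n53906
theorem D116966 : act 6 n53906 = n116966 := rfl
theorem F182831 : act 2 n116966 = n67456 := d3_1 D116966 (iv6 D67456) (iv2 F85004)
theorem F182832 : act 4 n116966 = n113101 := d10_1 D116966 (iv6 D113101) (iv4 F85006)
def n116967 : Q := act 5 n53907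
theorem D116967 : act 5 n53907 = n116967 := rfl
theorem F182833 : act 2 n116967 = n67459 := d2_1 D116967 (iv5 D67459) (iv2 F85007)
theorem F182834 : act 7 n116967 = n112999 := d13_2 (iv7 F85009) D116967 (iv5 D112999)
def n116968 : Q := act 0 n53908
theorem D116968 : act 0 n53908 = n116968 := rfl
theorem F182835 : act 1 n67490 = n116968 := d15_0 (iv0 D116968) F85011 D67490
def n116969 : Q := act 1 n53908
theorem D116969 : act 1 n53908 = n116969 := rfl
def n116970 : Q := act 2 n53908
theorem D116970 : act 2 n53908 = n116970 := rfl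
theorem F182836 : act 3 n116970 = n67511 := d0_2 D53908 D116970 (iv2 D67511) (iv3 D31368) (iv2 F41225)
theorem F182837 : act 4 n116970 = n115756 := d1_2 (iv4 F85010) D116970 (iv2 D115756)
theorem F182838 : act 7 n116970 = n67490 := d4_2 (iv7 F85011) D116970 (iv2 D67490)
theorem F182839 : act 1 n116970 = n67488 := d15_0 (iv0 D67488) (iv7 F85011) D116970
theorem F182840 : act 1 n116969 = n67490 := d15_1 D116969 (iv7 F182838) (iv2 D116970)
theorem F182841 : act 1 n67489 = n116970 := d15_1 D67489 F182838 (iv2 D67490)
def n116971 : Q := act 5 n53908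
theorem D116971 : act 5 n53908 = n116971 := rfl
theorem F182842 : act 3 n116971 = n53909 := d6_1 D116971 (iv5 D53909) D53908
theorem F182843 : act 7 n116971 = n67491 := d13_2 (iv7 F85011) D116971 (iv5 D67491)
def n116972 : Q := act 6 n53908
theorem D116972 : act 6 n53908 = n116972 := rfl
theorem F182844 : act 3 n116972 = n53910 := d7_1 D116972 (iv6 D53910) D53908
theorem F182845 : act 4 n116972 = n115757 := d10_1 D116972 (iv6 D115757) (iv4 F85010)
def n116973 : Q := act 6 n53909
theorem D116973 : act 6 n53909 = n116973 := rfl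
theorem F182846 : act 2 n116973 = n67514 := d3_1 D116973 (iv6 D67514) (iv2 F85012)
def n116974 : Q := act 5 n53910
theorem D116974 : act 5 n53910 = n116974 := rfl
theorem F182847 : act 2 n116974 = n67516 := d2_1 D116974 (iv5 D67516) (iv2 F85015)
def n116975 : Q := act 0 n53911
theorem D116975 : act 0 n53911 = n116975 := rfl
theorem F182848 : act 4 n116975 = n65541 := d18_1 D116975 (iv1 F179582) F179577 F84038 D111820 (iv0 F173614) F101545 (iv0 D58844) (iv5 F85020)
theorem F182849 : act 3 n110832 = n116975 := d20_5 D109585 F169551 F99435 F93831 D110832 F182848 (iv1 F179582) F179577 F84037 (iv1 F79923)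
theorem F182850 : act 2 n116975 = n67635 := d0_1 F182849 (iv3 D67635) (iv2 F171862) (iv3 F168900) F171924
theorem F182851 : act 2 n115305 = n65541 := d1_3 (iv4 F182848) F182850 F179580
theorem F182852 : act 7 n65542 = n115305 := d15_2 (iv0 D65541) D65542 F182851
theorem F182853 : act 7 n115306 = n65541 := d15_2 (iv0 D115305) D115306 (iv2 F182851)
theorem F182854 : act 2 n65542 = n115306 := d4_3 F182853 (iv2 F182851) (iv7 F182852)
def n116976 : Q := act 1 n53911
theorem D116976 : act 1 n53911 = n116976 := rfl
theorem F182855 : act 7 n116976 = n67635 := d15_2 (iv0 D116975) D116976 (iv2 F182850)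
theorem F182856 : act 3 n59454 = n116976 := d8_3 F182855 (iv3 D67635) (iv7 F171867)
theorem F182857 : act 4 n65542 = n116976 := d11_3 F182855 F179580 (iv7 F182852)
def n116977 : Q := act 7 n53911
theorem D116977 : act 7 n53911 = n116977 := rfl
theorem F182858 : act 3 n116977 = n53917 := d8_1 D116977 (iv7 D53917) (iv3 F85018)
theorem F182859 : act 4 n116977 = n115327 := d11_1 D116977 (iv7 D115327) (iv4 F85019)
theorem F182860 : act 5 n116977 = n58845 := d13_1 D116977 (iv7 D58845) (iv5 F85020)
theorem F182861 : act 6 n116977 = n67508 := d14_1 D116977 (iv7 D67508) (iv6 D31367) (iv7 F41231) D53911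
def n116978 : Q := act 0 n53912
theorem D116978 : act 0 n53912 = n116978 := rfl
theorem F182862 : act 1 n67511 = n116978 := d15_0 (iv0 D116978) F85022 D67511
def n116979 : Q := act 1 n53912
theorem D116979 : act 1 n53912 = n116979 := rfl
theorem F182863 : act 3 n67723 = n116979 := d20_3 F180260 (iv1 F180264) (iv4 F180704) (iv1 D116979) (iv3 D53912) (iv4 D26070) (iv1 D12359) D12360 D26074 D53924
def n116980 : Q := act 2 n53912
theorem D116980 : act 2 n53912 = n116980 := rfl
theorem F182864 : act 3 n116980 = n67490 := d0_2 D53912 D116980 (iv2 D67490) (iv3 D31360) (iv2 F41235)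
theorem F182865 : act 4 n116980 = n115322 := d1_2 (iv4 F85021) D116980 (iv2 D115322)
theorem F182866 : act 7 n116980 = n67511 := d4_2 (iv7 F85022) D116980 (iv2 D67511)
theorem F182867 : act 1 n116980 = n67509 := d15_0 (iv0 D67509) (iv7 F85022) D116980
theorem F182868 : act 1 n116979 = n67511 := d15_1 D116979 (iv7 F182866) (iv2 D116980)
theorem F182869 : act 1 n67510 = n116980 := d15_1 D67510 F182866 (iv2 D67511)
def n116981 : Q := act 5 n53912
theorem D116981 : act 5 n53912 = n116981 := rfl
theorem F182870 : act 3 n116981 = n53913 := d6_1 D116981 (iv5 D53913) D53912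
theorem F182871 : act 7 n116981 = n67512 := d13_2 (iv7 F85022) D116981 (iv5 D67512)
def n116982 : Q := act 6 n53912
theorem D116982 : act 6 n53912 = n116982 := rfl
theorem F182872 : act 3 n116982 = n53914 := d7_1 D116982 (iv6 D53914) D53912
theorem F182873 : act 4 n116982 = n115324 := d10_1 D116982 (iv6 D115324) (iv4 F85021)
def n116983 : Q := act 6 n53913
theorem D116983 : act 6 n53913 = n116983 := rfl
theorem F182874 : act 2 n116983 = n67493 := d3_1 D116983 (iv6 D67493) (iv2 F85023)
def n116984 : Q := act 0 n53914
theorem D116984 : act 0 n53914 = n116984 := rfl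
theorem F182875 : act 4 n116984 = n113206 := d20_2 (iv4 F85027) D116984 (iv3 F176375) (iv1 F100101) F100090 (iv4 F165037) (iv1 F165039) (iv4 D68137) (iv3 F168052) (iv1 D53916)
theorem F182876 : act 2 n67494 = n116984 := d1_3 F182875 (iv2 F176372) (iv4 F168415)
theorem F182877 : act 7 n67495 = n116984 := d11_0 F182875 F176374 (iv4 F175997)
theorem F182878 : act 1 n67497 = n116984 := d18_6 D52253 (iv4 F93069) F175695 (iv4 D112837) (iv5 F82307) (iv4 F103357) F182875 (iv0 D113206) (iv5 D52254)
def n116985 : Q := act 1 n53914
theorem D116985 : act 1 n53914 = n116985 := rfl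
theorem F182879 : act 1 n116985 = n67497 := d15_1 D116985 (iv7 D67497) (iv2 F85026)
theorem F182880 : act 7 n116985 = n67494 := d15_2 (iv0 D116984) D116985 F182876
theorem F182881 : act 4 n116985 = n109584 := d18_7 (iv1 F93065) (iv4 F93073) (iv1 D58857) F45252 (iv5 F41238) (iv4 F85027) D116985 F169547 F97621
theorem F182882 : act 2 n67495 = n116985 := d1_3 F182881 (iv2 F169545) (iv4 F175997)
def n116986 : Q := act 5 n53914
theorem D116986 : act 5 n53914 = n116986 := rfl
theorem F182883 : act 2 n116986 = n67496 := d2_1 D116986 (iv5 D67496) (iv2 F85026)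
theorem F182884 : act 1 n116986 = n112866 := d17_6 (iv1 D52094) F45254 (iv1 D27986) (iv5 F41238) (iv4 F85027) D116986 (iv5 D112866) (iv0 F175770) (iv4 D112861)
def n116987 : Q := act 7 n53914
theorem D116987 : act 7 n53914 = n116987 := rfl
theorem F182885 : act 2 n116987 = n67497 := d4_1 D116987 (iv7 D67497) (iv2 F85026)
theorem F182886 : act 4 n116987 = n53917 := d11_1 D116987 (iv7 D53917) (iv4 F85027)
theorem F182887 : act 6 n116987 = n67517 := d14_1 D116987 (iv7 D67517) (iv6 D31370) (iv7 F41236) D53914
theorem F182888 : act 1 n67495 = n116987 := d15_1 D67495 (iv7 D116987) F85026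
theorem F182889 : act 1 n116987 = n67494 := d15_1 F182888 (iv7 F182880) (iv2 F182882)
def n116988 : Q := act 4 n53916
theorem D116988 : act 4 n53916 = n116988 := rfl
theorem F182890 : act 2 n116988 = n67503 := d1_1 D116988 (iv4 D67503) F93327
theorem F182891 : act 7 n116988 = n67499 := d11_2 F93329 D116988 (iv4 D67499)
theorem F182892 : act 0 n116988 = n53923 := d18_2 (iv1 F85028) D116988 F85050 F48771 (iv4 F93051) (iv0 F93052) F82655 F82305 (iv5 F82307)
theorem F182893 : act 0 n67528 = n116988 := d20_1 F175992 (iv4 D116988) F168052 (iv1 D31723) (iv3 F50026) F50027 (iv1 F169537) (iv4 D64321) D64320 (iv1 F175996)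
def n116989 : Q := act 5 n53916
theorem D116989 : act 5 n53916 = n116989 := rfl
theorem F182894 : act 2 n116989 = n58906 := d2_1 D116989 F93120 F93327
theorem F182895 : act 3 n116989 = n68138 := d6_1 D116989 (iv5 D68138) (iv3 F168052)
theorem F182896 : act 6 n116989 = n58782 := d12_2 F103393 D116989 F92922 D106609 F164202
theorem F182897 : act 7 n116989 = n67500 := d13_2 F93329 D116989 (iv5 D67500)
theorem F182898 : act 0 n116989 = n58972 := d21_1 D116989 F93175 D108227 (iv1 F168064) (iv6 F97027) (iv5 D62238) (iv1 F168072) F53921 (iv6 F53922) (iv1 F85028)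
theorem F182899 : act 0 n108224 = n116989 := d21_10 (iv5 D116989) (iv1 D53916) F41238 (iv6 D13354) (iv1 F22212) D25217 F39719 D49775 D107760 (iv6 F167341)
def n116990 : Q := act 0 n53918
theorem D116990 : act 0 n53918 = n116990 := rfl
theorem F182900 : act 1 n67521 = n116990 := d15_0 (iv0 D116990) F85035 D67521
def n116991 : Q := act 1 n53918
theorem D116991 : act 1 n53918 = n116991 := rfl
def n116992 : Q := act 2 n53918
theorem D116992 : act 2 n53918 = n116992 := rfl
theorem F182901 : act 3 n116992 = n67531 := d0_2 D53918 D116992 (iv2 D67531) (iv3 D31376) F41241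
theorem F182902 : act 7 n116992 = n67521 := d4_2 (iv7 F85035) D116992 (iv2 D67521)
theorem F182903 : act 1 n116992 = n67519 := d15_0 (iv0 D67519) (iv7 F85035) D116992
theorem F182904 : act 1 n116991 = n67521 := d15_1 D116991 (iv7 F182902) (iv2 D116992)
theorem F182905 : act 1 n67520 = n116992 := d15_1 D67520 F182902 (iv2 D67521)
def n116993 : Q := act 5 n53918
theorem D116993 : act 5 n53918 = n116993 := rfl
theorem F182906 : act 3 n116993 = n53919 := d6_1 D116993 (iv5 D53919) D53918
theorem F182907 : act 7 n116993 = n67523 := d13_2 (iv7 F85035) D116993 (iv5 D67523)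
def n116994 : Q := act 6 n53918
theorem D116994 : act 6 n53918 = n116994 := rfl
theorem F182908 : act 3 n116994 = n53920 := d7_1 D116994 (iv6 D53920) D53918
def n116995 : Q := act 6 n53919
theorem D116995 : act 6 n53919 = n116995 := rfl
theorem F182909 : act 2 n116995 = n67534 := d3_1 D116995 (iv6 D67534) (iv2 F85036)
theorem F182910 : act 4 n116995 = n116983 := d10_1 D116995 (iv6 D116983) (iv4 F85038)
def n116996 : Q := act 5 n53920
theorem D116996 : act 5 n53920 = n116996 := rfl
theorem F182911 : act 2 n116996 = n67535 := d2_1 D116996 (iv5 D67535) (iv2 F85040)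
def n116997 : Q := act 0 n53921
theorem D116997 : act 0 n53921 = n116997 := rfl
theorem F182912 : act 1 n67531 = n116997 := d15_0 (iv0 D116997) F85044 D67531
def n116998 : Q := act 1 n53921
theorem D116998 : act 1 n53921 = n116998 := rfl
def n116999 : Q := act 2 n53921
theorem D116999 : act 2 n53921 = n116999 := rfl
theorem F182913 : act 3 n116999 = n67521 := d0_2 D53921 D116999 (iv2 D67521) (iv3 D31373) F41246
theorem F182914 : act 4 n116999 = n65412 := d1_2 (iv4 F85043) D116999 (iv2 D65412)
theorem F182915 : act 7 n116999 = n67531 := d4_2 (iv7 F85044) D116999 (iv2 D67531)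
theorem F182916 : act 1 n116999 = n67529 := d15_0 (iv0 D67529) (iv7 F85044) D116999
theorem F182917 : act 1 n116998 = n67531 := d15_1 D116998 (iv7 F182915) (iv2 D116999)
theorem F182918 : act 1 n67530 = n116999 := d15_1 D67530 F182915 (iv2 D67531)
def n117000 : Q := act 5 n53921
theorem D117000 : act 5 n53921 = n117000 := rfl
theorem F182919 : act 3 n117000 = n53922 := d6_1 D117000 (iv5 D53922) D53921
theorem F182920 : act 7 n117000 = n67532 := d13_2 (iv7 F85044) D117000 (iv5 D67532)
def n117001 : Q := act 6 n53921
theorem D117001 : act 6 n53921 = n117001 := rfl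
theorem F182921 : act 3 n117001 = n53923 := d7_1 D117001 (iv6 D53923) D53921
theorem F182922 : act 4 n117001 = n65414 := d10_1 D117001 (iv6 D65414) (iv4 F85043)
def n117002 : Q := act 6 n53922
theorem D117002 : act 6 n53922 = n117002 := rfl
theorem F182923 : act 2 n117002 = n67525 := d3_1 D117002 (iv6 D67525) (iv2 F85045)
theorem F182924 : act 4 n117002 = n116973 := d10_1 D117002 (iv6 D116973) (iv4 F85046)
def n117003 : Q := act 5 n53923
theorem D117003 : act 5 n53923 = n117003 := rfl
theorem F182925 : act 2 n117003 = n67527 := d2_1 D117003 (iv5 D67527) (iv2 F85049)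
theorem F182926 : act 1 n117003 = n112857 := d17_6 (iv1 D52205) (iv5 F40161) F45250 (iv5 F48771) (iv4 F85050) D117003 (iv5 D112857) D112856 F175752
def n117004 : Q := act 7 n53923
theorem D117004 : act 7 n53923 = n117004 := rfl
theorem F182927 : act 2 n117004 = n67528 := d4_1 D117004 (iv7 D67528) (iv2 F85049)
theorem F182928 : act 4 n117004 = n62602 := d11_1 D117004 F97620 (iv4 F85050)
theorem F182929 : act 6 n117004 = n62600 := d14_1 D117004 F97616 (iv6 D31378) (iv7 F41244) D53923
theorem F182930 : act 1 n67503 = n117004 := d15_1 (iv0 F103387) (iv7 D117004) F85049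
theorem F182931 : act 1 n117004 = n67499 := d15_1 F182930 (iv7 F182891) F182890
def n117005 : Q := act 3 n53924
theorem D117005 : act 3 n53924 = n117005 := rfl
theorem F182932 : act 7 n117005 = n64473 := d8_2 (iv7 F180261) D117005 (iv3 F100418)
theorem F182933 : act 4 n117005 = n63927 := d20_6 (iv4 D26070) (iv1 D12359) D12360 D26074 D53924 D117005 (iv1 D63927) (iv4 F99425) (iv3 D63918) F48473
theorem E18118 : n64466 = n63927 := ((c11_2 (iv7 F182932) F182933 (iv7 F100416) D64473)).symm
theorem F182934 : act 2 n63927 = n30356 := (sb E18118 (iv2 D64466))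
theorem F182935 : act 7 n63927 = n30357 := (sb E18118 (iv7 F100416))
theorem F182936 : act 2 n117005 = n64468 := d1_1 (iv4 F182933) (iv4 D64468) (iv2 F182934)
theorem E18119 : n64471 = n63926 := (c15_4 (iv0 D63926) D63927 F182935 (iv2 F100417))
theorem F182937 : act 2 n63926 = n30357 := (sb E18119 F100417)
theorem F182938 : act 7 n63926 = n30356 := (sb E18119 (iv7 D64471))
def n117006 : Q := act 6 n53924
theorem D117006 : act 6 n53924 = n117006 := rfl
theorem F182939 : act 2 n117006 = n67543 := d3_1 D117006 (iv6 D67543) (iv2 F180259)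
def n117007 : Q := act 3 n53925
theorem D117007 : act 3 n53925 = n117007 := rfl
theorem F182940 : act 4 n117007 = n115826 := d5_2 F85052 D117007 (iv3 D115826) (iv4 D53407) D53406
theorem F182941 : act 7 n117007 = n67541 := d8_2 (iv7 F180258) D117007 (iv3 D67541)
def n117008 : Q := act 6 n53925
theorem D117008 : act 6 n53925 = n117008 := rfl
theorem F182942 : act 2 n117008 = n67539 := d3_1 D117008 (iv6 D67539) (iv2 F180257)
theorem F182943 : act 4 n117008 = n115822 := d10_1 D117008 (iv6 D115822) F85052
def n117009 : Q := act 5 n53926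
theorem D117009 : act 5 n53926 = n117009 := rfl
theorem F182944 : act 2 n117009 = n53927 := d2_1 D117009 (iv5 D53927) D53926
theorem F182945 : act 7 n117009 = n67544 := d13_2 (iv7 F85055) D117009 (iv5 D67544)
theorem F182946 : act 1 n117009 = n66798 := d17_6 D14713 D31128 (iv1 F181695) F84818 (iv4 F85054) D117009 (iv5 D66798) (iv0 D31138) (iv4 D14716)
theorem F182947 : act 1 n66801 = n117009 := d15_0 F182946 (iv7 F181793) F181792
def n117010 : Q := act 6 n53926
theorem D117010 : act 6 n53926 = n117010 := rfl
theorem F182948 : act 2 n117010 = n53928 := d3_1 D117010 (iv6 D53928) D53926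
theorem F182949 : act 4 n117010 = n53949 := d10_1 D117010 (iv6 D53949) (iv4 F85054)
def n117011 : Q := act 4 n53927
theorem D117011 : act 4 n53927 = n117011 := rfl
theorem F182950 : act 7 n117011 = n67548 := d11_2 (iv7 F85059) D117011 (iv4 D67548)
def n117012 : Q := act 6 n53927
theorem D117012 : act 6 n53927 = n117012 := rfl
theorem F182951 : act 3 n117012 = n53930 := d7_1 D117012 (iv6 D53930) (iv3 F85058)
def n117013 : Q := act 0 n53928
theorem D117013 : act 0 n53928 = n117013 := rfl
def n117014 : Q := act 1 n53928
theorem D117014 : act 1 n53928 = n117014 := rfl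
def n117015 : Q := act 5 n53928
theorem D117015 : act 5 n53928 = n117015 := rfl
theorem F182952 : act 3 n117015 = n53932 := d6_1 D117015 (iv5 D53932) (iv3 F85060)
def n117016 : Q := act 7 n53928
theorem D117016 : act 7 n53928 = n117016 := rfl
theorem F182953 : act 3 n117016 = n53933 := d8_1 D117016 (iv7 D53933) (iv3 F85060)
theorem F182954 : act 4 n117016 = n53953 := d11_1 D117016 (iv7 D53953) (iv4 F85061)
theorem F182955 : act 6 n117016 = n67553 := d14_1 D117016 (iv7 D67553) (iv6 D31383) (iv7 F41248) D53928
def n117017 : Q := act 3 n53929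
theorem D117017 : act 3 n53929 = n117017 := rfl
theorem F182956 : act 5 n117017 = n59662 := d6_2 (iv5 F85064) D117017 (iv3 D59662)
theorem F182957 : act 7 n117017 = n67556 := d8_2 (iv7 F85063) D117017 (iv3 D67556)
def n117018 : Q := act 6 n53929
theorem D117018 : act 6 n53929 = n117018 := rfl
theorem F182958 : act 2 n117018 = n67555 := d3_1 D117018 (iv6 D67555) (iv2 F85066)
theorem F182959 : act 4 n117018 = n60465 := d10_1 D117018 (iv6 D60465) F85065
def n117019 : Q := act 0 n53930
theorem D117019 : act 0 n53930 = n117019 := rfl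
def n117020 : Q := act 1 n53930
theorem D117020 : act 1 n53930 = n117020 := rfl
def n117021 : Q := act 5 n53930
theorem D117021 : act 5 n53930 = n117021 := rfl
theorem F182960 : act 6 n117021 = n53932 := d12_2 D53930 D117021 (iv5 D53932) (iv6 D26076) D26075
def n117022 : Q := act 7 n53930
theorem D117022 : act 7 n53930 = n117022 := rfl
theorem F182961 : act 6 n117022 = n67563 := d14_1 D117022 (iv7 D67563) (iv6 D31387) (iv7 F41249) D53930
def n117023 : Q := act 3 n53931
theorem D117023 : act 3 n53931 = n117023 := rfl
def n117024 : Q := act 5 n53931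
theorem D117024 : act 5 n53931 = n117024 := rfl
def n117025 : Q := act 6 n53931
theorem D117025 : act 6 n53931 = n117025 := rfl
theorem F182962 : act 4 n117025 = n62589 := d10_1 D117025 F97598 (iv4 F165827)
theorem F182963 : act 7 n117025 = n62586 := d14_2 (iv7 F165828) D117025 (iv6 D62586) F47508 D61252
def n117026 : Q := act 0 n53932
theorem D117026 : act 0 n53932 = n117026 := rfl
def n117027 : Q := act 1 n53932
theorem D117027 : act 1 n53932 = n117027 := rfl
def n117028 : Q := act 4 n53932
theorem D117028 : act 4 n53932 = n117028 := rfl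
def n117029 : Q := act 7 n53932
theorem D117029 : act 7 n53932 = n117029 := rfl
theorem F182964 : act 5 n117029 = n53933 := d13_1 D117029 (iv7 D53933) D53932
def n117030 : Q := act 3 n53935
theorem D117030 : act 3 n53935 = n117030 := rfl
def n117031 : Q := act 5 n53935
theorem D117031 : act 5 n53935 = n117031 := rfl
def n117032 : Q := act 6 n53935
theorem D117032 : act 6 n53935 = n117032 := rfl
theorem F182965 : act 4 n117032 = n53936 := d10_1 D117032 (iv6 D53936) D53935
theorem F182966 : act 7 n117032 = n61255 := d14_2 F93332 D117032 (iv6 D61255) (iv7 F47516) (iv6 F93331)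
def n117033 : Q := act 3 n53938
theorem D117033 : act 3 n53938 = n117033 := rfl
theorem F182967 : act 4 n117033 = n115419 := d5_2 D53938 D117033 (iv3 D115419) (iv4 F85073) (iv3 D53937)
theorem F182968 : act 6 n117033 = n61256 := d7_2 (iv6 F85075) D117033 (iv3 D61256)
def n117034 : Q := act 5 n53938
theorem D117034 : act 5 n53938 = n117034 := rfl
def n117035 : Q := act 0 n53939
theorem D117035 : act 0 n53939 = n117035 := rfl
theorem F182969 : act 1 n53944 = n117035 := d15_0 (iv0 D117035) (iv7 F85076) (iv2 F85078)
def n117037 : Q := act 3 n53939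
theorem D117037 : act 3 n53939 = n117037 := rfl
theorem F182971 : act 7 n117037 = n53945 := d8_2 F85076 D117037 (iv3 D53945)
def n117038 : Q := act 4 n53939
theorem D117038 : act 4 n53939 = n117038 := rfl
theorem F182972 : act 2 n117038 = n53941 := d1_1 D117038 (iv4 D53941) D53939
theorem F182973 : act 7 n117038 = n53946 := d11_2 F85076 D117038 (iv4 D53946)
def n117040 : Q := act 0 n53940
theorem D117040 : act 0 n53940 = n117040 := rfl
def n117041 : Q := act 1 n53940
theorem D117041 : act 1 n53940 = n117041 := rfl
theorem F182975 : act 3 n68228 = n117041 := d20_9 F85077 (iv1 D30692) F24190 (iv3 D6965) D6963 D14570 D30750 D65635 (iv4 F104392) (iv1 D117041)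
theorem F182976 : act 4 n117041 = n115995 := d20_6 (iv4 F104381) (iv1 F104386) (iv4 D31755) D31754 D68228 F182975 (iv1 D115995) (iv4 D53473) D53472 (iv1 F180602)
theorem E18120 : n67114 = n66812 := (c17_7 (iv1 D115995) D115997 (iv1 F181558) (iv5 D67111) (iv4 D31237) D31238 D67114 (iv5 F181595) D117041 F182976)
theorem F182977 : act 0 n66812 = n31238 := (sb E18120 (iv1 D67114))
theorem E18121 : n117040 = n109687 := ((c18_8 F182977 D67115 (iv1 F181568) (iv4 D66372) (iv5 F181554) D53478 F180625 F180619 (iv0 D117040) F181595)).symm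
theorem F182978 : act 1 n109687 = n53940 := (sb E18121 (iv0 D117040))
def n117042 : Q := act 2 n53940
theorem D117042 : act 2 n53940 = n117042 := rfl
theorem F182979 : act 4 n117042 = n65464 := d1_2 (iv4 F85077) D117042 F101164
theorem F182980 : act 7 n65461 = n117042 := d11_0 F182979 (iv7 D65464) D65461
theorem F182981 : act 1 n117041 = n65461 := d15_1 D117041 F182980 (iv2 D117042)
theorem F182982 : act 3 n115995 = n65432 := d20_3 D65461 (iv1 F182981) F182976 (iv1 D65432) (iv3 D30680) (iv4 D14543) (iv1 D6951) D6952 D14547 D30691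
def n117043 : Q := act 6 n53940
theorem D117043 : act 6 n53940 = n117043 := rfl
theorem F182983 : act 3 n117043 = n53943 := d7_1 D117043 (iv6 D53943) D53940
theorem F182984 : act 4 n117043 = n65467 := d10_1 D117043 (iv6 D65467) (iv4 F85077)
def n117044 : Q := act 7 n53940
theorem D117044 : act 7 n53940 = n117044 := rfl
theorem F182985 : act 2 n117044 = n65461 := d4_1 D117044 F182980 (iv2 D117042)
theorem F182986 : act 3 n117044 = n53944 := d8_1 D117044 (iv7 D53944) D53940
theorem F182987 : act 4 n117044 = n65459 := d11_1 D117044 (iv7 F101162) (iv4 F85077)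
def n117045 : Q := act 0 n53941
theorem D117045 : act 0 n53941 = n117045 := rfl
theorem F182988 : act 4 n117045 = n65629 := d20_2 D53941 D117045 (iv3 D65629) (iv1 D30748) (iv3 D14570) F11226 F8712 D5884 D12364 D26080
theorem F182989 : act 2 n67723 = n117045 := d1_3 F182988 (iv2 F180213) (iv4 F180704)
theorem F182990 : act 7 n67722 = n117045 := d11_0 F182988 F162346 (iv4 F103764)
def n117046 : Q := act 1 n53941
theorem D117046 : act 1 n53941 = n117046 := rfl
theorem F182991 : act 1 n117046 = n53946 := d15_1 D117046 (iv7 F182973) F182972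
theorem F182992 : act 7 n117046 = n67723 := d15_2 (iv0 D117045) D117046 F182989
theorem F182993 : act 4 n66030 = n117046 := d20_0 (iv1 D117046) (iv4 D53941) D53940 (iv1 F182978) (iv3 D109687) D109688 F180638 F103430 F103426 (iv1 F103429)
theorem F182994 : act 2 n117046 = n67722 := d1_1 F182993 F103764 (iv2 F180636)
theorem F182995 : act 3 n117046 = n67510 := d20_3 D67537 (iv1 F103429) F182993 (iv1 D67510) (iv3 D31368) (iv4 D14789) (iv1 D7050) D7051 D14793 D31379
theorem F182996 : act 7 n67510 = n116979 := d8_2 (iv7 F182992) F182995 (iv3 F182863)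
theorem F182997 : act 2 n116979 = n67509 := d15_3 (iv0 D67509) D67510 F182996
theorem F182998 : act 2 n67510 = n116978 := d15_3 (iv0 D116978) D116979 (iv7 F182996)
theorem F182999 : act 7 n116978 = n67509 := d4_2 (iv7 F182996) F182998 (iv2 F182997)
theorem F183000 : act 1 n53946 = n117045 := d15_1 F182991 (iv7 F182990) (iv2 F182994)
def n117047 : Q := act 3 n53941
theorem D117047 : act 3 n53941 = n117047 := rfl
theorem F183001 : act 4 n117047 = n65465 := d5_2 D53941 D117047 (iv3 D65465) (iv4 F85077) (iv3 D53940)
def n117048 : Q := act 5 n53941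
theorem D117048 : act 5 n53941 = n117048 := rfl
def n117049 : Q := act 6 n53941
theorem D117049 : act 6 n53941 = n117049 := rfl
theorem F183002 : act 4 n117049 = n53943 := d10_1 D117049 (iv6 D53943) D53941
def n117050 : Q := act 7 n53941
theorem D117050 : act 7 n53941 = n117050 := rfl
theorem F183003 : act 2 n117050 = n53946 := d4_1 D117050 (iv7 F182973) F182972
theorem F183004 : act 4 n117050 = n53944 := d11_1 D117050 (iv7 D53944) D53941
def n117051 : Q := act 0 n53943
theorem D117051 : act 0 n53943 = n117051 := rfl
def n117052 : Q := act 1 n53943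
theorem D117052 : act 1 n53943 = n117052 := rfl
def n117053 : Q := act 5 n53943
theorem D117053 : act 5 n53943 = n117053 := rfl
def n117054 : Q := act 7 n53943
theorem D117054 : act 7 n53943 = n117054 := rfl
def n117055 : Q := act 6 n53944
theorem D117055 : act 6 n53944 = n117055 := rfl
theorem F183005 : act 2 n117055 = n53948 := d3_1 D117055 (iv6 D53948) (iv2 F85078)
def n117056 : Q := act 0 n53945
theorem D117056 : act 0 n53945 = n117056 := rfl
theorem F183006 : act 3 n117056 = n68207 := d20_5 (iv4 F182988) (iv1 F183000) (iv4 D53946) D53945 D117056 (iv4 F180220) (iv1 D66036) (iv4 D30892) D30891 (iv1 F180644)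
theorem F183007 : act 4 n117056 = n67624 := d20_0 (iv1 F103643) (iv4 D65664) (iv3 F49736) (iv1 F49740) D65629 (iv4 F182988) (iv1 F183000) (iv4 D53946) D53945 D117056
theorem F183008 : act 2 n65553 = n117056 := d1_3 F183007 (iv2 F180177) (iv4 F101394)
theorem F183009 : act 7 n67738 = n117056 := d11_0 F183007 (iv7 F180180) (iv4 F103775)
theorem F183010 : act 5 n69473 = n117056 := d18_4 (iv1 D48927) (iv4 F77129) D105808 F173394 F183007 (iv0 D67624) F49683 D31418 F169586
theorem F183011 : act 1 n67740 = n117056 := d15_1 (iv0 F180551) (iv7 F183009) F180179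
theorem E18122 : n117037 = n31452 := (c15_3 F183011 (iv0 D117056) (iv7 F182971) D67740)
theorem E18123 : n53939 = n14824 := ((((iv3 D31452)).symm.trans (sb E18122 (iv3 D117037)))).symm
theorem E18124 : n67712 = n53945 := (((iv7 F103755)).symm.trans (sb E18122 F182971))
theorem E18125 : n117035 = n7063 := ((((iv1 D14824)).symm.trans (sb E18123 D117035))).symm
theorem E18127 : n31451 = n26080 := (((iv2 F49767)).symm.trans (sb E18123 (iv2 D53939)))
theorem E18128 : n117038 = n31453 := (((D31453).symm.trans (sb E18123 D117038))).symm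
theorem E18129 : n66811 = n31454 := (((D31454).symm.trans (sb E18123 F181597))).symm
theorem E18131 : n31446 = n26081 := ((F49766).symm.trans (sb E18123 (iv7 F85076)))
theorem F183012 : act 7 n53945 = n31452 := (sb E18124 F103755)
theorem E18132 : n53944 = n14823 := (((D14823).symm.trans (sb E18125 (iv1 F182969)))).symm
theorem F183013 : act 2 n26080 = n14824 := (sb E18127 F49767)
theorem E18135 : n67721 = n53940 := (((D53940).symm.trans (sb E18127 (iv3 F103763)))).symm
theorem E18136 : n67727 = n53941 := (((D53941).symm.trans (sb E18127 (iv4 F103768)))).symm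
theorem E18137 : n67732 = n31142 := ((((iv5 F181596)).symm.trans (sb E18127 (iv5 F103772)))).symm
theorem E18138 : n67737 = n53943 := (((D53943).symm.trans (sb E18127 D67737))).symm
theorem E18139 : n67713 = n53946 := (((iv7 F103757)).symm.trans (sb E18128 F182973))
theorem E18140 : n67714 = n31143 := (((iv7 F103759)).symm.trans (sb E18129 (iv7 F102664)))
theorem F183014 : act 7 n26081 = n14824 := (sb E18131 (iv7 F49766))
theorem F183015 : act 2 n14823 = n26081 := (sb E18132 F85078)
theorem E18142 : n117044 = n31447 := (((D31447).symm.trans (sb E18132 (iv3 F182986)))).symm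
theorem E18143 : n117050 = n31448 := (((D31448).symm.trans (sb E18132 (iv4 F183004)))).symm
theorem E18144 : n66816 = n31449 := (((D31449).symm.trans (sb E18132 F181598))).symm
theorem E18145 : n117055 = n31450 := (((D31450).symm.trans (sb E18132 D117055))).symm
theorem F183016 : act 7 n14823 = n26080 := (sb E18132 (iv7 D53944))
theorem E18146 : n117042 = n115946 := ((D117042).symm.trans (sb E18135 (iv2 F180546)))
theorem F183017 : act 2 n53941 = n31453 := (sb E18136 F103767)
theorem F183018 : act 2 n31142 = n31454 := (sb E18137 F103771)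
theorem F183019 : act 2 n53943 = n31455 := (sb E18138 F103774)
theorem F183020 : act 7 n53946 = n31453 := (sb E18139 F103757)
theorem F183021 : act 7 n31143 = n31454 := (sb E18140 F103759)
theorem E18148 : n67718 = n65461 := ((D67718).symm.trans (sb E18142 F182985))
theorem E18149 : n65459 = n53459 := (((F84355).symm.trans (sb E18142 F182987))).symm
theorem F183022 : act 7 n31447 = n53940 := (sb E18142 (iv7 D117044))
theorem F183023 : act 2 n31448 = n53946 := (sb E18143 F183003)
theorem F183024 : act 7 n31448 = n53941 := (sb E18143 (iv7 D117050))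
theorem F183025 : act 2 n31449 = n31143 := (sb E18144 F102665)
theorem F183026 : act 7 n31449 = n31142 := (sb E18144 (iv7 D66816))
theorem F183027 : act 2 n31450 = n53948 := (sb E18145 F183005)
theorem F183028 : act 2 n115946 = n53940 := (sb E18146 (iv2 D117042))
theorem E18150 : n65464 = n53458 := ((((iv4 D115946)).symm.trans (sb E18146 F182979))).symm
theorem F183029 : act 2 n65461 = n31447 := (sb E18148 (iv2 D67718))
theorem E18151 : n115949 = n30691 := ((((iv4 D65461)).symm.trans (sb E18148 (iv4 F180553)))).symm
theorem F183030 : act 7 n65461 = n115946 := (sb E18148 F180548)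
theorem F183031 : act 7 n53459 = n30692 := (sb E18149 (iv7 F101162))
theorem F183032 : act 2 n53458 = n30692 := (sb E18150 F101164)
theorem F183033 : act 2 n30691 = n53459 := (sb E18151 F180552)
theorem F183034 : act 7 n30691 = n53458 := (sb E18151 (iv7 D115949))
theorem F183035 : act 7 n115945 = n65460 := d8_2 F183034 D115945 (iv3 D65460)
theorem F183036 : act 7 n66233 = n65462 := d13_2 F183034 (iv5 F181569) (iv5 D65462)
theorem F183037 : act 2 n65462 = n66234 := d15_3 F181208 F181209 F183036
theorem F183038 : act 2 n66233 = n65466 := d15_3 F181591 (iv0 F181593) (iv7 F183036)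
theorem F183039 : act 7 n65466 = n66234 := d4_2 (iv7 F183036) F183038 (iv2 F183037)
theorem F183040 : act 2 n115952 = n65463 := d3_3 (iv6 D65463) F183033 D115952
theorem F183041 : act 2 n65467 = n115948 := d3_3 (iv6 D115948) F183032 D65467
theorem F183042 : act 7 n65465 = n115950 := d8_2 F183031 D65465 (iv3 D115950)
theorem F183043 : act 7 n67724 = n117047 := d11_2 F183042 F180554 F183001
theorem F183044 : act 2 n67719 = n67113 := d2_3 F181592 F183029 D67719
theorem F183045 : act 2 n116562 = n66817 := d0_3 (iv3 F103761) F183044 F181920 (iv3 D66817) (iv2 F183025)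
theorem F183046 : act 2 n116320 = n66376 := d1_3 F181560 F183044 (iv4 F181317)
theorem F183047 : act 7 n66812 = n67719 := d15_2 (iv0 D67113) (iv0 F182977) F183044
theorem F183048 : act 7 n66376 = n116321 := d11_2 F183047 (iv4 F181560) (iv4 F181319)
theorem F183049 : act 2 n116321 = n66375 := d15_3 (iv0 D66375) D66376 F183048
theorem F183050 : act 7 n116320 = n66375 := d4_2 (iv7 F183048) (iv2 F183046) (iv2 F183049)
theorem F183051 : act 7 n66813 = n67730 := d11_2 F183026 D66813 (iv4 D67730)
theorem F183052 : act 2 n66818 = n67730 := d1_3 (iv4 D67730) F183025 D66818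
theorem F183053 : act 2 n66820 = n67731 := d3_3 (iv6 D67731) F183025 D66820
theorem F183054 : act 7 n117048 = n67725 := d13_2 F183024 D117048 (iv5 D67725)
theorem F183056 : act 7 n67747 = n66818 := d11_2 F183021 D67747 (iv4 D66818)
theorem F183057 : act 2 n66813 = n67747 := d4_3 F183056 F183052 (iv7 F183051)
theorem F183058 : act 2 n67746 = n117049 := d1_3 F183002 F183019 (iv4 F103780)
theorem F183059 : act 2 n67751 = n117053 := d2_3 (iv5 D117053) F183019 D67751
theorem F183060 : act 2 n67752 = n117054 := d4_3 (iv7 D117054) F183019 D67752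
theorem F183061 : act 1 n67750 = n117054 := d15_1 D67750 (iv7 D117054) F183019
theorem F183062 : act 1 n117052 = n67752 := d15_1 D117052 (iv7 D67752) (iv2 F183019)
theorem F183063 : act 1 n117054 = n67749 := d15_0 (iv0 D67749) D67752 F183060
theorem F183064 : act 1 n67752 = n117051 := d15_0 (iv0 D117051) D117054 (iv2 F183060)
theorem F183065 : act 2 n67748 = n66815 := d3_3 (iv6 D66815) F183018 D67748
theorem F183066 : act 2 n67745 = n117048 := d2_3 (iv5 D117048) F183017 D67745
theorem F183067 : act 6 n117054 = n67736 := d14_3 F183016 D53943 D117054 (iv7 D67736) (iv6 D31450)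
theorem F183068 : act 1 n53945 = n115800 := d15_1 (iv0 D117056) F180174 F183008
def n117057 : Q := act 2 n53945
theorem D117057 : act 2 n53945 = n117057 := rfl
theorem F183069 : act 3 n117057 = n65461 := d0_2 D53945 D117057 F183029 (iv3 D31447) F183015
theorem F183070 : act 5 n117057 = n116562 := d2_2 (iv5 F181600) D117057 F183045
def n117058 : Q := act 4 n53945
theorem D117058 : act 4 n53945 = n117058 := rfl
def n117059 : Q := act 6 n53945
theorem D117059 : act 6 n53945 = n117059 := rfl
def n117060 : Q := act 3 n53946
theorem D117060 : act 3 n53946 = n117060 := rfl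
theorem F183078 : act 7 n117060 = n67744 := d8_2 (iv7 F183020) D117060 (iv3 D67744)
theorem F183079 : act 0 n64276 = n117060 := d20_4 F41239 (iv1 F24045) D30276 D64276 (iv3 D117060) (iv4 D53946) (iv1 D26081) (iv4 F41247) (iv3 D26074) D26072
def n117061 : Q := act 5 n53946
theorem D117061 : act 5 n53946 = n117061 := rfl
theorem F183080 : act 2 n117061 = n67725 := d2_1 D117061 (iv5 D67725) F183023
theorem F183081 : act 7 n117061 = n67745 := d13_2 (iv7 F183020) D117061 (iv5 D67745)
def n117062 : Q := act 6 n53946
theorem D117062 : act 6 n53946 = n117062 := rfl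
theorem F183082 : act 2 n117062 = n67726 := d3_1 D117062 (iv6 D67726) F183023
theorem F183083 : act 4 n117062 = n53948 := d10_1 D117062 (iv6 D53948) D53946
def n117063 : Q := act 0 n53948
theorem D117063 : act 0 n53948 = n117063 := rfl
def n117064 : Q := act 1 n53948
theorem D117064 : act 1 n53948 = n117064 := rfl
theorem F183084 : act 1 n117064 = n67736 := d15_1 D117064 (iv7 D67736) F183027
def n117065 : Q := act 5 n53948
theorem D117065 : act 5 n53948 = n117065 := rfl
theorem F183085 : act 2 n117065 = n67735 := d2_1 D117065 (iv5 D67735) F183027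
def n117066 : Q := act 7 n53948
theorem D117066 : act 7 n53948 = n117066 := rfl
theorem F183086 : act 2 n117066 = n67736 := d4_1 D117066 (iv7 D67736) F183027
theorem F183087 : act 6 n117066 = n67752 := d14_1 D117066 (iv7 D67752) (iv6 D31455) (iv7 F183014) D53948
theorem F183088 : act 1 n67736 = n117063 := d15_0 (iv0 D117063) D117066 F183086
theorem F183090 : act 1 n117066 = n67733 := d15_0 (iv0 D67733) D67736 (iv2 F183086)
def n117067 : Q := act 0 n53949
theorem D117067 : act 0 n53949 = n117067 := rfl
def n117068 : Q := act 1 n53949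
theorem D117068 : act 1 n53949 = n117068 := rfl
theorem F183091 : act 1 n117068 = n53953 := d15_1 D117068 (iv7 D53953) (iv2 F85079)
def n117069 : Q := act 5 n53949
theorem D117069 : act 5 n53949 = n117069 := rfl
theorem F183092 : act 2 n117069 = n53952 := d2_1 D117069 (iv5 D53952) (iv2 F85079)
theorem F183093 : act 3 n117069 = n68244 := d6_1 D117069 (iv5 D68244) (iv3 F85080)
def n117070 : Q := act 7 n53949
theorem D117070 : act 7 n53949 = n117070 := rfl
theorem F183094 : act 2 n117070 = n53953 := d4_1 D117070 (iv7 D53953) (iv2 F85079)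
theorem F183095 : act 3 n117070 = n68245 := d8_1 D117070 (iv7 D68245) (iv3 F85080)
theorem F183096 : act 6 n117070 = n67756 := d14_1 D117070 (iv7 D67756) (iv6 D31456) (iv7 F41257) D53949
theorem F183097 : act 1 n53953 = n117067 := d15_0 (iv0 D117067) D117070 F183094
theorem F183098 : act 1 n53951 = n117070 := d15_1 D53951 (iv7 D117070) F85079
theorem F183099 : act 1 n117070 = n53950 := d15_0 (iv0 D53950) D53953 (iv2 F183094)
def n117071 : Q := act 2 n53950
theorem D117071 : act 2 n53950 = n117071 := rfl
theorem F183100 : act 7 n53951 = n117071 := d15_2 (iv0 D53950) D53951 (iv2 D117071)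
def n117072 : Q := act 3 n53950
theorem D117072 : act 3 n53950 = n117072 := rfl
def n117073 : Q := act 4 n53950
theorem D117073 : act 4 n53950 = n117073 := rfl
def n117074 : Q := act 5 n53950
theorem D117074 : act 5 n53950 = n117074 := rfl
def n117075 : Q := act 6 n53950
theorem D117075 : act 6 n53950 = n117075 := rfl
def n117076 : Q := act 7 n53950
theorem D117076 : act 7 n53950 = n117076 := rfl
theorem F183101 : act 2 n117076 = n53951 := d4_1 D117076 F183100 (iv2 D117071)
def n117077 : Q := act 3 n53951
theorem D117077 : act 3 n53951 = n117077 := rfl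
def n117078 : Q := act 4 n53951
theorem D117078 : act 4 n53951 = n117078 := rfl
def n117080 : Q := act 6 n53951
theorem D117080 : act 6 n53951 = n117080 := rfl
def n117081 : Q := act 0 n53952
theorem D117081 : act 0 n53952 = n117081 := rfl
def n117082 : Q := act 1 n53952
theorem D117082 : act 1 n53952 = n117082 := rfl
def n117083 : Q := act 4 n53952
theorem D117083 : act 4 n53952 = n117083 := rfl
def n117084 : Q := act 7 n53952
theorem D117084 : act 7 n53952 = n117084 := rfl
theorem F183102 : act 3 n117084 = n53957 := d8_1 D117084 (iv7 D53957) (iv3 F85081)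
theorem F183103 : act 5 n117084 = n53953 := d13_1 D117084 (iv7 D53953) D53952
def n117085 : Q := act 3 n53954
theorem D117085 : act 3 n53954 = n117085 := rfl
def n117086 : Q := act 6 n53954
theorem D117086 : act 6 n53954 = n117086 := rfl
def n117087 : Q := act 3 n53955
theorem D117087 : act 3 n53955 = n117087 := rfl
theorem F183106 : act 5 n117087 = n66721 := d6_2 F85085 D117087 F102606
theorem F183107 : act 7 n117087 = n68260 := d8_2 F85094 D117087 (iv3 D68260)
def n117089 : Q := act 3 n53956
theorem D117089 : act 3 n53956 = n117089 := rfl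
def n117090 : Q := act 7 n53956
theorem D117090 : act 7 n53956 = n117090 := rfl
theorem F183110 : act 2 n117090 = n68268 := d4_1 D117090 (iv7 D68268) (iv2 F85087)
theorem F183111 : act 4 n117090 = n53957 := d11_1 D117090 (iv7 D53957) D53956
theorem F183113 : act 1 n68265 = n117090 := d15_1 D68265 (iv7 D117090) F85087
theorem F183114 : act 1 n117090 = n68264 := d15_1 F183113 F104412 F104408
def n117091 : Q := act 6 n53957
theorem D117091 : act 6 n53957 = n117091 := rfl
theorem F183116 : act 5 n117091 = n67780 := d12_1 D117091 (iv6 D67780) F49777 (iv6 F41266) (iv5 F85089)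
def n117092 : Q := act 4 n53958
theorem D117092 : act 4 n53958 = n117092 := rfl
theorem F183117 : act 2 n117092 = n59509 := d1_1 D117092 F93933 (iv2 F85099)
theorem F183118 : act 6 n117092 = n59472 := d10_2 F85101 D117092 F93870
theorem F183119 : act 7 n117092 = n59413 := d11_2 (iv7 F85097) D117092 F93773
theorem F183120 : act 1 n117092 = n59506 := d18_6 (iv1 F175363) F175362 (iv1 F175114) F175111 F85098 D117092 F93932 F82156 (iv5 F82669)
theorem F183121 : act 0 n117092 = n59507 := d20_1 D117092 (iv4 F100396) (iv3 D30881) (iv1 D14623) F11249 (iv4 F11255) D14634 F47798 D26088 D53958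
def n117093 : Q := act 4 n53959
theorem D117093 : act 4 n53959 = n117093 := rfl
theorem F183122 : act 2 n117093 = n53960 := d1_1 D117093 (iv4 D53960) D53959
theorem F183123 : act 7 n117093 = n59510 := d11_2 (iv7 F85103) D117093 (iv4 D59510)
theorem F183124 : act 0 n117093 = n64458 := d18_2 (iv1 F85104) D117093 F100388 (iv5 F100414) (iv4 F171223) (iv0 F175117) (iv4 D112562) (iv0 D51933) (iv5 F45651)
theorem F183125 : act 1 n117093 = n63945 := d18_6 F168395 (iv4 F168411) (iv1 F176336) F176334 F93422 D117093 F99471 (iv0 F49334) (iv5 F79473)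
def n117094 : Q := act 0 n53960
theorem D117094 : act 0 n53960 = n117094 := rfl
theorem F183126 : act 4 n117094 = n63946 := d18_3 (iv1 F85100) D53960 D117094 (iv5 F168831) (iv4 F175155) F175158 (iv4 D110495) F166157 F38835
theorem F183127 : act 2 n64458 = n117094 := d15_3 (iv0 D117094) (iv0 F85107) D64458
theorem F183128 : act 1 n59510 = n117094 := d15_0 (iv0 D117094) F85106 (iv2 F93934)
theorem F183129 : act 7 n117094 = n63945 := d15_2 (iv0 F166350) F183128 F99470
theorem F183130 : act 6 n64295 = n117094 := d14_5 F183129 (iv6 D63945) F48500 D30285 D64295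
def n117095 : Q := act 5 n53960
theorem D117095 : act 5 n53960 = n117095 := rfl
theorem F183131 : act 7 n117095 = n68288 := d13_2 (iv7 F85106) D117095 (iv5 D68288)
def n117096 : Q := act 6 n53960
theorem D117096 : act 6 n53960 = n117096 := rfl
theorem F183132 : act 4 n117096 = n53961 := d10_1 D117096 (iv6 D53961) D53960
theorem F183133 : act 7 n117096 = n60851 := d14_2 (iv7 F85106) D117096 F95407 (iv7 F49848) (iv6 F50068)
def n117097 : Q := act 1 n53962
theorem D117097 : act 1 n53962 = n117097 := rfl
theorem F183134 : act 1 n117097 = n68271 := d15_1 D117097 (iv7 F162158) F162156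
theorem F183135 : act 7 n117097 = n67675 := d15_2 (iv0 F85113) D117097 F103704
theorem F183136 : act 4 n117097 = n107121 := d18_7 (iv1 F172663) F172665 (iv1 D58983) F45301 (iv5 F41276) D53962 D117097 F165105 F162151
theorem F183137 : act 2 n68273 = n117097 := d1_3 F183136 F165101 (iv4 F104425)
theorem F183138 : act 6 n67818 = n117097 := d10_0 F183136 F165103 F111231
def n117098 : Q := act 5 n53962
theorem D117098 : act 5 n53962 = n117098 := rfl
theorem F183139 : act 7 n117098 = n68275 := d13_2 (iv7 F85112) D117098 (iv5 D68275)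
def n117099 : Q := act 6 n53966
theorem D117099 : act 6 n53966 = n117099 := rfl
theorem F183140 : act 2 n117099 = n67934 := d3_1 D117099 (iv6 D67934) (iv2 F85131)
theorem F183141 : act 3 n117099 = n54081 := d7_1 D117099 (iv6 D54081) (iv3 F85132)
theorem F183142 : act 4 n117099 = n68440 := d10_1 D117099 (iv6 D68440) F85136
theorem F183143 : act 5 n117099 = n71662 := d12_1 D117099 (iv6 D71662) F53948 F53942 D53966
def n117100 : Q := act 3 n53967
theorem D117100 : act 3 n53967 = n117100 := rfl
theorem F183144 : act 4 n117100 = n66823 := d5_2 D53967 D117100 F102667 (iv4 D31797) (iv3 F41287)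
theorem F183145 : act 7 n117100 = n67954 := d8_2 (iv7 F85138) D117100 (iv3 D67954)
def n117101 : Q := act 6 n53967
theorem D117101 : act 6 n53967 = n117101 := rfl
theorem F183147 : act 4 n117101 = n53968 := d10_1 D117101 (iv6 D53968) D53967
def n117102 : Q := act 0 n53968
theorem D117102 : act 0 n53968 = n117102 := rfl
def n117103 : Q := act 1 n53968
theorem D117103 : act 1 n53968 = n117103 := rfl
theorem F183148 : act 1 n117103 = n53981 := d15_1 D117103 (iv7 D53981) (iv2 F85141)
theorem F183149 : act 6 n86010 = n117103 := d21_3 (iv5 F155286) (iv1 F92503) D86010 (iv1 D117103) (iv6 D53968) (iv5 D26103) (iv1 F20567) D14877 D31620 D67951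
theorem F183150 : act 2 n117103 = n53980 := d3_1 F183149 F155396 (iv2 F155387)
def n117104 : Q := act 7 n53968
theorem D117104 : act 7 n53968 = n117104 := rfl
theorem F183151 : act 2 n117104 = n53981 := d4_1 D117104 (iv7 D53981) (iv2 F85141)
theorem F183152 : act 3 n117104 = n68335 := d8_1 D117104 (iv7 D68335) (iv3 F85142)
theorem F183153 : act 6 n117104 = n67959 := d14_1 D117104 (iv7 D67959) (iv6 D31626) (iv7 F41288) D53968
theorem F183154 : act 1 n53981 = n117102 := d15_0 (iv0 D117102) D117104 F183151
theorem F183155 : act 1 n53980 = n117104 := d15_1 D53980 (iv7 D117104) F85141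
theorem F183156 : act 7 n117102 = n53980 := d15_2 F183148 F183154 (iv2 F183150)
theorem F183157 : act 2 n117102 = n53979 := d15_3 (iv0 D53979) D53980 (iv7 F183156)
theorem F183158 : act 7 n53979 = n117103 := d4_2 (iv7 F183156) F183157 F183150
theorem F183159 : act 1 n117104 = n53979 := d15_1 F183155 F183158 F183150
def n117105 : Q := act 6 n53969
theorem D117105 : act 6 n53969 = n117105 := rfl
theorem F183160 : act 3 n117105 = n53971 := d7_1 D117105 (iv6 D53971) D53969
theorem F183161 : act 5 n117105 = n54390 := d12_1 D117105 (iv6 D54390) F41917 F41330 (iv5 F85143)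
def n117106 : Q := act 3 n53970
theorem D117106 : act 3 n53970 = n117106 := rfl
theorem F183162 : act 7 n117106 = n67967 := d8_2 (iv7 F85146) D117106 (iv3 D67967)
def n117107 : Q := act 5 n53970
theorem D117107 : act 5 n53970 = n117107 := rfl
theorem F183163 : act 2 n117107 = n67976 := d2_1 D117107 (iv5 D67976) (iv2 F85145)
theorem F183164 : act 7 n117107 = n67968 := d13_2 (iv7 F85146) D117107 (iv5 D67968)
def n117108 : Q := act 6 n53970
theorem D117108 : act 6 n53970 = n117108 := rfl
theorem F183165 : act 2 n117108 = n67977 := d3_1 D117108 (iv6 D67977) (iv2 F85145)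
theorem F183166 : act 4 n117108 = n53971 := d10_1 D117108 (iv6 D53971) D53970
def n117109 : Q := act 6 n53972
theorem D117109 : act 6 n53972 = n117109 := rfl
theorem F183167 : act 3 n117109 = n53974 := d7_1 D117109 (iv6 D53974) D53972
def n117110 : Q := act 3 n53973
theorem D117110 : act 3 n53973 = n117110 := rfl
theorem F183168 : act 7 n117110 = n67975 := d8_2 (iv7 F85153) D117110 (iv3 D67975)
def n117111 : Q := act 5 n53973
theorem D117111 : act 5 n53973 = n117111 := rfl
theorem F183169 : act 2 n117111 = n67968 := d2_1 D117111 (iv5 D67968) (iv2 F85152)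
theorem F183170 : act 7 n117111 = n67976 := d13_2 (iv7 F85153) D117111 (iv5 D67976)
def n117112 : Q := act 6 n53973
theorem D117112 : act 6 n53973 = n117112 := rfl
theorem F183171 : act 2 n117112 = n67969 := d3_1 D117112 (iv6 D67969) (iv2 F85152)
theorem F183172 : act 4 n117112 = n53974 := d10_1 D117112 (iv6 D53974) D53973
def n117113 : Q := act 0 n53974
theorem D117113 : act 0 n53974 = n117113 := rfl
def n117114 : Q := act 1 n53974
theorem D117114 : act 1 n53974 = n117114 := rfl
theorem F183173 : act 1 n117114 = n67972 := d15_1 D117114 (iv7 D67972) (iv2 F85154)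
def n117115 : Q := act 5 n53974
theorem D117115 : act 5 n53974 = n117115 := rfl
theorem F183174 : act 2 n117115 = n54466 := d2_1 D117115 F86008 (iv2 F85154)
theorem F183175 : act 6 n117115 = n54008 := d12_2 D53974 D117115 (iv5 D54008) (iv6 D26125) (iv5 F50429)
theorem F183176 : act 7 n85945 = n117115 := d14_0 F183175 F85192 (iv6 F85885) F155105 D85945
def n117116 : Q := act 7 n53974
theorem D117116 : act 7 n53974 = n117116 := rfl
theorem F183177 : act 2 n117116 = n67972 := d4_1 D117116 (iv7 D67972) (iv2 F85154)
theorem F183178 : act 5 n117116 = n85945 := d13_1 D117116 F183176 (iv5 D117115)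
theorem F183179 : act 6 n117116 = n59978 := d14_1 D117116 F155382 (iv6 D31638) F50447 D53974
theorem F183180 : act 1 n67972 = n117113 := d15_0 (iv0 D117113) D117116 F183177
theorem F183181 : act 1 n67971 = n117116 := d15_1 D67971 (iv7 D117116) F85154
theorem F183182 : act 1 n117116 = n67970 := d15_0 (iv0 D67970) D67972 (iv2 F183177)
def n117118 : Q := act 5 n53975
theorem D117118 : act 5 n53975 = n117118 := rfl
theorem F183184 : act 2 n117118 = n67985 := d2_1 D117118 (iv5 D67985) F85157
theorem F183185 : act 7 n117118 = n67982 := d13_2 F85158 D117118 (iv5 D67982)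
theorem F183186 : act 4 n117118 = n117111 := d16_2 (iv4 F85155) D117118 (iv5 D117111) (iv4 D53973) F50429 (iv4 F24693) D31923 F50241 (iv2 F51047)
theorem F183187 : act 0 n117118 = n68413 := d17_2 D53975 D117118 (iv5 D68413) (iv4 D31838) (iv5 D14987) F20622 (iv5 F50426) (iv0 D26104) D26106
theorem F183188 : act 1 n117118 = n54013 := d17_6 (iv1 F51054) (iv5 D15160) D15156 D32107 (iv4 F85155) D117118 (iv5 D54013) D54012 F85207
def n117119 : Q := act 6 n53975
theorem D117119 : act 6 n53975 = n117119 := rfl
theorem F183189 : act 2 n117119 = n67986 := d3_1 D117119 (iv6 D67986) F85157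
theorem F183190 : act 4 n117119 = n69020 := d10_1 D117119 (iv6 D69020) (iv4 F85155)
def n117121 : Q := act 5 n53976
theorem D117121 : act 5 n53976 = n117121 := rfl
theorem F183193 : act 2 n117121 = n67982 := d2_1 D117121 (iv5 D67982) (iv2 F85162)
theorem F183194 : act 4 n117121 = n117107 := d9_1 D117121 (iv5 D117107) (iv4 D53970) F50426 (iv4 F24765) D32107 (iv4 F85155) D117118 F183186 (iv5 D117111) (iv4 D53973) F50429 (iv4 F24693) D31923 F85161
theorem F183195 : act 7 n117121 = n67985 := d13_2 (iv7 F85160) D117121 (iv5 D67985)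
theorem F183196 : act 0 n117121 = n54013 := d17_2 (iv1 F85159) D117121 (iv5 D54013) (iv4 D26129) (iv5 D12393) D12391 (iv5 F50429) F41292 D31625
theorem F183197 : act 1 n117121 = n68413 := d17_6 (iv1 F51017) (iv5 D32087) F24755 D31923 F85161 D117121 (iv5 D68413) F85202 F85201
def n117122 : Q := act 6 n53976
theorem D117122 : act 6 n53976 = n117122 := rfl
theorem F183198 : act 2 n117122 = n67983 := d3_1 D117122 (iv6 D67983) (iv2 F85162)
theorem F183199 : act 4 n117122 = n68612 := d10_1 D117122 (iv6 D68612) F85161
def n117127 : Q := act 7 n53978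
theorem D117127 : act 7 n53978 = n117127 := rfl
theorem F183200 : act 4 n117127 = n53981 := d11_1 D117127 (iv7 D53981) (iv4 F85164)
theorem F183201 : act 6 n117127 = n67994 := d14_1 D117127 (iv7 D67994) (iv6 D31642) (iv7 F41293) D53978
def n117128 : Q := act 3 n53979
theorem D117128 : act 3 n53979 = n117128 := rfl
def n117129 : Q := act 4 n53979
theorem D117129 : act 4 n53979 = n117129 := rfl
def n117130 : Q := act 5 n53979
theorem D117130 : act 5 n53979 = n117130 := rfl
def n117131 : Q := act 6 n53979
theorem D117131 : act 6 n53979 = n117131 := rfl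
def n117132 : Q := act 3 n53980
theorem D117132 : act 3 n53980 = n117132 := rfl
def n117133 : Q := act 4 n53980
theorem D117133 : act 4 n53980 = n117133 := rfl
def n117134 : Q := act 0 n53983
theorem D117134 : act 0 n53983 = n117134 := rfl
theorem F183202 : act 1 n68390 = n117134 := d15_0 (iv0 D117134) F131108 D68390
def n117135 : Q := act 1 n53983
theorem D117135 : act 1 n53983 = n117135 := rfl
def n117136 : Q := act 2 n53983
theorem D117136 : act 2 n53983 = n117136 := rfl
theorem F183204 : act 7 n117136 = n68390 := d4_2 (iv7 F131108) D117136 (iv2 D68390)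
theorem F183205 : act 1 n117136 = n68388 := d15_0 (iv0 D68388) (iv7 F131108) D117136
theorem F183206 : act 1 n117135 = n68390 := d15_1 D117135 (iv7 F183204) (iv2 D117136)
theorem F183207 : act 1 n68389 = n117136 := d15_1 D68389 F183204 (iv2 D68390)
def n117137 : Q := act 4 n53983
theorem D117137 : act 4 n53983 = n117137 := rfl
def n117139 : Q := act 6 n53983
theorem D117139 : act 6 n53983 = n117139 := rfl
theorem F183211 : act 3 n117139 = n53986 := d7_1 D117139 (iv6 D53986) D53983
theorem F183212 : act 5 n68603 = n117139 := d6_0 F183211 F85168 D68603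
def n117140 : Q := act 4 n53985
theorem D117140 : act 4 n53985 = n117140 := rfl
theorem F183213 : act 2 n117140 = n68381 := d1_1 D117140 (iv4 D68381) (iv2 F131111)
theorem F183215 : act 1 n117140 = n74986 := d18_6 (iv1 D15214) (iv4 F24241) D30786 F180992 D53985 D117140 F112518 (iv0 F87273) (iv5 D32258)
def n117141 : Q := act 6 n53985
theorem D117141 : act 6 n53985 = n117141 := rfl
theorem F183216 : act 2 n117141 = n68382 := d3_1 D117141 (iv6 D68382) (iv2 F131111)
theorem F183217 : act 5 n117141 = n68605 := d12_1 D117141 (iv6 D68605) (iv5 F85168) (iv6 D53986) D53985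
theorem F183218 : act 7 n117141 = n62842 := d14_2 (iv7 F131112) D117141 (iv6 D62842) (iv7 F131096) F53908
theorem F183220 : act 0 n117141 = n108402 := d21_10 F167586 (iv1 D54361) (iv5 F47804) (iv6 D29732) (iv1 F26684) D16594 F27078 D26108 D53985 D117141
theorem F183221 : act 0 n70214 = n68605 := d21_1 (iv5 F106675) (iv5 F183217) (iv6 D117141) (iv1 F166872) F166870 (iv5 D62810) (iv1 F47773) (iv5 F96208) (iv6 F98050) (iv1 F104250)
theorem F183222 : act 1 n74762 = n108402 := d15_0 (iv0 F183220) F183218 (iv2 F131138)
def n117142 : Q := act 1 n53986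
theorem D117142 : act 1 n53986 = n117142 := rfl
theorem F183223 : act 1 n117142 = n68386 := d15_1 D117142 (iv7 D68386) (iv2 F131113)
theorem F183224 : act 7 n117142 = n59994 := d15_2 (iv0 F162569) D117142 F182252
theorem F183225 : act 4 n117142 = n67348 := d17_9 (iv1 F182342) F182123 (iv1 D66871) (iv5 D31156) F24389 D15051 D31912 (iv5 F85168) D117142
theorem F183226 : act 6 n62853 = n117142 := d21_3 F24638 D29743 D62853 (iv1 D117142) (iv6 D53986) D53985 (iv1 F166872) F166869 F94906 (iv1 D31866)
theorem F183227 : act 2 n117142 = n68385 := d3_1 F183226 (iv6 F104562) (iv2 F182264)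
def n117143 : Q := act 7 n53986
theorem D117143 : act 7 n53986 = n117143 := rfl
theorem F183228 : act 2 n117143 = n68386 := d4_1 D117143 (iv7 D68386) (iv2 F131113)
theorem F183229 : act 5 n117143 = n54027 := d13_1 D117143 F131083 (iv5 F85168)
theorem F183230 : act 6 n117143 = n59975 := d14_1 D117143 F131117 (iv6 D31821) (iv7 F131107) D53986
theorem F183231 : act 1 n68385 = n117143 := d15_1 D68385 (iv7 D117143) F131113
theorem F183232 : act 1 n117143 = n59994 := d15_1 F183231 (iv7 F183224) F183227
theorem F183233 : act 0 n68470 = n54345 := d21_1 D68470 F94458 (iv6 F183230) (iv1 F183231) (iv6 F104562) (iv5 D61758) (iv1 F47825) (iv5 F50177) F50178 (iv1 F50156)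
def n117144 : Q := act 0 n53988
theorem D117144 : act 0 n53988 = n117144 := rfl
theorem F183234 : act 1 n68369 = n117144 := d15_0 (iv0 D117144) F131100 D68369
def n117145 : Q := act 1 n53988
theorem D117145 : act 1 n53988 = n117145 := rfl
def n117146 : Q := act 2 n53988
theorem D117146 : act 2 n53988 = n117146 := rfl
theorem F183236 : act 7 n117146 = n68369 := d4_2 (iv7 F131100) D117146 (iv2 D68369)
theorem F183237 : act 1 n117146 = n68367 := d15_0 (iv0 D68367) (iv7 F131100) D117146
theorem F183238 : act 1 n117145 = n68369 := d15_1 D117145 (iv7 F183236) (iv2 D117146)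
theorem F183239 : act 1 n68368 = n117146 := d15_1 D68368 F183236 (iv2 D68369)
def n117147 : Q := act 4 n53988
theorem D117147 : act 4 n53988 = n117147 := rfl
theorem F183240 : act 7 n117147 = n68370 := d11_2 (iv7 F131100) D117147 (iv4 D68370)
def n117148 : Q := act 5 n53988
theorem D117148 : act 5 n53988 = n117148 := rfl
theorem F183241 : act 3 n117148 = n53990 := d6_1 D117148 (iv5 D53990) D53988
theorem F183243 : act 6 n62835 = n117148 := d7_0 F183241 (iv6 F85170) D62835
def n117149 : Q := act 6 n53988
theorem D117149 : act 6 n53988 = n117149 := rfl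
theorem F183244 : act 3 n117149 = n53991 := d7_1 D117149 (iv6 D53991) D53988
def n117150 : Q := act 4 n53990
theorem D117150 : act 4 n53990 = n117150 := rfl
theorem F183246 : act 6 n117150 = n62836 := d10_2 F85170 D117150 (iv4 D62836)
theorem F183247 : act 7 n117150 = n68381 := d11_2 (iv7 F131098) D117150 (iv4 D68381)
theorem F183248 : act 1 n74986 = n117150 := d15_1 F183215 F183247 (iv2 F183213)
def n117151 : Q := act 5 n53991
theorem D117151 : act 5 n53991 = n117151 := rfl
theorem F183250 : act 6 n117151 = n62837 := d12_2 D53991 D117151 (iv5 D62837) F85170 (iv5 D53990)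
theorem F183251 : act 0 n117151 = n68470 := d21_1 D117151 (iv5 D68470) D68471 F182714 F104190 (iv5 D32900) (iv1 F46005) (iv5 D28480) D28481 (iv1 F104193)
def n117152 : Q := act 0 n53992
theorem D117152 : act 0 n53992 = n117152 := rfl
theorem F183253 : act 4 n117152 = n54059 := d18_3 (iv1 D53994) (iv4 F85172) D117152 (iv5 F85292) (iv4 F181858) (iv0 D69538) (iv4 F77154) F106512 F85174
theorem F183254 : act 1 n68532 = n117152 := d18_6 D26147 (iv4 F181833) (iv1 F84720) F49525 (iv5 F50185) (iv4 F104723) F183253 (iv0 D54059) (iv5 D26149)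
def n117153 : Q := act 1 n53992
theorem D117153 : act 1 n53992 = n117153 := rfl
theorem F183255 : act 1 n117153 = n68532 := d15_1 D117153 (iv7 D68532) (iv2 F85171)
theorem F183256 : act 4 n117153 = n54060 := d18_7 (iv1 F41454) F181838 (iv1 D53699) F41076 (iv5 F41312) (iv4 F85172) D117153 F85284 F50366
def n117154 : Q := act 5 n53992
theorem D117154 : act 5 n53992 = n117154 := rfl
def n117155 : Q := act 7 n53992
theorem D117155 : act 7 n53992 = n117155 := rfl
theorem F183258 : act 2 n117155 = n68532 := d4_1 D117155 (iv7 D68532) (iv2 F85171)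
theorem F183259 : act 4 n117155 = n53995 := d11_1 D117155 (iv7 D53995) (iv4 F85172)
theorem F183260 : act 6 n117155 = n68558 := d14_1 D117155 (iv7 D68558) (iv6 D31895) (iv7 F41308) D53992
theorem F183261 : act 1 n68529 = n117155 := d15_1 D68529 (iv7 D117155) F85171
theorem F183262 : act 0 n68789 = n117155 := d18_2 D31997 D68789 F183259 F85177 (iv4 F84718) F84722 (iv4 F104980) (iv0 D15088) D15090
theorem F183263 : act 0 n68509 = n68715 := d20_7 D68789 F183262 F183259 F85176 (iv1 F41317) D31874 D68509 (iv4 D68715) F50321 D31997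
theorem E18152 : n68788 = n54044 := ((c20_5 D31875 F180394 F41027 (iv3 F41448) D54044 (iv3 D68788) D68789 F183262 F183259 F85176 (iv1 F41317))).symm
theorem F183264 : act 3 n54044 = n31997 := (sb E18152 (iv3 D68788))
theorem E18153 : n68789 = n68528 := (c15_1 (iv0 F183262) (iv0 D68528) D68532 (iv2 F183258))
theorem F183265 : act 0 n68528 = n117155 := (sb E18153 F183262)
theorem F183266 : act 4 n68528 = n31997 := (sb E18153 (iv4 D68789))
def n117156 : Q := act 3 n53993
theorem D117156 : act 3 n53993 = n117156 := rfl
theorem F183267 : act 7 n117156 = n68525 := d8_2 (iv7 F182750) D117156 (iv3 D68525)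
def n117157 : Q := act 6 n53993
theorem D117157 : act 6 n53993 = n117157 := rfl
theorem F183268 : act 2 n117157 = n68523 := d3_1 D117157 (iv6 D68523) (iv2 F182749)
theorem F183269 : act 5 n117157 = n61387 := d21_6 F41197 (iv1 D12379) D12381 D26114 D53993 D117157 (iv1 D61387) (iv5 F50102) (iv6 D31798) (iv1 F41195)
theorem F183270 : act 0 n60382 = n117157 := d21_4 F84962 F110501 D28676 D60382 (iv6 D117157) (iv5 F162548) (iv1 F162550) F104703 (iv6 F114116) (iv1 F114117)
theorem F183271 : act 2 n61387 = n61595 := d2_1 F183269 (iv5 F104720) (iv2 F183268)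
theorem F183272 : act 7 n61594 = n61387 := d15_2 F96143 F96148 F183271
theorem F183273 : act 7 n61386 = n61595 := d15_2 F96149 F96150 (iv2 F183271)
theorem F183274 : act 2 n61594 = n61386 := d4_3 F183273 (iv2 F183271) (iv7 F183272)
def n117158 : Q := act 3 n53994
theorem D117158 : act 3 n53994 = n117158 := rfl
theorem F183275 : act 5 n117158 = n68040 := d6_2 F85174 D117158 F104163
theorem F183276 : act 7 n117158 = n68521 := d8_2 (iv7 F182736) D117158 (iv3 D68521)
def n117159 : Q := act 6 n53994
theorem D117159 : act 6 n53994 = n117159 := rfl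
theorem F183277 : act 2 n117159 = n68527 := d3_1 D117159 (iv6 D68527) (iv2 F182735)
theorem F183278 : act 5 n117159 = n68051 := d12_1 D117159 (iv6 D68051) (iv5 D31664) D31665 F85174
theorem F183280 : act 0 n58558 = n117159 := d21_4 (iv5 D32536) F41777 D27857 D58558 (iv6 D117159) (iv5 F85174) (iv1 F106512) F77155 (iv6 D34745) (iv1 F51610)
theorem F183281 : act 7 n85824 = n117159 := d13_0 F183278 (iv7 F107717) F131680
def n117160 : Q := act 0 n53997
theorem D117160 : act 0 n53997 = n117160 := rfl
theorem F183282 : act 1 n68508 = n117160 := d15_0 (iv0 D117160) F131515 D68508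
def n117161 : Q := act 1 n53997
theorem D117161 : act 1 n53997 = n117161 := rfl
def n117162 : Q := act 2 n53997
theorem D117162 : act 2 n53997 = n117162 := rfl
theorem F183283 : act 3 n117162 = n68489 := d0_2 D53997 D117162 (iv2 D68489) (iv3 D31869) (iv2 F131513)
theorem F183284 : act 7 n117162 = n68508 := d4_2 (iv7 F131515) D117162 (iv2 D68508)
theorem F183285 : act 1 n117162 = n68506 := d15_0 (iv0 D68506) (iv7 F131515) D117162
theorem F183286 : act 1 n117161 = n68508 := d15_1 D117161 (iv7 F183284) (iv2 D117162)
theorem F183287 : act 1 n68507 = n117162 := d15_1 D68507 F183284 (iv2 D68508)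
def n117163 : Q := act 4 n53997
theorem D117163 : act 4 n53997 = n117163 := rfl
theorem F183288 : act 7 n117163 = n68509 := d11_2 (iv7 F131515) D117163 (iv4 D68509)
def n117164 : Q := act 5 n53997
theorem D117164 : act 5 n53997 = n117164 := rfl
theorem F183289 : act 3 n117164 = n53999 := d6_1 D117164 (iv5 D53999) D53997
theorem F183290 : act 7 n117164 = n68510 := d13_2 (iv7 F131515) D117164 (iv5 D68510)
def n117165 : Q := act 6 n53997
theorem D117165 : act 6 n53997 = n117165 := rfl
theorem F183291 : act 3 n117165 = n54000 := d7_1 D117165 (iv6 D54000) D53997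
theorem F183292 : act 5 n74815 = n117165 := d6_0 F183291 F85183 D74815
def n117166 : Q := act 4 n53999
theorem D117166 : act 4 n53999 = n117166 := rfl
theorem F183293 : act 2 n117166 = n68501 := d1_1 D117166 (iv4 D68501) (iv2 F131518)
theorem F183295 : act 0 n117166 = n69629 := d18_2 (iv1 F113964) D117166 (iv4 D69629) (iv5 D32324) (iv4 F51344) (iv0 F181020) (iv4 F105663) F131063 (iv5 F131058)
theorem F183296 : act 0 n69615 = n69351 := d20_4 D117166 F183295 (iv4 D69629) (iv3 F105891) F105617 (iv4 F110639) F112130 (iv4 F77154) (iv3 F131057) (iv1 F113964)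
def n117167 : Q := act 6 n53999
theorem D117167 : act 6 n53999 = n117167 := rfl
theorem F183298 : act 5 n117167 = n74817 := d12_1 D117167 (iv6 D74817) (iv5 F85183) (iv6 D54000) D53999
theorem F183299 : act 0 n117167 = n108405 := d21_10 (iv5 D108405) (iv1 D50056) (iv5 F50098) (iv6 D31796) F26635 D26114 F41312 D26115 D53999 D117167
theorem F183300 : act 0 n108401 = n117167 := d21_1 D108401 F183298 (iv6 D74817) (iv1 D34277) (iv6 D16594) (iv5 D7713) (iv1 F8177) (iv5 F18824) D24411 D50055
def n117168 : Q := act 0 n54002
theorem D117168 : act 0 n54002 = n117168 := rfl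
theorem F183301 : act 1 n68489 = n117168 := d15_0 (iv0 D117168) F131507 D68489
def n117169 : Q := act 1 n54002
theorem D117169 : act 1 n54002 = n117169 := rfl
def n117170 : Q := act 2 n54002
theorem D117170 : act 2 n54002 = n117170 := rfl
theorem F183302 : act 3 n117170 = n68508 := d0_2 D54002 D117170 (iv2 D68508) (iv3 D31874) F131506
theorem F183303 : act 7 n117170 = n68489 := d4_2 (iv7 F131507) D117170 (iv2 D68489)
theorem F183304 : act 1 n117170 = n68487 := d15_0 (iv0 D68487) (iv7 F131507) D117170
theorem F183305 : act 1 n117169 = n68489 := d15_1 D117169 (iv7 F183303) (iv2 D117170)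
def n117171 : Q := act 4 n54002
theorem D117171 : act 4 n54002 = n117171 := rfl
theorem F183307 : act 7 n117171 = n68490 := d11_2 (iv7 F131507) D117171 (iv4 D68490)
def n117172 : Q := act 5 n54002
theorem D117172 : act 5 n54002 = n117172 := rfl
theorem F183308 : act 3 n117172 = n54004 := d6_1 D117172 (iv5 D54004) D54002
theorem F183309 : act 7 n117172 = n68491 := d13_2 (iv7 F131507) D117172 (iv5 D68491)
def n117173 : Q := act 6 n54002
theorem D117173 : act 6 n54002 = n117173 := rfl
theorem F183310 : act 3 n117173 = n54005 := d7_1 D117173 (iv6 D54005) D54002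
def n117174 : Q := act 4 n54004
theorem D117174 : act 4 n54004 = n117174 := rfl
theorem F183311 : act 2 n117174 = n68515 := d1_1 D117174 (iv4 D68515) (iv2 F131510)
theorem F183312 : act 7 n117174 = n68501 := d11_2 (iv7 F131511) D117174 (iv4 D68501)
theorem F183313 : act 1 n117174 = n69629 := d18_6 (iv1 F41461) (iv4 F84580) (iv1 F84583) (iv4 F181014) D54004 D117174 (iv4 D69629) (iv0 F51346) (iv5 D31990)
def n117175 : Q := act 0 n54005
theorem D117175 : act 0 n54005 = n117175 := rfl
theorem F183314 : act 5 n117175 = n59995 := d17_1 D117175 (iv1 F94465) (iv5 F77159) F77158 (iv5 F78711) F79102 D108290 F181018 F181015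
theorem F183315 : act 6 n117175 = n68588 := d21_5 (iv5 F87905) F87906 (iv5 D54004) D54005 D117175 F107662 F122601 (iv5 D53892) D53893 F122600
theorem F183316 : act 0 n117175 = n68519 := d21_4 D53897 (iv1 F182704) (iv5 F107662) (iv6 F183315) F104716 (iv5 D68403) (iv1 F54377) F54373 F41297 (iv1 F41202)
theorem F183317 : act 4 n65363 = n117175 := d17_4 (iv1 D14761) (iv5 F24171) D30655 D65363 F183314 (iv0 D59995) (iv5 D28487) D28486 (iv4 F104777)
theorem F183318 : act 0 n116528 = n65363 := d18_2 (iv1 F105973) (iv4 F181839) F183317 F183314 (iv4 F110859) (iv0 D74139) F53335 D54315 (iv5 F103931)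
def n117176 : Q := act 7 n54005
theorem D117176 : act 7 n54005 = n117176 := rfl
theorem F183320 : act 2 n117176 = n68519 := d4_1 D117176 (iv7 D68519) (iv2 F131505)
theorem F183321 : act 6 n117176 = n60391 := d14_1 D117176 F131527 (iv6 D31872) F131512 D54005
theorem F183322 : act 1 n68466 = n117176 := d15_1 (iv0 F114315) (iv7 D117176) F131505
theorem F183323 : act 1 n117176 = n68516 := d15_0 (iv0 D68516) D68519 (iv2 F183320)
def n117177 : Q := act 0 n54006
theorem D117177 : act 0 n54006 = n117177 := rfl
def n117178 : Q := act 1 n54006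
theorem D117178 : act 1 n54006 = n117178 := rfl
theorem F183324 : act 1 n117178 = n68551 := d15_1 D117178 (iv7 D68551) (iv2 F85186)
theorem F183325 : act 5 n72240 = n117178 := d21_0 (iv1 D117178) F85187 (iv6 D26376) (iv1 F22691) (iv6 F24821) (iv5 D15206) D15204 D32229 D69362 F108673
def n117179 : Q := act 7 n54006
theorem D117179 : act 7 n54006 = n117179 := rfl
theorem F183326 : act 2 n117179 = n68551 := d4_1 D117179 (iv7 D68551) (iv2 F85186)
theorem F183327 : act 5 n117179 = n54543 := d13_1 D117179 (iv7 D54543) (iv5 F85187)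
theorem F183328 : act 6 n117179 = n68554 := d14_1 D117179 (iv7 D68554) (iv6 D31894) (iv7 F41320) D54006
theorem F183329 : act 1 n68551 = n117177 := d15_0 (iv0 D117177) D117179 F183326
theorem F183330 : act 1 n68550 = n117179 := d15_1 D68550 (iv7 D117179) F85186
theorem F183331 : act 0 n68549 = n117179 := d21_10 F183327 (iv1 F86187) (iv5 F87849) (iv6 D55549) (iv1 F43094) D34712 (iv5 F87526) (iv1 F87528) D74996 (iv6 F112530)
def n117180 : Q := act 4 n54008
theorem D117180 : act 4 n54008 = n117180 := rfl
theorem F183332 : act 2 n117180 = n54465 := d1_1 D117180 (iv4 D54465) (iv2 F85191)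
theorem F183333 : act 7 n117180 = n54437 := d11_2 (iv7 F85192) D117180 (iv4 D54437)
theorem F183334 : act 0 n117180 = n70592 := d18_2 F85194 D117180 F107740 F107736 (iv4 F106798) F106803 (iv4 D67962) F49941 (iv5 F49951)
theorem F183335 : act 1 n117180 = n70591 := d18_6 (iv1 F51153) F51150 F51003 F50244 D54008 D117180 F107060 (iv0 F105563) (iv5 D32998)
def n117181 : Q := act 3 n54009
theorem D117181 : act 3 n54009 = n117181 := rfl
theorem F183336 : act 4 n117181 = n67251 := d5_2 D54009 D117181 F103163 F50111 (iv3 F41384)
theorem F183337 : act 7 n117181 = n68412 := d8_2 (iv7 F85196) D117181 (iv3 D68412)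
def n117182 : Q := act 6 n54009
theorem D117182 : act 6 n54009 = n117182 := rfl
theorem F183338 : act 2 n117182 = n54014 := d3_1 D117182 (iv6 D54014) (iv2 F85195)
theorem F183339 : act 4 n117182 = n54010 := d10_1 D117182 (iv6 D54010) D54009
def n117183 : Q := act 0 n54010
theorem D117183 : act 0 n54010 = n117183 := rfl
def n117184 : Q := act 1 n54010
theorem D117184 : act 1 n54010 = n117184 := rfl
theorem F183340 : act 1 n117184 = n54018 := d15_1 D117184 (iv7 D54018) (iv2 F85199)
theorem F183341 : act 5 n70037 = n117184 := d21_6 (iv5 D15388) F26580 D7270 (iv6 F24957) D32500 D70037 (iv1 D117184) (iv5 F106445) (iv6 D70052) (iv1 F51589)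
def n117185 : Q := act 7 n54010
theorem D117185 : act 7 n54010 = n117185 := rfl
theorem F183342 : act 2 n117185 = n54018 := d4_1 D117185 (iv7 D54018) (iv2 F85199)
theorem F183343 : act 3 n117185 = n68533 := d8_1 D117185 F104725 (iv3 F85200)
theorem F183344 : act 6 n117185 = n68417 := d14_1 D117185 (iv7 D68417) (iv6 D31839) (iv7 F41385) D54010
theorem F183345 : act 1 n54018 = n117183 := d15_0 (iv0 D117183) D117185 F183342
theorem F183346 : act 1 n54016 = n117185 := d15_1 D54016 (iv7 D117185) F85199
theorem F183347 : act 1 n117185 = n54015 := d15_0 (iv0 D54015) D54018 (iv2 F183342)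
def n117186 : Q := act 3 n54011
theorem D117186 : act 3 n54011 = n117186 := rfl
theorem F183348 : act 7 n117186 = n68435 := d8_2 F85204 D117186 (iv3 D68435)
def n117187 : Q := act 6 n54011
theorem D117187 : act 6 n54011 = n117187 := rfl
theorem F183350 : act 4 n117187 = n67934 := d10_1 D117187 (iv6 D67934) (iv4 F85201)
def n117188 : Q := act 3 n54012
theorem D117188 : act 3 n54012 = n117188 := rfl
theorem F183352 : act 7 n117188 = n68438 := d8_2 (iv7 F85206) D117188 (iv3 D68438)
def n117189 : Q := act 6 n54012
theorem D117189 : act 6 n54012 = n117189 := rfl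
theorem F183353 : act 2 n117189 = n68437 := d3_1 D117189 (iv6 D68437) F85208
theorem F183354 : act 4 n117189 = n67947 := d10_1 D117189 (iv6 D67947) (iv4 F85207)
def n117190 : Q := act 6 n54013
theorem D117190 : act 6 n54013 = n117190 := rfl
def n117191 : Q := act 0 n54014
theorem D117191 : act 0 n54014 = n117191 := rfl
def n117192 : Q := act 1 n54014
theorem D117192 : act 1 n54014 = n117192 := rfl
def n117193 : Q := act 5 n54014
theorem D117193 : act 5 n54014 = n117193 := rfl
def n117194 : Q := act 7 n54014
theorem D117194 : act 7 n54014 = n117194 := rfl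
theorem F183355 : act 4 n117194 = n54018 := d11_1 D117194 (iv7 D54018) (iv4 F85210)
def n117195 : Q := act 2 n54015
theorem D117195 : act 2 n54015 = n117195 := rfl
theorem F183357 : act 7 n54016 = n117195 := d15_2 (iv0 D54015) D54016 (iv2 D117195)
def n117196 : Q := act 3 n54015
theorem D117196 : act 3 n54015 = n117196 := rfl
def n117197 : Q := act 4 n54015
theorem D117197 : act 4 n54015 = n117197 := rfl
def n117198 : Q := act 5 n54015
theorem D117198 : act 5 n54015 = n117198 := rfl
def n117199 : Q := act 6 n54015
theorem D117199 : act 6 n54015 = n117199 := rfl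
def n117200 : Q := act 7 n54015
theorem D117200 : act 7 n54015 = n117200 := rfl
theorem F183358 : act 2 n117200 = n54016 := d4_1 D117200 F183357 (iv2 D117195)
def n117201 : Q := act 3 n54016
theorem D117201 : act 3 n54016 = n117201 := rfl
def n117202 : Q := act 4 n54016
theorem D117202 : act 4 n54016 = n117202 := rfl
def n117203 : Q := act 5 n54016
theorem D117203 : act 5 n54016 = n117203 := rfl
theorem F183359 : act 6 n69920 = n117203 := d21_5 (iv5 D32470) F26500 D15368 (iv6 F51548) D69920 (iv5 D117203) (iv1 D54016) D54017 F85212 F51558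
def n117204 : Q := act 6 n54016
theorem D117204 : act 6 n54016 = n117204 := rfl
def n117205 : Q := act 1 n54017
theorem D117205 : act 1 n54017 = n117205 := rfl
def n117206 : Q := act 7 n54017
theorem D117206 : act 7 n54017 = n117206 := rfl
theorem F183360 : act 3 n117206 = n54029 := d8_1 D117206 (iv7 D54029) (iv3 F85211)
theorem F183361 : act 4 n117206 = n96534 := d11_1 D117206 (iv7 D96534) F85213
theorem F183362 : act 5 n117206 = n54018 := d13_1 D117206 (iv7 D54018) D54017
def n117207 : Q := act 0 n54020
theorem D117207 : act 0 n54020 = n117207 := rfl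
theorem F183363 : act 1 n68591 = n117207 := d15_0 (iv0 D117207) F85220 D68591
def n117208 : Q := act 1 n54020
theorem D117208 : act 1 n54020 = n117208 := rfl
def n117209 : Q := act 2 n54020
theorem D117209 : act 2 n54020 = n117209 := rfl
theorem F183364 : act 3 n117209 = n68574 := d0_2 D54020 D117209 (iv2 D68574) (iv3 D31902) (iv2 F77379)
theorem F183365 : act 7 n117209 = n68591 := d4_2 (iv7 F85220) D117209 (iv2 D68591)
theorem F183366 : act 1 n117209 = n68589 := d15_0 (iv0 D68589) (iv7 F85220) D117209
theorem F183367 : act 1 n117208 = n68591 := d15_1 D117208 (iv7 F183365) (iv2 D117209)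
theorem F183368 : act 1 n68590 = n117209 := d15_1 D68590 F183365 (iv2 D68591)
def n117210 : Q := act 4 n54020
theorem D117210 : act 4 n54020 = n117210 := rfl
theorem F183369 : act 7 n117210 = n68592 := d11_2 (iv7 F85220) D117210 (iv4 D68592)
def n117211 : Q := act 5 n54020
theorem D117211 : act 5 n54020 = n117211 := rfl
theorem F183370 : act 3 n117211 = n54022 := d6_1 D117211 (iv5 D54022) D54020
theorem F183371 : act 7 n117211 = n68593 := d13_2 (iv7 F85220) D117211 (iv5 D68593)
def n117212 : Q := act 6 n54020
theorem D117212 : act 6 n54020 = n117212 := rfl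
theorem F183372 : act 3 n117212 = n54023 := d7_1 D117212 (iv6 D54023) D54020
theorem F183373 : act 5 n116953 = n117212 := d6_0 F183372 F85226 D116953
def n117213 : Q := act 0 n54022
theorem D117213 : act 0 n54022 = n117213 := rfl
theorem F183374 : act 5 n117213 = n105858 := d17_3 D26133 D54022 D117213 F162567 D116793 (iv0 F182346) (iv5 D116436) (iv0 D53665) F41055
def n117214 : Q := act 1 n54022
theorem D117214 : act 1 n54022 = n117214 := rfl
theorem F183380 : act 5 n117142 = n117214 := d21_6 (iv5 F104170) (iv1 F104174) (iv5 D31669) D31670 F104175 F183226 (iv1 D117214) (iv5 D54022) D54023 (iv1 F106887)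
theorem F183381 : act 6 n54366 = n117214 := d21_9 (iv5 D54022) (iv1 F41409) (iv5 F50216) (iv6 F104764) (iv1 F106518) (iv6 F122471) F122470 (iv1 F104183) F98076 (iv1 D117214)
def n117216 : Q := act 6 n54022
theorem D117216 : act 6 n54022 = n117216 := rfl
theorem F183386 : act 5 n117216 = n80548 := d12_1 D117216 F123829 (iv5 F85226) (iv6 D54023) D54022
theorem F183389 : act 0 n70149 = n117216 := d21_1 (iv5 F106528) F183386 F123829 (iv1 D53899) F41204 (iv5 D12354) F12688 (iv5 F20949) D26364 D54515
def n117217 : Q := act 1 n54023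
theorem D117217 : act 1 n54023 = n117217 := rfl
theorem F183390 : act 1 n117217 = n60387 := d15_1 D117217 F94900 (iv2 F85225)
theorem F183391 : act 6 n68516 = n117217 := d21_3 (iv5 F55096) D76268 (iv5 F114311) (iv1 D117217) (iv6 D54023) D54022 D117213 F183374 (iv6 D105858) (iv1 D48937)
theorem F183392 : act 5 n117217 = n68049 := d21_6 F77155 F54974 (iv5 D31876) D31877 D68516 F183391 (iv1 D68049) (iv5 D31664) D31665 (iv1 F106512)
theorem F183393 : act 6 n68049 = n54510 := d21_3 (iv5 F94899) (iv1 F183390) F183392 (iv1 D54510) (iv6 D26362) F20943 (iv1 D12353) D12354 (iv6 F41204) F57681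
def n117218 : Q := act 0 n54024
theorem D117218 : act 0 n54024 = n117218 := rfl
theorem F183394 : act 1 n68574 = n117218 := d15_0 (iv0 D117218) F85227 D68574
def n117219 : Q := act 1 n54024
theorem D117219 : act 1 n54024 = n117219 := rfl
def n117220 : Q := act 2 n54024
theorem D117220 : act 2 n54024 = n117220 := rfl
theorem F183395 : act 3 n117220 = n68591 := d0_2 D54024 D117220 (iv2 D68591) (iv3 D31907) (iv2 F77377)
theorem F183396 : act 7 n117220 = n68574 := d4_2 (iv7 F85227) D117220 (iv2 D68574)
theorem F183397 : act 1 n117220 = n68572 := d15_0 (iv0 D68572) (iv7 F85227) D117220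
theorem F183398 : act 1 n117219 = n68574 := d15_1 D117219 (iv7 F183396) (iv2 D117220)
theorem F183399 : act 1 n68573 = n117220 := d15_1 D68573 F183396 (iv2 D68574)
def n117221 : Q := act 4 n54024
theorem D117221 : act 4 n54024 = n117221 := rfl
theorem F183400 : act 7 n117221 = n68575 := d11_2 (iv7 F85227) D117221 (iv4 D68575)
def n117222 : Q := act 5 n54024
theorem D117222 : act 5 n54024 = n117222 := rfl
theorem F183402 : act 6 n117222 = n54350 := d12_2 F163056 D117222 (iv5 F107563) (iv6 F123941) (iv5 F163055)
def n117223 : Q := act 3 n54027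
theorem D117223 : act 3 n54027 = n117223 := rfl
theorem F183404 : act 7 n117223 = n68603 := d8_2 (iv7 F131083) D117223 (iv3 D68603)
def n117224 : Q := act 3 n54028
theorem D117224 : act 3 n54028 = n117224 := rfl
theorem F183405 : act 5 n117224 = n68372 := d6_2 F85234 D117224 F104548
theorem F183406 : act 7 n117224 = n68598 := d8_2 (iv7 F131080) D117224 (iv3 D68598)
def n117225 : Q := act 6 n54028
theorem D117225 : act 6 n54028 = n117225 := rfl
theorem F183408 : act 5 n117225 = n68382 := d12_1 D117225 (iv6 D68382) (iv5 D31815) D31816 F85234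
theorem F183409 : act 0 n117225 = n79770 := d21_4 (iv5 F104792) (iv1 D68385) F85234 D117225 (iv6 D79770) F57051 (iv1 F51922) (iv5 D32539) F50214 (iv1 F104790)
theorem F183410 : act 0 n70235 = n68382 := d21_1 D70235 (iv5 F183408) (iv6 D117225) (iv1 D54028) F41406 (iv5 D12396) (iv1 F12944) F12943 D15431 D32598
theorem F183411 : act 1 n70235 = n62842 := d15_1 (iv0 F183410) (iv7 F183218) F183216
theorem F183412 : act 1 n117225 = n76795 := d15_1 (iv0 F183409) F115272 (iv2 F122458)
def n117226 : Q := act 6 n54030
theorem D117226 : act 6 n54030 = n117226 := rfl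
theorem F183413 : act 2 n117226 = n68825 := d3_1 D117226 (iv6 D68825) (iv2 F85240)
theorem F183414 : act 3 n117226 = n68548 := d7_1 D117226 (iv6 D68548) (iv3 F85241)
theorem F183415 : act 5 n117226 = n71277 := d12_1 D117226 (iv6 D71277) (iv5 D32985) (iv6 F41419) D54030
def n117227 : Q := act 1 n54031
theorem D117227 : act 1 n54031 = n117227 := rfl
theorem F183416 : act 1 n117227 = n54034 := d15_1 D117227 F85251 (iv2 F85243)
theorem F183417 : act 7 n117227 = n68816 := d15_2 F162491 D117227 (iv2 F162488)
theorem F183418 : act 4 n117227 = n67926 := d18_7 (iv1 F50770) (iv4 F83023) F83025 (iv4 D26138) D26139 D54031 D117227 (iv0 F105035) (iv5 D68842)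
theorem F183419 : act 2 n68815 = n117227 := d1_3 F183418 (iv2 F162429) F162432
theorem F183420 : act 3 n69176 = n117227 := d5_5 F183418 F104003 (iv4 D32174) D32173 D69176
def n117228 : Q := act 3 n54031
theorem D117228 : act 3 n54031 = n117228 := rfl
theorem F183421 : act 4 n117228 = n68349 := d5_2 D54031 D117228 (iv3 D68349) F50108 (iv3 F41422)
theorem F183422 : act 7 n117228 = n68817 := d8_2 (iv7 F85244) D117228 (iv3 D68817)
def n117229 : Q := act 5 n54031
theorem D117229 : act 5 n54031 = n117229 := rfl
theorem F183423 : act 2 n117229 = n68827 := d2_1 D117229 (iv5 D68827) (iv2 F85243)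
theorem F183424 : act 7 n117229 = n68818 := d13_2 (iv7 F85244) D117229 (iv5 D68818)
def n117230 : Q := act 6 n54031
theorem D117230 : act 6 n54031 = n117230 := rfl
theorem F183425 : act 2 n117230 = n68828 := d3_1 D117230 (iv6 D68828) (iv2 F85243)
theorem F183426 : act 4 n117230 = n54032 := d10_1 D117230 (iv6 D54032) D54031
def n117231 : Q := act 0 n54032
theorem D117231 : act 0 n54032 = n117231 := rfl
def n117232 : Q := act 1 n54032
theorem D117232 : act 1 n54032 = n117232 := rfl
def n117233 : Q := act 7 n54032
theorem D117233 : act 7 n54032 = n117233 := rfl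
theorem F183428 : act 2 n117233 = n68831 := d4_1 D117233 (iv7 D68831) (iv2 F85245)
theorem F183430 : act 5 n117233 = n71295 := d13_1 D117233 (iv7 D71295) (iv5 F85247)
theorem F183431 : act 6 n117233 = n54278 := d14_1 D117233 F130935 (iv6 D32011) (iv7 F41423) D54032
theorem F183432 : act 1 n68831 = n117231 := d15_0 (iv0 D117231) D117233 F183428
theorem F183433 : act 1 n68830 = n117233 := d15_1 D68830 (iv7 D117233) F85245
theorem F183434 : act 1 n117233 = n68829 := d15_0 (iv0 D68829) D68831 (iv2 F183428)
def n117234 : Q := act 6 n54033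
theorem D117234 : act 6 n54033 = n117234 := rfl
theorem F183435 : act 2 n117234 = n68814 := d3_1 D117234 (iv6 D68814) (iv2 F85248)
theorem F183436 : act 5 n117234 = n54550 := d12_1 D117234 (iv6 D54550) (iv5 D26380) (iv6 F41427) D54033
def n117235 : Q := act 3 n54034
theorem D117235 : act 3 n54034 = n117235 := rfl
theorem F183437 : act 7 n117235 = n68826 := d8_2 (iv7 F85251) D117235 (iv3 D68826)
def n117236 : Q := act 5 n54034
theorem D117236 : act 5 n54034 = n117236 := rfl
theorem F183438 : act 2 n117236 = n68818 := d2_1 D117236 (iv5 D68818) (iv2 F85250)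
theorem F183439 : act 7 n117236 = n68827 := d13_2 (iv7 F85251) D117236 (iv5 D68827)
def n117237 : Q := act 6 n54034
theorem D117237 : act 6 n54034 = n117237 := rfl
theorem F183440 : act 2 n117237 = n68819 := d3_1 D117237 (iv6 D68819) (iv2 F85250)
theorem F183441 : act 4 n117237 = n54035 := d10_1 D117237 (iv6 D54035) D54034
theorem F183442 : act 7 n69599 = n117237 := d11_0 F183441 F130868 D69599
def n117238 : Q := act 3 n54036
theorem D117238 : act 3 n54036 = n117238 := rfl
theorem F183443 : act 4 n117238 = n68643 := d5_2 D54036 D117238 (iv3 D68643) (iv4 D31940) (iv3 F41434)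
theorem F183444 : act 7 n117238 = n68833 := d8_2 (iv7 F85255) D117238 (iv3 D68833)
def n117239 : Q := act 5 n54036
theorem D117239 : act 5 n54036 = n117239 := rfl
theorem F183445 : act 2 n117239 = n54042 := d2_1 D117239 (iv5 D54042) (iv2 F85254)
theorem F183446 : act 4 n117239 = n68855 := d9_1 D117239 (iv5 D68855) (iv4 D32026) (iv5 D15110) (iv4 D7182) D7183 D15114 D32037 D68882 (iv5 F176906) (iv4 D113695) (iv5 D52496) F40273 D26142 D54036
theorem F183447 : act 7 n117239 = n68834 := d13_2 (iv7 F85255) D117239 (iv5 D68834)
theorem F183448 : act 0 n117239 = n68881 := d17_2 (iv1 F85257) D117239 F105069 (iv4 F51180) F50444 (iv0 F50769) D59853 F104012 F104010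
theorem F183449 : act 1 n117239 = n68880 := d17_6 (iv1 F26973) (iv5 D15098) (iv1 F20654) D26142 D54036 D117239 F105068 (iv0 D32242) (iv4 D15211)
def n117240 : Q := act 6 n54036
theorem D117240 : act 6 n54036 = n117240 := rfl
theorem F183450 : act 2 n117240 = n54043 := d3_1 D117240 (iv6 D54043) (iv2 F85254)
theorem F183451 : act 4 n117240 = n54037 := d10_1 D117240 (iv6 D54037) D54036
def n117241 : Q := act 0 n54037
theorem D117241 : act 0 n54037 = n117241 := rfl
def n117242 : Q := act 1 n54037
theorem D117242 : act 1 n54037 = n117242 := rfl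
theorem F183452 : act 1 n117242 = n54047 := d15_1 D117242 (iv7 D54047) (iv2 F85258)
theorem F183453 : act 5 n69351 = n117242 := d21_0 (iv1 D117242) F85260 (iv6 D26190) F28388 (iv6 F56689) (iv5 D35974) F130872 D34692 (iv6 F105892) F183296
theorem E18154 : n69347 = n54140 := ((c21_4 (iv5 D17416) (iv1 F26735) F41591 D54140 (iv1 D69347) D69351 F183453 (iv1 D117242) F85260 (iv6 D26190) F28388)).symm
theorem F183454 : act 0 n54140 = n32227 := (sb E18154 (iv1 D69347))
theorem F183455 : act 3 n117242 = n54060 := d6_1 F183453 (iv5 F85285) (iv3 F105617)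
def n117243 : Q := act 7 n54037
theorem D117243 : act 7 n54037 = n117243 := rfl
theorem F183456 : act 2 n117243 = n54047 := d4_1 D117243 (iv7 D54047) (iv2 F85258)
theorem F183457 : act 3 n117243 = n68648 := d8_1 D117243 (iv7 D68648) (iv3 F85259)
theorem F183458 : act 5 n117243 = n54126 := d13_1 D117243 (iv7 D54126) (iv5 F85260)
theorem F183459 : act 6 n117243 = n68839 := d14_1 D117243 (iv7 D68839) (iv6 D32018) (iv7 F41435) D54037
theorem F183460 : act 1 n54047 = n117241 := d15_0 (iv0 D117241) D117243 F183456
theorem F183461 : act 1 n54045 = n117243 := d15_1 D54045 (iv7 D117243) F85258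
theorem F183462 : act 1 n117243 = n54044 := d15_0 (iv0 D54044) D54047 (iv2 F183456)
def n117244 : Q := act 3 n54038
theorem D117244 : act 3 n54038 = n117244 := rfl
theorem F183463 : act 7 n117244 = n68869 := d8_2 (iv7 F85262) D117244 (iv3 D68869)
def n117245 : Q := act 5 n54038
theorem D117245 : act 5 n54038 = n117245 := rfl
theorem F183464 : act 2 n117245 = n68864 := d2_1 D117245 (iv5 D68864) (iv2 F85261)
theorem F183465 : act 7 n117245 = n68870 := d13_2 (iv7 F85262) D117245 (iv5 D68870)
def n117246 : Q := act 6 n54038
theorem D117246 : act 6 n54038 = n117246 := rfl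
theorem F183466 : act 2 n117246 = n68865 := d3_1 D117246 (iv6 D68865) (iv2 F85261)
theorem F183467 : act 4 n117246 = n54039 := d10_1 D117246 (iv6 D54039) D54038
def n117247 : Q := act 1 n54039
theorem D117247 : act 1 n54039 = n117247 := rfl
theorem F183468 : act 1 n117247 = n68868 := d15_1 D117247 (iv7 D68868) (iv2 F85263)
theorem F183469 : act 7 n117247 = n68866 := d15_2 (iv0 F131205) D117247 F130733
theorem F183470 : act 2 n68746 = n117247 := d4_3 F183469 F130733 (iv7 F104942)
def n117248 : Q := act 5 n54039
theorem D117248 : act 5 n54039 = n117248 := rfl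
theorem F183471 : act 2 n117248 = n54593 := d2_1 D117248 F86277 (iv2 F85263)
theorem F183472 : act 3 n117248 = n72355 := d6_1 D117248 F108806 F105184
theorem F183473 : act 6 n117248 = n54564 := d12_2 D54039 D117248 F86242 F42814 F41446
def n117249 : Q := act 7 n54039
theorem D117249 : act 7 n54039 = n117249 := rfl
theorem F183474 : act 2 n117249 = n68868 := d4_1 D117249 (iv7 D68868) (iv2 F85263)
theorem F183475 : act 6 n117249 = n68873 := d14_1 D117249 (iv7 D68873) (iv6 D32034) (iv7 F41444) D54039
theorem F183476 : act 1 n68746 = n117249 := d15_1 (iv0 F130732) (iv7 D117249) F85263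
theorem F183477 : act 1 n117249 = n68866 := d15_1 F183476 (iv7 F183469) (iv2 F183470)
def n117250 : Q := act 3 n54040
theorem D117250 : act 3 n54040 = n117250 := rfl
theorem F183478 : act 7 n117250 = n68874 := d8_2 F85270 D117250 (iv3 D68874)
def n117251 : Q := act 6 n54040
theorem D117251 : act 6 n54040 = n117251 := rfl
theorem F183479 : act 2 n117251 = n68879 := d3_1 D117251 (iv6 D68879) F85268
def n117252 : Q := act 3 n54041
theorem D117252 : act 3 n54041 = n117252 := rfl
theorem F183480 : act 4 n117252 = n67937 := d5_2 F85266 D117252 (iv3 D67937) (iv4 D31603) (iv3 F49913)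
theorem F183481 : act 7 n117252 = n68877 := d8_2 (iv7 F85267) D117252 (iv3 D68877)
def n117253 : Q := act 6 n54041
theorem D117253 : act 6 n54041 = n117253 := rfl
theorem F183482 : act 2 n117253 = n68876 := d3_1 D117253 (iv6 D68876) (iv2 F85269)
theorem F183483 : act 4 n117253 = n67932 := d10_1 D117253 (iv6 D67932) F85266
def n117254 : Q := act 0 n54042
theorem D117254 : act 0 n54042 = n117254 := rfl
theorem F183484 : act 5 n117254 = n54212 := d17_3 (iv1 D54041) D54042 D117254 (iv4 F104077) F104078 (iv0 F77026) (iv5 F103989) F104023 F85266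
theorem F183485 : act 1 n68834 = n117254 := d15_0 (iv0 D117254) F85271 (iv2 F105018)
theorem F183486 : act 2 n68881 = n117254 := d2_3 F183484 (iv2 F85548) (iv5 F105069)
theorem F183487 : act 7 n68880 = n117254 := d13_0 F183484 (iv7 F85550) (iv5 F105068)
def n117255 : Q := act 1 n54042
theorem D117255 : act 1 n54042 = n117255 := rfl
theorem F183488 : act 1 n117255 = n68834 := d15_1 D117255 (iv7 F183447) F183445
theorem F183489 : act 7 n117255 = n68881 := d15_2 (iv0 D117254) D117255 F183486
theorem F183490 : act 5 n117255 = n54213 := d17_7 F41431 (iv5 D26141) (iv1 D12400) D12402 D26144 D54042 D117255 F85545 (iv4 D32240)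
theorem F183491 : act 2 n68880 = n117255 := d2_3 F183490 F85549 (iv5 F105068)
def n117256 : Q := act 4 n54042
theorem D117256 : act 4 n54042 = n117256 := rfl
theorem F183492 : act 2 n117256 = n68855 := d1_1 D117256 (iv4 F183446) F183445
theorem F183493 : act 5 n117256 = n68832 := d9_2 D54042 D117256 (iv4 D68832) (iv5 D32016) (iv4 D15105) D15106 D32017 D68834 (iv4 F176924) (iv5 D113702) (iv4 D52499) (iv5 D25480) F20032 D12402 D26144
theorem F183494 : act 7 n117256 = n68882 := d11_2 (iv7 F85271) D117256 (iv4 D68882)
def n117257 : Q := act 6 n54042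
theorem D117257 : act 6 n54042 = n117257 := rfl
def n117258 : Q := act 0 n54043
theorem D117258 : act 0 n54043 = n117258 := rfl
def n117259 : Q := act 1 n54043
theorem D117259 : act 1 n54043 = n117259 := rfl
def n117260 : Q := act 5 n54043
theorem D117260 : act 5 n54043 = n117260 := rfl
def n117261 : Q := act 7 n54043
theorem D117261 : act 7 n54043 = n117261 := rfl
theorem F183495 : act 4 n117261 = n54047 := d11_1 D117261 (iv7 D54047) (iv4 F85272)
theorem F183496 : act 6 n117261 = n68887 := d14_1 D117261 (iv7 D68887) (iv6 D32038) (iv7 F41447) D54043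
def n117262 : Q := act 2 n54044
theorem D117262 : act 2 n54044 = n117262 := rfl
theorem F183497 : act 7 n54045 = n117262 := d15_2 (iv0 D54044) D54045 (iv2 D117262)
def n117263 : Q := act 4 n54044
theorem D117263 : act 4 n54044 = n117263 := rfl
def n117264 : Q := act 5 n54044
theorem D117264 : act 5 n54044 = n117264 := rfl
theorem F183498 : act 3 n117264 = n54300 := d6_1 D117264 F85688 (iv3 F183264)
def n117265 : Q := act 6 n54044
theorem D117265 : act 6 n54044 = n117265 := rfl
theorem F183499 : act 3 n117265 = n68790 := d7_1 D117265 (iv6 D68790) (iv3 F183264)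
def n117266 : Q := act 7 n54044
theorem D117266 : act 7 n54044 = n117266 := rfl
theorem F183500 : act 2 n117266 = n54045 := d4_1 D117266 F183497 (iv2 D117262)
theorem F183501 : act 3 n117266 = n68791 := d8_1 D117266 (iv7 D68791) (iv3 F183264)
def n117267 : Q := act 3 n54045
theorem D117267 : act 3 n54045 = n117267 := rfl
theorem F183502 : act 2 n117267 = n68792 := d0_1 D117267 (iv3 D68792) (iv2 F104990) (iv3 F183501) F183500
def n117268 : Q := act 4 n54045
theorem D117268 : act 4 n54045 = n117268 := rfl
def n117269 : Q := act 5 n54045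
theorem D117269 : act 5 n54045 = n117269 := rfl
theorem F183503 : act 6 n54159 = n117269 := d21_5 F24705 D26049 F41539 D26205 D54159 (iv5 D117269) (iv1 D54045) D54046 F85275 F41452
def n117270 : Q := act 6 n54045
theorem D117270 : act 6 n54045 = n117270 := rfl
def n117271 : Q := act 1 n54046
theorem D117271 : act 1 n54046 = n117271 := rfl
theorem F183504 : act 1 n117271 = n54126 := d15_1 D117271 (iv7 D54126) (iv2 F85273)
theorem F183505 : act 7 n117271 = n68755 := d15_2 (iv0 F180398) D117271 (iv2 D68755)
theorem F183506 : act 5 n69614 = n117271 := d21_0 (iv1 D117271) (iv5 D54046) (iv6 D26145) F26928 (iv6 F27559) (iv5 D16794) D16792 D34677 D75852 (iv1 F130922)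
theorem F183507 : act 2 n54055 = n117271 := d4_3 F183505 (iv2 D68755) (iv7 F105976)
theorem F183508 : act 3 n117271 = n68774 := d0_2 D54055 F183507 (iv2 D68774) (iv3 D31993) F105975
theorem E18155 : n68753 = n54126 := ((c15_1 F183504 (iv0 D68753) (iv7 F105976) F183507)).symm
theorem F183509 : act 1 n54126 = n31988 := (sb E18155 (iv0 D68753))
theorem F183510 : act 5 n68897 = n69611 := d21_6 (iv5 D68757) (iv1 F183509) (iv5 F183458) F183459 (iv1 F105026) D68897 (iv1 D69611) (iv5 D32317) D32318 (iv1 F181022)
def n117272 : Q := act 4 n54046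
theorem D117272 : act 4 n54046 = n117272 := rfl
theorem F183511 : act 2 n117272 = n54122 := d1_1 D117272 F85436 (iv2 F85273)
theorem F183512 : act 6 n117272 = n54048 := d10_2 (iv6 F85275) D117272 (iv4 D54048)
def n117273 : Q := act 7 n54046
theorem D117273 : act 7 n54046 = n117273 := rfl
theorem F183513 : act 2 n117273 = n54126 := d4_1 D117273 (iv7 D54126) (iv2 F85273)
theorem F183514 : act 3 n117273 = n54062 := d8_1 D117273 (iv7 D54062) (iv3 F85274)
theorem F183515 : act 5 n117273 = n54047 := d13_1 D117273 (iv7 D54047) D54046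
theorem F183516 : act 6 n117273 = n54136 := d14_1 D117273 (iv7 D54136) (iv6 D26196) (iv7 F41451) (iv6 F85275)
theorem F183517 : act 1 n54125 = n117273 := d15_1 D54125 (iv7 D117273) F85273
theorem F183518 : act 1 n117273 = n54124 := d15_0 (iv0 D54124) D54126 (iv2 F183513)
def n117274 : Q := act 0 n54048
theorem D117274 : act 0 n54048 = n117274 := rfl
theorem F183519 : act 4 n117274 = n67944 := d18_3 F49867 D54048 D117274 (iv5 D67944) (iv4 F50618) F56607 (iv4 D34406) F27312 D31523
theorem F183520 : act 2 n54118 = n117274 := d15_3 (iv0 D117274) (iv0 F104620) F104619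
theorem F183521 : act 1 n54123 = n117274 := d15_0 (iv0 D117274) F85279 (iv2 F85437)
theorem F183522 : act 7 n117274 = n54119 := d15_2 F104621 F183521 (iv2 F104618)
def n117275 : Q := act 3 n54048
theorem D117275 : act 3 n54048 = n117275 := rfl
theorem F183523 : act 4 n117275 = n54063 := d5_2 D54048 D117275 (iv3 D54063) (iv4 D26151) (iv3 F41450)
theorem F183524 : act 7 n117275 = n54130 := d8_2 (iv7 F85279) D117275 (iv3 D54130)
def n117276 : Q := act 5 n54048
theorem D117276 : act 5 n54048 = n117276 := rfl
theorem F183525 : act 2 n117276 = n54121 := d2_1 D117276 (iv5 D54121) (iv2 F85278)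
theorem F183526 : act 7 n117276 = n54131 := d13_2 (iv7 F85279) D117276 (iv5 D54131)
def n117277 : Q := act 0 n54050
theorem D117277 : act 0 n54050 = n117277 := rfl
theorem F183527 : act 1 n68774 = n117277 := d15_0 (iv0 D117277) F105984 D68774
def n117278 : Q := act 1 n54050
theorem D117278 : act 1 n54050 = n117278 := rfl
def n117279 : Q := act 2 n54050
theorem D117279 : act 2 n54050 = n117279 := rfl
theorem F183528 : act 3 n117279 = n68755 := d0_2 D54050 D117279 (iv2 D68755) (iv3 D31988) (iv2 F105982)
theorem F183529 : act 7 n117279 = n68774 := d4_2 (iv7 F105984) D117279 (iv2 D68774)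
theorem F183530 : act 1 n117279 = n68772 := d15_0 (iv0 D68772) (iv7 F105984) D117279
theorem F183531 : act 1 n117278 = n68774 := d15_1 D117278 (iv7 F183529) (iv2 D117279)
theorem F183532 : act 1 n68773 = n117279 := d15_1 D68773 F183529 (iv2 D68774)
def n117280 : Q := act 4 n54050
theorem D117280 : act 4 n54050 = n117280 := rfl
theorem F183533 : act 7 n117280 = n68775 := d11_2 (iv7 F105984) D117280 (iv4 D68775)
def n117281 : Q := act 5 n54050
theorem D117281 : act 5 n54050 = n117281 := rfl
theorem F183534 : act 3 n117281 = n54052 := d6_1 D117281 (iv5 D54052) D54050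
theorem F183535 : act 7 n117281 = n68776 := d13_2 (iv7 F105984) D117281 (iv5 D68776)
def n117282 : Q := act 6 n54050
theorem D117282 : act 6 n54050 = n117282 := rfl
theorem F183536 : act 3 n117282 = n54053 := d7_1 D117282 (iv6 D54053) D54050
theorem F183537 : act 5 n74847 = n117282 := d6_0 F183536 F85281 D74847
theorem F183538 : act 7 n73872 = n117282 := d8_0 F183536 F105990 D73872
def n117283 : Q := act 4 n54052
theorem D117283 : act 4 n54052 = n117283 := rfl
def n117284 : Q := act 6 n54052
theorem D117284 : act 6 n54052 = n117284 := rfl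
theorem F183541 : act 2 n117284 = n68768 := d3_1 D117284 (iv6 D68768) (iv2 F105987)
theorem F183542 : act 5 n117284 = n74849 := d12_1 D117284 (iv6 D74849) (iv5 F85281) (iv6 D54053) D54052
def n117285 : Q := act 0 n54055
theorem D117285 : act 0 n54055 = n117285 := rfl
theorem F183543 : act 1 n68755 = n117285 := d15_0 (iv0 D117285) F105976 D68755
def n117286 : Q := act 1 n54055
theorem D117286 : act 1 n54055 = n117286 := rfl
def n117287 : Q := act 4 n54055
theorem D117287 : act 4 n54055 = n117287 := rfl
theorem F183545 : act 7 n117287 = n68756 := d11_2 (iv7 F105976) D117287 (iv4 D68756)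
def n117288 : Q := act 5 n54055
theorem D117288 : act 5 n54055 = n117288 := rfl
theorem F183546 : act 2 n117288 = n69614 := d2_1 D117288 F183506 (iv2 F183507)
theorem F183547 : act 3 n117288 = n54057 := d6_1 D117288 (iv5 D54057) D54055
theorem F183548 : act 7 n117288 = n68757 := d13_2 (iv7 F105976) D117288 (iv5 D68757)
def n117289 : Q := act 6 n54055
theorem D117289 : act 6 n54055 = n117289 := rfl
theorem F183549 : act 3 n117289 = n54058 := d7_1 D117289 (iv6 D54058) D54055
def n117290 : Q := act 4 n54057
theorem D117290 : act 4 n54057 = n117290 := rfl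
def n117291 : Q := act 0 n54058
theorem D117291 : act 0 n54058 = n117291 := rfl
theorem F183552 : act 5 n117291 = n54314 := d17_1 D117291 (iv1 F85702) F44939 (iv4 F41115) (iv5 F53868) F53871 D65363 (iv0 F183318) F181839
theorem F183553 : act 4 n117291 = n107845 := d18_3 (iv1 F182228) F181839 D117291 (iv5 D107845) F166589 (iv0 D34358) F27135 D30656 D65368
theorem F183554 : act 0 n72227 = n74082 := d21_4 F105964 D117291 F183552 (iv6 F108664) (iv6 D74082) D74081 F112643 (iv5 F106003) (iv6 D69651) D69648
theorem F183555 : act 6 n117291 = n68923 := d21_5 D54302 F85693 (iv5 D54057) D54058 D117291 F108665 F108666 (iv5 D54223) D54224 F85954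
theorem F183556 : act 0 n117291 = n68786 := d21_1 (iv5 F183552) (iv5 F105969) (iv6 F105968) (iv1 D33980) (iv6 D16429) (iv5 D7617) (iv1 F9180) D12446 (iv6 F41687) D54314
theorem F183557 : act 0 n54228 = n72228 := d21_1 D54228 (iv5 F108665) (iv6 F183555) F183556 F104985 (iv5 F53279) (iv1 F54420) F54417 F41640 (iv1 F41621)
theorem E18156 : n69363 = n54228 := (c21_7 (iv5 F105969) (iv1 D69649) (iv5 D32329) D32330 (iv1 F105640) (iv6 D69365) (iv5 F105627) F183557 (iv5 F108665) (iv6 F183555) F183556)
theorem F183558 : act 2 n54228 = n32234 := (sb E18156 F105626)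
theorem E18157 : n32231 = n26223 := ((((iv5 D54228)).symm.trans (sb E18156 F105627))).symm
theorem E18158 : n72286 = n54761 := ((((iv6 F86617)).symm.trans (sb E18156 (iv6 F108736)))).symm
theorem F183559 : act 7 n54228 = n32229 := (sb E18156 (iv7 D69363))
theorem E18159 : n69341 = n12437 := ((((iv1 D26223)).symm.trans (sb E18157 (iv1 F105608)))).symm
theorem E18161 : n54225 = n15205 := (((iv2 F85559)).symm.trans (sb E18157 F51173))
theorem E18162 : n69352 = n54226 := (((D54226).symm.trans (sb E18157 (iv3 F105618)))).symm
theorem E18163 : n67296 = n53798 := ((((iv4 F182194)).symm.trans (sb E18157 (iv4 F110640)))).symm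
theorem E18164 : n69365 = n54229 := (((D54229).symm.trans (sb E18157 D69365))).symm
theorem E18165 : n54220 = n15204 := ((F85557).symm.trans (sb E18157 (iv7 D32231)))
theorem F183560 : act 2 n54761 = n33357 := (sb E18158 (iv2 D72286))
theorem F183561 : act 7 n54761 = n33358 := (sb E18158 (iv7 F108737))
theorem E18166 : n32226 = n26222 := (((D26222).symm.trans (sb E18159 (iv1 D69341)))).symm
theorem F183562 : act 2 n15205 = n26223 := (sb E18161 F85559)
theorem E18167 : n116756 = n31296 := (((F110641).symm.trans (sb E18161 (iv4 F182197)))).symm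
theorem F183563 : act 7 n54226 = n32227 := (sb E18162 (iv7 D69352))
theorem E18168 : n116780 = n116759 := (((D116759).symm.trans (sb E18163 (iv6 F182306)))).symm
theorem F183564 : act 0 n54229 = n61409 := (sb E18164 (iv1 F105941))
theorem F183565 : act 1 n54229 = n32330 := (sb E18164 F105640)
theorem F183566 : act 2 n54229 = n32235 := (sb E18164 F105631)
theorem F183567 : act 7 n15204 = n26223 := (sb E18165 (iv7 F85557))
theorem F183568 : act 2 n26222 = n15204 := (sb E18166 (iv2 D32226))
theorem E18170 : n69342 = n54221 := (((D54221).symm.trans (sb E18166 D69342))).symm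
theorem E18171 : n67291 = n53797 := ((((iv4 F182192)).symm.trans (sb E18166 (iv4 F110637)))).symm
theorem E18172 : n69344 = n54223 := (((D54223).symm.trans (sb E18166 D69344))).symm
theorem E18173 : n69345 = n54224 := (((D54224).symm.trans (sb E18166 D69345))).symm
theorem F183569 : act 7 n26222 = n15205 := (sb E18166 (iv7 F51172))
theorem F183570 : act 2 n31296 = n53798 := (sb E18167 F182196)
theorem F183571 : act 0 n116759 = n67332 := (sb E18168 (iv1 F182307))
theorem F183572 : act 1 n116759 = n53805 := (sb E18168 (iv0 D116780))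
theorem F183573 : act 2 n116759 = n67300 := (sb E18168 (iv2 F182304))
theorem F183574 : act 7 n116759 = n67330 := (sb E18168 (iv7 F182317))
theorem F183576 : act 7 n54221 = n32232 := (sb E18170 F105609)
theorem F183577 : act 2 n53797 = n31295 := (sb E18171 (iv2 D67291))
theorem F183578 : act 7 n53797 = n31296 := (sb E18171 (iv7 F103186))
theorem F183579 : act 2 n54223 = n32229 := (sb E18172 F105612)
theorem F183580 : act 7 n54223 = n32234 := (sb E18172 F105613)
theorem F183581 : act 2 n54224 = n32230 := (sb E18173 F105614)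
theorem F183582 : act 7 n54224 = n32322 := (sb E18173 (iv7 F105615))
theorem F183583 : act 7 n69538 = n116755 := d11_2 F183582 (iv4 F181858) (iv4 F182191)
theorem E18174 : n68787 = n54059 := ((c13_2 F183582 F85292 (iv7 F104988) (iv5 F85558))).symm
theorem F183584 : act 2 n54059 = n31997 := (sb E18174 (iv2 D68787))
theorem F183585 : act 7 n54059 = n31998 := (sb E18174 (iv7 F104988))
theorem E18175 : n69364 = n54300 := (c15_4 (iv0 D54300) (iv0 F85954) F183582 (iv2 F105630))
theorem F183586 : act 2 n54300 = n32322 := (sb E18175 F105630)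
theorem F183587 : act 7 n54300 = n32230 := (sb E18175 (iv7 D69364))
theorem F183588 : act 7 n69351 = n117264 := d8_2 F183587 (iv3 F105617) F183498
theorem E18176 : n68791 = n54060 := ((c13_2 F183587 F85285 (iv7 D68791) (iv5 F85688))).symm
theorem F183589 : act 2 n54060 = n31998 := (sb E18176 F104990)
theorem E18177 : n117266 = n117242 := ((((iv3 F183455)).symm.trans (sb E18176 (iv3 F183501)))).symm
theorem F183590 : act 7 n54060 = n31997 := (sb E18176 (iv7 D68791))
theorem F183591 : act 2 n117242 = n54045 := (sb E18177 F183500)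
theorem F183592 : act 7 n117242 = n54044 := (sb E18177 (iv7 D117266))
theorem E18178 : n117262 = n117241 := (c15_4 (iv0 D117241) D117242 F183592 D117262)
theorem F183593 : act 2 n117241 = n54044 := (sb E18178 (iv2 D117262))
theorem F183594 : act 7 n117241 = n54045 := (sb E18178 (iv7 F183497))
theorem F183595 : act 2 n117269 = n69351 := d2_3 F183453 F183591 D117269
theorem E18179 : n69348 = n54159 := (c3_4 F183503 F183595 (iv6 D69351) D69348)
theorem F183596 : act 2 n54159 = n32227 := (sb E18179 (iv2 D69348))
theorem E18180 : n54226 = n54160 := ((c15_2 (iv0 D54159) D54160 F183563 (iv2 F183596))).symm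
theorem F183597 : act 3 n54160 = n26223 := (sb E18180 (iv3 D54226))
theorem F183598 : act 7 n54160 = n32227 := (sb E18180 F183563)
theorem F183599 : act 7 n68528 = n117153 := d11_2 F183590 (iv4 F183266) F183256
theorem F183600 : act 2 n117153 = n68529 := d15_3 F183261 (iv0 F183265) F183599
theorem F183601 : act 2 n68528 = n117152 := d15_3 (iv0 D117152) D117153 (iv7 F183599)
theorem F183602 : act 7 n117152 = n68529 := d4_2 (iv7 F183599) F183601 (iv2 F183600)
theorem F183603 : act 7 n66986 = n116529 := d13_2 F183583 F182189 (iv5 F181859)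
theorem F183605 : act 2 n66986 = n116530 := d15_3 F181831 F181856 (iv7 F183603)
theorem F183606 : act 2 n67295 = n116755 := d2_3 F182189 F183605 (iv5 F181832)
theorem F183609 : act 7 n67299 = n116754 := d13_2 F183578 D67299 (iv5 D116754)
theorem F183610 : act 2 n67294 = n116754 := d2_3 (iv5 D116754) F183577 D67294
theorem E18181 : n72290 = n54762 := (c15_4 F86619 F86618 F183561 (iv2 F108742))
theorem F183614 : act 2 n54762 = n33358 := (sb E18181 F108742)
theorem F183615 : act 7 n54762 = n33357 := (sb E18181 (iv7 D72290))
def n117292 : Q := act 7 n54058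
theorem D117292 : act 7 n54058 = n117292 := rfl
theorem F183616 : act 2 n117292 = n68786 := d4_1 D117292 (iv7 D68786) (iv2 F105974)
theorem F183618 : act 1 n68733 = n117292 := d15_1 (iv0 F104974) (iv7 D117292) F105974
theorem F183619 : act 1 n117292 = n68783 := d15_0 (iv0 D68783) D68786 (iv2 F183616)
def n117293 : Q := act 3 n54059
theorem D117293 : act 3 n54059 = n117293 := rfl
theorem F183620 : act 5 n117293 = n69627 := d6_2 F85292 D117293 (iv3 D69627)
theorem F183621 : act 7 n117293 = n68792 := d8_2 (iv7 F183585) D117293 (iv3 D68792)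
def n117294 : Q := act 6 n54059
theorem D117294 : act 6 n54059 = n117294 := rfl
theorem F183622 : act 2 n117294 = n68790 := d3_1 D117294 (iv6 D68790) (iv2 F183584)
theorem F183623 : act 5 n117294 = n61394 := d21_6 (iv5 D26119) F20619 D12405 (iv6 F41456) D54059 D117294 (iv1 D61394) (iv5 F51413) (iv6 D32373) (iv1 F41327)
theorem F183624 : act 2 n61394 = n61538 := d2_1 F183623 (iv5 F104989) (iv2 F183622)
theorem F183625 : act 7 n61537 = n61394 := d15_2 F96063 F96066 F183624
theorem F183626 : act 7 n61393 = n61538 := d15_2 F96067 F96068 (iv2 F183624)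
theorem F183627 : act 2 n61537 = n61393 := d4_3 F183626 (iv2 F183624) (iv7 F183625)
def n117295 : Q := act 6 n54060
theorem D117295 : act 6 n54060 = n117295 := rfl
theorem F183629 : act 5 n117295 = n69362 := d12_1 D117295 (iv6 D69362) (iv5 D32229) D32230 F85285
theorem F183630 : act 0 n117295 = n71306 := d21_4 (iv5 F104962) (iv1 F85957) F85285 D117295 (iv6 F130607) F130606 (iv1 F92269) (iv5 F104970) (iv6 D68782) (iv1 F104960)
theorem F183631 : act 0 n55549 = n117295 := d21_4 (iv5 D33811) (iv1 F44900) F44897 D55549 (iv6 D117295) (iv5 F85285) F85956 D32324 F51345 (iv1 F53143)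
def n117297 : Q := act 5 n54061
theorem D117297 : act 5 n54061 = n117297 := rfl
def n117298 : Q := act 7 n54061
theorem D117298 : act 7 n54061 = n117298 := rfl
theorem F183635 : act 2 n117298 = n68798 := d4_1 D117298 (iv7 D68798) (iv2 F85286)
theorem F183636 : act 4 n117298 = n54062 := d11_1 D117298 (iv7 D54062) D54061
theorem F183637 : act 1 n68795 = n117298 := d15_1 D68795 (iv7 D117298) F85286
theorem F183638 : act 1 n117298 = n68794 := d15_1 F183637 F182755 (iv2 F182752)
theorem E18182 : n54125 = n54055 := (c20_5 (iv4 F182754) (iv1 F183638) F183636 (iv3 F183514) (iv1 F183517) (iv3 D54055) F181838 (iv1 D53699) F41076 (iv3 F41311) D53993)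
theorem E18183 : n117285 = n26190 := ((D117285).symm.trans (sb E18182 (iv1 D54125)))
theorem E18184 : n117286 = n117273 := ((D117286).symm.trans (sb E18182 F183517))
theorem E18185 : n68755 = n54124 := (((D54124).symm.trans (sb E18183 (iv1 F183543)))).symm
theorem F183639 : act 1 n26190 = n54055 := (sb E18183 (iv0 D117285))
theorem F183640 : act 0 n117273 = n54055 := (sb E18184 (iv1 D117286))
theorem F183641 : act 2 n54124 = n31988 := (sb E18185 (iv2 D68755))
theorem F183642 : act 3 n54124 = n117279 := (sb E18185 (iv3 F183528))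
theorem F183643 : act 7 n54124 = n117271 := (sb E18185 (iv7 F183505))
theorem F183644 : act 0 n69616 = n117288 := d21_10 (iv5 D117288) (iv1 F183639) (iv5 F85260) (iv6 D54037) (iv1 F41436) D32034 F50664 D34671 D75824 (iv6 F130904)
theorem F183645 : act 6 n54216 = n117288 := d21_5 F41437 (iv1 F26918) (iv5 F20702) D26221 D54216 (iv5 D117288) (iv1 F183639) (iv5 F85260) (iv6 D54037) (iv1 F41436)
theorem F183646 : act 3 n75128 = n54216 := d7_3 F183645 F183547 (iv6 F112634)
theorem E18186 : n85324 = n85103 := ((c6_3 (iv5 F112635) F183646 F130443 (iv3 D85324))).symm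
theorem F183647 : act 3 n85103 = n39424 := (sb E18186 (iv3 D85324))
theorem F183648 : act 1 n69604 = n117288 := d15_0 (iv0 F183644) (iv7 D69616) (iv2 F105887)
def n117299 : Q := act 0 n54063
theorem D117299 : act 0 n54063 = n117299 := rfl
def n117300 : Q := act 1 n54063
theorem D117300 : act 1 n54063 = n117300 := rfl
def n117301 : Q := act 2 n54063
theorem D117301 : act 2 n54063 = n117301 := rfl
def n117302 : Q := act 4 n54064
theorem D117302 : act 4 n54064 = n117302 := rfl
theorem F183650 : act 2 n117302 = n68632 := d1_1 D117302 (iv4 D68632) (iv2 F85294)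
theorem F183651 : act 7 n117302 = n68617 := d11_2 (iv7 F85295) D117302 (iv4 D68617)
theorem F183652 : act 0 n117302 = n113893 := d18_2 F114757 D117302 (iv4 D113893) F83100 F45855 F37166 (iv4 F56594) (iv0 F56596) D76536
theorem F183653 : act 1 n117302 = n105345 := d18_6 (iv1 D26162) (iv4 D12410) D12407 D26152 D54064 D117302 (iv4 D105345) (iv0 F85338) (iv5 D54076)
def n117303 : Q := act 6 n54064
theorem D117303 : act 6 n54064 = n117303 := rfl
theorem F183654 : act 2 n117303 = n68633 := d3_1 D117303 (iv6 D68633) (iv2 F85294)
theorem F183655 : act 5 n117303 = n54632 := d12_1 D117303 (iv6 D54632) (iv5 D26420) (iv6 F41465) D54064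
def n117304 : Q := act 3 n54065
theorem D117304 : act 3 n54065 = n117304 := rfl
theorem F183656 : act 4 n117304 = n67984 := d5_2 D54065 D117304 (iv3 D67984) (iv4 F50515) F50133
def n117305 : Q := act 5 n54065
theorem D117305 : act 5 n54065 = n117305 := rfl
theorem F183658 : act 2 n117305 = n68635 := d2_1 D117305 (iv5 D68635) (iv2 F85296)
theorem F183659 : act 7 n117305 = n68622 := d13_2 (iv7 F85297) D117305 (iv5 D68622)
def n117306 : Q := act 6 n54065
theorem D117306 : act 6 n54065 = n117306 := rfl
theorem F183660 : act 2 n117306 = n68636 := d3_1 D117306 (iv6 D68636) (iv2 F85296)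
theorem F183661 : act 4 n117306 = n54066 := d10_1 D117306 (iv6 D54066) D54065
def n117307 : Q := act 0 n54066
theorem D117307 : act 0 n54066 = n117307 := rfl
def n117308 : Q := act 1 n54066
theorem D117308 : act 1 n54066 = n117308 := rfl
theorem F183662 : act 1 n117308 = n68639 := d15_1 D117308 (iv7 D68639) (iv2 F85298)
theorem F183663 : act 5 n71529 = n117308 := d21_6 F11826 (iv1 F9536) F35189 D15960 D33086 D71529 (iv1 D117308) F85299 (iv6 D26422) F27274
def n117309 : Q := act 7 n54066
theorem D117309 : act 7 n54066 = n117309 := rfl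
theorem F183664 : act 2 n117309 = n68639 := d4_1 D117309 (iv7 D68639) (iv2 F85298)
theorem F183665 : act 5 n117309 = n54638 := d13_1 D117309 (iv7 D54638) (iv5 F85299)
theorem F183666 : act 6 n117309 = n68627 := d14_1 D117309 (iv7 D68627) (iv6 D31931) (iv7 F41468) D54066
theorem F183667 : act 1 n68639 = n117307 := d15_0 (iv0 D117307) D117309 F183664
theorem F183668 : act 1 n68638 = n117309 := d15_1 D68638 (iv7 D117309) F85298
theorem F183669 : act 1 n117309 = n68637 := d15_0 (iv0 D68637) D68639 (iv2 F183664)
def n117310 : Q := act 6 n54067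
theorem D117310 : act 6 n54067 = n117310 := rfl
theorem F183670 : act 2 n117310 = n68719 := d3_1 D117310 (iv6 D68719) (iv2 F85300)
theorem F183671 : act 3 n117310 = n54070 := d7_1 D117310 (iv6 D54070) (iv3 F85301)
theorem F183672 : act 5 n117310 = n54712 := d12_1 D117310 (iv6 D54712) (iv5 D26460) (iv6 F42231) D54067
def n117311 : Q := act 4 n54068
theorem D117311 : act 4 n54068 = n117311 := rfl
theorem F183673 : act 2 n117311 = n68617 := d1_1 D117311 (iv4 D68617) (iv2 F85308)
theorem F183674 : act 7 n117311 = n68632 := d11_2 (iv7 F85309) D117311 (iv4 D68632)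
theorem F183675 : act 0 n117311 = n105345 := d18_2 F114736 D117311 (iv4 D105345) F76641 F37162 D23835 D48884 (iv0 F77009) D76531
theorem F183676 : act 1 n117311 = n113893 := d18_6 (iv1 F41496) (iv4 D15069) (iv1 F20672) D26155 D54068 D117311 (iv4 D113893) (iv0 F85333) (iv5 D54075)
def n117312 : Q := act 6 n54068
theorem D117312 : act 6 n54068 = n117312 := rfl
theorem F183677 : act 2 n117312 = n68618 := d3_1 D117312 (iv6 D68618) (iv2 F85308)
def n117313 : Q := act 3 n54069
theorem D117313 : act 3 n54069 = n117313 := rfl
theorem F183678 : act 7 n117313 = n68634 := d8_2 (iv7 F85311) D117313 (iv3 D68634)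
def n117314 : Q := act 5 n54069
theorem D117314 : act 5 n54069 = n117314 := rfl
theorem F183679 : act 2 n117314 = n68622 := d2_1 D117314 (iv5 D68622) (iv2 F85310)
theorem F183680 : act 7 n117314 = n68635 := d13_2 (iv7 F85311) D117314 (iv5 D68635)
def n117315 : Q := act 6 n54069
theorem D117315 : act 6 n54069 = n117315 := rfl
theorem F183681 : act 2 n117315 = n68623 := d3_1 D117315 (iv6 D68623) (iv2 F85310)
theorem F183682 : act 4 n117315 = n54070 := d10_1 D117315 (iv6 D54070) D54069
def n117316 : Q := act 0 n54070
theorem D117316 : act 0 n54070 = n117316 := rfl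
def n117317 : Q := act 1 n54070
theorem D117317 : act 1 n54070 = n117317 := rfl
theorem F183683 : act 1 n117317 = n68627 := d15_1 D117317 (iv7 D68627) (iv2 F85312)
def n117318 : Q := act 5 n54070
theorem D117318 : act 5 n54070 = n117318 := rfl
theorem F183684 : act 2 n117318 = n68626 := d2_1 D117318 (iv5 D68626) (iv2 F85312)
theorem F183685 : act 3 n117318 = n54712 := d6_1 D117318 (iv5 F183672) F183671
theorem F183686 : act 6 n117318 = n54071 := d12_2 D54070 D117318 (iv5 D54071) (iv6 D26157) D26156
def n117319 : Q := act 7 n54070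
theorem D117319 : act 7 n54070 = n117319 := rfl
theorem F183687 : act 2 n117319 = n68627 := d4_1 D117319 (iv7 D68627) (iv2 F85312)
theorem F183688 : act 6 n117319 = n68639 := d14_1 D117319 (iv7 D68639) (iv6 D31937) (iv7 F41476) D54070
theorem F183689 : act 1 n68627 = n117316 := d15_0 (iv0 D117316) D117319 F183687
theorem F183690 : act 1 n68625 = n117319 := d15_1 D68625 (iv7 D117319) F85312
theorem F183691 : act 1 n117319 = n68624 := d15_0 (iv0 D68624) D68627 (iv2 F183687)
def n117320 : Q := act 4 n54071
theorem D117320 : act 4 n54071 = n117320 := rfl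
theorem F183692 : act 2 n117320 = n68628 := d1_1 D117320 (iv4 D68628) (iv2 F85313)
theorem F183693 : act 7 n117320 = n54651 := d11_2 (iv7 F85315) D117320 (iv4 D54651)
theorem F183694 : act 0 n117320 = n71089 := d18_2 (iv1 F85317) D117320 (iv4 D71089) (iv5 F77101) D76764 (iv0 F115174) F114977 F94977 F94973
theorem F183695 : act 1 n117320 = n71086 := d18_6 D15848 D32914 (iv1 F77250) (iv4 F77252) D54071 D117320 (iv4 D71086) (iv0 D32918) (iv5 D15852)
def n117321 : Q := act 4 n54072
theorem D117321 : act 4 n54072 = n117321 := rfl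
theorem F183696 : act 2 n117321 = n54078 := d1_1 D117321 (iv4 D54078) (iv2 F85318)
theorem F183697 : act 6 n117321 = n90535 := d10_2 (iv6 F85320) D117321 (iv4 D90535)
theorem F183698 : act 7 n117321 = n68641 := d11_2 (iv7 F85321) D117321 (iv4 D68641)
theorem F183699 : act 5 n117321 = n68697 := d16_1 D117321 (iv4 D68697) (iv5 D31965) (iv4 D15078) (iv5 D7170) D7169 D15074 (iv7 F41507) (iv2 F85318)
theorem F183700 : act 0 n117321 = n68663 := d18_2 (iv1 F85322) D117321 F162388 (iv5 D105745) (iv4 D48884) F37171 (iv4 F45855) F55190 (iv5 F55188)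
theorem F183701 : act 1 n117321 = n68662 := d18_6 (iv1 D31925) (iv4 D15061) (iv1 F20671) D26158 D54072 D117321 (iv4 F120084) F120083 (iv5 D68614)
def n117322 : Q := act 3 n54073
theorem D117322 : act 3 n54073 = n117322 := rfl
theorem F183702 : act 4 n117322 = n68833 := d5_2 D54073 D117322 (iv3 D68833) (iv4 D32017) (iv3 F41488)
theorem F183703 : act 7 n117322 = n68643 := d8_2 (iv7 F85325) D117322 (iv3 D68643)
def n117323 : Q := act 5 n54073
theorem D117323 : act 5 n54073 = n117323 := rfl
theorem F183704 : act 2 n117323 = n54085 := d2_1 D117323 (iv5 D54085) (iv2 F85324)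
theorem F183705 : act 4 n117323 = n68665 := d9_1 D117323 (iv5 D68665) (iv4 D31949) (iv5 D15074) (iv4 D7169) D7170 D15078 D31965 D68697 (iv5 F183699) (iv4 D117321) (iv5 D54072) (iv4 D26158) D26159 D54073
theorem F183706 : act 7 n117323 = n68644 := d13_2 (iv7 F85325) D117323 (iv5 D68644)
theorem F183707 : act 0 n117323 = n68696 := d17_2 (iv1 F85327) D117323 F104900 (iv4 F51167) F50103 (iv0 F54332) D59870 (iv0 F94332) F55364
theorem F183708 : act 1 n117323 = n68695 := d17_6 F50537 (iv5 D15062) (iv1 F20671) D26159 D54073 D117323 F104899 (iv0 D32218) (iv4 D15202)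
def n117324 : Q := act 6 n54073
theorem D117324 : act 6 n54073 = n117324 := rfl
theorem F183709 : act 2 n117324 = n54086 := d3_1 D117324 (iv6 D54086) (iv2 F85324)
theorem F183710 : act 4 n117324 = n54074 := d10_1 D117324 (iv6 D54074) D54073
def n117325 : Q := act 0 n54074
theorem D117325 : act 0 n54074 = n117325 := rfl
def n117326 : Q := act 1 n54074
theorem D117326 : act 1 n54074 = n117326 := rfl
theorem F183711 : act 1 n117326 = n54090 := d15_1 D117326 (iv7 D54090) (iv2 F85328)
theorem F183712 : act 5 n73495 = n117326 := d21_6 (iv5 D17011) (iv1 D7941) D7942 (iv6 F25848) D33788 D73495 (iv1 D117326) (iv5 F114964) (iv6 D76642) (iv1 F55637)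
def n117327 : Q := act 7 n54074
theorem D117327 : act 7 n54074 = n117327 := rfl
theorem F183713 : act 2 n117327 = n54090 := d4_1 D117327 (iv7 D54090) (iv2 F85328)
theorem F183714 : act 3 n117327 = n68839 := d8_1 D117327 (iv7 D68839) (iv3 F85329)
theorem F183715 : act 6 n117327 = n68648 := d14_1 D117327 (iv7 D68648) (iv6 D31941) (iv7 F41489) D54074
theorem F183716 : act 1 n54090 = n117325 := d15_0 (iv0 D117325) D117327 F183713
theorem F183717 : act 1 n54088 = n117327 := d15_1 D54088 (iv7 D117327) F85328
theorem F183718 : act 1 n117327 = n54087 := d15_0 (iv0 D54087) D54090 (iv2 F183713)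
def n117328 : Q := act 4 n54075
theorem D117328 : act 4 n54075 = n117328 := rfl
theorem F183719 : act 2 n117328 = n68655 := d1_1 D117328 (iv4 D68655) (iv2 F85330)
theorem F183720 : act 7 n117328 = n68651 := d11_2 (iv7 F85332) D117328 (iv4 D68651)
def n117329 : Q := act 6 n54075
theorem D117329 : act 6 n54075 = n117329 := rfl
theorem F183721 : act 2 n117329 = n68656 := d3_1 D117329 (iv6 D68656) (iv2 F85330)
theorem F183722 : act 3 n117329 = n117234 := d7_1 D117329 (iv6 D117234) (iv3 F85331)
theorem F183723 : act 5 n117329 = n54669 := d12_1 D117329 (iv6 D54669) (iv5 D26440) F41497 D54075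
def n117330 : Q := act 4 n54076
theorem D117330 : act 4 n54076 = n117330 := rfl
theorem F183724 : act 2 n117330 = n68651 := d1_1 D117330 (iv4 D68651) (iv2 F85335)
theorem F183725 : act 7 n117330 = n68655 := d11_2 (iv7 F85337) D117330 (iv4 D68655)
def n117331 : Q := act 6 n54076
theorem D117331 : act 6 n54076 = n117331 := rfl
theorem F183726 : act 2 n117331 = n68652 := d3_1 D117331 (iv6 D68652) (iv2 F85335)
theorem F183727 : act 3 n117331 = n113734 := d7_1 D117331 (iv6 D113734) (iv3 F85336)
theorem F183728 : act 5 n117331 = n114384 := d12_1 D117331 (iv6 D114384) (iv5 D52786) (iv6 F41504) D54076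
def n117332 : Q := act 4 n54077
theorem D117332 : act 4 n54077 = n117332 := rfl
theorem F183729 : act 2 n117332 = n68660 := d1_1 D117332 (iv4 D68660) F85340
theorem F183730 : act 7 n117332 = n68658 := d11_2 (iv7 F85342) D117332 (iv4 D68658)
def n117333 : Q := act 6 n54077
theorem D117333 : act 6 n54077 = n117333 := rfl
theorem F183731 : act 2 n117333 = n68661 := d3_1 D117333 (iv6 D68661) F85340
theorem F183732 : act 5 n117333 = n71485 := d12_1 D117333 (iv6 D71485) F78513 (iv6 F78496) (iv5 F85343)
def n117334 : Q := act 0 n54078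
theorem D117334 : act 0 n54078 = n117334 := rfl
theorem F183733 : act 4 n117334 = n59812 := d18_3 F55203 D54078 D117334 (iv5 D59812) (iv4 D28365) (iv0 D13533) (iv4 F22679) (iv0 F27742) D34893
theorem F183734 : act 1 n68641 = n117334 := d15_0 (iv0 D117334) F85344 (iv2 F104839)
theorem F183735 : act 2 n68663 = n117334 := d1_3 F183733 (iv2 F162383) (iv4 F162388)
theorem F183736 : act 7 n68662 = n117334 := d11_0 F183733 (iv7 F120081) F120084
def n117335 : Q := act 1 n54078
theorem D117335 : act 1 n54078 = n117335 := rfl
theorem F183737 : act 1 n117335 = n68641 := d15_1 D117335 (iv7 F183698) F183696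
theorem F183738 : act 7 n117335 = n68663 := d15_2 (iv0 D117334) D117335 F183735
theorem F183739 : act 4 n117335 = n59814 := d18_7 F77055 (iv4 D26155) (iv1 D12408) D12410 D26163 D54078 D117335 (iv0 F162409) (iv5 D105750)
theorem F183740 : act 2 n68662 = n117335 := d1_3 F183739 (iv2 F120079) F120084
def n117336 : Q := act 3 n54078
theorem D117336 : act 3 n54078 = n117336 := rfl
theorem F183741 : act 4 n117336 = n59165 := d5_2 D54078 D117336 F93359 F45409 (iv3 F41506)
theorem F183742 : act 7 n117336 = n68664 := d8_2 (iv7 F85344) D117336 (iv3 D68664)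
def n117337 : Q := act 5 n54078
theorem D117337 : act 5 n54078 = n117337 := rfl
theorem F183743 : act 2 n117337 = n68697 := d2_1 D117337 (iv5 F183699) F183696
theorem F183744 : act 7 n117337 = n68665 := d13_2 (iv7 F85344) D117337 (iv5 D68665)
theorem F183745 : act 4 n117337 = n68644 := d16_2 D54078 D117337 (iv5 D68644) (iv4 D31940) (iv5 D15070) D15069 D31939 (iv7 F85321) F85318
def n117338 : Q := act 6 n54078
theorem D117338 : act 6 n54078 = n117338 := rfl
theorem F183746 : act 2 n117338 = n90535 := d3_1 D117338 (iv6 F183697) F183696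
theorem F183747 : act 4 n117338 = n54079 := d10_1 D117338 (iv6 D54079) D54078
def n117339 : Q := act 0 n54079
theorem D117339 : act 0 n54079 = n117339 := rfl
def n117340 : Q := act 1 n54079
theorem D117340 : act 1 n54079 = n117340 := rfl
theorem F183748 : act 1 n117340 = n90536 := d15_1 D117340 (iv7 D90536) (iv2 F85345)
theorem F183749 : act 5 n93842 = n117340 := d21_6 (iv5 F55260) (iv1 D34912) (iv5 F27767) D20776 D43865 D93842 (iv1 D117340) F85347 (iv6 D42365) (iv1 F32605)
def n117341 : Q := act 7 n54079
theorem D117341 : act 7 n54079 = n117341 := rfl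
theorem F183750 : act 2 n117341 = n90536 := d4_1 D117341 (iv7 D90536) (iv2 F85345)
theorem F183751 : act 3 n117341 = n105319 := d8_1 D117341 (iv7 D105319) (iv3 F85346)
theorem F183752 : act 5 n117341 = n90522 := d13_1 D117341 (iv7 D90522) (iv5 F85347)
theorem F183753 : act 6 n117341 = n68670 := d14_1 D117341 (iv7 D68670) (iv6 D31950) (iv7 F41507) D54079
theorem F183754 : act 1 n90536 = n117339 := d15_0 (iv0 D117339) D117341 F183750
theorem F183755 : act 1 n90534 = n117341 := d15_1 D90534 (iv7 D117341) F85345
theorem F183756 : act 1 n117341 = n90533 := d15_0 (iv0 D90533) D90536 (iv2 F183750)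
def n117342 : Q := act 1 n54080
theorem D117342 : act 1 n54080 = n117342 := rfl
theorem F183757 : act 1 n117342 = n54082 := d15_1 D117342 F85353 (iv2 F85348)
theorem F183758 : act 7 n117342 = n68673 := d15_2 F162419 D117342 (iv2 F162416)
theorem F183759 : act 4 n117342 = n59870 := d18_7 D34962 F94194 (iv1 D59811) (iv4 D28365) (iv5 F50546) D54080 D117342 (iv0 F94332) (iv5 D34964)
theorem F183760 : act 2 n59874 = n117342 := d1_3 F183759 F94329 D59874
def n117343 : Q := act 3 n54080
theorem D117343 : act 3 n54080 = n117343 := rfl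
theorem F183761 : act 4 n117343 = n68438 := d5_2 D54080 D117343 (iv3 D68438) F85136 F85132
theorem F183762 : act 7 n117343 = n68674 := d8_2 (iv7 F85349) D117343 (iv3 D68674)
def n117344 : Q := act 5 n54080
theorem D117344 : act 5 n54080 = n117344 := rfl
theorem F183763 : act 2 n117344 = n68683 := d2_1 D117344 (iv5 D68683) (iv2 F85348)
theorem F183764 : act 7 n117344 = n68675 := d13_2 (iv7 F85349) D117344 (iv5 D68675)
def n117345 : Q := act 6 n54080
theorem D117345 : act 6 n54080 = n117345 := rfl
theorem F183765 : act 2 n117345 = n68684 := d3_1 D117345 (iv6 D68684) (iv2 F85348)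
theorem F183766 : act 4 n117345 = n54081 := d10_1 D117345 (iv6 D54081) D54080
def n117346 : Q := act 0 n54081
theorem D117346 : act 0 n54081 = n117346 := rfl
theorem F183767 : act 6 n117346 = n71383 := d21_5 F11532 D13533 (iv5 F50546) D54081 D117346 (iv5 D71383) (iv1 D33026) (iv5 F50261) (iv6 D31937) F50538
def n117347 : Q := act 1 n54081
theorem D117347 : act 1 n54081 = n117347 := rfl
theorem F183768 : act 1 n117347 = n68688 := d15_1 D117347 (iv7 D68688) (iv2 F85350)
def n117348 : Q := act 7 n54081
theorem D117348 : act 7 n54081 = n117348 := rfl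
theorem F183769 : act 2 n117348 = n68688 := d4_1 D117348 (iv7 D68688) (iv2 F85350)
theorem F183770 : act 5 n117348 = n71670 := d13_1 D117348 (iv7 D71670) (iv5 F85351)

end Cfsg.Agent.Helper17.ONTC
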