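import Cfsg.Agent.Helper17.ONTC.Facts23

set_option autoImplicit false
set_option linter.all false

noncomputable section

namespace Cfsg.Agent.Helper17.ONTC

theorem F183771 : act 6 n117348 = n68679 := d14_1 D117348 (iv7 D68679) (iv6 D31958) F50313 D54081
theorem F183772 : act 1 n68688 = n117346 := d15_0 (iv0 D117346) D117348 F183769
theorem F183773 : act 1 n68686 = n117348 := d15_1 D68686 (iv7 D117348) F85350
theorem F183774 : act 1 n117348 = n68685 := d15_0 (iv0 D68685) D68688 (iv2 F183769)
def n117349 : Q := act 3 n54082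
theorem D117349 : act 3 n54082 = n117349 := rfl
theorem F183775 : act 7 n117349 = n68682 := d8_2 (iv7 F85353) D117349 (iv3 D68682)
def n117350 : Q := act 5 n54082
theorem D117350 : act 5 n54082 = n117350 := rfl
theorem F183776 : act 2 n117350 = n68675 := d2_1 D117350 (iv5 D68675) (iv2 F85352)
theorem F183777 : act 7 n117350 = n68683 := d13_2 (iv7 F85353) D117350 (iv5 D68683)
def n117351 : Q := act 6 n54082
theorem D117351 : act 6 n54082 = n117351 := rfl
theorem F183778 : act 2 n117351 = n68676 := d3_1 D117351 (iv6 D68676) (iv2 F85352)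
theorem F183779 : act 4 n117351 = n54083 := d10_1 D117351 (iv6 D54083) D54082
def n117352 : Q := act 0 n54083
theorem D117352 : act 0 n54083 = n117352 := rfl
def n117353 : Q := act 1 n54083
theorem D117353 : act 1 n54083 = n117353 := rfl
def n117354 : Q := act 7 n54083
theorem D117354 : act 7 n54083 = n117354 := rfl
theorem F183781 : act 2 n117354 = n68679 := d4_1 D117354 (iv7 D68679) (iv2 F85354)
theorem F183783 : act 5 n117354 = n71516 := d13_1 D117354 (iv7 D71516) (iv5 F85356)
theorem F183784 : act 6 n117354 = n68688 := d14_1 D117354 (iv7 D68688) (iv6 D31962) (iv7 F50311) D54083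
theorem F183785 : act 1 n68679 = n117352 := d15_0 (iv0 D117352) D117354 F183781
theorem F183786 : act 1 n68678 = n117354 := d15_1 D68678 (iv7 D117354) F85354
def n117355 : Q := act 3 n54084
theorem D117355 : act 3 n54084 = n117355 := rfl
theorem F183788 : act 4 n117355 = n68994 := d5_2 F94341 D117355 (iv3 D68994) (iv4 F104500) F104496
theorem F183789 : act 7 n117355 = n68689 := d8_2 (iv7 F85359) D117355 (iv3 D68689)
def n117356 : Q := act 6 n54084
theorem D117356 : act 6 n54084 = n117356 := rfl
theorem F183790 : act 2 n117356 = n68694 := d3_1 D117356 (iv6 D68694) F85357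
def n117357 : Q := act 0 n54085
theorem D117357 : act 0 n54085 = n117357 := rfl
theorem F183791 : act 5 n117357 = n54236 := d17_3 F55384 D54085 D117357 (iv4 F94328) (iv5 D59869) (iv0 D28424) D28427 (iv0 F54351) D34975
theorem F183792 : act 1 n68644 = n117357 := d15_0 (iv0 D117357) F85360 (iv2 F104841)
theorem F183793 : act 2 n68696 = n117357 := d2_3 F183791 (iv2 F85584) (iv5 F104900)
theorem F183794 : act 7 n68695 = n117357 := d13_0 F183791 (iv7 F85586) (iv5 F104899)
def n117358 : Q := act 1 n54085
theorem D117358 : act 1 n54085 = n117358 := rfl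
theorem F183795 : act 1 n117358 = n68644 := d15_1 D117358 (iv7 F183706) F183704
theorem F183796 : act 7 n117358 = n68696 := d15_2 (iv0 D117357) D117358 F183793
theorem F183797 : act 5 n117358 = n54237 := d17_7 (iv1 F50514) (iv5 D26156) (iv1 D12408) D12411 D26167 D54085 D117358 F85581 (iv4 D32216)
theorem F183798 : act 2 n68695 = n117358 := d2_3 F183797 F85585 (iv5 F104899)
def n117359 : Q := act 4 n54085
theorem D117359 : act 4 n54085 = n117359 := rfl
theorem F183799 : act 2 n117359 = n68665 := d1_1 D117359 (iv4 F183705) F183704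
theorem F183800 : act 5 n117359 = n68641 := d9_2 D54085 D117359 (iv4 D68641) (iv5 D31939) (iv4 D15069) D15070 D31940 D68644 (iv4 F183745) (iv5 D117337) (iv4 D54078) (iv5 D26163) (iv4 D12410) D12411 D26167
theorem F183801 : act 7 n117359 = n68697 := d11_2 (iv7 F85360) D117359 (iv4 D68697)
def n117360 : Q := act 6 n54085
theorem D117360 : act 6 n54085 = n117360 := rfl
def n117361 : Q := act 0 n54086
theorem D117361 : act 0 n54086 = n117361 := rfl
def n117362 : Q := act 1 n54086
theorem D117362 : act 1 n54086 = n117362 := rfl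
def n117363 : Q := act 5 n54086
theorem D117363 : act 5 n54086 = n117363 := rfl
def n117364 : Q := act 7 n54086
theorem D117364 : act 7 n54086 = n117364 := rfl
theorem F183802 : act 4 n117364 = n54090 := d11_1 D117364 (iv7 D54090) (iv4 F85361)
theorem F183803 : act 6 n117364 = n68702 := d14_1 D117364 (iv7 D68702) (iv6 D31966) (iv7 F41514) D54086
def n117365 : Q := act 2 n54087
theorem D117365 : act 2 n54087 = n117365 := rfl
theorem F183804 : act 7 n54088 = n117365 := d15_2 (iv0 D54087) D54088 (iv2 D117365)
def n117366 : Q := act 3 n54087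
theorem D117366 : act 3 n54087 = n117366 := rfl
def n117367 : Q := act 4 n54087
theorem D117367 : act 4 n54087 = n117367 := rfl
def n117368 : Q := act 5 n54087
theorem D117368 : act 5 n54087 = n117368 := rfl
def n117369 : Q := act 6 n54087
theorem D117369 : act 6 n54087 = n117369 := rfl
def n117370 : Q := act 7 n54087
theorem D117370 : act 7 n54087 = n117370 := rfl
theorem F183805 : act 2 n117370 = n54088 := d4_1 D117370 F183804 (iv2 D117365)
def n117371 : Q := act 3 n54088
theorem D117371 : act 3 n54088 = n117371 := rfl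
def n117372 : Q := act 4 n54088
theorem D117372 : act 4 n54088 = n117372 := rfl
def n117373 : Q := act 5 n54088
theorem D117373 : act 5 n54088 = n117373 := rfl
theorem F183806 : act 6 n73412 = n117373 := d21_5 (iv5 D35023) (iv1 D17000) D17001 (iv6 F53004) D73412 (iv5 D117373) (iv1 D54088) D54089 F85363 (iv1 F55605)
def n117374 : Q := act 6 n54088
theorem D117374 : act 6 n54088 = n117374 := rfl
def n117375 : Q := act 0 n54089
theorem D117375 : act 0 n54089 = n117375 := rfl
def n117376 : Q := act 1 n54089
theorem D117376 : act 1 n54089 = n117376 := rfl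
def n117377 : Q := act 4 n54089
theorem D117377 : act 4 n54089 = n117377 := rfl
theorem F183807 : act 6 n117377 = n54092 := d10_2 (iv6 F85363) D117377 (iv4 D54092)
def n117378 : Q := act 7 n54089
theorem D117378 : act 7 n54089 = n117378 := rfl
theorem F183808 : act 3 n117378 = n54103 := d8_1 D117378 (iv7 D54103) (iv3 F85362)
theorem F183809 : act 5 n117378 = n54090 := d13_1 D117378 (iv7 D54090) D54089
def n117379 : Q := act 3 n54092
theorem D117379 : act 3 n54092 = n117379 := rfl
theorem F183810 : act 4 n117379 = n54104 := d5_2 D54092 D117379 (iv3 D54104) (iv4 D26177) (iv3 F41517)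
theorem F183811 : act 5 n117379 = n98880 := d6_2 (iv5 F85373) D117379 (iv3 D98880)
def n117380 : Q := act 0 n54093
theorem D117380 : act 0 n54093 = n117380 := rfl
theorem F183813 : act 1 n68926 = n117380 := d15_0 (iv0 D117380) F85375 D68926
def n117381 : Q := act 1 n54093
theorem D117381 : act 1 n54093 = n117381 := rfl
def n117382 : Q := act 2 n54093
theorem D117382 : act 2 n54093 = n117382 := rfl
theorem F183814 : act 3 n117382 = n68909 := d0_2 D54093 D117382 (iv2 D68909) (iv3 D32047) (iv2 F53269)
theorem F183815 : act 7 n117382 = n68926 := d4_2 (iv7 F85375) D117382 (iv2 D68926)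
theorem F183816 : act 1 n117382 = n54127 := d15_0 F130253 (iv7 F85375) D117382
theorem F183817 : act 1 n117381 = n68926 := d15_1 D117381 (iv7 F183815) (iv2 D117382)
theorem F183818 : act 1 n54136 = n117382 := d15_1 (iv0 F130254) F183815 (iv2 D68926)
def n117383 : Q := act 4 n54093
theorem D117383 : act 4 n54093 = n117383 := rfl
theorem F183819 : act 7 n117383 = n68927 := d11_2 (iv7 F85375) D117383 (iv4 D68927)
def n117385 : Q := act 6 n54093
theorem D117385 : act 6 n54093 = n117385 := rfl
theorem F183822 : act 3 n117385 = n54096 := d7_1 D117385 (iv6 D54096) D54093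
theorem F183823 : act 7 n117385 = n73847 := d14_2 (iv7 F85375) D117385 (iv6 D73847) (iv7 F113951) F113950
def n117386 : Q := act 1 n54095
theorem D117386 : act 1 n54095 = n117386 := rfl
theorem F183824 : act 1 n117386 = n54099 := d15_1 D117386 F85389 (iv2 F85378)
theorem F183825 : act 7 n117386 = n68918 := d15_2 (iv0 F106012) D117386 (iv2 F106009)
theorem F183826 : act 2 n68919 = n117386 := d4_3 F183825 (iv2 F106009) F106010
theorem F183827 : act 6 n117386 = n55634 := d3_2 F105919 F183826 F105947
def n117388 : Q := act 6 n54095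
theorem D117388 : act 6 n54095 = n117388 := rfl
theorem F183830 : act 2 n117388 = n68921 := d3_1 D117388 (iv6 D68921) (iv2 F85378)
theorem F183832 : act 0 n117388 = n73577 := d21_10 (iv5 F110231) (iv1 D54756) F42362 (iv6 D26286) F20802 (iv6 F41522) (iv5 D26175) D26173 D54095 D117388
theorem F183833 : act 1 n117388 = n73576 := d15_0 (iv0 D73576) (iv7 F105095) (iv2 F183830)
def n117389 : Q := act 1 n54096
theorem D117389 : act 1 n54096 = n117389 := rfl
theorem F183835 : act 6 n68783 = n117389 := d21_3 D15238 D32336 (iv5 F104972) (iv1 D117389) (iv6 D54096) D54095 F106012 (iv5 D69663) (iv6 D32335) (iv1 D15237)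
theorem F183836 : act 5 n117389 = n69360 := d21_6 D32324 F51347 (iv5 D31995) D31996 D68783 F183835 (iv1 D69360) (iv5 D32229) D32230 F85956
theorem F183837 : act 6 n54750 = n69360 := d12_4 (iv6 F183835) F104972 D69667 F106014 (iv5 F183836)
def n117390 : Q := act 0 n54097
theorem D117390 : act 0 n54097 = n117390 := rfl
theorem F183838 : act 1 n68909 = n117390 := d15_0 (iv0 D117390) F85383 D68909
def n117391 : Q := act 1 n54097
theorem D117391 : act 1 n54097 = n117391 := rfl
def n117392 : Q := act 2 n54097
theorem D117392 : act 2 n54097 = n117392 := rfl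
theorem F183839 : act 3 n117392 = n68926 := d0_2 D54097 D117392 (iv2 D68926) (iv3 D32052) (iv2 F53264)
theorem F183840 : act 6 n117392 = n73853 := d3_2 (iv6 F85382) D117392 (iv2 D73853)
theorem F183841 : act 7 n117392 = n68909 := d4_2 (iv7 F85383) D117392 (iv2 D68909)
theorem F183842 : act 1 n117392 = n68907 := d15_0 (iv0 D68907) (iv7 F85383) D117392
theorem F183843 : act 1 n117391 = n68909 := d15_1 D117391 (iv7 F183841) (iv2 D117392)
def n117393 : Q := act 4 n54097
theorem D117393 : act 4 n54097 = n117393 := rfl
theorem F183845 : act 6 n117393 = n73854 := d10_2 (iv6 F85382) D117393 (iv4 D73854)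
theorem F183846 : act 7 n117393 = n68910 := d11_2 (iv7 F85383) D117393 (iv4 D68910)
def n117394 : Q := act 5 n54097
theorem D117394 : act 5 n54097 = n117394 := rfl
theorem F183847 : act 3 n117394 = n54099 := d6_1 D117394 (iv5 D54099) D54097
theorem F183848 : act 6 n117394 = n55092 := d12_2 (iv6 F85382) D117394 (iv5 F108593) F110646 (iv5 D73855)
theorem F183849 : act 7 n117394 = n68911 := d13_2 (iv7 F85383) D117394 (iv5 D68911)
def n117395 : Q := act 4 n54099
theorem D117395 : act 4 n54099 = n117395 := rfl
theorem F183851 : act 6 n117395 = n54353 := d10_2 (iv6 F85388) D117395 F85767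
def n117396 : Q := act 3 n54100
theorem D117396 : act 3 n54100 = n117396 := rfl
theorem F183853 : act 7 n117396 = n68938 := d8_2 (iv7 F105724) D117396 (iv3 D68938)
def n117397 : Q := act 5 n54100
theorem D117397 : act 5 n54100 = n117397 := rfl
theorem F183855 : act 6 n117397 = n54288 := d12_2 F120322 D117397 (iv5 F120330) (iv6 D79094) D79093
theorem F183857 : act 4 n117397 = n67345 := d17_4 (iv1 D26174) D26175 D54100 D117397 F181642 (iv0 D116440) (iv5 D53667) D53666 F110652
theorem F183858 : act 0 n117397 = n69443 := d21_1 D117397 (iv5 F105918) (iv6 F105919) (iv1 D35062) (iv6 D17020) F12576 (iv1 F11515) D12414 (iv6 F41522) D54100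
theorem F183859 : act 0 n54313 = n117397 := d21_10 (iv5 D117397) (iv1 F85396) F50677 (iv6 F41458) (iv1 F41460) D31996 D68785 F104984 (iv5 D54312) D54313
theorem F183860 : act 0 n68737 = n79094 := d21_1 D68737 F120330 (iv6 F183855) F183858 (iv6 F105717) (iv5 D61409) (iv1 F47477) (iv5 F50358) F50359 (iv1 F50334)
theorem E18187 : n68922 = n68738 := (c21_5 (iv5 F105918) (iv1 D68919) (iv5 D32049) D32050 D68922 (iv6 D68738) D68737 F183860 F120330 (iv6 F183855) F183858)
theorem F183861 : act 0 n68738 = n33915 := (sb E18187 (iv1 F105096))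
theorem F183862 : act 1 n68738 = n32050 := (sb E18187 (iv0 D68922))
def n117398 : Q := act 3 n54101
theorem D117398 : act 3 n54101 = n117398 := rfl
theorem F183863 : act 5 n117398 = n69432 := d6_2 F85391 D117398 F105705
theorem F183864 : act 7 n117398 = n68933 := d8_2 (iv7 F105722) D117398 (iv3 D68933)
def n117399 : Q := act 6 n54101
theorem D117399 : act 6 n54101 = n117399 := rfl
theorem F183865 : act 2 n117399 = n68940 := d3_1 D117399 (iv6 D68940) (iv2 F105721)
theorem F183866 : act 5 n117399 = n69441 := d12_1 D117399 (iv6 D69441) (iv5 D32253) D32254 F85391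
theorem F183867 : act 0 n76693 = n69441 := d21_1 D76693 (iv5 F183866) (iv6 D117399) (iv1 D54101) F41522 (iv5 D12414) (iv1 F20649) F20648 D17018 D35056
def n117400 : Q := act 3 n54102
theorem D117400 : act 3 n54102 = n117400 := rfl
theorem F183868 : act 6 n117400 = n54104 := d7_2 (iv6 F85393) D117400 (iv3 D54104)
def n117401 : Q := act 5 n54102
theorem D117401 : act 5 n54102 = n117401 := rfl
theorem F183869 : act 2 n117401 = n68944 := d2_1 D117401 (iv5 D68944) (iv2 F85392)
def n117402 : Q := act 7 n54102
theorem D117402 : act 7 n54102 = n117402 := rfl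
theorem F183871 : act 4 n117402 = n54103 := d11_1 D117402 (iv7 D54103) D54102
theorem F183872 : act 1 n68942 = n117402 := d15_1 D68942 (iv7 D117402) F85392
def n117403 : Q := act 2 n54104
theorem D117403 : act 2 n54104 = n117403 := rfl
theorem F183874 : act 3 n117403 = n68947 := d0_2 D54104 D117403 (iv2 D68947) (iv3 D32060) (iv2 F41528)
theorem F183875 : act 5 n117403 = n81612 := d2_2 F86791 D117403 F125522
def n117404 : Q := act 3 n54105
theorem D117404 : act 3 n54105 = n117404 := rfl
theorem F183876 : act 2 n117404 = n67151 := d0_1 D117404 (iv3 D67151) F49559 (iv3 F41606) (iv2 F85399)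
theorem F183877 : act 4 n117404 = n68952 := d5_2 D54105 D117404 (iv3 D68952) (iv4 D32064) (iv3 F41532)
theorem F183878 : act 7 n117404 = n54146 := d8_2 (iv7 F85400) D117404 (iv3 D54146)
def n117405 : Q := act 6 n54105
theorem D117405 : act 6 n54105 = n117405 := rfl
theorem F183879 : act 2 n117405 = n54193 := d3_1 D117405 (iv6 D54193) (iv2 F85399)
theorem F183880 : act 4 n117405 = n54106 := d10_1 D117405 (iv6 D54106) D54105
def n117406 : Q := act 0 n54106
theorem D117406 : act 0 n54106 = n117406 := rfl
def n117407 : Q := act 1 n54106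
theorem D117407 : act 1 n54106 = n117407 := rfl
theorem F183881 : act 1 n117407 = n54204 := d15_1 D117407 F85527 (iv2 F85403)
def n117408 : Q := act 7 n54106
theorem D117408 : act 7 n54106 = n117408 := rfl
theorem F183882 : act 2 n117408 = n54204 := d4_1 D117408 F85527 (iv2 F85403)
theorem F183883 : act 3 n117408 = n68957 := d8_1 D117408 (iv7 D68957) (iv3 F85404)
theorem F183884 : act 5 n117408 = n72097 := d13_1 D117408 (iv7 D72097) (iv5 F85405)
theorem F183885 : act 6 n117408 = n54151 := d14_1 D117408 (iv7 D54151) (iv6 D26202) (iv7 F41533) D54106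
theorem F183886 : act 1 n54204 = n117406 := d15_0 (iv0 D117406) D117408 F183882
theorem F183887 : act 1 n54206 = n117408 := d15_1 D54206 (iv7 D117408) F85403
theorem F183888 : act 1 n117408 = n54205 := d15_0 (iv0 D54205) (iv7 F85527) (iv2 F183882)
def n117409 : Q := act 6 n54107
theorem D117409 : act 6 n54107 = n117409 := rfl
theorem F183889 : act 2 n117409 = n68631 := d3_1 D117409 (iv6 D68631) (iv2 F85406)
theorem F183890 : act 3 n117409 = n69020 := d7_1 D117409 (iv6 D69020) (iv3 F85407)
theorem F183891 : act 5 n117409 = n54768 := d12_1 D117409 (iv6 D54768) (iv5 D26485) F41543 D54107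
def n117410 : Q := act 4 n54108
theorem D117410 : act 4 n54108 = n117410 := rfl
theorem F183892 : act 2 n117410 = n68672 := d1_1 D117410 (iv4 D68672) (iv2 F85412)
theorem F183893 : act 7 n117410 = n105320 := d11_2 (iv7 F85413) D117410 (iv4 D105320)
def n117411 : Q := act 6 n54108
theorem D117411 : act 6 n54108 = n117411 := rfl
theorem F183894 : act 2 n117411 = n68669 := d3_1 D117411 F104878 (iv2 F85412)
theorem F183895 : act 5 n117411 = n68642 := d12_1 D117411 (iv6 D68642) (iv5 D31939) (iv6 F41548) D54108
def n117412 : Q := act 3 n54109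
theorem D117412 : act 3 n54109 = n117412 := rfl
theorem F183896 : act 4 n117412 = n54120 := d5_2 D54109 D117412 (iv3 D54120) (iv4 D26189) (iv3 F41555)
def n117413 : Q := act 5 n54109
theorem D117413 : act 5 n54109 = n117413 := rfl
theorem F183897 : act 2 n117413 = n68721 := d2_1 D117413 (iv5 D68721) (iv2 F85415)
theorem F183899 : act 0 n117413 = n105816 := d17_2 F104667 D117413 F162521 F77133 F37188 (iv0 F54334) F54336 F50168 D68472
theorem F183900 : act 1 n117413 = n105777 := d17_6 F85409 (iv5 D54107) (iv1 D26180) D26182 D54109 D117413 (iv5 D105777) (iv0 F106130) (iv4 D69738)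
def n117414 : Q := act 6 n54109
theorem D117414 : act 6 n54109 = n117414 := rfl
theorem F183901 : act 2 n117414 = n68715 := d3_1 D117414 F104904 (iv2 F85415)
theorem F183902 : act 4 n117414 = n54110 := d10_1 D117414 (iv6 D54110) D54109
theorem F183903 : act 0 n117414 = n117163 := d20_7 (iv4 F49525) (iv1 F84714) (iv4 F181838) D54055 (iv1 F183639) (iv3 F85418) (iv4 F183902) (iv4 D117163) (iv3 D53997) (iv1 F41316)
def n117415 : Q := act 0 n54110
theorem D117415 : act 0 n54110 = n117415 := rfl
def n117416 : Q := act 1 n54110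
theorem D117416 : act 1 n54110 = n117416 := rfl
theorem F183904 : act 1 n117416 = n68716 := d15_1 D117416 (iv7 D68716) (iv2 F85417)
theorem F183905 : act 5 n69330 = n117416 := d21_6 F50532 (iv1 D13534) (iv5 F11532) D15203 D32222 D69330 (iv1 D117416) F85419 (iv6 D31941) (iv1 F41513)
def n117417 : Q := act 7 n54110
theorem D117417 : act 7 n54110 = n117417 := rfl
theorem F183906 : act 2 n117417 = n68716 := d4_1 D117417 (iv7 D68716) (iv2 F85417)
theorem F183907 : act 3 n117417 = n54126 := d8_1 D117417 (iv7 D54126) (iv3 F85418)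
theorem F183908 : act 5 n117417 = n68648 := d13_1 D117417 (iv7 D68648) (iv5 F85419)
theorem F183909 : act 1 n68716 = n117415 := d15_0 (iv0 D117415) D117417 F183906
theorem F183910 : act 1 n68714 = n117417 := d15_1 D68714 (iv7 D117417) F85417
theorem F183911 : act 1 n117417 = n68713 := d15_0 (iv0 D68713) D68716 (iv2 F183906)
def n117418 : Q := act 4 n54111
theorem D117418 : act 4 n54111 = n117418 := rfl
theorem F183912 : act 2 n117418 = n113834 := d1_1 D117418 F177128 F176871
def n117419 : Q := act 6 n54111
theorem D117419 : act 6 n54111 = n117419 := rfl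
theorem F183916 : act 3 n117419 = n68618 := d7_1 D117419 (iv6 D68618) (iv3 F85420)
theorem F183917 : act 5 n117419 = n71945 := d12_1 D117419 (iv6 D71945) (iv5 D33241) F50251 D54111
def n117421 : Q := act 6 n54112
theorem D117421 : act 6 n54112 = n117421 := rfl
theorem F183922 : act 5 n117421 = n54786 := d12_1 D117421 (iv6 D54786) (iv5 D26499) (iv6 F42848) D54112
def n117422 : Q := act 6 n54113
theorem D117422 : act 6 n54113 = n117422 := rfl
theorem F183924 : act 7 n117422 = n92755 := d14_2 (iv7 F85422) D117422 (iv6 D92755) (iv7 D43391) (iv6 F68153)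
def n117423 : Q := act 4 n54114
theorem D117423 : act 4 n54114 = n117423 := rfl
theorem F183927 : act 0 n117423 = n113788 := d18_2 (iv1 F85424) D117423 (iv4 D113788) (iv5 D52543) F54328 D28404 F50395 F41564 D26193
theorem F183928 : act 1 n117423 = n113801 := d18_6 D52443 (iv4 F82783) (iv1 F85129) F85127 (iv5 F85426) D117423 F177071 F83048 (iv5 D52445)
def n117424 : Q := act 6 n54114
theorem D117424 : act 6 n54114 = n117424 := rfl
theorem F183929 : act 3 n117424 = n113673 := d7_1 D117424 (iv6 D113673) F85427
def n117425 : Q := act 3 n54115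
theorem D117425 : act 3 n54115 = n117425 := rfl
def n117427 : Q := act 7 n54115
theorem D117427 : act 7 n54115 = n117427 := rfl
theorem F183931 : act 2 n117427 = n54128 := d4_1 D117427 (iv7 F176932) F176931
theorem F183932 : act 4 n117427 = n54117 := d11_1 D117427 (iv7 D54117) D54115
theorem F183933 : act 6 n92730 = n117427 := d10_0 F183932 (iv6 F85431) D92730
def n117430 : Q := act 7 n54116
theorem D117430 : act 7 n54116 = n117430 := rfl
theorem F183936 : act 6 n117430 = n92731 := d14_1 D117430 (iv7 D92731) F85431 (iv7 D54117) D54116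
def n117431 : Q := act 3 n54118
theorem D117431 : act 3 n54118 = n117431 := rfl
theorem F183937 : act 4 n117431 = n67948 := d5_2 (iv4 F85433) D117431 (iv3 D67948) (iv4 D31619) (iv3 F49935)
def n117432 : Q := act 5 n54118
theorem D117432 : act 5 n54118 = n117432 := rfl
def n117433 : Q := act 6 n54118
theorem D117433 : act 6 n54118 = n117433 := rfl
theorem F183938 : act 4 n117433 = n67946 := d10_1 D117433 (iv6 D67946) (iv4 F85433)
theorem F183939 : act 0 n117433 = n75937 := d20_7 F43100 (iv1 F54953) F54954 (iv3 F60611) F155281 (iv3 F104048) (iv4 F183938) (iv4 D75937) (iv3 D34703) (iv1 F43103)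
def n117434 : Q := act 3 n54119
theorem D117434 : act 3 n54119 = n117434 := rfl
theorem F183940 : act 4 n117434 = n68874 := d5_2 (iv4 F94296) D117434 (iv3 D68874) (iv4 F104010) F104008
theorem F183941 : act 0 n117434 = n67130 := d20_4 F104912 (iv1 F104045) (iv4 F94296) D117434 (iv3 D67130) (iv4 D31243) F103075 D66854 F102709 D68723
def n117435 : Q := act 5 n54119
theorem D117435 : act 5 n54119 = n117435 := rfl
def n117436 : Q := act 6 n54119
theorem D117436 : act 6 n54119 = n117436 := rfl
def n117437 : Q := act 0 n54120
theorem D117437 : act 0 n54120 = n117437 := rfl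
def n117438 : Q := act 1 n54120
theorem D117438 : act 1 n54120 = n117438 := rfl
def n117439 : Q := act 2 n54120
theorem D117439 : act 2 n54120 = n117439 := rfl
def n117440 : Q := act 5 n54120
theorem D117440 : act 5 n54120 = n117440 := rfl
theorem F183942 : act 3 n117440 = n54121 := d6_1 D117440 (iv5 D54121) D54120
def n117441 : Q := act 6 n54120
theorem D117441 : act 6 n54120 = n117441 := rfl
theorem F183943 : act 3 n117441 = n54122 := d7_1 D117441 (iv6 D54122) D54120
def n117442 : Q := act 7 n54120
theorem D117442 : act 7 n54120 = n117442 := rfl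
theorem F183944 : act 3 n117442 = n54123 := d8_1 D117442 (iv7 D54123) D54120
def n117443 : Q := act 0 n54121
theorem D117443 : act 0 n54121 = n117443 := rfl
theorem F183945 : act 5 n117443 = n54154 := d17_1 D117443 (iv1 F85486) D54164 (iv4 F177151) (iv5 D113855) (iv0 D52571) D52574 D113866 (iv4 F177162)
theorem F183946 : act 1 n54131 = n117443 := d17_6 (iv1 F41538) (iv5 D26178) (iv1 F20689) D12425 D26195 D54131 F183945 (iv0 D54154) (iv4 D26204)
def n117444 : Q := act 1 n54121
theorem D117444 : act 1 n54121 = n117444 := rfl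
theorem F183947 : act 1 n117444 = n54131 := d15_1 D117444 (iv7 F183526) F183525
theorem F183948 : act 5 n117444 = n54155 := d17_7 (iv1 D12431) (iv5 D5911) D5908 D12420 D26189 D54121 D117444 F85487 (iv4 D26206)
def n117445 : Q := act 6 n54121
theorem D117445 : act 6 n54121 = n117445 := rfl
def n117446 : Q := act 7 n54121
theorem D117446 : act 7 n54121 = n117446 := rfl
theorem F183949 : act 2 n117446 = n54131 := d4_1 D117446 (iv7 F183526) F183525
theorem F183950 : act 5 n117446 = n54123 := d13_1 D117446 (iv7 D54123) D54121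
def n117447 : Q := act 0 n54122
theorem D117447 : act 0 n54122 = n117447 := rfl
def n117448 : Q := act 1 n54122
theorem D117448 : act 1 n54122 = n117448 := rfl
def n117449 : Q := act 5 n54122
theorem D117449 : act 5 n54122 = n117449 := rfl
def n117450 : Q := act 7 n54122
theorem D117450 : act 7 n54122 = n117450 := rfl
theorem F183951 : act 4 n117450 = n54126 := d11_1 D117450 (iv7 D54126) (iv4 F85436)
def n117451 : Q := act 6 n54123
theorem D117451 : act 6 n54123 = n117451 := rfl
theorem F183952 : act 2 n117451 = n54132 := d3_1 D117451 (iv6 D54132) (iv2 F85437)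
theorem F183953 : act 4 n117451 = n54127 := d10_1 D117451 (iv6 D54127) (iv4 F85438)
def n117452 : Q := act 4 n54124
theorem D117452 : act 4 n54124 = n117452 := rfl
theorem F183954 : act 2 n117452 = n68756 := d1_1 D117452 (iv4 D68756) (iv2 F183641)
def n117453 : Q := act 5 n54124
theorem D117453 : act 5 n54124 = n117453 := rfl
theorem F183955 : act 2 n117453 = n68757 := d2_1 D117453 (iv5 D68757) (iv2 F183641)
theorem F183956 : act 7 n117453 = n69614 := d13_2 (iv7 F183643) D117453 F183506
theorem F183957 : act 0 n117453 = n69616 := d21_1 D117453 (iv5 F130902) (iv6 D54203) (iv1 D26215) (iv6 D12433) (iv5 D5911) D5908 D12420 D26190 D54124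
theorem F183958 : act 0 n69604 = n117453 := d21_10 (iv5 D117453) (iv1 F183518) F183515 F85277 (iv1 F105021) F131181 D73953 (iv1 F131180) (iv5 D69603) D69604
def n117454 : Q := act 6 n54124
theorem D117454 : act 6 n54124 = n117454 := rfl
theorem F183959 : act 2 n117454 = n68758 := d3_1 D117454 (iv6 D68758) (iv2 F183641)
theorem F183960 : act 0 n55014 = n117454 := d21_4 F20697 D12710 D26596 D55014 (iv6 D117454) D117453 F183957 (iv5 F130902) (iv6 D54203) (iv1 D26215)
def n117455 : Q := act 6 n54126
theorem D117455 : act 6 n54126 = n117455 := rfl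
theorem F183961 : act 2 n117455 = n54136 := d3_1 D117455 (iv6 F183516) F183513
theorem F183962 : act 7 n117455 = n54127 := d14_2 D54126 D117455 (iv6 D54127) (iv7 D26191) D26190
theorem F183963 : act 1 n54134 = n117455 := d15_1 D54134 F183962 F85439
def n117456 : Q := act 3 n54128
theorem D117456 : act 3 n54128 = n117456 := rfl
def n117457 : Q := act 6 n54128
theorem D117457 : act 6 n54128 = n117457 := rfl
theorem F183965 : act 2 n117457 = n92730 := d3_1 D117457 F183933 F183931
theorem F183966 : act 4 n117457 = n54129 := d10_1 D117457 (iv6 D54129) D54128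
def n117458 : Q := act 0 n54129
theorem D117458 : act 0 n54129 = n117458 := rfl
def n117459 : Q := act 1 n54129
theorem D117459 : act 1 n54129 = n117459 := rfl
theorem F183967 : act 1 n117459 = n92731 := d15_1 D117459 (iv7 D92731) (iv2 F85440)
theorem F183968 : act 5 n90244 = n117459 := d21_6 F40414 F40415 (iv5 D19907) D19908 D42179 D90244 (iv1 D117459) F85441 (iv6 D43376) (iv1 F32580)
theorem F183969 : act 2 n117459 = n92719 := d2_1 F183968 F142932 F142389
theorem F183970 : act 7 n117459 = n92729 := d13_2 F145647 F183968 (iv5 F145646)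
theorem E18188 : n117458 = n90500 := ((c15_4 (iv0 D117458) D117459 F183970 (iv2 F142964))).symm
theorem F183971 : act 1 n90500 = n54129 := (sb E18188 (iv0 D117458))
theorem E18189 : n88246 = n88193 := ((c17_2 (iv1 F134612) D88193 (iv1 D88246) D88249 (iv4 F145638) F145639 F183971 F85441 F142914 F142911)).symm
theorem F183972 : act 0 n88193 = n41185 := (sb E18189 (iv1 D88246))
def n117460 : Q := act 7 n54129
theorem D117460 : act 7 n54129 = n117460 := rfl
theorem F183974 : act 5 n117460 = n92710 := d13_1 D117460 F142905 (iv5 F85441)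
theorem F183975 : act 1 n92719 = n117460 := d15_1 (iv0 F142934) (iv7 D117460) F85440
theorem F183976 : act 1 n117460 = n92729 := d15_1 F183975 (iv7 F183970) F183969
def n117461 : Q := act 0 n54130
theorem D117461 : act 0 n54130 = n117461 := rfl
def n117462 : Q := act 1 n54130
theorem D117462 : act 1 n54130 = n117462 := rfl
def n117463 : Q := act 2 n54130
theorem D117463 : act 2 n54130 = n117463 := rfl
def n117464 : Q := act 5 n54130
theorem D117464 : act 5 n54130 = n117464 := rfl
theorem F183977 : act 3 n117464 = n54131 := d6_1 D117464 (iv5 D54131) D54130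
def n117465 : Q := act 6 n54130
theorem D117465 : act 6 n54130 = n117465 := rfl
theorem F183978 : act 3 n117465 = n54132 := d7_1 D117465 (iv6 D54132) D54130
def n117467 : Q := act 0 n54132
theorem D117467 : act 0 n54132 = n117467 := rfl
def n117468 : Q := act 1 n54132
theorem D117468 : act 1 n54132 = n117468 := rfl
def n117469 : Q := act 5 n54132
theorem D117469 : act 5 n54132 = n117469 := rfl
def n117470 : Q := act 7 n54132
theorem D117470 : act 7 n54132 = n117470 := rfl
theorem F183979 : act 4 n117470 = n54136 := d11_1 D117470 (iv7 D54136) (iv4 F85442)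
def n117471 : Q := act 2 n54133
theorem D117471 : act 2 n54133 = n117471 := rfl
theorem F183980 : act 7 n54134 = n117471 := d15_2 (iv0 D54133) D54134 (iv2 D117471)
def n117476 : Q := act 7 n54133
theorem D117476 : act 7 n54133 = n117476 := rfl
theorem F183981 : act 2 n117476 = n54134 := d4_1 D117476 F183980 (iv2 D117471)
def n117477 : Q := act 3 n54134
theorem D117477 : act 3 n54134 = n117477 := rfl
def n117478 : Q := act 4 n54134
theorem D117478 : act 4 n54134 = n117478 := rfl
def n117479 : Q := act 5 n54134
theorem D117479 : act 5 n54134 = n117479 := rfl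
theorem F183982 : act 6 n54932 = n117479 := d21_5 (iv5 D26288) F27042 D26727 F42849 D54932 (iv5 D117479) (iv1 D54134) D54135 F85444 F46707
theorem F183983 : act 2 n117479 = n68928 := d3_1 F183982 (iv6 F105099) (iv2 F113952)
theorem E18190 : n68926 = n54134 := (c2_4 D117479 F183983 (iv5 D68928) D68926)
theorem E18191 : n117381 = n26196 := ((((iv1 D54134)).symm.trans (sb E18190 (iv1 F183817)))).symm
theorem E18192 : n117455 = n117380 := ((F183963).symm.trans (sb E18190 F183813))
theorem E18193 : n117476 = n32052 := (((iv2 F183981)).symm.trans (sb E18190 (iv2 D68926)))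
theorem E18194 : n117477 = n117392 := ((D117477).symm.trans (sb E18190 (iv3 F183839)))
theorem E18195 : n117471 = n117382 := ((F183980).symm.trans (sb E18190 (iv7 F183815)))
theorem E18196 : n54133 = n54093 := ((D54133).symm.trans (sb E18191 (iv1 D117381)))
theorem F183984 : act 0 n117380 = n54134 := (sb E18192 (iv1 F183963))
theorem F183985 : act 2 n117380 = n54136 := (sb E18192 F183961)
theorem F183986 : act 6 n117380 = n54126 := (sb E18192 (iv6 D117455))
theorem F183987 : act 7 n117380 = n54127 := (sb E18192 F183962)
theorem F183988 : act 2 n32052 = n54134 := (sb E18193 F183981)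
theorem F183989 : act 3 n117392 = n54134 := (sb E18194 (iv3 D117477))
theorem F183990 : act 7 n117382 = n54134 := (sb E18195 (iv7 F183980))
theorem F183991 : act 1 n54093 = n26196 := (sb E18196 (iv0 D54133))
theorem F183992 : act 2 n117478 = n68927 := d1_3 (iv4 D68927) F183988 D117478
def n117480 : Q := act 6 n54134
theorem D117480 : act 6 n54134 = n117480 := rfl
theorem F183993 : act 2 n117480 = n55012 := d3_1 D117480 F113950 F183988
theorem F183994 : act 3 n117480 = n73853 := d7_1 D117480 (iv6 F183840) F183989
theorem F183995 : act 7 n55011 = n117480 := d4_0 F183993 F113951 (iv2 F113946)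
theorem F183996 : act 1 n117480 = n54908 := d15_0 F110801 (iv7 F113951) (iv2 F183993)
theorem F183997 : act 1 n54903 = n117480 := d15_0 F183996 F162709 (iv2 F162718)
def n117481 : Q := act 0 n54135
theorem D117481 : act 0 n54135 = n117481 := rfl
def n117482 : Q := act 1 n54135
theorem D117482 : act 1 n54135 = n117482 := rfl
def n117483 : Q := act 4 n54135
theorem D117483 : act 4 n54135 = n117483 := rfl
theorem F183998 : act 6 n117483 = n54138 := d10_2 (iv6 F85444) D117483 (iv4 D54138)
def n117484 : Q := act 7 n54135
theorem D117484 : act 7 n54135 = n117484 := rfl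
theorem F183999 : act 3 n117484 = n68946 := d8_1 D117484 F105110 (iv3 F85443)
theorem F184000 : act 5 n117484 = n54136 := d13_1 D117484 (iv7 D54136) D54135
theorem F184001 : act 6 n117484 = n68901 := d14_1 D117484 (iv7 D68901) F50668 (iv7 F41589) (iv6 F85444)
theorem F184002 : act 0 n84995 = n68901 := d21_4 F86883 (iv1 F42551) D39308 D84995 (iv6 F184001) F184000 F130254 D68928 (iv6 F105099) (iv1 F130247)
def n117485 : Q := act 4 n54137
theorem D117485 : act 4 n54137 = n117485 := rfl
theorem F184003 : act 2 n117485 = n55621 := d1_1 D117485 (iv4 D55621) (iv2 F85445)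
theorem F184004 : act 3 n117485 = n71880 := d5_1 D117485 F108371 (iv3 F105280) (iv4 D69061) (iv3 F85446)
theorem F184005 : act 5 n117485 = n60250 := d9_2 D54137 D117485 (iv4 F136433) (iv5 D88911) (iv4 F69380) (iv5 F82940) F82939 F41412 D35054 (iv5 F114724) (iv4 F129799) F129797 (iv4 F69348) (iv5 F83067) F83068
theorem F184006 : act 7 n117485 = n55623 := d11_2 (iv7 F85447) D117485 (iv4 D55623)
theorem F184007 : act 0 n117485 = n76685 := d17_0 (iv5 F134969) F134971 (iv5 D70296) (iv4 D32624) (iv5 D15447) (iv0 F27053) (iv5 F43296) (iv0 F85448) D117485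
theorem F184008 : act 1 n117485 = n60269 := d18_6 F77093 (iv4 F138842) F138843 F83068 D54137 D117485 (iv4 F114721) F114723 (iv5 D61656)
def n117486 : Q := act 6 n54137
theorem D117486 : act 6 n54137 = n117486 := rfl
theorem F184009 : act 2 n117486 = n55622 := d3_1 D117486 (iv6 D55622) (iv2 F85445)
theorem F184010 : act 3 n117486 = n69062 := d7_1 D117486 (iv6 D69062) (iv3 F85446)
theorem F184011 : act 5 n117486 = n54838 := d12_1 D117486 (iv6 D54838) (iv5 D26529) (iv6 F41587) D54137
def n117487 : Q := act 0 n54138
theorem D117487 : act 0 n54138 = n117487 := rfl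
theorem F184012 : act 5 n117487 = n56692 := d17_1 D117487 (iv1 F134974) F134977 (iv4 D55305) (iv5 D26727) (iv0 F27042) D26288 (iv0 F46707) D54138
theorem F184013 : act 4 n117487 = n70047 := d18_1 D117487 F115238 F115235 F108410 F94803 (iv0 D37480) (iv4 F58357) D81847 F125807
theorem F184014 : act 2 n68905 = n117487 := d15_3 (iv0 D117487) (iv0 F134982) F134980
theorem F184015 : act 1 n68840 = n117487 := d15_0 (iv0 D117487) F85450 (iv2 F105028)
theorem F184016 : act 7 n117487 = n68904 := d15_2 F134983 F184015 (iv2 F134979)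
theorem F184017 : act 3 n56693 = n117487 := d19_19 (iv1 F184015) (iv5 F125801) F125800 F72631 (iv1 F61860) F51566 (iv4 F71395) F71394 (iv1 F34053) D44674 (iv4 F109562) (iv3 F163331) F163334 (iv5 F83250) (iv4 F55944) (iv3 D35197) (iv1 F29193) D37561 (iv4 F89660)
def n117488 : Q := act 3 n54138
theorem D117488 : act 3 n54138 = n117488 := rfl
theorem F184019 : act 5 n117488 = n82548 := d6_2 F125807 D117488 F127185
theorem F184020 : act 7 n117488 = n68906 := d8_2 (iv7 F85450) D117488 (iv3 D68906)
def n117489 : Q := act 0 n54139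
theorem D117489 : act 0 n54139 = n117489 := rfl
theorem F184021 : act 4 n117489 = n113794 := d18_3 D26199 D54139 D117489 (iv5 D113794) F83034 (iv0 D52501) F40283 F26925 D12429
theorem F184022 : act 2 n54154 = n117489 := d15_3 (iv0 D117489) (iv0 F104084) F104083
theorem F184023 : act 1 n54142 = n117489 := d15_0 (iv0 D117489) F85452 (iv2 F85462)
theorem F184024 : act 7 n117489 = n54155 := d15_2 F104085 F184023 (iv2 F104082)
def n117490 : Q := act 3 n54139
theorem D117490 : act 3 n54139 = n117490 := rfl
theorem F184025 : act 4 n117490 = n68806 := d5_2 D54139 D117490 F105000 F50371 (iv3 F41593)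
theorem F184026 : act 7 n117490 = n54163 := d8_2 (iv7 F85452) D117490 (iv3 D54163)
def n117491 : Q := act 5 n54139
theorem D117491 : act 5 n54139 = n117491 := rfl
theorem F184027 : act 2 n117491 = n54157 := d2_1 D117491 (iv5 D54157) (iv2 F85451)
theorem F184028 : act 7 n117491 = n54164 := d13_2 (iv7 F85452) D117491 (iv5 D54164)
theorem F184029 : act 0 n117491 = n117435 := d17_2 F104084 D117491 (iv5 D117435) F94296 F94294 F85129 (iv5 F85495) F85496 D67973
theorem F184030 : act 1 n117491 = n117432 := d17_6 F28388 (iv5 D17416) (iv1 F26735) F41591 D54139 D117491 (iv5 D117432) (iv0 D54118) (iv4 D26189)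
def n117492 : Q := act 6 n54139
theorem D117492 : act 6 n54139 = n117492 := rfl
theorem F184031 : act 2 n117492 = n54158 := d3_1 D117492 (iv6 D54158) (iv2 F85451)
theorem F184032 : act 4 n117492 = n54140 := d10_1 D117492 (iv6 D54140) D54139
def n117493 : Q := act 1 n54140
theorem D117493 : act 1 n54140 = n117493 := rfl
theorem F184033 : act 1 n117493 = n54162 := d15_1 D117493 (iv7 D54162) (iv2 F85453)
theorem F184034 : act 7 n117493 = n54159 := d15_2 (iv0 F183454) D117493 F183596
theorem F184035 : act 2 n54160 = n117493 := d4_3 F184034 F183596 (iv7 F183598)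
theorem F184036 : act 3 n117493 = n69368 := d0_2 (iv3 F183597) F184035 (iv2 D69368) (iv3 D32232) F183562
theorem E18201 : n69346 = n54162 := ((c15_1 F184033 (iv0 D69346) (iv7 F183598) F184035)).symm
theorem F184037 : act 1 n54162 = n32227 := (sb E18201 (iv0 D69346))
def n117494 : Q := act 7 n54140
theorem D117494 : act 7 n54140 = n117494 := rfl
theorem F184039 : act 3 n117494 = n69736 := d8_1 D117494 (iv7 D69736) (iv3 F85454)
theorem F184040 : act 5 n117494 = n74089 := d13_1 D117494 (iv7 D74089) (iv5 F85455)
theorem F184041 : act 6 n117494 = n54169 := d14_1 D117494 (iv7 D54169) (iv6 D26207) (iv7 F41594) D54140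
theorem F184042 : act 1 n54160 = n117494 := d15_1 D54160 (iv7 D117494) F85453
theorem F184043 : act 1 n117494 = n54159 := d15_1 F184042 (iv7 F184034) (iv2 F184035)
def n117495 : Q := act 6 n54141
theorem D117495 : act 6 n54141 = n117495 := rfl
theorem F184044 : act 2 n117495 = n69739 := d3_1 D117495 (iv6 D69739) (iv2 F85456)
theorem F184045 : act 3 n117495 = n54143 := d7_1 D117495 (iv6 D54143) D54141
theorem F184047 : act 5 n117495 = n71641 := d12_1 D117495 (iv6 D71641) F52354 (iv6 F50523) (iv5 F85457)
def n117496 : Q := act 3 n54142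
theorem D117496 : act 3 n54142 = n117496 := rfl
theorem F184049 : act 4 n117496 = n105805 := d5_2 D54142 D117496 (iv3 D105805) (iv4 F85459) (iv3 D54141)
theorem F184050 : act 7 n117496 = n54156 := d8_2 (iv7 F85463) D117496 (iv3 D54156)
def n117497 : Q := act 5 n54142
theorem D117497 : act 5 n54142 = n117497 := rfl
theorem F184051 : act 2 n117497 = n54164 := d2_1 D117497 (iv5 D54164) (iv2 F85462)
theorem F184052 : act 7 n117497 = n54157 := d13_2 (iv7 F85463) D117497 (iv5 D54157)
theorem F184053 : act 0 n117497 = n117432 := d17_2 (iv1 F184023) D117497 (iv5 D117432) F85433 (iv5 D31615) (iv0 F49934) (iv5 F85503) (iv0 F177058) (iv4 F184021)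
theorem F184054 : act 1 n117497 = n117435 := d17_6 (iv1 F41453) (iv5 D14851) D14848 F41597 D54142 D117497 (iv5 D117435) F85435 (iv4 D26195)
def n117498 : Q := act 6 n54142
theorem D117498 : act 6 n54142 = n117498 := rfl
theorem F184055 : act 2 n117498 = n54165 := d3_1 D117498 (iv6 D54165) (iv2 F85462)
theorem F184056 : act 4 n117498 = n54143 := d10_1 D117498 (iv6 D54143) D54142
def n117499 : Q := act 0 n54143
theorem D117499 : act 0 n54143 = n117499 := rfl
theorem F184057 : act 2 n54244 = n117499 := d15_3 (iv0 D117499) F112123 (iv7 F105727)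
theorem F184058 : act 3 n117499 = n69429 := d0_2 D54244 F184057 (iv2 D69429) (iv3 D32251) F105726
theorem F184059 : act 7 n117499 = n69448 := d4_2 (iv7 F105727) F184057 (iv2 D69448)
def n117500 : Q := act 7 n54143
theorem D117500 : act 7 n54143 = n117500 := rfl
theorem F184062 : act 6 n117500 = n54162 := d14_1 D117500 (iv7 D54162) (iv6 D26205) (iv7 F41596) D54143
theorem F184063 : act 1 n54167 = n117500 := d15_1 D54167 (iv7 D117500) F85464
def n117501 : Q := act 3 n54144
theorem D117501 : act 3 n54144 = n117501 := rfl
theorem F184065 : act 4 n117501 = n59899 := d5_2 (iv4 F85465) D117501 (iv3 D59899) (iv4 D28451) D28450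
theorem F184066 : act 7 n117501 = n54175 := d8_2 (iv7 F85499) D117501 (iv3 D54175)
def n117502 : Q := act 5 n54144
theorem D117502 : act 5 n54144 = n117502 := rfl
theorem F184067 : act 2 n117502 = n54173 := d2_1 D117502 (iv5 D54173) (iv2 F85498)
theorem F184068 : act 7 n117502 = n54177 := d13_2 (iv7 F85499) D117502 (iv5 D54177)
theorem F184069 : act 0 n117502 = n67860 := d17_2 D54144 D117502 (iv5 D67860) (iv4 D31524) (iv5 D14851) D14849 F41591 (iv0 D26199) D26201
theorem F184070 : act 1 n117502 = n79049 := d17_6 (iv1 F104042) (iv5 D67944) (iv1 F84935) F84929 (iv4 F85465) D117502 (iv5 D79049) F103908 F103907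
def n117503 : Q := act 6 n54144
theorem D117503 : act 6 n54144 = n117503 := rfl
theorem F184071 : act 2 n117503 = n54174 := d3_1 D117503 (iv6 D54174) (iv2 F85498)
theorem F184072 : act 4 n117503 = n59896 := d10_1 D117503 (iv6 D59896) (iv4 F85465)
def n117504 : Q := act 3 n54145
theorem D117504 : act 3 n54145 = n117504 := rfl
theorem F184073 : act 7 n117504 = n54171 := d8_2 F85501 D117504 (iv3 D54171)
def n117505 : Q := act 5 n54145
theorem D117505 : act 5 n54145 = n117505 := rfl
theorem F184074 : act 2 n117505 = n54177 := d2_1 D117505 (iv5 D54177) F85500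
theorem F184075 : act 7 n117505 = n54173 := d13_2 F85501 D117505 (iv5 D54173)
theorem F184076 : act 0 n117505 = n79049 := d17_2 (iv1 F85467) D117505 (iv5 D79049) (iv4 D35976) (iv5 D17416) F26729 F41597 F41595 (iv4 F41607)
theorem F184077 : act 1 n117505 = n67860 := d17_6 (iv1 F84934) F50613 F55392 D76535 F114753 D117505 (iv5 D67860) D67859 (iv4 F103913)
def n117506 : Q := act 6 n54145
theorem D117506 : act 6 n54145 = n117506 := rfl
theorem F184078 : act 2 n117506 = n54178 := d3_1 D117506 (iv6 D54178) F85500
def n117507 : Q := act 0 n54146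
theorem D117507 : act 0 n54146 = n117507 := rfl
theorem F184079 : act 1 n67151 = n117507 := d15_0 (iv0 D117507) (iv7 F183878) F183876
def n117508 : Q := act 1 n54146
theorem D117508 : act 1 n54146 = n117508 := rfl
def n117509 : Q := act 2 n54146
theorem D117509 : act 2 n54146 = n117509 := rfl
theorem F184080 : act 3 n117509 = n54181 := d0_2 D54146 D117509 (iv2 D54181) (iv3 D26210) (iv2 F41599)
theorem F184081 : act 4 n117509 = n69089 := d1_2 (iv4 F85468) D117509 (iv2 D69089)
theorem F184082 : act 7 n117509 = n67151 := d4_2 F183878 D117509 (iv2 F183876)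
theorem F184083 : act 1 n117508 = n67151 := d15_1 D117508 (iv7 F184082) (iv2 D117509)
def n117511 : Q := act 6 n54146
theorem D117511 : act 6 n54146 = n117511 := rfl
theorem F184085 : act 3 n117511 = n54148 := d7_1 D117511 (iv6 D54148) D54146
theorem F184086 : act 4 n117511 = n69091 := d10_1 D117511 (iv6 D69091) (iv4 F85468)
def n117513 : Q := act 1 n54147
theorem D117513 : act 1 n54147 = n117513 := rfl
theorem F184093 : act 5 n117513 = n68723 := d17_7 (iv1 F41573) F41571 F26926 D12429 D26201 D54147 D117513 (iv0 D68723) (iv4 D31975)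
theorem F184094 : act 2 n54185 = n117513 := d2_3 F184093 (iv2 F104913) (iv5 F103914)
def n117514 : Q := act 6 n54147
theorem D117514 : act 6 n54147 = n117514 := rfl
theorem F184095 : act 2 n117514 = n54187 := d3_1 D117514 (iv6 D54187) (iv2 F85469)
def n117515 : Q := act 0 n54148
theorem D117515 : act 0 n54148 = n117515 := rfl
def n117516 : Q := act 1 n54148
theorem D117516 : act 1 n54148 = n117516 := rfl
theorem F184096 : act 1 n117516 = n54192 := d15_1 D117516 (iv7 D54192) (iv2 F85470)
def n117517 : Q := act 5 n54148
theorem D117517 : act 5 n54148 = n117517 := rfl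
theorem F184097 : act 2 n117517 = n54191 := d2_1 D117517 (iv5 D54191) (iv2 F85470)
def n117518 : Q := act 7 n54148
theorem D117518 : act 7 n54148 = n117518 := rfl
theorem F184098 : act 2 n117518 = n54192 := d4_1 D117518 (iv7 D54192) (iv2 F85470)
theorem F184099 : act 4 n117518 = n54151 := d11_1 D117518 (iv7 D54151) (iv4 F85471)
theorem F184100 : act 1 n54192 = n117515 := d15_0 (iv0 D117515) D117518 F184098
theorem F184101 : act 1 n54190 = n117518 := d15_1 D54190 (iv7 D117518) F85470
theorem F184102 : act 4 n59934 = n117515 := d20_6 D15232 (iv1 F28981) F22738 (iv3 F22731) D28465 D59934 (iv1 F184100) F85518 F41608 (iv1 F20716)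
theorem F184103 : act 1 n117518 = n54189 := d15_0 (iv0 D54189) D54192 (iv2 F184098)
def n117519 : Q := act 4 n54149
theorem D117519 : act 4 n54149 = n117519 := rfl
theorem F184104 : act 2 n117519 = n54196 := d1_1 D117519 (iv4 D54196) (iv2 F113754)
theorem F184105 : act 7 n117519 = n54201 := d11_2 (iv7 F113755) D117519 (iv4 D54201)
def n117520 : Q := act 5 n54149
theorem D117520 : act 5 n54149 = n117520 := rfl
theorem F184106 : act 2 n117520 = n54197 := d2_1 D117520 (iv5 D54197) (iv2 F113754)
theorem F184107 : act 6 n117520 = n71701 := d12_2 F130881 D117520 (iv5 F130885) (iv6 D55544) D55543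
theorem F184108 : act 7 n117520 = n54202 := d13_2 (iv7 F113755) D117520 (iv5 D54202)
theorem F184109 : act 0 n117520 = n69588 := d21_1 D117520 (iv5 F113949) F113950 (iv1 F130253) (iv6 D54127) F41571 F26926 D12429 D26202 D54149
theorem F184110 : act 0 n54879 = n117520 := d21_10 (iv5 D117520) (iv1 F85477) F41609 F21105 (iv1 F29918) D39323 D85034 (iv1 F130398) (iv5 D54878) D54879
def n117521 : Q := act 3 n54150
theorem D117521 : act 3 n54150 = n117521 := rfl
theorem F184111 : act 5 n117521 = n75841 := d6_2 F85473 D117521 F113734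
theorem F184112 : act 7 n117521 = n54195 := d8_2 (iv7 F113753) D117521 (iv3 D54195)
theorem F184113 : act 4 n117521 = n105818 := d20_6 (iv4 F41661) (iv1 F41660) F41656 (iv3 F41608) (iv1 F85472) D117521 (iv1 D105818) F77131 F37185 D23858
def n117522 : Q := act 4 n54150
theorem D117522 : act 4 n54150 = n117522 := rfl
theorem F184114 : act 2 n117522 = n54201 := d1_1 D117522 (iv4 D54201) (iv2 F113752)
theorem F184115 : act 7 n117522 = n54196 := d11_2 (iv7 F113753) D117522 (iv4 D54196)
def n117523 : Q := act 6 n54150
theorem D117523 : act 6 n54150 = n117523 := rfl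
theorem F184116 : act 2 n117523 = n54203 := d3_1 D117523 (iv6 D54203) (iv2 F113752)
theorem F184117 : act 5 n117523 = n75852 := d12_1 D117523 (iv6 D75852) (iv5 D34677) D34678 F85473
theorem F184118 : act 1 n117523 = n69351 := d15_0 (iv0 F183296) (iv7 F130903) (iv2 F184116)
def n117524 : Q := act 3 n54152
theorem D117524 : act 3 n54152 = n117524 := rfl
theorem F184119 : act 4 n117524 = n54156 := d5_2 D54152 D117524 (iv3 D54156) (iv4 D26204) D26203
theorem F184120 : act 7 n117524 = n105805 := d8_2 (iv7 F85481) D117524 (iv3 D105805)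
def n117525 : Q := act 5 n54152
theorem D117525 : act 5 n54152 = n117525 := rfl
theorem F184121 : act 2 n117525 = n105803 := d2_1 D117525 (iv5 D105803) (iv2 F85480)
def n117526 : Q := act 6 n54152
theorem D117526 : act 6 n54152 = n117526 := rfl
theorem F184124 : act 2 n117526 = n105804 := d3_1 D117526 (iv6 D105804) (iv2 F85480)
theorem F184125 : act 4 n117526 = n54153 := d10_1 D117526 (iv6 D54153) D54152
def n117527 : Q := act 0 n54153
theorem D117527 : act 0 n54153 = n117527 := rfl
theorem F184127 : act 6 n117527 = n68711 := d21_5 (iv5 D16986) D16984 F50654 D54153 D117527 (iv5 D68711) (iv1 D31968) D31969 F50322 F41343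
def n117528 : Q := act 1 n54153
theorem D117528 : act 1 n54153 = n117528 := rfl
def n117529 : Q := act 5 n54153
theorem D117529 : act 5 n54153 = n117529 := rfl
theorem F184128 : act 2 n117529 = n55237 := d2_1 D117529 (iv5 F112629) F112627
theorem F184129 : act 3 n117529 = n54161 := d6_1 D117529 (iv5 D54161) (iv3 F85484)
theorem F184130 : act 6 n117529 = n54650 := d12_2 D54153 D117529 (iv5 F86410) (iv6 D34994) F50654
def n117530 : Q := act 7 n54153
theorem D117530 : act 7 n54153 = n117530 := rfl
theorem F184131 : act 3 n117530 = n54162 := d8_1 D117530 (iv7 D54162) (iv3 F85484)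
def n117531 : Q := act 3 n54154
theorem D117531 : act 3 n54154 = n117531 := rfl
theorem F184132 : act 4 n117531 = n117110 := d5_2 (iv4 F85485) D117531 (iv3 D117110) (iv4 D53973) D53972
def n117532 : Q := act 6 n54154
theorem D117532 : act 6 n54154 = n117532 := rfl
theorem F184133 : act 4 n117532 = n117109 := d10_1 D117532 (iv6 D117109) (iv4 F85485)
def n117533 : Q := act 3 n54155
theorem D117533 : act 3 n54155 = n117533 := rfl
theorem F184134 : act 4 n117533 = n69395 := d5_2 F94292 D117533 (iv3 D69395) (iv4 F105034) F105031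
theorem F184135 : act 0 n117533 = n67189 := d20_4 (iv4 F114753) F114751 F94292 D117533 (iv3 D67189) (iv4 D31268) (iv1 D14752) D14753 (iv3 F41606) (iv1 F85467)
def n117534 : Q := act 6 n54155
theorem D117534 : act 6 n54155 = n117534 := rfl
def n117535 : Q := act 0 n54156
theorem D117535 : act 0 n54156 = n117535 := rfl
def n117536 : Q := act 1 n54156
theorem D117536 : act 1 n54156 = n117536 := rfl
def n117537 : Q := act 2 n54156
theorem D117537 : act 2 n54156 = n117537 := rfl
def n117538 : Q := act 5 n54156
theorem D117538 : act 5 n54156 = n117538 := rfl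
theorem F184136 : act 3 n117538 = n54157 := d6_1 D117538 (iv5 D54157) D54156
def n117539 : Q := act 6 n54156
theorem D117539 : act 6 n54156 = n117539 := rfl
theorem F184137 : act 3 n117539 = n54158 := d7_1 D117539 (iv6 D54158) D54156
def n117540 : Q := act 0 n54157
theorem D117540 : act 0 n54157 = n117540 := rfl
theorem F184138 : act 5 n117540 = n68427 := d17_3 (iv1 D54155) D54157 D117540 (iv4 D68427) F50613 (iv0 F84931) F84929 (iv0 F94291) F94292
theorem F184139 : act 1 n54164 = n117540 := d15_0 (iv0 D117540) (iv7 F184052) F184051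
theorem F184140 : act 2 n117435 = n117540 := d2_3 F184138 F104618 D117435
def n117541 : Q := act 1 n54157
theorem D117541 : act 1 n54157 = n117541 := rfl
theorem F184142 : act 1 n117541 = n54164 := d15_1 D117541 (iv7 F184028) F184027
theorem F184143 : act 7 n117541 = n117435 := d15_2 (iv0 D117540) D117541 F184140
theorem F184144 : act 5 n117541 = n117274 := d17_7 F41452 F24705 D26049 F41539 D26204 D54157 D117541 (iv0 D117274) (iv4 D54048)
theorem F184145 : act 2 n117432 = n117541 := d2_3 F184144 (iv2 F183520) D117432
def n117542 : Q := act 6 n54157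
theorem D117542 : act 6 n54157 = n117542 := rfl
def n117543 : Q := act 0 n54158
theorem D117543 : act 0 n54158 = n117543 := rfl
def n117544 : Q := act 1 n54158
theorem D117544 : act 1 n54158 = n117544 := rfl
def n117545 : Q := act 5 n54158
theorem D117545 : act 5 n54158 = n117545 := rfl
def n117546 : Q := act 7 n54158
theorem D117546 : act 7 n54158 = n117546 := rfl
theorem F184146 : act 4 n117546 = n54162 := d11_1 D117546 (iv7 D54162) (iv4 F85488)
def n117547 : Q := act 3 n54159
theorem D117547 : act 3 n54159 = n117547 := rfl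
theorem F184147 : act 2 n117547 = n54221 := d0_1 D117547 (iv3 D54221) F183568 D32227 (iv2 F183596)
theorem F184148 : act 7 n117547 = n69368 := d8_2 F184034 D117547 (iv3 F184036)
theorem F184149 : act 1 n69367 = n117547 := d15_1 D69367 F184148 (iv2 D69368)
def n117548 : Q := act 4 n54159
theorem D117548 : act 4 n54159 = n117548 := rfl
theorem F184151 : act 2 n117548 = n69349 := d1_1 D117548 (iv4 D69349) (iv2 F183596)
def n117549 : Q := act 5 n54159
theorem D117549 : act 5 n54159 = n117549 := rfl
theorem F184152 : act 2 n117549 = n69350 := d2_1 D117549 (iv5 D69350) (iv2 F183596)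
def n117550 : Q := act 4 n54160
theorem D117550 : act 4 n54160 = n117550 := rfl
theorem F184153 : act 7 n117550 = n69349 := d11_2 (iv7 F183598) D117550 (iv4 D69349)
def n117551 : Q := act 5 n54160
theorem D117551 : act 5 n54160 = n117551 := rfl
theorem F184154 : act 3 n117551 = n54228 := d6_1 D117551 (iv5 D54228) (iv3 F183597)
theorem F184155 : act 7 n117551 = n69350 := d13_2 (iv7 F183598) D117551 (iv5 D69350)
def n117552 : Q := act 6 n54160
theorem D117552 : act 6 n54160 = n117552 := rfl
theorem F184156 : act 3 n117552 = n54229 := d7_1 D117552 (iv6 D54229) (iv3 F183597)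
def n117553 : Q := act 0 n54161
theorem D117553 : act 0 n54161 = n117553 := rfl
theorem F184157 : act 6 n117553 = n54878 := d21_5 F42356 F84927 F84926 (iv6 F85490) D117553 (iv5 D54878) (iv1 D26545) D26546 F42500 (iv1 F51648)
theorem F184158 : act 2 n69379 = n117553 := d3_3 F184157 F113944 (iv6 F105641)
theorem F184159 : act 7 n74088 = n117553 := d15_2 (iv0 F110800) D74088 (iv2 F184158)
def n117554 : Q := act 1 n54161
theorem D117554 : act 1 n54161 = n117554 := rfl
theorem F184160 : act 1 n117554 = n74089 := d15_1 D117554 (iv7 D74089) (iv2 F85489)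
theorem F184161 : act 7 n117554 = n69379 := d15_2 (iv0 D117553) D117554 F184158
theorem F184162 : act 5 n117385 = n117554 := d21_6 (iv5 D26178) (iv1 F20689) D12425 D26196 (iv1 F183991) D117385 (iv1 D117554) (iv5 D54161) (iv6 D26205) (iv1 F41538)
theorem F184163 : act 3 n117554 = n54231 := d6_1 F184162 (iv5 F85565) (iv3 F183822)
theorem F184164 : act 2 n74088 = n117554 := d4_3 F184161 F184158 (iv7 F184159)
theorem F184165 : act 1 n74089 = n117553 := d15_1 F184160 (iv7 F184159) F184164
def n117555 : Q := act 4 n54161
theorem D117555 : act 4 n54161 = n117555 := rfl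
theorem F184167 : act 6 n117555 = n71287 := d10_2 (iv6 F85490) D117555 (iv4 D71287)
def n117556 : Q := act 7 n54161
theorem D117556 : act 7 n54161 = n117556 := rfl
theorem F184169 : act 5 n117556 = n54162 := d13_1 D117556 (iv7 D54162) D54161
theorem F184170 : act 1 n74088 = n117556 := d15_1 D74088 (iv7 D117556) F85489
theorem F184171 : act 1 n117556 = n69379 := d15_1 F184170 (iv7 F184161) (iv2 F184164)
def n117557 : Q := act 0 n54163
theorem D117557 : act 0 n54163 = n117557 := rfl
def n117558 : Q := act 1 n54163
theorem D117558 : act 1 n54163 = n117558 := rfl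
def n117559 : Q := act 2 n54163
theorem D117559 : act 2 n54163 = n117559 := rfl
def n117560 : Q := act 5 n54163
theorem D117560 : act 5 n54163 = n117560 := rfl
theorem F184172 : act 3 n117560 = n54164 := d6_1 D117560 (iv5 D54164) D54163
def n117561 : Q := act 6 n54163
theorem D117561 : act 6 n54163 = n117561 := rfl
theorem F184173 : act 3 n117561 = n54165 := d7_1 D117561 (iv6 D54165) D54163
def n117562 : Q := act 6 n54164
theorem D117562 : act 6 n54164 = n117562 := rfl
def n117563 : Q := act 0 n54165
theorem D117563 : act 0 n54165 = n117563 := rfl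
def n117564 : Q := act 1 n54165
theorem D117564 : act 1 n54165 = n117564 := rfl
def n117565 : Q := act 5 n54165
theorem D117565 : act 5 n54165 = n117565 := rfl
def n117566 : Q := act 7 n54165
theorem D117566 : act 7 n54165 = n117566 := rfl
theorem F184174 : act 4 n117566 = n54169 := d11_1 D117566 (iv7 D54169) (iv4 F85491)
def n117567 : Q := act 2 n54166
theorem D117567 : act 2 n54166 = n117567 := rfl
theorem F184175 : act 7 n54167 = n117567 := d15_2 (iv0 D54166) D54167 (iv2 D117567)
def n117569 : Q := act 4 n54166
theorem D117569 : act 4 n54166 = n117569 := rfl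
def n117570 : Q := act 5 n54166
theorem D117570 : act 5 n54166 = n117570 := rfl
def n117571 : Q := act 6 n54166
theorem D117571 : act 6 n54166 = n117571 := rfl
def n117572 : Q := act 7 n54166
theorem D117572 : act 7 n54166 = n117572 := rfl
theorem F184176 : act 2 n117572 = n54167 := d4_1 D117572 F184175 (iv2 D117567)
def n117573 : Q := act 3 n54167
theorem D117573 : act 3 n54167 = n117573 := rfl
def n117574 : Q := act 4 n54167
theorem D117574 : act 4 n54167 = n117574 := rfl
def n117575 : Q := act 5 n54167
theorem D117575 : act 5 n54167 = n117575 := rfl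
def n117576 : Q := act 6 n54167
theorem D117576 : act 6 n54167 = n117576 := rfl
def n117577 : Q := act 0 n54168
theorem D117577 : act 0 n54168 = n117577 := rfl
def n117578 : Q := act 1 n54168
theorem D117578 : act 1 n54168 = n117578 := rfl
theorem F184177 : act 5 n117454 = n117578 := d21_0 (iv1 D117578) (iv5 D54168) (iv6 D26207) (iv1 D12431) D12433 F20697 D12710 D26596 D55014 F183960
theorem F184178 : act 2 n117578 = n69462 := d2_1 F184177 F105758 (iv2 F183959)
def n117579 : Q := act 4 n54168
theorem D117579 : act 4 n54168 = n117579 := rfl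
theorem F184179 : act 6 n117579 = n61536 := d10_2 (iv6 F85493) D117579 (iv4 D61536)
def n117580 : Q := act 7 n54168
theorem D117580 : act 7 n54168 = n117580 := rfl
theorem F184180 : act 3 n117580 = n61539 := d8_1 D117580 (iv7 D61539) (iv3 F85492)
theorem F184181 : act 5 n117580 = n54169 := d13_1 D117580 (iv7 D54169) D54168
theorem F184182 : act 1 n69462 = n117580 := d15_1 (iv0 F180399) (iv7 D117580) (iv2 F87487)
def n117581 : Q := act 0 n54171
theorem D117581 : act 0 n54171 = n117581 := rfl
def n117582 : Q := act 1 n54171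
theorem D117582 : act 1 n54171 = n117582 := rfl
def n117583 : Q := act 2 n54171
theorem D117583 : act 2 n54171 = n117583 := rfl
def n117584 : Q := act 4 n54171
theorem D117584 : act 4 n54171 = n117584 := rfl
theorem F184183 : act 3 n117584 = n68620 := d5_1 D117584 (iv4 F114732) F114728 (iv4 D54172) D54171
def n117585 : Q := act 5 n54171
theorem D117585 : act 5 n54171 = n117585 := rfl
theorem F184184 : act 3 n117585 = n54173 := d6_1 D117585 (iv5 D54173) D54171
def n117586 : Q := act 6 n54171
theorem D117586 : act 6 n54171 = n117586 := rfl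
theorem F184185 : act 3 n117586 = n54174 := d7_1 D117586 (iv6 D54174) D54171
def n117587 : Q := act 6 n54172
theorem D117587 : act 6 n54172 = n117587 := rfl
theorem F184186 : act 2 n117587 = n59896 := d3_1 D117587 (iv6 D59896) F85497
theorem F184187 : act 4 n117587 = n54174 := d10_1 D117587 (iv6 D54174) D54172
def n117588 : Q := act 0 n54173
theorem D117588 : act 0 n54173 = n117588 := rfl
theorem F184188 : act 5 n117588 = n67856 := d17_3 D26208 D54173 D117588 (iv4 D67856) (iv5 D31523) F41180 F41539 (iv0 D12430) D12432
theorem F184190 : act 1 n54177 = n117588 := d15_0 (iv0 D117588) (iv7 F184075) F184074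
theorem F184191 : act 7 n117588 = n79049 := d15_2 F104918 F184190 F120261
def n117589 : Q := act 6 n54173
theorem D117589 : act 6 n54173 = n117589 := rfl
def n117590 : Q := act 0 n54174
theorem D117590 : act 0 n54174 = n117590 := rfl
def n117591 : Q := act 1 n54174
theorem D117591 : act 1 n54174 = n117591 := rfl
def n117592 : Q := act 5 n54174
theorem D117592 : act 5 n54174 = n117592 := rfl
def n117593 : Q := act 7 n54174
theorem D117593 : act 7 n54174 = n117593 := rfl
def n117594 : Q := act 0 n54175
theorem D117594 : act 0 n54175 = n117594 := rfl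
theorem F184192 : act 4 n117594 = n112488 := d18_3 (iv1 F174320) F169892 D117594 (iv5 D112488) (iv4 D51897) (iv0 F105374) F81843 F81639 D112111
def n117595 : Q := act 1 n54175
theorem D117595 : act 1 n54175 = n117595 := rfl
def n117596 : Q := act 2 n54175
theorem D117596 : act 2 n54175 = n117596 := rfl
theorem F184193 : act 4 n117596 = n109549 := d1_2 F169892 D117596 (iv2 F169896)
def n117597 : Q := act 5 n54175
theorem D117597 : act 5 n54175 = n117597 := rfl
theorem F184194 : act 3 n117597 = n54177 := d6_1 D117597 (iv5 D54177) D54175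
theorem F184195 : act 4 n117597 = n109326 := d16_2 F169892 D117597 (iv5 D109326) D109325 (iv5 F171304) F170381 F171323 (iv7 F169897) (iv2 F169896)
def n117598 : Q := act 6 n54175
theorem D117598 : act 6 n54175 = n117598 := rfl
theorem F184196 : act 3 n117598 = n54178 := d7_1 D117598 (iv6 D54178) D54175
def n117599 : Q := act 6 n54176
theorem D117599 : act 6 n54176 = n117599 := rfl
theorem F184198 : act 4 n117599 = n54178 := d10_1 D117599 (iv6 D54178) D54176
theorem F184199 : act 5 n117599 = n108302 := d12_1 D117599 (iv6 D108302) (iv5 D50014) (iv6 F50950) (iv5 F85503)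
def n117600 : Q := act 6 n54177
theorem D117600 : act 6 n54177 = n117600 := rfl
def n117602 : Q := act 1 n54178
theorem D117602 : act 1 n54178 = n117602 := rfl
def n117603 : Q := act 5 n54178
theorem D117603 : act 5 n54178 = n117603 := rfl
def n117604 : Q := act 7 n54178
theorem D117604 : act 7 n54178 = n117604 := rfl
def n117605 : Q := act 3 n54179
theorem D117605 : act 3 n54179 = n117605 := rfl
theorem F184200 : act 7 n117605 = n67197 := d8_2 (iv7 F177250) D117605 (iv3 D67197)
def n117606 : Q := act 4 n54179
theorem D117606 : act 4 n54179 = n117606 := rfl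
theorem F184202 : act 7 n117606 = n67198 := d11_2 (iv7 F177250) D117606 (iv4 D67198)
theorem F184203 : act 5 n117606 = n66051 := d18_4 (iv1 D26235) (iv4 F41603) D54179 D117606 F169571 (iv0 D109592) F79933 D50591 F169670
theorem F184204 : act 1 n117606 = n66078 := d18_8 (iv1 F102778) F100660 F102784 F24111 D14750 D31259 F85506 D117606 F103127
def n117607 : Q := act 5 n54179
theorem D117607 : act 5 n54179 = n117607 := rfl
theorem F184205 : act 2 n117607 = n67204 := d2_1 D117607 (iv5 D67204) (iv2 F177249)
theorem F184206 : act 7 n117607 = n67199 := d13_2 (iv7 F177250) D117607 (iv5 D67199)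
def n117608 : Q := act 6 n54179
theorem D117608 : act 6 n54179 = n117608 := rfl
theorem F184207 : act 2 n117608 = n67205 := d3_1 D117608 (iv6 D67205) (iv2 F177249)
def n117609 : Q := act 3 n54180
theorem D117609 : act 3 n54180 = n117609 := rfl
def n117610 : Q := act 5 n54180
theorem D117610 : act 5 n54180 = n117610 := rfl
theorem F184209 : act 2 n117610 = n67199 := d2_1 D117610 (iv5 D67199) (iv2 F177247)
theorem F184210 : act 7 n117610 = n67204 := d13_2 (iv7 F177248) D117610 (iv5 D67204)
def n117611 : Q := act 6 n54180
theorem D117611 : act 6 n54180 = n117611 := rfl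
theorem F184211 : act 2 n117611 = n67200 := d3_1 D117611 (iv6 D67200) (iv2 F177247)
def n117612 : Q := act 5 n54181
theorem D117612 : act 5 n54181 = n117612 := rfl
theorem F184212 : act 2 n117612 = n54182 := d2_1 D117612 (iv5 D54182) D54181
theorem F184213 : act 7 n117612 = n67152 := d13_2 (iv7 F85508) D117612 (iv5 D67152)
theorem F184214 : act 4 n117612 = n64866 := d16_2 (iv4 F85507) D117612 (iv5 D64866) (iv4 D30487) (iv5 D14470) F11188 D7029 (iv7 F20709) D26236
theorem F184215 : act 1 n67207 = n117612 := d15_1 D67207 F184213 F103100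
theorem F184216 : act 1 n117612 = n67206 := d15_0 (iv0 D67206) (iv7 F85513) (iv2 F184212)
def n117613 : Q := act 6 n54181
theorem D117613 : act 6 n54181 = n117613 := rfl
theorem F184217 : act 2 n117613 = n54183 := d3_1 D117613 (iv6 D54183) D54181
theorem F184218 : act 4 n117613 = n54263 := d10_1 D117613 (iv6 D54263) (iv4 F85507)
def n117614 : Q := act 0 n54182
theorem D117614 : act 0 n54182 = n117614 := rfl
theorem F184219 : act 1 n67152 = n117614 := d15_0 (iv0 D117614) F85513 (iv2 F103100)
def n117615 : Q := act 1 n54182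
theorem D117615 : act 1 n54182 = n117615 := rfl
theorem F184220 : act 1 n117615 = n67152 := d15_1 D117615 (iv7 F184213) F184212
def n117616 : Q := act 4 n54182
theorem D117616 : act 4 n54182 = n117616 := rfl
theorem F184221 : act 2 n117616 = n64866 := d1_1 D117616 (iv4 F184214) F184212
theorem F184222 : act 7 n117616 = n67208 := d11_2 (iv7 F85513) D117616 (iv4 D67208)
theorem F184223 : act 5 n117616 = n64851 := d16_1 D117616 (iv4 D64851) (iv5 D30484) F24111 D14750 D31259 D67152 (iv7 F184213) F184212
def n117617 : Q := act 6 n54182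
theorem D117617 : act 6 n54182 = n117617 := rfl
theorem F184224 : act 3 n117617 = n54187 := d7_1 D117617 (iv6 D54187) (iv3 F85512)
def n117618 : Q := act 0 n54183
theorem D117618 : act 0 n54183 = n117618 := rfl
def n117619 : Q := act 1 n54183
theorem D117619 : act 1 n54183 = n117619 := rfl
def n117620 : Q := act 5 n54183
theorem D117620 : act 5 n54183 = n117620 := rfl
theorem F184225 : act 3 n117620 = n54191 := d6_1 D117620 (iv5 D54191) (iv3 F85514)
def n117621 : Q := act 7 n54183
theorem D117621 : act 7 n54183 = n117621 := rfl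
theorem F184226 : act 3 n117621 = n54192 := d8_1 D117621 (iv7 D54192) (iv3 F85514)
theorem F184227 : act 4 n117621 = n54267 := d11_1 D117621 (iv7 D54267) (iv4 F85515)
theorem F184228 : act 6 n117621 = n67213 := d14_1 D117621 (iv7 D67213) (iv6 D31274) F41604 D54183
def n117622 : Q := act 3 n54184
theorem D117622 : act 3 n54184 = n117622 := rfl
def n117624 : Q := act 3 n54185
theorem D117624 : act 3 n54185 = n117624 := rfl
theorem F184229 : act 4 n109334 = n117624 := d19_2 D50602 (iv5 F171079) (iv3 D117624) (iv1 D54185) (iv5 D26211) (iv4 D12432) F9156 D5913 F9158 (iv4 D5105) (iv3 F5125) F8692 (iv5 D5657) (iv4 F8681) F10131 F11437 F10365 D11674 D24649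
def n117626 : Q := act 3 n54186
theorem D117626 : act 3 n54186 = n117626 := rfl
def n117627 : Q := act 6 n54186
theorem D117627 : act 6 n54186 = n117627 := rfl
theorem F184230 : act 4 n117627 = n54187 := d10_1 D117627 (iv6 D54187) D54186
def n117628 : Q := act 0 n54187
theorem D117628 : act 0 n54187 = n117628 := rfl
def n117629 : Q := act 1 n54187
theorem D117629 : act 1 n54187 = n117629 := rfl
def n117630 : Q := act 5 n54187
theorem D117630 : act 5 n54187 = n117630 := rfl
theorem F184231 : act 6 n117630 = n54191 := d12_2 D54187 D117630 (iv5 D54191) (iv6 D26212) D26211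
def n117631 : Q := act 7 n54187
theorem D117631 : act 7 n54187 = n117631 := rfl
def n117633 : Q := act 2 n54189
theorem D117633 : act 2 n54189 = n117633 := rfl
theorem F184233 : act 7 n54190 = n117633 := d15_2 (iv0 D54189) D54190 (iv2 D117633)
def n117634 : Q := act 3 n54189
theorem D117634 : act 3 n54189 = n117634 := rfl
def n117635 : Q := act 4 n54189
theorem D117635 : act 4 n54189 = n117635 := rfl
def n117636 : Q := act 5 n54189
theorem D117636 : act 5 n54189 = n117636 := rfl
def n117637 : Q := act 6 n54189
theorem D117637 : act 6 n54189 = n117637 := rfl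
def n117638 : Q := act 7 n54189
theorem D117638 : act 7 n54189 = n117638 := rfl
theorem F184234 : act 2 n117638 = n54190 := d4_1 D117638 F184233 (iv2 D117633)
def n117639 : Q := act 3 n54190
theorem D117639 : act 3 n54190 = n117639 := rfl
def n117640 : Q := act 4 n54190
theorem D117640 : act 4 n54190 = n117640 := rfl
theorem F184235 : act 3 n117640 = n59894 := d20_9 (iv4 F94370) F162456 (iv4 D69249) (iv3 D32198) (iv1 F51108) (iv3 F85475) (iv4 F184099) (iv1 F184101) D117640 (iv1 D59894)
def n117641 : Q := act 5 n54190
theorem D117641 : act 5 n54190 = n117641 := rfl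
def n117642 : Q := act 6 n54190
theorem D117642 : act 6 n54190 = n117642 := rfl
def n117643 : Q := act 0 n54191
theorem D117643 : act 0 n54191 = n117643 := rfl
def n117644 : Q := act 1 n54191
theorem D117644 : act 1 n54191 = n117644 := rfl
def n117645 : Q := act 4 n54191
theorem D117645 : act 4 n54191 = n117645 := rfl
def n117646 : Q := act 7 n54191
theorem D117646 : act 7 n54191 = n117646 := rfl
theorem F184236 : act 5 n117646 = n54192 := d13_1 D117646 (iv7 D54192) D54191
def n117647 : Q := act 6 n54192
theorem D117647 : act 6 n54192 = n117647 := rfl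
theorem F184237 : act 3 n117647 = n67213 := d7_1 D117647 (iv6 F184228) F184226
theorem F184238 : act 4 n117647 = n54204 := d10_1 D117647 (iv6 D54204) (iv4 F85518)
theorem F184239 : act 7 n117647 = n54193 := d14_2 D54192 D117647 (iv6 D54193) (iv7 D26213) D26212
def n117648 : Q := act 0 n54193
theorem D117648 : act 0 n54193 = n117648 := rfl
def n117649 : Q := act 1 n54193
theorem D117649 : act 1 n54193 = n117649 := rfl
def n117650 : Q := act 5 n54193
theorem D117650 : act 5 n54193 = n117650 := rfl
theorem F184240 : act 3 n117650 = n67212 := d6_1 D117650 (iv5 D67212) (iv3 F85519)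
def n117651 : Q := act 0 n54195
theorem D117651 : act 0 n54195 = n117651 := rfl
def n117652 : Q := act 1 n54195
theorem D117652 : act 1 n54195 = n117652 := rfl
def n117653 : Q := act 4 n54195
theorem D117653 : act 4 n54195 = n117653 := rfl
theorem F184241 : act 7 n117653 = n105818 := d11_2 F184112 D117653 (iv4 F184113)
theorem F184242 : act 0 n117653 = n105820 := d20_7 F43127 (iv1 D26239) F20711 (iv3 F20696) D26214 D54195 D117653 F162522 F77134 (iv1 F37199)
theorem F184243 : act 5 n117652 = n54999 := d18_9 (iv1 D54999) D55001 F87009 F77356 (iv5 F77135) (iv4 F162522) (iv0 F184242) (iv4 D117653) D117652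
theorem F184244 : act 0 n105778 = n117653 := d20_1 (iv4 F162452) (iv4 D117653) (iv3 D54195) (iv1 F85479) F85475 (iv4 F105397) (iv1 F105399) D69229 (iv3 F162455) (iv1 D105780)
theorem F184245 : act 2 n73754 = n117652 := d2_3 F184243 F163022 D73754
theorem F184247 : act 2 n117653 = n105817 := d15_3 (iv0 D105817) D105818 (iv7 F184241)
theorem F184248 : act 4 n105817 = n75927 := d1_2 D117653 F184247 (iv2 F130893)
theorem F184249 : act 6 n75926 = n105817 := d10_0 F184248 (iv6 D75927) D75926
def n117654 : Q := act 5 n54195
theorem D117654 : act 5 n54195 = n117654 := rfl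
theorem F184250 : act 3 n117654 = n54197 := d6_1 D117654 (iv5 D54197) D54195
theorem F184251 : act 7 n117654 = n75841 := d13_2 F184112 D117654 (iv5 F184111)
def n117655 : Q := act 0 n54196
theorem D117655 : act 0 n54196 = n117655 := rfl
theorem F184252 : act 1 n54201 = n117655 := d15_0 (iv0 D117655) (iv7 F184115) F184114
def n117656 : Q := act 1 n54196
theorem D117656 : act 1 n54196 = n117656 := rfl
theorem F184253 : act 1 n117656 = n54201 := d15_1 D117656 (iv7 F184105) F184104
def n117657 : Q := act 3 n54196
theorem D117657 : act 3 n54196 = n117657 := rfl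
def n117658 : Q := act 5 n54196
theorem D117658 : act 5 n54196 = n117658 := rfl
def n117659 : Q := act 6 n54196
theorem D117659 : act 6 n54196 = n117659 := rfl
theorem F184254 : act 4 n117659 = n54198 := d10_1 D117659 (iv6 D54198) D54196
def n117660 : Q := act 0 n54197
theorem D117660 : act 0 n54197 = n117660 := rfl
theorem F184255 : act 5 n117660 = n117480 := d21_2 D54197 D117660 (iv6 D117480) (iv1 D54134) (iv6 D26196) (iv5 D12425) (iv1 D5909) D5911 D12433 D26214
theorem E18202 : n73702 = n54904 := ((c21_4 F184255 (iv1 F183997) (iv5 D54903) D54904 (iv1 D73702) (iv6 D33864) D33863 D73698 F120248 (iv6 F110336) D117660)).symm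
theorem F184256 : act 0 n54904 = n33864 := (sb E18202 (iv1 D73702))
theorem F184257 : act 2 n69588 = n117660 := d15_3 (iv0 D117660) F130475 (iv7 F105880)
theorem F184258 : act 1 n54202 = n117660 := d15_0 (iv0 D117660) F113751 (iv2 F113762)
theorem F184259 : act 7 n117660 = n54879 := d15_2 (iv0 F131625) F184258 F113945
theorem F184260 : act 0 n54203 = n117264 := d21_10 (iv5 D117264) (iv1 F183462) F183458 (iv6 F183986) F183984 D117480 (iv5 F184255) (iv1 F184258) (iv5 D54202) D54203
def n117661 : Q := act 4 n54197
theorem D117661 : act 4 n54197 = n117661 := rfl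
theorem F184261 : act 7 n117661 = n75847 := d11_2 (iv7 F113751) D117661 F113737
def n117662 : Q := act 4 n54200
theorem D117662 : act 4 n54200 = n117662 := rfl
theorem F184262 : act 0 n117662 = n116915 := d18_2 (iv1 F130896) D117662 F182680 F84962 (iv4 F56700) (iv0 F110493) (iv4 D55024) D55022 F131163
def n117663 : Q := act 3 n54201
theorem D117663 : act 3 n54201 = n117663 := rfl
def n117664 : Q := act 5 n54201
theorem D117664 : act 5 n54201 = n117664 := rfl
def n117665 : Q := act 6 n54201
theorem D117665 : act 6 n54201 = n117665 := rfl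
theorem F184263 : act 4 n117665 = n54203 := d10_1 D117665 (iv6 D54203) D54201
def n117666 : Q := act 4 n54202
theorem D117666 : act 4 n54202 = n117666 := rfl
theorem F184265 : act 6 n117666 = n75823 := d10_2 (iv6 F85524) D117666 (iv4 D75823)
def n117667 : Q := act 1 n54203
theorem D117667 : act 1 n54203 = n117667 := rfl
def n117668 : Q := act 2 n54205
theorem D117668 : act 2 n54205 = n117668 := rfl
theorem F184266 : act 7 n54206 = n117668 := d15_2 (iv0 D54205) D54206 (iv2 D117668)
def n117669 : Q := act 3 n54205
theorem D117669 : act 3 n54205 = n117669 := rfl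
def n117670 : Q := act 4 n54205
theorem D117670 : act 4 n54205 = n117670 := rfl
def n117671 : Q := act 5 n54205
theorem D117671 : act 5 n54205 = n117671 := rfl
def n117672 : Q := act 6 n54205
theorem D117672 : act 6 n54205 = n117672 := rfl
def n117673 : Q := act 7 n54205
theorem D117673 : act 7 n54205 = n117673 := rfl
theorem F184267 : act 2 n117673 = n54206 := d4_1 D117673 F184266 (iv2 D117668)
def n117674 : Q := act 3 n54206
theorem D117674 : act 3 n54206 = n117674 := rfl
def n117675 : Q := act 4 n54206
theorem D117675 : act 4 n54206 = n117675 := rfl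
def n117676 : Q := act 5 n54206
theorem D117676 : act 5 n54206 = n117676 := rfl
theorem F184268 : act 6 n72112 = n117676 := d21_5 F85532 F52533 (iv5 D33295) D33296 D72112 (iv5 D117676) (iv1 D54206) D54207 F85530 D54208
def n117677 : Q := act 6 n54206
theorem D117677 : act 6 n54206 = n117677 := rfl
def n117678 : Q := act 0 n54207
theorem D117678 : act 0 n54207 = n117678 := rfl
theorem F184269 : act 1 n72097 = n117678 := d15_0 (iv0 D117678) F85531 (iv2 F108552)
def n117679 : Q := act 1 n54207
theorem D117679 : act 1 n54207 = n117679 := rfl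
theorem F184270 : act 1 n117679 = n72097 := d15_1 D117679 (iv7 D72097) (iv2 F85528)
theorem F184271 : act 6 n117679 = n72049 := d21_5 (iv5 D18656) (iv1 F29923) (iv5 F60294) (iv6 F108553) (iv1 F184270) F131194 (iv1 D73649) F108323 (iv6 F110346) (iv1 D39348)
def n117680 : Q := act 4 n54207
theorem D117680 : act 4 n54207 = n117680 := rfl
theorem F184272 : act 2 n117680 = n72094 := d1_1 D117680 F108550 (iv2 F85528)
theorem F184273 : act 6 n117680 = n54209 := d10_2 (iv6 F85530) D117680 (iv4 D54209)
theorem F184274 : act 7 n117680 = n85207 := d11_2 (iv7 F85531) D117680 F130529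
def n117681 : Q := act 4 n54208
theorem D117681 : act 4 n54208 = n117681 := rfl
theorem F184275 : act 2 n117681 = n55041 := d1_1 D117681 (iv4 D55041) F85533
theorem F184276 : act 7 n117681 = n55039 := d11_2 (iv7 F85535) D117681 (iv4 D55039)
def n117682 : Q := act 6 n54208
theorem D117682 : act 6 n54208 = n117682 := rfl
theorem F184277 : act 2 n117682 = n54218 := d3_1 D117682 F85554 F85533
theorem F184278 : act 3 n117682 = n69312 := d7_1 D117682 F105587 F94205
theorem F184279 : act 5 n117682 = n54211 := d12_1 D117682 (iv6 D54211) F41615 D32367 (iv5 F85532)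
theorem F184280 : act 0 n117682 = n72068 := d21_4 D33291 (iv1 F52519) (iv5 F85532) D117682 (iv6 D72068) (iv5 D33278) (iv1 D16065) D16066 F25592 D16078
def n117683 : Q := act 0 n54209
theorem D117683 : act 0 n54209 = n117683 := rfl
theorem F184281 : act 4 n117683 = n71088 := d18_3 F54435 D54209 D117683 (iv5 F115160) F115163 (iv0 F108561) (iv4 D72103) (iv0 F52517) D34303
theorem F184282 : act 1 n54763 = n117683 := d15_0 (iv0 D117683) F85537 (iv2 F86620)
theorem F184283 : act 7 n55042 = n117683 := d11_0 F184281 (iv7 F166765) F166767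
theorem F184284 : act 2 n117683 = n55043 := d15_3 F87040 F87039 F184283
def n117684 : Q := act 1 n54209
theorem D117684 : act 1 n54209 = n117684 := rfl
theorem F184285 : act 1 n117684 = n54763 := d15_1 D117684 F86622 (iv2 F85536)
theorem F184286 : act 7 n117684 = n55043 := d15_2 (iv0 D117683) D117684 (iv2 F184284)
theorem F184287 : act 4 n117684 = n60353 := d18_7 F52473 F83094 (iv1 D52581) F40355 D26218 D54209 D117684 (iv0 F110825) (iv5 D71939)
theorem F184288 : act 2 n55042 = n117684 := d1_3 F184287 (iv2 F166763) F166767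
def n117685 : Q := act 5 n54209
theorem D117685 : act 5 n54209 = n117685 := rfl
theorem F184289 : act 2 n117685 = n72093 := d2_1 D117685 (iv5 D72093) (iv2 F85536)
theorem F184290 : act 7 n117685 = n55045 := d13_2 (iv7 F85537) D117685 (iv5 D55045)
def n117686 : Q := act 3 n54210
theorem D117686 : act 3 n54210 = n117686 := rfl
theorem F184291 : act 4 n117686 = n69307 := d5_2 D54210 D117686 (iv3 D69307) (iv4 D32216) (iv3 F41614)
theorem F184292 : act 7 n117686 = n69389 := d8_2 (iv7 F85539) D117686 (iv3 D69389)
def n117687 : Q := act 5 n54210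
theorem D117687 : act 5 n54210 = n117687 := rfl
theorem F184293 : act 2 n117687 = n54214 := d2_1 D117687 (iv5 D54214) (iv2 F85538)
theorem F184294 : act 7 n117687 = n69390 := d13_2 (iv7 F85539) D117687 (iv5 D69390)
theorem F184295 : act 0 n117687 = n69400 := d17_2 (iv1 F85541) D117687 F105687 (iv4 F85266) (iv5 D31592) D31590 D67926 (iv0 F105035) F105034
theorem F184296 : act 1 n117687 = n69399 := d17_6 F26928 (iv5 D15265) D15263 (iv5 F41615) D54210 D117687 F105682 (iv0 D54040) (iv4 D26144)
def n117688 : Q := act 6 n54210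
theorem D117688 : act 6 n54210 = n117688 := rfl
theorem F184297 : act 2 n117688 = n54215 := d3_1 D117688 (iv6 D54215) (iv2 F85538)
theorem F184298 : act 4 n117688 = n54211 := d10_1 D117688 (iv6 D54211) D54210
def n117689 : Q := act 0 n54211
theorem D117689 : act 0 n54211 = n117689 := rfl
theorem F184299 : act 6 n117689 = n69614 := d21_5 (iv5 D15265) D15263 (iv5 F41615) D54211 D117689 F183506 (iv1 D117271) (iv5 D54046) (iv6 D26145) F26928
theorem F184300 : act 2 n54216 = n117689 := d3_3 F184299 (iv2 F183546) (iv6 F183645)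
theorem F184301 : act 7 n54217 = n117689 := d15_2 (iv0 D54216) D54217 (iv2 F184300)
def n117690 : Q := act 1 n54211
theorem D117690 : act 1 n54211 = n117690 := rfl
theorem F184302 : act 1 n117690 = n54219 := d15_1 D117690 (iv7 D54219) (iv2 F85542)
theorem F184303 : act 7 n117690 = n54216 := d15_2 (iv0 D117689) D117690 F184300
theorem F184304 : act 2 n54217 = n117690 := d4_3 F184303 F184300 (iv7 F184301)
theorem F184305 : act 3 n69735 = n117690 := d8_3 F184303 (iv3 F183646) (iv7 F112637)
theorem F184306 : act 4 n69735 = n116921 := d20_6 (iv4 F105662) (iv1 F84399) F84395 (iv3 F85555) (iv1 F184302) (iv3 F184305) (iv1 D116921) F84973 F41201 D26057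
theorem E18203 : n74121 = n74105 := (c18_7 (iv1 F112647) F184306 (iv1 D116921) F84973 (iv5 F53357) F53356 D74121 (iv4 D74105) F87419 (iv5 F112645))
theorem F184307 : act 0 n74105 = n34005 := (sb E18203 (iv1 D74121))
theorem F184308 : act 1 n54219 = n117689 := d15_1 F184302 (iv7 F184301) F184304
def n117691 : Q := act 7 n54211
theorem D117691 : act 7 n54211 = n117691 := rfl
theorem F184309 : act 2 n117691 = n54219 := d4_1 D117691 (iv7 D54219) (iv2 F85542)
theorem F184310 : act 3 n117691 = n69313 := d8_1 D117691 (iv7 D69313) (iv3 F85543)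
theorem F184311 : act 6 n117691 = n69394 := d14_1 D117691 (iv7 D69394) (iv6 D32241) (iv7 F41616) D54211
theorem F184312 : act 1 n54217 = n117691 := d15_1 D54217 (iv7 D117691) F85542
theorem F184313 : act 1 n117691 = n54216 := d15_1 F184312 (iv7 F184303) (iv2 F184304)
def n117692 : Q := act 3 n54212
theorem D117692 : act 3 n54212 = n117692 := rfl
theorem F184314 : act 7 n117692 = n69395 := d8_2 F85550 D117692 (iv3 D69395)
def n117693 : Q := act 6 n54212
theorem D117693 : act 6 n54212 = n117693 := rfl
theorem F184315 : act 2 n117693 = n69398 := d3_1 D117693 (iv6 D69398) F85548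
def n117694 : Q := act 3 n54213
theorem D117694 : act 3 n54213 = n117694 := rfl
theorem F184316 : act 4 n117694 = n117106 := d5_2 F85546 D117694 (iv3 D117106) (iv4 D53970) D53969
theorem F184317 : act 7 n117694 = n69397 := d8_2 (iv7 F85547) D117694 (iv3 D69397)
def n117695 : Q := act 6 n54213
theorem D117695 : act 6 n54213 = n117695 := rfl
theorem F184318 : act 2 n117695 = n69396 := d3_1 D117695 (iv6 D69396) (iv2 F85549)
theorem F184319 : act 4 n117695 = n117105 := d10_1 D117695 (iv6 D117105) F85546
theorem F184320 : act 0 n117695 = n54281 := d20_7 (iv4 F24826) (iv1 F41652) (iv4 F43127) D28482 (iv1 F155380) (iv3 F183160) (iv4 F184319) (iv4 D54281) (iv3 D26243) (iv1 F20715)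
def n117696 : Q := act 4 n54214
theorem D117696 : act 4 n54214 = n117696 := rfl
theorem F184321 : act 7 n117696 = n69401 := d11_2 (iv7 F85551) D117696 (iv4 D69401)
def n117697 : Q := act 6 n54214
theorem D117697 : act 6 n54214 = n117697 := rfl
def n117698 : Q := act 0 n54215
theorem D117698 : act 0 n54215 = n117698 := rfl
def n117699 : Q := act 1 n54215
theorem D117699 : act 1 n54215 = n117699 := rfl
def n117700 : Q := act 5 n54215
theorem D117700 : act 5 n54215 = n117700 := rfl
def n117701 : Q := act 7 n54215
theorem D117701 : act 7 n54215 = n117701 := rfl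
theorem F184322 : act 4 n117701 = n54219 := d11_1 D117701 (iv7 D54219) (iv4 F85552)
theorem F184323 : act 6 n117701 = n69406 := d14_1 D117701 (iv7 D69406) (iv6 D32245) (iv7 F41619) D54215
def n117702 : Q := act 4 n54216
theorem D117702 : act 4 n54216 = n117702 := rfl
def n117703 : Q := act 3 n54217
theorem D117703 : act 3 n54217 = n117703 := rfl
def n117704 : Q := act 4 n54217
theorem D117704 : act 4 n54217 = n117704 := rfl
def n117705 : Q := act 6 n54217
theorem D117705 : act 6 n54217 = n117705 := rfl
def n117706 : Q := act 0 n54218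
theorem D117706 : act 0 n54218 = n117706 := rfl
theorem F184324 : act 6 n117706 = n71862 := d21_5 F77005 (iv1 D48883) F42604 (iv6 F85554) D117706 (iv5 D71862) (iv1 D33209) D33210 F52436 D33212
def n117707 : Q := act 1 n54218
theorem D117707 : act 1 n54218 = n117707 := rfl
def n117708 : Q := act 4 n54218
theorem D117708 : act 4 n54218 = n117708 := rfl
theorem F184325 : act 6 n117708 = n55041 := d10_2 (iv6 F85554) D117708 (iv4 D55041)
def n117709 : Q := act 7 n54218
theorem D117709 : act 7 n54218 = n117709 := rfl
theorem F184326 : act 3 n117709 = n54233 := d8_1 D117709 (iv7 D54233) (iv3 F85553)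
theorem F184327 : act 5 n117709 = n54219 := d13_1 D117709 (iv7 D54219) D54218
theorem F184328 : act 0 n72068 = n117709 := d21_1 F131175 F184327 F85556 (iv1 F105675) (iv6 F130335) F130334 (iv1 D39353) D39354 (iv6 F130442) F131038
def n117710 : Q := act 0 n54221
theorem D117710 : act 0 n54221 = n117710 := rfl
theorem F184329 : act 1 n69368 = n117710 := d15_0 (iv0 D117710) F183576 D69368
def n117711 : Q := act 1 n54221
theorem D117711 : act 1 n54221 = n117711 := rfl
theorem F184330 : act 1 n117711 = n69368 := d15_1 D117711 (iv7 F184148) F184147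
def n117712 : Q := act 4 n54221
theorem D117712 : act 4 n54221 = n117712 := rfl
theorem F184331 : act 7 n117712 = n69369 := d11_2 (iv7 F183576) D117712 (iv4 D69369)
def n117713 : Q := act 5 n54221
theorem D117713 : act 5 n54221 = n117713 := rfl
theorem F184332 : act 3 n117713 = n54223 := d6_1 D117713 (iv5 D54223) D54221
theorem F184333 : act 7 n117713 = n69370 := d13_2 (iv7 F183576) D117713 (iv5 D69370)
def n117714 : Q := act 6 n54221
theorem D117714 : act 6 n54221 = n117714 := rfl
theorem F184334 : act 3 n117714 = n54224 := d7_1 D117714 (iv6 D54224) D54221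
theorem F184335 : act 5 n68792 = n117714 := d6_0 F184334 F85558 D68792
theorem F184336 : act 7 n69627 = n117714 := d8_0 F184334 F183582 D69627
def n117715 : Q := act 0 n54223
theorem D117715 : act 0 n54223 = n117715 := rfl
theorem F184337 : act 5 n117715 = n68738 := d21_2 D54223 D117715 (iv6 D68738) (iv1 D31978) (iv6 D15085) F11501 F9067 (iv5 F9158) D12437 D26222
theorem F184338 : act 1 n54228 = n117715 := d15_0 (iv0 D117715) F183580 (iv2 F183558)
def n117716 : Q := act 4 n54223
theorem D117716 : act 4 n54223 = n117716 := rfl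
def n117717 : Q := act 6 n54223
theorem D117717 : act 6 n54223 = n117717 := rfl
theorem F184341 : act 2 n117717 = n69362 := d3_1 D117717 (iv6 D69362) (iv2 F183579)
theorem F184342 : act 5 n117717 = n68793 := d12_1 D117717 (iv6 D68793) (iv5 F85558) (iv6 D54224) D54223
def n117718 : Q := act 4 n54228
theorem D117718 : act 4 n54228 = n117718 := rfl
theorem F184343 : act 2 n117718 = n69375 := d1_1 D117718 (iv4 D69375) (iv2 F183558)
theorem F184344 : act 7 n117718 = n69361 := d11_2 (iv7 F183559) D117718 (iv4 D69361)
def n117719 : Q := act 5 n54229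
theorem D117719 : act 5 n54229 = n117719 := rfl
theorem F184345 : act 2 n117719 = n69377 := d2_1 D117719 (iv5 D69377) (iv2 F183566)
theorem F184346 : act 0 n117719 = n62752 := d21_1 D117719 F97892 (iv6 F87302) (iv1 F87304) (iv6 F104985) (iv5 F105969) (iv1 D69649) (iv5 D32329) D32330 (iv1 F183565)
theorem F184347 : act 0 n55211 = n117719 := d21_10 (iv5 D117719) F183564 (iv5 D61409) D61410 F105920 (iv6 D33167) (iv5 F42634) (iv1 F42747) D26678 (iv6 F87347)
theorem F184348 : act 7 n74007 = n117719 := d15_2 (iv0 F105636) D74007 F184345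
def n117720 : Q := act 7 n54229
theorem D117720 : act 7 n54229 = n117720 := rfl
theorem F184349 : act 2 n117720 = n69378 := d4_1 D117720 (iv7 D69378) (iv2 F183566)
theorem F184350 : act 4 n117720 = n67330 := d11_1 D117720 (iv7 F183574) F182198
theorem F184351 : act 5 n117720 = n74007 := d13_1 D117720 F184348 (iv5 D117719)
theorem F184352 : act 6 n117720 = n54300 := d14_1 D117720 F183587 (iv6 D32230) F183567 D54229
theorem F184353 : act 1 n54308 = n117720 := d15_1 (iv0 F105942) (iv7 D117720) F183566
theorem F184354 : act 1 n117720 = n62568 := d15_1 F184353 (iv7 F105939) (iv2 F105931)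
theorem F184355 : act 6 n74007 = n61538 := d21_3 D62568 (iv1 F184354) F184351 (iv1 D61538) (iv6 D29133) F23133 (iv1 D6679) D6681 D14052 D29583
def n117721 : Q := act 3 n54230
theorem D117721 : act 3 n54230 = n117721 := rfl
theorem F184356 : act 6 n117721 = n54737 := d7_2 (iv6 F85560) D117721 F86561
theorem F184357 : act 7 n117721 = n69380 := d8_2 F85562 D117721 (iv3 D69380)
def n117722 : Q := act 6 n54231
theorem D117722 : act 6 n54231 = n117722 := rfl
theorem F184358 : act 2 n117722 = n69382 := d3_1 D117722 (iv6 D69382) (iv2 F85566)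
theorem F184359 : act 5 n117722 = n117388 := d12_1 D117722 (iv6 D117388) (iv5 D54095) D54096 F85565
theorem F184360 : act 7 n117722 = n54731 := d14_2 (iv7 F85564) D117722 (iv6 D54731) F42322 (iv6 F51174)
theorem F184362 : act 1 n117722 = n70322 := d15_0 (iv0 F106774) (iv7 F105644) (iv2 F184358)
theorem F184363 : act 0 n68936 = n70323 := d21_4 (iv5 D69663) F105966 (iv5 D68935) D68936 (iv6 D70323) D70322 (iv1 F184362) F184359 (iv6 D117388) F106012
def n117725 : Q := act 7 n54232
theorem D117725 : act 7 n54232 = n117725 := rfl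
theorem F184368 : act 4 n117725 = n54233 := d11_1 D117725 (iv7 D54233) D54232
theorem F184369 : act 1 n69384 = n117725 := d15_1 D69384 (iv7 D117725) F85568
theorem F184370 : act 1 n117725 = n69383 := d15_1 F184369 F105648 F105656
theorem F184371 : act 0 n117709 = n74104 := d20_4 F105647 (iv1 F184370) F184368 (iv3 F184326) (iv3 D74104) D74105 F184307 (iv4 F53356) F53355 F57681
theorem F184372 : act 5 n74104 = n68892 := d21_2 (iv5 F184327) F184371 (iv6 D68892) (iv1 F105027) (iv6 F183459) F183458 (iv1 F183504) (iv5 F183506) (iv6 F184299) (iv1 F184308)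
theorem F184373 : act 1 n117682 = n74104 := d15_0 (iv0 F184371) (iv7 D117709) (iv2 F184277)
theorem F184374 : act 3 n68892 = n74106 := d6_1 F184372 (iv5 D74106) D74104
theorem E18204 : n68889 = n68810 := ((c7_3 D68892 F184374 (iv6 F110841) (iv3 D68889))).symm
theorem F184375 : act 3 n68810 = n32039 := (sb E18204 (iv3 D68889))
def n117726 : Q := act 3 n54234
theorem D117726 : act 3 n54234 = n117726 := rfl
theorem F184376 : act 4 n117726 = n69389 := d5_2 D54234 D117726 (iv3 D69389) (iv4 D32240) (iv3 F41630)
theorem F184377 : act 7 n117726 = n69307 := d8_2 (iv7 F85575) D117726 (iv3 D69307)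
def n117727 : Q := act 5 n54234
theorem D117727 : act 5 n54234 = n117727 := rfl
theorem F184378 : act 2 n117727 = n54238 := d2_1 D117727 (iv5 D54238) (iv2 F85574)
theorem F184379 : act 7 n117727 = n69308 := d13_2 (iv7 F85575) D117727 (iv5 D69308)
theorem F184380 : act 4 n117727 = n113895 := d16_2 D54234 D117727 (iv5 D113895) (iv4 D52584) F40357 F22679 (iv5 F11532) (iv7 F20706) D26228
theorem F184381 : act 0 n117727 = n69319 := d17_2 (iv1 F85577) D117727 F105599 (iv4 D34975) (iv5 D16972) D16971 D34973 (iv0 F104854) F104853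
theorem F184382 : act 1 n117727 = n69318 := d17_6 D26165 F50546 (iv1 F37170) (iv5 F41631) D54234 D117727 F105594 (iv0 D54084) (iv4 D26167)
def n117728 : Q := act 6 n54234
theorem D117728 : act 6 n54234 = n117728 := rfl
theorem F184384 : act 4 n117728 = n54235 := d10_1 D117728 (iv6 D54235) D54234
def n117729 : Q := act 0 n54235
theorem D117729 : act 0 n54235 = n117729 := rfl
def n117730 : Q := act 1 n54235
theorem D117730 : act 1 n54235 = n117730 := rfl
theorem F184385 : act 1 n117730 = n54242 := d15_1 D117730 (iv7 D54242) (iv2 F85578)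
def n117731 : Q := act 7 n54235
theorem D117731 : act 7 n54235 = n117731 := rfl
theorem F184387 : act 3 n117731 = n69394 := d8_1 D117731 (iv7 D69394) (iv3 F85579)
theorem F184388 : act 6 n117731 = n69313 := d14_1 D117731 (iv7 D69313) (iv6 D32217) (iv7 F41632) D54235
theorem F184390 : act 1 n54241 = n117731 := d15_1 D54241 (iv7 D117731) F85578
def n117732 : Q := act 3 n54236
theorem D117732 : act 3 n54236 = n117732 := rfl
theorem F184392 : act 4 n117732 = n69116 := d5_2 F94328 D117732 (iv3 D69116) (iv4 F105168) F105164
def n117733 : Q := act 6 n54236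
theorem D117733 : act 6 n54236 = n117733 := rfl
theorem F184394 : act 2 n117733 = n69317 := d3_1 D117733 (iv6 D69317) F85584
def n117734 : Q := act 3 n54237
theorem D117734 : act 3 n54237 = n117734 := rfl
theorem F184395 : act 4 n117734 = n116908 := d5_2 F85582 D117734 (iv3 D116908) (iv4 D53878) D53877
theorem F184396 : act 7 n117734 = n69316 := d8_2 (iv7 F85583) D117734 (iv3 D69316)
def n117735 : Q := act 6 n54237
theorem D117735 : act 6 n54237 = n117735 := rfl
theorem F184397 : act 2 n117735 = n69315 := d3_1 D117735 (iv6 D69315) (iv2 F85585)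
theorem F184398 : act 4 n117735 = n116907 := d10_1 D117735 (iv6 D116907) F85582
def n117736 : Q := act 4 n54238
theorem D117736 : act 4 n54238 = n117736 := rfl
theorem F184399 : act 2 n117736 = n113895 := d1_1 D117736 (iv4 F184380) F184378
theorem F184400 : act 7 n117736 = n69320 := d11_2 (iv7 F85587) D117736 (iv4 D69320)
theorem F184401 : act 5 n117736 = n113893 := d16_1 D117736 (iv4 D113893) F83100 F45855 (iv5 F24819) D32216 D69308 (iv7 F184379) F184378
def n117737 : Q := act 6 n54238
theorem D117737 : act 6 n54238 = n117737 := rfl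
def n117738 : Q := act 0 n54239
theorem D117738 : act 0 n54239 = n117738 := rfl
def n117739 : Q := act 1 n54239
theorem D117739 : act 1 n54239 = n117739 := rfl
def n117741 : Q := act 7 n54239
theorem D117741 : act 7 n54239 = n117741 := rfl
theorem F184402 : act 4 n117741 = n54242 := d11_1 D117741 (iv7 D54242) (iv4 F85588)
theorem F184403 : act 6 n117741 = n69325 := d14_1 D117741 (iv7 D69325) (iv6 D32221) (iv7 F41636) D54239
def n117742 : Q := act 2 n54240
theorem D117742 : act 2 n54240 = n117742 := rfl
theorem F184404 : act 7 n54241 = n117742 := d15_2 (iv0 D54240) D54241 (iv2 D117742)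
def n117743 : Q := act 3 n54240
theorem D117743 : act 3 n54240 = n117743 := rfl
def n117744 : Q := act 4 n54240
theorem D117744 : act 4 n54240 = n117744 := rfl
def n117746 : Q := act 6 n54240
theorem D117746 : act 6 n54240 = n117746 := rfl
def n117747 : Q := act 7 n54240
theorem D117747 : act 7 n54240 = n117747 := rfl
theorem F184405 : act 2 n117747 = n54241 := d4_1 D117747 F184404 (iv2 D117742)
def n117748 : Q := act 3 n54241
theorem D117748 : act 3 n54241 = n117748 := rfl
def n117749 : Q := act 4 n54241
theorem D117749 : act 4 n54241 = n117749 := rfl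
def n117750 : Q := act 5 n54241
theorem D117750 : act 5 n54241 = n117750 := rfl
def n117751 : Q := act 6 n54241
theorem D117751 : act 6 n54241 = n117751 := rfl
def n117753 : Q := act 1 n54244
theorem D117753 : act 1 n54244 = n117753 := rfl
theorem F184407 : act 1 n117753 = n69448 := d15_1 D117753 (iv7 F184059) (iv2 F184057)
def n117754 : Q := act 4 n54244
theorem D117754 : act 4 n54244 = n117754 := rfl
theorem F184408 : act 7 n117754 = n69449 := d11_2 (iv7 F105727) D117754 (iv4 D69449)
def n117755 : Q := act 5 n54244
theorem D117755 : act 5 n54244 = n117755 := rfl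
theorem F184409 : act 3 n117755 = n54246 := d6_1 D117755 (iv5 D54246) D54244
theorem F184410 : act 7 n117755 = n69450 := d13_2 (iv7 F105727) D117755 (iv5 D69450)
def n117756 : Q := act 6 n54244
theorem D117756 : act 6 n54244 = n117756 := rfl
theorem F184411 : act 3 n117756 = n54247 := d7_1 D117756 (iv6 D54247) D54244
theorem F184412 : act 5 n68938 = n117756 := d6_0 F184411 F85593 D68938
def n117757 : Q := act 4 n54246
theorem D117757 : act 4 n54246 = n117757 := rfl
theorem F184413 : act 2 n117757 = n69440 := d1_1 D117757 (iv4 D69440) (iv2 F105730)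
theorem F184414 : act 7 n117757 = n69455 := d11_2 (iv7 F105731) D117757 (iv4 D69455)
theorem F184416 : act 1 n74965 = n69455 := d15_1 (iv0 F163080) (iv7 F184414) F184413
def n117758 : Q := act 6 n54246
theorem D117758 : act 6 n54246 = n117758 := rfl
theorem F184417 : act 2 n117758 = n69441 := d3_1 D117758 (iv6 D69441) (iv2 F105730)
theorem F184418 : act 5 n117758 = n68940 := d12_1 D117758 (iv6 D68940) (iv5 F85593) (iv6 D54247) D54246
theorem F184419 : act 7 n117758 = n107862 := d14_2 (iv7 F105731) D117758 (iv6 D107862) F105745 F54491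
theorem F184420 : act 0 n68940 = n73532 := d21_7 (iv5 D33928) (iv1 D16402) D16403 (iv6 F53278) F85592 D117758 F184418 F110198 (iv6 D34401) (iv1 F53282)
theorem F184421 : act 0 n70342 = n68940 := d21_1 (iv5 F106814) (iv5 F184418) (iv6 D117758) (iv1 F112523) F112521 (iv5 D62751) (iv1 F47711) (iv5 F96126) F96127 (iv1 F97824)
theorem F184422 : act 1 n76693 = n107862 := d15_1 (iv0 F183867) (iv7 F184419) F184417
def n117759 : Q := act 1 n54247
theorem D117759 : act 1 n54247 = n117759 := rfl
theorem F184423 : act 1 n117759 = n68935 := d15_1 D117759 F105720 (iv2 F105725)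
theorem F184424 : act 7 n117759 = n54313 := d15_2 (iv0 F105971) D117759 (iv2 F105921)
theorem F184425 : act 5 n117386 = n117759 := d21_0 (iv1 D117759) F85593 D68940 F184420 (iv6 D73532) F53030 F52551 F52550 (iv6 F85388) (iv1 F183824)
def n117760 : Q := act 0 n54249
theorem D117760 : act 0 n54249 = n117760 := rfl
theorem F184428 : act 1 n69429 = n117760 := d15_0 (iv0 D117760) F105735 D69429
def n117761 : Q := act 1 n54249
theorem D117761 : act 1 n54249 = n117761 := rfl
def n117762 : Q := act 2 n54249
theorem D117762 : act 2 n54249 = n117762 := rfl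
theorem F184429 : act 3 n117762 = n69448 := d0_2 D54249 D117762 (iv2 D69448) (iv3 D32256) (iv2 F105733)
theorem F184430 : act 7 n117762 = n69429 := d4_2 (iv7 F105735) D117762 (iv2 D69429)
theorem F184432 : act 1 n117761 = n69429 := d15_1 D117761 (iv7 F184430) (iv2 D117762)
theorem F184433 : act 1 n69428 = n117762 := d15_1 D69428 F184430 (iv2 D69429)
def n117763 : Q := act 4 n54249
theorem D117763 : act 4 n54249 = n117763 := rfl
theorem F184434 : act 7 n117763 = n69430 := d11_2 (iv7 F105735) D117763 (iv4 D69430)
def n117764 : Q := act 5 n54249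
theorem D117764 : act 5 n54249 = n117764 := rfl
theorem F184435 : act 3 n117764 = n54251 := d6_1 D117764 (iv5 D54251) D54249
theorem F184436 : act 7 n117764 = n69431 := d13_2 (iv7 F105735) D117764 (iv5 D69431)
theorem F184437 : act 6 n107858 = n117764 := d7_0 F184435 (iv6 F85596) D107858
def n117765 : Q := act 6 n54249
theorem D117765 : act 6 n54249 = n117765 := rfl
theorem F184438 : act 3 n117765 = n54252 := d7_1 D117765 (iv6 D54252) D54249
theorem F184439 : act 7 n69589 = n117765 := d8_0 F184438 F105741 D69589
def n117766 : Q := act 4 n54251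
theorem D117766 : act 4 n54251 = n117766 := rfl
theorem F184441 : act 6 n117766 = n62830 := d10_2 F85596 D117766 F112468
theorem F184443 : act 0 n117766 = n108398 := d18_2 (iv1 F112522) D117766 F167582 F79224 (iv4 F163061) F181851 (iv4 D73873) F87304 (iv5 F112520)
def n117767 : Q := act 5 n54252
theorem D117767 : act 5 n54252 = n117767 := rfl
theorem F184444 : act 2 n117767 = n69456 := d2_1 D117767 (iv5 D69456) (iv2 F105740)
theorem F184445 : act 6 n117767 = n107859 := d12_2 D54252 D117767 (iv5 D107859) F85596 (iv5 D54251)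
theorem F184446 : act 7 n117767 = n69590 := d13_2 (iv7 F105741) D117767 (iv5 D69590)
theorem F184447 : act 0 n117767 = n68737 := d21_1 D117767 (iv5 D68737) D68738 F183861 (iv6 D33915) F25890 (iv1 F41663) (iv5 D26245) D26246 F85597
theorem F184448 : act 0 n68732 = n117767 := d21_1 D68732 (iv5 D117767) (iv6 D54252) (iv1 D26232) (iv6 D12439) F9164 (iv1 F9068) (iv5 F11501) D15085 D31977
def n117768 : Q := act 0 n54253
theorem D117768 : act 0 n54253 = n117768 := rfl
theorem F184449 : act 1 n54258 = n117768 := d15_0 (iv0 D117768) (iv7 F85598) (iv2 F85599)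
def n117770 : Q := act 3 n54253
theorem D117770 : act 3 n54253 = n117770 := rfl
theorem F184451 : act 7 n117770 = n54259 := d8_2 F85598 D117770 (iv3 D54259)
def n117771 : Q := act 4 n54253
theorem D117771 : act 4 n54253 = n117771 := rfl
theorem F184452 : act 2 n117771 = n54255 := d1_1 D117771 (iv4 D54255) D54253
theorem F184453 : act 7 n117771 = n54260 := d11_2 F85598 D117771 (iv4 D54260)
def n117773 : Q := act 0 n54254
theorem D117773 : act 0 n54254 = n117773 := rfl
def n117774 : Q := act 1 n54254
theorem D117774 : act 1 n54254 = n117774 := rfl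
theorem F184455 : act 5 n117774 = n66913 := d18_9 (iv1 F102941) F102984 (iv1 D48834) F37129 D23828 D48874 D105725 (iv4 F162365) D117774
theorem F184456 : act 3 n69488 = n117774 := d20_9 F162365 (iv1 D105725) (iv4 D48874) F37154 (iv1 F20367) (iv3 F40881) D53419 D115866 F180349 (iv1 D117774)
theorem F184457 : act 2 n117774 = n66915 := d0_1 F184456 F102873 (iv2 F102854) (iv3 F181483) F181482
theorem F184458 : act 7 n117774 = n67029 := d8_2 F181980 F184456 (iv3 F181979)
theorem E18205 : n117773 = n116398 := ((c15_4 (iv0 D117773) D117774 F184458 (iv2 F181517))).symm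
theorem F184459 : act 1 n116398 = n54254 := (sb E18205 (iv0 D117773))
theorem E18206 : n67163 = n66915 := ((c15_4 (iv0 D67163) (iv0 F103021) (iv7 F184458) F184457)).symm
theorem F184460 : act 1 n66915 = n31262 := (sb E18206 (iv0 D67163))
def n117775 : Q := act 2 n54254
theorem D117775 : act 2 n54254 = n117775 := rfl
def n117776 : Q := act 6 n54254
theorem D117776 : act 6 n54254 = n117776 := rfl
theorem F184461 : act 3 n117776 = n54257 := d7_1 D117776 (iv6 D54257) D54254
def n117777 : Q := act 7 n54254
theorem D117777 : act 7 n54254 = n117777 := rfl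
theorem F184462 : act 3 n117777 = n54258 := d8_1 D117777 (iv7 D54258) D54254
def n117778 : Q := act 0 n54255
theorem D117778 : act 0 n54255 = n117778 := rfl
theorem F184463 : act 4 n117778 = n115862 := d18_3 D26234 D54255 D117778 F180358 F103000 F102999 F49546 (iv0 F102986) (iv5 F20708)
theorem F184464 : act 7 n67168 = n117778 := d11_0 F184463 (iv7 F180365) F103126
theorem F184465 : act 1 n54260 = n117778 := d18_6 (iv1 F180294) D115842 (iv1 F180640) (iv4 D109688) F169670 D54260 F184463 F180367 F169582
theorem F184466 : act 2 n117778 = n67169 := d15_3 F103130 F103134 F184464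
def n117779 : Q := act 1 n54255
theorem D117779 : act 1 n54255 = n117779 := rfl
theorem F184467 : act 1 n117779 = n54260 := d15_1 D117779 (iv7 F184453) F184452
theorem F184468 : act 7 n117779 = n67169 := d15_2 (iv0 D117778) D117779 (iv2 F184466)
theorem F184469 : act 2 n67168 = n117779 := d4_3 F184468 (iv2 F184466) (iv7 F184464)
def n117780 : Q := act 3 n54255
theorem D117780 : act 3 n54255 = n117780 := rfl
def n117781 : Q := act 5 n54255
theorem D117781 : act 5 n54255 = n117781 := rfl
def n117782 : Q := act 6 n54255
theorem D117782 : act 6 n54255 = n117782 := rfl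
theorem F184470 : act 4 n117782 = n54257 := d10_1 D117782 (iv6 D54257) D54255
def n117783 : Q := act 7 n54255
theorem D117783 : act 7 n54255 = n117783 := rfl
theorem F184471 : act 2 n117783 = n54260 := d4_1 D117783 (iv7 F184453) F184452
theorem F184472 : act 4 n117783 = n54258 := d11_1 D117783 (iv7 D54258) D54255
def n117784 : Q := act 0 n54257
theorem D117784 : act 0 n54257 = n117784 := rfl
def n117785 : Q := act 1 n54257
theorem D117785 : act 1 n54257 = n117785 := rfl
def n117786 : Q := act 5 n54257
theorem D117786 : act 5 n54257 = n117786 := rfl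
def n117787 : Q := act 7 n54257
theorem D117787 : act 7 n54257 = n117787 := rfl
def n117789 : Q := act 0 n54259
theorem D117789 : act 0 n54259 = n117789 := rfl
theorem F184474 : act 5 n117789 = n66224 := d17_3 (iv1 F182978) F169676 D117789 (iv4 D66224) (iv5 F180560) (iv0 D65470) (iv5 D30694) D30692 (iv4 F85077)
theorem F184475 : act 4 n117789 = n65743 := d18_1 D117789 (iv1 F180776) (iv4 D116024) (iv5 D53481) (iv4 F84356) F84358 D65461 (iv0 F180641) F169676
theorem F184476 : act 2 n66755 = n117789 := d1_3 F184475 (iv2 F181701) (iv4 F181694)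
theorem F184477 : act 7 n67105 = n117789 := d11_0 F184475 F181702 (iv4 F181670)
theorem F184479 : act 1 n54259 = n116452 := d15_1 (iv0 D117789) F181663 F184476
def n117790 : Q := act 2 n54259
theorem D117790 : act 2 n54259 = n117790 := rfl
def n117791 : Q := act 4 n54259
theorem D117791 : act 4 n54259 = n117791 := rfl
theorem F184480 : act 0 n117791 = n116037 := d18_2 (iv1 F184479) D117791 (iv4 D116037) F181672 D53605 F102994 (iv4 D67013) (iv0 F102935) D116452
theorem F184481 : act 1 n117791 = n116032 := d18_6 D25905 D53473 D115994 F180619 F169676 D117791 (iv4 D116032) (iv0 D53483) (iv5 D25908)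
def n117793 : Q := act 3 n54260
theorem D117793 : act 3 n54260 = n117793 := rfl
def n117794 : Q := act 5 n54260
theorem D117794 : act 5 n54260 = n117794 := rfl
def n117795 : Q := act 6 n54260
theorem D117795 : act 6 n54260 = n117795 := rfl
def n117800 : Q := act 0 n54263
theorem D117800 : act 0 n54263 = n117800 := rfl
def n117801 : Q := act 1 n54263
theorem D117801 : act 1 n54263 = n117801 := rfl
theorem F184484 : act 1 n117801 = n54267 := d15_1 D117801 (iv7 D54267) (iv2 F85600)
def n117802 : Q := act 5 n54263
theorem D117802 : act 5 n54263 = n117802 := rfl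
theorem F184485 : act 2 n117802 = n54266 := d2_1 D117802 (iv5 D54266) (iv2 F85600)
theorem F184486 : act 3 n117802 = n69502 := d6_1 D117802 (iv5 D69502) (iv3 F85601)
theorem F184487 : act 6 n117802 = n66999 := d12_2 D54263 D117802 (iv5 D66999) (iv6 D31204) (iv5 F41646)
def n117803 : Q := act 7 n54263
theorem D117803 : act 7 n54263 = n117803 := rfl
theorem F184488 : act 2 n117803 = n54267 := d4_1 D117803 (iv7 D54267) (iv2 F85600)
theorem F184489 : act 3 n117803 = n69503 := d8_1 D117803 (iv7 D69503) (iv3 F85601)
theorem F184490 : act 6 n117803 = n67156 := d14_1 D117803 (iv7 D67156) (iv6 D31260) (iv7 F41647) D54263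
theorem F184491 : act 1 n54267 = n117800 := d15_0 (iv0 D117800) D117803 F184488
theorem F184492 : act 1 n54265 = n117803 := d15_1 D54265 (iv7 D117803) F85600
theorem F184493 : act 1 n117803 = n54264 := d15_0 (iv0 D54264) D54267 (iv2 F184488)
def n117804 : Q := act 2 n54264
theorem D117804 : act 2 n54264 = n117804 := rfl
theorem F184494 : act 7 n54265 = n117804 := d15_2 (iv0 D54264) D54265 (iv2 D117804)
def n117805 : Q := act 3 n54264
theorem D117805 : act 3 n54264 = n117805 := rfl
def n117806 : Q := act 4 n54264
theorem D117806 : act 4 n54264 = n117806 := rfl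
def n117807 : Q := act 5 n54264
theorem D117807 : act 5 n54264 = n117807 := rfl
def n117808 : Q := act 6 n54264
theorem D117808 : act 6 n54264 = n117808 := rfl
def n117809 : Q := act 7 n54264
theorem D117809 : act 7 n54264 = n117809 := rfl
theorem F184495 : act 2 n117809 = n54265 := d4_1 D117809 F184494 (iv2 D117804)
def n117810 : Q := act 3 n54265
theorem D117810 : act 3 n54265 = n117810 := rfl
def n117811 : Q := act 4 n54265
theorem D117811 : act 4 n54265 = n117811 := rfl
def n117812 : Q := act 5 n54265
theorem D117812 : act 5 n54265 = n117812 := rfl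
def n117813 : Q := act 6 n54265
theorem D117813 : act 6 n54265 = n117813 := rfl
def n117814 : Q := act 0 n54266
theorem D117814 : act 0 n54266 = n117814 := rfl
def n117815 : Q := act 1 n54266
theorem D117815 : act 1 n54266 = n117815 := rfl
def n117816 : Q := act 4 n54266
theorem D117816 : act 4 n54266 = n117816 := rfl
theorem F184496 : act 6 n117816 = n67236 := d10_2 (iv6 F85603) D117816 (iv4 D67236)
def n117817 : Q := act 7 n54266
theorem D117817 : act 7 n54266 = n117817 := rfl
def n117818 : Q := act 0 n54268
theorem D117818 : act 0 n54268 = n117818 := rfl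
theorem F184499 : act 1 n69533 = n117818 := d15_0 (iv0 D117818) F85606 D69533
def n117819 : Q := act 1 n54268
theorem D117819 : act 1 n54268 = n117819 := rfl
def n117820 : Q := act 2 n54268
theorem D117820 : act 2 n54268 = n117820 := rfl
theorem F184500 : act 3 n117820 = n69520 := d0_2 D54268 D117820 (iv2 D69520) (iv3 D32278) (iv2 F43203)
theorem F184501 : act 7 n117820 = n69533 := d4_2 (iv7 F85606) D117820 (iv2 D69533)
theorem F184502 : act 1 n117820 = n69531 := d15_0 (iv0 D69531) (iv7 F85606) D117820
theorem F184503 : act 1 n117819 = n69533 := d15_1 D117819 (iv7 F184501) (iv2 D117820)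
theorem F184504 : act 1 n69532 = n117820 := d15_1 D69532 F184501 (iv2 D69533)
def n117821 : Q := act 4 n54268
theorem D117821 : act 4 n54268 = n117821 := rfl
theorem F184505 : act 3 n117821 = n59971 := d5_1 D117821 (iv4 D59971) (iv3 D28479) (iv4 F43130) D54268
theorem F184506 : act 7 n117821 = n69534 := d11_2 (iv7 F85606) D117821 (iv4 D69534)
def n117822 : Q := act 5 n54268
theorem D117822 : act 5 n54268 = n117822 := rfl
theorem F184507 : act 3 n117822 = n54269 := d6_1 D117822 (iv5 D54269) D54268
theorem F184508 : act 7 n117822 = n69535 := d13_2 (iv7 F85606) D117822 (iv5 D69535)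
def n117823 : Q := act 6 n54268
theorem D117823 : act 6 n54268 = n117823 := rfl
theorem F184509 : act 3 n117823 = n54270 := d7_1 D117823 (iv6 D54270) D54268
def n117824 : Q := act 6 n54269
theorem D117824 : act 6 n54269 = n117824 := rfl
def n117825 : Q := act 1 n54270
theorem D117825 : act 1 n54270 = n117825 := rfl
theorem F184513 : act 7 n117825 = n67266 := d15_2 F182154 D117825 (iv2 F182150)
theorem F184514 : act 4 n117825 = n54288 := d18_7 (iv1 F85946) (iv4 F107043) (iv1 F130796) F87937 (iv5 F130809) (iv4 F85611) D117825 F85661 F85949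
theorem F184515 : act 3 n75899 = n54288 := d20_5 (iv4 F113811) (iv1 D75905) (iv4 D34694) (iv3 F54936) D75899 (iv4 F184514) (iv1 D117825) F85611 (iv3 F130823) (iv1 F60525)
theorem F184516 : act 6 n67345 = n117825 := d21_3 D53667 D116440 (iv5 F181642) (iv1 D117825) (iv6 D54270) D54269 (iv1 F110650) (iv5 D73857) (iv6 F110653) (iv1 D53666)
theorem F184518 : act 7 n69451 = n75899 := d8_0 F184515 (iv7 F105743) (iv3 F105749)
theorem F184519 : act 2 n69451 = n75900 := d15_3 F130929 F130927 (iv7 F184518)
theorem F184520 : act 6 n75900 = n69448 := d3_2 D69451 F184519 (iv2 D69448)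
def n117826 : Q := act 5 n54270
theorem D117826 : act 5 n54270 = n117826 := rfl
theorem F184521 : act 2 n117826 = n69529 := d2_1 D117826 (iv5 D69529) (iv2 F85610)
theorem F184522 : act 0 n117826 = n65574 := d17_2 (iv1 D117825) D117826 (iv5 D65574) F49195 (iv5 F41975) F130852 (iv5 F130855) D54288 (iv4 F184514)
def n117827 : Q := act 0 n54271
theorem D117827 : act 0 n54271 = n117827 := rfl
theorem F184523 : act 1 n69520 = n117827 := d15_0 (iv0 D117827) F85612 D69520
def n117828 : Q := act 1 n54271
theorem D117828 : act 1 n54271 = n117828 := rfl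
def n117829 : Q := act 2 n54271
theorem D117829 : act 2 n54271 = n117829 := rfl
theorem F184524 : act 3 n117829 = n69533 := d0_2 D54271 D117829 (iv2 D69533) (iv3 D32281) F43198
theorem F184525 : act 7 n117829 = n69520 := d4_2 (iv7 F85612) D117829 (iv2 D69520)
theorem F184526 : act 1 n117829 = n69518 := d15_0 (iv0 D69518) (iv7 F85612) D117829
theorem F184527 : act 1 n117828 = n69520 := d15_1 D117828 (iv7 F184525) (iv2 D117829)
theorem F184528 : act 1 n69519 = n117829 := d15_1 D69519 F184525 (iv2 D69520)
def n117830 : Q := act 4 n54271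
theorem D117830 : act 4 n54271 = n117830 := rfl
theorem F184529 : act 3 n117830 = n59980 := d5_1 D117830 (iv4 D59980) (iv3 D28482) F43127 D54271
theorem F184530 : act 7 n117830 = n69521 := d11_2 (iv7 F85612) D117830 (iv4 D69521)
def n117834 : Q := act 0 n54273
theorem D117834 : act 0 n54273 = n117834 := rfl
theorem F184537 : act 4 n117834 = n54300 := d18_3 F122600 (iv4 F85617) D117834 F85688 (iv4 F183266) (iv0 D68528) (iv4 D31880) D31879 (iv5 F84978)
theorem F184538 : act 2 n69538 = n117834 := d15_3 (iv0 D117834) F182195 (iv7 F183583)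
theorem F184539 : act 6 n117834 = n67330 := d3_2 (iv6 F182302) F184538 (iv2 F182316)
theorem F184540 : act 7 n117834 = n67295 := d4_2 (iv7 F183583) F184538 F183606
theorem F184541 : act 1 n69541 = n117834 := d15_1 (iv0 F182190) F184540 F183606
def n117836 : Q := act 7 n54273
theorem D117836 : act 7 n54273 = n117836 := rfl
theorem F184546 : act 4 n117836 = n59984 := d11_1 D117836 (iv7 D59984) (iv4 F85617)
theorem F184547 : act 6 n117836 = n69530 := d14_1 D117836 (iv7 D69530) (iv6 D32280) (iv7 F43204) D54273
theorem F184548 : act 1 n67295 = n117836 := d15_1 (iv0 F112130) (iv7 D117836) F85616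
theorem F184549 : act 1 n117836 = n69538 := d15_1 F184548 F183583 (iv2 F183606)
def n117839 : Q := act 3 n54275
theorem D117839 : act 3 n54275 = n117839 := rfl
theorem F184554 : act 5 n117839 = n60420 := d6_2 F85626 D117839 (iv3 D60420)
def n117841 : Q := act 3 n54276
theorem D117841 : act 3 n54276 = n117841 := rfl
theorem F184558 : act 5 n117841 = n58626 := d6_2 (iv5 F85629) D117841 (iv3 D58626)
theorem F184559 : act 6 n117841 = n67377 := d7_2 (iv6 F85630) D117841 (iv3 D67377)
theorem F184560 : act 7 n117841 = n58702 := d8_2 F85632 D117841 F92743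
def n117842 : Q := act 4 n54278
theorem D117842 : act 4 n54278 = n117842 := rfl
theorem F184561 : act 2 n117842 = n69599 := d1_1 D117842 (iv4 D69599) (iv2 F130932)
theorem F184562 : act 7 n117842 = n68819 := d11_2 (iv7 F130935) D117842 F105010
def n117843 : Q := act 4 n54280
theorem D117843 : act 4 n54280 = n117843 := rfl
theorem F184563 : act 2 n117843 = n54281 := d1_1 D117843 (iv4 D54281) D54280
theorem F184564 : act 7 n117843 = n69602 := d11_2 (iv7 F85641) D117843 (iv4 D69602)
theorem F184565 : act 1 n69606 = n117843 := d15_1 D69606 F184564 F105884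
theorem F184566 : act 1 n117695 = n69602 := d15_1 (iv0 F184320) (iv7 F184564) F184563
theorem E18207 : n60396 = n54390 := (c18_4 (iv1 F53132) D33940 (iv1 F87255) (iv4 F94915) (iv5 F183161) (iv4 F184319) F184566 (iv4 D69602) F85639 F130934)
theorem F184567 : act 0 n54390 = n105949 := (sb E18207 (iv1 F162996))
theorem F184568 : act 1 n54390 = n106050 := (sb E18207 (iv0 F162880))
theorem E18208 : n28685 = n26308 := (((F85875).symm.trans (sb E18207 (iv3 D60396)))).symm
theorem E18209 : n55159 = n55054 := ((((iv4 F87072)).symm.trans (sb E18207 F94915))).symm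
theorem E18210 : n54391 = n49023 := ((D54391).symm.trans (sb E18208 (iv1 F77364)))
theorem E18211 : n54392 = n13671 := ((D54392).symm.trans (sb E18208 (iv0 D28685)))
theorem E18213 : n60397 = n41652 := ((((iv4 F64279)).symm.trans (sb E18208 D60397))).symm
theorem F184569 : act 0 n55054 = n26656 := (sb E18209 (iv1 D55159))
theorem F184570 : act 1 n55054 = n33940 := (sb E18209 F87255)
theorem E18217 : n32481 = n28686 := ((((iv1 F77366)).symm.trans (sb E18210 (iv1 F85879)))).symm
theorem F184571 : act 1 n49023 = n26308 := (sb E18210 (iv0 D54391))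
theorem F184572 : act 0 n13671 = n26308 := (sb E18211 (iv1 D54392))
theorem E18218 : n89160 = n72789 := ((D89160).symm.trans (sb E18213 F109275))
theorem E18219 : n89161 = n73314 := ((D89161).symm.trans (sb E18213 (iv0 F162997)))
theorem F184573 : act 2 n28686 = n54393 := (sb E18217 (iv2 F85877))
theorem E18220 : n69947 = n60300 := ((((iv3 F131202)).symm.trans (sb E18217 (iv3 F106375)))).symm
theorem E18221 : n69951 = n60402 := (((D60402).symm.trans (sb E18217 (iv4 F106376)))).symm
theorem E18222 : n60403 = n59978 := ((D60403).symm.trans (sb E18217 (iv5 F155381)))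
theorem E18223 : n60404 = n18799 := ((D60404).symm.trans (sb E18217 F155137))
theorem F184574 : act 7 n28686 = n15376 := (sb E18217 (iv7 D32481))
theorem F184575 : act 1 n72789 = n41652 := (sb E18218 (iv0 D89160))
theorem F184576 : act 0 n73314 = n41652 := (sb E18219 (iv1 D89161))
theorem E18224 : n84899 = n55005 := (((F131203).symm.trans (sb E18220 (iv4 F130109)))).symm
theorem F184577 : act 6 n60300 = n39753 := (sb E18220 F155148)
theorem F184578 : act 7 n60300 = n32477 := (sb E18220 (iv7 D69947))
theorem F184579 : act 2 n60402 = n89163 := (sb E18221 (iv2 F136868))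
theorem F184580 : act 3 n60402 = n101462 := (sb E18221 (iv3 F156281))
theorem F184581 : act 6 n60402 = n39754 := (sb E18221 F155149)
theorem F184582 : act 7 n60402 = n32478 := (sb E18221 (iv7 D69951))
theorem F184583 : act 5 n59978 = n28686 := (sb E18222 (iv5 D60403))
theorem F184584 : act 6 n18799 = n28686 := (sb E18223 (iv6 D60404))
theorem F184585 : act 6 n55005 = n39341 := (sb E18224 F155160)
theorem F184586 : act 7 n55005 = n39279 := (sb E18224 (iv7 D84899))
theorem E18225 : n55006 = n54917 := ((c15_4 F87014 F87018 F184586 (iv2 F86867))).symm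
theorem F184587 : act 0 n54917 = n26595 := (sb E18225 (iv1 D55006))
theorem F184588 : act 1 n54917 = n26600 := (sb E18225 F87014)
theorem E18226 : n60301 = n60040 := ((((iv4 F94553)).symm.trans (sb E18225 F163003))).symm
theorem F184589 : act 0 n60040 = n28648 := (sb E18226 (iv1 D60301))
theorem E18227 : n73929 = n71878 := ((((iv3 F108362)).symm.trans (sb E18226 (iv3 F110725)))).symm
theorem F184590 : act 0 n71878 = n73153 := (sb E18227 (iv1 F163002))
theorem F184591 : act 1 n71878 = n49017 := (sb E18227 (iv0 F162850))
theorem E18228 : n33943 = n33830 := (((F108363).symm.trans (sb E18227 (iv4 D73929)))).symm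
theorem E18229 : n73608 = n55155 := ((D73608).symm.trans (sb E18228 (iv1 F87246)))
theorem E18230 : n73609 = n16409 := ((D73609).symm.trans (sb E18228 (iv0 D33943)))
theorem E18231 : n73927 = n55054 := ((((iv2 F87070)).symm.trans (sb E18228 D73927))).symm
theorem E18235 : n73932 = n73611 := (((D73611).symm.trans (sb E18228 D73932))).symm
theorem F184592 : act 1 n55155 = n33830 := (sb E18229 (iv0 D73608))
theorem F184593 : act 0 n16409 = n33830 := (sb E18230 (iv1 D73609))
theorem F184594 : act 7 n55054 = n33944 := (sb E18231 (iv7 F110724))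
theorem F184595 : act 2 n73611 = n33944 := (sb E18235 F110726)
theorem E18236 : n73936 = n58432 := (c3_3 (iv6 F155418) F184595 D73936 F131860)
theorem F184596 : act 6 n58432 = n33944 := (sb E18236 (iv6 D73936))
theorem E18237 : n73611 = n55158 := (c15_4 (iv0 D55158) (iv0 F184569) F184594 (iv2 F184595))
theorem F184597 : act 2 n55158 = n33944 := (sb E18237 F184595)
theorem F184598 : act 6 n55158 = n39401 := (sb E18237 F155418)
theorem F184599 : act 7 n55158 = n33830 := (sb E18237 (iv7 D73611))
theorem E18238 : n75406 = n73933 := ((c7_2 F184596 D73933 F113158 (iv3 F155143))).symm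
theorem F184600 : act 0 n73933 = n38034 := (sb E18238 (iv1 F113160))
theorem F184601 : act 1 n73933 = n38033 := (sb E18238 F113161)
theorem F184602 : act 2 n73933 = n38036 := (sb E18238 F113156)
theorem F184603 : act 4 n73933 = n41660 := (sb E18238 F113157)
theorem F184604 : act 6 n73933 = n37902 := (sb E18238 F113158)
theorem F184605 : act 7 n73933 = n34511 := (sb E18238 (iv7 D75406))
theorem F184606 : act 6 n73934 = n58532 := d10_2 F184596 D73934 F92469
theorem E18239 : n54393 = n49021 := (c7_3 F184606 (iv3 D58532) (iv6 F155130) F110728)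
theorem E18240 : n32480 = n28687 := ((((iv1 F77361)).symm.trans (sb E18239 (iv1 F85880)))).symm
theorem E18241 : n32479 = n23915 := ((((iv0 D49021)).symm.trans (sb E18239 F85881))).symm
theorem E18242 : n106063 = n28686 := ((D106063).symm.trans (sb E18239 (iv2 F184573)))
theorem E18243 : n89163 = n73318 := (((F109812).symm.trans (sb E18239 (iv4 F136870)))).symm
theorem E18244 : n106064 = n105848 := ((D106064).symm.trans (sb E18239 (iv5 F162538)))
theorem E18245 : n106065 = n27848 := ((D106065).symm.trans (sb E18239 F155130))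
theorem E18246 : n106066 = n26308 := ((D106066).symm.trans (sb E18239 (iv7 D54393)))
theorem E18247 : n49022 = n15376 := (((iv1 F77365)).symm.trans (sb E18240 (iv1 D32480)))
theorem E18251 : n69960 = n60406 := (((D60406).symm.trans (sb E18240 D69960))).symm
theorem E18252 : n69961 = n60407 := (((D60407).symm.trans (sb E18240 D69961))).symm
theorem E18257 : n69956 = n49026 := (((D49026).symm.trans (sb E18241 D69956))).symm
theorem F184607 : act 2 n28686 = n49021 := (sb E18242 (iv2 D106063))
theorem E18258 : n69949 = n33731 := ((((iv1 D73318)).symm.trans (sb E18243 (iv1 F136873)))).symm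
theorem F184608 : act 1 n73318 = n69948 := (sb E18243 F136874)
theorem F184609 : act 2 n73318 = n60402 := (sb E18243 (iv2 F184579))
theorem F184610 : act 3 n73318 = n41660 := (sb E18243 F136869)
theorem F184611 : act 6 n73318 = n47240 := (sb E18243 F136871)
theorem F184612 : act 7 n73318 = n41652 := (sb E18243 (iv7 D89163))
theorem F184613 : act 5 n105848 = n49021 := (sb E18244 (iv5 D106064))
theorem F184614 : act 6 n27848 = n49021 := (sb E18245 (iv6 D106065))
theorem F184615 : act 7 n26308 = n49021 := (sb E18246 (iv7 D106066))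
theorem F184616 : act 0 n15376 = n23915 := (sb E18247 (iv1 D49022))
theorem F184617 : act 1 n15376 = n28687 := (sb E18247 F77365)
theorem F184618 : act 6 n60406 = n67940 := (sb E18251 (iv6 F106380))
theorem F184619 : act 0 n60407 = n86011 := (sb E18252 F155563)
theorem F184620 : act 1 n60407 = n32494 := (sb E18252 F155564)
theorem F184621 : act 5 n60407 = n70700 := (sb E18252 (iv5 F107160))
theorem E18263 : n61713 = n50051 := ((((iv5 F79217)).symm.trans (sb E18257 F106378))).symm
theorem E18264 : n73317 = n32478 := ((D73317).symm.trans (sb E18258 (iv1 D69949)))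
theorem E18265 : n108392 = n29258 := ((D108392).symm.trans (sb E18263 (iv1 D61713)))
theorem E18266 : n108393 = n69901 := ((D108393).symm.trans (sb E18263 F106322))
theorem F184622 : act 1 n32478 = n33731 := (sb E18264 (iv0 D73317))
theorem E18267 : n61774 = n61712 := (((D61712).symm.trans (sb E18265 (iv1 F167572)))).symm
theorem F184623 : act 1 n29258 = n50051 := (sb E18265 (iv0 D108392))
theorem F184624 : act 0 n69901 = n50051 := (sb E18266 (iv1 D108393))
theorem F184625 : act 2 n61712 = n49875 := (sb E18267 F110521)
theorem F184626 : act 3 n61712 = n29282 := (sb E18267 (iv3 D61774))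
theorem F184627 : act 7 n61712 = n62873 := (sb E18267 (iv7 F110517))
theorem F184628 : act 7 n54390 = n73934 := d14_0 F184606 F155123 (iv6 D32472) (iv7 F41918) D54390
theorem F184629 : act 2 n72789 = n69948 := d15_3 (iv0 D69948) F184622 (iv7 F110001)
theorem E18268 : n69945 = n54980 := (c20_11 (iv4 D54980) (iv1 F86847) F86842 F42524 (iv1 F25773) D16292 D33731 (iv1 F184622) F51565 (iv3 F51564) D69945)
theorem F184630 : act 1 n54980 = n32477 := (sb E18268 (iv0 D69945))
theorem F184631 : act 0 n67974 = n117635 := d18_0 (iv4 D117635) (iv1 F184103) F184099 F85476 (iv4 F86842) F86847 D54980 F184630 (iv5 F104087)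
theorem F184632 : act 0 n69272 = n67977 := d20_7 (iv4 D117635) (iv1 F184103) F184099 F85475 (iv1 F51107) D32203 D69272 F104088 (iv3 F104086) F184631
theorem E18269 : n73312 = n69270 := (c18_10 (iv1 D69270) D69272 F184632 F104088 F50450 (iv4 F51565) F184622 (iv4 D33731) D33729 D73312)
theorem F184633 : act 3 n69270 = n33882 := (sb E18269 F110026)
theorem F184634 : act 5 n69270 = n33729 := (sb E18269 (iv5 D73312))
theorem F184635 : act 4 n69948 = n72788 := d1_2 D72789 F184629 (iv2 D72788)
theorem F184636 : act 7 n69948 = n73314 := d4_2 (iv7 F110001) F184629 F109809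
theorem F184637 : act 3 n69948 = n101259 := d20_3 F163021 (iv1 F109998) (iv4 F184635) (iv1 F156026) F125893 F58374 F124284 D18842 (iv3 F46236) D60408
theorem F184638 : act 4 n101259 = n60279 := d5_2 (iv4 F184635) F184637 (iv3 D60279) F110020 (iv3 F109999)
theorem F184639 : act 7 n101259 = n81868 := d8_2 (iv7 F184636) F184637 (iv3 F163035)
theorem F184640 : act 2 n81868 = n101260 := d15_3 F156019 F156026 F184639
theorem F184641 : act 2 n101259 = n81867 := d15_3 (iv0 D81867) D81868 (iv7 F184639)
theorem F184642 : act 7 n81867 = n101260 := d4_2 (iv7 F184639) F184641 (iv2 F184640)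
theorem F184643 : act 2 n70700 = n60418 := d2_1 F184621 (iv5 D60418) (iv2 F94920)
theorem E18270 : n70809 = n70701 := ((c15_2 (iv0 D70700) D70701 F107279 (iv2 F184643))).symm
theorem F184644 : act 3 n70701 = n32817 := (sb E18270 (iv3 D70809))
theorem E18271 : n70015 = n60419 := (((iv5 F155392)).symm.trans (sb E18270 F107277))
theorem F184645 : act 6 n70701 = n62812 := (sb E18270 F107278)
theorem F184646 : act 7 n70701 = n60418 := (sb E18270 F107279)
theorem F184647 : act 0 n60419 = n32494 := (sb E18271 (iv1 D70015))
theorem F184648 : act 1 n60419 = n86011 := (sb E18271 F155279)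
theorem F184649 : act 5 n60419 = n70701 := (sb E18271 F155392)
theorem F184650 : act 0 n62812 = n61671 := d21_4 (iv5 F155278) (iv1 F184648) F184649 F184645 (iv6 D61671) F46885 F50575 D13907 D29252 D61691
theorem F184651 : act 0 n54412 = n78348 := d21_4 (iv5 F107170) (iv1 D70706) F51898 D54412 F119568 F184649 (iv1 D70701) (iv5 D32780) D32781 (iv1 F155263)
theorem E18272 : n107995 = n61714 := (c21_2 F119567 D107995 F96310 F51862 (iv1 F51878) D70652 (iv5 F107170) (iv1 D70706) F51898 D54412 F184651)
theorem E18273 : n69899 = n62873 := (((iv1 F106315)).symm.trans (sb E18272 (iv1 F166860)))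
theorem E18274 : n69898 = n49875 := ((F106321).symm.trans (sb E18272 (iv0 D107995)))
theorem E18275 : n107996 = n32460 := (((iv1 F166861)).symm.trans (sb E18273 (iv1 D69899)))
theorem F184652 : act 1 n62873 = n61714 := (sb E18273 F106315)
theorem F184653 : act 0 n49875 = n61714 := (sb E18274 (iv1 F106321))
theorem F184654 : act 0 n32460 = n49875 := (sb E18275 (iv1 D107996))
theorem F184655 : act 1 n32460 = n62873 := (sb E18275 F166861)
theorem F184656 : act 1 n62812 = n61683 := d15_1 (iv0 F184650) (iv7 D61683) (iv2 F96252)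
theorem F184657 : act 4 n70001 = n73947 := d20_6 (iv4 F42171) (iv1 F30003) (iv4 F46247) (iv3 F94927) F184647 (iv3 F106407) (iv1 D73947) F53290 F25898 D16417
theorem F184658 : act 6 n73947 = n69999 := d10_2 D70001 F184657 (iv4 D69999)
theorem F184659 : act 2 n67940 = n60415 := d3_1 F184618 (iv6 D60415) (iv2 F94919)
theorem F184660 : act 3 n67940 = n68537 := d7_1 F184618 (iv6 F163090) F163087
theorem E18276 : n67941 = n67893 := (c15_2 (iv0 D67940) D67941 F103956 (iv2 F184659))
theorem F184661 : act 0 n67893 = n31604 := (sb E18276 (iv1 D67941))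
theorem F184662 : act 1 n67893 = n68434 := (sb E18276 F104632)
theorem F184663 : act 0 n117253 = n73964 := d20_7 (iv4 F102697) (iv1 F102699) (iv4 F101353) D67893 F184661 (iv3 F104024) (iv4 F183483) F110738 F53291 (iv1 F50362)
theorem E18277 : n84896 = n54902 := (c20_8 (iv4 F162954) (iv1 F163085) (iv4 D106087) F77389 (iv1 F184617) (iv3 F51564) (iv4 F60250) D84896 (iv4 D54902) D54901 F162881)
theorem F184664 : act 1 n54902 = n39279 := (sb E18277 (iv0 D84896))
theorem E18278 : n84897 = n54907 := (c15_2 F184664 D84897 F162707 (iv2 F162716))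
theorem F184665 : act 0 n54907 = n39279 := (sb E18278 (iv1 D84897))
theorem F184666 : act 4 n82397 = n101460 := d20_6 (iv4 D54902) (iv1 F42526) (iv4 F42590) F42589 (iv1 F58636) D82397 (iv1 D101460) (iv4 F130108) F130107 (iv1 F184664)
theorem F184667 : act 3 n101460 = n56625 := d5_1 F184666 F125913 (iv3 F125912) (iv4 F121891) D82397
theorem F184668 : act 7 n101460 = n81875 := d11_2 (iv7 F126913) F184666 F125899
theorem F184669 : act 2 n81875 = n101459 := d15_3 (iv0 D101459) D101460 F184668
theorem F184670 : act 4 n101459 = n84009 := d1_2 (iv4 F125899) F184669 (iv2 D84009)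
theorem E18279 : n98518 = n38036 := (c20_2 D46066 D98518 F58867 (iv3 F74493) (iv1 F156277) F184667 F125913 (iv1 D35399) (iv4 F29813) F29812 D22004)
theorem E18280 : n75404 = n46071 := (((iv1 F113153)).symm.trans (sb E18279 (iv1 F151920)))
theorem E18281 : n75403 = n46066 := ((F113159).symm.trans (sb E18279 (iv0 D98518)))
theorem E18282 : n98519 = n34511 := (((iv1 F151916)).symm.trans (sb E18280 (iv1 D75404)))
theorem F184671 : act 1 n46071 = n38036 := (sb E18280 F113153)
theorem F184672 : act 0 n46066 = n38036 := (sb E18281 (iv1 F113159))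
theorem F184673 : act 0 n34511 = n46066 := (sb E18282 (iv1 D98519))
theorem F184674 : act 1 n34511 = n46071 := (sb E18282 F151916)
theorem F184675 : act 0 n98556 = n89189 := d18_2 (iv1 F136730) D98556 (iv4 D89189) (iv5 D41659) (iv4 F54744) F184674 (iv4 D46071) F64190 (iv5 F136728)
theorem F184676 : act 3 n106074 = n98535 := d20_3 (iv4 D72789) D72786 F163034 (iv1 D98535) (iv3 D46070) D46071 (iv1 F184674) F54744 (iv3 F64278) (iv1 F184575)
theorem F184677 : act 1 n98556 = n101537 := d15_1 (iv0 F184675) (iv7 D101537) (iv2 F136883)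
theorem F184678 : act 5 n98522 = n83398 := d21_6 F29495 F16680 D16741 D34511 F184673 D98522 (iv1 D83398) (iv5 D38416) (iv6 D18323) (iv1 F29493)
theorem F184679 : act 0 n101827 = n98522 := d17_0 F184678 (iv1 D83398) (iv5 D38416) F29521 D22616 D47047 (iv5 F136880) (iv0 F156483) (iv4 F156790)
theorem F184680 : act 1 n99717 = n98522 := d15_0 (iv0 F184679) (iv7 D101827) (iv2 F156719)
theorem F184681 : act 1 n101537 = n98551 := d18_6 D22004 D46066 F184672 F58867 (iv5 F74497) (iv4 F156343) (iv4 D98551) (iv0 D46074) (iv5 D22006)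
theorem E18283 : n101499 = n18381 := (c20_2 D47229 (iv1 F156310) F29557 (iv3 F29812) (iv1 F125917) (iv3 F77367) (iv4 D49024) D49021 F109812 F184610 (iv1 F64289))
theorem E18284 : n47224 = n38602 := (((D38602).symm.trans (sb E18283 (iv1 D101499)))).symm
theorem E18285 : n47229 = n38603 := (((D38603).symm.trans (sb E18283 F156310))).symm
theorem E18287 : n89179 = n83778 := (((D83778).symm.trans (sb E18284 (iv2 F156754)))).symm
theorem E18289 : n83780 = n22715 := ((D83780).symm.trans (sb E18284 (iv4 D47224)))
theorem E18291 : n101502 = n83782 := (((D83782).symm.trans (sb E18284 D101502))).symm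
theorem E18292 : n89184 = n83783 := (((D83783).symm.trans (sb E18284 (iv7 F156747)))).symm
theorem E18294 : n83785 = n22716 := ((D83785).symm.trans (sb E18285 (iv4 D47229)))
theorem E18296 : n101521 = n83787 := (((D83787).symm.trans (sb E18285 D101521))).symm
theorem F184682 : act 4 n83778 = n41657 := (sb E18287 (iv4 D89179))
theorem F184683 : act 4 n22715 = n38602 := (sb E18289 (iv4 D83780))
theorem F184684 : act 4 n83782 = n47226 := (sb E18291 F156311)
theorem F184685 : act 4 n83783 = n41658 := (sb E18292 (iv4 D89184))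
theorem E18297 : n47228 = n47155 := ((D47228).symm.trans (sb E18294 (iv3 F128818)))
theorem F184686 : act 4 n22716 = n38603 := (sb E18294 (iv4 D83785))
theorem F184687 : act 4 n83787 = n47231 := (sb E18296 F156324)
theorem F184688 : act 3 n47155 = n22716 := (sb E18297 (iv3 D47228))
theorem E18302 : n101517 = n101270 := (((D101270).symm.trans (sb E18297 D101517))).symm
theorem E18303 : n101518 = n101271 := (((D101271).symm.trans (sb E18297 D101518))).symm
theorem E18304 : n101263 = n89178 := ((F156029).symm.trans (sb E18297 (iv7 F156753)))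
theorem F184689 : act 3 n101270 = n47230 := (sb E18302 F156322)
theorem F184690 : act 3 n101271 = n47231 := (sb E18303 F156323)
theorem F184691 : act 2 n89178 = n47154 := (sb E18304 (iv2 D101263))
theorem F184692 : act 7 n89178 = n47155 := (sb E18304 (iv7 F156029))
theorem E18305 : n101493 = n101264 := ((c0_3 D89178 F184691 D101264 (iv2 D101493) (iv3 D47223) (iv2 F156751))).symm
theorem F184693 : act 2 n101264 = n47223 := (sb E18305 (iv2 D101493))
theorem E18306 : n101531 = n98559 := ((c18_7 (iv1 F64289) F184686 (iv1 D38603) F29557 D22006 D46076 D98559 (iv4 D101531) F136888 F136886)).symm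
theorem F184694 : act 4 n98559 = n47233 := (sb E18306 (iv4 D101531))
theorem E18307 : n83783 = n75536 := ((c20_11 F184685 (iv1 D41658) (iv4 F54744) (iv3 F87071) F184569 (iv3 F61303) (iv4 D40284) (iv1 F125925) (iv4 F56122) (iv3 F59421) (iv1 F113379))).symm
theorem F184695 : act 2 n75536 = n38603 := (sb E18307 F128817)
theorem F184696 : act 4 n75536 = n41658 := (sb E18307 F184685)
theorem F184697 : act 7 n75536 = n38602 := (sb E18307 (iv7 D83783))
theorem E18308 : n83778 = n75535 := (c15_4 (iv0 D75535) D75536 F184697 D83778)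
theorem F184698 : act 2 n75535 = n38602 := (sb E18308 (iv2 D83778))
theorem E18309 : n88091 = n41657 := (((iv4 F135080)).symm.trans (sb E18308 F184682))
theorem F184699 : act 7 n75535 = n38603 := (sb E18308 (iv7 F128816))
theorem E18310 : n89178 = n41133 := ((D89178).symm.trans (sb E18309 (iv3 D88091)))
theorem F184700 : act 4 n41657 = n75535 := (sb E18309 F135080)
theorem E18311 : n88090 = n47154 := ((D88090).symm.trans (sb E18310 F184691))
theorem F184701 : act 3 n41133 = n41657 := (sb E18310 (iv3 D89178))
theorem E18312 : n88095 = n47155 := ((D88095).symm.trans (sb E18310 F184692))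
theorem F184702 : act 2 n47154 = n41133 := (sb E18311 (iv2 D88090))
theorem E18313 : n101268 = n41134 := ((D101268).symm.trans (sb E18311 (iv7 F135079)))
theorem F184703 : act 7 n47155 = n41133 := (sb E18312 (iv7 D88095))
theorem F184704 : act 2 n41134 = n47155 := (sb E18313 F156031)
theorem F184705 : act 7 n41134 = n47154 := (sb E18313 (iv7 D101268))
theorem F184706 : act 7 n101264 = n88096 := d8_2 F184705 D101264 (iv3 D88096)
theorem F184707 : act 7 n101265 = n88097 := d11_2 F184705 D101265 (iv4 D88097)
theorem F184708 : act 7 n101266 = n88098 := d13_2 F184705 D101266 (iv5 D88098)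
theorem F184709 : act 2 n88096 = n89183 := d4_1 F184706 F156745 (iv2 F184693)
theorem F184710 : act 1 n101492 = n88096 := d15_1 D101492 (iv7 F184706) F184693
theorem F184711 : act 1 n88096 = n101491 := d15_0 (iv0 D101491) (iv7 F156745) (iv2 F184709)
theorem F184712 : act 2 n101269 = n88097 := d1_3 (iv4 D88097) F184704 D101269
theorem F184713 : act 2 n101270 = n88098 := d2_3 (iv5 D88098) F184704 D101270
theorem F184715 : act 7 n88092 = n101269 := d11_2 F184703 D88092 (iv4 D101269)
theorem F184719 : act 2 n101265 = n88092 := d4_3 F184715 F184712 (iv7 F184707)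
theorem F184720 : act 1 n73737 = n88092 := d15_1 (iv0 F135082) F184715 F184712
theorem F184721 : act 2 n88094 = n101267 := d3_3 (iv6 D101267) F184702 D88094
theorem F184722 : act 2 n88062 = n101213 := d2_3 (iv5 F155924) F184721 F156030
theorem F184724 : act 7 n88061 = n101213 := d15_2 F155930 F155931 (iv2 F184722)
theorem F184726 : act 7 n88094 = n101347 := d13_2 F184724 (iv5 F155924) F156118
theorem F184727 : act 7 n88151 = n101271 := d14_2 F184726 F156119 (iv6 D101271) F184703 D88094
theorem F184728 : act 3 n101526 = n88151 := d8_3 F184727 F184690 D101526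
theorem E18315 : n101834 = n101347 := ((c7_3 (iv6 F156736) F184728 (iv6 F156119) (iv3 D101834))).symm
theorem F184730 : act 3 n101347 = n47324 := (sb E18315 (iv3 D101834))
theorem F184731 : act 3 n99447 = n88061 := d6_3 (iv5 F156118) F184730 F153183
theorem F184732 : act 3 n89181 = n88094 := d8_3 F184726 F184730 (iv7 F156759)
theorem E18316 : n101213 = n100957 := (c6_3 (iv5 F136880) F184732 F155924 (iv3 D100957))
theorem F184733 : act 0 n100957 = n47136 := (sb E18316 (iv1 D101213))
theorem E18317 : n83779 = n83675 := ((c20_5 (iv4 D16409) F130762 (iv4 F52412) (iv3 F59400) D83675 (iv3 D83779) (iv4 F184683) (iv1 F64290) (iv4 F184603) (iv3 D73933) (iv1 D33944))).symm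
theorem F184738 : act 3 n83675 = n38602 := (sb E18317 (iv3 D83779))
theorem E18318 : n83357 = n82403 := (c20_8 F88716 F125919 (iv4 F53289) (iv3 D33945) F184593 (iv3 F110303) F110304 D83357 F126932 (iv3 D77548) (iv1 F88720))
theorem F184739 : act 1 n82403 = n38404 := (sb E18318 (iv0 D83357))
theorem E18319 : n68432 = n60415 := ((c21_4 F184583 (iv1 D28686) D28689 D60415 (iv1 F104631) (iv6 F104614) F104613 (iv1 F155356) D34777 D76137 (iv1 F130844))).symm
theorem F184740 : act 0 n60415 = n67942 := (sb E18319 (iv1 F104631))
theorem F184741 : act 1 n60415 = n31845 := (sb E18319 (iv0 D68432))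
theorem F184742 : act 7 n68433 = n67940 := d15_2 F184741 D68433 F184659
theorem F184743 : act 2 n67893 = n68433 := d4_3 F184742 F184659 (iv7 F103956)
theorem F184744 : act 3 n68331 = n68433 := d8_3 F184742 F184660 F110534
theorem E18320 : n81875 = n47218 := (c20_4 F44598 D56620 F126113 D81875 (iv1 F156285) (iv3 F184580) (iv4 D60402) (iv1 D28686) D28688 F46236 (iv1 F125962))
theorem E18321 : n101471 = n101459 := ((D101471).symm.trans (sb E18320 F184669))
theorem E18322 : n101472 = n37485 := ((D101472).symm.trans (sb E18320 (iv3 D81875)))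
theorem E18323 : n101473 = n38692 := ((D101473).symm.trans (sb E18320 F125899))
theorem E18324 : n101476 = n101460 := ((D101476).symm.trans (sb E18320 (iv7 F184668)))
theorem F184745 : act 2 n101459 = n47218 := (sb E18321 (iv2 D101471))
theorem F184746 : act 7 n101459 = n47219 := (sb E18321 (iv7 F156295))
theorem F184747 : act 3 n37485 = n47218 := (sb E18322 (iv3 D101472))
theorem F184748 : act 4 n38692 = n47218 := (sb E18323 (iv4 D101473))
theorem F184749 : act 2 n101460 = n47219 := (sb E18324 F156296)
theorem F184751 : act 2 n101477 = n81878 := d0_3 (iv3 F184667) F184749 D101477 (iv3 D81878) F124442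
theorem F184752 : act 2 n101478 = n82397 := d1_3 F184666 F184749 D101478
theorem F184753 : act 3 n84019 = n101478 := d0_0 F184752 (iv3 D82397) F124455 D38697 D84019
theorem F184754 : act 7 n84009 = n101478 := d4_0 F184752 F126913 D84009
theorem F184755 : act 1 n101478 = n84007 := d15_0 (iv0 D84007) (iv7 F126913) (iv2 F184752)
theorem F184756 : act 1 n84008 = n101478 := d15_1 D84008 (iv7 F184754) (iv2 D84009)
theorem E18325 : n84209 = n82730 := (c20_5 F58640 (iv1 F29295) D18456 D38834 D84209 F127499 F74491 D47218 (iv4 F184748) (iv3 D38692) (iv1 F58644))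
theorem F184758 : act 1 n82730 = n38834 := (sb E18325 (iv0 D84209))
theorem E18326 : n84210 = n83360 := (c15_2 F184758 D84210 (iv7 D83360) (iv2 F127498))
theorem F184759 : act 0 n83360 = n38834 := (sb E18326 (iv1 D84210))
theorem E18327 : n82751 = n41588 := (c20_1 D82751 (iv1 F64189) (iv4 F59422) F59421 (iv1 F126032) D84201 F129254 (iv1 F184758) F127500 F58863 D38033)
theorem E18328 : n89045 = n38033 := ((D89045).symm.trans (sb E18327 (iv4 D82751)))
theorem E18329 : n82750 = n77640 := ((D82750).symm.trans (sb E18328 (iv3 F136721)))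
theorem F184760 : act 4 n38033 = n41588 := (sb E18328 (iv4 D89045))
theorem F184761 : act 3 n77640 = n38033 := (sb E18329 (iv3 D82750))
theorem F184763 : act 4 n89047 = n82753 := d10_3 (iv6 D82753) F184760 D89047
theorem F184764 : act 4 n89048 = n82754 := d11_3 (iv7 D82754) F184760 D89048
theorem E18330 : n73330 = n72958 := (c20_8 (iv4 F184760) (iv1 F184601) F184603 (iv3 F184610) (iv1 D73318) D73319 F109813 D73330 F109463 F64180 D41588)
theorem F184765 : act 1 n72958 = n33734 := (sb E18330 (iv0 D73330))
theorem E18331 : n82756 = n41589 := (c1_3 F184764 F127509 D82756 (iv2 F136723))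
theorem E18332 : n89050 = n38034 := ((D89050).symm.trans (sb E18331 (iv4 D82756)))
theorem F184766 : act 4 n38034 = n41589 := (sb E18332 (iv4 D89050))
theorem F184768 : act 4 n89054 = n101534 := d18_1 (iv1 F136724) (iv1 D101534) (iv4 D47234) (iv5 D22717) (iv4 F29375) D38034 F184766 F64184 (iv5 F72645)
theorem F184770 : act 3 n101475 = n81877 := d7_3 (iv6 D81877) F184747 D101475
theorem F184771 : act 0 n70607 = n60418 := d21_1 D70607 (iv5 D60418) (iv6 D28690) F184572 (iv6 D26308) F27194 (iv1 F9267) D7374 D15675 D32751
theorem F184772 : act 1 n70612 = n60418 := d15_0 (iv0 F184771) F155317 (iv2 F155308)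
theorem F184773 : act 5 n60413 = n54459 := d21_2 D106072 (iv1 F163028) (iv6 D54459) (iv1 D26335) (iv6 D12560) (iv5 D5968) D5965 (iv5 F27194) D26308 (iv1 F184571)
theorem E18333 : n61740 = n60416 := ((c21_5 (iv5 F184773) (iv1 D60413) (iv5 D28689) D28690 D60416 F155194 (iv5 F155388) (iv1 F155394) (iv5 D69864) D69865 F155395)).symm
theorem F184774 : act 2 n60416 = n86011 := (sb E18333 (iv2 F155277))
theorem F184775 : act 5 n60416 = n29265 := (sb E18333 (iv5 D61740))
theorem F184776 : act 6 n60416 = n58554 := (sb E18333 F155194)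
theorem F184777 : act 7 n60416 = n32494 := (sb E18333 F155207)
theorem E18334 : n61745 = n60417 := ((c15_2 (iv0 D60416) D60417 F155276 (iv2 F184774))).symm
theorem F184778 : act 2 n60417 = n32494 := (sb E18334 F155212)
theorem F184779 : act 5 n60417 = n29266 := (sb E18334 (iv5 D61745))
theorem F184780 : act 6 n60417 = n32465 := (sb E18334 F96339)
theorem F184782 : act 1 n117843 = n69605 := d15_0 (iv0 D69605) (iv7 F85645) (iv2 F184563)
def n117844 : Q := act 5 n54280
theorem D117844 : act 5 n54280 = n117844 := rfl
theorem F184783 : act 2 n117844 = n54282 := d2_1 D117844 (iv5 D54282) D54280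
theorem F184784 : act 3 n117844 = n69559 := d6_1 D117844 (iv5 D69559) (iv3 F85640)
theorem F184785 : act 7 n117844 = n69603 := d13_2 (iv7 F85641) D117844 (iv5 D69603)
theorem F184786 : act 0 n117844 = n69611 := d21_1 D117844 (iv5 F183510) (iv6 D68897) (iv1 D32040) (iv6 D15115) (iv5 D7183) D7179 D15098 D32011 F130863
theorem F184787 : act 1 n117844 = n69610 := d15_0 (iv0 D69610) (iv7 F85647) (iv2 F184783)
def n117845 : Q := act 0 n54281
theorem D117845 : act 0 n54281 = n117845 := rfl
theorem F184788 : act 1 n69602 = n117845 := d15_0 (iv0 D117845) F85645 (iv2 F105884)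
theorem F184789 : act 7 n117845 = n69396 := d15_2 F184566 F184788 (iv2 F184318)
def n117846 : Q := act 3 n54281
theorem D117846 : act 3 n54281 = n117846 := rfl
theorem F184790 : act 4 n117846 = n54284 := d5_2 D54281 D117846 (iv3 D54284) (iv4 D26244) D26243
theorem F184791 : act 7 n117846 = n69607 := d8_2 (iv7 F85645) D117846 (iv3 D69607)
def n117847 : Q := act 5 n54281
theorem D117847 : act 5 n54281 = n117847 := rfl
theorem F184792 : act 7 n117847 = n69608 := d13_2 (iv7 F85645) D117847 (iv5 D69608)
def n117848 : Q := act 4 n54282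
theorem D117848 : act 4 n54282 = n117848 := rfl
theorem F184793 : act 3 n117848 = n80331 := d5_1 D117848 F123411 F91309 F41674 (iv3 F85646)
theorem F184794 : act 7 n117848 = n69612 := d11_2 (iv7 F85647) D117848 (iv4 D69612)
def n117849 : Q := act 0 n54284
theorem D117849 : act 0 n54284 = n117849 := rfl
theorem F184795 : act 1 n69619 = n117849 := d15_0 (iv0 D117849) F85649 D69619
def n117850 : Q := act 1 n54284
theorem D117850 : act 1 n54284 = n117850 := rfl
def n117851 : Q := act 2 n54284
theorem D117851 : act 2 n54284 = n117851 := rfl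
theorem F184796 : act 3 n117851 = n69578 := d0_2 D54284 D117851 (iv2 D69578) (iv3 D32302) (iv2 F51257)
theorem F184797 : act 7 n117851 = n69619 := d4_2 (iv7 F85649) D117851 (iv2 D69619)
theorem F184798 : act 1 n117851 = n69617 := d15_0 (iv0 D69617) (iv7 F85649) D117851
theorem F184799 : act 1 n117850 = n69619 := d15_1 D117850 (iv7 F184797) (iv2 D117851)
theorem F184800 : act 1 n69618 = n117851 := d15_1 D69618 F184797 (iv2 D69619)
def n117852 : Q := act 5 n54284
theorem D117852 : act 5 n54284 = n117852 := rfl
theorem F184801 : act 3 n117852 = n54285 := d6_1 D117852 (iv5 D54285) D54284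
theorem F184802 : act 7 n117852 = n69620 := d13_2 (iv7 F85649) D117852 (iv5 D69620)
def n117853 : Q := act 6 n54284
theorem D117853 : act 6 n54284 = n117853 := rfl
theorem F184803 : act 3 n117853 = n54286 := d7_1 D117853 (iv6 D54286) D54284
def n117854 : Q := act 6 n54285
theorem D117854 : act 6 n54285 = n117854 := rfl
def n117855 : Q := act 1 n54286
theorem D117855 : act 1 n54286 = n117855 := rfl
theorem F184807 : act 7 n117855 = n65774 := d15_2 (iv0 F130311) D117855 F180999
theorem F184808 : act 4 n117855 = n76038 := d18_7 (iv1 F130800) (iv4 F107345) (iv1 F107348) F130822 (iv5 F130855) (iv4 F85654) D117855 (iv0 D76038) (iv5 D34741)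
theorem F184809 : act 2 n69585 = n117855 := d1_3 F184808 (iv2 F131116) (iv4 F105877)
def n117856 : Q := act 5 n54286
theorem D117856 : act 5 n54286 = n117856 := rfl
theorem F184810 : act 2 n117856 = n69586 := d2_1 D117856 (iv5 D69586) (iv2 F85653)
theorem F184811 : act 0 n117856 = n65649 := d17_2 (iv1 D117855) D117856 (iv5 D65649) F49212 (iv5 F26490) D32671 (iv5 F77150) (iv0 F131074) (iv4 F184808)
def n117857 : Q := act 7 n54286
theorem D117857 : act 7 n54286 = n117857 := rfl
theorem F184813 : act 4 n117857 = n54290 := d11_1 D117857 (iv7 D54290) (iv4 F85654)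
theorem F184814 : act 6 n117857 = n69626 := d14_1 D117857 (iv7 D69626) (iv6 D32321) (iv7 F51258) D54286
theorem F184815 : act 1 n69585 = n117857 := d15_1 D69585 (iv7 D117857) F85653
theorem F184816 : act 1 n117857 = n65774 := d15_1 F184815 (iv7 F184807) (iv2 F184809)
def n117858 : Q := act 2 n54291
theorem D117858 : act 2 n54291 = n117858 := rfl
theorem F184817 : act 7 n54292 = n117858 := d15_2 (iv0 D54291) D54292 (iv2 D117858)
def n117859 : Q := act 3 n54291
theorem D117859 : act 3 n54291 = n117859 := rfl
def n117860 : Q := act 4 n54291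
theorem D117860 : act 4 n54291 = n117860 := rfl
def n117861 : Q := act 5 n54291
theorem D117861 : act 5 n54291 = n117861 := rfl
def n117863 : Q := act 7 n54291
theorem D117863 : act 7 n54291 = n117863 := rfl
theorem F184818 : act 2 n117863 = n54292 := d4_1 D117863 F184817 (iv2 D117858)
def n117864 : Q := act 3 n54292
theorem D117864 : act 3 n54292 = n117864 := rfl
def n117865 : Q := act 4 n54292
theorem D117865 : act 4 n54292 = n117865 := rfl
def n117866 : Q := act 5 n54292
theorem D117866 : act 5 n54292 = n117866 := rfl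
def n117867 : Q := act 6 n54292
theorem D117867 : act 6 n54292 = n117867 := rfl
def n117868 : Q := act 4 n54293
theorem D117868 : act 4 n54293 = n117868 := rfl
theorem F184819 : act 2 n117868 = n54294 := d1_1 D117868 (iv4 D54294) D54293
theorem F184820 : act 7 n117868 = n69558 := d11_2 (iv7 F85673) D117868 (iv4 D69558)
theorem F184821 : act 1 n69317 = n117868 := d15_1 (iv0 F131154) F184820 F105838
theorem E18335 : n69551 = n16383 := (c18_10 (iv1 F53122) D55193 (iv1 F109938) F53011 (iv5 F104525) (iv4 F105593) F184821 (iv4 D117868) F85674 D69551)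
theorem E18336 : n33882 = n32294 := ((D33882).symm.trans (sb E18335 (iv5 D69551)))
theorem E18337 : n73741 = n54293 := ((((iv1 F85674)).symm.trans (sb E18336 D73741))).symm
theorem E18339 : n69548 = n55191 := ((D69548).symm.trans (sb E18336 (iv2 F162855)))
theorem E18340 : n69549 = n69270 := ((D69549).symm.trans (sb E18336 (iv3 F184633)))
theorem F184822 : act 5 n32294 = n16383 := (sb E18336 (iv5 D33882))
theorem E18343 : n69553 = n55186 := ((D69553).symm.trans (sb E18336 (iv7 F162866)))
theorem E18344 : n33887 = n32295 := ((((iv1 F85676)).symm.trans (sb E18337 (iv1 F110469)))).symm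
theorem F184823 : act 2 n55191 = n32294 := (sb E18339 (iv2 D69548))
theorem F184824 : act 3 n69270 = n32294 := (sb E18340 (iv3 D69549))
theorem F184825 : act 7 n55186 = n32294 := (sb E18343 (iv7 D69553))
theorem F184826 : act 2 n32295 = n55186 := (sb E18344 (iv2 F162865))
theorem E18345 : n73754 = n69554 := (((D69554).symm.trans (sb E18344 (iv3 F110471)))).symm
theorem E18347 : n69556 = n16384 := ((D69556).symm.trans (sb E18344 (iv5 D33887)))
theorem F184827 : act 7 n32295 = n55191 := (sb E18344 (iv7 F162856))
theorem F184828 : act 2 n69554 = n117652 := (sb E18345 F184245)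
theorem F184829 : act 5 n69554 = n33885 := (sb E18345 (iv5 D73754))
theorem F184830 : act 5 n16384 = n32295 := (sb E18347 (iv5 D69556))
theorem F184831 : act 1 n117868 = n69561 := d15_0 (iv0 D69561) (iv7 F85677) (iv2 F184819)
theorem F184832 : act 7 n69561 = n117733 := d15_2 F184821 F184831 F184394
def n117869 : Q := act 5 n54293
theorem D117869 : act 5 n54293 = n117869 := rfl
theorem F184833 : act 2 n117869 = n54295 := d2_1 D117869 (iv5 D54295) D54293
theorem F184834 : act 3 n117869 = n69603 := d6_1 D117869 (iv5 D69603) (iv3 F85672)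
theorem F184835 : act 7 n117869 = n69559 := d13_2 (iv7 F85673) D117869 (iv5 D69559)
theorem F184836 : act 1 n69567 = n117869 := d15_1 D69567 F184835 F105839
theorem F184837 : act 6 n55535 = n117869 := d7_0 F184834 (iv6 F130870) (iv3 F130875)
theorem F184838 : act 5 n75916 = n73820 := d21_6 (iv5 F184822) (iv1 F85674) D117869 (iv6 F184837) (iv1 F87819) D75916 (iv1 D73820) (iv5 D33903) (iv6 D16388) D16383
theorem F184839 : act 1 n117869 = n69566 := d15_0 (iv0 D69566) (iv7 F85679) (iv2 F184833)
def n117870 : Q := act 6 n54293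
theorem D117870 : act 6 n54293 = n117870 := rfl
theorem F184840 : act 2 n117870 = n54296 := d3_1 D117870 (iv6 D54296) D54293
theorem F184841 : act 3 n117870 = n69604 := d7_1 D117870 (iv6 D69604) (iv3 F85672)
def n117871 : Q := act 0 n54294
theorem D117871 : act 0 n54294 = n117871 := rfl
theorem F184842 : act 1 n69558 = n117871 := d15_0 (iv0 D117871) F85677 (iv2 F105838)
def n117872 : Q := act 1 n54294
theorem D117872 : act 1 n54294 = n117872 := rfl
theorem F184843 : act 1 n117872 = n69558 := d15_1 D117872 (iv7 F184820) F184819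
def n117873 : Q := act 3 n54294
theorem D117873 : act 3 n54294 = n117873 := rfl
theorem F184844 : act 4 n117873 = n54297 := d5_2 D54294 D117873 (iv3 D54297) (iv4 D26249) D26248
theorem F184845 : act 7 n117873 = n69563 := d8_2 (iv7 F85677) D117873 (iv3 D69563)
def n117874 : Q := act 5 n54294
theorem D117874 : act 5 n54294 = n117874 := rfl
theorem F184846 : act 7 n117874 = n69564 := d13_2 (iv7 F85677) D117874 (iv5 D69564)
def n117875 : Q := act 6 n54294
theorem D117875 : act 6 n54294 = n117875 := rfl
theorem F184847 : act 4 n117875 = n54296 := d10_1 D117875 (iv6 D54296) D54294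
def n117876 : Q := act 0 n54295
theorem D117876 : act 0 n54295 = n117876 := rfl
theorem F184848 : act 1 n69559 = n117876 := d15_0 (iv0 D117876) F85679 (iv2 F105839)
def n117877 : Q := act 1 n54295
theorem D117877 : act 1 n54295 = n117877 := rfl
theorem F184849 : act 1 n117877 = n69559 := d15_1 D117877 (iv7 F184835) F184833
def n117878 : Q := act 4 n54295
theorem D117878 : act 4 n54295 = n117878 := rfl
theorem F184850 : act 3 n117878 = n80451 := d5_1 D117878 F123658 F57542 F41666 (iv3 F85678)
theorem F184851 : act 6 n117878 = n55536 := d10_2 F85680 D117878 (iv4 D55536)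
theorem F184852 : act 7 n117878 = n69568 := d11_2 (iv7 F85679) D117878 (iv4 D69568)
def n117879 : Q := act 0 n54296
theorem D117879 : act 0 n54296 = n117879 := rfl
def n117880 : Q := act 1 n54296
theorem D117880 : act 1 n54296 = n117880 := rfl
def n117881 : Q := act 5 n54296
theorem D117881 : act 5 n54296 = n117881 := rfl
theorem F184853 : act 3 n117881 = n54302 := d6_1 D117881 (iv5 D54302) (iv3 F85681)
theorem F184854 : act 6 n117881 = n55537 := d12_2 D54296 D117881 (iv5 D55537) F85680 (iv5 D54295)
def n117882 : Q := act 7 n54296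
theorem D117882 : act 7 n54296 = n117882 := rfl
theorem F184855 : act 3 n117882 = n54303 := d8_1 D117882 (iv7 D54303) (iv3 F85681)
theorem F184856 : act 6 n117882 = n69573 := d14_1 D117882 (iv7 D69573) (iv6 D32299) (iv7 F51250) D54296
def n117883 : Q := act 0 n54297
theorem D117883 : act 0 n54297 = n117883 := rfl
theorem F184857 : act 1 n69578 = n117883 := d15_0 (iv0 D117883) F85682 D69578
def n117884 : Q := act 1 n54297
theorem D117884 : act 1 n54297 = n117884 := rfl
def n117885 : Q := act 2 n54297
theorem D117885 : act 2 n54297 = n117885 := rfl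
theorem F184858 : act 3 n117885 = n69619 := d0_2 D54297 D117885 (iv2 D69619) (iv3 D32319) (iv2 F51251)
theorem F184859 : act 7 n117885 = n69578 := d4_2 (iv7 F85682) D117885 (iv2 D69578)
theorem F184860 : act 1 n117885 = n69576 := d15_0 (iv0 D69576) (iv7 F85682) D117885
theorem F184861 : act 1 n117884 = n69578 := d15_1 D117884 (iv7 F184859) (iv2 D117885)
theorem F184862 : act 1 n69577 = n117885 := d15_1 D69577 F184859 (iv2 D69578)
def n117886 : Q := act 5 n54297
theorem D117886 : act 5 n54297 = n117886 := rfl
theorem F184864 : act 7 n117886 = n69579 := d13_2 (iv7 F85682) D117886 (iv5 D69579)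
def n117887 : Q := act 6 n54297
theorem D117887 : act 6 n54297 = n117887 := rfl
theorem F184865 : act 3 n117887 = n54299 := d7_1 D117887 (iv6 D54299) D54297
def n117889 : Q := act 0 n54299
theorem D117889 : act 0 n54299 = n117889 := rfl
theorem F184868 : act 5 n117889 = n66667 := d17_1 D117889 (iv1 F181343) F181337 F84580 (iv5 F85289) F85293 (iv5 F85688) (iv0 D54300) (iv4 F85687)
theorem F184870 : act 2 n69623 = n117889 := d15_3 (iv0 D117889) F105899 F182743
theorem F184871 : act 7 n117889 = n66108 := d4_2 F182743 F184870 F182748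
def n117891 : Q := act 7 n54299
theorem D117891 : act 7 n54299 = n117891 := rfl
theorem F184878 : act 6 n117891 = n69587 := d14_1 D117891 (iv7 D69587) (iv6 D32304) (iv7 F51252) D54299
def n117892 : Q := act 4 n54302
theorem D117892 : act 4 n54302 = n117892 := rfl
theorem F184882 : act 6 n117892 = n55538 := d10_2 (iv6 F85691) D117892 (iv4 D55538)
theorem F184883 : act 0 n117892 = n68515 := d18_2 F85692 D117892 (iv4 D68515) (iv5 D31876) D31875 F180395 F49479 F41459 D54052
theorem F184884 : act 1 n117892 = n68501 := d18_6 F106513 (iv4 F104166) (iv1 F105899) F85687 D54302 D117892 (iv4 D68501) D68500 (iv5 F104703)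
def n117894 : Q := act 1 n54305
theorem D117894 : act 1 n54305 = n117894 := rfl
def n117895 : Q := act 2 n54305
theorem D117895 : act 2 n54305 = n117895 := rfl
theorem F184886 : act 3 n117895 = n69639 := d0_2 D54305 D117895 (iv2 D69639) (iv3 D32327) F105924
theorem F184887 : act 7 n117895 = n69654 := d4_2 (iv7 F105926) D117895 (iv2 D69654)
theorem F184888 : act 1 n117895 = n69652 := d15_0 (iv0 D69652) (iv7 F105926) D117895
theorem F184889 : act 1 n117894 = n69654 := d15_1 D117894 (iv7 F184887) (iv2 D117895)
theorem F184890 : act 1 n69653 = n117895 := d15_1 D69653 F184887 (iv2 D69654)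
def n117896 : Q := act 4 n54305
theorem D117896 : act 4 n54305 = n117896 := rfl
theorem F184891 : act 7 n117896 = n69655 := d11_2 (iv7 F105926) D117896 (iv4 D69655)
def n117897 : Q := act 5 n54305
theorem D117897 : act 5 n54305 = n117897 := rfl
theorem F184892 : act 3 n117897 = n54307 := d6_1 D117897 (iv5 D54307) D54305
theorem F184893 : act 7 n117897 = n69656 := d13_2 (iv7 F105926) D117897 (iv5 D69656)
def n117898 : Q := act 6 n54305
theorem D117898 : act 6 n54305 = n117898 := rfl
theorem F184894 : act 3 n117898 = n54308 := d7_1 D117898 (iv6 D54308) D54305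
theorem F184895 : act 5 n62571 = n117898 := d6_0 F184894 F85700 D62571
def n117899 : Q := act 1 n54307
theorem D117899 : act 1 n54307 = n117899 := rfl
theorem F184896 : act 1 n117899 = n54312 := d15_1 D117899 (iv7 F105954) (iv2 F105929)
theorem F184898 : act 5 n117292 = n117899 := d21_0 (iv1 D117899) (iv5 D54307) D54308 F105942 (iv6 D32235) D32234 (iv1 F105625) (iv5 F183836) (iv6 F183835) (iv1 F183619)
theorem F184899 : act 6 n55218 = n117899 := d21_9 (iv5 D54307) (iv1 F41684) (iv5 F44939) (iv6 D27826) (iv1 F22068) D18709 (iv5 F54560) F112333 F112332 (iv1 D117899)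
theorem F184900 : act 2 n117899 = n69649 := d3_1 F184899 (iv6 F105968) (iv2 F112334)
def n117900 : Q := act 4 n54307
theorem D117900 : act 4 n54307 = n117900 := rfl
theorem F184901 : act 2 n117900 = n69650 := d1_1 D117900 (iv4 D69650) (iv2 F105929)
theorem F184902 : act 7 n117900 = n69661 := d11_2 (iv7 F105930) D117900 (iv4 D69661)
def n117901 : Q := act 6 n54307
theorem D117901 : act 6 n54307 = n117901 := rfl
theorem F184903 : act 2 n117901 = n69651 := d3_1 D117901 (iv6 D69651) (iv2 F105929)
theorem F184904 : act 5 n117901 = n62573 := d12_1 D117901 (iv6 D62573) (iv5 F85700) (iv6 D54308) D54307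
theorem F184905 : act 0 n117901 = n74058 := d21_10 F110808 (iv1 D61543) F46808 (iv6 D16441) (iv1 F20723) (iv6 F41687) (iv5 D26255) D26253 D54307 D117901
theorem F184906 : act 0 n71769 = n62573 := d21_1 (iv5 F108233) (iv5 F184904) (iv6 D117901) F104975 F104973 (iv5 F104970) (iv1 F112648) F112645 F87417 (iv1 F87402)
theorem F184907 : act 0 n58410 = n117901 := d21_4 (iv5 F27296) (iv1 F44886) (iv5 F44884) D58410 (iv6 D117901) (iv5 D54307) (iv1 F41684) (iv5 F44939) (iv6 D27826) (iv1 F22068)
theorem F184908 : act 7 n85308 = n117901 := d15_2 (iv0 F106004) D85308 F184903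
theorem F184909 : act 6 n70346 = n85308 := d14_5 F184908 (iv6 D117901) F105930 D69662 (iv7 F106819)
def n117902 : Q := act 0 n54310
theorem D117902 : act 0 n54310 = n117902 := rfl
theorem F184910 : act 1 n69639 = n117902 := d15_0 (iv0 D117902) F105955 D69639
def n117903 : Q := act 1 n54310
theorem D117903 : act 1 n54310 = n117903 := rfl
def n117904 : Q := act 2 n54310
theorem D117904 : act 2 n54310 = n117904 := rfl
theorem F184911 : act 3 n117904 = n69654 := d0_2 D54310 D117904 (iv2 D69654) (iv3 D32332) (iv2 F105922)
theorem F184912 : act 7 n117904 = n69639 := d4_2 (iv7 F105955) D117904 (iv2 D69639)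
theorem F184913 : act 1 n117904 = n69637 := d15_0 (iv0 D69637) (iv7 F105955) D117904
def n117905 : Q := act 4 n54310
theorem D117905 : act 4 n54310 = n117905 := rfl
theorem F184916 : act 7 n117905 = n69640 := d11_2 (iv7 F105955) D117905 (iv4 D69640)
def n117906 : Q := act 5 n54310
theorem D117906 : act 5 n54310 = n117906 := rfl
theorem F184917 : act 3 n117906 = n54312 := d6_1 D117906 (iv5 D54312) D54310
theorem F184918 : act 7 n117906 = n69641 := d13_2 (iv7 F105955) D117906 (iv5 D69641)
def n117907 : Q := act 6 n54310
theorem D117907 : act 6 n54310 = n117907 := rfl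
theorem F184919 : act 3 n117907 = n54313 := d7_1 D117907 (iv6 D54313) D54310
def n117908 : Q := act 4 n54312
theorem D117908 : act 4 n54312 = n117908 := rfl
theorem F184920 : act 2 n117908 = n69661 := d1_1 D117908 (iv4 D69661) F105953
theorem F184921 : act 7 n117908 = n69650 := d11_2 F105954 D117908 (iv4 D69650)
def n117909 : Q := act 2 n54314
theorem D117909 : act 2 n54314 = n117909 := rfl
theorem F184922 : act 7 n54315 = n117909 := d15_2 (iv0 D54314) D54315 (iv2 D117909)
def n117910 : Q := act 3 n54314
theorem D117910 : act 3 n54314 = n117910 := rfl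
def n117911 : Q := act 4 n54314
theorem D117911 : act 4 n54314 = n117911 := rfl
theorem F184923 : act 0 n117911 = n85469 := d18_2 D54314 D117911 F130686 F92466 (iv4 F76991) F76995 (iv4 F166580) (iv0 D26253) D26255
theorem F184924 : act 1 n117911 = n60443 := d18_6 F114315 (iv4 F104712) (iv1 F166574) (iv4 F183553) F183552 D117911 F94959 D76269 (iv5 F114313)
def n117912 : Q := act 7 n54314
theorem D117912 : act 7 n54314 = n117912 := rfl
def n117913 : Q := act 3 n54315
theorem D117913 : act 3 n54315 = n117913 := rfl
def n117914 : Q := act 4 n54315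
theorem D117914 : act 4 n54315 = n117914 := rfl
theorem F184926 : act 0 n117914 = n60443 := d18_2 (iv1 F85703) D117914 F94959 F55096 F37202 D28346 (iv4 F166584) F41685 (iv5 F44939)
theorem F184927 : act 1 n117914 = n85469 := d15_1 (iv0 F184926) F130688 (iv2 F94958)
def n117915 : Q := act 6 n54315
theorem D117915 : act 6 n54315 = n117915 := rfl
theorem F184928 : act 0 n117915 = n85486 := d21_10 F130695 (iv1 F106999) F86794 (iv6 F87365) (iv1 F87367) F105968 F105969 F104986 F103931 D117915
theorem F184929 : act 0 n74102 = n117915 := d21_4 D39425 F112649 (iv5 D74101) D74102 (iv6 D117915) (iv5 F103931) (iv1 F105973) (iv5 F105964) F105997 (iv1 D39424)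
def n117916 : Q := act 6 n54316
theorem D117916 : act 6 n54316 = n117916 := rfl
theorem F184930 : act 2 n117916 = n58106 := d3_1 D117916 (iv6 D58106) (iv2 F85704)
theorem F184931 : act 3 n117916 = n54317 := d7_1 D117916 (iv6 D54317) D54316
theorem F184932 : act 4 n117916 = n69906 := d10_1 D117916 (iv6 D69906) (iv4 F85705)
def n117917 : Q := act 0 n54317
theorem D117917 : act 0 n54317 = n117917 := rfl
theorem F184933 : act 4 n117917 = n55062 := d20_2 (iv4 F85711) D117917 (iv3 D55062) (iv1 F87060) F87056 (iv4 F110102) (iv1 F110103) D73442 F110146 (iv1 D54319)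
theorem F184934 : act 2 n79088 = n117917 := d1_3 F184933 F166645 D79088
theorem F184935 : act 7 n79092 = n117917 := d11_0 F184933 F166647 D79092
theorem F184936 : act 0 n117917 = n54335 := d20_1 (iv4 F184933) F85745 F41720 (iv1 F20783) D15405 D32531 (iv1 F130346) (iv4 F86853) F86852 (iv1 F166644)
def n117918 : Q := act 1 n54317
theorem D117918 : act 1 n54317 = n117918 := rfl
theorem F184937 : act 1 n117918 = n54335 := d15_1 D117918 (iv7 D54335) (iv2 F85710)
theorem F184938 : act 7 n117918 = n79088 := d15_2 (iv0 D117917) D117918 F184934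
theorem F184939 : act 4 n56004 = n117918 := d20_0 (iv1 D117918) F85711 F41695 D32465 D69912 (iv4 F131635) (iv1 F86874) F60284 (iv3 F53239) (iv1 F88650)
theorem F184940 : act 2 n117918 = n79092 := d1_1 F184939 (iv4 D79092) (iv2 F120324)
theorem E18349 : n76748 = n70275 := ((c18_7 (iv1 F88650) F184939 (iv1 D117918) F85711 F41696 (iv4 F51668) D70275 (iv4 D76748) F87147 F87145)).symm
theorem F184941 : act 4 n70275 = n35076 := (sb E18349 (iv4 D76748))
def n117919 : Q := act 5 n54317
theorem D117919 : act 5 n54317 = n117919 := rfl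
theorem F184942 : act 2 n117919 = n54334 := d2_1 D117919 (iv5 D54334) (iv2 F85710)
theorem F184943 : act 6 n117919 = n54356 := d12_2 D54317 D117919 (iv5 D54356) F41766 (iv5 F41690)
theorem F184944 : act 4 n84880 = n117919 := d10_3 F184943 F85778 D84880
def n117920 : Q := act 7 n54317
theorem D117920 : act 7 n54317 = n117920 := rfl
theorem F184945 : act 2 n117920 = n54335 := d4_1 D117920 (iv7 D54335) (iv2 F85710)
theorem F184946 : act 4 n117920 = n54320 := d11_1 D117920 (iv7 D54320) (iv4 F85711)
theorem F184947 : act 6 n117920 = n54421 := d14_1 D117920 (iv7 D54421) F41936 (iv7 F41691) D54317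
theorem F184948 : act 1 n54333 = n117920 := d15_1 D54333 (iv7 D117920) F85710
theorem F184949 : act 0 n79088 = n117920 := d20_1 D79088 F184946 F85714 (iv1 F51551) D32496 F130279 (iv1 D39297) F29917 (iv3 F28399) D35990
theorem E18350 : n79088 = n54332 := (c15_1 (iv0 F184949) (iv0 D54332) D54335 (iv2 F184945))
theorem F184950 : act 0 n54332 = n117920 := (sb E18350 F184949)
theorem F184951 : act 2 n54332 = n117917 := (sb E18350 F184934)
theorem F184952 : act 4 n54332 = n35990 := (sb E18350 (iv4 D79088))
theorem F184953 : act 7 n54332 = n117918 := (sb E18350 (iv7 F184938))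
theorem E18351 : n79092 = n54333 := (c15_4 F184948 (iv0 F184950) F184953 F184940)
theorem F184955 : act 4 n54333 = n35991 := (sb E18351 (iv4 D79092))
theorem F184956 : act 7 n54333 = n117917 := (sb E18351 F184935)
theorem E18352 : n55066 = n55049 := (c20_4 (iv4 F184946) (iv1 F184948) F184955 (iv3 F166648) (iv1 D55049) F42612 (iv4 F53001) D73400 F110097 (iv3 D54337) (iv1 F85719))
theorem F184957 : act 2 n55049 = n26615 := (sb E18352 F87084)
theorem F184958 : act 3 n55049 = n35991 := (sb E18352 F166648)
theorem F184959 : act 7 n55049 = n26614 := (sb E18352 (iv7 D55066))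
theorem E18353 : n55061 = n55048 := (c15_4 (iv0 D55048) D55049 F184959 D55061)
theorem F184960 : act 2 n55048 = n26614 := (sb E18353 (iv2 D55061))
theorem F184961 : act 6 n55048 = n33953 := (sb E18353 F166638)
theorem F184962 : act 7 n55048 = n26615 := (sb E18353 (iv7 F87083))
theorem E18354 : n73976 = n54583 := (c21_7 (iv5 D8159) (iv1 F9441) (iv5 F21110) D26609 D55048 F184961 D73976 (iv1 D54583) (iv5 D26393) (iv6 D12596) (iv1 F26756))
theorem F184963 : act 2 n54583 = n107860 := (sb E18354 (iv2 F166635))
theorem F184964 : act 5 n54583 = n33953 := (sb E18354 (iv5 D73976))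
def n117921 : Q := act 3 n54318
theorem D117921 : act 3 n54318 = n117921 := rfl
theorem F184965 : act 7 n117921 = n54342 := d8_2 (iv7 F131091) D117921 (iv3 D54342)
def n117922 : Q := act 5 n54318
theorem D117922 : act 5 n54318 = n117922 := rfl
theorem F184968 : act 0 n117922 = n70092 := d21_1 D117922 F106475 (iv6 D69847) F109883 (iv6 D15533) (iv5 D7330) (iv1 F9197) D12469 D26257 D54318
theorem F184969 : act 0 n70183 = n117922 := d21_10 (iv5 D117922) (iv1 F85717) (iv5 F85757) F85758 (iv1 F41770) D32542 (iv5 F52069) F106625 (iv5 D70182) D70183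
def n117923 : Q := act 6 n54319
theorem D117923 : act 6 n54319 = n117923 := rfl
theorem F184970 : act 2 n117923 = n54345 := d3_1 D117923 (iv6 D54345) (iv2 F131085)
theorem F184971 : act 5 n117923 = n76038 := d12_1 D117923 (iv6 F131078) F131077 D68601 F104801
theorem F184973 : act 0 n117923 = n67919 := d21_10 (iv5 D67919) (iv1 F50161) (iv5 F51756) (iv6 F52015) (iv1 F109884) D69847 (iv5 F106475) F109892 F104801 D117923
theorem F184974 : act 0 n67924 = n117923 := d21_10 F184971 F131074 F77150 (iv6 F56339) (iv1 D35664) D35666 F56344 F106884 (iv5 D70420) F104002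
def n117924 : Q := act 0 n54321
theorem D117924 : act 0 n54321 = n117924 := rfl
def n117925 : Q := act 1 n54321
theorem D117925 : act 1 n54321 = n117925 := rfl
def n117926 : Q := act 7 n54321
theorem D117926 : act 7 n54321 = n117926 := rfl
theorem F184975 : act 3 n117926 = n54324 := d8_1 D117926 (iv7 D54324) (iv3 F85720)
theorem F184976 : act 5 n117926 = n71097 := d13_1 D117926 (iv7 D71097) (iv5 F85721)
theorem F184977 : act 6 n117926 = n60323 := d14_1 D117926 F110588 (iv6 D32674) (iv7 F41698) D54321
def n117929 : Q := act 4 n54322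
theorem D117929 : act 4 n54322 = n117929 := rfl
def n117930 : Q := act 5 n54322
theorem D117930 : act 5 n54322 = n117930 := rfl
theorem F184979 : act 6 n117930 = n116941 := d12_2 (iv6 F104664) D117930 F182712 (iv6 D68471) D68470
theorem F184980 : act 0 n117930 = n71066 := d21_1 D117930 F107599 (iv6 D54435) (iv1 D26325) (iv6 D12543) (iv5 D5963) D5960 (iv5 F26441) D26259 D54322
theorem F184981 : act 0 n54482 = n117930 := d21_10 (iv5 D117930) (iv1 F85726) (iv5 F86074) F86075 (iv1 F86090) (iv6 F86091) F52068 (iv1 F41944) (iv5 F42020) D54482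
def n117934 : Q := act 5 n54323
theorem D117934 : act 5 n54323 = n117934 := rfl
theorem F184983 : act 0 n117934 = n54482 := d21_1 D117934 F86031 (iv6 D32710) D32707 D70494 F106946 D76142 F114102 F109829 (iv1 F85722)
theorem F184984 : act 6 n117934 = n54509 := d21_3 F86074 (iv1 F85722) D117934 (iv1 F86117) (iv6 F86126) F86125 (iv1 F55746) D70182 (iv6 F106626) (iv1 F86078)
theorem F184985 : act 0 n71066 = n117934 := d21_10 (iv5 D117934) (iv1 D54323) F41700 (iv6 D15855) (iv1 F24540) D31685 F49964 D31709 D68110 (iv6 F107600)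
def n117935 : Q := act 6 n54323
theorem D117935 : act 6 n54323 = n117935 := rfl
theorem F184986 : act 0 n117935 = n70460 := d21_10 F106925 (iv1 F87462) F87455 (iv6 F85964) (iv1 F85965) D54435 (iv5 F107599) F184985 (iv5 D117934) D117935
theorem F184987 : act 0 n54414 = n117935 := d21_4 F51776 F51973 F51972 D54414 (iv6 D117935) D117934 F184983 F86031 (iv6 D32710) D32707
def n117936 : Q := act 1 n54329
theorem D117936 : act 1 n54329 = n117936 := rfl
theorem F184988 : act 1 n117936 = n70428 := d15_1 D117936 (iv7 F128734) F128732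
theorem F184989 : act 7 n117936 = n70427 := d15_2 (iv0 F148152) D117936 (iv2 F148153)
theorem F184990 : act 2 n70426 = n117936 := d4_3 F184989 (iv2 F148153) F148150
theorem F184991 : act 5 n117936 = n70261 := d19_1 (iv1 F184988) (iv4 F122897) F122895 (iv1 F115740) (iv5 D76994) F55925 F28635 (iv1 F21929) F21928 (iv4 D7814) (iv3 D3544) (iv1 D1563) D1565 D3553 D7828 D16762 (iv5 F42575) (iv4 F83610) (iv3 F106890)
def n117938 : Q := act 0 n54330
theorem D117938 : act 0 n54330 = n117938 := rfl
def n117941 : Q := act 7 n54330
theorem D117941 : act 7 n54330 = n117941 := rfl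
theorem F184996 : act 2 n117941 = n70440 := d4_1 D117941 (iv7 D70440) (iv2 F85738)
theorem F184997 : act 4 n117941 = n56002 := d11_1 D117941 (iv7 D56002) (iv4 F85739)
theorem F184998 : act 6 n117941 = n60375 := d14_1 D117941 F162955 (iv6 D32687) F41709 D54330
theorem F184999 : act 1 n70440 = n117938 := d15_0 (iv0 D117938) D117941 F184996
theorem F185001 : act 1 n117941 = n70437 := d15_0 (iv0 D70437) D70440 (iv2 F184996)
def n117942 : Q := act 5 n54331
theorem D117942 : act 5 n54331 = n117942 := rfl
def n117943 : Q := act 3 n54332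
theorem D117943 : act 3 n54332 = n117943 := rfl
def n117944 : Q := act 5 n54332
theorem D117944 : act 5 n54332 = n117944 := rfl
def n117945 : Q := act 6 n54332
theorem D117945 : act 6 n54332 = n117945 := rfl
theorem F185004 : act 4 n117945 = n74928 := d10_1 D117945 F112448 (iv4 F184952)
def n117946 : Q := act 3 n54333
theorem D117946 : act 3 n54333 = n117946 := rfl
def n117947 : Q := act 5 n54333
theorem D117947 : act 5 n54333 = n117947 := rfl
def n117948 : Q := act 6 n54333
theorem D117948 : act 6 n54333 = n117948 := rfl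
theorem F185005 : act 4 n117948 = n79094 := d10_1 D117948 (iv6 D79094) (iv4 F184955)
def n117949 : Q := act 0 n54334
theorem D117949 : act 0 n54334 = n117949 := rfl
def n117950 : Q := act 1 n54334
theorem D117950 : act 1 n54334 = n117950 := rfl
def n117951 : Q := act 4 n54334
theorem D117951 : act 4 n54334 = n117951 := rfl
theorem F185006 : act 2 n117951 = n84880 := d1_1 D117951 F184944 F184942
theorem F185007 : act 6 n117951 = n58254 := d10_2 (iv6 F85743) D117951 F92078
def n117952 : Q := act 7 n54334
theorem D117952 : act 7 n54334 = n117952 := rfl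
theorem F185008 : act 3 n117952 = n58136 := d8_1 D117952 (iv7 D58136) (iv3 F85742)
theorem F185009 : act 5 n117952 = n54335 := d13_1 D117952 (iv7 D54335) D54334
def n117953 : Q := act 1 n54337
theorem D117953 : act 1 n54337 = n117953 := rfl
def n117954 : Q := act 5 n54337
theorem D117954 : act 5 n54337 = n117954 := rfl
theorem F185010 : act 3 n117954 = n54339 := d6_1 D117954 (iv5 D54339) D54337
def n117955 : Q := act 6 n54337
theorem D117955 : act 6 n54337 = n117955 := rfl
theorem F185011 : act 3 n117955 = n54340 := d7_1 D117955 (iv6 D54340) D54337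
theorem F185012 : act 5 n74760 = n117955 := d6_0 F185011 F85748 D74760
def n117956 : Q := act 3 n54338
theorem D117956 : act 3 n54338 = n117956 := rfl
def n117957 : Q := act 5 n54338
theorem D117957 : act 5 n54338 = n117957 := rfl
def n117959 : Q := act 0 n54339
theorem D117959 : act 0 n54339 = n117959 := rfl
theorem F185014 : act 5 n117959 = n70892 := d21_2 D54339 D117959 (iv6 D70892) (iv1 D32847) (iv6 D15811) (iv5 F26514) F26363 D5928 D12474 D26265
theorem F185016 : act 1 n54344 = n117959 := d15_0 (iv0 D117959) F131089 F131084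
theorem F185018 : act 6 n62786 = n117959 := d21_3 F24981 D29704 D62786 (iv1 F185016) F85751 (iv5 F183229) (iv1 F183231) F104792 F104791 (iv1 D32609)
def n117960 : Q := act 4 n54339
theorem D117960 : act 4 n54339 = n117960 := rfl
def n117961 : Q := act 6 n54339
theorem D117961 : act 6 n54339 = n117961 := rfl
theorem F185020 : act 5 n117961 = n74762 := d12_1 D117961 (iv6 D74762) (iv5 F85748) (iv6 D54340) D54339
theorem F185021 : act 7 n117961 = n117225 := d14_2 (iv7 F131089) D117961 (iv6 D117225) F131080 D68601
theorem F185022 : act 0 n117961 = n70214 := d21_10 F106675 (iv1 D68106) F50014 (iv6 D15431) (iv1 F26338) (iv6 F41719) (iv5 D26267) D26265 D54339 D117961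
theorem F185023 : act 0 n70094 = n117961 := d21_4 (iv5 F41728) (iv1 F51602) (iv5 F51600) D70094 (iv6 D117961) (iv5 D54339) (iv1 F85719) F85715 (iv6 D32547) (iv1 F41727)
def n117962 : Q := act 0 n54342
theorem D117962 : act 0 n54342 = n117962 := rfl
def n117963 : Q := act 1 n54342
theorem D117963 : act 1 n54342 = n117963 := rfl
def n117964 : Q := act 2 n54342
theorem D117964 : act 2 n54342 = n117964 := rfl
def n117965 : Q := act 4 n54342
theorem D117965 : act 4 n54342 = n117965 := rfl
def n117966 : Q := act 5 n54342
theorem D117966 : act 5 n54342 = n117966 := rfl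
theorem F185024 : act 3 n117966 = n54344 := d6_1 D117966 (iv5 D54344) D54342
theorem F185025 : act 6 n117223 = n117966 := d7_0 F185024 F85751 D117223
def n117967 : Q := act 6 n54342
theorem D117967 : act 6 n54342 = n117967 := rfl
theorem F185026 : act 3 n117967 = n54345 := d7_1 D117967 (iv6 D54345) D54342
def n117968 : Q := act 3 n54343
theorem D117968 : act 3 n54343 = n117968 := rfl
def n117969 : Q := act 5 n54343
theorem D117969 : act 5 n54343 = n117969 := rfl
def n117970 : Q := act 6 n54343
theorem D117970 : act 6 n54343 = n117970 := rfl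
theorem F185027 : act 4 n117970 = n54345 := d10_1 D117970 (iv6 D54345) D54343
def n117972 : Q := act 3 n54346
theorem D117972 : act 3 n54346 = n117972 := rfl
theorem F185029 : act 7 n117972 = n70282 := d8_2 (iv7 F110577) D117972 (iv3 D70282)
def n117973 : Q := act 6 n54346
theorem D117973 : act 6 n54346 = n117973 := rfl
theorem F185031 : act 5 n117973 = n68546 := d21_6 (iv5 D7278) F26334 D12477 (iv6 F41719) D54346 D117973 (iv1 D68546) (iv5 F51627) (iv6 D32559) (iv1 D15417)
def n117974 : Q := act 3 n54347
theorem D117974 : act 3 n54347 = n117974 := rfl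
theorem F185033 : act 7 n117974 = n70278 := d8_2 (iv7 F110574) D117974 (iv3 D70278)
def n117975 : Q := act 6 n54347
theorem D117975 : act 6 n54347 = n117975 := rfl
theorem F185035 : act 0 n70256 = n117975 := d21_4 F57063 D61824 F96384 D70256 (iv6 D117975) (iv5 F107328) F109891 (iv5 F106475) F109889 F96164
def n117976 : Q := act 0 n54348
theorem D117976 : act 0 n54348 = n117976 := rfl
def n117977 : Q := act 1 n54348
theorem D117977 : act 1 n54348 = n117977 := rfl
theorem F185036 : act 1 n117977 = n70158 := d15_1 D117977 F106542 (iv2 F85753)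
theorem F185037 : act 4 n117977 = n55642 := d18_7 (iv1 F87239) (iv4 F184955) (iv1 D54333) F41716 D26267 D54348 D117977 F88031 (iv5 F87237)
theorem F185038 : act 3 n72055 = n55642 := d20_5 (iv4 F53153) (iv1 F87142) F87139 (iv3 F87086) (iv1 F108525) (iv4 F185037) (iv1 D117977) (iv4 D54348) F41718 D26270
theorem F185039 : act 5 n55642 = n72040 := d6_2 D72055 F185038 F108512
theorem E18355 : n85486 = n72039 := ((c12_4 F130693 F185039 (iv6 D72040) D72039 (iv6 D85486) D85485)).symm
theorem F185040 : act 1 n72039 = n117915 := (sb E18355 (iv0 F184928))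
theorem E18356 : n70539 = n33271 := ((((iv5 D72039)).symm.trans (sb E18355 F130695))).symm
theorem F185041 : act 6 n72039 = n39472 := (sb E18355 (iv6 D85486))
theorem E18357 : n72036 = n54852 := ((D72036).symm.trans (sb E18356 (iv1 F106999)))
theorem E18358 : n72037 = n32724 := ((D72037).symm.trans (sb E18356 (iv0 D70539)))
theorem F185042 : act 1 n54852 = n33271 := (sb E18357 (iv0 D72036))
theorem F185043 : act 0 n32724 = n33271 := (sb E18358 (iv1 D72037))
theorem E18359 : n80565 = n69818 := (c20_2 (iv4 F57660) D80565 (iv4 F106994) F106993 F185043 (iv3 D33271) D33272 D72042 F123926 (iv3 D80596) (iv1 D36777))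
theorem F185044 : act 0 n69818 = n71003 := (sb E18359 (iv1 F123867))
theorem F185045 : act 1 n69818 = n36766 := (sb E18359 (iv0 D80565))
theorem F185046 : act 7 n70540 = n72038 := d15_2 (iv0 F185043) D70540 (iv2 D72038)
theorem F185047 : act 2 n72041 = n70540 := d4_3 F185046 (iv2 D72038) D72041
theorem F185048 : act 3 n70540 = n72060 := d0_2 (iv3 F108513) F185047 (iv2 D72060) (iv3 D33276) (iv2 F52507)
theorem F185049 : act 7 n80566 = n70762 := d15_2 F185045 D80566 F107245
theorem F185050 : act 2 n71006 = n80566 := d4_3 F185049 F107245 (iv7 F123873)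
theorem F185051 : act 6 n70831 = n80566 := d14_5 F185049 (iv6 D70762) F51934 D54775 (iv7 F107302)
theorem E18360 : n85483 = n72051 := (c7_2 F185041 D85483 (iv6 D72051) (iv3 F108511))
theorem F185052 : act 3 n72051 = n39472 := (sb E18360 (iv3 D85483))
def n117979 : Q := act 7 n54348
theorem D117979 : act 7 n54348 = n117979 := rfl
theorem F185056 : act 2 n117979 = n70158 := d4_1 D117979 F106542 (iv2 F85753)
theorem F185057 : act 4 n117979 = n54349 := d11_1 D117979 (iv7 D54349) D54348
theorem F185059 : act 1 n70158 = n117976 := d15_0 (iv0 D117976) D117979 F185056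
theorem F185060 : act 1 n70275 = n117979 := d15_1 D70275 (iv7 D117979) F85753
theorem F185061 : act 4 n117976 = n55641 := d18_7 D35990 (iv4 F184952) F184950 F184946 F85715 (iv4 F106541) F185059 (iv0 D55641) F43317
theorem F185062 : act 4 n70039 = n85009 := d20_6 (iv4 F185061) (iv1 F185059) F106541 (iv3 F106351) (iv1 F106355) D70039 (iv1 D85009) (iv4 D39312) (iv3 F43316) D55641
theorem F185063 : act 0 n76743 = n117979 := d18_2 D35075 D76743 F185057 F85757 (iv4 F85745) (iv0 F184936) F184933 F166644 F43655
theorem F185064 : act 0 n70144 = n76682 := d20_7 D76743 F185063 F185057 F85756 (iv1 F41770) D32540 D70144 F115040 F55670 D35075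
theorem E18361 : n76742 = n55071 := ((c20_5 D32541 F51613 (iv4 D26627) (iv3 F42629) D55071 (iv3 D76742) D76743 F185063 F185057 F85756 (iv1 F41770))).symm
theorem F185065 : act 3 n55071 = n35075 := (sb E18361 (iv3 D76742))
theorem F185066 : act 3 n76744 = n72056 := d6_3 (iv5 F131186) F185065 D76744
theorem E18362 : n76746 = n55642 := (c8_3 F131187 F185065 D76746 (iv3 F185038))
theorem F185067 : act 2 n55642 = n35076 := (sb E18362 F115120)
theorem F185068 : act 7 n55642 = n35075 := (sb E18362 (iv7 D76746))
theorem F185069 : act 7 n76743 = n117977 := d11_2 F185068 D76743 F185037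
theorem F185070 : act 7 n76744 = n72040 := d13_2 F185068 D76744 (iv5 F185039)
theorem E18363 : n76741 = n55641 := (c15_4 (iv0 D55641) D55642 F185068 D76741)
theorem F185071 : act 2 n55641 = n35075 := (sb E18363 (iv2 D76741))
theorem F185072 : act 7 n55641 = n35076 := (sb E18363 (iv7 F115118))
theorem F185073 : act 7 n70275 = n117976 := d11_2 F185072 (iv4 F184941) F185061
theorem F185074 : act 2 n117976 = n70274 := d15_3 (iv0 D70274) D70275 F185073
theorem F185075 : act 2 n70275 = n117977 := d15_3 F185036 F185059 (iv7 F185073)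
theorem E18364 : n76743 = n70274 := (c4_3 (iv7 F185073) F185075 (iv7 F185069) (iv2 F185074))
theorem F185077 : act 4 n70274 = n35075 := (sb E18364 (iv4 D76743))
theorem F185079 : act 2 n76749 = n72040 := d2_3 (iv5 F185039) F185067 D76749
theorem F185080 : act 2 n76750 = n85485 := d3_3 F130693 F185067 D76750
theorem E18365 : n85482 = n58458 := (c2_4 (iv5 F115122) F185080 (iv5 D85485) (iv2 F130692))
theorem F185081 : act 2 n58458 = n39472 := (sb E18365 F130692)
theorem F185082 : act 7 n58458 = n39471 := (sb E18365 (iv7 D85482))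
theorem F185083 : act 7 n85481 = n76750 := d13_2 F185082 D85481 F115122
theorem E18366 : n85478 = n58457 := (c15_4 (iv0 D58457) D58458 F185082 D85478)
theorem F185084 : act 2 n58457 = n39471 := (sb E18366 (iv2 D85478))
theorem F185085 : act 7 n58457 = n39472 := (sb E18366 (iv7 F130691))
theorem E18367 : n74103 = n55241 := ((c3_3 (iv6 F110840) F185084 F113844 F110838)).symm
theorem F185086 : act 2 n55241 = n34000 := (sb E18367 F110838)
theorem F185087 : act 7 n55241 = n33999 := (sb E18367 (iv7 D74103))
theorem F185088 : act 7 n74101 = n75950 := d13_2 F185087 D74101 (iv5 F113843)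
theorem E18368 : n74098 = n55240 := (c15_4 (iv0 D55240) D55241 F185087 D74098)
theorem F185089 : act 2 n55240 = n33999 := (sb E18368 (iv2 D74098))
theorem F185090 : act 7 n55240 = n34000 := (sb E18368 (iv7 F110836))
theorem F185091 : act 7 n74106 = n75949 := d13_2 F185090 D74106 F113842
theorem F185092 : act 2 n75949 = n74101 := d15_3 (iv0 F112649) (iv0 F110839) F185091
theorem F185093 : act 2 n74106 = n75950 := d4_1 (iv7 F185091) (iv7 F185088) (iv2 F185092)
theorem F185094 : act 2 n69747 = n68810 := d3_3 F110841 F185093 F113845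
theorem F185095 : act 7 n68811 = n69747 := d15_2 (iv0 D68810) D68811 F185094
theorem F185096 : act 7 n69748 = n68810 := d15_2 (iv0 D69747) D69748 (iv2 F185094)
theorem F185097 : act 2 n68811 = n69748 := d4_3 F185096 (iv2 F185094) (iv7 F185095)
theorem F185098 : act 3 n68893 = n69748 := d8_3 F185096 F184375 D68893
theorem F185099 : act 1 n76704 = n85481 := d15_1 (iv0 F130694) F185083 F185080
theorem E18369 : n72038 = n54850 := (c3_4 (iv6 F115121) F185079 (iv6 D72040) D72038)
theorem F185100 : act 2 n54850 = n33271 := (sb E18369 (iv2 D72038))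
theorem F185101 : act 7 n54850 = n70540 := (sb E18369 (iv7 F185046))
theorem E18370 : n72041 = n54851 := (c15_4 F107000 F107001 F185101 (iv2 F185047))
theorem F185102 : act 2 n54851 = n70540 := (sb E18370 F185047)
theorem E18371 : n33275 = n33209 := (((F108328).symm.trans (sb E18370 F108513))).symm
theorem F185103 : act 7 n54851 = n33271 := (sb E18370 (iv7 D72041))
theorem E18372 : n72031 = n16029 := ((((iv1 D33209)).symm.trans (sb E18371 (iv1 F108504)))).symm
theorem E18374 : n71860 = n16065 := (((iv2 F108321)).symm.trans (sb E18371 F52507))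
theorem E18375 : n72047 = n71861 := (((D71861).symm.trans (sb E18371 (iv4 F108517)))).symm
theorem E18376 : n72052 = n71862 := (((D71862).symm.trans (sb E18371 (iv5 F108522)))).symm
theorem E18377 : n72057 = n71863 := (((D71863).symm.trans (sb E18371 D72057))).symm
theorem E18378 : n71855 = n16064 := ((F108319).symm.trans (sb E18371 (iv7 D33275)))
theorem E18379 : n33270 = n33208 := (((D33208).symm.trans (sb E18372 (iv1 D72031)))).symm
theorem F185104 : act 2 n16065 = n33209 := (sb E18374 F108321)
theorem F185105 : act 2 n71861 = n33277 := (sb E18375 F108516)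
theorem F185106 : act 7 n71861 = n33272 := (sb E18375 (iv7 D72047))
theorem F185107 : act 2 n71862 = n33278 := (sb E18376 F108521)
theorem F185108 : act 7 n71862 = n33273 := (sb E18376 (iv7 D72052))
theorem F185109 : act 2 n71863 = n33279 := (sb E18377 F108526)
theorem E18380 : n73955 = n55162 := ((((iv5 F131213)).symm.trans (sb E18377 (iv5 F131173)))).symm
theorem F185110 : act 7 n71863 = n73953 := (sb E18377 (iv7 F131178))
theorem F185111 : act 7 n16064 = n33209 := (sb E18378 (iv7 F108319))
theorem F185112 : act 2 n33208 = n16064 := (sb E18379 (iv2 D33270))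
theorem E18381 : n72032 = n71856 := (((D71856).symm.trans (sb E18379 D72032))).symm
theorem E18382 : n72033 = n71857 := (((D71857).symm.trans (sb E18379 D72033))).symm
theorem E18383 : n72034 = n71858 := (((D71858).symm.trans (sb E18379 D72034))).symm
theorem E18384 : n72035 = n71859 := (((D71859).symm.trans (sb E18379 D72035))).symm
theorem F185113 : act 7 n33208 = n16065 := (sb E18379 (iv7 F52506))
theorem F185114 : act 2 n55162 = n33949 := (sb E18380 F110736)
theorem F185115 : act 7 n55162 = n33948 := (sb E18380 (iv7 D73955))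
theorem F185116 : act 7 n71856 = n33276 := (sb E18381 F108505)
theorem F185117 : act 2 n71857 = n33272 := (sb E18382 F108506)
theorem F185118 : act 7 n71857 = n33277 := (sb E18382 F108507)
theorem F185119 : act 2 n71858 = n33273 := (sb E18383 F108508)
theorem F185120 : act 7 n71858 = n33278 := (sb E18383 F108509)
theorem F185121 : act 2 n71859 = n33274 := (sb E18384 F108510)
theorem F185122 : act 2 n72055 = n55072 := d2_3 (iv5 F108320) F185121 D72055
theorem E18385 : n73950 = n55163 := (c15_4 F87259 F87258 F185115 D73950)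
theorem F185123 : act 2 n55163 = n33948 := (sb E18385 (iv2 D73950))
theorem F185124 : act 5 n55163 = n72072 := (sb E18385 F131176)
theorem F185125 : act 7 n55163 = n33949 := (sb E18385 (iv7 F110735))
theorem F185126 : act 2 n72068 = n117706 := d3_3 F184324 F185107 D72068
theorem F185127 : act 7 n117707 = n72068 := d15_2 (iv0 D117706) D117707 F185126
theorem F185128 : act 7 n74104 = n117706 := d15_2 (iv0 F184280) F184373 (iv2 F185126)
theorem F185129 : act 2 n117707 = n74104 := d4_3 F185128 (iv2 F185126) (iv7 F185127)
theorem F185130 : act 3 n117706 = n55240 := d8_1 F185128 F185090 D74104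
theorem E18386 : n70910 = n70845 := ((c11_2 F185103 F107325 (iv7 F107465) (iv4 F108329))).symm
theorem F185131 : act 2 n70845 = n32854 := (sb E18386 (iv2 D70910))
theorem F185132 : act 7 n70845 = n32855 := (sb E18386 (iv7 F107465))
theorem E18387 : n70915 = n70846 := (c15_4 F107318 F107323 F185132 (iv2 F107466))
theorem F185133 : act 2 n70846 = n32855 := (sb E18387 F107466)
theorem F185134 : act 7 n70846 = n32854 := (sb E18387 (iv7 D70915))
theorem F185135 : act 4 n70540 = n70846 := d1_0 F185133 (iv4 F108329) F185102
theorem E18388 : n70912 = n54850 := (c11_4 F185101 F185135 F185134 D70912)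
theorem F185136 : act 4 n54850 = n32854 := (sb E18388 (iv4 D70912))
theorem F185137 : act 0 n96715 = n81563 := d20_4 (iv4 F185135) (iv1 D70540) (iv4 F105118) (iv3 F149121) (iv3 D81563) (iv4 D37255) (iv1 F29078) (iv4 F29108) (iv3 F52032) (iv1 F107318)
theorem F185138 : act 4 n70914 = n76749 := d10_3 F115121 F185136 D70914
theorem F185139 : act 4 n54456 = n54867 := d20_6 F185136 (iv1 F107326) F107322 (iv3 F85987) (iv1 F85990) D54456 (iv1 D54867) F42498 (iv3 F42483) D54850
theorem E18389 : n70142 = n70111 := ((c18_10 (iv1 D70142) D70144 F185064 F115040 (iv5 F86854) F86853 F130346 (iv4 D32531) D32529 D70111)).symm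
theorem F185140 : act 0 n70111 = n32540 := (sb E18389 (iv1 D70142))
theorem F185141 : act 5 n70997 = n62900 := d21_6 D70111 F185140 F52065 (iv6 D32886) D32881 D70997 (iv1 F98128) F122446 (iv6 D79761) (iv1 F57046)
def n117980 : Q := act 0 n54350
theorem D117980 : act 0 n54350 = n117980 := rfl
theorem F185142 : act 1 n70143 = n117980 := d15_0 (iv0 D117980) F85762 D70143
def n117981 : Q := act 1 n54350
theorem D117981 : act 1 n54350 = n117981 := rfl
def n117982 : Q := act 2 n54350
theorem D117982 : act 2 n54350 = n117982 := rfl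
theorem F185143 : act 3 n117982 = n70136 := d0_2 D54350 D117982 (iv2 D70136) (iv3 D32537) (iv2 F41810)
theorem F185144 : act 7 n117982 = n70143 := d4_2 (iv7 F85762) D117982 (iv2 D70143)
theorem F185146 : act 1 n117981 = n70143 := d15_1 D117981 (iv7 F185144) (iv2 D117982)
theorem F185147 : act 1 n70111 = n117982 := d15_1 (iv0 F185140) F185144 (iv2 D70143)
def n117983 : Q := act 4 n54350
theorem D117983 : act 4 n54350 = n117983 := rfl
theorem F185148 : act 7 n117983 = n70144 := d11_2 (iv7 F85762) D117983 (iv4 D70144)
def n117984 : Q := act 0 n54351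
theorem D117984 : act 0 n54351 = n117984 := rfl
theorem F185149 : act 1 n70136 = n117984 := d15_0 (iv0 D117984) F85764 D70136
def n117985 : Q := act 1 n54351
theorem D117985 : act 1 n54351 = n117985 := rfl
def n117986 : Q := act 2 n54351
theorem D117986 : act 2 n54351 = n117986 := rfl
theorem F185151 : act 5 n117986 = n80537 := d2_2 (iv5 F85763) D117986 F123808
theorem F185152 : act 7 n117986 = n70136 := d4_2 (iv7 F85764) D117986 (iv2 D70136)
theorem F185153 : act 1 n117986 = n70134 := d15_0 (iv0 D70134) (iv7 F85764) D117986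
theorem F185154 : act 1 n117985 = n70136 := d15_1 D117985 (iv7 F185152) (iv2 D117986)
theorem F185155 : act 1 n70135 = n117986 := d15_1 D70135 F185152 (iv2 D70136)
def n117987 : Q := act 4 n54351
theorem D117987 : act 4 n54351 = n117987 := rfl
theorem F185156 : act 7 n117987 = n70137 := d11_2 (iv7 F85764) D117987 (iv4 D70137)
def n117988 : Q := act 6 n54351
theorem D117988 : act 6 n54351 = n117988 := rfl
theorem F185158 : act 5 n117988 = n80541 := d12_1 D117988 (iv6 D80541) (iv5 D36741) D36742 (iv5 F85763)
def n117989 : Q := act 3 n54353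
theorem D117989 : act 3 n54353 = n117989 := rfl
theorem F185159 : act 7 n117989 = n70153 := d8_2 F85769 D117989 (iv3 D70153)
def n117990 : Q := act 5 n54353
theorem D117990 : act 5 n54353 = n117990 := rfl
theorem F185162 : act 4 n117990 = n56249 := d16_2 (iv4 F85767) D117990 (iv5 D56249) F43801 (iv5 F22044) (iv4 F42324) F42656 (iv7 F42666) (iv2 F42665)
def n117992 : Q := act 5 n54354
theorem D117992 : act 5 n54354 = n117992 := rfl
theorem F185164 : act 2 n117992 = n70154 := d2_1 D117992 (iv5 D70154) F85774
theorem F185165 : act 4 n117992 = n56246 := d9_1 D117992 (iv5 D56246) F43805 F29890 (iv4 F52549) F52550 (iv4 F85767) D117990 F185162 (iv5 D56249) F43801 (iv5 F22044) (iv4 F42324) F42656 (iv4 F85773)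
theorem F185166 : act 7 n117992 = n70152 := d13_2 (iv7 F85772) D117992 (iv5 D70152)
def n117994 : Q := act 0 n54355
theorem D117994 : act 0 n54355 = n117994 := rfl
def n117996 : Q := act 5 n54355
theorem D117996 : act 5 n54355 = n117996 := rfl
theorem F185170 : act 2 n117996 = n103131 := d2_1 D117996 (iv5 D103131) (iv2 F85775)
theorem F185171 : act 3 n117996 = n54356 := d6_1 D117996 (iv5 D54356) D54355
theorem F185172 : act 7 n84877 = n117996 := d8_0 F185171 (iv7 F85779) D84877
def n117997 : Q := act 7 n54355
theorem D117997 : act 7 n54355 = n117997 := rfl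
theorem F185173 : act 2 n117997 = n103132 := d4_1 D117997 (iv7 D103132) (iv2 F85775)
theorem F185176 : act 1 n103132 = n117994 := d15_0 (iv0 D117994) D117997 F185173
def n117998 : Q := act 0 n54356
theorem D117998 : act 0 n54356 = n117998 := rfl
theorem F185179 : act 5 n117998 = n55083 := d17_3 (iv1 D54354) D54356 D117998 (iv4 D55083) (iv5 D26621) (iv0 D12721) D12723 D26626 (iv4 F85773)
theorem F185180 : act 4 n117998 = n56257 := d18_1 D117998 (iv1 D56257) D56258 F88989 F53160 F42662 (iv4 F85767) (iv0 D54353) D54356
def n117999 : Q := act 1 n54356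
theorem D117999 : act 1 n54356 = n117999 := rfl
theorem F185184 : act 1 n117999 = n58253 := d15_1 D117999 (iv7 F92076) (iv2 F85777)
theorem F185186 : act 5 n117999 = n55090 := d17_7 (iv1 F57052) (iv5 D17559) F30466 D12481 D26272 D54356 D117999 (iv0 F122456) (iv4 D79769)
theorem F185187 : act 4 n117999 = n56256 := d17_9 (iv1 F88983) F57153 (iv1 F43800) D56249 (iv4 F185162) (iv5 D117990) (iv0 D54353) D54356 D117999
theorem F185188 : act 6 n96764 = n55090 := d21_5 F41820 (iv1 F26849) D21579 D45222 D96764 (iv5 F185186) (iv1 D117999) (iv5 D54356) F41766 D26278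
theorem F185189 : act 2 n73563 = n96764 := d3_3 F185188 F87125 D73563
theorem F185190 : act 4 n55091 = n96764 := d10_3 F185188 (iv4 D55090) D55091
theorem F185191 : act 7 n96765 = n73563 := d15_2 (iv0 D96764) D96765 F185189
theorem F185192 : act 4 n70305 = n96765 := d11_3 F185191 F110218 (iv7 F106758)
def n118000 : Q := act 6 n54358
theorem D118000 : act 6 n54358 = n118000 := rfl
theorem F185194 : act 2 n118000 = n54359 := d3_1 D118000 (iv6 D54359) D54358
theorem F185195 : act 3 n118000 = n70222 := d7_1 D118000 (iv6 D70222) (iv3 F85785)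
def n118001 : Q := act 0 n54359
theorem D118001 : act 0 n54359 = n118001 := rfl
def n118002 : Q := act 1 n54359
theorem D118002 : act 1 n54359 = n118002 := rfl
def n118003 : Q := act 7 n54359
theorem D118003 : act 7 n54359 = n118003 := rfl
def n118004 : Q := act 2 n54360
theorem D118004 : act 2 n54360 = n118004 := rfl
theorem F185198 : act 7 n54361 = n118004 := d15_2 (iv0 D54360) D54361 (iv2 D118004)
def n118005 : Q := act 3 n54360
theorem D118005 : act 3 n54360 = n118005 := rfl
def n118006 : Q := act 4 n54360
theorem D118006 : act 4 n54360 = n118006 := rfl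
def n118007 : Q := act 5 n54360
theorem D118007 : act 5 n54360 = n118007 := rfl
theorem F185199 : act 0 n118007 = n117141 := d21_1 D118007 F183217 (iv6 D68605) (iv1 D31912) F24682 (iv5 D7161) D7159 (iv5 F20785) D26275 D54360
theorem F185200 : act 0 n74762 = n118007 := d21_10 (iv5 D118007) (iv1 F85794) (iv5 F104254) F104255 (iv1 F109933) (iv6 F124781) F124780 F122477 F85748 D74762
def n118008 : Q := act 7 n54360
theorem D118008 : act 7 n54360 = n118008 := rfl
theorem F185201 : act 2 n118008 = n54361 := d4_1 D118008 F185198 (iv2 D118004)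
def n118009 : Q := act 3 n54361
theorem D118009 : act 3 n54361 = n118009 := rfl
def n118010 : Q := act 4 n54361
theorem D118010 : act 4 n54361 = n118010 := rfl
def n118011 : Q := act 6 n54361
theorem D118011 : act 6 n54361 = n118011 := rfl
theorem F185202 : act 0 n118011 = n68562 := d21_10 (iv5 D68562) (iv1 F104727) (iv5 F106507) F106506 (iv1 F85238) D68605 (iv5 F183217) F183220 F167586 D118011
def n118012 : Q := act 6 n54363
theorem D118012 : act 6 n54363 = n118012 := rfl
theorem F185204 : act 2 n118012 = n54364 := d3_1 D118012 (iv6 D54364) D54363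
theorem F185206 : act 4 n118012 = n106304 := d10_1 D118012 (iv6 D106304) (iv4 F85798)
theorem F185207 : act 5 n118012 = n60103 := d12_1 D118012 (iv6 D60103) (iv5 D28548) (iv6 F54185) (iv5 F85799)
def n118014 : Q := act 1 n54364
theorem D118014 : act 1 n54364 = n118014 := rfl
def n118015 : Q := act 7 n54364
theorem D118015 : act 7 n54364 = n118015 := rfl
theorem F185210 : act 5 n118015 = n61593 := d13_1 D118015 (iv7 D61593) (iv5 F85805)
theorem F185211 : act 6 n118015 = n70226 := d14_1 D118015 (iv7 D70226) (iv6 D32595) (iv7 F41817) D54364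
theorem F185212 : act 4 n72354 = n61593 := d16_6 F185206 F163380 F144545 D93777 (iv4 F144549) F112534 (iv5 F185210) (iv7 D118015) (iv2 F185204)
theorem E18390 : n72353 = n62806 := ((c10_3 D72354 F185212 (iv6 F98011) (iv4 D72353))).symm
theorem F185213 : act 0 n62806 = n62799 := (sb E18390 F108802)
theorem F185214 : act 1 n62806 = n62797 := (sb E18390 F108803)
theorem F185215 : act 2 n62806 = n61506 := (sb E18390 F108801)
theorem F185216 : act 4 n62806 = n33393 := (sb E18390 (iv4 D72353))
theorem E18391 : n72403 = n29721 := ((((iv7 D62806)).symm.trans (sb E18390 (iv7 F108905)))).symm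
theorem E18392 : n62803 = n61585 := ((D62803).symm.trans (sb E18391 F108906))
theorem E18393 : n62804 = n61583 := ((D62804).symm.trans (sb E18391 F108907))
theorem E18394 : n62795 = n61570 := (((iv2 F97985)).symm.trans (sb E18391 F108904))
theorem E18395 : n62802 = n33428 := (((iv4 F98007)).symm.trans (sb E18391 (iv4 D72403)))
theorem F185217 : act 1 n61585 = n29721 := (sb E18392 (iv0 D62803))
theorem F185218 : act 0 n61583 = n29721 := (sb E18393 (iv1 D62804))
theorem F185219 : act 2 n61570 = n29721 := (sb E18394 F97985)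
theorem F185220 : act 3 n61570 = n61617 := (sb E18394 F97986)
theorem F185221 : act 5 n61570 = n108304 := (sb E18394 (iv5 F167470))
theorem F185222 : act 6 n61570 = n29716 := (sb E18394 (iv6 D62795))
theorem F185223 : act 4 n33428 = n29721 := (sb E18395 F98007)
theorem E18396 : n72404 = n29720 := ((D72404).symm.trans (sb E18395 (iv6 D62802)))
theorem E18397 : n62794 = n61568 := (((iv2 F97981)).symm.trans (sb E18396 F108908))
theorem E18398 : n62216 = n54591 := (((iv3 F96976)).symm.trans (sb E18396 F108909))
theorem E18399 : n62801 = n61556 := ((D62801).symm.trans (sb E18396 F108910))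
theorem F185224 : act 6 n29720 = n33428 := (sb E18396 (iv6 D72404))
theorem F185225 : act 0 n61568 = n61588 := (sb E18397 F97983)
theorem F185226 : act 1 n61568 = n61587 := (sb E18397 F97984)
theorem F185227 : act 2 n61568 = n29720 := (sb E18397 F97981)
theorem F185228 : act 4 n61568 = n29716 := (sb E18397 (iv4 D62794))
theorem F185229 : act 7 n61568 = n60102 := (sb E18397 F97982)
theorem F185230 : act 3 n54591 = n29720 := (sb E18398 F96976)
theorem F185231 : act 4 n54591 = n29444 := (sb E18398 (iv4 D62216))
theorem F185232 : act 7 n54591 = n61014 := (sb E18398 F96977)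
theorem F185233 : act 0 n61556 = n72406 := (sb E18399 (iv1 F108912))
theorem F185234 : act 1 n61556 = n72573 := (sb E18399 F109084)
theorem F185235 : act 4 n61556 = n72553 := (sb E18399 (iv4 F109050))
theorem F185236 : act 5 n61556 = n29720 := (sb E18399 (iv5 D62801))
theorem F185237 : act 7 n61556 = n61589 := (sb E18399 F98006)
theorem F185238 : act 7 n61590 = n72354 := d11_0 F185212 (iv7 D61593) (iv4 F96141)
theorem F185239 : act 2 n61589 = n61569 := d4_1 F185237 (iv7 D61569) (iv2 F96097)
theorem F185240 : act 6 n61589 = n72557 := d14_1 F185237 (iv7 D72557) (iv6 D33485) (iv7 F54001) D61556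
theorem F185241 : act 1 n61569 = n72406 := d15_0 (iv0 F185233) F185237 F185239
theorem F185242 : act 4 n61569 = n61564 := d16_0 (iv5 D61564) (iv4 D29150) (iv5 D13874) (iv4 F10936) D14113 D29720 (iv5 F185236) F185237 F185239
theorem E18400 : n74888 = n61567 := ((c15_1 D61567 F112405 (iv7 F185237) F96097)).symm
theorem F185243 : act 1 n61567 = n61589 := (sb E18400 F112405)
theorem F185244 : act 2 n61567 = n72573 := (sb E18400 F112402)
theorem F185246 : act 5 n61567 = n34321 := (sb E18400 (iv5 D74888))
theorem F185247 : act 7 n61567 = n72406 := (sb E18400 F112404)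
theorem E18401 : n62712 = n61565 := ((c16_1 (iv4 F96116) (iv5 D62712) (iv4 D29659) (iv5 D14089) F10910 D13881 D29173 D61589 (iv7 F185237) F96097)).symm
theorem F185248 : act 2 n61565 = n72553 := (sb E18401 (iv2 F109049))
theorem F185249 : act 5 n61565 = n29659 := (sb E18401 (iv5 D62712))
theorem F185251 : act 6 n72553 = n61555 := d3_2 D61565 F185248 F96093
theorem E18402 : n72357 = n61566 := (c15_4 (iv0 D61566) D61567 F185247 F108911)
theorem F185252 : act 0 n61566 = n61589 := (sb E18402 F108813)
theorem F185254 : act 3 n61566 = n61588 := (sb E18402 F108812)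
theorem F185256 : act 5 n61566 = n33401 := (sb E18402 (iv5 D72357))
theorem F185258 : act 1 n72573 = n61569 := d15_0 F185241 (iv7 F185247) F185244
theorem F185259 : act 5 n61569 = n60102 := d17_7 (iv1 F53972) (iv5 D29118) (iv1 F53965) (iv5 F52643) (iv4 F98087) (iv5 F109082) F185258 F94658 (iv4 D34315)
theorem E18403 : n62809 = n62330 := (c20_1 D62809 (iv1 F97201) F95597 (iv3 F96119) (iv1 F185258) F109081 (iv4 D34309) (iv1 F52781) F185223 F47766 D29723)
theorem F185261 : act 2 n62330 = n61637 := (sb E18403 F98015)
theorem F185262 : act 4 n62330 = n29723 := (sb E18403 (iv4 D62809))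
theorem F185263 : act 7 n62330 = n61641 := (sb E18403 F98016)
theorem E18404 : n62813 = n62331 := (c15_4 F97195 F97201 F185263 (iv2 F98022))
theorem F185264 : act 2 n62331 = n61641 := (sb E18404 F98022)
theorem F185265 : act 4 n62331 = n29724 := (sb E18404 (iv4 D62813))
theorem F185266 : act 6 n62331 = n70810 := (sb E18404 (iv6 F107280))
theorem F185267 : act 7 n62331 = n61637 := (sb E18404 F98023)
theorem F185269 : act 3 n60102 = n61580 := d6_1 F185259 F96126 (iv3 F96119)
theorem F185270 : act 0 n108304 = n60108 := d18_0 (iv4 F167503) F167504 (iv4 F185242) F185259 (iv4 D60102) F54018 D62797 F97998 F185221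
theorem F185271 : act 0 n72351 = n69167 := d21_10 (iv5 D69167) (iv1 D32169) D32170 (iv6 F54441) F54444 (iv6 F96118) (iv5 D61568) D61566 F185256 (iv6 F108798)
theorem E18405 : n61641 = n61075 := (c20_1 D61641 (iv1 D61075) F46585 (iv3 F46815) D61566 F185254 F96139 (iv1 F54451) (iv4 F185216) F98010 (iv1 F47774))
theorem F185272 : act 2 n61075 = n62331 := (sb E18405 (iv2 F185264))
theorem F185273 : act 4 n61075 = n29204 := (sb E18405 (iv4 D61641))
theorem F185274 : act 6 n61075 = n81027 := (sb E18405 (iv6 F124786))
theorem F185275 : act 7 n61075 = n62330 := (sb E18405 (iv7 F185263))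
theorem E18406 : n61637 = n61074 := (c15_4 (iv0 D61074) D61075 F185275 F185261)
theorem F185276 : act 2 n61074 = n62330 := (sb E18406 (iv2 F185261))
theorem F185277 : act 4 n61074 = n29203 := (sb E18406 (iv4 D61637))
theorem F185278 : act 7 n61074 = n62331 := (sb E18406 (iv7 F185267))
theorem E18407 : n74889 = n72423 := (c12_3 F110046 F185246 D74889 (iv5 F110017) F110018 (iv5 F109952))
theorem F185279 : act 4 n72423 = n34322 := (sb E18407 F112406)
theorem F185280 : act 6 n72423 = n34321 := (sb E18407 (iv6 D74889))
theorem E18408 : n74913 = n62861 := ((c3_2 F185280 F98088 (iv6 D74913) F110033)).symm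
theorem F185281 : act 6 n62861 = n34328 := (sb E18408 (iv6 D74913))
theorem F185282 : act 7 n72398 = n74916 := d14_4 F110013 F185280 F54476 (iv6 F108892) (iv6 D74916)
theorem F185283 : act 7 n73294 = n72351 := d4_2 F185282 F112438 (iv2 F108891)
theorem F185284 : act 4 n74916 = n72399 := d11_1 F185282 (iv7 D72399) D72398
theorem F185285 : act 4 n72352 = n73294 := d1_2 F185284 F108893 (iv2 F112438)
theorem E18409 : n74915 = n74892 := ((c10_3 D74916 F185284 (iv6 F112407) (iv4 D74915))).symm
theorem F185286 : act 2 n74892 = n73299 := (sb E18409 F112437)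
theorem F185287 : act 4 n74892 = n34329 := (sb E18409 (iv4 D74915))
theorem F185288 : act 6 n73299 = n72352 := d3_2 (iv6 F112407) F185286 (iv2 F108893)
theorem E18410 : n74912 = n72358 := (c4_3 D74892 F185286 (iv7 F112435) F108814)
theorem F185289 : act 4 n72358 = n34328 := (sb E18410 (iv4 D74912))
theorem F185290 : act 7 n72358 = n73299 := (sb E18410 F112435)
theorem F185291 : act 1 n73299 = n74890 := d15_0 (iv0 D74890) D74892 F185286
theorem F185292 : act 3 n73299 = n72537 := d8_1 F185290 F109033 (iv3 F108815)
theorem F185293 : act 5 n73299 = n73362 := d13_1 F185290 (iv7 D73362) (iv5 F108816)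
theorem E18411 : n74891 = n62863 := (c15_1 D74891 (iv0 F109845) (iv7 F185290) F108814)
theorem F185294 : act 0 n62863 = n34322 := (sb E18411 (iv1 D74891))
theorem F185295 : act 0 n69171 = n72390 := d17_0 (iv5 D72390) (iv1 F52692) (iv5 F108800) F185285 (iv5 D73294) D73293 (iv5 F109794) (iv0 D69169) D69171
theorem F185296 : act 1 n69171 = n72394 := d15_1 (iv0 F185295) (iv7 F109773) F109780
theorem F185297 : act 5 n72351 = n73295 := d13_1 F185283 (iv7 D73295) D73294
theorem F185298 : act 1 n74916 = n69167 := d15_0 (iv0 F185271) (iv7 F185283) (iv2 F112438)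
theorem E18412 : n69264 = n69168 := (c21_5 (iv5 F109423) (iv1 D69260) (iv5 D32200) D32201 D69264 (iv6 D69168) D69167 (iv1 F185298) F112439 (iv6 D72802) D72799)
theorem F185299 : act 1 n69168 = n32201 := (sb E18412 (iv0 D69264))
theorem F185300 : act 6 n74911 = n74870 := d7_2 F185281 D74911 F112374
theorem F185301 : act 6 n72502 = n72573 := d12_4 F185281 F110034 (iv6 F109964) F109963 F109082
theorem F185302 : act 3 n74871 = n72502 := d7_3 F185301 F109081 D74871
theorem F185303 : act 4 n72574 = n72502 := d10_3 F185301 (iv4 D72573) D72574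
theorem E18413 : n74911 = n61493 := ((c21_5 (iv5 D29105) (iv1 D13854) D13856 D29111 D61493 F185300 (iv5 D74870) F54445 (iv5 F185236) (iv6 D61556) (iv1 F54036))).symm
theorem F185304 : act 3 n61493 = n34328 := (sb E18413 (iv3 D74911))
theorem F185305 : act 5 n61493 = n73253 := (sb E18413 F112433)
theorem F185306 : act 6 n61493 = n74870 := (sb E18413 F185300)
theorem F185307 : act 7 n61493 = n73252 := (sb E18413 F112434)
theorem F185308 : act 4 n62212 = n62746 := d1_2 F185231 (iv2 F96967) F97878
theorem E18414 : n62217 = n54590 := (c10_3 D54591 F185231 D62217 (iv4 D54590))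
theorem F185309 : act 3 n54590 = n29446 := (sb E18414 F96978)
theorem F185310 : act 6 n54590 = n29444 := (sb E18414 (iv6 D62217))
theorem F185311 : act 6 n62212 = n62748 := d3_2 F185310 (iv2 F96967) F97883
theorem F185312 : act 3 n61616 = n61579 := d5_3 F185228 F47755 D61616 (iv4 D61579) (iv3 F96117)
theorem F185313 : act 6 n61581 = n61616 := d7_0 F185312 F96125 D61581
theorem F185314 : act 2 n61629 = n61581 := d3_3 F185313 F96176 D61629
theorem F185315 : act 4 n61617 = n61581 := d10_3 F185313 (iv4 D61616) D61617
theorem F185316 : act 5 n62689 = n61629 := d2_0 F185314 F96129 D62689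
theorem F185317 : act 1 n108304 = n74894 := d17_6 (iv1 F52639) (iv5 F50805) (iv1 F53974) D29153 D61570 F185221 (iv5 D74894) F94666 F94663
theorem F185318 : act 5 n108351 = n62799 := d21_6 (iv5 D24394) (iv1 D11501) D11503 D24402 D50033 D108351 F98003 F185221 (iv6 D108304) (iv1 F79136)
theorem E18415 : n74895 = n62864 := ((c21_5 (iv5 F54321) F50879 (iv5 F23617) D29750 D62864 (iv6 D74895) D74894 (iv1 F185317) (iv5 F185221) F185222 (iv1 F47757))).symm
theorem F185319 : act 4 n62864 = n62793 := (sb E18415 F112408)
theorem F185320 : act 6 n62864 = n34323 := (sb E18415 (iv6 D74895))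
theorem F185321 : act 6 n60109 = n107966 := d3_2 F185320 (iv2 F94667) F166835
theorem F185322 : act 3 n107968 = n60109 := d7_3 F185321 (iv3 D107966) D107968
theorem F185323 : act 4 n107966 = n60110 := d10_1 F185321 (iv6 D60110) (iv4 F94668)
theorem F185324 : act 7 n60110 = n74907 := d11_2 (iv7 F166834) F185323 (iv4 F162876)
theorem F185325 : act 0 n60110 = n74909 := d20_7 D33929 F53283 F38103 (iv3 F38099) D49864 D107966 F185323 F112430 F54485 (iv1 F27134)
theorem F185326 : act 6 n74907 = n60097 := d14_1 F185324 (iv7 D60097) F46114 D28558 D60110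
theorem E18416 : n74906 = n62793 := ((c15_4 (iv0 D74906) D74907 (iv7 F185324) (iv2 F97979))).symm
theorem F185327 : act 1 n62793 = n34326 := (sb E18416 (iv0 D74906))
theorem F185328 : act 7 n60107 = n107968 := d8_0 F185322 (iv7 D60109) D60107
theorem F185329 : act 0 n107968 = n65343 := d19_4 (iv1 F54033) (iv5 F46118) (iv4 F94668) (iv3 F185322) (iv5 D65343) (iv4 D30650) F24163 D14528 F24165 (iv4 D11481) (iv3 F18754) (iv1 F37576) (iv5 D24035) F18363 F7903 (iv1 F8044) (iv5 F8042) F5102 D6600
theorem F185330 : act 2 n74901 = n108351 := d2_3 F185318 F98001 (iv5 F112420)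
theorem F185331 : act 7 n74902 = n108351 := d13_0 F185318 F98002 (iv5 F112421)
theorem F185333 : act 1 n74905 = n108351 := d17_6 (iv1 F54443) (iv5 D34308) F49986 (iv5 F27113) (iv4 F54483) (iv5 F112429) F185318 (iv0 F185213) F185216
theorem F185334 : act 6 n108347 = n74901 := d3_0 F185330 (iv6 D108351) D108347
theorem E18417 : n108347 = n108319 := ((c21_5 F79139 F55496 D24398 D50024 D108319 F185334 F112420 F185218 D62805 F98009 F79140)).symm
theorem F185335 : act 2 n108319 = n50033 := (sb E18417 (iv2 D108347))
theorem F185336 : act 6 n108319 = n74901 := (sb E18417 F185334)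
theorem F185337 : act 7 n108319 = n50034 := (sb E18417 (iv7 F167530))
theorem E18418 : n108352 = n60319 := (c15_4 F94862 F167489 F185337 (iv2 F167531))
theorem F185338 : act 2 n60319 = n50034 := (sb E18418 F167531)
theorem F185339 : act 7 n60319 = n50033 := (sb E18418 (iv7 D108352))
theorem E18419 : n108350 = n60320 := (c13_2 F185339 D108350 (iv7 D60320) D60319)
theorem F185340 : act 5 n60320 = n50033 := (sb E18419 (iv5 D108350))
theorem E18420 : n60299 = n60187 := ((c2_3 D60319 F185338 (iv5 F94745) F94846)).symm
theorem F185341 : act 2 n60187 = n28651 := (sb E18420 F94846)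
theorem E18421 : n28647 = n28609 := ((((iv6 D60187)).symm.trans (sb E18420 (iv6 D60299)))).symm
theorem E18422 : n60294 = n13660 := ((((iv1 F46178)).symm.trans (sb E18421 D60294))).symm
theorem E18424 : n60183 = n13658 := ((D60183).symm.trans (sb E18421 (iv2 D28647)))
theorem E18425 : n60296 = n60184 := (((D60184).symm.trans (sb E18421 D60296))).symm
theorem E18426 : n60297 = n60185 := (((D60185).symm.trans (sb E18421 D60297))).symm
theorem E18427 : n60298 = n60186 := (((D60186).symm.trans (sb E18421 D60298))).symm
theorem E18428 : n60188 = n13659 := ((D60188).symm.trans (sb E18421 (iv7 F46215)))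
theorem E18429 : n28652 = n28610 := ((((iv1 F46176)).symm.trans (sb E18422 (iv1 F94839)))).symm
theorem F185342 : act 2 n13658 = n28609 := (sb E18424 (iv2 D60183))
theorem F185343 : act 7 n60184 = n28653 := (sb E18425 F94841)
theorem F185344 : act 2 n60185 = n28649 := (sb E18426 F94842)
theorem F185345 : act 7 n60185 = n28654 := (sb E18426 F94843)
theorem F185346 : act 2 n60186 = n28650 := (sb E18427 F94844)
theorem F185347 : act 7 n60186 = n28655 := (sb E18427 F94845)
theorem F185348 : act 7 n13659 = n28609 := (sb E18428 (iv7 D60188))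
theorem F185349 : act 2 n28610 = n13659 := (sb E18429 F46216)
theorem E18430 : n60305 = n54985 := ((((iv3 F86998)).symm.trans (sb E18429 (iv3 F94849)))).symm
theorem E18431 : n60311 = n60189 := (((D60189).symm.trans (sb E18429 (iv4 F94854)))).symm
theorem E18432 : n60316 = n60190 := (((D60190).symm.trans (sb E18429 (iv5 F94859)))).symm
theorem E18433 : n60321 = n60191 := (((D60191).symm.trans (sb E18429 D60321))).symm
theorem F185350 : act 7 n28610 = n13658 := (sb E18429 (iv7 D28652))
theorem F185351 : act 7 n54985 = n28648 := (sb E18430 (iv7 D60305))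
theorem F185352 : act 2 n60189 = n28654 := (sb E18431 F94853)
theorem F185353 : act 7 n60189 = n28649 := (sb E18431 (iv7 D60311))
theorem F185354 : act 2 n60190 = n28655 := (sb E18432 F94858)
theorem F185355 : act 7 n60190 = n28650 := (sb E18432 (iv7 D60316))
theorem F185356 : act 2 n60191 = n28656 := (sb E18433 F94863)
theorem F185357 : act 2 n60332 = n67888 := d3_3 F103946 F185354 D60332
theorem F185358 : act 7 n67889 = n60332 := d15_2 (iv0 D67888) D67889 F185357
theorem F185359 : act 1 n60185 = n72368 := d15_0 (iv0 F131212) F185353 (iv2 F185344)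
theorem E18434 : n70391 = n60184 := ((c20_4 (iv4 F108846) (iv1 F185359) (iv4 D60185) D60184 (iv1 F110595) F110487 (iv4 F110545) (iv1 F109284) (iv4 D33582) D33581 F162952)).symm
theorem F185360 : act 0 n60184 = n73775 := (sb E18434 (iv1 F110595))
theorem F185361 : act 1 n60184 = n32674 := (sb E18434 (iv0 D70391))
theorem E18435 : n70392 = n60324 := ((c15_4 F110598 (iv0 F185360) F185343 D60324)).symm
theorem F185362 : act 0 n60324 = n32674 := (sb E18435 (iv1 D70392))
theorem F185363 : act 1 n60324 = n73775 := (sb E18435 F110598)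
theorem E18436 : n54978 = n54896 := ((c11_2 F185351 F86846 (iv7 F86996) D54985)).symm
theorem F185364 : act 2 n54896 = n26589 := (sb E18436 (iv2 D54978))
theorem F185365 : act 7 n54896 = n26590 := (sb E18436 (iv7 F86996))
theorem E18437 : n54983 = n54897 := (c15_4 F86839 F86844 F185365 (iv2 F86997))
theorem F185366 : act 2 n54897 = n26590 := (sb E18437 F86997)
theorem F185367 : act 7 n54897 = n26589 := (sb E18437 (iv7 D54983))
theorem E18438 : n60302 = n54980 := ((c1_3 F86846 F185364 D54980 (iv2 D60302))).symm
theorem F185368 : act 2 n54980 = n28648 := (sb E18438 (iv2 D60302))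
theorem E18439 : n69946 = n54985 := (c15_2 F184630 D69946 F185351 (iv2 F185368))
theorem F185369 : act 0 n54985 = n32477 := (sb E18439 (iv1 D69946))
def n118017 : Q := act 4 n54365
theorem D118017 : act 4 n54365 = n118017 := rfl
theorem F185371 : act 2 n118017 = n70255 := d1_1 D118017 (iv4 D70255) (iv2 F182276)
theorem F185372 : act 7 n118017 = n70259 := d11_2 (iv7 F182277) D118017 (iv4 D70259)
def n118018 : Q := act 6 n54365
theorem D118018 : act 6 n54365 = n118018 := rfl
theorem F185373 : act 2 n118018 = n70256 := d3_1 D118018 (iv6 D70256) (iv2 F182276)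
theorem F185374 : act 0 n118018 = n70284 := d21_4 F51604 D62921 F98169 D118018 (iv6 D70284) (iv5 F52035) (iv1 F107502) (iv5 F185014) (iv6 F185018) F97973
theorem F185375 : act 5 n118018 = n70218 := d21_6 F24971 (iv1 F20640) (iv5 F20791) D26277 D54365 D118018 (iv1 D70218) (iv5 D32588) (iv6 D15427) (iv1 F24969)
def n118019 : Q := act 3 n54366
theorem D118019 : act 3 n54366 = n118019 := rfl
theorem F185376 : act 7 n118019 = n70254 := d8_2 (iv7 F182272) D118019 (iv3 D70254)
def n118020 : Q := act 4 n54366
theorem D118020 : act 4 n54366 = n118020 := rfl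
theorem F185377 : act 2 n118020 = n70259 := d1_1 D118020 (iv4 D70259) (iv2 F182271)
def n118021 : Q := act 0 n54368
theorem D118021 : act 0 n54368 = n118021 := rfl
def n118022 : Q := act 1 n54368
theorem D118022 : act 1 n54368 = n118022 := rfl
theorem F185379 : act 1 n118022 = n70268 := d15_1 D118022 (iv7 D70268) (iv2 F85813)
def n118024 : Q := act 7 n54368
theorem D118024 : act 7 n54368 = n118024 := rfl
theorem F185383 : act 2 n118024 = n70268 := d4_1 D118024 (iv7 D70268) (iv2 F85813)
theorem F185385 : act 4 n118024 = n55632 := d11_1 D118024 (iv7 D55632) (iv4 F85815)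
theorem F185387 : act 1 n70268 = n118021 := d15_0 (iv0 D118021) D118024 F185383
theorem F185388 : act 1 n70266 = n118024 := d15_1 D70266 (iv7 D118024) F85813
theorem F185389 : act 1 n118024 = n70265 := d15_0 (iv0 D70265) D70268 (iv2 F185383)
def n118025 : Q := act 0 n54369
theorem D118025 : act 0 n54369 = n118025 := rfl
theorem F185390 : act 3 n118025 = n84394 := d20_5 F27890 (iv1 F21308) (iv4 F41829) D54369 D118025 F129531 F77175 (iv4 F51652) (iv3 D32596) (iv1 F27893)
theorem F185391 : act 1 n70262 = n118025 := d15_0 (iv0 D118025) F85818 D70262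
theorem F185392 : act 5 n70426 = n118025 := d6_0 F185390 (iv5 D84394) (iv3 F129529)
theorem F185393 : act 7 n70260 = n118025 := d8_0 F185390 F129532 F107852
theorem F185394 : act 2 n118025 = n70261 := d15_3 F106708 F106705 F185393
def n118026 : Q := act 1 n54369
theorem D118026 : act 1 n54369 = n118026 := rfl
theorem F185395 : act 1 n118026 = n70262 := d15_1 D118026 F106707 (iv2 F85816)
theorem F185396 : act 7 n118026 = n70261 := d15_2 (iv0 D118025) D118026 (iv2 F185394)
theorem F185397 : act 2 n70260 = n118026 := d4_3 F185396 (iv2 F185394) (iv7 F185393)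
theorem F185398 : act 4 n77085 = n118026 := d11_3 F185396 (iv4 F122897) F122896
theorem F185399 : act 5 n70427 = n118026 := d13_3 F185396 (iv5 F184991) F184989
def n118027 : Q := act 4 n54369
theorem D118027 : act 4 n54369 = n118027 := rfl
theorem F185400 : act 2 n118027 = n114697 := d1_1 D118027 F178805 (iv2 F85816)
theorem F185401 : act 3 n118027 = n55621 := d5_1 D118027 (iv4 D55621) F43287 (iv4 F41829) D54369
theorem F185402 : act 7 n118027 = n70263 := d11_2 (iv7 F85818) D118027 (iv4 D70263)
def n118028 : Q := act 6 n54369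
theorem D118028 : act 6 n54369 = n118028 := rfl
def n118029 : Q := act 0 n54370
theorem D118029 : act 0 n54370 = n118029 := rfl
def n118030 : Q := act 1 n54370
theorem D118030 : act 1 n54370 = n118030 := rfl
theorem F185405 : act 1 n118030 = n70273 := d15_1 D118030 (iv7 D70273) (iv2 F85819)
def n118032 : Q := act 7 n54370
theorem D118032 : act 7 n54370 = n118032 := rfl
theorem F185408 : act 2 n118032 = n70273 := d4_1 D118032 (iv7 D70273) (iv2 F85819)
theorem F185409 : act 4 n118032 = n55635 := d11_1 D118032 (iv7 D55635) (iv4 F85820)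
theorem F185411 : act 1 n70273 = n118029 := d15_0 (iv0 D118029) D118032 F185408
theorem F185412 : act 1 n70271 = n118032 := d15_1 D70271 (iv7 D118032) F85819
theorem F185413 : act 1 n118032 = n70270 := d15_0 (iv0 D70270) D70273 (iv2 F185408)
def n118033 : Q := act 0 n54371
theorem D118033 : act 0 n54371 = n118033 := rfl
def n118034 : Q := act 1 n54371
theorem D118034 : act 1 n54371 = n118034 := rfl
def n118035 : Q := act 7 n54371
theorem D118035 : act 7 n54371 = n118035 := rfl
theorem F185414 : act 3 n118035 = n54375 := d8_1 D118035 (iv7 D54375) (iv3 F85821)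
theorem F185415 : act 4 n118035 = n114555 := d11_1 D118035 (iv7 D114555) (iv4 F85822)
def n118036 : Q := act 0 n54372
theorem D118036 : act 0 n54372 = n118036 := rfl
def n118037 : Q := act 1 n54372
theorem D118037 : act 1 n54372 = n118037 := rfl
theorem F185417 : act 1 n118037 = n70314 := d15_1 D118037 (iv7 D70314) (iv2 F85823)
def n118039 : Q := act 7 n54372
theorem D118039 : act 7 n54372 = n118039 := rfl
theorem F185421 : act 2 n118039 = n70314 := d4_1 D118039 (iv7 D70314) (iv2 F85823)
theorem F185423 : act 4 n118039 = n54375 := d11_1 D118039 (iv7 D54375) (iv4 F85825)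
theorem F185425 : act 1 n70314 = n118036 := d15_0 (iv0 D118036) D118039 F185421
theorem F185426 : act 1 n70312 = n118039 := d15_1 D70312 (iv7 D118039) F85823
theorem F185427 : act 1 n118039 = n70311 := d15_0 (iv0 D70311) D70314 (iv2 F185421)
def n118040 : Q := act 2 n54373
theorem D118040 : act 2 n54373 = n118040 := rfl
theorem F185428 : act 7 n54374 = n118040 := d15_2 (iv0 D54373) D54374 (iv2 D118040)
def n118041 : Q := act 3 n54373
theorem D118041 : act 3 n54373 = n118041 := rfl
def n118042 : Q := act 4 n54373
theorem D118042 : act 4 n54373 = n118042 := rfl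
def n118043 : Q := act 5 n54373
theorem D118043 : act 5 n54373 = n118043 := rfl
theorem F185429 : act 0 n118043 = n54731 := d21_1 D118043 (iv5 F87133) (iv6 D55094) (iv1 D26626) F21120 (iv5 D6076) (iv1 F10689) D12488 D26286 D54373
def n118044 : Q := act 7 n54373
theorem D118044 : act 7 n54373 = n118044 := rfl
theorem F185431 : act 2 n118044 = n54374 := d4_1 D118044 F185428 (iv2 D118040)
def n118045 : Q := act 3 n54374
theorem D118045 : act 3 n54374 = n118045 := rfl
def n118046 : Q := act 4 n54374
theorem D118046 : act 4 n54374 = n118046 := rfl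
def n118047 : Q := act 5 n54374
theorem D118047 : act 5 n54374 = n118047 := rfl
theorem F185432 : act 6 n118047 = n54533 := d21_9 (iv5 F88644) (iv1 F88647) (iv5 F108662) (iv6 D72223) (iv1 F86603) F86600 F52579 (iv1 F85826) D118047 (iv1 F86163)
theorem F185433 : act 0 n54731 = n118047 := d21_10 (iv5 D118047) (iv1 D54374) (iv5 F42362) (iv6 D26478) (iv1 D12636) (iv6 F21030) (iv5 D12633) D12631 D26466 D54731
def n118048 : Q := act 6 n54374
theorem D118048 : act 6 n54374 = n118048 := rfl
theorem F185435 : act 0 n118048 = n79089 := d21_10 (iv5 D79089) (iv1 F87240) F87237 (iv6 D33822) (iv1 F42655) D55094 F87133 F185433 (iv5 D118047) D118048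
def n118049 : Q := act 1 n54376
theorem D118049 : act 1 n54376 = n118049 := rfl
theorem F185437 : act 1 n118049 = n55619 := d15_1 D118049 (iv7 F105078) F105077
theorem F185438 : act 7 n118049 = n70294 := d15_2 (iv0 F106438) D118049 (iv2 F108409)
theorem F185439 : act 5 n118049 = n101184 := d17_7 F136431 F64066 D42341 (iv5 F72573) D98298 F151714 D118049 F155890 (iv4 F136433)
theorem F185440 : act 3 n105396 = n118049 := d19_19 (iv1 D118049) (iv5 F151714) (iv4 D98298) F89625 (iv1 D56666) F44067 (iv4 F72610) F72607 F51891 (iv5 F30604) F27273 F25162 F27274 F11826 (iv4 F12507) (iv3 F27683) (iv1 F37426) (iv5 F76735) D105396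
theorem F185441 : act 4 n70049 = n118049 := d20_6 (iv4 F50682) (iv1 F50683) (iv4 D15418) (iv3 F24968) D32555 F106440 (iv1 D118049) (iv4 D54376) F41856 (iv1 F24733)
theorem F185442 : act 2 n118049 = n70293 := d1_1 F185441 (iv4 F115143) F115142
def n118050 : Q := act 3 n54376
theorem D118050 : act 3 n54376 = n118050 := rfl
theorem F185443 : act 2 n118050 = n114604 := d0_1 D118050 (iv3 D114604) F108411 (iv3 F108405) F105077
theorem F185444 : act 4 n118050 = n54378 := d5_2 D54376 D118050 (iv3 D54378) (iv4 D26290) (iv3 F41856)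
theorem F185445 : act 7 n118050 = n70295 := d8_2 (iv7 F85832) D118050 (iv3 D70295)
def n118051 : Q := act 6 n54376
theorem D118051 : act 6 n54376 = n118051 := rfl
theorem F185446 : act 4 n118051 = n54377 := d10_1 D118051 (iv6 D54377) D54376
def n118052 : Q := act 0 n54377
theorem D118052 : act 0 n54377 = n118052 := rfl
def n118053 : Q := act 1 n54377
theorem D118053 : act 1 n54377 = n118053 := rfl
theorem F185447 : act 5 n85039 = n118053 := d21_6 (iv5 D16032) (iv1 F27017) D26481 F42367 D39324 D85039 (iv1 D118053) (iv5 F108345) (iv6 D71871) (iv1 D33213)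
def n118054 : Q := act 7 n54377
theorem D118054 : act 7 n54377 = n118054 := rfl
theorem F185448 : act 3 n118054 = n54382 := d8_1 D118054 (iv7 D54382) (iv3 F85833)
theorem F185450 : act 1 n85170 = n118054 := d15_1 (iv0 F130515) (iv7 D118054) (iv2 F105079)
def n118055 : Q := act 0 n54378
theorem D118055 : act 0 n54378 = n118055 := rfl
theorem F185451 : act 3 n118055 = n76587 := d20_5 (iv4 D26177) (iv1 F20812) D26290 D54378 D118055 (iv4 D76587) F55457 (iv4 F51628) (iv3 D32560) (iv1 F41530)
theorem F185452 : act 1 n70309 = n118055 := d15_0 (iv0 D118055) F85836 D70309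
theorem F185453 : act 5 n70893 = n118055 := d6_0 F185451 F114847 (iv3 F125605)
theorem F185454 : act 7 n70307 = n118055 := d8_0 F185451 (iv7 F148039) (iv3 F148043)
theorem F185455 : act 2 n118055 = n70308 := d15_3 F106768 F106765 F185454
def n118056 : Q := act 1 n54378
theorem D118056 : act 1 n54378 = n118056 := rfl
theorem F185457 : act 7 n118056 = n70308 := d15_2 (iv0 D118055) D118056 (iv2 F185455)
theorem F185459 : act 4 n77021 = n118056 := d11_3 F185457 F178693 F132301
theorem F185460 : act 5 n70894 = n118056 := d13_3 F185457 (iv5 F178694) F125608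
def n118058 : Q := act 0 n54379
theorem D118058 : act 0 n54379 = n118058 := rfl
def n118059 : Q := act 1 n54379
theorem D118059 : act 1 n54379 = n118059 := rfl
theorem F185463 : act 1 n118059 = n70339 := d15_1 D118059 (iv7 D70339) (iv2 F85837)
def n118061 : Q := act 7 n54379
theorem D118061 : act 7 n54379 = n118061 := rfl
theorem F185466 : act 2 n118061 = n70339 := d4_1 D118061 (iv7 D70339) (iv2 F85837)
theorem F185467 : act 4 n118061 = n54382 := d11_1 D118061 (iv7 D54382) (iv4 F85838)
theorem F185469 : act 1 n70339 = n118058 := d15_0 (iv0 D118058) D118061 F185466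
theorem F185470 : act 1 n70337 = n118061 := d15_1 D70337 (iv7 D118061) F85837
theorem F185471 : act 1 n118061 = n70336 := d15_0 (iv0 D70336) D70339 (iv2 F185466)
def n118062 : Q := act 3 n54380
theorem D118062 : act 3 n54380 = n118062 := rfl
theorem F185472 : act 5 n118062 = n85467 := d6_2 F85847 D118062 F130683
theorem F185473 : act 7 n118062 = n70299 := d8_2 (iv7 F85846) D118062 F131016
theorem F185474 : act 2 n118062 = n70298 := d15_3 (iv0 D70298) D70299 (iv7 F185473)
def n118063 : Q := act 4 n54380
theorem D118063 : act 4 n54380 = n118063 := rfl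
theorem F185475 : act 2 n118063 = n70341 := d1_1 D118063 (iv4 D70341) (iv2 F85848)
def n118064 : Q := act 6 n54380
theorem D118064 : act 6 n54380 = n118064 := rfl
theorem F185477 : act 2 n118064 = n70342 := d3_1 D118064 (iv6 D70342) (iv2 F85848)
theorem F185478 : act 7 n118064 = n73532 := d14_2 (iv7 F85846) D118064 (iv6 D73532) (iv7 F87107) (iv6 F87110)
theorem F185479 : act 5 n118064 = n61510 := d21_6 F12577 (iv1 F10658) D12491 D26291 D54380 D118064 (iv1 D61510) F46783 (iv6 D26863) (iv1 F21307)
theorem F185480 : act 0 n118064 = n117399 := d21_1 (iv5 F185479) F183866 (iv6 D69441) D69439 (iv6 F105712) (iv5 D61573) (iv1 F47713) (iv5 F97899) F97900 (iv1 F97829)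
def n118065 : Q := act 3 n54381
theorem D118065 : act 3 n54381 = n118065 := rfl
theorem F185481 : act 5 n118065 = n58454 := d6_2 F85840 D118065 F92328
theorem F185482 : act 6 n118065 = n73533 := d7_2 (iv6 F86552) D118065 (iv3 D73533)
theorem F185483 : act 7 n118065 = n70340 := d8_2 F85849 D118065 (iv3 D70340)
def n118066 : Q := act 4 n54381
theorem D118066 : act 4 n54381 = n118066 := rfl
theorem F185484 : act 2 n118066 = n70344 := d1_1 D118066 (iv4 D70344) (iv2 F85841)
theorem F185485 : act 6 n118066 = n73534 := d10_2 (iv6 F86552) D118066 (iv4 D73534)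
theorem F185486 : act 7 n118066 = n70341 := d11_2 F85849 D118066 (iv4 D70341)
def n118067 : Q := act 0 n54383
theorem D118067 : act 0 n54383 = n118067 := rfl
def n118068 : Q := act 1 n54383
theorem D118068 : act 1 n54383 = n118068 := rfl
theorem F185487 : act 1 n118068 = n69883 := d15_1 D118068 (iv7 D69883) (iv2 F85851)
def n118069 : Q := act 5 n54383
theorem D118069 : act 5 n54383 = n118069 := rfl
theorem F185488 : act 2 n118069 = n69882 := d2_1 D118069 (iv5 D69882) (iv2 F85851)
theorem F185489 : act 3 n118069 = n71424 := d6_1 D118069 F107946 F88634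
theorem F185490 : act 6 n118069 = n54384 := d12_2 D54383 D118069 (iv5 D54384) (iv6 D26295) D26294
theorem F185491 : act 4 n61721 = n118069 := d10_3 F185490 F85858 D61721
def n118070 : Q := act 7 n54383
theorem D118070 : act 7 n54383 = n118070 := rfl
theorem F185492 : act 2 n118070 = n69883 := d4_1 D118070 (iv7 D69883) (iv2 F85851)
theorem F185493 : act 4 n118070 = n70657 := d11_1 D118070 (iv7 D70657) (iv4 F85852)
theorem F185494 : act 6 n118070 = n69860 := d14_1 D118070 (iv7 D69860) (iv6 D32441) (iv7 F41875) D54383
theorem F185495 : act 1 n69883 = n118067 := d15_0 (iv0 D118067) D118070 F185492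
theorem F185496 : act 1 n69881 = n118070 := d15_1 D69881 (iv7 D118070) F85851
theorem F185497 : act 1 n118070 = n69880 := d15_0 (iv0 D69880) D69883 (iv2 F185492)
def n118071 : Q := act 6 n54385
theorem D118071 : act 6 n54385 = n118071 := rfl
theorem F185498 : act 2 n118071 = n57953 := d3_1 D118071 (iv6 D57953) (iv2 F85859)
theorem F185499 : act 3 n118071 = n54386 := d7_1 D118071 (iv6 D54386) D54385
theorem F185500 : act 4 n118071 = n54419 := d10_1 D118071 F85926 (iv4 F85860)
def n118072 : Q := act 0 n54386
theorem D118072 : act 0 n54386 = n118072 := rfl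
theorem F185501 : act 4 n118072 = n55114 := d20_2 (iv4 F85866) D118072 (iv3 D55114) (iv1 F87168) F87163 (iv4 F110274) (iv1 F110275) D73632 F110329 (iv1 D54388)
theorem F185502 : act 0 n118072 = n54403 := d20_7 (iv4 F41950) (iv1 D6111) (iv4 F9355) (iv3 F21136) D26635 D55114 (iv4 F185501) F85895 F41930 (iv1 F20848)
def n118073 : Q := act 1 n54386
theorem D118073 : act 1 n54386 = n118073 := rfl
theorem F185503 : act 1 n118073 = n54403 := d15_1 D118073 (iv7 D54403) (iv2 F85865)
theorem F185504 : act 4 n84892 = n118073 := d20_6 (iv4 F53219) (iv1 F87235) F87232 (iv3 F87185) (iv1 F87188) D84892 (iv1 D118073) F85866 F41915 D26316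
def n118074 : Q := act 5 n54386
theorem D118074 : act 5 n54386 = n118074 := rfl
theorem F185505 : act 2 n118074 = n54402 := d2_1 D118074 (iv5 D54402) (iv2 F85865)
theorem F185506 : act 6 n118074 = n101049 := d12_2 D54386 D118074 (iv5 D101049) (iv6 D47077) (iv5 F41911)
def n118075 : Q := act 7 n54386
theorem D118075 : act 7 n54386 = n118075 := rfl
theorem F185507 : act 2 n118075 = n54403 := d4_1 D118075 (iv7 D54403) (iv2 F85865)
theorem F185508 : act 4 n118075 = n54389 := d11_1 D118075 (iv7 D54389) (iv4 F85866)
theorem F185509 : act 6 n118075 = n69910 := d14_1 D118075 (iv7 D69910) (iv6 D32464) (iv7 F41910) D54386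
theorem F185510 : act 1 n54401 = n118075 := d15_1 D54401 (iv7 D118075) F85865
theorem F185511 : act 1 n118075 = n54400 := d15_0 (iv0 D54400) D54403 (iv2 F185507)
def n118076 : Q := act 4 n54387
theorem D118076 : act 4 n54387 = n118076 := rfl
theorem F185512 : act 2 n118076 = n54406 := d1_1 D118076 (iv4 D54406) (iv2 F155323)
theorem F185513 : act 3 n118076 = n83500 := d5_1 D118076 F130127 (iv3 D84913) D84914 F130128
theorem F185514 : act 6 n118076 = n85982 := d10_2 (iv6 F155288) D118076 (iv4 D85982)
theorem F185515 : act 7 n118076 = n54411 := d11_2 (iv7 F155325) D118076 (iv4 D54411)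
theorem F185516 : act 7 n100756 = n83500 := d8_2 F185515 (iv3 F154849) (iv3 F185513)
theorem F185517 : act 2 n83500 = n100755 := d15_3 (iv0 D100755) D100756 F185516
theorem F185518 : act 2 n100756 = n83501 := d15_3 F154855 F154856 (iv7 F185516)
theorem F185519 : act 7 n83501 = n100755 := d4_2 (iv7 F185516) F185518 (iv2 F185517)
def n118077 : Q := act 4 n54388
theorem D118077 : act 4 n54388 = n118077 := rfl
theorem F185520 : act 2 n118077 = n54411 := d1_1 D118077 (iv4 D54411) (iv2 F155320)
theorem F185521 : act 7 n118077 = n54406 := d11_2 (iv7 F155321) D118077 (iv4 D54406)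
def n118078 : Q := act 6 n54388
theorem D118078 : act 6 n54388 = n118078 := rfl
theorem F185522 : act 2 n118078 = n54412 := d3_1 D118078 (iv6 D54412) (iv2 F155320)
theorem F185523 : act 7 n118078 = n85979 := d14_2 (iv7 F155321) D118078 (iv6 D85979) (iv7 F155336) (iv6 D54408)
def n118079 : Q := act 5 n54394
theorem D118079 : act 5 n54394 = n118079 := rfl
theorem F185524 : act 3 n118079 = n54397 := d6_1 D118079 (iv5 D54397) (iv3 F85882)
theorem F185525 : act 6 n118079 = n54436 := d12_2 D54394 D118079 (iv5 D54436) (iv6 D26327) (iv5 F41920)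
theorem F185526 : act 7 n118079 = n85940 := d13_2 (iv7 F155115) D118079 (iv5 D85940)
theorem F185527 : act 0 n118079 = n85189 := d18_0 (iv4 D85189) (iv1 F130409) F130406 F60294 (iv4 F59391) F59394 D38584 (iv0 F155113) D118079
def n118080 : Q := act 1 n54397
theorem D118080 : act 1 n54397 = n118080 := rfl
theorem F185530 : act 5 n70627 = n118080 := d21_0 (iv1 D118080) (iv5 D54397) (iv6 D26310) (iv1 D12506) D12508 (iv5 F41916) D54387 F155324 (iv6 F155197) (iv1 F155334)
theorem F185532 : act 3 n118080 = n54496 := d6_1 F185530 (iv5 F106851) (iv3 F155472)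
def n118081 : Q := act 4 n54397
theorem D118081 : act 4 n54397 = n118081 := rfl
theorem F185533 : act 2 n118081 = n69943 := d1_1 D118081 (iv4 D69943) (iv2 F85884)
theorem F185534 : act 6 n118081 = n54437 := d10_2 (iv6 F85885) D118081 (iv4 D54437)
theorem F185535 : act 7 n118081 = n85944 := d11_2 (iv7 F155105) D118081 (iv4 D85944)
def n118084 : Q := act 5 n54399
theorem D118084 : act 5 n54399 = n118084 := rfl
theorem F185537 : act 2 n118084 = n69970 := d2_1 D118084 (iv5 D69970) (iv2 F85891)
def n118085 : Q := act 7 n54399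
theorem D118085 : act 7 n54399 = n118085 := rfl
theorem F185538 : act 2 n118085 = n69971 := d4_1 D118085 (iv7 D69971) (iv2 F85891)
theorem F185539 : act 4 n118085 = n72585 := d11_1 D118085 (iv7 D72585) (iv4 F85892)
theorem F185540 : act 6 n118085 = n69967 := d14_1 D118085 (iv7 D69967) (iv6 D32483) (iv7 F41927) D54399
theorem F185542 : act 1 n69969 = n118085 := d15_1 D69969 (iv7 D118085) F85891
theorem F185543 : act 1 n118085 = n69968 := d15_0 (iv0 D69968) D69971 (iv2 F185538)
def n118086 : Q := act 2 n54400
theorem D118086 : act 2 n54400 = n118086 := rfl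
theorem F185544 : act 7 n54401 = n118086 := d15_2 (iv0 D54400) D54401 (iv2 D118086)
def n118087 : Q := act 3 n54400
theorem D118087 : act 3 n54400 = n118087 := rfl
def n118088 : Q := act 4 n54400
theorem D118088 : act 4 n54400 = n118088 := rfl
theorem F185545 : act 3 n118088 = n55123 := d20_3 (iv4 F41929) D54400 D118088 (iv1 F87187) F60247 (iv4 F60269) (iv1 F86890) (iv4 F86891) (iv3 D54410) (iv1 D26314)
def n118089 : Q := act 5 n54400
theorem D118089 : act 5 n54400 = n118089 := rfl
def n118090 : Q := act 6 n54400
theorem D118090 : act 6 n54400 = n118090 := rfl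
def n118091 : Q := act 7 n54400
theorem D118091 : act 7 n54400 = n118091 := rfl
def n118092 : Q := act 3 n54401
theorem D118092 : act 3 n54401 = n118092 := rfl
def n118093 : Q := act 4 n54401
theorem D118093 : act 4 n54401 = n118093 := rfl
theorem F185547 : act 3 n118093 = n55103 := d20_3 (iv4 F185508) (iv1 F185510) D118093 (iv1 D55103) F42673 (iv4 F53170) D73596 F110269 (iv3 D54405) (iv1 F85874)
def n118094 : Q := act 5 n54401
theorem D118094 : act 5 n54401 = n118094 := rfl
def n118095 : Q := act 6 n54401
theorem D118095 : act 6 n54401 = n118095 := rfl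
def n118096 : Q := act 0 n54402
theorem D118096 : act 0 n54402 = n118096 := rfl
def n118097 : Q := act 1 n54402
theorem D118097 : act 1 n54402 = n118097 := rfl
def n118098 : Q := act 4 n54402
theorem D118098 : act 4 n54402 = n118098 := rfl
def n118099 : Q := act 7 n54402
theorem D118099 : act 7 n54402 = n118099 := rfl
theorem F185548 : act 3 n118099 = n57986 := d8_1 D118099 (iv7 D57986) (iv3 F85893)
theorem F185549 : act 5 n118099 = n54403 := d13_1 D118099 (iv7 D54403) D54402
def n118100 : Q := act 0 n54405
theorem D118100 : act 0 n54405 = n118100 := rfl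
def n118101 : Q := act 1 n54405
theorem D118101 : act 1 n54405 = n118101 := rfl
def n118102 : Q := act 5 n54405
theorem D118102 : act 5 n54405 = n118102 := rfl
theorem F185550 : act 3 n118102 = n54407 := d6_1 D118102 (iv5 D54407) D54405
def n118103 : Q := act 6 n54405
theorem D118103 : act 6 n54405 = n118103 := rfl
theorem F185551 : act 3 n118103 = n54408 := d7_1 D118103 (iv6 D54408) D54405
theorem F185552 : act 7 n85976 = n118103 := d8_0 F185551 F155336 D85976
def n118104 : Q := act 0 n54406
theorem D118104 : act 0 n54406 = n118104 := rfl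
theorem F185553 : act 1 n54411 = n118104 := d15_0 (iv0 D118104) (iv7 F185521) F185520
def n118105 : Q := act 1 n54406
theorem D118105 : act 1 n54406 = n118105 := rfl
theorem F185554 : act 1 n118105 = n54411 := d15_1 D118105 (iv7 F185515) F185512
def n118108 : Q := act 6 n54406
theorem D118108 : act 6 n54406 = n118108 := rfl
theorem F185555 : act 2 n118108 = n85982 := d3_1 D118108 (iv6 F185514) F185512
theorem F185556 : act 4 n118108 = n54408 := d10_1 D118108 (iv6 D54408) D54406
theorem F185557 : act 7 n85977 = n118108 := d11_0 F185556 F155336 D85977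
def n118109 : Q := act 4 n54407
theorem D118109 : act 4 n54407 = n118109 := rfl
def n118110 : Q := act 5 n54408
theorem D118110 : act 5 n54408 = n118110 := rfl
theorem F185558 : act 2 n118110 = n54461 := d2_1 D118110 F155287 (iv2 F155335)
theorem F185559 : act 6 n118110 = n58543 := d12_2 D54408 D118110 F155265 F107181 (iv5 D54407)
theorem F185560 : act 7 n118110 = n85978 := d13_2 (iv7 F155336) D118110 (iv5 D85978)
theorem F185561 : act 0 n118110 = n54442 := d21_1 D118110 (iv5 D54442) (iv6 D26330) (iv1 F20909) D15685 (iv5 F50140) (iv1 F155202) (iv5 D58557) (iv6 F60604) (iv1 F155242)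
theorem F185562 : act 0 n54463 = n118110 := d21_1 (iv5 F86004) (iv5 D118110) (iv6 D54408) (iv1 F85874) F85871 (iv5 F106352) (iv1 F106355) D70041 F106428 (iv1 F85989)
def n118111 : Q := act 0 n54410
theorem D118111 : act 0 n54410 = n118111 := rfl
def n118112 : Q := act 1 n54410
theorem D118112 : act 1 n54410 = n118112 := rfl
def n118113 : Q := act 6 n54410
theorem D118113 : act 6 n54410 = n118113 := rfl
theorem F185563 : act 3 n118113 = n54412 := d7_1 D118113 (iv6 D54412) D54410
def n118114 : Q := act 5 n54411
theorem D118114 : act 5 n54411 = n118114 := rfl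
def n118115 : Q := act 6 n54411
theorem D118115 : act 6 n54411 = n118115 := rfl
theorem F185564 : act 4 n118115 = n54412 := d10_1 D118115 (iv6 D54412) D54411
def n118116 : Q := act 1 n54412
theorem D118116 : act 1 n54412 = n118116 := rfl
theorem F185565 : act 1 n118116 = n85979 := d15_1 D118116 (iv7 F185523) F185522
def n118117 : Q := act 7 n54412
theorem D118117 : act 7 n54412 = n118117 := rfl
theorem F185566 : act 2 n118117 = n85979 := d4_1 D118117 (iv7 F185523) F185522
theorem F185567 : act 6 n118117 = n85952 := d14_1 D118117 F155338 (iv6 F155288) F155325 D54412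
theorem F185568 : act 1 n85979 = n78348 := d15_0 (iv0 F184651) D118117 F185566
theorem E18440 : n118116 = n106073 := ((c15_4 F185565 F185568 F119569 (iv2 F163030))).symm
theorem F185569 : act 0 n106073 = n54412 := (sb E18440 (iv1 D118116))
theorem F185570 : act 1 n106073 = n85979 := (sb E18440 F185565)
theorem E18441 : n85978 = n54460 := ((c21_2 D26336 D54460 (iv5 D85978) D85979 (iv1 F185570) (iv6 D106073) D106072 (iv1 F163028) F184773 (iv6 D54459) (iv1 D26335))).symm
theorem F185571 : act 5 n54460 = n39763 := (sb E18441 (iv5 D85978))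
theorem F185572 : act 7 n54460 = n118110 := (sb E18441 (iv7 F185560))
def n118118 : Q := act 0 n54413
theorem D118118 : act 0 n54413 = n118118 := rfl
theorem F185573 : act 1 n70463 = n118118 := d15_0 (iv0 D118118) F85899 D70463
def n118119 : Q := act 1 n54413
theorem D118119 : act 1 n54413 = n118119 := rfl
def n118120 : Q := act 2 n54413
theorem D118120 : act 2 n54413 = n118120 := rfl
theorem F185574 : act 3 n118120 = n70451 := d0_2 D54413 D118120 (iv2 D70451) (iv3 D32694) (iv2 F41967)
theorem F185575 : act 7 n118120 = n70463 := d4_2 (iv7 F85899) D118120 (iv2 D70463)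
theorem F185576 : act 1 n118120 = n70461 := d15_0 (iv0 D70461) (iv7 F85899) D118120
theorem F185577 : act 1 n118119 = n70463 := d15_1 D118119 (iv7 F185575) (iv2 D118120)
theorem F185578 : act 1 n70462 = n118120 := d15_1 D70462 F185575 (iv2 D70463)
def n118121 : Q := act 4 n54413
theorem D118121 : act 4 n54413 = n118121 := rfl
theorem F185579 : act 7 n118121 = n70464 := d11_2 (iv7 F85899) D118121 (iv4 D70464)
def n118122 : Q := act 6 n54413
theorem D118122 : act 6 n54413 = n118122 := rfl
theorem F185580 : act 3 n118122 = n54414 := d7_1 D118122 (iv6 D54414) D54413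
theorem F185581 : act 5 n118122 = n70969 := d12_1 D118122 F107516 (iv5 F122606) F122607 F107272
def n118123 : Q := act 1 n54414
theorem D118123 : act 1 n54414 = n118123 := rfl
theorem F185582 : act 1 n118123 = n70460 := d15_1 D118123 (iv7 D70460) (iv2 F85900)
def n118124 : Q := act 7 n54414
theorem D118124 : act 7 n54414 = n118124 := rfl
theorem F185584 : act 2 n118124 = n70460 := d4_1 D118124 (iv7 D70460) (iv2 F85900)
theorem F185585 : act 5 n118124 = n55258 := d13_1 D118124 F87459 (iv5 F85901)
theorem F185586 : act 6 n118124 = n60384 := d14_1 D118124 F110508 (iv6 D32700) (iv7 F41966) D54414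
theorem F185587 : act 1 n70459 = n118124 := d15_1 D70459 (iv7 D118124) F85900
theorem F185588 : act 1 n118124 = n70425 := d15_0 F114111 D70460 (iv2 F185584)
def n118125 : Q := act 2 n54415
theorem D118125 : act 2 n54415 = n118125 := rfl
theorem F185589 : act 3 n118125 = n70463 := d0_2 D54415 D118125 (iv2 D70463) (iv3 D32698) (iv2 F41934)
theorem F185590 : act 5 n118125 = n81019 := d2_2 (iv5 F85902) D118125 F124774
theorem F185591 : act 7 n118125 = n70451 := d4_2 (iv7 F85903) D118125 (iv2 D70451)
theorem F185592 : act 1 n118125 = n70449 := d15_0 (iv0 D70449) (iv7 F85903) D118125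
theorem F185594 : act 5 n79754 = n70449 := d21_6 (iv5 F112445) (iv1 D61817) F57050 (iv6 D36324) D36320 D79754 (iv1 F185592) F185590 (iv6 D81019) (iv1 F57928)
theorem F185595 : act 1 n70450 = n118125 := d15_1 D70450 F185591 (iv2 D70451)
def n118126 : Q := act 6 n54415
theorem D118126 : act 6 n54415 = n118126 := rfl
theorem F185596 : act 3 n118126 = n54416 := d7_1 D118126 (iv6 D54416) D54415
theorem F185597 : act 5 n118126 = n81023 := d12_1 D118126 (iv6 D81023) (iv5 D37011) D37012 (iv5 F85902)
def n118127 : Q := act 7 n54416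
theorem D118127 : act 7 n54416 = n118127 := rfl
theorem F185599 : act 5 n118127 = n81030 := d13_1 D118127 (iv7 D81030) (iv5 F85905)
theorem F185600 : act 6 n118127 = n70460 := d14_1 D118127 (iv7 D70460) (iv6 D32697) F41968 D54416
theorem F185601 : act 1 n60374 = n118127 := d15_1 (iv0 F109834) (iv7 D118127) F85904
theorem F185602 : act 1 n118127 = n60385 := d15_1 F185601 (iv7 D60385) (iv2 F94890)
def n118128 : Q := act 3 n54417
theorem D118128 : act 3 n54417 = n118128 := rfl
theorem F185603 : act 4 n118128 = n73641 := d5_2 (iv4 F85906) D118128 (iv3 D73641) (iv4 D33841) (iv3 F85911)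
theorem F185604 : act 7 n118128 = n70444 := d8_2 F85908 D118128 (iv3 D70444)
def n118129 : Q := act 5 n54417
theorem D118129 : act 5 n54417 = n118129 := rfl
theorem F185606 : act 7 n118129 = n70445 := d13_2 F85908 D118129 (iv5 D70445)
theorem F185607 : act 4 n118129 = n55872 := d16_2 (iv4 F85906) D118129 (iv5 D55872) F43472 (iv5 F22016) (iv4 F42178) F42702 (iv7 F42712) (iv2 F42711)
def n118130 : Q := act 6 n54417
theorem D118130 : act 6 n54417 = n118130 := rfl
theorem F185608 : act 2 n118130 = n70443 := d3_1 D118130 (iv6 D70443) F85907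
theorem F185609 : act 4 n118130 = n55138 := d10_1 D118130 (iv6 D55138) (iv4 F85906)
theorem F185610 : act 5 n118130 = n70921 := d21_6 (iv5 F26748) (iv1 F41726) F41723 (iv6 F41936) D54417 D118130 (iv1 D70921) (iv5 D32856) (iv6 D15815) D15812
def n118131 : Q := act 3 n54418
theorem D118131 : act 3 n54418 = n118131 := rfl
def n118132 : Q := act 5 n54418
theorem D118132 : act 5 n54418 = n118132 := rfl
theorem F185612 : act 2 n118132 = n70445 := d2_1 D118132 (iv5 D70445) F85924
theorem F185613 : act 4 n118132 = n55870 := d9_1 D118132 (iv5 D55870) F43476 (iv5 F27592) (iv4 F52377) F52378 (iv4 F85906) D118129 F185607 (iv5 D55872) F43472 (iv5 F22016) (iv4 F42178) F42702 (iv4 F85923)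
theorem F185614 : act 7 n118132 = n70442 := d13_2 (iv7 F85922) D118132 (iv5 D70442)
def n118133 : Q := act 6 n54418
theorem D118133 : act 6 n54418 = n118133 := rfl
theorem F185615 : act 2 n118133 = n70446 := d3_1 D118133 (iv6 D70446) F85924
theorem F185616 : act 4 n118133 = n55140 := d10_1 D118133 (iv6 D55140) (iv4 F85923)
def n118134 : Q := act 0 n54419
theorem D118134 : act 0 n54419 = n118134 := rfl
def n118135 : Q := act 1 n54419
theorem D118135 : act 1 n54419 = n118135 := rfl
theorem F185617 : act 1 n118135 = n84347 := d15_1 D118135 (iv7 D84347) (iv2 F85925)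
def n118136 : Q := act 5 n54419
theorem D118136 : act 5 n54419 = n118136 := rfl
theorem F185618 : act 2 n118136 = n84346 := d2_1 D118136 (iv5 D84346) (iv2 F85925)
theorem F185619 : act 3 n118136 = n54420 := d6_1 D118136 (iv5 D54420) D54419
theorem F185620 : act 7 n84617 = n118136 := d8_0 F185619 (iv7 F85929) D84617
def n118137 : Q := act 7 n54419
theorem D118137 : act 7 n54419 = n118137 := rfl
theorem F185621 : act 2 n118137 = n84347 := d4_1 D118137 (iv7 D84347) (iv2 F85925)
theorem F185622 : act 3 n118137 = n54421 := d8_1 D118137 (iv7 D54421) D54419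
theorem F185623 : act 5 n118137 = n84617 := d13_1 D118137 F185620 (iv5 D118136)
theorem F185624 : act 1 n84347 = n118134 := d15_0 (iv0 D118134) D118137 F185621
theorem F185625 : act 1 n84345 = n118137 := d15_1 D84345 (iv7 D118137) F85925
theorem F185626 : act 1 n118137 = n84344 := d15_0 (iv0 D84344) D84347 (iv2 F185621)
def n118138 : Q := act 0 n54420
theorem D118138 : act 0 n54420 = n118138 := rfl
theorem F185627 : act 5 n118138 = n55128 := d17_3 (iv1 D54418) D54420 D118138 (iv4 D55128) (iv5 D26640) (iv0 D12730) D12732 D26645 (iv4 F85923)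
theorem F185628 : act 4 n118138 = n55880 := d18_1 D118138 (iv1 D55880) D55881 F88393 F53229 F42708 (iv4 F85906) (iv0 D54417) D54420
def n118139 : Q := act 1 n54420
theorem D118139 : act 1 n54420 = n118139 := rfl
theorem F185632 : act 1 n118139 = n58103 := d15_1 D118139 (iv7 F91897) (iv2 F85927)
theorem F185634 : act 5 n118139 = n55135 := d17_7 (iv1 F56333) (iv5 D17303) F41760 D12515 D26318 D54420 D118139 (iv0 F119438) (iv4 D78251)
theorem F185635 : act 4 n118139 = n55879 := d17_9 (iv1 F88387) F56422 (iv1 F43471) D55872 (iv4 F185607) (iv5 D118129) (iv0 D54417) D54420 D118139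
def n118140 : Q := act 2 n54422
theorem D118140 : act 2 n54422 = n118140 := rfl
theorem F185637 : act 7 n54423 = n118140 := d15_2 (iv0 D54422) D54423 (iv2 D118140)
def n118141 : Q := act 5 n54422
theorem D118141 : act 5 n54422 = n118141 := rfl
theorem F185638 : act 0 n118141 = n54609 := d21_1 D118141 (iv5 F87226) (iv6 D55140) (iv1 D26645) F21139 (iv5 D6134) (iv1 F10675) D12522 D26321 D54422
theorem F185639 : act 1 n118141 = n71706 := d15_1 (iv0 F185638) (iv7 D71706) (iv2 F86302)
def n118142 : Q := act 7 n54422
theorem D118142 : act 7 n54422 = n118142 := rfl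
def n118143 : Q := act 3 n54423
theorem D118143 : act 3 n54423 = n118143 := rfl
def n118144 : Q := act 6 n54423
theorem D118144 : act 6 n54423 = n118144 := rfl
def n118145 : Q := act 6 n54425
theorem D118145 : act 6 n54425 = n118145 := rfl
theorem F185642 : act 2 n118145 = n70579 := d3_1 D118145 (iv6 D70579) (iv2 F85950)
theorem F185643 : act 5 n118145 = n75933 := d12_1 D118145 F113830 (iv5 F104962) F85695 F85949
theorem F185644 : act 7 n118145 = n73687 := d14_2 (iv7 F85948) D118145 (iv6 D73687) (iv7 F87195) (iv6 F87198)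
def n118146 : Q := act 4 n54427
theorem D118146 : act 4 n54427 = n118146 := rfl
theorem F185645 : act 2 n118146 = n54433 := d1_1 D118146 (iv4 D54433) F85960
theorem F185646 : act 7 n118146 = n54430 := d11_2 (iv7 F85959) D118146 (iv4 D54430)
theorem F185647 : act 0 n118146 = n70543 := d18_2 (iv1 F85958) D118146 F107006 F51807 (iv4 F48975) D65071 F130295 F53909 F47810
def n118147 : Q := act 1 n54429
theorem D118147 : act 1 n54429 = n118147 := rfl
def n118148 : Q := act 5 n54429
theorem D118148 : act 5 n54429 = n118148 := rfl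
theorem F185649 : act 6 n118148 = n78345 := d12_2 (iv6 F85967) D118148 (iv5 D78345) (iv6 D35707) D35706
def n118149 : Q := act 0 n54430
theorem D118149 : act 0 n54430 = n118149 := rfl
theorem F185650 : act 4 n118149 = n70545 := d18_3 D26324 D54430 D118149 F107012 (iv4 F100863) (iv0 F131125) (iv4 D62836) (iv0 D29735) F23611
theorem F185651 : act 1 n54433 = n118149 := d15_0 (iv0 D118149) (iv7 F185646) F185645
theorem F185652 : act 7 n118149 = n70543 := d15_2 F110446 F185651 F107005
theorem F185653 : act 6 n70937 = n118149 := d14_5 F185652 (iv6 D70543) F51803 D54849 (iv7 F110802)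
def n118150 : Q := act 3 n54430
theorem D118150 : act 3 n54430 = n118150 := rfl
theorem F185654 : act 6 n118150 = n78347 := d7_2 (iv6 F85968) D118150 (iv3 D78347)
def n118151 : Q := act 5 n54430
theorem D118151 : act 5 n54430 = n118151 := rfl
def n118152 : Q := act 0 n54431
theorem D118152 : act 0 n54431 = n118152 := rfl
theorem F185655 : act 5 n118152 = n106089 := d21_2 D54431 D118152 (iv6 D106089) (iv1 F110502) (iv6 D26261) F26445 (iv1 D5961) D5963 D12543 D26324
theorem F185656 : act 6 n118152 = n67326 := d21_5 (iv5 F38104) (iv1 F46232) D35710 (iv6 F85969) D118152 F104783 (iv1 F104738) F104510 (iv6 D50054) (iv1 F38272)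
theorem F185657 : act 2 n70807 = n118152 := d15_3 (iv0 D118152) (iv0 F124783) F124782
theorem F185658 : act 1 n54434 = n118152 := d15_0 (iv0 D118152) (iv7 F112280) F112279
theorem F185659 : act 3 n118152 = n70700 := d0_2 D70807 F185657 F184643 F94926 F51960
theorem F185660 : act 4 n118152 = n67327 := d1_2 F182299 F185657 (iv2 F182298)
def n118154 : Q := act 0 n54432
theorem D118154 : act 0 n54432 = n118154 := rfl
def n118156 : Q := act 2 n54432
theorem D118156 : act 2 n54432 = n118156 := rfl
def n118157 : Q := act 4 n54432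
theorem D118157 : act 4 n54432 = n118157 := rfl
def n118158 : Q := act 5 n54432
theorem D118158 : act 5 n54432 = n118158 := rfl
theorem F185662 : act 3 n118158 = n54434 := d6_1 D118158 (iv5 D54434) D54432
theorem F185663 : act 6 n68108 = n118158 := d7_0 F185662 F85970 D68108
def n118159 : Q := act 6 n54432
theorem D118159 : act 6 n54432 = n118159 := rfl
theorem F185664 : act 3 n118159 = n54435 := d7_1 D118159 (iv6 D54435) D54432
theorem F185665 : act 7 n118159 = n78247 := d14_2 (iv7 F106972) D118159 (iv6 D78247) F56329 D70524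
def n118162 : Q := act 6 n54433
theorem D118162 : act 6 n54433 = n118162 := rfl
theorem F185666 : act 4 n118162 = n54435 := d10_1 D118162 (iv6 D54435) D54433
theorem F185667 : act 7 n118162 = n78255 := d14_2 (iv7 F106979) D118162 (iv6 D78255) F56342 D70530
def n118163 : Q := act 4 n54434
theorem D118163 : act 4 n54434 = n118163 := rfl
theorem F185668 : act 6 n118163 = n68109 := d10_2 (iv6 F85970) D118163 (iv4 D68109)
def n118164 : Q := act 1 n54436
theorem D118164 : act 1 n54436 = n118164 := rfl
theorem F185669 : act 7 n118164 = n60353 := d15_2 F166766 D118164 (iv2 F166763)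
theorem F185670 : act 5 n118164 = n67927 := d17_7 (iv1 F108452) D113613 F176790 (iv5 D54784) F42409 D54436 D118164 F166759 F166756
theorem F185671 : act 2 n71088 = n118164 := d2_3 F185670 (iv2 F115159) F115160
theorem F185672 : act 3 n59949 = n118164 := d6_3 F185670 F104005 (iv5 F94428)
theorem F185673 : act 4 n55043 = n118164 := d18_3 (iv1 F42602) D33286 (iv1 F87040) F185670 F114652 (iv0 F162381) (iv4 D105744) F77002 F46705
def n118165 : Q := act 4 n54436
theorem D118165 : act 4 n54436 = n118165 := rfl
theorem F185674 : act 0 n118165 = n74861 := d18_2 (iv1 D118164) D118165 (iv4 D74861) (iv5 D34303) (iv4 F54429) (iv0 F104115) (iv4 D68011) (iv0 F104006) (iv5 F185670)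
theorem F185675 : act 1 n118165 = n117681 := d18_6 F27014 (iv4 F25513) F42410 F42409 D54436 D118165 (iv4 D117681) (iv0 D54208) (iv5 D26218)
def n118166 : Q := act 0 n54437
theorem D118166 : act 0 n54437 = n118166 := rfl
theorem F185676 : act 4 n118166 = n70589 := d18_3 (iv1 F50493) D54437 D118166 F107052 (iv4 F95989) (iv0 F95990) (iv4 D31649) (iv0 D14885) D14887
theorem F185677 : act 2 n70591 = n118166 := d15_3 (iv0 D118166) (iv0 F110080) F110079
theorem F185678 : act 1 n54465 = n118166 := d15_0 (iv0 D118166) (iv7 F183333) F183332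
theorem F185679 : act 7 n118166 = n70592 := d15_2 F110081 F185678 (iv2 F110078)
def n118167 : Q := act 3 n54437
theorem D118167 : act 3 n54437 = n118167 := rfl
def n118168 : Q := act 5 n54437
theorem D118168 : act 5 n54437 = n118168 := rfl
theorem F185680 : act 2 n118168 = n70594 := d2_1 D118168 (iv5 D70594) (iv2 F85973)
def n118169 : Q := act 6 n54438
theorem D118169 : act 6 n54438 = n118169 := rfl
theorem F185681 : act 2 n118169 = n56667 := d3_1 D118169 (iv6 D56667) (iv2 F85974)
theorem F185682 : act 3 n118169 = n54439 := d7_1 D118169 (iv6 D54439) D54438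
theorem F185683 : act 4 n118169 = n70844 := d10_1 D118169 (iv6 D70844) (iv4 F85975)
def n118170 : Q := act 0 n54439
theorem D118170 : act 0 n54439 = n118170 := rfl
theorem F185684 : act 4 n118170 = n54693 := d20_2 (iv4 F85981) D118170 (iv3 D54693) (iv1 F86452) F86448 (iv4 F108316) (iv1 F108317) D72023 F108500 (iv1 D54441)
theorem F185685 : act 0 n118170 = n54449 := d20_7 F41740 (iv1 D6178) (iv4 F9319) (iv3 F21024) D26453 D54693 (iv4 F185684) F85998 F42002 (iv1 F20932)
def n118171 : Q := act 1 n54439
theorem D118171 : act 1 n54439 = n118171 := rfl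
theorem F185686 : act 1 n118171 = n54449 := d15_1 D118171 (iv7 D54449) (iv2 F85980)
def n118172 : Q := act 5 n54439
theorem D118172 : act 5 n54439 = n118172 := rfl
theorem F185687 : act 2 n118172 = n54448 := d2_1 D118172 (iv5 D54448) (iv2 F85980)
def n118173 : Q := act 7 n54439
theorem D118173 : act 7 n54439 = n118173 := rfl
theorem F185688 : act 2 n118173 = n54449 := d4_1 D118173 (iv7 D54449) (iv2 F85980)
theorem F185689 : act 4 n118173 = n54443 := d11_1 D118173 (iv7 D54443) (iv4 F85981)
theorem F185690 : act 6 n118173 = n70603 := d14_1 D118173 (iv7 D70603) (iv6 D32750) (iv7 F41985) D54439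
theorem F185691 : act 1 n54447 = n118173 := d15_1 D54447 (iv7 D118173) F85980
theorem F185692 : act 1 n118173 = n54446 := d15_0 (iv0 D54446) D54449 (iv2 F185688)
def n118174 : Q := act 2 n54440
theorem D118174 : act 2 n54440 = n118174 := rfl
theorem F185693 : act 7 n54441 = n118174 := d15_2 (iv0 D54440) D54441 (iv2 D118174)
def n118175 : Q := act 3 n54440
theorem D118175 : act 3 n54440 = n118175 := rfl
def n118176 : Q := act 4 n54440
theorem D118176 : act 4 n54440 = n118176 := rfl
theorem F185694 : act 3 n98159 = n118176 := d20_5 (iv4 D45867) (iv1 D21936) (iv4 F34437) (iv3 F72419) D98159 (iv4 D118176) (iv1 F85989) (iv4 F85998) F85997 (iv1 F118997)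
def n118177 : Q := act 7 n54440
theorem D118177 : act 7 n54440 = n118177 := rfl
theorem F185695 : act 2 n118177 = n54441 := d4_1 D118177 F185693 (iv2 D118174)
def n118178 : Q := act 4 n54441
theorem D118178 : act 4 n54441 = n118178 := rfl
def n118179 : Q := act 6 n54441
theorem D118179 : act 6 n54441 = n118179 := rfl
theorem F185696 : act 5 n118179 = n106078 := d21_6 F155278 (iv1 F96287) F46924 (iv6 F42003) (iv1 F85982) D118179 (iv1 F163051) (iv5 D60406) D60407 F184619
theorem F185697 : act 0 n55582 = n118179 := d21_10 F185696 (iv1 F163051) (iv5 D60406) D60407 F184619 (iv6 D86011) D86010 (iv1 F155298) (iv5 D55581) D55582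
def n118180 : Q := act 0 n54442
theorem D118180 : act 0 n54442 = n118180 := rfl
theorem F185698 : act 2 n54460 = n118180 := d15_3 (iv0 D118180) (iv0 F185561) (iv7 F185572)
theorem F185699 : act 5 n118180 = n85952 := d2_2 (iv5 F185571) F185698 F155337
theorem F185700 : act 7 n118180 = n54461 := d4_2 (iv7 F185572) F185698 (iv2 F185558)
theorem F185701 : act 1 n54463 = n118180 := d15_1 (iv0 F185562) F185700 (iv2 F185558)
theorem F185702 : act 0 n71135 = n117115 := d21_4 F185699 (iv1 F131907) (iv5 F123814) F123815 F183175 (iv5 D54008) (iv1 F41381) D26331 (iv6 F85985) D118180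
theorem E18442 : n118117 = n106083 := (c21_4 D54442 D118180 F185699 (iv6 F185567) (iv1 D106083) (iv6 D49026) D49025 D106078 (iv5 F185696) (iv6 D118179) (iv1 D54441))
theorem F185703 : act 2 n106083 = n85979 := (sb E18442 F185566)
theorem F185704 : act 6 n106083 = n85952 := (sb E18442 F185567)
theorem F185705 : act 7 n106083 = n54412 := (sb E18442 (iv7 D118117))
theorem E18443 : n118078 = n106082 := (c15_4 (iv0 D106082) D106083 F185705 (iv2 F185522))
theorem F185706 : act 2 n106082 = n54412 := (sb E18443 F185522)
theorem F185707 : act 6 n106082 = n54388 := (sb E18443 (iv6 D118078))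
theorem F185708 : act 7 n106082 = n85979 := (sb E18443 F185523)
def n118181 : Q := act 4 n54442
theorem D118181 : act 4 n54442 = n118181 := rfl
theorem F185709 : act 2 n118181 = n54462 := d1_1 D118181 (iv4 D54462) (iv2 F85983)
theorem F185710 : act 6 n118181 = n54444 := d10_2 (iv6 F85985) D118181 (iv4 D54444)
def n118182 : Q := act 7 n54442
theorem D118182 : act 7 n54442 = n118182 := rfl
theorem F185711 : act 2 n118182 = n54463 := d4_1 D118182 (iv7 D54463) (iv2 F85983)
theorem F185712 : act 3 n118182 = n55260 := d8_1 D118182 (iv7 D55260) (iv3 F85984)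
theorem F185713 : act 5 n118182 = n54443 := d13_1 D118182 (iv7 D54443) D54442
theorem F185714 : act 6 n118182 = n74146 := d14_1 D118182 (iv7 D74146) (iv6 D34012) (iv7 F41992) (iv6 F85985)
theorem F185715 : act 1 n54461 = n118182 := d15_1 D54461 (iv7 D118182) F85983
theorem F185716 : act 1 n118182 = n54460 := d15_1 F185715 F185572 F185558
def n118183 : Q := act 0 n54444
theorem D118183 : act 0 n54444 = n118183 := rfl
theorem F185717 : act 4 n118183 = n54713 := d18_3 F50632 D54444 D118183 F86522 (iv4 D31654) F26690 F25949 F26693 D31650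
theorem F185718 : act 1 n54477 = n118183 := d15_0 (iv0 D118183) F85993 (iv2 F86012)
theorem F185719 : act 2 n54473 = n118183 := d1_3 F185717 F86524 (iv4 F86015)
theorem F185720 : act 7 n54474 = n118183 := d11_0 F185717 F86523 F86010
def n118184 : Q := act 1 n54444
theorem D118184 : act 1 n54444 = n118184 := rfl
theorem F185721 : act 1 n118184 = n54477 := d15_1 D118184 (iv7 D54477) (iv2 F85992)
theorem F185722 : act 7 n118184 = n54473 := d15_2 (iv0 D118183) D118184 F185719
theorem F185723 : act 4 n118184 = n68013 := d18_7 F51003 F50244 (iv1 F41381) F20913 D26331 D54444 D118184 F104126 F52837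
theorem F185724 : act 2 n54474 = n118184 := d1_3 F185723 F104123 F86010
def n118185 : Q := act 3 n54444
theorem D118185 : act 3 n54444 = n118185 := rfl
theorem F185725 : act 4 n118185 = n55256 := d5_2 D54444 D118185 (iv3 D55256) (iv4 D26699) (iv3 F41991)
theorem F185726 : act 7 n118185 = n74141 := d8_2 (iv7 F85993) D118185 (iv3 D74141)
def n118186 : Q := act 5 n54444
theorem D118186 : act 5 n54444 = n118186 := rfl
theorem F185727 : act 2 n118186 = n54476 := d2_1 D118186 (iv5 D54476) (iv2 F85992)
theorem F185728 : act 7 n118186 = n74142 := d13_2 (iv7 F85993) D118186 (iv5 D74142)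
def n118187 : Q := act 0 n54445
theorem D118187 : act 0 n54445 = n118187 := rfl
def n118188 : Q := act 1 n54445
theorem D118188 : act 1 n54445 = n118188 := rfl
def n118189 : Q := act 5 n54445
theorem D118189 : act 5 n54445 = n118189 := rfl
theorem F185730 : act 2 n118189 = n70660 := d2_1 D118189 (iv5 D70660) (iv2 F85994)
theorem F185731 : act 6 n118189 = n87759 := d12_2 D54445 D118189 (iv5 D87759) (iv6 D40894) (iv5 F41993)
def n118190 : Q := act 7 n54445
theorem D118190 : act 7 n54445 = n118190 := rfl
theorem F185732 : act 2 n118190 = n70661 := d4_1 D118190 (iv7 D70661) (iv2 F85994)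
theorem F185733 : act 4 n118190 = n69860 := d11_1 D118190 (iv7 D69860) (iv4 F85995)
theorem F185734 : act 6 n118190 = n70657 := d14_1 D118190 (iv7 D70657) (iv6 D32769) (iv7 F41997) D54445
theorem F185735 : act 1 n70661 = n118187 := d15_0 (iv0 D118187) D118190 F185732
theorem F185737 : act 1 n118190 = n70658 := d15_0 (iv0 D70658) D70661 (iv2 F185732)
def n118191 : Q := act 2 n54446
theorem D118191 : act 2 n54446 = n118191 := rfl
theorem F185738 : act 7 n54447 = n118191 := d15_2 (iv0 D54446) D54447 (iv2 D118191)
def n118192 : Q := act 3 n54446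
theorem D118192 : act 3 n54446 = n118192 := rfl
def n118193 : Q := act 4 n54446
theorem D118193 : act 4 n54446 = n118193 := rfl
def n118194 : Q := act 5 n54446
theorem D118194 : act 5 n54446 = n118194 := rfl
def n118195 : Q := act 6 n54446
theorem D118195 : act 6 n54446 = n118195 := rfl
def n118196 : Q := act 7 n54446
theorem D118196 : act 7 n54446 = n118196 := rfl
theorem F185739 : act 2 n118196 = n54447 := d4_1 D118196 F185738 (iv2 D118191)
def n118197 : Q := act 3 n54447
theorem D118197 : act 3 n54447 = n118197 := rfl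
def n118198 : Q := act 4 n54447
theorem D118198 : act 4 n54447 = n118198 := rfl
theorem F185740 : act 3 n118198 = n54660 := d20_3 (iv4 F185689) (iv1 F185691) D118198 (iv1 D54660) F42256 (iv4 F52433) D71851 F108311 (iv3 D54451) (iv1 F85991)
def n118199 : Q := act 5 n54447
theorem D118199 : act 5 n54447 = n118199 := rfl
def n118200 : Q := act 6 n54447
theorem D118200 : act 6 n54447 = n118200 := rfl
def n118201 : Q := act 0 n54448
theorem D118201 : act 0 n54448 = n118201 := rfl
def n118202 : Q := act 1 n54448
theorem D118202 : act 1 n54448 = n118202 := rfl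
def n118203 : Q := act 4 n54448
theorem D118203 : act 4 n54448 = n118203 := rfl
def n118204 : Q := act 7 n54448
theorem D118204 : act 7 n54448 = n118204 := rfl
theorem F185742 : act 5 n118204 = n54449 := d13_1 D118204 (iv7 D54449) D54448
def n118206 : Q := act 1 n54450
theorem D118206 : act 1 n54450 = n118206 := rfl
theorem F185744 : act 1 n118206 = n54455 := d15_1 D118206 (iv7 D54455) D54450
def n118207 : Q := act 3 n54450
theorem D118207 : act 3 n54450 = n118207 := rfl
theorem F185745 : act 7 n118207 = n54456 := d8_2 F86000 D118207 (iv3 D54456)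
def n118208 : Q := act 4 n54450
theorem D118208 : act 4 n54450 = n118208 := rfl
theorem F185746 : act 2 n118208 = n54452 := d1_1 D118208 (iv4 D54452) D54450
theorem F185747 : act 7 n118208 = n54457 := d11_2 F86000 D118208 (iv4 D54457)
def n118209 : Q := act 5 n54450
theorem D118209 : act 5 n54450 = n118209 := rfl
theorem F185748 : act 2 n118209 = n54453 := d2_1 D118209 (iv5 D54453) D54450
theorem F185749 : act 7 n118209 = n54458 := d13_2 F86000 D118209 (iv5 D54458)
def n118210 : Q := act 6 n54450
theorem D118210 : act 6 n54450 = n118210 := rfl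
theorem F185750 : act 2 n118210 = n54454 := d3_1 D118210 (iv6 D54454) D54450
def n118211 : Q := act 0 n54451
theorem D118211 : act 0 n54451 = n118211 := rfl
def n118212 : Q := act 1 n54451
theorem D118212 : act 1 n54451 = n118212 := rfl
def n118213 : Q := act 2 n54451
theorem D118213 : act 2 n54451 = n118213 := rfl
def n118214 : Q := act 5 n54451
theorem D118214 : act 5 n54451 = n118214 := rfl
theorem F185751 : act 3 n118214 = n54453 := d6_1 D118214 (iv5 D54453) D54451
def n118215 : Q := act 6 n54451
theorem D118215 : act 6 n54451 = n118215 := rfl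
theorem F185752 : act 3 n118215 = n54454 := d7_1 D118215 (iv6 D54454) D54451
def n118216 : Q := act 7 n54451
theorem D118216 : act 7 n54451 = n118216 := rfl
theorem F185753 : act 3 n118216 = n54455 := d8_1 D118216 (iv7 D54455) D54451
def n118217 : Q := act 0 n54452
theorem D118217 : act 0 n54452 = n118217 := rfl
def n118218 : Q := act 1 n54452
theorem D118218 : act 1 n54452 = n118218 := rfl
theorem F185754 : act 1 n118218 = n54457 := d15_1 D118218 (iv7 F185747) F185746
def n118219 : Q := act 3 n54452
theorem D118219 : act 3 n54452 = n118219 := rfl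
def n118220 : Q := act 5 n54452
theorem D118220 : act 5 n54452 = n118220 := rfl
def n118221 : Q := act 6 n54452
theorem D118221 : act 6 n54452 = n118221 := rfl
theorem F185755 : act 4 n118221 = n54454 := d10_1 D118221 (iv6 D54454) D54452
def n118222 : Q := act 7 n54452
theorem D118222 : act 7 n54452 = n118222 := rfl
theorem F185756 : act 2 n118222 = n54457 := d4_1 D118222 (iv7 F185747) F185746
theorem F185757 : act 4 n118222 = n54455 := d11_1 D118222 (iv7 D54455) D54452
theorem F185758 : act 1 n54457 = n118217 := d15_0 (iv0 D118217) D118222 F185756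
def n118223 : Q := act 4 n54453
theorem D118223 : act 4 n54453 = n118223 := rfl
def n118224 : Q := act 6 n54453
theorem D118224 : act 6 n54453 = n118224 := rfl
theorem F185759 : act 0 n118224 = n86820 := d21_4 (iv5 D26336) D26334 D54453 D118224 (iv6 D86820) (iv5 F87908) F155464 (iv5 D85959) (iv6 F155332) (iv1 D54461)
def n118225 : Q := act 7 n54453
theorem D118225 : act 7 n54453 = n118225 := rfl
theorem F185760 : act 2 n118225 = n54458 := d4_1 D118225 (iv7 F185749) F185748
theorem F185761 : act 5 n118225 = n54455 := d13_1 D118225 (iv7 D54455) D54453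
theorem F185762 : act 1 n54458 = n85954 := d15_0 (iv0 F155425) D118225 F185760
theorem F185763 : act 0 n54459 = n80610 := d21_4 D85954 (iv1 F185762) (iv5 D54458) D54459 (iv6 F155260) F107170 F155262 (iv5 D54407) D54408 F155241
def n118226 : Q := act 7 n54454
theorem D118226 : act 7 n54454 = n118226 := rfl
def n118227 : Q := act 6 n54455
theorem D118227 : act 6 n54455 = n118227 := rfl
theorem F185764 : act 2 n118227 = n54459 := d3_1 D118227 (iv6 D54459) (iv2 F86001)
def n118228 : Q := act 0 n54456
theorem D118228 : act 0 n54456 = n118228 := rfl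
def n118229 : Q := act 1 n54456
theorem D118229 : act 1 n54456 = n118229 := rfl
def n118230 : Q := act 2 n54456
theorem D118230 : act 2 n54456 = n118230 := rfl
def n118231 : Q := act 5 n54456
theorem D118231 : act 5 n54456 = n118231 := rfl
theorem F185765 : act 3 n118231 = n54458 := d6_1 D118231 (iv5 D54458) D54456
def n118232 : Q := act 6 n54456
theorem D118232 : act 6 n54456 = n118232 := rfl
theorem F185766 : act 3 n118232 = n54459 := d7_1 D118232 (iv6 D54459) D54456
def n118233 : Q := act 3 n54457
theorem D118233 : act 3 n54457 = n118233 := rfl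
theorem F185767 : act 0 n98162 = n118233 := d20_4 (iv4 F91369) F119024 (iv4 F72424) (iv3 F151419) (iv3 D118233) (iv4 D54457) (iv1 D26335) (iv4 F41999) F41998 D27259
theorem F185768 : act 1 n98158 = n118233 := d15_0 (iv0 F185767) (iv7 D98162) (iv2 F151415)
def n118234 : Q := act 5 n54457
theorem D118234 : act 5 n54457 = n118234 := rfl
def n118235 : Q := act 6 n54457
theorem D118235 : act 6 n54457 = n118235 := rfl
theorem F185769 : act 4 n118235 = n54459 := d10_1 D118235 (iv6 D54459) D54457
def n118236 : Q := act 4 n54458
theorem D118236 : act 4 n54458 = n118236 := rfl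
def n118237 : Q := act 6 n54458
theorem D118237 : act 6 n54458 = n118237 := rfl
theorem F185770 : act 0 n60435 = n118237 := d21_4 (iv5 F50602) (iv1 D31628) (iv5 F46269) D60435 (iv6 D118237) (iv5 D54458) (iv1 D26335) D26336 F42001 D26341
def n118238 : Q := act 7 n54459
theorem D118238 : act 7 n54459 = n118238 := rfl
def n118239 : Q := act 3 n54460
theorem D118239 : act 3 n54460 = n118239 := rfl
theorem F185771 : act 5 n118239 = n85976 := d6_2 (iv5 F185571) D118239 (iv3 D85976)
def n118240 : Q := act 4 n54460
theorem D118240 : act 4 n54460 = n118240 := rfl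
def n118241 : Q := act 6 n54460
theorem D118241 : act 6 n54460 = n118241 := rfl
theorem F185772 : act 7 n118241 = n85965 := d14_2 (iv7 F185572) D118241 (iv6 D85965) (iv7 F155266) (iv6 F185559)
def n118242 : Q := act 3 n54461
theorem D118242 : act 3 n54461 = n118242 := rfl
theorem F185773 : act 5 n118242 = n85981 := d6_2 (iv5 F155287) D118242 (iv3 D85981)
theorem F185774 : act 6 n118242 = n85957 := d7_2 (iv6 F155332) D118242 (iv3 D85957)
def n118243 : Q := act 4 n54461
theorem D118243 : act 4 n54461 = n118243 := rfl
theorem F185775 : act 6 n118243 = n85958 := d10_2 (iv6 F155332) D118243 (iv4 D85958)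
def n118244 : Q := act 0 n54462
theorem D118244 : act 0 n54462 = n118244 := rfl
def n118245 : Q := act 1 n54462
theorem D118245 : act 1 n54462 = n118245 := rfl
def n118246 : Q := act 3 n54462
theorem D118246 : act 3 n54462 = n118246 := rfl
theorem F185776 : act 4 n118246 = n54485 := d5_2 D54462 D118246 (iv3 D54485) (iv4 D26347) (iv3 F42000)
theorem F185777 : act 6 n118246 = n54475 := d7_2 (iv6 F86002) D118246 (iv3 D54475)
def n118247 : Q := act 5 n54462
theorem D118247 : act 5 n54462 = n118247 := rfl
def n118248 : Q := act 7 n54462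
theorem D118248 : act 7 n54462 = n118248 := rfl
theorem F185778 : act 4 n118248 = n54463 := d11_1 D118248 (iv7 D54463) D54462
def n118249 : Q := act 6 n54463
theorem D118249 : act 6 n54463 = n118249 := rfl
theorem F185779 : act 2 n118249 = n74146 := d3_1 D118249 (iv6 F185714) F185711
theorem F185780 : act 3 n118249 = n54486 := d7_1 D118249 (iv6 D54486) (iv3 F86003)
theorem F185781 : act 5 n118249 = n61747 := d12_1 D118249 (iv6 D61747) F46924 (iv6 F42003) (iv5 F86004)
theorem F185782 : act 7 n118249 = n54478 := d14_2 D54463 D118249 (iv6 D54478) (iv7 D26344) (iv6 F42001)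
theorem F185783 : act 1 n74145 = n118249 := d15_1 D74145 F185782 F86017
theorem F185784 : act 1 n118249 = n74144 := d15_0 (iv0 D74144) D74146 (iv2 F185779)
def n118250 : Q := act 1 n54464
theorem D118250 : act 1 n54464 = n118250 := rfl
theorem F185785 : act 1 n118250 = n70580 := d15_1 D118250 (iv7 F178715) F178714
theorem F185786 : act 7 n118250 = n70583 := d15_2 F114298 D118250 (iv2 F114295)
theorem F185787 : act 5 n118250 = n68017 := d18_9 (iv1 D68017) D68019 F104135 F94989 F46293 D33995 D74084 (iv4 F110828) D118250
theorem F185788 : act 3 n54489 = n118250 := d20_3 D16308 D33756 F86059 (iv1 D118250) F86005 D54465 (iv1 F110081) (iv4 D73376) (iv3 D33752) (iv1 D16307)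
theorem F185789 : act 2 n118250 = n70582 := d0_1 F185788 (iv3 F178719) (iv2 F114258) (iv3 F56719) F86057
theorem F185790 : act 4 n118250 = n71289 := d20_6 D32979 F52159 (iv4 D26353) (iv3 F42036) D54489 F185788 (iv1 D71289) (iv4 D32990) F25356 (iv1 F25351)
def n118251 : Q := act 6 n54464
theorem D118251 : act 6 n54464 = n118251 := rfl
theorem F185791 : act 3 n118251 = n54466 := d7_1 D118251 (iv6 D54466) (iv3 F86005)
theorem F185792 : act 5 n118251 = n67965 := d12_1 D118251 (iv6 D67965) F50444 (iv6 F42004) D54464
def n118252 : Q := act 3 n54465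
theorem D118252 : act 3 n54465 = n118252 := rfl
theorem F185793 : act 7 n118252 = n70593 := d8_2 (iv7 F86007) D118252 (iv3 D70593)
def n118253 : Q := act 5 n54465
theorem D118253 : act 5 n54465 = n118253 := rfl
theorem F185794 : act 7 n118253 = n70594 := d13_2 (iv7 F86007) D118253 (iv5 D70594)
def n118254 : Q := act 6 n54465
theorem D118254 : act 6 n54465 = n118254 := rfl
theorem F185795 : act 4 n118254 = n54466 := d10_1 D118254 (iv6 D54466) D54465
def n118255 : Q := act 0 n54466
theorem D118255 : act 0 n54466 = n118255 := rfl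
def n118256 : Q := act 1 n54466
theorem D118256 : act 1 n54466 = n118256 := rfl
theorem F185796 : act 1 n118256 = n85945 := d15_1 D118256 F183176 F183174
def n118257 : Q := act 7 n54466
theorem D118257 : act 7 n54466 = n118257 := rfl
theorem F185797 : act 2 n118257 = n85945 := d4_1 D118257 F183176 F183174
theorem F185798 : act 5 n118257 = n67972 := d13_1 D118257 (iv7 D67972) (iv5 F86008)
theorem F185799 : act 6 n118257 = n58534 := d14_1 D118257 F155107 F51563 (iv7 F42008) D54466
theorem F185800 : act 1 n85945 = n118255 := d15_0 (iv0 D118255) D118257 F185797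
theorem F185801 : act 1 n71135 = n118257 := d15_1 (iv0 F185702) (iv7 D118257) (iv2 F183174)
def n118258 : Q := act 6 n54467
theorem D118258 : act 6 n54467 = n118258 := rfl
theorem F185802 : act 3 n118258 = n54469 := d7_1 D118258 (iv6 D54469) D54467
def n118259 : Q := act 3 n54468
theorem D118259 : act 3 n54468 = n118259 := rfl
def n118260 : Q := act 5 n54468
theorem D118260 : act 5 n54468 = n118260 := rfl
def n118261 : Q := act 6 n54468
theorem D118261 : act 6 n54468 = n118261 := rfl
theorem F185803 : act 4 n118261 = n54469 := d10_1 D118261 (iv6 D54469) D54468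
def n118262 : Q := act 1 n54469
theorem D118262 : act 1 n54469 = n118262 := rfl
theorem F185804 : act 7 n118262 = n85951 := d15_2 (iv0 F155443) D118262 F131901
theorem F185805 : act 2 n85974 = n118262 := d4_3 F185804 F131901 D85974
theorem F185806 : act 1 n118262 = n85971 := d15_0 (iv0 D85971) D85974 F185805
theorem F185807 : act 7 n85971 = n68022 := d15_2 D118262 F185806 F104146
def n118263 : Q := act 7 n54469
theorem D118263 : act 7 n54469 = n118263 := rfl
theorem F185809 : act 5 n118263 = n85971 := d13_1 D118263 F185807 F104147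
theorem F185810 : act 1 n85974 = n118263 := d15_1 F155427 (iv7 D118263) (iv2 F104146)
theorem F185811 : act 1 n118263 = n85951 := d15_1 F185810 (iv7 F185804) (iv2 F185805)
def n118264 : Q := act 6 n54470
theorem D118264 : act 6 n54470 = n118264 := rfl
def n118265 : Q := act 3 n54471
theorem D118265 : act 3 n54471 = n118265 := rfl
def n118266 : Q := act 5 n54471
theorem D118266 : act 5 n54471 = n118266 := rfl
def n118271 : Q := act 3 n54473
theorem D118271 : act 3 n54473 = n118271 := rfl
def n118272 : Q := act 5 n54473
theorem D118272 : act 5 n54473 = n118272 := rfl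
theorem F185815 : act 4 n118272 = n118266 := d16_2 (iv4 F86015) D118272 (iv5 D118266) (iv4 D54471) F50644 (iv4 F55627) F55629 (iv7 F86523) F86524
def n118273 : Q := act 6 n54473
theorem D118273 : act 6 n54473 = n118273 := rfl
theorem F185816 : act 4 n118273 = n72615 := d10_1 D118273 (iv6 D72615) (iv4 F86015)
def n118274 : Q := act 3 n54474
theorem D118274 : act 3 n54474 = n118274 := rfl
def n118275 : Q := act 5 n54474
theorem D118275 : act 5 n54474 = n118275 := rfl
theorem F185817 : act 4 n118275 = n118260 := d9_1 D118275 (iv5 D118260) (iv4 D54468) (iv5 F50602) D67962 F104074 (iv4 F86015) D118272 F185815 (iv5 D118266) (iv4 D54471) F50644 (iv4 F55627) F55629 F86010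
def n118276 : Q := act 6 n54474
theorem D118276 : act 6 n54474 = n118276 := rfl
def n118280 : Q := act 5 n54475
theorem D118280 : act 5 n54475 = n118280 := rfl
theorem F185820 : act 3 n118280 = n54476 := d6_1 D118280 (iv5 D54476) D54475
def n118281 : Q := act 0 n54476
theorem D118281 : act 0 n54476 = n118281 := rfl
theorem F185821 : act 5 n118281 = n68023 := d17_3 (iv1 D54474) D54476 D118281 F104148 (iv5 D32998) F50997 D16192 D33516 F86010
theorem F185822 : act 4 n118253 = n118281 := d16_2 D54465 D118253 F185821 F104148 (iv5 D32998) F25370 D26328 (iv7 F85192) F85191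
theorem F185823 : act 1 n74142 = n118281 := d17_6 (iv1 F50493) (iv5 D26328) F27200 D16452 D34011 D74142 F185821 (iv0 D68023) (iv4 D31659)
def n118282 : Q := act 1 n54476
theorem D118282 : act 1 n54476 = n118282 := rfl
theorem F185824 : act 1 n118282 = n74142 := d15_1 D118282 (iv7 F185728) F185727
theorem F185825 : act 5 n118282 = n68024 := d17_7 F53349 (iv5 D26340) (iv1 D12562) D12563 D26343 D54476 D118282 (iv0 F110886) (iv4 D74164)
theorem F185826 : act 4 n118168 = n118282 := d18_5 (iv1 D68024) (iv4 D31659) (iv1 F50493) D54437 D118168 F185824 F110863 D118282 F185825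
def n118283 : Q := act 6 n54476
theorem D118283 : act 6 n54476 = n118283 := rfl
def n118284 : Q := act 7 n54476
theorem D118284 : act 7 n54476 = n118284 := rfl
theorem F185827 : act 2 n118284 = n74142 := d4_1 D118284 (iv7 F185728) F185727
theorem F185828 : act 4 n118284 = n118186 := d11_1 D118284 F185728 F110863
theorem F185829 : act 5 n118284 = n54477 := d13_1 D118284 (iv7 D54477) D54476
def n118285 : Q := act 6 n54477
theorem D118285 : act 6 n54477 = n118285 := rfl
theorem F185830 : act 2 n118285 = n74143 := d3_1 D118285 (iv6 D74143) (iv2 F86012)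
theorem F185831 : act 4 n118285 = n54478 := d10_1 D118285 (iv6 D54478) (iv4 F86013)
def n118286 : Q := act 0 n54478
theorem D118286 : act 0 n54478 = n118286 := rfl
theorem F185832 : act 1 n74146 = n118286 := d15_0 (iv0 D118286) (iv7 F185782) F185779
def n118287 : Q := act 1 n54478
theorem D118287 : act 1 n54478 = n118287 := rfl
theorem F185833 : act 1 n118287 = n74146 := d15_1 D118287 (iv7 D74146) (iv2 F86017)
def n118288 : Q := act 0 n54479
theorem D118288 : act 0 n54479 = n118288 := rfl
theorem F185834 : act 1 n71060 = n118288 := d15_0 (iv0 D118288) F86021 D71060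
def n118289 : Q := act 1 n54479
theorem D118289 : act 1 n54479 = n118289 := rfl
def n118290 : Q := act 2 n54479
theorem D118290 : act 2 n54479 = n118290 := rfl
theorem F185835 : act 3 n118290 = n71050 := d0_2 D54479 D118290 (iv2 D71050) (iv3 D32902) (iv2 F42017)
theorem F185836 : act 5 n118290 = n80553 := d2_2 (iv5 F86020) D118290 (iv2 D80553)
theorem F185837 : act 7 n118290 = n71060 := d4_2 (iv7 F86021) D118290 (iv2 D71060)
theorem F185838 : act 1 n118290 = n71058 := d15_0 (iv0 D71058) (iv7 F86021) D118290
theorem F185839 : act 1 n118289 = n71060 := d15_1 D118289 (iv7 F185837) (iv2 D118290)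
theorem F185840 : act 1 n71059 = n118290 := d15_1 D71059 F185837 (iv2 D71060)
def n118291 : Q := act 4 n54479
theorem D118291 : act 4 n54479 = n118291 := rfl
theorem F185841 : act 7 n118291 = n71061 := d11_2 (iv7 F86021) D118291 (iv4 D71061)
def n118292 : Q := act 6 n54479
theorem D118292 : act 6 n54479 = n118292 := rfl
theorem F185842 : act 3 n118292 = n54480 := d7_1 D118292 (iv6 D54480) D54479
theorem F185843 : act 5 n74821 = n118292 := d6_0 F185842 F86023 D74821
def n118293 : Q := act 0 n54480
theorem D118293 : act 0 n54480 = n118293 := rfl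
theorem F185844 : act 6 n118293 = n54516 := d21_5 (iv5 D18807) (iv1 F41734) (iv5 F42014) D54480 D118293 F106529 (iv1 D70150) (iv5 F52069) (iv6 D32889) (iv1 F30045)
theorem F185845 : act 1 n71057 = n118293 := d15_0 (iv0 D118293) (iv7 F104258) (iv2 F107593)
def n118294 : Q := act 1 n54480
theorem D118294 : act 1 n54480 = n118294 := rfl
theorem F185846 : act 1 n118294 = n71057 := d15_1 D118294 (iv7 D71057) (iv2 F86022)
theorem F185847 : act 5 n108406 = n118294 := d21_6 (iv5 D32794) (iv1 F25187) (iv5 F38105) D49879 (iv1 F79231) D108406 (iv1 D118294) F86023 (iv6 F94909) F94911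
theorem F185848 : act 0 n74798 = n108406 := d21_10 F185847 (iv1 D118294) F86023 (iv6 F94909) F94911 D70746 F107208 F112252 (iv5 D74797) D74798
def n118295 : Q := act 0 n54481
theorem D118295 : act 0 n54481 = n118295 := rfl
theorem F185849 : act 1 n71050 = n118295 := d15_0 (iv0 D118295) F86029 D71050
def n118296 : Q := act 1 n54481
theorem D118296 : act 1 n54481 = n118296 := rfl
def n118297 : Q := act 2 n54481
theorem D118297 : act 2 n54481 = n118297 := rfl
theorem F185850 : act 3 n118297 = n71060 := d0_2 D54481 D118297 (iv2 D71060) (iv3 D32905) F42021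
theorem F185851 : act 5 n118297 = n70482 := d2_2 (iv5 F86028) D118297 F106935
theorem F185852 : act 7 n118297 = n71050 := d4_2 (iv7 F86029) D118297 (iv2 D71050)
theorem F185853 : act 1 n118297 = n71048 := d15_0 (iv0 D71048) (iv7 F86029) D118297
theorem F185854 : act 1 n118296 = n71050 := d15_1 D118296 (iv7 F185852) (iv2 D118297)
theorem F185855 : act 5 n81012 = n71048 := d21_6 D78336 F119548 F85902 (iv6 D37012) D37008 D81012 (iv1 F185853) F185851 (iv6 D70482) (iv1 F56380)
theorem F185856 : act 1 n71049 = n118297 := d15_1 D71049 F185852 (iv2 D71050)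
def n118298 : Q := act 4 n54481
theorem D118298 : act 4 n54481 = n118298 := rfl
theorem F185857 : act 7 n118298 = n71051 := d11_2 (iv7 F86029) D118298 (iv4 D71051)
def n118299 : Q := act 6 n54481
theorem D118299 : act 6 n54481 = n118299 := rfl
theorem F185858 : act 3 n118299 = n54482 := d7_1 D118299 (iv6 D54482) D54481
theorem F185859 : act 5 n118299 = n70489 := d12_1 D118299 (iv6 D70489) (iv5 D32705) D32706 (iv5 F86028)
def n118300 : Q := act 7 n54482
theorem D118300 : act 7 n54482 = n118300 := rfl
theorem F185861 : act 5 n118300 = n70503 := d13_1 D118300 (iv7 D70503) (iv5 F86031)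
theorem F185862 : act 6 n118300 = n71057 := d14_1 D118300 (iv7 D71057) (iv6 D32904) (iv7 F42019) D54482
theorem F185864 : act 0 n70420 = n118300 := d21_4 (iv5 F85226) (iv1 F106887) (iv5 F104170) (iv6 F106883) F185862 F107594 (iv1 F54384) (iv5 F104199) (iv6 D68081) (iv1 F84980)
def n118302 : Q := act 6 n54483
theorem D118302 : act 6 n54483 = n118302 := rfl
theorem F185867 : act 4 n118302 = n54741 := d10_1 D118302 (iv6 D54741) (iv4 F86032)
def n118304 : Q := act 6 n54484
theorem D118304 : act 6 n54484 = n118304 := rfl
theorem F185869 : act 2 n118304 = n71070 := d3_1 D118304 (iv6 D71070) F86039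
theorem F185870 : act 4 n118304 = n54743 := d10_1 D118304 (iv6 D54743) (iv4 F86038)
def n118308 : Q := act 4 n54487
theorem D118308 : act 4 n54487 = n118308 := rfl
theorem F185873 : act 2 n118308 = n60163 := d1_1 D118308 F94711 (iv2 F86046)
theorem F185874 : act 7 n118308 = n60111 := d11_2 (iv7 F86047) D118308 (iv4 D60111)
theorem F185875 : act 5 n118308 = n73394 := d17_5 (iv1 D54490) (iv5 D26352) D26349 D54487 D118308 (iv0 D73394) (iv5 D33759) D33757 F86064
theorem F185876 : act 0 n118308 = n60160 := d18_2 F86049 D118308 F94709 (iv5 F52529) (iv4 F55761) F79146 (iv4 F84937) F84941 (iv5 F42055)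
theorem F185877 : act 1 n118308 = n60159 := d18_6 (iv1 D7584) (iv4 F10562) D13662 F42093 D54487 D118308 F94708 F52984 (iv5 D16304)
def n118309 : Q := act 6 n54487
theorem D118309 : act 6 n54487 = n118309 := rfl
theorem F185878 : act 2 n118309 = n60164 := d3_1 D118309 (iv6 D60164) (iv2 F86046)
theorem F185879 : act 5 n118309 = n60110 := d12_1 D118309 (iv6 D60110) F46118 (iv6 F50834) D54487
def n118310 : Q := act 6 n54488
theorem D118310 : act 6 n54488 = n118310 := rfl
theorem F185881 : act 3 n118310 = n71082 := d7_1 D118310 (iv6 D71082) (iv3 F86051)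
theorem F185882 : act 5 n118310 = n60053 := d12_1 D118310 (iv6 D60053) (iv5 D28521) (iv6 F42031) D54488
def n118311 : Q := act 6 n54489
theorem D118311 : act 6 n54489 = n118311 := rfl
theorem F185884 : act 4 n118311 = n73386 := d10_1 D118311 (iv6 D73386) F86059
theorem F185885 : act 5 n118311 = n108311 := d12_1 D118311 (iv6 D108311) F79139 (iv6 F54150) (iv5 F86055)
def n118312 : Q := act 6 n54490
theorem D118312 : act 6 n54490 = n118312 := rfl
theorem F185886 : act 2 n118312 = n59904 := d3_1 D118312 F94385 F86063
theorem F185887 : act 4 n118312 = n73389 := d10_1 D118312 (iv6 D73389) F86064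
theorem F185888 : act 5 n118312 = n59886 := d12_1 D118312 (iv6 D59886) F50964 D31554 (iv5 F86062)
def n118313 : Q := act 3 n54491
theorem D118313 : act 3 n54491 = n118313 := rfl
theorem F185889 : act 4 n118313 = n54493 := d5_2 D54491 D118313 (iv3 D54493) (iv4 D26353) (iv3 F42036)
def n118314 : Q := act 5 n54491
theorem D118314 : act 5 n54491 = n118314 := rfl
theorem F185891 : act 7 n118314 = n71118 := d13_2 (iv7 F86065) D118314 (iv5 D71118)
theorem F185892 : act 4 n118314 = n72726 := d16_2 D54491 D118314 (iv5 D72726) (iv4 D33550) (iv5 D16215) F50839 D28595 (iv7 F86052) F86050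
theorem F185893 : act 0 n118314 = n72751 := d17_2 F105558 D118314 F109234 (iv4 D69297) (iv5 D32212) F24816 D16106 F51157 D69299
theorem F185894 : act 1 n118314 = n72646 := d17_6 (iv1 D28598) (iv5 D13629) (iv1 F50831) D26352 D54491 D118314 (iv5 D72646) (iv0 F94706) (iv4 D60157)
def n118315 : Q := act 6 n54491
theorem D118315 : act 6 n54491 = n118315 := rfl
theorem F185895 : act 4 n118315 = n54492 := d10_1 D118315 (iv6 D54492) D54491
def n118316 : Q := act 0 n54492
theorem D118316 : act 0 n54492 = n118316 := rfl
def n118317 : Q := act 1 n54492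
theorem D118317 : act 1 n54492 = n118317 := rfl
def n118318 : Q := act 7 n54492
theorem D118318 : act 7 n54492 = n118318 := rfl
theorem F185896 : act 3 n118318 = n54497 := d8_1 D118318 (iv7 D54497) (iv3 F86066)
theorem F185897 : act 5 n118318 = n70411 := d13_1 D118318 (iv7 D70411) (iv5 F86067)
theorem F185898 : act 6 n118318 = n71122 := d14_1 D118318 (iv7 D71122) (iv6 D32931) (iv7 F42037) D54492
def n118322 : Q := act 6 n54493
theorem D118322 : act 6 n54493 = n118322 := rfl
theorem F185906 : act 3 n118322 = n54494 := d7_1 D118322 (iv6 D54494) D54493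
def n118323 : Q := act 0 n54494
theorem D118323 : act 0 n54494 = n118323 := rfl
def n118325 : Q := act 7 n54494
theorem D118325 : act 7 n54494 = n118325 := rfl
theorem F185909 : act 2 n118325 = n71107 := d4_1 D118325 (iv7 D71107) (iv2 F86070)
theorem F185910 : act 4 n118325 = n54497 := d11_1 D118325 (iv7 D54497) (iv4 F86071)
theorem F185911 : act 6 n118325 = n71130 := d14_1 D118325 (iv7 D71130) (iv6 D32933) (iv7 F42039) D54494
theorem F185912 : act 1 n71107 = n118323 := d15_0 (iv0 D118323) D118325 F185909
theorem F185913 : act 1 n71105 = n118325 := d15_1 D71105 (iv7 D118325) F86070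
theorem F185914 : act 1 n118325 = n71104 := d15_0 (iv0 D71104) D71107 (iv2 F185909)
def n118326 : Q := act 4 n54495
theorem D118326 : act 4 n54495 = n118326 := rfl
theorem F185915 : act 2 n118326 = n71110 := d1_1 D118326 (iv4 D71110) (iv2 F109872)
theorem F185916 : act 3 n118326 = n85525 := d5_1 D118326 (iv4 D85525) (iv3 D39484) (iv4 F46251) (iv3 F109873)
theorem F185917 : act 7 n118326 = n71114 := d11_2 (iv7 F109875) D118326 (iv4 D71114)
theorem F185918 : act 0 n54532 = n118326 := d20_7 D39589 F60464 (iv4 D27819) D27818 (iv1 F130967) F86153 (iv4 F86158) (iv4 D118326) F109873 (iv1 F46252)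
theorem E18444 : n71262 = n71114 := (c15_2 F162940 D71262 (iv7 F185917) F185915)
theorem F185919 : act 0 n71114 = n32981 := (sb E18444 (iv1 D71262))
def n118327 : Q := act 4 n54496
theorem D118327 : act 4 n54496 = n118327 := rfl
theorem F185922 : act 2 n118327 = n71114 := d1_1 D118327 (iv4 D71114) (iv2 F109876)
theorem F185923 : act 7 n118327 = n71110 := d11_2 (iv7 F109877) D118327 (iv4 D71110)
theorem F185924 : act 1 n54532 = n118327 := d15_1 (iv0 F185918) F185923 (iv2 F185915)
theorem F185925 : act 1 n118327 = n71264 := d15_1 F185924 (iv7 D71264) (iv2 F86157)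
theorem E18446 : n70438 = n70423 := ((c18_2 (iv1 F85727) D70423 (iv1 D70438) F51764 (iv5 F42085) (iv4 F86158) F185924 (iv4 D118327) F86072 (iv5 F85724))).symm
theorem F185926 : act 0 n70423 = n32689 := (sb E18446 (iv1 D70438))
theorem F185928 : act 1 n71264 = n118326 := d15_1 F185925 F185917 (iv2 F185922)
theorem E18447 : n70437 = n70419 := ((c18_2 D32683 D70419 (iv1 F185001) F184997 F88644 (iv4 F107761) F185928 (iv4 D118326) (iv0 D54495) F42042)).symm
theorem F185929 : act 0 n70419 = n117941 := (sb E18447 (iv1 F185001))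
theorem F185930 : act 1 n70419 = n32689 := (sb E18447 (iv0 D70437))
def n118328 : Q := act 6 n54496
theorem D118328 : act 6 n54496 = n118328 := rfl
theorem F185931 : act 2 n118328 = n71115 := d3_1 D118328 (iv6 D71115) (iv2 F109876)
theorem F185932 : act 0 n118328 = n61830 := d21_10 (iv5 D61830) (iv1 F47884) (iv5 F52106) (iv6 D32913) (iv1 F42018) D54482 F86031 F106852 F106851 D118328
def n118329 : Q := act 4 n54498
theorem D118329 : act 4 n54498 = n118329 := rfl
theorem F185933 : act 2 n118329 = n71089 := d1_1 D118329 (iv4 D71089) F86080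
theorem F185934 : act 7 n118329 = n71086 := d11_2 (iv7 F86082) D118329 (iv4 D71086)
theorem F185935 : act 0 n118329 = n54651 := d18_2 D54498 D118329 (iv4 D54651) (iv5 D26432) (iv4 F42235) (iv0 F55052) F55049 F50829 D26358
theorem F185936 : act 1 n118329 = n68628 := d18_6 D60445 (iv4 F166769) (iv1 F166772) F103962 (iv5 F86079) D118329 (iv4 D68628) (iv0 F50500) (iv5 F46284)
def n118330 : Q := act 3 n54499
theorem D118330 : act 3 n54499 = n118330 := rfl
theorem F185938 : act 7 n118330 = n71092 := d8_2 (iv7 F86084) D118330 (iv3 D71092)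
def n118331 : Q := act 5 n54499
theorem D118331 : act 5 n54499 = n118331 := rfl
theorem F185939 : act 7 n118331 = n71093 := d13_2 (iv7 F86084) D118331 (iv5 D71093)
def n118332 : Q := act 6 n54499
theorem D118332 : act 6 n54499 = n118332 := rfl
theorem F185940 : act 4 n118332 = n54500 := d10_1 D118332 (iv6 D54500) D54499
def n118333 : Q := act 0 n54500
theorem D118333 : act 0 n54500 = n118333 := rfl
def n118334 : Q := act 1 n54500
theorem D118334 : act 1 n54500 = n118334 := rfl
def n118335 : Q := act 7 n54500
theorem D118335 : act 7 n54500 = n118335 := rfl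
theorem F185942 : act 6 n118335 = n71097 := d14_1 D118335 (iv7 D71097) (iv6 D32921) (iv7 F42050) D54500
def n118341 : Q := act 7 n54502
theorem D118341 : act 7 n54502 = n118341 := rfl
theorem F185954 : act 4 n118341 = n54505 := d11_1 D118341 (iv7 D54505) (iv4 F86089)
theorem F185955 : act 6 n118341 = n71107 := d14_1 D118341 (iv7 D71107) (iv6 D32924) (iv7 F42053) D54502
theorem F185956 : act 1 n71128 = n118341 := d15_1 D71128 (iv7 D118341) F86088
def n118342 : Q := act 3 n54503
theorem D118342 : act 3 n54503 = n118342 := rfl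
theorem F185958 : act 7 n118342 = n71135 := d8_2 (iv7 F86098) D118342 (iv3 D71135)
def n118343 : Q := act 4 n54503
theorem D118343 : act 4 n54503 = n118343 := rfl
theorem F185959 : act 2 n118343 = n71132 := d1_1 D118343 (iv4 D71132) (iv2 F86099)
theorem F185960 : act 7 n118343 = n71136 := d11_2 (iv7 F86098) D118343 (iv4 D71136)
theorem E18448 : n71300 = n71132 := ((c15_4 (iv0 D71300) (iv0 F123823) (iv7 F185960) F185959)).symm
theorem F185961 : act 1 n71132 = n32993 := (sb E18448 (iv0 D71300))
def n118344 : Q := act 5 n54503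
theorem D118344 : act 5 n54503 = n118344 := rfl
theorem F185963 : act 6 n118344 = n86018 := d12_2 F131938 D118344 F131953 F92494 (iv5 F131937)
theorem F185965 : act 0 n118344 = n85824 := d21_1 D118344 (iv5 F131680) (iv6 D71235) (iv1 D32969) (iv6 D15873) F11716 (iv1 F9280) D12572 D26360 D54503
def n118345 : Q := act 3 n54504
theorem D118345 : act 3 n54504 = n118345 := rfl
theorem F185968 : act 6 n118345 = n71017 := d7_2 F86091 D118345 (iv3 D71017)
theorem F185969 : act 7 n118345 = n71131 := d8_2 F86100 D118345 (iv3 D71131)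
def n118346 : Q := act 4 n54504
theorem D118346 : act 4 n54504 = n118346 := rfl
theorem F185970 : act 2 n118346 = n71136 := d1_1 D118346 (iv4 D71136) (iv2 F86093)
theorem F185971 : act 6 n118346 = n71018 := d10_2 F86091 D118346 (iv4 D71018)
theorem F185972 : act 7 n118346 = n71132 := d11_2 F86100 D118346 (iv4 D71132)
theorem F185973 : act 0 n118346 = n54540 := d21_4 (iv5 F86565) (iv1 F123822) F123818 (iv6 F185971) (iv6 D54540) F42097 (iv1 F42063) F25345 (iv6 F42023) D54483
theorem F185974 : act 1 n118346 = n71303 := d15_1 (iv0 F185973) (iv7 D71303) (iv2 F86178)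
def n118347 : Q := act 6 n54506
theorem D118347 : act 6 n54506 = n118347 := rfl
theorem F185977 : act 2 n118347 = n54508 := d3_1 D118347 (iv6 D54508) D54506
def n118348 : Q := act 5 n54507
theorem D118348 : act 5 n54507 = n118348 := rfl
theorem F185979 : act 7 n118348 = n71164 := d13_2 (iv7 F86107) D118348 (iv5 D71164)
theorem F185980 : act 4 n118348 = n72732 := d16_2 D54507 D118348 (iv5 D72732) (iv4 D33559) D33560 (iv4 F54113) (iv5 F54161) (iv7 F86104) (iv2 D54506)
theorem F185981 : act 0 n118348 = n73379 := d17_2 (iv1 F86108) D118348 (iv5 D73379) (iv4 D33753) (iv5 F54100) F97543 F97540 (iv0 D33525) D33527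
theorem F185982 : act 1 n118348 = n73371 := d17_6 F86053 (iv5 F56718) F79145 (iv5 F42055) D54507 D118348 (iv5 D73371) D73369 F110075
def n118349 : Q := act 6 n54507
theorem D118349 : act 6 n54507 = n118349 := rfl
theorem F185983 : act 4 n118349 = n54508 := d10_1 D118349 (iv6 D54508) D54507
def n118352 : Q := act 5 n54508
theorem D118352 : act 5 n54508 = n118352 := rfl
theorem F185984 : act 3 n118352 = n54511 := d6_1 D118352 (iv5 D54511) (iv3 F86109)
theorem F185985 : act 6 n118352 = n55250 := d12_2 D54508 D118352 F87429 F53344 (iv5 F42055)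
theorem F185986 : act 7 n85995 = n118352 := d8_0 F185984 (iv7 F92600) D85995
def n118353 : Q := act 7 n54508
theorem D118353 : act 7 n54508 = n118353 := rfl
theorem F185987 : act 3 n118353 = n54512 := d8_1 D118353 (iv7 D54512) (iv3 F86109)
theorem F185988 : act 5 n118353 = n85995 := d13_1 D118353 F185986 (iv5 D118352)
def n118354 : Q := act 2 n54509
theorem D118354 : act 2 n54509 = n118354 := rfl
theorem F185990 : act 7 n54510 = n118354 := d15_2 (iv0 D54509) D54510 (iv2 D118354)
def n118355 : Q := act 3 n54509
theorem D118355 : act 3 n54509 = n118355 := rfl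
def n118356 : Q := act 4 n54509
theorem D118356 : act 4 n54509 = n118356 := rfl
def n118357 : Q := act 5 n54509
theorem D118357 : act 5 n54509 = n118357 := rfl
def n118358 : Q := act 7 n54509
theorem D118358 : act 7 n54509 = n118358 := rfl
theorem F185991 : act 2 n118358 = n54510 := d4_1 D118358 F185990 (iv2 D118354)
def n118359 : Q := act 3 n54510
theorem D118359 : act 3 n54510 = n118359 := rfl
def n118360 : Q := act 4 n54510
theorem D118360 : act 4 n54510 = n118360 := rfl
def n118361 : Q := act 5 n54510
theorem D118361 : act 5 n54510 = n118361 := rfl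
theorem F185992 : act 6 n118361 = n76268 := d12_2 F183393 D118361 (iv5 F114311) F183391 F183392
def n118362 : Q := act 5 n54513
theorem D118362 : act 5 n54513 = n118362 := rfl
theorem F185994 : act 0 n118362 = n74061 := d17_2 F107843 D118362 (iv5 D74061) (iv4 D33988) (iv5 F46284) (iv0 F55638) D35040 (iv0 F55654) D71350
def n118367 : Q := act 2 n54515
theorem D118367 : act 2 n54515 = n118367 := rfl
theorem F185999 : act 7 n54516 = n118367 := d15_2 (iv0 D54515) D54516 (iv2 D118367)
def n118369 : Q := act 4 n54515
theorem D118369 : act 4 n54515 = n118369 := rfl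
def n118370 : Q := act 6 n54515
theorem D118370 : act 6 n54515 = n118370 := rfl
theorem F186000 : act 5 n118370 = n68345 := d21_6 (iv5 D12354) F12688 (iv5 F20949) D26364 D54515 D118370 (iv1 D68345) F50106 (iv6 D15861) (iv1 F20525)
theorem F186001 : act 0 n118370 = n71235 := d21_10 F131680 (iv1 D85824) F86092 (iv6 F86091) (iv1 D32887) D32889 F52069 D70149 F106528 D118370
theorem F186002 : act 0 n116943 = n118370 := d21_4 (iv5 D26059) D26057 D53892 D116943 (iv6 D118370) (iv5 F106528) F183389 F183386 F123829 (iv1 D53899)
def n118371 : Q := act 7 n54515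
theorem D118371 : act 7 n54515 = n118371 := rfl
def n118372 : Q := act 3 n54516
theorem D118372 : act 3 n54516 = n118372 := rfl
def n118373 : Q := act 4 n54516
theorem D118373 : act 4 n54516 = n118373 := rfl
def n118377 : Q := act 4 n54518
theorem D118377 : act 4 n54518 = n118377 := rfl
theorem F186010 : act 3 n118377 = n54747 := d5_1 D118377 (iv4 D54747) (iv3 D26475) (iv4 F42062) D54518
theorem F186011 : act 7 n118377 = n71198 := d11_2 (iv7 F86130) D118377 (iv4 D71198)
def n118379 : Q := act 0 n54519
theorem D118379 : act 0 n54519 = n118379 := rfl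
def n118380 : Q := act 1 n54519
theorem D118380 : act 1 n54519 = n118380 := rfl
theorem F186013 : act 1 n118380 = n71194 := d15_1 D118380 (iv7 D71194) (iv2 F86131)
def n118382 : Q := act 7 n54519
theorem D118382 : act 7 n54519 = n118382 := rfl
theorem F186015 : act 2 n118382 = n71194 := d4_1 D118382 (iv7 D71194) (iv2 F86131)
theorem F186016 : act 4 n118382 = n54752 := d11_1 D118382 (iv7 D54752) (iv4 F86132)
theorem F186018 : act 1 n71194 = n118379 := d15_0 (iv0 D118379) D118382 F186015
theorem F186019 : act 1 n71192 = n118382 := d15_1 D71192 (iv7 D118382) F86131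
theorem F186020 : act 1 n118382 = n71191 := d15_0 (iv0 D71191) D71194 (iv2 F186015)
def n118388 : Q := act 0 n54521
theorem D118388 : act 0 n54521 = n118388 := rfl
def n118389 : Q := act 1 n54521
theorem D118389 : act 1 n54521 = n118389 := rfl
theorem F186030 : act 1 n118389 = n71203 := d15_1 D118389 (iv7 D71203) (iv2 F86134)
def n118391 : Q := act 7 n54521
theorem D118391 : act 7 n54521 = n118391 := rfl
theorem F186032 : act 2 n118391 = n71203 := d4_1 D118391 (iv7 D71203) (iv2 F86134)
theorem F186033 : act 4 n118391 = n54757 := d11_1 D118391 (iv7 D54757) (iv4 F86135)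
theorem F186035 : act 1 n71203 = n118388 := d15_0 (iv0 D118388) D118391 F186032
theorem F186036 : act 1 n71201 = n118391 := d15_1 D71201 (iv7 D118391) F86134
theorem F186037 : act 1 n118391 = n71200 := d15_0 (iv0 D71200) D71203 (iv2 F186032)
def n118402 : Q := act 3 n54525
theorem D118402 : act 3 n54525 = n118402 := rfl
theorem F186040 : act 6 n118402 = n116948 := d7_2 (iv6 F86137) D118402 F182783
theorem F186041 : act 7 n118402 = n71232 := d8_2 (iv7 F182729) D118402 (iv3 D71232)
def n118403 : Q := act 4 n54525
theorem D118403 : act 4 n54525 = n118403 := rfl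
theorem F186043 : act 6 n118403 = n116950 := d10_2 (iv6 F86137) D118403 (iv4 D116950)
theorem F186044 : act 7 n118403 = n71233 := d11_2 (iv7 F182729) D118403 (iv4 D71233)
def n118404 : Q := act 5 n54525
theorem D118404 : act 5 n54525 = n118404 := rfl
theorem F186045 : act 2 n118404 = n71230 := d2_1 D118404 (iv5 D71230) (iv2 F182728)
theorem F186046 : act 6 n118404 = n116951 := d12_2 (iv6 F86137) D118404 (iv5 D116951) (iv6 D53898) D53897
theorem F186047 : act 7 n118404 = n71234 := d13_2 (iv7 F182729) D118404 (iv5 D71234)
theorem F186048 : act 0 n61610 = n118404 := d21_10 (iv5 D118404) (iv1 F86138) F52106 (iv6 D29769) (iv1 F23628) D29298 (iv5 F57063) F96168 (iv5 D61609) D61610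
theorem F186049 : act 1 n62792 = n71234 := d15_1 (iv0 F107714) (iv7 F186047) F186045
def n118405 : Q := act 3 n54526
theorem D118405 : act 3 n54526 = n118405 := rfl
theorem F186050 : act 7 n118405 = n71228 := d8_2 (iv7 F182770) D118405 (iv3 D71228)
def n118406 : Q := act 4 n54526
theorem D118406 : act 4 n54526 = n118406 := rfl
theorem F186051 : act 2 n118406 = n71233 := d1_1 D118406 (iv4 D71233) (iv2 F182769)
def n118407 : Q := act 5 n54526
theorem D118407 : act 5 n54526 = n118407 := rfl
theorem F186053 : act 2 n118407 = n71234 := d2_1 D118407 (iv5 D71234) (iv2 F182769)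
theorem F186054 : act 7 n118407 = n71230 := d13_2 (iv7 F182770) D118407 (iv5 D71230)
theorem F186055 : act 6 n118407 = n61594 := d21_3 (iv5 F52106) (iv1 F86139) D118407 (iv1 F96148) (iv6 F96160) (iv5 F110895) (iv1 F110898) (iv5 F96386) (iv6 D61831) (iv1 F47884)
theorem F186056 : act 1 n61610 = n118407 := d15_1 (iv0 F186048) F186054 (iv2 F186045)
def n118408 : Q := act 6 n54526
theorem D118408 : act 6 n54526 = n118408 := rfl
theorem F186057 : act 2 n118408 = n71235 := d3_1 D118408 (iv6 D71235) (iv2 F182769)
theorem F186058 : act 7 n118408 = n116943 := d14_2 (iv7 F182770) D118408 (iv6 D116943) F182716 (iv6 F52136)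
theorem F186059 : act 1 n118408 = n71181 := d15_0 (iv0 F107674) (iv7 F107717) (iv2 F186057)
def n118409 : Q := act 4 n54527
theorem D118409 : act 4 n54527 = n118409 := rfl
theorem F186060 : act 2 n118409 = n54892 := d1_1 D118409 F86831 (iv2 F86140)
theorem F186061 : act 7 n118409 = n54847 := d11_2 (iv7 F86142) D118409 (iv4 D54847)
theorem F186062 : act 0 n118409 = n54889 := d18_2 F86144 D118409 (iv4 F86829) (iv5 F104064) F104063 (iv0 F177546) F177544 (iv0 F84927) (iv5 F42356)
theorem F186063 : act 1 n118409 = n54888 := d15_0 (iv0 D54888) D54892 (iv2 F186060)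
def n118410 : Q := act 6 n54527
theorem D118410 : act 6 n54527 = n118410 := rfl
theorem F186064 : act 2 n118410 = n54893 := d3_1 D118410 (iv6 D54893) (iv2 F86140)
theorem F186065 : act 3 n118410 = n71351 := d7_1 D118410 (iv6 D71351) (iv3 F86141)
theorem F186066 : act 5 n118410 = n54846 := d12_1 D118410 (iv6 D54846) F42476 F42075 D54527
def n118411 : Q := act 4 n54528
theorem D118411 : act 4 n54528 = n118411 := rfl
theorem F186067 : act 2 n118411 = n55229 := d1_1 D118411 (iv4 D55229) F86146
theorem F186068 : act 7 n118411 = n71287 := d11_2 (iv7 F86148) D118411 (iv4 D71287)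
theorem F186069 : act 0 n118411 = n74084 := d18_2 D54528 D118411 (iv4 F110828) (iv5 D54464) F42494 F83292 F83290 (iv0 D26369) D26370
theorem F186070 : act 0 n74083 = n118411 := d20_1 (iv4 F110824) (iv4 D118411) F86149 (iv1 F85317) F85314 D54711 (iv1 F114301) (iv4 D76258) D76257 (iv1 F114299)
def n118412 : Q := act 6 n54528
theorem D118412 : act 6 n54528 = n118412 := rfl
theorem F186071 : act 2 n118412 = n55230 := d3_1 D118412 (iv6 D55230) F86146
theorem F186072 : act 3 n118412 = n71353 := d7_1 D118412 (iv6 D71353) (iv3 F86149)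
def n118413 : Q := act 0 n54529
theorem D118413 : act 0 n54529 = n118413 := rfl
theorem F186073 : act 4 n118413 = n70582 := d20_2 D54529 D118413 (iv3 F178719) F114260 F55093 (iv4 F46272) F46273 (iv4 D16443) D16442 F46298
theorem F186074 : act 1 n54884 = n118413 := d15_0 (iv0 D118413) F86151 (iv2 F86821)
theorem F186075 : act 2 n71289 = n118413 := d1_3 F186073 (iv2 F185789) F185790
theorem F186076 : act 7 n71288 = n118413 := d11_0 F186073 F178718 (iv4 F114297)
def n118414 : Q := act 1 n54529
theorem D118414 : act 1 n54529 = n118414 := rfl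
theorem F186077 : act 1 n118414 = n54884 := d15_1 D118414 F86822 (iv2 F86150)
theorem F186078 : act 7 n118414 = n71289 := d15_2 (iv0 D118413) D118414 F186075
theorem F186079 : act 4 n118414 = n70583 := d18_7 (iv1 D52904) F40608 (iv1 F50901) F40519 D26370 D54529 D118414 F178716 (iv5 D114617)
theorem F186080 : act 2 n71288 = n118414 := d1_3 F186079 (iv2 F114295) (iv4 F114297)
def n118415 : Q := act 3 n54529
theorem D118415 : act 3 n54529 = n118415 := rfl
theorem F186081 : act 4 n118415 = n54531 := d5_2 D54529 D118415 (iv3 D54531) (iv4 D26371) (iv3 F42078)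
def n118416 : Q := act 5 n54529
theorem D118416 : act 5 n54529 = n118416 := rfl
theorem F186083 : act 2 n118416 = n71836 := d2_1 D118416 (iv5 D71836) (iv2 F86150)
theorem F186084 : act 7 n118416 = n71291 := d13_2 (iv7 F86151) D118416 (iv5 D71291)
def n118417 : Q := act 6 n54529
theorem D118417 : act 6 n54529 = n118417 := rfl
theorem F186086 : act 4 n118417 = n54530 := d10_1 D118417 (iv6 D54530) D54529
theorem F186087 : act 7 n85446 = n118417 := d11_0 F186086 F131008 D85446
def n118421 : Q := act 6 n54531
theorem D118421 : act 6 n54531 = n118421 := rfl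
theorem F186095 : act 3 n118421 = n54532 := d7_1 D118421 (iv6 D54532) D54531
def n118423 : Q := act 7 n54532
theorem D118423 : act 7 n54532 = n118423 := rfl
theorem F186099 : act 4 n118423 = n54535 := d11_1 D118423 (iv7 D54535) (iv4 F86158)
theorem F186100 : act 6 n118423 = n71303 := d14_1 D118423 (iv7 D71303) (iv6 D32993) (iv7 F42081) D54532
theorem F186101 : act 1 n71114 = n118423 := d15_1 (iv0 F185919) (iv7 D118423) F86157
theorem F186102 : act 1 n118423 = n71110 := d15_1 F186101 (iv7 F185923) F185922
theorem F186103 : act 4 n86813 = n71266 := d20_8 (iv4 F186099) (iv1 F186101) (iv4 D71114) (iv3 F109857) (iv1 D19012) (iv3 F30328) D40243 D86813 (iv3 D71266) (iv1 F86165)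
theorem F186104 : act 2 n85155 = n86813 := d1_3 F186103 F162938 D85155
theorem F186105 : act 7 n86814 = n85155 := d15_2 (iv0 D86813) D86814 F186104
theorem E18449 : n85158 = n85041 := (c11_3 F186105 (iv4 D85155) D85158 F133101)
theorem E18450 : n39377 = n39325 := ((((iv3 D85041)).symm.trans (sb E18449 F130493))).symm
theorem F186106 : act 7 n85041 = n39373 := (sb E18449 (iv7 D85158))
theorem E18451 : n85147 = n18651 := ((((iv1 D39325)).symm.trans (sb E18450 (iv1 F130484)))).symm
theorem E18453 : n85040 = n18664 := (((iv2 F130402)).symm.trans (sb E18450 F60325))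
theorem E18455 : n85168 = n55318 := ((((iv5 F87546)).symm.trans (sb E18450 (iv5 F130514)))).symm
theorem E18456 : n85172 = n85043 := (((D85043).symm.trans (sb E18450 D85172))).symm
theorem E18458 : n39372 = n39324 := (((D39324).symm.trans (sb E18451 (iv1 D85147)))).symm
theorem F186107 : act 2 n18664 = n39325 := (sb E18453 F130402)
theorem F186110 : act 2 n55318 = n39380 := (sb E18455 F130513)
theorem F186111 : act 7 n55318 = n39375 := (sb E18455 (iv7 D85168))
theorem F186112 : act 2 n85043 = n39381 := (sb E18456 F130516)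
theorem E18459 : n85036 = n71265 := ((D85036).symm.trans (sb E18458 (iv3 F162937)))
theorem E18461 : n85150 = n85038 := (((D85038).symm.trans (sb E18458 D85150))).symm
theorem E18462 : n85151 = n85039 := (((D85039).symm.trans (sb E18458 D85151))).symm
theorem F186116 : act 3 n71265 = n39324 := (sb E18459 (iv3 D85036))
theorem F186117 : act 4 n71265 = n71104 := (sb E18459 (iv4 F130400))
theorem F186120 : act 2 n85038 = n39375 := (sb E18461 F130488)
theorem F186121 : act 7 n85038 = n39380 := (sb E18461 F130489)
theorem F186122 : act 2 n85039 = n39376 := (sb E18462 F130490)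
theorem F186123 : act 2 n85170 = n118053 := d2_3 (iv5 F185447) F186122 D85170
theorem F186124 : act 2 n71104 = n71267 := d1_1 F186117 (iv4 D71267) D71265
theorem F186125 : act 7 n71104 = n71271 := d11_2 F107762 F186117 (iv4 D71271)
theorem F186126 : act 2 n71271 = n71105 := d15_3 F185913 F185914 F186125
theorem F186127 : act 7 n71267 = n71105 := d4_2 (iv7 F186125) F186124 (iv2 F186126)
theorem E18463 : n118323 = n71267 := ((c15_4 (iv0 D118323) (iv0 F162934) (iv7 F186125) F186124)).symm
theorem F186128 : act 0 n71267 = n71107 := (sb E18463 (iv1 F185912))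
theorem F186129 : act 1 n71267 = n54494 := (sb E18463 (iv0 D118323))
theorem F186130 : act 4 n70413 = n56000 := d18_7 D32982 D71267 F186128 F107631 (iv5 F85724) (iv4 F120299) F120303 (iv0 D56000) F43652
theorem F186131 : act 4 n71105 = n71269 := d11_1 F186127 (iv7 D71269) D71267
theorem E18464 : n55314 = n54813 := ((c3_3 D55318 F186110 (iv6 F86736) (iv2 D55314))).symm
theorem F186132 : act 2 n54813 = n26732 := (sb E18464 (iv2 D55314))
theorem E18465 : n70554 = n54422 := ((((iv3 F162931)).symm.trans (sb E18464 (iv3 F162894)))).symm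
theorem F186133 : act 7 n54813 = n26733 := (sb E18464 (iv7 F87545))
theorem E18466 : n118140 = n32729 := ((D118140).symm.trans (sb E18465 (iv2 D70554)))
theorem E18467 : n118142 = n32730 := ((D118142).symm.trans (sb E18465 (iv7 F107019)))
theorem E18468 : n70559 = n54423 := ((D70559).symm.trans (sb E18466 (iv7 F185637)))
theorem F186135 : act 7 n32730 = n54422 := (sb E18467 (iv7 D118142))
theorem F186136 : act 2 n54423 = n32730 := (sb E18468 F107023)
theorem F186137 : act 7 n54423 = n32729 := (sb E18468 (iv7 D70559))
theorem F186138 : act 7 n70555 = n118143 := d8_2 F186137 D70555 (iv3 D118143)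
theorem F186139 : act 7 n70556 = n70361 := d11_2 F186137 D70556 (iv4 F162928)
theorem F186140 : act 7 n70557 = n62721 := d13_2 F186137 D70557 F97837
theorem F186141 : act 2 n62721 = n61549 := d15_3 (iv0 F96089) (iv0 F107020) F186140
theorem E18469 : n61545 = n29663 := (c3_4 D62721 F186141 (iv6 D61549) D61545)
theorem E18470 : n62717 = n29136 := ((D62717).symm.trans (sb E18469 (iv2 D61545)))
theorem E18471 : n62722 = n29137 := ((D62722).symm.trans (sb E18469 (iv7 F96086)))
theorem F186142 : act 2 n29136 = n29663 := (sb E18470 (iv2 D62717))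
theorem E18472 : n61550 = n29664 := ((D61550).symm.trans (sb E18470 (iv7 F97835)))
theorem F186143 : act 7 n29137 = n29663 := (sb E18471 (iv7 D62722))
theorem F186144 : act 2 n29664 = n29137 := (sb E18472 F96090)
theorem F186145 : act 7 n29664 = n29136 := (sb E18472 (iv7 D61550))
theorem F186146 : act 7 n118141 = n61549 := d15_2 (iv0 F97838) (iv0 F185638) (iv2 F186141)
theorem F186147 : act 2 n70557 = n118141 := d4_3 F186146 (iv2 F186141) (iv7 F186140)
theorem F186148 : act 1 n71706 = n62721 := d15_1 F185639 (iv7 F186140) F186147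
theorem F186149 : act 7 n61546 = n62723 := d8_2 F186145 D61546 (iv3 D62723)
theorem F186150 : act 7 n61547 = n62724 := d11_2 F186145 D61547 (iv4 D62724)
theorem F186151 : act 7 n61548 = n62725 := d13_2 F186145 D61548 (iv5 D62725)
theorem F186152 : act 2 n62725 = n61553 := d15_3 (iv0 F96091) (iv0 F96087) F186151
theorem E18473 : n118040 = n32631 := (c3_4 F97841 F186152 (iv6 F96092) D118040)
theorem E18474 : n70315 = n54373 := ((D70315).symm.trans (sb E18473 (iv2 D118040)))
theorem E18475 : n70319 = n54374 := ((D70319).symm.trans (sb E18473 (iv7 F185428)))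
theorem F186153 : act 2 n54373 = n32631 := (sb E18474 (iv2 D70315))
theorem E18476 : n118044 = n32632 := ((D118044).symm.trans (sb E18474 (iv7 F106771)))
theorem F186154 : act 7 n54374 = n32631 := (sb E18475 (iv7 D70319))
theorem F186155 : act 2 n32632 = n54374 := (sb E18476 F185431)
theorem F186156 : act 7 n32632 = n54373 := (sb E18476 (iv7 D118044))
theorem F186157 : act 7 n62720 = n61553 := d15_2 (iv0 F97840) (iv0 F97836) (iv2 F186152)
theorem F186158 : act 2 n61548 = n62720 := d4_3 F186157 (iv2 F186152) (iv7 F186151)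
theorem F186160 : act 7 n118041 = n70320 := d8_2 F186156 D118041 (iv3 D70320)
theorem F186161 : act 7 n118042 = n70321 := d11_2 F186156 D118042 (iv4 D70321)
theorem F186162 : act 7 n118043 = n70322 := d13_2 F186156 D118043 (iv5 D70322)
theorem F186163 : act 2 n70322 = n118047 := d15_3 (iv0 F185433) (iv0 F185429) F186162
theorem E18477 : n71265 = n54533 := ((c3_3 F106775 F186163 F185432 (iv2 D71265))).symm
theorem F186167 : act 3 n54533 = n39324 := (sb E18477 F186116)
theorem F186168 : act 4 n54533 = n71104 := (sb E18477 F186117)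
theorem F186169 : act 7 n54533 = n32983 := (sb E18477 (iv7 F107762))
theorem F186170 : act 7 n71272 = n73692 := d13_2 F186169 D71272 (iv5 F110387)
theorem E18478 : n71269 = n54534 := (c15_4 F86159 F86163 F186169 (iv2 F107764))
theorem F186171 : act 2 n54534 = n32983 := (sb E18478 F107764)
theorem F186172 : act 4 n54534 = n71105 := (sb E18478 (iv4 F186131))
theorem F186173 : act 7 n54534 = n32982 := (sb E18478 (iv7 D71269))
theorem F186174 : act 7 n71268 = n70558 := d13_2 F186173 D71268 F107021
theorem F186175 : act 2 n70558 = n71272 := d15_3 (iv0 F107766) (iv0 F107763) F186174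
theorem F186176 : act 2 n71268 = n73692 := d4_1 (iv7 F186174) (iv7 F186170) (iv2 F186175)
theorem F186177 : act 1 n73693 = n71272 := d15_1 F110388 F186170 (iv2 F186176)
theorem E18479 : n79075 = n79064 := (c18_7 (iv1 F86159) F186172 (iv1 D71105) F52114 (iv5 F41700) (iv4 F56704) D79075 (iv4 D79064) F88647 F88644)
theorem F186178 : act 0 n79064 = n35986 := (sb E18479 (iv1 D79075))
theorem F186180 : act 3 n73692 = n85038 := d8_1 F186170 F186121 (iv3 F162932)
theorem E18480 : n79074 = n79061 := (c18_7 D54533 F186168 (iv1 F185914) F185910 F86074 (iv4 F106881) F120301 (iv4 D79061) (iv0 D35980) (iv5 F42085))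
theorem F186182 : act 1 n79061 = n35986 := (sb E18480 (iv0 D79074))
theorem F186183 : act 3 n85039 = n118047 := d7_3 F185432 F186167 D85039
theorem E18481 : n118053 = n118045 := ((c6_4 (iv5 F185447) F186183 (iv5 D118047) D118045)).symm
theorem F186184 : act 0 n118045 = n54377 := (sb E18481 (iv1 D118053))
theorem F186185 : act 2 n118045 = n85170 := (sb E18481 (iv2 F186123))
theorem F186186 : act 5 n118045 = n85039 := (sb E18481 (iv5 F185447))
theorem F186187 : act 2 n118046 = n70321 := d1_3 (iv4 D70321) F186155 D118046
theorem F186189 : act 7 n70316 = n118045 := d8_2 F186154 D70316 (iv3 D118045)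
theorem F186190 : act 7 n70317 = n118046 := d11_2 F186154 D70317 (iv4 D118046)
theorem F186191 : act 2 n118042 = n70317 := d4_3 F186190 F186187 (iv7 F186161)
theorem F186192 : act 1 n118054 = n70316 := d15_1 F185450 F186189 F186185
theorem F186193 : act 2 n70316 = n118052 := d15_3 (iv0 D118052) (iv0 F186184) (iv7 F186189)
theorem F186194 : act 7 n118052 = n85170 := d4_2 (iv7 F186189) F186193 (iv2 F186185)
theorem F186195 : act 1 n70316 = n68903 := d15_0 (iv0 F130515) (iv7 F186194) (iv2 F186193)
theorem F186196 : act 5 n85171 = n118052 := d13_3 F186194 (iv5 D85170) D85171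
theorem F186197 : act 2 n61552 = n62724 := d1_3 (iv4 D62724) F186144 D61552
theorem F186198 : act 2 n61554 = n62726 := d3_3 (iv6 D62726) F186144 D61554
theorem F186199 : act 7 n62718 = n61551 := d8_2 F186143 D62718 (iv3 D61551)
theorem F186200 : act 7 n62719 = n61552 := d11_2 F186143 D62719 (iv4 D61552)
theorem F186201 : act 2 n61547 = n62719 := d4_3 F186200 F186197 (iv7 F186150)
theorem F186202 : act 2 n70361 = n70561 := d15_3 F162891 (iv0 F162917) F186139
theorem F186203 : act 2 n70556 = n70360 := d15_3 (iv0 D70360) D70361 (iv7 F186139)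
theorem F186204 : act 7 n70360 = n70561 := d4_2 (iv7 F186139) F186203 (iv2 F186202)
theorem F186205 : act 2 n70562 = n118144 := d3_3 (iv6 D118144) F186136 D70562
theorem E18482 : n55319 = n54814 := (c15_4 F86738 (iv0 F86737) F186133 (iv2 F87547))
theorem F186206 : act 2 n54814 = n26733 := (sb E18482 F87547)
theorem F186207 : act 7 n54814 = n26732 := (sb E18482 (iv7 D55319))
theorem E18483 : n117938 = n117929 := ((c18_2 D54322 D117929 (iv1 F184999) F106903 (iv5 F86161) (iv4 F186099) F186102 (iv4 D71110) (iv0 D32925) (iv5 F41700))).symm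
theorem F186208 : act 0 n117929 = n70440 := (sb E18483 (iv1 F184999))
theorem F186209 : act 1 n117929 = n54330 := (sb E18483 (iv0 D117938))
theorem F186210 : act 0 n85497 = n71094 := d20_7 D71110 (iv1 F186102) F186099 F131011 (iv1 F92342) F92340 D85497 F107627 F52111 D32925
def n118424 : Q := act 3 n54534
theorem D118424 : act 3 n54534 = n118424 := rfl
theorem F186211 : act 2 n118424 = n85041 := d0_1 D118424 (iv3 D85041) (iv2 F186107) F162933 (iv2 F186171)
theorem F186212 : act 7 n118424 = n71266 := d8_2 (iv7 F186173) D118424 (iv3 D71266)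
theorem F186213 : act 1 n85056 = n118424 := d15_1 (iv0 F131404) F186212 F162938
theorem F186214 : act 1 n118424 = n85152 := d15_0 (iv0 D85152) (iv7 F186106) (iv2 F186211)
def n118425 : Q := act 6 n54534
theorem D118425 : act 6 n54534 = n118425 := rfl
theorem F186215 : act 2 n118425 = n71273 := d3_1 D118425 (iv6 D71273) (iv2 F186171)
theorem F186216 : act 0 n118425 = n71768 := d21_10 (iv5 D71768) (iv1 F86344) F86341 (iv6 D33331) (iv1 F42334) D54743 F86578 F107022 F107021 D118425
def n118426 : Q := act 0 n54537
theorem D118426 : act 0 n54537 = n118426 := rfl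
theorem F186217 : act 4 n118426 = n59949 := d18_3 F54466 D54537 D118426 F94428 (iv4 F84937) F84941 F41210 (iv0 F54104) D34317
theorem F186218 : act 1 n71238 = n118426 := d15_0 (iv0 D118426) F86173 (iv2 F107725)
theorem F186219 : act 2 n60356 = n118426 := d1_3 F186217 (iv2 F94430) D60356
theorem F186220 : act 7 n60354 = n118426 := d11_0 F186217 (iv7 F94431) D60354
def n118427 : Q := act 1 n54537
theorem D118427 : act 1 n54537 = n118427 := rfl
theorem F186221 : act 1 n118427 = n71238 := d15_1 D118427 F107726 (iv2 F86172)
theorem F186222 : act 7 n118427 = n60356 := d15_2 (iv0 D118426) D118427 F186219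
theorem F186223 : act 4 n118427 = n59950 := d18_7 (iv1 F45993) F50867 (iv1 F50863) (iv4 F20959) D26374 D54537 D118427 F94432 (iv5 D28504)
theorem F186224 : act 2 n60354 = n118427 := d1_3 F186223 (iv2 F94435) D60354
def n118428 : Q := act 3 n54537
theorem D118428 : act 3 n54537 = n118428 := rfl
theorem F186226 : act 7 n118428 = n71244 := d8_2 (iv7 F86173) D118428 (iv3 D71244)
def n118429 : Q := act 5 n54537
theorem D118429 : act 5 n54537 = n118429 := rfl
theorem F186227 : act 2 n118429 = n72726 := d2_1 D118429 (iv5 D72726) (iv2 F86172)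
theorem F186228 : act 7 n118429 = n71245 := d13_2 (iv7 F86173) D118429 (iv5 D71245)
def n118430 : Q := act 6 n54537
theorem D118430 : act 6 n54537 = n118430 := rfl
theorem F186229 : act 2 n118430 = n72727 := d3_1 D118430 (iv6 D72727) (iv2 F86172)
theorem F186230 : act 4 n118430 = n54538 := d10_1 D118430 (iv6 D54538) D54537
def n118431 : Q := act 0 n54538
theorem D118431 : act 0 n54538 = n118431 := rfl
def n118432 : Q := act 1 n54538
theorem D118432 : act 1 n54538 = n118432 := rfl
theorem F186231 : act 1 n118432 = n72730 := d15_1 D118432 (iv7 D72730) (iv2 F86174)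
def n118433 : Q := act 7 n54538
theorem D118433 : act 7 n54538 = n118433 := rfl
theorem F186232 : act 2 n118433 = n72730 := d4_1 D118433 (iv7 D72730) (iv2 F86174)
theorem F186233 : act 3 n118433 = n54543 := d8_1 D118433 (iv7 D54543) (iv3 F86175)
theorem F186234 : act 6 n118433 = n71249 := d14_1 D118433 (iv7 D71249) (iv6 D32975) (iv7 F42095) D54538
theorem F186235 : act 1 n72730 = n118431 := d15_0 (iv0 D118431) D118433 F186232
theorem F186236 : act 1 n72729 = n118433 := d15_1 D72729 (iv7 D118433) F86174
theorem F186237 : act 1 n118433 = n72728 := d15_0 (iv0 D72728) D72730 (iv2 F186232)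
def n118439 : Q := act 7 n54540
theorem D118439 : act 7 n54540 = n118439 := rfl
theorem F186249 : act 4 n118439 = n54543 := d11_1 D118439 (iv7 D54543) (iv4 F86179)
theorem F186250 : act 6 n118439 = n71264 := d14_1 D118439 (iv7 D71264) (iv6 D32981) (iv7 F42098) D54540
theorem F186251 : act 1 n71136 = n118439 := d15_1 (iv0 F123823) (iv7 D118439) F86178
theorem F186252 : act 1 n118439 = n71132 := d15_1 F186251 (iv7 F185972) F185970
def n118440 : Q := act 3 n54541
theorem D118440 : act 3 n54541 = n118440 := rfl
theorem F186253 : act 7 n118440 = n71308 := d8_2 (iv7 F86188) D118440 (iv3 D71308)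
def n118441 : Q := act 5 n54541
theorem D118441 : act 5 n54541 = n118441 := rfl
theorem F186255 : act 6 n118441 = n75951 := d12_2 F130674 D118441 F113846 F92271 (iv5 F130673)
theorem F186257 : act 0 n118441 = n75941 := d21_1 D118441 (iv5 F113836) (iv6 D72294) (iv1 D33358) (iv6 D16105) F11757 (iv1 F12680) D12580 D26376 D54541
def n118442 : Q := act 3 n54542
theorem D118442 : act 3 n54542 = n118442 := rfl
theorem F186259 : act 5 n118442 = n75938 := d6_2 F86182 D118442 F113833
theorem F186260 : act 6 n118442 = n72159 := d7_2 F86181 D118442 (iv3 D72159)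
theorem F186261 : act 7 n118442 = n71304 := d8_2 F86190 D118442 (iv3 D71304)
def n118443 : Q := act 0 n54544
theorem D118443 : act 0 n54544 = n118443 := rfl
def n118444 : Q := act 1 n54544
theorem D118444 : act 1 n54544 = n118444 := rfl
theorem F186262 : act 1 n118444 = n71811 := d15_1 D118444 (iv7 D71811) (iv2 F86192)
def n118445 : Q := act 7 n54544
theorem D118445 : act 7 n54544 = n118445 := rfl
theorem F186263 : act 2 n118445 = n71811 := d4_1 D118445 (iv7 D71811) (iv2 F86192)
theorem F186264 : act 6 n118445 = n71784 := d14_1 D118445 (iv7 D71784) (iv6 D33181) (iv7 F42102) D54544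
theorem F186265 : act 1 n71811 = n118443 := d15_0 (iv0 D118443) D118445 F186263
theorem F186266 : act 1 n71809 = n118445 := d15_1 D71809 (iv7 D118445) F86192
theorem F186267 : act 1 n118445 = n71808 := d15_0 (iv0 D71808) D71811 (iv2 F186263)
def n118446 : Q := act 6 n54545
theorem D118446 : act 6 n54545 = n118446 := rfl
theorem F186268 : act 2 n118446 = n71786 := d3_1 D118446 (iv6 D71786) F86196
theorem F186269 : act 3 n118446 = n73047 := d7_1 D118446 (iv6 D73047) F86197
theorem F186270 : act 4 n118446 = n69849 := d10_1 D118446 (iv6 D69849) (iv4 F86195)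
def n118447 : Q := act 0 n54546
theorem D118447 : act 0 n54546 = n118447 := rfl
def n118448 : Q := act 1 n54546
theorem D118448 : act 1 n54546 = n118448 := rfl
theorem F186271 : act 1 n118448 = n71820 := d15_1 D118448 (iv7 D71820) (iv2 F86198)
def n118449 : Q := act 5 n54546
theorem D118449 : act 5 n54546 = n118449 := rfl
theorem F186272 : act 2 n118449 = n71819 := d2_1 D118449 (iv5 D71819) (iv2 F86198)
def n118450 : Q := act 7 n54546
theorem D118450 : act 7 n54546 = n118450 := rfl
theorem F186273 : act 2 n118450 = n71820 := d4_1 D118450 (iv7 D71820) (iv2 F86198)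
theorem F186274 : act 4 n118450 = n54549 := d11_1 D118450 (iv7 D54549) (iv4 F86199)
theorem F186275 : act 6 n118450 = n55147 := d14_1 D118450 F130746 (iv6 D33185) (iv7 F42104) D54546
theorem F186276 : act 1 n71820 = n118447 := d15_0 (iv0 D118447) D118450 F186273
theorem F186277 : act 1 n71818 = n118450 := d15_1 D71818 (iv7 D118450) F86198
theorem F186278 : act 1 n118450 = n71817 := d15_0 (iv0 D71817) D71820 (iv2 F186273)
def n118452 : Q := act 3 n54547
theorem D118452 : act 3 n54547 = n118452 := rfl
def n118454 : Q := act 5 n54547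
theorem D118454 : act 5 n54547 = n118454 := rfl
def n118455 : Q := act 6 n54547
theorem D118455 : act 6 n54547 = n118455 := rfl
theorem F186280 : act 5 n118455 = n79045 := d21_6 (iv5 D5984) D5981 D12584 D26379 D54547 D118455 (iv1 D79045) (iv5 D35974) (iv6 D17415) F26760
theorem F186281 : act 0 n73972 = n118455 := d21_10 F186280 (iv1 D79045) (iv5 D35974) (iv6 D17415) F26760 D12596 D26393 D54582 F131191 D73972
def n118459 : Q := act 5 n54548
theorem D118459 : act 5 n54548 = n118459 := rfl
def n118460 : Q := act 6 n54548
theorem D118460 : act 6 n54548 = n118460 := rfl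
def n118461 : Q := act 0 n54550
theorem D118461 : act 0 n54550 = n118461 := rfl
def n118462 : Q := act 1 n54550
theorem D118462 : act 1 n54550 = n118462 := rfl
theorem F186283 : act 1 n118462 = n71784 := d15_1 D118462 (iv7 D71784) (iv2 F86207)
def n118463 : Q := act 7 n54550
theorem D118463 : act 7 n54550 = n118463 := rfl
theorem F186284 : act 2 n118463 = n71784 := d4_1 D118463 (iv7 D71784) (iv2 F86207)
theorem F186285 : act 6 n118463 = n71811 := d14_1 D118463 (iv7 D71811) (iv6 D33191) (iv7 F42108) D54550
theorem F186286 : act 1 n71784 = n118461 := d15_0 (iv0 D118461) D118463 F186284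
theorem F186287 : act 1 n71783 = n118463 := d15_1 D71783 (iv7 D118463) F86207
theorem F186288 : act 1 n118463 = n71782 := d15_0 (iv0 D71782) D71784 (iv2 F186284)
def n118464 : Q := act 6 n54551
theorem D118464 : act 6 n54551 = n118464 := rfl
theorem F186289 : act 3 n118464 = n54553 := d7_1 D118464 (iv6 D54553) D54551
theorem F186290 : act 7 n73909 = n118464 := d8_0 F186289 F130777 D73909
theorem F186291 : act 0 n77553 = n118464 := d20_4 (iv4 F89006) (iv1 F89009) F123966 D77553 F186289 F86213 (iv1 F130735) D26656 (iv3 F61303) F125927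
def n118466 : Q := act 0 n54553
theorem D118466 : act 0 n54553 = n118466 := rfl
theorem F186293 : act 4 n118466 = n73153 := d20_2 (iv4 F86213) D118466 (iv3 D73153) D73151 (iv3 F110487) (iv4 D73775) (iv1 F87319) (iv4 D55193) (iv3 F53135) F130736
theorem F186294 : act 2 n71790 = n118466 := d15_3 (iv0 D118466) F162949 (iv7 F162959)
theorem F186295 : act 1 n55147 = n118466 := d15_0 (iv0 D118466) F130777 (iv2 F130766)
theorem F186297 : act 3 n73147 = n118466 := d5_5 F186293 (iv3 D73153) (iv4 D33687) D33686 D73147
theorem F186298 : act 0 n75530 = n73147 := d20_4 F184766 (iv1 D41589) (iv4 F54822) (iv3 F113375) F186297 F186293 F110727 (iv4 D73934) D73933 F184600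
def n118467 : Q := act 5 n54553
theorem D118467 : act 5 n54553 = n118467 := rfl
theorem F186299 : act 2 n118467 = n71792 := d2_1 D118467 (iv5 D71792) (iv2 F86212)
theorem F186300 : act 7 n118467 = n73910 := d13_2 (iv7 F130777) D118467 (iv5 D73910)
def n118468 : Q := act 6 n54557
theorem D118468 : act 6 n54557 = n118468 := rfl
theorem F186301 : act 2 n118468 = n56413 := d3_1 D118468 (iv6 D56413) (iv2 F86220)
def n118469 : Q := act 1 n54558
theorem D118469 : act 1 n54558 = n118469 := rfl
theorem F186304 : act 1 n118469 = n54573 := d15_1 D118469 (iv7 D54573) (iv2 F86226)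
theorem F186305 : act 7 n118469 = n54570 := d15_2 (iv0 F107150) D118469 (iv2 F155346)
theorem F186306 : act 2 n54571 = n118469 := d4_3 F186305 (iv2 F155346) F155345
theorem F186307 : act 3 n118469 = n82742 := d20_5 F118204 (iv1 F43922) (iv4 F43932) (iv3 F86260) (iv1 F186304) (iv4 D82742) (iv1 D38030) (iv4 F58812) F58811 D37976
def n118470 : Q := act 5 n54558
theorem D118470 : act 5 n54558 = n118470 := rfl
theorem F186308 : act 2 n118470 = n54572 := d2_1 D118470 (iv5 D54572) (iv2 F86226)
theorem F186309 : act 6 n118470 = n82528 := d12_2 D54558 D118470 (iv5 D82528) (iv6 D37890) (iv5 F51499)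
def n118471 : Q := act 7 n54558
theorem D118471 : act 7 n54558 = n118471 := rfl
theorem F186310 : act 2 n118471 = n54573 := d4_1 D118471 (iv7 D54573) (iv2 F86226)
theorem F186311 : act 4 n118471 = n54562 := d11_1 D118471 (iv7 D54562) (iv4 F86227)
theorem F186312 : act 6 n118471 = n71854 := d14_1 D118471 (iv7 D71854) (iv6 D33207) (iv7 F42114) D54558
theorem F186313 : act 1 n54571 = n118471 := d15_1 D54571 (iv7 D118471) F86226
theorem F186314 : act 1 n118471 = n54570 := d15_1 F186313 (iv7 F186305) (iv2 F186306)
def n118472 : Q := act 3 n54559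
theorem D118472 : act 3 n54559 = n118472 := rfl
theorem F186315 : act 7 n118472 = n54578 := d8_2 (iv7 F86915) D118472 (iv3 D54578)
def n118473 : Q := act 4 n54559
theorem D118473 : act 4 n54559 = n118473 := rfl
theorem F186316 : act 2 n118473 = n54575 := d1_1 D118473 (iv4 D54575) (iv2 F86914)
theorem F186317 : act 7 n118473 = n54579 := d11_2 (iv7 F86915) D118473 (iv4 D54579)
def n118474 : Q := act 4 n54560
theorem D118474 : act 4 n54560 = n118474 := rfl
theorem F186318 : act 2 n118474 = n54579 := d1_1 D118474 (iv4 D54579) (iv2 F86916)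
theorem F186319 : act 7 n118474 = n54575 := d11_2 (iv7 F86917) D118474 (iv4 D54575)
def n118475 : Q := act 6 n54560
theorem D118475 : act 6 n54560 = n118475 := rfl
theorem F186320 : act 2 n118475 = n54581 := d3_1 D118475 (iv6 D54581) (iv2 F86916)
theorem F186321 : act 7 n118475 = n85462 := d14_2 (iv7 F86917) D118475 (iv6 F131020) F86904 (iv6 F53237)
theorem F186322 : act 0 n118475 = n85455 := d21_10 (iv5 D85455) (iv1 F92343) F130968 F130764 (iv1 D16407) D16411 D33954 D73978 F131211 D118475
theorem F186323 : act 1 n118475 = n55329 := d15_1 (iv0 F186322) (iv7 F87560) (iv2 F130678)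
def n118476 : Q := act 0 n54561
theorem D118476 : act 0 n54561 = n118476 := rfl
theorem F186324 : act 6 n118476 = n117575 := d21_5 (iv5 D29678) (iv1 F27012) D26386 (iv6 F86231) D118476 (iv5 D117575) (iv1 D54167) D54168 F85493 F47705
theorem F186325 : act 2 n54582 = n118476 := d15_3 (iv0 D118476) F166630 F166627
theorem F186326 : act 5 n118476 = n73923 := d2_2 (iv5 F131191) F186325 F166636
theorem F186327 : act 2 n117575 = n69450 := d3_3 F112122 F186325 F186324
theorem F186328 : act 7 n118476 = n54583 := d4_2 F166627 F186325 F184963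
theorem F186329 : act 1 n54585 = n118476 := d15_1 (iv0 F166628) F186328 F184963
theorem E18484 : n69448 = n54167 := (c2_4 D117575 F186327 (iv5 D69450) D69448)
theorem E18485 : n117753 = n26207 := ((((iv1 D54167)).symm.trans (sb E18484 (iv1 F184407)))).symm
theorem E18487 : n117572 = n32256 := (((iv2 F184176)).symm.trans (sb E18484 (iv2 D69448)))
theorem E18488 : n117762 = n117573 := (((D117573).symm.trans (sb E18484 (iv3 F184429)))).symm
theorem E18489 : n117576 = n75900 := ((D117576).symm.trans (sb E18484 (iv6 F184520)))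
theorem E18490 : n117567 = n117499 := ((F184175).symm.trans (sb E18484 (iv7 F184059)))
theorem E18491 : n54244 = n54166 := (((D54166).symm.trans (sb E18485 (iv1 D117753)))).symm
theorem F186330 : act 2 n32256 = n54167 := (sb E18487 F184176)
theorem F186331 : act 0 n117573 = n69428 := (sb E18488 (iv1 F184433))
theorem F186333 : act 2 n117573 = n54249 := (sb E18488 (iv2 D117762))
theorem F186334 : act 7 n117573 = n69429 := (sb E18488 F184430)
theorem F186335 : act 6 n75900 = n54167 := (sb E18489 (iv6 D117576))
theorem F186336 : act 7 n117499 = n54167 := (sb E18490 (iv7 F184175))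
theorem E18493 : n117754 = n117569 := (((D117569).symm.trans (sb E18491 D117754))).symm
theorem E18494 : n117755 = n117570 := (((D117570).symm.trans (sb E18491 D117755))).symm
theorem E18495 : n117756 = n117571 := (((D117571).symm.trans (sb E18491 D117756))).symm
theorem F186338 : act 7 n54166 = n32256 := (sb E18491 F105727)
theorem F186340 : act 7 n117569 = n69449 := (sb E18493 F184408)
theorem F186341 : act 3 n117570 = n54246 := (sb E18494 F184409)
theorem F186342 : act 7 n117570 = n69450 := (sb E18494 F184410)
theorem F186344 : act 5 n117571 = n68938 := (sb E18495 (iv5 F184412))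
theorem F186345 : act 0 n68938 = n70292 := d21_7 (iv5 D31523) (iv1 F27312) (iv5 F41535) D26207 D54166 D117571 F186344 F106738 (iv6 D54127) F49868
theorem F186346 : act 1 n68938 = n117484 := d15_1 (iv0 F186345) (iv7 D117484) (iv2 F106737)
theorem F186347 : act 2 n117574 = n69449 := d1_3 (iv4 D69449) F186330 D117574
theorem F186348 : act 0 n61575 = n62746 := d21_4 F186326 (iv1 F110721) (iv5 F110744) (iv6 F110745) F97880 (iv5 D29678) (iv1 F27012) D26386 (iv6 F86231) D118476
theorem E18496 : n62223 = n61576 := (c20_2 (iv4 F95491) (iv1 F96982) (iv4 D61576) D61575 F186348 F97879 (iv4 F95981) F103217 (iv4 F110528) (iv3 D62808) (iv1 F47773))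
theorem F186349 : act 0 n61576 = n29446 := (sb E18496 (iv1 D62223))
theorem F186350 : act 1 n61576 = n60946 := (sb E18496 F96982)
theorem F186351 : act 1 n61575 = n61014 := d15_1 (iv0 F186348) (iv7 F185232) (iv2 F97878)
theorem E18497 : n62222 = n61572 := (c15_2 F186350 F96988 (iv7 F97895) F97894)
theorem F186352 : act 0 n61572 = n60946 := (sb E18497 (iv1 F96988))
theorem F186353 : act 1 n61572 = n29446 := (sb E18497 (iv0 D62222))
def n118477 : Q := act 4 n54561
theorem D118477 : act 4 n54561 = n118477 := rfl
theorem F186354 : act 2 n118477 = n54584 := d1_1 D118477 (iv4 D54584) (iv2 F86229)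
theorem F186355 : act 6 n118477 = n54565 := d10_2 (iv6 F86231) D118477 (iv4 D54565)
def n118478 : Q := act 7 n54561
theorem D118478 : act 7 n54561 = n118478 := rfl
theorem F186356 : act 2 n118478 = n54585 := d4_1 D118478 (iv7 D54585) (iv2 F86229)
theorem F186358 : act 5 n118478 = n54562 := d13_1 D118478 (iv7 D54562) D54561
theorem F186359 : act 1 n54583 = n118478 := d15_1 D54583 (iv7 D118478) F86229
theorem F186360 : act 1 n118478 = n54582 := d15_1 F186359 (iv7 F166627) (iv2 F184963)
def n118479 : Q := act 4 n54563
theorem D118479 : act 4 n54563 = n118479 := rfl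
theorem F186361 : act 2 n118479 = n54587 := d1_1 D118479 (iv4 D54587) (iv2 F86238)
theorem F186362 : act 3 n118479 = n62225 := d5_1 D118479 F96986 (iv3 F98010) F185216 (iv3 F86239)
theorem F186363 : act 7 n118479 = n54590 := d11_2 (iv7 F86240) D118479 (iv4 D54590)
theorem F186364 : act 0 n118479 = n108301 := d18_2 (iv1 F87491) D118479 (iv4 D108301) (iv5 D50014) D50013 (iv0 F79126) F38879 F42824 (iv5 F87490)
def n118480 : Q := act 6 n54563
theorem D118480 : act 6 n54563 = n118480 := rfl
theorem F186365 : act 2 n118480 = n54588 := d3_1 D118480 (iv6 D54588) (iv2 F86238)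
theorem F186366 : act 3 n118480 = n72354 := d7_1 D118480 (iv6 D72354) (iv3 F86239)
theorem F186367 : act 5 n118480 = n55624 := d12_1 D118480 (iv6 D55624) (iv5 F43292) (iv6 F42120) D54563
theorem F186368 : act 0 n118480 = n61546 := d21_4 (iv5 D26386) D26385 D54563 D118480 (iv6 F162896) (iv5 D55322) (iv1 D26733) (iv5 F42833) (iv6 D26720) F42127
def n118481 : Q := act 4 n54564
theorem D118481 : act 4 n54564 = n118481 := rfl
theorem F186369 : act 2 n118481 = n54592 := d1_1 D118481 (iv4 D54592) F86243
theorem F186370 : act 7 n118481 = n54594 := d11_2 (iv7 F86245) D118481 (iv4 D54594)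
theorem F186371 : act 0 n118481 = n55287 := d18_2 D54564 D118481 (iv4 F106308) F106305 (iv4 F97842) (iv0 F97846) F52292 (iv0 D26385) D26386
theorem F186372 : act 1 n118481 = n55286 := d18_6 D32451 (iv4 F55492) D51056 F80512 (iv5 F86242) D118481 (iv4 F97916) F97915 (iv5 D32453)
def n118482 : Q := act 1 n54565
theorem D118482 : act 1 n54565 = n118482 := rfl
theorem F186373 : act 1 n118482 = n54600 := d15_1 D118482 (iv7 D54600) (iv2 F86247)
theorem F186374 : act 7 n118482 = n54596 := d15_2 F96291 D118482 (iv2 F96294)
theorem F186375 : act 4 n118482 = n69873 := d18_7 F94565 F94562 (iv1 F82399) F39971 D26386 D54565 D118482 (iv0 F106296) (iv5 D61611)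
theorem F186376 : act 2 n54597 = n118482 := d1_3 F186375 F106292 F86282
def n118483 : Q := act 3 n54565
theorem D118483 : act 3 n54565 = n118483 := rfl
theorem F186377 : act 4 n118483 = n71425 := d5_2 D54565 D118483 (iv3 D71425) (iv4 D33049) (iv3 F42126)
def n118484 : Q := act 5 n54565
theorem D118484 : act 5 n54565 = n118484 := rfl
theorem F186378 : act 2 n118484 = n54599 := d2_1 D118484 (iv5 D54599) (iv2 F86247)
def n118485 : Q := act 7 n54565
theorem D118485 : act 7 n54565 = n118485 := rfl
theorem F186379 : act 2 n118485 = n54600 := d4_1 D118485 (iv7 D54600) (iv2 F86247)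
theorem F186380 : act 4 n118485 = n54566 := d11_1 D118485 (iv7 D54566) D54565
theorem F186381 : act 1 n54597 = n118485 := d15_1 D54597 (iv7 D118485) F86247
theorem F186382 : act 1 n118485 = n54596 := d15_1 F186381 (iv7 F186374) (iv2 F186376)
def n118486 : Q := act 6 n54566
theorem D118486 : act 6 n54566 = n118486 := rfl
theorem F186383 : act 2 n118486 = n54601 := d3_1 D118486 (iv6 D54601) (iv2 F86248)
theorem F186384 : act 3 n118486 = n71427 := d7_1 D118486 (iv6 D71427) (iv3 F86249)
theorem F186385 : act 5 n118486 = n55038 := d12_1 D118486 (iv6 D55038) (iv5 D26604) (iv6 F42130) (iv5 F86250)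
def n118487 : Q := act 5 n54567
theorem D118487 : act 5 n54567 = n118487 := rfl
theorem F186386 : act 2 n118487 = n72007 := d2_1 D118487 (iv5 D72007) (iv2 F86253)
def n118488 : Q := act 7 n54567
theorem D118488 : act 7 n54567 = n118488 := rfl
theorem F186387 : act 2 n118488 = n72008 := d4_1 D118488 (iv7 D72008) (iv2 F86253)
theorem F186388 : act 6 n118488 = n72004 := d14_1 D118488 (iv7 D72004) (iv6 D33261) (iv7 F42135) D54567
theorem F186389 : act 1 n71993 = n118488 := d15_1 (iv0 F155524) (iv7 D118488) F86253
theorem F186390 : act 1 n118488 = n55327 := d15_1 F186389 F87555 (iv2 F130960)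
def n118489 : Q := act 3 n54568
theorem D118489 : act 3 n54568 = n118489 := rfl
theorem F186391 : act 4 n118489 = n56279 := d5_2 D54568 D118489 F89017 F43839 (iv3 F42136)
theorem F186392 : act 5 n118489 = n71837 := d6_2 (iv5 F86255) D118489 (iv3 D71837)
def n118490 : Q := act 6 n54568
theorem D118490 : act 6 n54568 = n118490 := rfl
theorem F186394 : act 2 n118490 = n71920 := d3_1 D118490 (iv6 D71920) (iv2 F86254)
theorem F186395 : act 4 n118490 = n54569 := d10_1 D118490 (iv6 D54569) D54568
def n118491 : Q := act 0 n54569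
theorem D118491 : act 0 n54569 = n118491 := rfl
def n118492 : Q := act 1 n54569
theorem D118492 : act 1 n54569 = n118492 := rfl
theorem F186396 : act 1 n118492 = n82529 := d15_1 D118492 (iv7 D82529) (iv2 F86257)
def n118493 : Q := act 5 n54569
theorem D118493 : act 5 n54569 = n118493 := rfl
theorem F186398 : act 3 n118493 = n56441 := d6_1 D118493 (iv5 D56441) (iv3 F86258)
theorem F186399 : act 6 n118493 = n54572 := d12_2 D54569 D118493 (iv5 D54572) (iv6 D26390) D26389
def n118494 : Q := act 7 n54569
theorem D118494 : act 7 n54569 = n118494 := rfl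
theorem F186400 : act 2 n118494 = n82529 := d4_1 D118494 (iv7 D82529) (iv2 F86257)
theorem F186403 : act 1 n82529 = n118491 := d15_0 (iv0 D118491) D118494 F186400
def n118495 : Q := act 3 n54570
theorem D118495 : act 3 n54570 = n118495 := rfl
theorem F186406 : act 7 n118495 = n82742 := d8_2 F186305 D118495 (iv3 F186307)
theorem F186407 : act 4 n118495 = n82723 := d20_6 (iv4 D27179) (iv1 D13018) (iv4 F21661) (iv3 F42140) D54570 D118495 (iv1 F127490) (iv4 F127320) F127319 (iv1 F118014)
theorem E18498 : n82735 = n82723 := ((c11_2 (iv7 F186406) F186407 (iv7 F127504) D82742)).symm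
theorem F186408 : act 2 n82723 = n38029 := (sb E18498 (iv2 D82735))
theorem F186409 : act 7 n82723 = n38030 := (sb E18498 (iv7 F127504))
theorem E18499 : n82740 = n82724 := (c15_4 F127487 F127490 F186409 (iv2 F127505))
theorem F186411 : act 2 n82724 = n38030 := (sb E18499 F127505)
theorem F186412 : act 7 n82724 = n38029 := (sb E18499 (iv7 D82740))
def n118496 : Q := act 5 n54570
theorem D118496 : act 5 n54570 = n118496 := rfl
def n118497 : Q := act 6 n54570
theorem D118497 : act 6 n54570 = n118497 := rfl
def n118498 : Q := act 3 n54571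
theorem D118498 : act 3 n54571 = n118498 := rfl
def n118499 : Q := act 5 n54571
theorem D118499 : act 5 n54571 = n118499 := rfl
def n118500 : Q := act 6 n54571
theorem D118500 : act 6 n54571 = n118500 := rfl
def n118501 : Q := act 0 n54572
theorem D118501 : act 0 n54572 = n118501 := rfl
def n118502 : Q := act 1 n54572
theorem D118502 : act 1 n54572 = n118502 := rfl
theorem F186413 : act 5 n73947 = n118502 := d21_6 (iv5 F53185) (iv1 F53187) (iv5 F52453) D55047 F106405 (iv6 F184658) (iv1 D118502) (iv5 D54572) (iv6 D26390) D26388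
def n118503 : Q := act 4 n54572
theorem D118503 : act 4 n54572 = n118503 := rfl
def n118504 : Q := act 7 n54572
theorem D118504 : act 7 n54572 = n118504 := rfl
theorem F186414 : act 3 n118504 = n56455 := d8_1 D118504 (iv7 D56455) (iv3 F86259)
theorem F186415 : act 5 n118504 = n54573 := d13_1 D118504 (iv7 D54573) D54572
def n118505 : Q := act 0 n54575
theorem D118505 : act 0 n54575 = n118505 := rfl
theorem F186416 : act 4 n118505 = n70823 := d20_2 D54575 D118505 (iv3 D70823) (iv1 D32824) (iv3 D15716) (iv4 F30457) (iv1 D6200) (iv4 F9300) (iv3 F20977) D26391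
theorem F186417 : act 1 n54579 = n118505 := d15_0 (iv0 D118505) (iv7 F186319) F186318
def n118506 : Q := act 1 n54575
theorem D118506 : act 1 n54575 = n118506 := rfl
theorem F186418 : act 1 n118506 = n54579 := d15_1 D118506 (iv7 F186317) F186316
def n118507 : Q := act 3 n54575
theorem D118507 : act 3 n54575 = n118507 := rfl
def n118509 : Q := act 4 n54576
theorem D118509 : act 4 n54576 = n118509 := rfl
def n118510 : Q := act 0 n54578
theorem D118510 : act 0 n54578 = n118510 := rfl
theorem F186419 : act 4 n118510 = n81063 := d20_0 (iv1 F124841) (iv4 D70793) (iv3 F57924) (iv1 F57928) D70823 (iv4 F186416) (iv1 F186417) (iv4 D54579) D54578 D118510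
theorem F186420 : act 3 n118510 = n71585 := d20_3 (iv4 F57979) D81063 (iv4 F186419) (iv1 D71585) (iv3 D33105) D33106 D71590 F124881 (iv3 D81091) (iv1 D37052)
def n118511 : Q := act 1 n54578
theorem D118511 : act 1 n54578 = n118511 := rfl
def n118512 : Q := act 2 n54578
theorem D118512 : act 2 n54578 = n118512 := rfl
theorem F186421 : act 3 n118512 = n74930 := d0_2 D54578 D118512 (iv2 F112453) (iv3 F107009) F86916
theorem F186422 : act 0 n118512 = n71708 := d20_10 F108191 (iv1 D70797) (iv4 D32813) (iv3 D15711) (iv1 F20902) (iv3 F41980) (iv4 F71294) (iv1 F149231) F149233 (iv3 F186421)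
def n118513 : Q := act 4 n54578
theorem D118513 : act 4 n54578 = n118513 := rfl
theorem F186423 : act 0 n70785 = n118513 := d20_1 D70785 (iv4 D118513) (iv3 D54578) (iv1 D26392) F20977 F9300 D6199 F30461 D15711 D32810
def n118514 : Q := act 5 n54578
theorem D118514 : act 5 n54578 = n118514 := rfl
theorem F186424 : act 3 n118514 = n54580 := d6_1 D118514 (iv5 D54580) D54578
def n118515 : Q := act 6 n54578
theorem D118515 : act 6 n54578 = n118515 := rfl
theorem F186425 : act 3 n118515 = n54581 := d7_1 D118515 (iv6 D54581) D54578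
def n118516 : Q := act 3 n54579
theorem D118516 : act 3 n54579 = n118516 := rfl
def n118518 : Q := act 6 n54579
theorem D118518 : act 6 n54579 = n118518 := rfl
theorem F186426 : act 4 n118518 = n54581 := d10_1 D118518 (iv6 D54581) D54579
def n118519 : Q := act 4 n54580
theorem D118519 : act 4 n54580 = n118519 := rfl
def n118520 : Q := act 6 n54580
theorem D118520 : act 6 n54580 = n118520 := rfl
theorem F186427 : act 2 n118520 = n107885 := d3_1 D118520 F166697 (iv2 F131208)
def n118521 : Q := act 5 n54581
theorem D118521 : act 5 n54581 = n118521 := rfl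
theorem F186428 : act 0 n118454 = n118521 := d21_1 D118454 (iv5 D118521) (iv6 D54581) (iv1 D26392) (iv6 D12596) (iv5 D5984) D5981 D12584 D26379 D54547
def n118522 : Q := act 4 n54582
theorem D118522 : act 4 n54582 = n118522 := rfl
def n118523 : Q := act 3 n54583
theorem D118523 : act 3 n54583 = n118523 := rfl
theorem F186429 : act 2 n118523 = n74926 := d0_1 D118523 (iv3 D74926) (iv2 F105747) D107860 (iv2 F184963)
theorem F186430 : act 5 n118523 = n73974 := d6_2 (iv5 F184964) D118523 (iv3 D73974)
def n118524 : Q := act 4 n54583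
theorem D118524 : act 4 n54583 = n118524 := rfl
def n118525 : Q := act 6 n54583
theorem D118525 : act 6 n54583 = n118525 := rfl
def n118526 : Q := act 0 n54584
theorem D118526 : act 0 n54584 = n118526 := rfl
def n118527 : Q := act 1 n54584
theorem D118527 : act 1 n54584 = n118527 := rfl
def n118528 : Q := act 3 n54584
theorem D118528 : act 3 n54584 = n118528 := rfl
theorem F186431 : act 4 n118528 = n54621 := d5_2 D54584 D118528 (iv3 D54621) (iv4 D26416) (iv3 F42142)
theorem F186432 : act 6 n118528 = n54598 := d7_2 (iv6 F86265) D118528 (iv3 D54598)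
def n118529 : Q := act 5 n54584
theorem D118529 : act 5 n54584 = n118529 := rfl
def n118530 : Q := act 7 n54584
theorem D118530 : act 7 n54584 = n118530 := rfl
theorem F186433 : act 4 n118530 = n54585 := d11_1 D118530 (iv7 D54585) D54584
def n118531 : Q := act 6 n54585
theorem D118531 : act 6 n54585 = n118531 := rfl
theorem F186434 : act 3 n118531 = n54624 := d7_1 D118531 (iv6 D54624) (iv3 F86266)
theorem F186435 : act 5 n118531 = n72088 := d12_1 D118531 (iv6 D72088) F52510 (iv6 F42145) (iv5 F86267)
theorem F186436 : act 7 n118531 = n54601 := d14_2 D54585 D118531 (iv6 D54601) (iv7 D26403) (iv6 F42143)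
def n118532 : Q := act 4 n54586
theorem D118532 : act 4 n54586 = n118532 := rfl
def n118533 : Q := act 6 n54586
theorem D118533 : act 6 n54586 = n118533 := rfl
theorem F186437 : act 3 n118533 = n62627 := d7_1 D118533 (iv6 D62627) (iv3 F86268)
theorem F186438 : act 5 n118533 = n94249 := d12_1 D118533 (iv6 D94249) (iv5 F82940) F82941 D54586
def n118534 : Q := act 0 n54587
theorem D118534 : act 0 n54587 = n118534 := rfl
theorem F186439 : act 4 n118534 = n61624 := d18_3 F42828 D54587 D118534 F96189 (iv4 F55492) (iv0 D24836) F19127 D12770 D26717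
theorem F186440 : act 1 n54590 = n118534 := d15_0 (iv0 D118534) (iv7 F97884) F97883
theorem F186441 : act 2 n108301 = n118534 := d1_3 F186439 F96188 D108301
def n118535 : Q := act 1 n54587
theorem D118535 : act 1 n54587 = n118535 := rfl
theorem F186442 : act 1 n118535 = n54590 := d15_1 D118535 (iv7 F186363) F186361
theorem F186443 : act 7 n118535 = n108301 := d15_2 (iv0 D118534) D118535 F186441
theorem F186444 : act 4 n61652 = n118535 := d20_6 (iv4 F24155) (iv1 F46525) F46523 (iv3 F47767) F79140 F96221 (iv1 D118535) (iv4 D54587) F42147 F23532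
def n118536 : Q := act 3 n54587
theorem D118536 : act 3 n54587 = n118536 := rfl
theorem F186445 : act 4 n118536 = n62708 := d5_2 D54587 D118536 (iv3 D62708) (iv4 D29647) (iv3 F42147)
def n118538 : Q := act 6 n54587
theorem D118538 : act 6 n54587 = n118538 := rfl
def n118539 : Q := act 0 n54588
theorem D118539 : act 0 n54588 = n118539 := rfl
def n118540 : Q := act 1 n54588
theorem D118540 : act 1 n54588 = n118540 := rfl
def n118541 : Q := act 7 n54588
theorem D118541 : act 7 n54588 = n118541 := rfl
theorem F186447 : act 3 n118541 = n62711 := d8_1 D118541 (iv7 D62711) (iv3 F86271)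
theorem F186448 : act 5 n118541 = n76689 := d13_1 D118541 (iv7 D76689) (iv5 F86272)
def n118542 : Q := act 4 n54589
theorem D118542 : act 4 n54589 = n118542 := rfl
def n118543 : Q := act 6 n54589
theorem D118543 : act 6 n54589 = n118543 := rfl
def n118544 : Q := act 5 n54590
theorem D118544 : act 5 n54590 = n118544 := rfl
theorem F186449 : act 3 n118544 = n62224 := d6_1 D118544 (iv5 D62224) (iv3 F185309)
theorem F186450 : act 6 n118544 = n62220 := d12_2 (iv6 F185310) D118544 (iv5 D62220) (iv6 D29445) D29444
def n118545 : Q := act 0 n54591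
theorem D118545 : act 0 n54591 = n118545 := rfl
def n118546 : Q := act 1 n54591
theorem D118546 : act 1 n54591 = n118546 := rfl
def n118547 : Q := act 0 n54592
theorem D118547 : act 0 n54592 = n118547 := rfl
theorem F186451 : act 4 n118547 = n61611 := d18_3 D26400 D54592 D118547 (iv5 D61611) (iv4 F83697) F83700 (iv4 D26395) (iv0 D12597) D12599
theorem F186452 : act 2 n55287 = n118547 := d15_3 (iv0 D118547) (iv0 F167494) F167493
theorem F186453 : act 1 n54594 = n118547 := d15_0 (iv0 D118547) F86275 (iv2 F86278)
theorem F186454 : act 7 n118547 = n55286 := d15_2 F167495 F186453 (iv2 F167492)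
def n118548 : Q := act 5 n54592
theorem D118548 : act 5 n54592 = n118548 := rfl
theorem F186455 : act 3 n118548 = n74685 := d6_1 D118548 (iv5 D74685) (iv3 F86274)
theorem F186456 : act 7 n118548 = n55289 := d13_2 (iv7 F86275) D118548 (iv5 D55289)
def n118549 : Q := act 6 n54592
theorem D118549 : act 6 n54592 = n118549 := rfl
theorem F186457 : act 3 n118549 = n74686 := d7_1 D118549 (iv6 D74686) (iv3 F86274)
theorem F186458 : act 4 n118549 = n54593 := d10_1 D118549 (iv6 D54593) D54592
def n118550 : Q := act 0 n54593
theorem D118550 : act 0 n54593 = n118550 := rfl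
def n118551 : Q := act 1 n54593
theorem D118551 : act 1 n54593 = n118551 := rfl
def n118552 : Q := act 7 n54593
theorem D118552 : act 7 n54593 = n118552 := rfl
theorem F186459 : act 3 n118552 = n55302 := d8_1 D118552 F87527 (iv3 F86276)
theorem F186460 : act 5 n118552 = n68868 := d13_1 D118552 (iv7 D68868) (iv5 F86277)
theorem F186461 : act 6 n118552 = n55293 := d14_1 D118552 (iv7 D55293) (iv6 D26720) F42152 D54593
def n118553 : Q := act 3 n54594
theorem D118553 : act 3 n54594 = n118553 := rfl
theorem F186462 : act 4 n118553 = n74884 := d5_2 D54594 D118553 (iv3 D74884) (iv4 D34319) (iv3 F42155)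
def n118554 : Q := act 5 n54594
theorem D118554 : act 5 n54594 = n118554 := rfl
theorem F186463 : act 2 n118554 = n55289 := d2_1 D118554 (iv5 D55289) (iv2 F86278)
def n118555 : Q := act 6 n54594
theorem D118555 : act 6 n54594 = n118555 := rfl
theorem F186464 : act 2 n118555 = n55290 := d3_1 D118555 (iv6 D55290) (iv2 F86278)
theorem F186465 : act 4 n118555 = n54595 := d10_1 D118555 (iv6 D54595) D54594
def n118556 : Q := act 7 n54595
theorem D118556 : act 7 n54595 = n118556 := rfl
theorem F186466 : act 2 n118556 = n55293 := d4_1 D118556 (iv7 D55293) (iv2 F86279)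
theorem F186467 : act 3 n118556 = n72425 := d8_1 D118556 (iv7 D72425) (iv3 F86280)
theorem F186468 : act 5 n118556 = n54815 := d13_1 D118556 (iv7 D54815) (iv5 F86281)
theorem F186469 : act 1 n55292 = n118556 := d15_1 D55292 (iv7 D118556) F86279
theorem F186470 : act 1 n118556 = n55291 := d15_1 F186469 (iv7 F162920) F162721
theorem E18500 : n73701 = n55019 := (c21_11 (iv5 F162941) (iv1 F186470) F186468 F86741 (iv1 F54929) D34683 (iv5 F110396) (iv1 D73699) (iv5 D33863) D33864 D73701)
theorem F186471 : act 1 n55019 = n33864 := (sb E18500 (iv0 D73701))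
def n118557 : Q := act 3 n54596
theorem D118557 : act 3 n54596 = n118557 := rfl
def n118558 : Q := act 5 n54596
theorem D118558 : act 5 n54596 = n118558 := rfl
def n118559 : Q := act 6 n54596
theorem D118559 : act 6 n54596 = n118559 := rfl
def n118560 : Q := act 3 n54597
theorem D118560 : act 3 n54597 = n118560 := rfl
theorem F186472 : act 4 n118560 = n69904 := d5_2 F86282 D118560 (iv3 D69904) (iv4 D32462) (iv3 F51528)
def n118561 : Q := act 5 n54597
theorem D118561 : act 5 n54597 = n118561 := rfl
def n118562 : Q := act 6 n54597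
theorem D118562 : act 6 n54597 = n118562 := rfl
theorem F186473 : act 4 n118562 = n69877 := d10_1 D118562 F106301 F86282
def n118563 : Q := act 0 n54598
theorem D118563 : act 0 n54598 = n118563 := rfl
theorem F186474 : act 1 n63262 = n118563 := d15_0 (iv0 D118563) (iv7 F86284) (iv2 F98489)
def n118564 : Q := act 1 n54598
theorem D118564 : act 1 n54598 = n118564 := rfl
theorem F186475 : act 4 n61173 = n118564 := d20_6 F23014 (iv1 F10965) F10962 (iv3 F23039) D28972 D61173 (iv1 D118564) F86283 (iv3 D26418) (iv1 F23016)
theorem F186476 : act 0 n63262 = n118564 := d20_7 (iv4 F98052) (iv1 F98057) (iv4 F108230) (iv3 D71756) (iv1 F52396) F48259 D63262 (iv4 F186475) (iv3 D61173) (iv1 F47845)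
def n118565 : Q := act 2 n54598
theorem D118565 : act 2 n54598 = n118565 := rfl
theorem F186477 : act 4 n118565 = n54627 := d1_2 (iv4 F86283) D118565 (iv2 D54627)
theorem F186478 : act 7 n118565 = n63262 := d4_2 F86284 D118565 F98489
theorem F186479 : act 1 n118565 = n63274 := d15_0 (iv0 D63274) F86284 D118565
theorem F186480 : act 1 n63275 = n118565 := d15_1 D63275 F186478 F98489
def n118566 : Q := act 5 n54598
theorem D118566 : act 5 n54598 = n118566 := rfl
theorem F186481 : act 3 n118566 = n54599 := d6_1 D118566 (iv5 D54599) D54598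
theorem F186482 : act 7 n118566 = n63276 := d13_2 F86284 D118566 (iv5 D63276)
def n118567 : Q := act 0 n54599
theorem D118567 : act 0 n54599 = n118567 := rfl
def n118568 : Q := act 1 n54599
theorem D118568 : act 1 n54599 = n118568 := rfl
def n118569 : Q := act 4 n54599
theorem D118569 : act 4 n54599 = n118569 := rfl
def n118570 : Q := act 6 n54599
theorem D118570 : act 6 n54599 = n118570 := rfl
def n118571 : Q := act 7 n54599
theorem D118571 : act 7 n54599 = n118571 := rfl
theorem F186483 : act 3 n118571 = n63276 := d8_1 D118571 (iv7 F186482) F186481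
theorem F186484 : act 5 n118571 = n54600 := d13_1 D118571 (iv7 D54600) D54599
def n118572 : Q := act 6 n54600
theorem D118572 : act 6 n54600 = n118572 := rfl
theorem F186485 : act 3 n118572 = n63277 := d7_1 D118572 (iv6 D63277) (iv3 F86285)
theorem F186486 : act 4 n118572 = n54601 := d10_1 D118572 (iv6 D54601) (iv4 F86286)
def n118573 : Q := act 0 n54601
theorem D118573 : act 0 n54601 = n118573 := rfl
def n118574 : Q := act 1 n54601
theorem D118574 : act 1 n54601 = n118574 := rfl
def n118576 : Q := act 3 n54602
theorem D118576 : act 3 n54602 = n118576 := rfl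
def n118577 : Q := act 4 n54602
theorem D118577 : act 4 n54602 = n118577 := rfl
theorem F186489 : act 0 n118577 = n118157 := d20_1 D118577 (iv4 D118157) (iv3 D54432) (iv1 D26325) F20895 F9266 D6220 F42177 D26405 D54602
def n118579 : Q := act 6 n54602
theorem D118579 : act 6 n54602 = n118579 := rfl
def n118585 : Q := act 4 n54604
theorem D118585 : act 4 n54604 = n118585 := rfl
theorem F186491 : act 2 n118585 = n54605 := d1_1 D118585 (iv4 D54605) D54604
theorem F186492 : act 7 n118585 = n71717 := d11_2 (iv7 F86291) D118585 (iv4 D71717)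
theorem F186494 : act 1 n118585 = n71720 := d15_0 (iv0 D71720) (iv7 F86296) (iv2 F186491)
theorem F186495 : act 4 n118154 = n71720 := d20_0 (iv1 F186494) (iv4 D118585) F86290 (iv1 F86307) (iv3 F107011) (iv4 F185650) (iv1 F185651) (iv4 D54433) D54432 D118154
theorem F186496 : act 3 n118154 = n70688 := d20_3 D33158 D71720 (iv4 F186495) (iv1 D70688) (iv3 D32778) D32779 D70694 F108193 (iv3 D71713) (iv1 D33156)
theorem F186497 : act 4 n70688 = n118506 := d20_6 (iv4 F185650) (iv1 F185651) (iv4 D54433) D54432 D118154 F186496 (iv1 D118506) (iv4 D54575) (iv3 F53238) F107014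
def n118586 : Q := act 5 n54604
theorem D118586 : act 5 n54604 = n118586 := rfl
theorem F186498 : act 2 n118586 = n54606 := d2_1 D118586 (iv5 D54606) D54604
theorem F186500 : act 7 n118586 = n71718 := d13_2 (iv7 F86291) D118586 (iv5 D71718)
def n118587 : Q := act 0 n54605
theorem D118587 : act 0 n54605 = n118587 := rfl
theorem F186503 : act 1 n71717 = n118587 := d15_0 (iv0 D118587) F86296 (iv2 F108194)
def n118588 : Q := act 1 n54605
theorem D118588 : act 1 n54605 = n118588 := rfl
theorem F186504 : act 1 n118588 = n71717 := d15_1 D118588 (iv7 F186492) F186491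
theorem F186505 : act 4 n70818 = n118588 := d20_6 F11732 (iv1 F9654) F30457 D15716 D32823 D70818 (iv1 D118588) (iv4 D54605) (iv3 D26405) (iv1 F20987)
def n118589 : Q := act 5 n54605
theorem D118589 : act 5 n54605 = n118589 := rfl
theorem F186507 : act 7 n118589 = n71722 := d13_2 (iv7 F86296) D118589 (iv5 D71722)
def n118590 : Q := act 6 n54605
theorem D118590 : act 6 n54605 = n118590 := rfl
theorem F186508 : act 3 n118590 = n56827 := d7_1 D118590 (iv6 D56827) (iv3 F86295)
theorem F186509 : act 4 n118590 = n54607 := d10_1 D118590 (iv6 D54607) D54605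
def n118591 : Q := act 0 n54606
theorem D118591 : act 0 n54606 = n118591 := rfl
theorem F186510 : act 1 n71718 = n118591 := d15_0 (iv0 D118591) F86298 (iv2 F108195)
def n118592 : Q := act 1 n54606
theorem D118592 : act 1 n54606 = n118592 := rfl
theorem F186511 : act 1 n118592 = n71718 := d15_1 D118592 (iv7 F186500) F186498
def n118593 : Q := act 4 n54606
theorem D118593 : act 4 n54606 = n118593 := rfl
theorem F186512 : act 7 n118593 = n71726 := d11_2 (iv7 F86298) D118593 (iv4 D71726)
def n118594 : Q := act 6 n54606
theorem D118594 : act 6 n54606 = n118594 := rfl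
def n118595 : Q := act 0 n54607
theorem D118595 : act 0 n54607 = n118595 := rfl
def n118596 : Q := act 1 n54607
theorem D118596 : act 1 n54607 = n118596 := rfl
def n118598 : Q := act 6 n54608
theorem D118598 : act 6 n54608 = n118598 := rfl
theorem F186516 : act 4 n118598 = n54609 := d10_1 D118598 (iv6 D54609) D54608
def n118599 : Q := act 7 n54609
theorem D118599 : act 7 n54609 = n118599 := rfl
theorem F186517 : act 2 n118599 = n71706 := d4_1 D118599 (iv7 D71706) (iv2 F86302)
theorem F186518 : act 6 n118599 = n61543 := d14_1 D118599 F96078 (iv6 D33162) F42193 D54609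
theorem F186519 : act 1 n70557 = n118599 := d15_1 (iv0 F107020) (iv7 D118599) F86302
theorem F186520 : act 1 n118599 = n61549 := d15_1 F186519 (iv7 F186146) (iv2 F186147)
def n118600 : Q := act 4 n54610
theorem D118600 : act 4 n54610 = n118600 := rfl
theorem F186521 : act 2 n118600 = n54825 := d1_1 D118600 F86760 F86304
theorem F186522 : act 6 n118600 = n54869 := d10_2 F86305 D118600 F86812
theorem F186523 : act 7 n118600 = n54767 := d11_2 (iv7 F86303) D118600 F86638
theorem F186524 : act 3 n82763 = n118600 := d20_5 F27523 D21970 F118185 D38038 D82763 (iv4 D118600) (iv1 D54610) D54612 F86312 (iv1 F117956)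
theorem F186525 : act 0 n54822 = n118600 := d20_7 (iv4 F149233) (iv1 D96761) F71289 F41977 D32751 D70605 (iv4 F107076) (iv4 D118600) (iv3 F107011) (iv1 F112450)
theorem F186526 : act 6 n98258 = n82763 := d7_0 F186524 F186522 (iv3 F151621)
theorem F186527 : act 7 n98179 = n82763 := d8_0 F186524 F186523 (iv3 F151464)
theorem E18501 : n82764 = n77639 := ((c15_4 F152332 F152330 (iv7 F186527) F151463)).symm
theorem F186529 : act 0 n77639 = n38038 := (sb E18501 (iv1 D82764))
theorem F186531 : act 1 n54823 = n118600 := d15_1 D54823 F186523 F86637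
theorem F186532 : act 2 n70712 = n54823 := d15_3 F186531 (iv0 F186525) (iv7 F155344)
theorem F186533 : act 4 n54823 = n70711 := d1_2 D70712 F186532 (iv2 D70711)
def n118601 : Q := act 4 n54611
theorem D118601 : act 4 n54611 = n118601 := rfl
theorem F186534 : act 2 n118601 = n54612 := d1_1 D118601 (iv4 D54612) D54611
theorem F186535 : act 7 n118601 = n54827 := d11_2 (iv7 F86309) D118601 (iv4 D54827)
theorem F186536 : act 0 n118601 = n71693 := d20_1 D118601 (iv4 F124879) (iv3 D81086) (iv1 F57982) (iv3 F57924) (iv4 F124742) (iv1 F124745) (iv4 F107301) F86663 (iv1 F86310)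
theorem F186537 : act 3 n82797 = n118601 := d0_0 F186534 F86312 (iv2 F117957) D38085 D82797
theorem F186538 : act 1 n118601 = n71692 := d15_0 (iv0 D71692) (iv7 F86313) (iv2 F186534)
def n118602 : Q := act 5 n54611
theorem D118602 : act 5 n54611 = n118602 := rfl
theorem F186541 : act 7 n118602 = n54828 := d13_2 (iv7 F86309) D118602 (iv5 D54828)
theorem F186542 : act 0 n71696 = n118602 := d21_7 (iv5 D85038) (iv1 F60295) F29927 (iv6 F21105) (iv1 F42522) D54909 (iv5 F108178) (iv5 D118602) (iv6 F130435) (iv1 F130506)
theorem F186543 : act 1 n71697 = n118602 := d15_1 D71697 F186541 F86765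
def n118603 : Q := act 0 n54612
theorem D118603 : act 0 n54612 = n118603 := rfl
theorem F186544 : act 1 n54827 = n118603 := d15_0 (iv0 D118603) F86313 (iv2 F86764)
theorem F186545 : act 4 n70709 = n118603 := d20_0 (iv1 F186544) (iv4 D54827) (iv3 F86290) (iv1 F86294) D71713 (iv4 F108193) (iv1 F107159) (iv4 D32784) D32783 D70709
theorem F186546 : act 3 n70709 = n118147 := d20_3 D54612 D118603 (iv4 F186545) (iv1 D118147) (iv3 D54429) D54430 D118149 F185650 F107011 (iv1 D54610)
def n118604 : Q := act 1 n54612
theorem D118604 : act 1 n54612 = n118604 := rfl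
theorem F186547 : act 1 n118604 = n54827 := d15_1 D118604 (iv7 F186535) F186534
theorem F186548 : act 4 n70784 = n118604 := d20_6 F9300 D6199 F30461 D15711 D32810 D70784 (iv1 D118604) (iv4 D54612) (iv3 D26410) (iv1 D12602)
def n118605 : Q := act 5 n54612
theorem D118605 : act 5 n54612 = n118605 := rfl
theorem F186549 : act 3 n118605 = n56852 := d6_1 D118605 (iv5 D56852) (iv3 F86312)
theorem F186550 : act 7 n118605 = n71694 := d13_2 (iv7 F86313) D118605 (iv5 D71694)
def n118606 : Q := act 6 n54612
theorem D118606 : act 6 n54612 = n118606 := rfl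
theorem F186551 : act 3 n118606 = n56853 := d7_1 D118606 (iv6 D56853) (iv3 F86312)
theorem F186552 : act 4 n118606 = n54614 := d10_1 D118606 (iv6 D54614) D54612
theorem F186553 : act 1 n83746 = n118606 := d17_8 (iv1 F130509) (iv5 D39375) (iv1 F60297) F60294 (iv4 F59391) (iv5 F128713) F128716 D83746 F186552
def n118607 : Q := act 0 n54613
theorem D118607 : act 0 n54613 = n118607 := rfl
theorem F186554 : act 2 n71697 = n118607 := d15_3 (iv0 D118607) (iv0 F130510) (iv7 F162729)
theorem F186555 : act 1 n54828 = n118607 := d15_0 (iv0 D118607) F86315 (iv2 F86765)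
theorem F186556 : act 7 n118607 = n71696 := d15_2 (iv0 F87029) F186555 (iv2 F162728)
def n118608 : Q := act 4 n54613
theorem D118608 : act 4 n54613 = n118608 := rfl
def n118610 : Q := act 6 n54615
theorem D118610 : act 6 n54615 = n118610 := rfl
theorem F186559 : act 2 n118610 = n71732 := d3_1 D118610 (iv6 D71732) (iv2 F86317)
theorem F186560 : act 4 n118610 = n54616 := d10_1 D118610 (iv6 D54616) D54615
theorem F186561 : act 0 n61071 = n118610 := d21_4 F23401 (iv1 F23289) (iv5 F46574) D61071 (iv6 D118610) (iv5 F98125) (iv1 D62899) (iv5 D29760) (iv6 D14141) (iv1 F23399)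
def n118613 : Q := act 2 n54617
theorem D118613 : act 2 n54617 = n118613 := rfl
theorem F186563 : act 3 n118613 = n54829 := d0_2 D54617 D118613 F130312 (iv3 D33164) (iv2 F42647)
theorem F186564 : act 5 n118613 = n74011 := d2_2 (iv5 F86321) D118613 (iv2 D74011)
theorem F186565 : act 7 n118613 = n71743 := d4_2 (iv7 F86322) D118613 (iv2 D71743)
theorem F186568 : act 1 n71742 = n118613 := d15_1 D71742 F186565 (iv2 D71743)
def n118614 : Q := act 4 n54617
theorem D118614 : act 4 n54617 = n118614 := rfl
theorem F186569 : act 7 n118614 = n71744 := d11_2 (iv7 F86322) D118614 (iv4 D71744)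
def n118615 : Q := act 6 n54617
theorem D118615 : act 6 n54617 = n118615 := rfl
theorem F186570 : act 3 n118615 = n54618 := d7_1 D118615 (iv6 D54618) D54617
def n118616 : Q := act 1 n54618
theorem D118616 : act 1 n54618 = n118616 := rfl
theorem F186571 : act 1 n118616 = n71740 := d15_1 D118616 (iv7 D71740) (iv2 F86323)
theorem F186572 : act 7 n118616 = n61505 := d15_2 (iv0 F97819) D118616 F162943
theorem F186573 : act 2 n71738 = n118616 := d4_3 F186572 F162943 (iv7 F162944)
theorem F186574 : act 1 n71740 = n62707 := d15_1 F186571 (iv7 F162944) F186573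
def n118617 : Q := act 7 n54618
theorem D118617 : act 7 n54618 = n118617 := rfl
theorem F186575 : act 2 n118617 = n71740 := d4_1 D118617 (iv7 D71740) (iv2 F86323)
theorem F186576 : act 5 n118617 = n75134 := d13_1 D118617 F112667 (iv5 F106136)
theorem F186577 : act 6 n118617 = n71747 := d14_1 D118617 (iv7 D71747) (iv6 D33167) (iv7 F42645) D54618
theorem F186578 : act 1 n71738 = n118617 := d15_1 D71738 (iv7 D118617) F86323
theorem F186579 : act 1 n118617 = n61505 := d15_1 F186578 (iv7 F186572) (iv2 F186573)
def n118618 : Q := act 4 n54619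
theorem D118618 : act 4 n54619 = n118618 := rfl
def n118619 : Q := act 6 n54619
theorem D118619 : act 6 n54619 = n118619 := rfl
theorem F186582 : act 5 n118619 = n73527 := d12_1 D118619 (iv6 D73527) (iv5 D33796) D33797 (iv5 F86324)
def n118620 : Q := act 0 n54620
theorem D118620 : act 0 n54620 = n118620 := rfl
theorem F186583 : act 5 n118620 = n55633 := d21_0 (iv1 F88011) F55677 F47667 (iv1 F47706) (iv6 F53039) (iv5 F53066) F53062 F42162 D54620 D118620
theorem F186584 : act 2 n71746 = n118620 := d15_3 (iv0 D118620) (iv0 F105637) F108212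
theorem F186585 : act 7 n118620 = n61410 := d4_2 F108212 F186584 F105946
theorem F186586 : act 1 n71747 = n118620 := d15_1 F108213 F186585 F105946
def n118621 : Q := act 7 n54620
theorem D118621 : act 7 n54620 = n118621 := rfl
theorem F186588 : act 5 n118621 = n73537 := d13_1 D118621 (iv7 D73537) (iv5 F86327)
theorem F186589 : act 6 n118621 = n71740 := d14_1 D118621 (iv7 D71740) (iv6 D33165) F42648 D54620
def n118624 : Q := act 2 n54621
theorem D118624 : act 2 n54621 = n118624 := rfl
theorem F186592 : act 3 n118624 = n71750 := d0_2 D54621 D118624 (iv2 D71750) (iv3 D33168) (iv2 F42163)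
theorem F186593 : act 6 n118624 = n54627 := d3_2 (iv6 F86328) D118624 (iv2 D54627)
def n118625 : Q := act 5 n54621
theorem D118625 : act 5 n54621 = n118625 := rfl
theorem F186594 : act 3 n118625 = n54622 := d6_1 D118625 (iv5 D54622) D54621
theorem F186595 : act 6 n118625 = n63283 := d12_2 (iv6 F86328) D118625 (iv5 D63283) (iv6 D29902) (iv5 F42204)
theorem F186596 : act 7 n81175 = n118625 := d8_0 F186594 (iv7 F86332) D81175
def n118626 : Q := act 7 n54621
theorem D118626 : act 7 n54621 = n118626 := rfl
theorem F186598 : act 5 n118626 = n81175 := d13_1 D118626 F186596 (iv5 D118625)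
theorem F186599 : act 6 n118626 = n63280 := d14_1 D118626 (iv7 D63280) (iv6 D29901) (iv7 F42205) (iv6 F86328)
def n118627 : Q := act 2 n54625
theorem D118627 : act 2 n54625 = n118627 := rfl
theorem F186600 : act 7 n54626 = n118627 := d15_2 (iv0 D54625) D54626 (iv2 D118627)
def n118628 : Q := act 3 n54625
theorem D118628 : act 3 n54625 = n118628 := rfl
theorem F186601 : act 4 n118628 = n62436 := d20_6 F23395 F10906 D12605 D26418 D54625 D118628 (iv1 D62436) (iv4 D29517) F23390 D14027
def n118629 : Q := act 4 n54625
theorem D118629 : act 4 n54625 = n118629 := rfl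
def n118630 : Q := act 5 n54625
theorem D118630 : act 5 n54625 = n118630 := rfl
def n118631 : Q := act 6 n54625
theorem D118631 : act 6 n54625 = n118631 := rfl
def n118632 : Q := act 7 n54625
theorem D118632 : act 7 n54625 = n118632 := rfl
theorem F186602 : act 2 n118632 = n54626 := d4_1 D118632 F186600 (iv2 D118627)
def n118634 : Q := act 4 n54626
theorem D118634 : act 4 n54626 = n118634 := rfl
def n118635 : Q := act 5 n54626
theorem D118635 : act 5 n54626 = n118635 := rfl
def n118636 : Q := act 6 n54626
theorem D118636 : act 6 n54626 = n118636 := rfl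
def n118637 : Q := act 2 n54628
theorem D118637 : act 2 n54628 = n118637 := rfl
theorem F186603 : act 7 n54629 = n118637 := d15_2 (iv0 D54628) D54629 (iv2 D118637)
def n118638 : Q := act 3 n54628
theorem D118638 : act 3 n54628 = n118638 := rfl
def n118639 : Q := act 4 n54628
theorem D118639 : act 4 n54628 = n118639 := rfl
def n118640 : Q := act 5 n54628
theorem D118640 : act 5 n54628 = n118640 := rfl
theorem F186604 : act 0 n71273 = n118640 := d21_10 (iv5 D118640) (iv1 F86352) (iv5 F86581) (iv6 D54745) (iv1 F42354) D33325 (iv5 F87202) F107766 (iv5 D71272) D71273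
def n118641 : Q := act 7 n54628
theorem D118641 : act 7 n54628 = n118641 := rfl
theorem F186605 : act 2 n118641 = n54629 := d4_1 D118641 F186603 (iv2 D118637)
def n118642 : Q := act 3 n54629
theorem D118642 : act 3 n54629 = n118642 := rfl
def n118643 : Q := act 4 n54629
theorem D118643 : act 4 n54629 = n118643 := rfl
def n118644 : Q := act 5 n54629
theorem D118644 : act 5 n54629 = n118644 := rfl
theorem F186606 : act 6 n118644 = n71254 := d21_3 F86581 (iv1 F86353) D118644 (iv1 F112373) F112371 F85571 (iv1 F41627) D32234 (iv6 F52593) F86583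
def n118645 : Q := act 6 n54629
theorem D118645 : act 6 n54629 = n118645 := rfl
def n118646 : Q := act 6 n54630
theorem D118646 : act 6 n54630 = n118646 := rfl
theorem F186607 : act 2 n118646 = n71320 := d3_1 D118646 (iv6 D71320) F86356
theorem F186608 : act 3 n118646 = n69788 := d7_1 D118646 (iv6 D69788) (iv3 F86355)
theorem F186609 : act 5 n118646 = n89014 := d12_1 D118646 (iv6 D89014) F64151 F55697 (iv5 F86354)
def n118647 : Q := act 6 n54631
theorem D118647 : act 6 n54631 = n118647 := rfl
theorem F186610 : act 2 n118647 = n71364 := d3_1 D118647 (iv6 D71364) (iv2 F86359)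
theorem F186611 : act 4 n118647 = n54632 := d10_1 D118647 (iv6 D54632) D54631
def n118648 : Q := act 0 n54632
theorem D118648 : act 0 n54632 = n118648 := rfl
def n118649 : Q := act 1 n54632
theorem D118649 : act 1 n54632 = n118649 := rfl
theorem F186612 : act 1 n118649 = n71367 := d15_1 D118649 (iv7 D71367) (iv2 F86363)
def n118650 : Q := act 7 n54632
theorem D118650 : act 7 n54632 = n118650 := rfl
theorem F186613 : act 2 n118650 = n71367 := d4_1 D118650 (iv7 D71367) (iv2 F86363)
theorem F186614 : act 6 n118650 = n71326 := d14_1 D118650 (iv7 D71326) (iv6 D33004) (iv7 F42210) D54632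
theorem F186615 : act 1 n71367 = n118648 := d15_0 (iv0 D118648) D118650 F186613
theorem F186616 : act 1 n71366 = n118650 := d15_1 D71366 (iv7 D118650) F86363
theorem F186617 : act 1 n118650 = n71365 := d15_0 (iv0 D71365) D71367 (iv2 F186613)
def n118651 : Q := act 3 n54633
theorem D118651 : act 3 n54633 = n118651 := rfl
theorem F186618 : act 2 n118651 = n79325 := d0_1 D118651 (iv3 D79325) (iv2 F86936) F86932 F86366
theorem F186619 : act 4 n118651 = n60166 := d5_2 (iv4 F86364) D118651 (iv3 D60166) (iv4 D28602) D28601
theorem F186620 : act 5 n118651 = n98483 := d6_2 F90500 D118651 F151886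
theorem F186621 : act 7 n118651 = n60223 := d8_2 F86367 D118651 (iv3 D60223)
theorem F186622 : act 0 n118651 = n101286 := d19_4 (iv1 F26706) (iv5 F46162) (iv4 F86364) D118651 F156069 (iv4 D87536) (iv3 F72569) (iv1 F73764) (iv5 D46669) (iv4 F51670) F51669 (iv1 F32624) F36975 F36974 F18137 F9552 (iv5 D6137) F26399 D7328
theorem F186623 : act 1 n118651 = n98340 := d15_1 (iv0 F186622) (iv7 F153997) (iv2 F156067)
def n118652 : Q := act 6 n54633
theorem D118652 : act 6 n54633 = n118652 := rfl
theorem F186624 : act 2 n118652 = n71330 := d3_1 D118652 (iv6 D71330) F86366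
theorem F186625 : act 4 n118652 = n60165 := d10_1 D118652 (iv6 D60165) (iv4 F86364)
def n118653 : Q := act 0 n54635
theorem D118653 : act 0 n54635 = n118653 := rfl
def n118654 : Q := act 1 n54635
theorem D118654 : act 1 n54635 = n118654 := rfl
theorem F186626 : act 1 n118654 = n71374 := d15_1 D118654 (iv7 D71374) (iv2 F86373)
def n118655 : Q := act 5 n54635
theorem D118655 : act 5 n54635 = n118655 := rfl
theorem F186627 : act 2 n118655 = n71373 := d2_1 D118655 (iv5 D71373) (iv2 F86373)
theorem F186628 : act 3 n118655 = n101278 := d6_1 D118655 (iv5 D101278) (iv3 F86374)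
def n118656 : Q := act 7 n54635
theorem D118656 : act 7 n54635 = n118656 := rfl
theorem F186629 : act 2 n118656 = n71374 := d4_1 D118656 (iv7 D71374) (iv2 F86373)
theorem F186630 : act 3 n118656 = n101279 := d8_1 D118656 (iv7 D101279) (iv3 F86374)
theorem F186631 : act 4 n118656 = n54638 := d11_1 D118656 (iv7 D54638) (iv4 F86375)
theorem F186632 : act 6 n118656 = n71334 := d14_1 D118656 (iv7 D71334) (iv6 D33007) (iv7 F42213) D54635
theorem F186633 : act 1 n71374 = n118653 := d15_0 (iv0 D118653) D118656 F186629
theorem F186634 : act 1 n71372 = n118656 := d15_1 D71372 (iv7 D118656) F86373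
theorem F186635 : act 1 n118656 = n71371 := d15_0 (iv0 D71371) D71374 (iv2 F186629)
def n118660 : Q := act 5 n54636
theorem D118660 : act 5 n54636 = n118660 := rfl
def n118661 : Q := act 6 n54636
theorem D118661 : act 6 n54636 = n118661 := rfl
theorem F186637 : act 5 n118661 = n76623 := d21_6 (iv5 D5993) D5989 D12609 D26422 D54636 D118661 (iv1 D76623) (iv5 D35013) (iv6 D16994) F27840
def n118665 : Q := act 5 n54637
theorem D118665 : act 5 n54637 = n118665 := rfl
theorem F186639 : act 6 n68685 = n118665 := d21_5 F24819 (iv1 F37171) F50553 D31962 D68685 (iv5 D118665) (iv1 D54637) (iv5 F85299) (iv6 D54066) F50511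
def n118667 : Q := act 0 n54639
theorem D118667 : act 0 n54639 = n118667 := rfl
def n118668 : Q := act 1 n54639
theorem D118668 : act 1 n54639 = n118668 := rfl
theorem F186640 : act 1 n118668 = n84884 := d15_1 D118668 (iv7 D84884) (iv2 F86382)
def n118669 : Q := act 5 n54639
theorem D118669 : act 5 n54639 = n118669 := rfl
theorem F186641 : act 2 n118669 = n54709 := d2_1 D118669 F86521 (iv2 F86382)
theorem F186643 : act 6 n118669 = n54640 := d12_2 D54639 D118669 (iv5 D54640) (iv6 D26425) D26424
def n118670 : Q := act 7 n54639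
theorem D118670 : act 7 n54639 = n118670 := rfl
theorem F186644 : act 2 n118670 = n84884 := d4_1 D118670 (iv7 D84884) (iv2 F86382)
theorem F186646 : act 6 n118670 = n71363 := d14_1 D118670 (iv7 D71363) (iv6 D33019) (iv7 F42223) D54639
theorem F186647 : act 1 n84884 = n118667 := d15_0 (iv0 D118667) D118670 F186644
def n118671 : Q := act 4 n54640
theorem D118671 : act 4 n54640 = n118671 := rfl
theorem F186651 : act 7 n118671 = n54711 := d11_2 (iv7 F86386) D118671 (iv4 D54711)
def n118672 : Q := act 0 n54641
theorem D118672 : act 0 n54641 = n118672 := rfl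
def n118673 : Q := act 1 n54641
theorem D118673 : act 1 n54641 = n118673 := rfl
theorem F186652 : act 1 n118673 = n71326 := d15_1 D118673 (iv7 D71326) (iv2 F86388)
def n118674 : Q := act 5 n54641
theorem D118674 : act 5 n54641 = n118674 := rfl
theorem F186653 : act 2 n118674 = n71325 := d2_1 D118674 (iv5 D71325) (iv2 F86388)
theorem F186654 : act 3 n118674 = n90819 := d6_1 D118674 (iv5 F161593) F161591
theorem F186655 : act 6 n118674 = n54642 := d12_2 D54641 D118674 (iv5 D54642) (iv6 D26427) D26426
def n118675 : Q := act 7 n54641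
theorem D118675 : act 7 n54641 = n118675 := rfl
theorem F186656 : act 2 n118675 = n71326 := d4_1 D118675 (iv7 D71326) (iv2 F86388)
theorem F186657 : act 6 n118675 = n71367 := d14_1 D118675 (iv7 D71367) (iv6 D33021) (iv7 F42233) D54641
theorem F186658 : act 1 n71326 = n118672 := d15_0 (iv0 D118672) D118675 F186656
theorem F186659 : act 1 n71324 = n118675 := d15_1 D71324 (iv7 D118675) F86388
theorem F186660 : act 1 n118675 = n71323 := d15_0 (iv0 D71323) D71326 (iv2 F186656)
def n118676 : Q := act 1 n54642
theorem D118676 : act 1 n54642 = n118676 := rfl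
theorem F186661 : act 1 n118676 = n68619 := d15_1 D118676 F104823 (iv2 F86389)
theorem F186662 : act 7 n118676 = n71327 := d15_2 F166778 D118676 (iv2 F166775)
theorem F186663 : act 5 n118676 = n67896 := d17_7 (iv1 F94969) F86410 (iv1 D54650) (iv5 D26432) (iv4 F42235) D54642 D118676 F166772 F166769
theorem F186664 : act 2 n71328 = n118676 := d2_3 F186663 (iv2 F115169) F115175
def n118677 : Q := act 4 n54642
theorem D118677 : act 4 n54642 = n118677 := rfl
theorem F186665 : act 2 n118677 = n71329 := d1_1 D118677 (iv4 D71329) (iv2 F86389)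
theorem F186666 : act 0 n118677 = n115051 := d18_2 (iv1 D118676) D118677 (iv4 D115051) (iv5 F94962) F94961 (iv0 F55638) (iv4 F55648) (iv0 F103963) (iv5 F186663)
def n118678 : Q := act 6 n54643
theorem D118678 : act 6 n54643 = n118678 := rfl
theorem F186667 : act 2 n118678 = n101280 := d3_1 D118678 (iv6 D101280) (iv2 F86390)
theorem F186668 : act 3 n118678 = n54644 := d7_1 D118678 (iv6 D54644) D54643
def n118679 : Q := act 0 n54644
theorem D118679 : act 0 n54644 = n118679 := rfl
def n118680 : Q := act 1 n54644
theorem D118680 : act 1 n54644 = n118680 := rfl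
theorem F186669 : act 1 n118680 = n71334 := d15_1 D118680 (iv7 D71334) (iv2 F86393)
def n118681 : Q := act 5 n54644
theorem D118681 : act 5 n54644 = n118681 := rfl
theorem F186670 : act 2 n118681 = n71333 := d2_1 D118681 (iv5 D71333) (iv2 F86393)
def n118682 : Q := act 7 n54644
theorem D118682 : act 7 n54644 = n118682 := rfl
theorem F186671 : act 2 n118682 = n71334 := d4_1 D118682 (iv7 D71334) (iv2 F86393)
theorem F186673 : act 6 n118682 = n71374 := d14_1 D118682 (iv7 D71374) (iv6 D33024) (iv7 F42237) D54644
theorem F186674 : act 1 n71334 = n118679 := d15_0 (iv0 D118679) D118682 F186671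
theorem F186675 : act 1 n71332 = n118682 := d15_1 D71332 (iv7 D118682) F86393
theorem F186676 : act 1 n118682 = n71331 := d15_0 (iv0 D71331) D71334 (iv2 F186671)
def n118687 : Q := act 6 n54645
theorem D118687 : act 6 n54645 = n118687 := rfl
theorem F186678 : act 5 n118687 = n76579 := d21_6 (iv5 D7466) (iv1 F9311) D12614 D26429 D54645 D118687 (iv1 D76579) (iv5 D34992) (iv6 D16983) F27838
def n118692 : Q := act 6 n54646
theorem D118692 : act 6 n54646 = n118692 := rfl
def n118693 : Q := act 0 n54647
theorem D118693 : act 0 n54647 = n118693 := rfl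
def n118694 : Q := act 1 n54647
theorem D118694 : act 1 n54647 = n118694 := rfl
theorem F186680 : act 1 n118694 = n71348 := d15_1 D118694 (iv7 D71348) (iv2 F86396)
theorem F186681 : act 5 n71501 = n118694 := d21_6 F9352 D6128 F35185 D15955 D33077 D71501 (iv1 D118694) (iv5 D54647) (iv6 D26429) F27276
def n118695 : Q := act 4 n54647
theorem D118695 : act 4 n54647 = n118695 := rfl
theorem F186683 : act 6 n118695 = n54651 := d10_2 (iv6 F86397) D118695 (iv4 D54651)
def n118696 : Q := act 7 n54647
theorem D118696 : act 7 n54647 = n118696 := rfl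
theorem F186684 : act 2 n118696 = n71348 := d4_1 D118696 (iv7 D71348) (iv2 F86396)
theorem F186685 : act 5 n118696 = n54648 := d13_1 D118696 (iv7 D54648) D54647
theorem F186686 : act 1 n71348 = n118693 := d15_0 (iv0 D118693) D118696 F186684
theorem F186687 : act 1 n71346 = n118696 := d15_1 D71346 (iv7 D118696) F86396
theorem F186688 : act 5 n71616 = n118693 := d21_0 (iv1 F186686) F107836 (iv6 F86378) (iv1 F86380) D71384 (iv5 F108107) (iv1 F108111) (iv5 D33112) D33113 D71616
theorem F186689 : act 1 n118696 = n71345 := d15_0 (iv0 D71345) D71348 (iv2 F186684)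
def n118697 : Q := act 6 n54649
theorem D118697 : act 6 n54649 = n118697 := rfl
theorem F186690 : act 2 n118697 = n55223 := d3_1 D118697 (iv6 D55223) (iv2 F86403)
theorem F186691 : act 3 n118697 = n54836 := d7_1 D118697 F86776 (iv3 F86404)
theorem F186692 : act 5 n118697 = n54780 := d12_1 D118697 (iv6 D54780) F42396 (iv6 F43615) D54649
def n118698 : Q := act 3 n54651
theorem D118698 : act 3 n54651 = n118698 := rfl
def n118699 : Q := act 5 n54651
theorem D118699 : act 5 n54651 = n118699 := rfl
theorem F186693 : act 2 n118699 = n71355 := d2_1 D118699 (iv5 D71355) (iv2 F86413)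
def n118700 : Q := act 3 n54652
theorem D118700 : act 3 n54652 = n118700 := rfl
theorem F186694 : act 4 n118700 = n114439 := d5_2 D54652 D118700 (iv3 D114439) (iv4 D52818) (iv3 F42243)
theorem F186695 : act 5 n118700 = n71558 := d6_2 (iv5 F86416) D118700 (iv3 D71558)
theorem F186696 : act 7 n118700 = n71388 := d8_2 (iv7 F86415) D118700 (iv3 D71388)
theorem F186697 : act 0 n118700 = n82975 := d19_4 (iv1 F21004) D26433 D54652 D118700 (iv5 D82975) (iv4 D38190) D38189 F120306 (iv5 F120307) F116509 F108057 (iv1 F52998) (iv5 D33761) (iv4 D16319) (iv3 F21109) F27121 (iv5 D7494) D7493 (iv3 F11741)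
theorem F186698 : act 0 n82985 = n118700 := d20_4 (iv4 D44993) D44992 D96355 (iv3 F148314) (iv3 D118700) (iv4 D54652) (iv1 F42246) D33059 D71452 (iv1 F109570)
def n118701 : Q := act 6 n54652
theorem D118701 : act 6 n54652 = n118701 := rfl
theorem F186699 : act 2 n118701 = n54672 := d3_1 D118701 (iv6 D54672) (iv2 F86414)
theorem F186700 : act 4 n118701 = n54653 := d10_1 D118701 (iv6 D54653) D54652
def n118702 : Q := act 0 n54653
theorem D118702 : act 0 n54653 = n118702 := rfl
def n118703 : Q := act 1 n54653
theorem D118703 : act 1 n54653 = n118703 := rfl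
theorem F186701 : act 1 n118703 = n54676 := d15_1 D118703 (iv7 D54676) (iv2 F86419)
def n118704 : Q := act 5 n54653
theorem D118704 : act 5 n54653 = n118704 := rfl
theorem F186702 : act 2 n118704 = n54675 := d2_1 D118704 (iv5 D54675) (iv2 F86419)
theorem F186703 : act 3 n118704 = n90599 := d6_1 D118704 F139493 (iv3 F86420)
theorem F186704 : act 6 n118704 = n54654 := d12_2 D54653 D118704 (iv5 D54654) (iv6 D26434) D26433
def n118705 : Q := act 7 n54653
theorem D118705 : act 7 n54653 = n118705 := rfl
theorem F186705 : act 2 n118705 = n54676 := d4_1 D118705 (iv7 D54676) (iv2 F86419)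
theorem F186706 : act 3 n118705 = n114442 := d8_1 D118705 (iv7 D114442) (iv3 F86420)
theorem F186707 : act 6 n118705 = n71393 := d14_1 D118705 (iv7 D71393) (iv6 D33031) (iv7 F42244) D54653
theorem F186708 : act 1 n54676 = n118702 := d15_0 (iv0 D118702) D118705 F186705
theorem F186709 : act 1 n54674 = n118705 := d15_1 D54674 (iv7 D118705) F86419
theorem F186710 : act 1 n118705 = n54673 := d15_0 (iv0 D54673) D54676 (iv2 F186705)
def n118706 : Q := act 0 n54654
theorem D118706 : act 0 n54654 = n118706 := rfl
theorem F186711 : act 5 n118706 = n59806 := d17_3 (iv1 F52515) D54654 D118706 (iv4 F94176) (iv5 F52040) (iv0 F77019) (iv5 D34832) F55072 F55070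
theorem F186712 : act 2 n54679 = n118706 := d15_3 (iv0 D118706) (iv0 F114573) F114581
theorem F186713 : act 7 n118706 = n54680 := d4_2 F114581 F186712 (iv2 F114572)
theorem F186714 : act 3 n76220 = n118706 := d8_3 F186713 F86494 (iv7 F114185)
theorem F186715 : act 1 n54682 = n118706 := d15_1 F114574 F186713 (iv2 F114572)
def n118707 : Q := act 4 n54654
theorem D118707 : act 4 n54654 = n118707 := rfl
theorem F186716 : act 2 n118707 = n54681 := d1_1 D118707 (iv4 D54681) (iv2 F86421)
def n118708 : Q := act 7 n54654
theorem D118708 : act 7 n54654 = n118708 := rfl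
theorem F186717 : act 2 n118708 = n54682 := d4_1 D118708 (iv7 D54682) (iv2 F86421)
theorem F186718 : act 3 n118708 = n90296 := d8_1 D118708 F138884 (iv3 F86422)
theorem F186719 : act 5 n118708 = n54655 := d13_1 D118708 (iv7 D54655) D54654
theorem F186720 : act 1 n54680 = n118708 := d15_1 D54680 (iv7 D118708) F86421
theorem F186721 : act 1 n118708 = n54679 := d15_1 F186720 (iv7 F114581) F114572
def n118709 : Q := act 5 n54656
theorem D118709 : act 5 n54656 = n118709 := rfl
theorem F186722 : act 2 n118709 = n56279 := d2_1 D118709 (iv5 D56279) (iv2 F86429)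
theorem F186723 : act 3 n118709 = n54657 := d6_1 D118709 (iv5 D54657) D54656
theorem F186726 : act 1 n118709 = n79215 := d17_6 D56010 (iv5 F151494) (iv1 F151498) (iv5 D71848) (iv4 F86430) D118709 (iv5 D79215) (iv0 D36062) (iv4 F43663)
def n118710 : Q := act 6 n54656
theorem D118710 : act 6 n54656 = n118710 := rfl
theorem F186728 : act 3 n118710 = n54658 := d7_1 D118710 (iv6 D54658) D54656
def n118711 : Q := act 6 n54657
theorem D118711 : act 6 n54657 = n118711 := rfl
theorem F186730 : act 2 n118711 = n54687 := d3_1 D118711 (iv6 D54687) (iv2 F86436)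
theorem F186731 : act 4 n118711 = n71458 := d10_1 D118711 (iv6 D71458) (iv4 F86437)
def n118712 : Q := act 1 n54658
theorem D118712 : act 1 n54658 = n118712 := rfl
theorem F186732 : act 1 n118712 = n54691 := d15_1 D118712 (iv7 D54691) (iv2 F86441)
theorem F186733 : act 7 n118712 = n54688 := d15_2 (iv0 F107481) D118712 (iv2 F110580)
theorem F186734 : act 2 n54689 = n118712 := d4_3 F186733 (iv2 F110580) F110579
def n118713 : Q := act 5 n54658
theorem D118713 : act 5 n54658 = n118713 := rfl
theorem F186735 : act 2 n118713 = n54690 := d2_1 D118713 (iv5 D54690) (iv2 F86441)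
def n118714 : Q := act 7 n54658
theorem D118714 : act 7 n54658 = n118714 := rfl
theorem F186737 : act 4 n118714 = n54662 := d11_1 D118714 (iv7 D54662) (iv4 F86442)
theorem F186739 : act 1 n54689 = n118714 := d15_1 D54689 (iv7 D118714) F86441
theorem F186740 : act 1 n118714 = n54688 := d15_1 F186739 (iv7 F186733) (iv2 F186734)
def n118715 : Q := act 2 n54659
theorem D118715 : act 2 n54659 = n118715 := rfl
theorem F186741 : act 7 n54660 = n118715 := d15_2 (iv0 D54659) D54660 (iv2 D118715)
def n118716 : Q := act 3 n54659
theorem D118716 : act 3 n54659 = n118716 := rfl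
def n118717 : Q := act 4 n54659
theorem D118717 : act 4 n54659 = n118717 := rfl
def n118718 : Q := act 5 n54659
theorem D118718 : act 5 n54659 = n118718 := rfl
def n118719 : Q := act 7 n54659
theorem D118719 : act 7 n54659 = n118719 := rfl
theorem F186742 : act 2 n118719 = n54660 := d4_1 D118719 F186741 (iv2 D118715)
def n118720 : Q := act 4 n54660
theorem D118720 : act 4 n54660 = n118720 := rfl
def n118721 : Q := act 5 n54660
theorem D118721 : act 5 n54660 = n118721 := rfl
theorem F186743 : act 6 n69336 = n118721 := d21_5 F86462 (iv1 D28375) D28376 (iv6 F51170) D69336 (iv5 D118721) (iv1 D54660) D54661 F86446 D54665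
def n118722 : Q := act 6 n54660
theorem D118722 : act 6 n54660 = n118722 := rfl
def n118723 : Q := act 0 n54661
theorem D118723 : act 0 n54661 = n118723 := rfl
def n118724 : Q := act 1 n54661
theorem D118724 : act 1 n54661 = n118724 := rfl
theorem F186744 : act 1 n118724 = n54705 := d15_1 D118724 (iv7 D54705) (iv2 F86444)
theorem F186745 : act 5 n55117 = n118724 := d21_6 (iv5 F35189) (iv1 D6129) (iv5 F9352) D12729 D26635 D55117 (iv1 D118724) (iv5 D54661) (iv6 D26436) (iv1 F21008)
def n118725 : Q := act 4 n54661
theorem D118725 : act 4 n54661 = n118725 := rfl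
theorem F186746 : act 2 n118725 = n54704 := d1_1 D118725 (iv4 D54704) (iv2 F86444)
theorem F186747 : act 6 n118725 = n54666 := d10_2 (iv6 F86446) D118725 (iv4 D54666)
def n118726 : Q := act 7 n54661
theorem D118726 : act 7 n54661 = n118726 := rfl
theorem F186748 : act 2 n118726 = n54705 := d4_1 D118726 (iv7 D54705) (iv2 F86444)
theorem F186749 : act 3 n118726 = n71867 := d8_1 D118726 (iv7 D71867) (iv3 F86445)
theorem F186750 : act 5 n118726 = n54662 := d13_1 D118726 (iv7 D54662) D54661
theorem F186751 : act 1 n54705 = n118723 := d15_0 (iv0 D118723) D118726 F186748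
theorem F186752 : act 1 n54703 = n118726 := d15_1 D54703 (iv7 D118726) F86444
theorem F186753 : act 1 n118726 = n54702 := d15_0 (iv0 D54702) D54705 (iv2 F186748)
def n118727 : Q := act 5 n54663
theorem D118727 : act 5 n54663 = n118727 := rfl
theorem F186754 : act 2 n118727 = n54710 := d2_1 D118727 (iv5 D54710) (iv2 F86453)
theorem F186755 : act 3 n118727 = n54859 := d6_1 D118727 (iv5 D54859) (iv3 F86454)
theorem F186756 : act 7 n118727 = n54706 := d13_2 (iv7 F86456) D118727 (iv5 D54706)
def n118728 : Q := act 4 n54664
theorem D118728 : act 4 n54664 = n118728 := rfl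
theorem F186757 : act 2 n118728 = n54711 := d1_1 D118728 (iv4 D54711) (iv2 F86458)
theorem F186758 : act 7 n118728 = n54708 := d11_2 (iv7 F86460) D118728 (iv4 D54708)
def n118729 : Q := act 6 n54664
theorem D118729 : act 6 n54664 = n118729 := rfl
theorem F186759 : act 2 n118729 = n54712 := d3_1 D118729 (iv6 D54712) (iv2 F86458)
theorem F186761 : act 5 n118729 = n68719 := d12_1 D118729 (iv6 D68719) (iv5 D31972) (iv6 F42260) D54664
def n118730 : Q := act 4 n54665
theorem D118730 : act 4 n54665 = n118730 := rfl
theorem F186762 : act 2 n118730 = n54714 := d1_1 D118730 (iv4 D54714) (iv2 F86466)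
theorem F186763 : act 7 n118730 = n54716 := d11_2 F86464 D118730 (iv4 D54716)
theorem F186764 : act 1 n118730 = n60125 := d18_6 D32581 D70200 F106658 (iv4 D59816) (iv5 F86462) D118730 (iv4 D60125) (iv0 F56750) (iv5 D32583)
def n118731 : Q := act 6 n54665
theorem D118731 : act 6 n54665 = n118731 := rfl
theorem F186765 : act 2 n118731 = n54715 := d3_1 D118731 (iv6 D54715) (iv2 F86466)
theorem F186766 : act 3 n118731 = n74021 := d7_1 D118731 (iv6 D74021) F86463
theorem F186767 : act 5 n118731 = n74021 := d12_1 D118731 (iv6 D74021) (iv5 F55657) F55658 (iv5 F86462)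
def n118732 : Q := act 1 n54666
theorem D118732 : act 1 n54666 = n118732 := rfl
theorem F186768 : act 1 n118732 = n54722 := d15_1 D118732 (iv7 D54722) (iv2 F86469)
theorem F186769 : act 7 n118732 = n54718 := d15_2 F107523 D118732 (iv2 F107524)
theorem F186770 : act 4 n118732 = n70188 := d18_7 (iv1 F55073) F55070 (iv1 F52515) F42249 D26438 D54666 D118732 (iv0 F106638) (iv5 D34829)
theorem F186771 : act 2 n54719 = n118732 := d1_3 F186770 F106634 F86526
def n118733 : Q := act 3 n54666
theorem D118733 : act 3 n54666 = n118733 := rfl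
theorem F186772 : act 4 n118733 = n71874 := d5_2 D54666 D118733 (iv3 D71874) (iv4 D33214) (iv3 F42264)
def n118734 : Q := act 5 n54666
theorem D118734 : act 5 n54666 = n118734 := rfl
theorem F186773 : act 2 n118734 = n54721 := d2_1 D118734 (iv5 D54721) (iv2 F86469)
theorem F186774 : act 0 n118734 = n76262 := d17_2 (iv1 D118732) D118734 (iv5 D76262) (iv4 D34835) (iv5 D16885) D16884 D34832 (iv0 F106637) (iv4 F186770)
def n118735 : Q := act 7 n54666
theorem D118735 : act 7 n54666 = n118735 := rfl
theorem F186775 : act 2 n118735 = n54722 := d4_1 D118735 (iv7 D54722) (iv2 F86469)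
theorem F186776 : act 4 n118735 = n54667 := d11_1 D118735 (iv7 D54667) D54666
theorem F186777 : act 1 n54719 = n118735 := d15_1 D54719 (iv7 D118735) F86469
theorem F186778 : act 1 n118735 = n54718 := d15_1 F186777 (iv7 F186769) (iv2 F186771)
def n118736 : Q := act 6 n54667
theorem D118736 : act 6 n54667 = n118736 := rfl
theorem F186779 : act 2 n118736 = n54723 := d3_1 D118736 (iv6 D54723) (iv2 F86470)
theorem F186780 : act 3 n118736 = n55038 := d7_1 D118736 (iv6 D55038) (iv3 F86471)
theorem F186781 : act 5 n118736 = n71427 := d12_1 D118736 (iv6 D71427) F52265 (iv6 F42267) (iv5 F86472)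
def n118737 : Q := act 6 n54668
theorem D118737 : act 6 n54668 = n118737 := rfl
theorem F186782 : act 2 n118737 = n71441 := d3_1 D118737 (iv6 D71441) (iv2 F86475)
theorem F186784 : act 4 n118737 = n54669 := d10_1 D118737 (iv6 D54669) D54668
def n118738 : Q := act 0 n54669
theorem D118738 : act 0 n54669 = n118738 := rfl
def n118739 : Q := act 1 n54669
theorem D118739 : act 1 n54669 = n118739 := rfl
theorem F186785 : act 1 n118739 = n71444 := d15_1 D118739 (iv7 D71444) (iv2 F86479)
def n118740 : Q := act 7 n54669
theorem D118740 : act 7 n54669 = n118740 := rfl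
theorem F186786 : act 2 n118740 = n71444 := d4_1 D118740 (iv7 D71444) (iv2 F86479)
theorem F186787 : act 3 n118740 = n118463 := d8_1 D118740 (iv7 D118463) (iv3 F86480)
theorem F186788 : act 6 n118740 = n71435 := d14_1 D118740 (iv7 D71435) (iv6 D33053) (iv7 F42272) D54669
theorem F186789 : act 1 n71444 = n118738 := d15_0 (iv0 D118738) D118740 F186786
theorem F186790 : act 1 n71443 = n118740 := d15_1 D71443 (iv7 D118740) F86479
theorem F186791 : act 1 n118740 = n71442 := d15_0 (iv0 D71442) D71444 (iv2 F186786)
def n118741 : Q := act 5 n54670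
theorem D118741 : act 5 n54670 = n118741 := rfl
theorem F186792 : act 2 n118741 = n55444 := d2_1 D118741 F87732 (iv2 F86481)
theorem F186793 : act 3 n118741 = n75001 := d6_1 D118741 F149711 (iv3 F149709)
theorem F186794 : act 4 n118741 = n54686 := d9_1 D118741 F86502 (iv4 F46128) (iv5 D28563) F22796 D26440 D54668 F86477 (iv4 F77212) (iv5 F77215) (iv4 F42677) F41697 F21015 D26442 D54670
theorem F186796 : act 0 n118741 = n75007 := d17_2 F107817 D118741 F112542 (iv4 D60114) (iv5 D28566) (iv0 F22797) D15901 D33002 D71319
def n118742 : Q := act 6 n54670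
theorem D118742 : act 6 n54670 = n118742 := rfl
theorem F186798 : act 2 n118742 = n71431 := d3_1 D118742 (iv6 D71431) (iv2 F86481)
theorem F186799 : act 4 n118742 = n54671 := d10_1 D118742 (iv6 D54671) D54670
def n118743 : Q := act 0 n54671
theorem D118743 : act 0 n54671 = n118743 := rfl
def n118744 : Q := act 1 n54671
theorem D118744 : act 1 n54671 = n118744 := rfl
theorem F186800 : act 1 n118744 = n71435 := d15_1 D118744 (iv7 D71435) (iv2 F86483)
def n118745 : Q := act 7 n54671
theorem D118745 : act 7 n54671 = n118745 := rfl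
theorem F186801 : act 2 n118745 = n71435 := d4_1 D118745 (iv7 D71435) (iv2 F86483)
theorem F186802 : act 6 n118745 = n71444 := d14_1 D118745 (iv7 D71444) (iv6 D33056) (iv7 F42282) D54671
theorem F186803 : act 1 n71435 = n118743 := d15_0 (iv0 D118743) D118745 F186801
theorem F186804 : act 1 n71433 = n118745 := d15_1 D71433 (iv7 D118745) F86483
theorem F186805 : act 1 n118745 = n71432 := d15_0 (iv0 D71432) D71435 (iv2 F186801)
def n118746 : Q := act 0 n54672
theorem D118746 : act 0 n54672 = n118746 := rfl
def n118747 : Q := act 1 n54672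
theorem D118747 : act 1 n54672 = n118747 := rfl
def n118748 : Q := act 5 n54672
theorem D118748 : act 5 n54672 = n118748 := rfl
def n118749 : Q := act 7 n54672
theorem D118749 : act 7 n54672 = n118749 := rfl
theorem F186806 : act 4 n118749 = n54676 := d11_1 D118749 (iv7 D54676) (iv4 F86484)
theorem F186807 : act 6 n118749 = n71462 := d14_1 D118749 (iv7 D71462) (iv6 D33063) (iv7 F42286) D54672
def n118750 : Q := act 2 n54673
theorem D118750 : act 2 n54673 = n118750 := rfl
theorem F186808 : act 7 n54674 = n118750 := d15_2 (iv0 D54673) D54674 (iv2 D118750)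
def n118751 : Q := act 3 n54673
theorem D118751 : act 3 n54673 = n118751 := rfl
def n118752 : Q := act 4 n54673
theorem D118752 : act 4 n54673 = n118752 := rfl
def n118753 : Q := act 5 n54673
theorem D118753 : act 5 n54673 = n118753 := rfl
def n118754 : Q := act 7 n54673
theorem D118754 : act 7 n54673 = n118754 := rfl
theorem F186809 : act 2 n118754 = n54674 := d4_1 D118754 F186808 (iv2 D118750)
def n118755 : Q := act 3 n54674
theorem D118755 : act 3 n54674 = n118755 := rfl
def n118756 : Q := act 4 n54674
theorem D118756 : act 4 n54674 = n118756 := rfl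
def n118757 : Q := act 5 n54674
theorem D118757 : act 5 n54674 = n118757 := rfl
def n118758 : Q := act 6 n54674
theorem D118758 : act 6 n54674 = n118758 := rfl
def n118759 : Q := act 0 n54675
theorem D118759 : act 0 n54675 = n118759 := rfl
def n118760 : Q := act 1 n54675
theorem D118760 : act 1 n54675 = n118760 := rfl
def n118761 : Q := act 4 n54675
theorem D118761 : act 4 n54675 = n118761 := rfl
theorem F186810 : act 6 n118761 = n54681 := d10_2 (iv6 F86486) D118761 (iv4 D54681)
def n118762 : Q := act 7 n54675
theorem D118762 : act 7 n54675 = n118762 := rfl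
theorem F186811 : act 3 n118762 = n75157 := d8_1 D118762 (iv7 D75157) (iv3 F86485)
theorem F186812 : act 5 n118762 = n54676 := d13_1 D118762 (iv7 D54676) D54675
def n118763 : Q := act 4 n54677
theorem D118763 : act 4 n54677 = n118763 := rfl
theorem F186813 : act 2 n118763 = n76219 := d1_1 D118763 (iv4 D76219) (iv2 F86489)
def n118764 : Q := act 4 n54678
theorem D118764 : act 4 n54678 = n118764 := rfl
theorem F186814 : act 7 n118764 = n76219 := d11_2 (iv7 F86492) D118764 (iv4 D76219)
def n118765 : Q := act 6 n54678
theorem D118765 : act 6 n54678 = n118765 := rfl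
theorem F186815 : act 3 n118765 = n76233 := d7_1 D118765 (iv6 D76233) (iv3 F86491)
theorem F186816 : act 5 n118765 = n105337 := d12_1 D118765 (iv6 D105337) F76637 (iv6 F42295) D54678
def n118766 : Q := act 3 n54679
theorem D118766 : act 3 n54679 = n118766 := rfl
theorem F186817 : act 2 n118766 = n114610 := d0_1 D118766 (iv3 F178701) F114187 F186714 (iv2 F186712)
theorem F186818 : act 5 n118766 = n105744 := d6_2 (iv5 F114580) D118766 F162379
theorem F186819 : act 7 n118766 = n114611 := d8_2 F114581 D118766 F178707
theorem F186820 : act 1 n113889 = n118766 := d15_1 (iv0 F177184) F186819 F178706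
theorem F186821 : act 1 n118766 = n105900 := d15_1 F186820 F162629 (iv2 F177181)
def n118767 : Q := act 4 n54679
theorem D118767 : act 4 n54679 = n118767 := rfl
def n118768 : Q := act 6 n54679
theorem D118768 : act 6 n54679 = n118768 := rfl
def n118769 : Q := act 4 n54680
theorem D118769 : act 4 n54680 = n118769 := rfl
def n118770 : Q := act 0 n54681
theorem D118770 : act 0 n54681 = n118770 := rfl
def n118771 : Q := act 1 n54681
theorem D118771 : act 1 n54681 = n118771 := rfl
theorem F186822 : act 4 n118771 = n100349 := d18_7 F55077 (iv4 D26459) (iv1 D12628) (iv4 F21019) D26447 D54681 D118771 F154340 (iv5 D76248)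
theorem F186823 : act 6 n100361 = n118771 := d10_0 F186822 F154338 D100361
def n118772 : Q := act 3 n54681
theorem D118772 : act 3 n54681 = n118772 := rfl
theorem F186824 : act 4 n118772 = n75159 := d5_2 D54681 D118772 (iv3 D75159) (iv4 D34417) (iv3 F42296)
def n118773 : Q := act 5 n54681
theorem D118773 : act 5 n54681 = n118773 := rfl
def n118774 : Q := act 7 n54681
theorem D118774 : act 7 n54681 = n118774 := rfl
theorem F186825 : act 4 n118774 = n54682 := d11_1 D118774 (iv7 D54682) D54681
def n118775 : Q := act 6 n54682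
theorem D118775 : act 6 n54682 = n118775 := rfl
theorem F186826 : act 3 n118775 = n75160 := d7_1 D118775 (iv6 D75160) (iv3 F86495)
theorem F186827 : act 5 n118775 = n71491 := d12_1 D118775 (iv6 D71491) F52300 (iv6 F42299) (iv5 F86496)
def n118776 : Q := act 1 n54683
theorem D118776 : act 1 n54683 = n118776 := rfl
theorem F186828 : act 1 n118776 = n57104 := d15_1 D118776 (iv7 F133028) F133025
theorem F186829 : act 7 n118776 = n71540 := d15_2 F123339 D118776 F127142
theorem F186830 : act 5 n118776 = n84932 := d17_7 F136977 F136973 F126890 D83488 F128591 F110131 D118776 (iv0 F130184) (iv4 F108457)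
theorem F186831 : act 3 n98190 = n118776 := d19_19 (iv1 D118776) (iv5 F110131) (iv4 F128591) F128589 (iv1 F59340) F29554 (iv4 F34428) (iv3 D21932) (iv1 F21765) F21764 F17184 (iv3 D4882) D4880 (iv5 F16698) (iv4 F34419) (iv3 F72398) D98142 F151358 D98190
theorem F186832 : act 2 n118776 = n71539 := d0_1 F186831 F108055 (iv2 F58246) (iv3 F125495) (iv2 F151500)
def n118777 : Q := act 6 n54683
theorem D118777 : act 6 n54683 = n118777 := rfl
theorem F186833 : act 3 n118777 = n54684 := d7_1 D118777 (iv6 D54684) D54683
theorem F186834 : act 4 n118777 = n57108 := d10_1 D118777 (iv6 D57108) (iv4 F86497)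
def n118778 : Q := act 0 n54684
theorem D118778 : act 0 n54684 = n118778 := rfl
theorem F186835 : act 2 n55536 = n118778 := d15_3 (iv0 D118778) F131056 (iv7 F87821)
theorem F186836 : act 4 n118778 = n55535 := d1_2 D55536 F186835 (iv2 D55535)
theorem F186837 : act 7 n118778 = n71552 := d4_2 (iv7 F87821) F186835 F130888
theorem F186838 : act 1 n71554 = n118778 := d15_1 (iv0 F130821) F186837 F130888
def n118779 : Q := act 5 n54684
theorem D118779 : act 5 n54684 = n118779 := rfl
theorem F186839 : act 2 n118779 = n71553 := d2_1 D118779 (iv5 D71553) (iv2 F86499)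
def n118780 : Q := act 7 n54684
theorem D118780 : act 7 n54684 = n118780 := rfl
theorem F186840 : act 2 n118780 = n71554 := d4_1 D118780 (iv7 D71554) (iv2 F86499)
theorem F186841 : act 6 n118780 = n71547 := d14_1 D118780 (iv7 D71547) (iv6 D33092) F42307 D54684
theorem F186842 : act 1 n71552 = n118780 := d15_1 D71552 (iv7 D118780) F86499
theorem F186843 : act 1 n118780 = n55536 := d15_1 F186842 F87821 (iv2 F130888)
def n118781 : Q := act 1 n54685
theorem D118781 : act 1 n54685 = n118781 := rfl
theorem F186844 : act 1 n118781 = n71547 := d15_1 D118781 (iv7 D71547) (iv2 F86500)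
theorem F186845 : act 7 n118781 = n75080 := d15_2 (iv0 F109927) D118781 F112594
theorem F186846 : act 4 n55334 = n118781 := d20_6 D70366 F130951 F107448 F85937 (iv1 F56668) (iv3 F130959) (iv1 D118781) F86501 F51734 D32662
theorem F186847 : act 2 n118781 = n55335 := d1_1 F186846 (iv4 D55335) D55334
theorem E18502 : n75083 = n71547 := ((c15_1 F186844 (iv0 D75083) (iv7 F87572) (iv2 F186847))).symm
theorem F186848 : act 1 n71547 = n34389 := (sb E18502 (iv0 D75083))
def n118782 : Q := act 5 n54685
theorem D118782 : act 5 n54685 = n118782 := rfl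
theorem F186849 : act 2 n118782 = n71546 := d2_1 D118782 (iv5 D71546) (iv2 F86500)
def n118783 : Q := act 7 n54685
theorem D118783 : act 7 n54685 = n118783 := rfl
theorem F186850 : act 2 n118783 = n71547 := d4_1 D118783 (iv7 D71547) (iv2 F86500)
theorem F186851 : act 4 n118783 = n70354 := d11_1 D118783 (iv7 D70354) (iv4 F86501)
theorem F186852 : act 6 n118783 = n71554 := d14_1 D118783 (iv7 D71554) (iv6 D33095) (iv7 F42304) D54685
theorem F186853 : act 1 n71545 = n118783 := d15_1 D71545 (iv7 D118783) F86500
theorem E18503 : n71545 = n55335 := (c20_8 F9412 D7857 (iv4 F38268) D32793 (iv1 F109847) (iv3 F106830) (iv4 F186851) (iv1 F186853) (iv4 D55335) (iv3 D26740) (iv1 D12793))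
theorem F186854 : act 0 n55335 = n33092 := (sb E18503 (iv1 D71545))
theorem F186855 : act 1 n55335 = n118783 := (sb E18503 F186853)
theorem F186856 : act 1 n118783 = n75080 := d15_1 F186855 (iv7 F186845) F186847
theorem E18504 : n75080 = n71544 := (c15_1 F186856 (iv0 D71544) D71547 (iv2 F186850))
theorem F186857 : act 0 n71544 = n118783 := (sb E18504 (iv1 F186856))
theorem F186858 : act 2 n71544 = n34389 := (sb E18504 F112594)
theorem F186859 : act 4 n71544 = n34388 := (sb E18504 (iv4 D75080))
theorem F186860 : act 7 n71544 = n118781 := (sb E18504 (iv7 F186845))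
theorem F186861 : act 0 n60056 = n69826 := d20_10 F108928 (iv1 F108926) F54542 F27293 (iv1 F21229) D26740 D55335 F186854 (iv4 F106826) F106825
theorem F186862 : act 1 n107966 = n62860 := d18_8 F186861 F108928 (iv1 F108926) F54542 (iv5 F54486) (iv4 F112430) (iv0 F185325) (iv4 F185323) F98084
def n118784 : Q := act 6 n54686
theorem D118784 : act 6 n54686 = n118784 := rfl
theorem F186863 : act 2 n118784 = n71557 := d3_1 D118784 (iv6 D71557) F86503
def n118785 : Q := act 0 n54687
theorem D118785 : act 0 n54687 = n118785 := rfl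
def n118786 : Q := act 1 n54687
theorem D118786 : act 1 n54687 = n118786 := rfl
def n118787 : Q := act 5 n54687
theorem D118787 : act 5 n54687 = n118787 := rfl
theorem F186865 : act 6 n118787 = n54690 := d12_2 D54687 D118787 (iv5 D54690) (iv6 D26452) D26451
def n118788 : Q := act 7 n54687
theorem D118788 : act 7 n54687 = n118788 := rfl
def n118790 : Q := act 5 n54688
theorem D118790 : act 5 n54688 = n118790 := rfl
def n118792 : Q := act 3 n54689
theorem D118792 : act 3 n54689 = n118792 := rfl
def n118794 : Q := act 6 n54689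
theorem D118794 : act 6 n54689 = n118794 := rfl
def n118795 : Q := act 0 n54690
theorem D118795 : act 0 n54690 = n118795 := rfl
def n118796 : Q := act 1 n54690
theorem D118796 : act 1 n54690 = n118796 := rfl
def n118797 : Q := act 4 n54690
theorem D118797 : act 4 n54690 = n118797 := rfl
def n118800 : Q := act 1 n54692
theorem D118800 : act 1 n54692 = n118800 := rfl
theorem F186871 : act 1 n118800 = n54697 := d15_1 D118800 (iv7 D54697) D54692
def n118801 : Q := act 3 n54692
theorem D118801 : act 3 n54692 = n118801 := rfl
theorem F186872 : act 7 n118801 = n54698 := d8_2 F86511 D118801 (iv3 D54698)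
def n118802 : Q := act 4 n54692
theorem D118802 : act 4 n54692 = n118802 := rfl
theorem F186873 : act 2 n118802 = n54694 := d1_1 D118802 (iv4 D54694) D54692
theorem F186874 : act 7 n118802 = n54699 := d11_2 F86511 D118802 (iv4 D54699)
def n118803 : Q := act 5 n54692
theorem D118803 : act 5 n54692 = n118803 := rfl
theorem F186875 : act 2 n118803 = n54695 := d2_1 D118803 (iv5 D54695) D54692
theorem F186876 : act 7 n118803 = n54700 := d13_2 F86511 D118803 (iv5 D54700)
def n118804 : Q := act 6 n54692
theorem D118804 : act 6 n54692 = n118804 := rfl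
theorem F186877 : act 2 n118804 = n54696 := d3_1 D118804 (iv6 D54696) D54692
def n118805 : Q := act 0 n54693
theorem D118805 : act 0 n54693 = n118805 := rfl
def n118806 : Q := act 1 n54693
theorem D118806 : act 1 n54693 = n118806 := rfl
theorem F186878 : act 3 n72058 = n118806 := d20_9 (iv4 F185684) F185685 F85998 F42002 (iv1 F20932) D15840 D32896 D71036 (iv4 F123927) (iv1 D118806)
def n118807 : Q := act 2 n54693
theorem D118807 : act 2 n54693 = n118807 := rfl
def n118808 : Q := act 5 n54693
theorem D118808 : act 5 n54693 = n118808 := rfl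
theorem F186879 : act 3 n118808 = n54695 := d6_1 D118808 (iv5 D54695) D54693
def n118809 : Q := act 6 n54693
theorem D118809 : act 6 n54693 = n118809 := rfl
theorem F186880 : act 3 n118809 = n54696 := d7_1 D118809 (iv6 D54696) D54693
def n118810 : Q := act 7 n54693
theorem D118810 : act 7 n54693 = n118810 := rfl
theorem F186881 : act 3 n118810 = n54697 := d8_1 D118810 (iv7 D54697) D54693
def n118811 : Q := act 0 n54694
theorem D118811 : act 0 n54694 = n118811 := rfl
theorem F186882 : act 4 n118811 = n71029 := d20_2 D54694 D118811 (iv3 D71029) (iv1 D32894) (iv3 D15840) F41740 (iv1 D6178) (iv4 F9319) (iv3 F21024) D26453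
def n118812 : Q := act 1 n54694
theorem D118812 : act 1 n54694 = n118812 := rfl
theorem F186883 : act 1 n118812 = n54699 := d15_1 D118812 (iv7 F186874) F186873
def n118813 : Q := act 3 n54694
theorem D118813 : act 3 n54694 = n118813 := rfl
def n118814 : Q := act 5 n54694
theorem D118814 : act 5 n54694 = n118814 := rfl
def n118815 : Q := act 6 n54694
theorem D118815 : act 6 n54694 = n118815 := rfl
theorem F186884 : act 4 n118815 = n54696 := d10_1 D118815 (iv6 D54696) D54694
def n118816 : Q := act 7 n54694
theorem D118816 : act 7 n54694 = n118816 := rfl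
theorem F186885 : act 2 n118816 = n54699 := d4_1 D118816 (iv7 F186874) F186873
theorem F186886 : act 4 n118816 = n54697 := d11_1 D118816 (iv7 D54697) D54694
theorem F186887 : act 1 n54699 = n118811 := d15_0 (iv0 D118811) D118816 F186885
theorem F186888 : act 0 n54698 = n70538 := d20_10 F106994 F185044 (iv4 D71003) (iv3 F57616) (iv1 F57620) D71029 (iv4 F186882) (iv1 F186887) (iv4 D54699) D54698
theorem E18505 : n71029 = n70930 := ((c20_11 (iv4 F186882) (iv1 F186887) (iv4 D54699) D54698 F186888 F106993 (iv4 F105118) F110803 (iv4 D32860) D32859 D70930)).symm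
theorem F186889 : act 3 n70930 = n32894 := (sb E18505 (iv3 D71029))
theorem F186890 : act 4 n70930 = n118811 := (sb E18505 (iv4 F186882))
def n118817 : Q := act 0 n54695
theorem D118817 : act 0 n54695 = n118817 := rfl
theorem F186891 : act 5 n118817 = n118692 := d21_2 D54695 D118817 (iv6 D118692) (iv1 D54646) (iv6 D26429) (iv5 D12614) (iv1 D5990) D5993 D12626 D26453
def n118818 : Q := act 1 n54695
theorem D118818 : act 1 n54695 = n118818 := rfl
theorem F186892 : act 1 n118818 = n54700 := d15_1 D118818 (iv7 F186876) F186875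
def n118820 : Q := act 6 n54695
theorem D118820 : act 6 n54695 = n118820 := rfl
def n118821 : Q := act 7 n54695
theorem D118821 : act 7 n54695 = n118821 := rfl
theorem F186893 : act 2 n118821 = n54700 := d4_1 D118821 (iv7 F186876) F186875
theorem F186894 : act 5 n118821 = n54697 := d13_1 D118821 (iv7 D54697) D54695
theorem F186895 : act 1 n54700 = n118817 := d15_0 (iv0 D118817) D118821 F186893
def n118822 : Q := act 0 n54696
theorem D118822 : act 0 n54696 = n118822 := rfl
def n118823 : Q := act 1 n54696
theorem D118823 : act 1 n54696 = n118823 := rfl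
theorem F186896 : act 6 n71616 = n118823 := d21_3 D54647 D118693 (iv5 F186688) (iv1 D118823) (iv6 D54696) D54695 D118817 F186891 (iv6 D118692) (iv1 D54646)
def n118824 : Q := act 7 n54696
theorem D118824 : act 7 n54696 = n118824 := rfl
def n118825 : Q := act 6 n54697
theorem D118825 : act 6 n54697 = n118825 := rfl
theorem F186897 : act 2 n118825 = n54701 := d3_1 D118825 (iv6 D54701) (iv2 F86512)
def n118826 : Q := act 1 n54698
theorem D118826 : act 1 n54698 = n118826 := rfl
theorem F186898 : act 7 n118826 = n54780 := d15_2 (iv0 F186888) D118826 (iv2 F106992)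
theorem F186899 : act 3 n54724 = n118826 := d8_3 F186898 F86664 (iv7 F113934)
theorem F186900 : act 4 n80566 = n118826 := d11_3 F186898 (iv4 F107247) (iv7 F185049)
theorem F186901 : act 6 n54779 = n118826 := d14_5 F186898 (iv6 D54780) (iv7 D26494) D26493 D54779
def n118827 : Q := act 2 n54698
theorem D118827 : act 2 n54698 = n118827 := rfl
def n118828 : Q := act 4 n54698
theorem D118828 : act 4 n54698 = n118828 := rfl
theorem F186902 : act 0 n70995 = n118828 := d20_1 D70995 (iv4 D118828) (iv3 D54698) (iv1 D26454) F21024 F9319 D6177 F41745 D15835 D32881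
def n118829 : Q := act 5 n54698
theorem D118829 : act 5 n54698 = n118829 := rfl
theorem F186903 : act 3 n118829 = n54700 := d6_1 D118829 (iv5 D54700) D54698
def n118830 : Q := act 6 n54698
theorem D118830 : act 6 n54698 = n118830 := rfl
theorem F186904 : act 3 n118830 = n54701 := d7_1 D118830 (iv6 D54701) D54698
def n118833 : Q := act 6 n54699
theorem D118833 : act 6 n54699 = n118833 := rfl
theorem F186905 : act 4 n118833 = n54701 := d10_1 D118833 (iv6 D54701) D54699
def n118835 : Q := act 6 n54700
theorem D118835 : act 6 n54700 = n118835 := rfl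
theorem F186906 : act 0 n69312 = n118835 := d21_4 F86468 (iv1 F55646) D59815 (iv6 F105587) (iv6 D118835) (iv5 D54700) (iv1 D26454) D26455 F42313 D26461
def n118836 : Q := act 0 n54701
theorem D118836 : act 0 n54701 = n118836 := rfl
theorem F186907 : act 5 n118836 = n68637 := d21_0 (iv1 F183669) F183665 F86378 (iv1 F86395) D118692 (iv5 F186891) (iv1 F186895) (iv5 D54700) D54701 D118836
theorem F186908 : act 6 n118836 = n71602 := d21_3 (iv5 F50261) D68637 (iv5 F186907) (iv1 D71602) (iv6 D33108) D33107 D71596 F108107 (iv6 D71384) (iv1 D33026)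
def n118837 : Q := act 1 n54701
theorem D118837 : act 1 n54701 = n118837 := rfl
def n118838 : Q := act 5 n54701
theorem D118838 : act 5 n54701 = n118838 := rfl
theorem F186909 : act 0 n118660 = n118838 := d21_1 D118660 (iv5 D118838) (iv6 D54701) (iv1 D26454) (iv6 D12626) (iv5 D5993) D5989 D12609 D26422 D54636
def n118839 : Q := act 7 n54701
theorem D118839 : act 7 n54701 = n118839 := rfl
def n118840 : Q := act 2 n54702
theorem D118840 : act 2 n54702 = n118840 := rfl
theorem F186910 : act 7 n54703 = n118840 := d15_2 (iv0 D54702) D54703 (iv2 D118840)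
def n118841 : Q := act 3 n54702
theorem D118841 : act 3 n54702 = n118841 := rfl
def n118842 : Q := act 4 n54702
theorem D118842 : act 4 n54702 = n118842 := rfl
def n118843 : Q := act 5 n54702
theorem D118843 : act 5 n54702 = n118843 := rfl
def n118844 : Q := act 6 n54702
theorem D118844 : act 6 n54702 = n118844 := rfl
def n118845 : Q := act 7 n54702
theorem D118845 : act 7 n54702 = n118845 := rfl
theorem F186911 : act 2 n118845 = n54703 := d4_1 D118845 F186910 (iv2 D118840)
def n118846 : Q := act 3 n54703
theorem D118846 : act 3 n54703 = n118846 := rfl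
def n118847 : Q := act 4 n54703
theorem D118847 : act 4 n54703 = n118847 := rfl
def n118848 : Q := act 5 n54703
theorem D118848 : act 5 n54703 = n118848 := rfl
theorem F186912 : act 6 n118848 = n55102 := d21_3 (iv5 F186750) (iv1 F186752) D118848 (iv1 F87166) F42690 (iv5 F53026) (iv1 F110107) (iv5 F110108) (iv6 D54696) (iv1 F86452)
def n118849 : Q := act 6 n54703
theorem D118849 : act 6 n54703 = n118849 := rfl
def n118850 : Q := act 0 n54704
theorem D118850 : act 0 n54704 = n118850 := rfl
def n118851 : Q := act 1 n54704
theorem D118851 : act 1 n54704 = n118851 := rfl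
def n118852 : Q := act 3 n54704
theorem D118852 : act 3 n54704 = n118852 := rfl
theorem F186914 : act 6 n118852 = n54720 := d7_2 (iv6 F86513) D118852 (iv3 D54720)
def n118853 : Q := act 5 n54704
theorem D118853 : act 5 n54704 = n118853 := rfl
def n118854 : Q := act 7 n54704
theorem D118854 : act 7 n54704 = n118854 := rfl
theorem F186915 : act 4 n118854 = n54705 := d11_1 D118854 (iv7 D54705) D54704
def n118855 : Q := act 6 n54705
theorem D118855 : act 6 n54705 = n118855 := rfl
theorem F186916 : act 3 n118855 = n54745 := d7_1 D118855 (iv6 D54745) (iv3 F86514)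
theorem F186917 : act 5 n118855 = n71635 := d12_1 D118855 (iv6 D71635) F52333 (iv6 F42315) (iv5 F86515)
theorem F186918 : act 7 n118855 = n54723 := d14_2 D54705 D118855 (iv6 D54723) (iv7 D26464) (iv6 F42313)
def n118856 : Q := act 0 n54706
theorem D118856 : act 0 n54706 = n118856 := rfl
theorem F186919 : act 5 n118856 = n70200 := d17_3 F55088 D54706 D118856 (iv4 D70200) (iv5 F55715) (iv0 D34833) (iv5 D16885) D16884 D34831
theorem F186920 : act 1 n54710 = n118856 := d15_0 (iv0 D118856) (iv7 F186756) F186754
theorem F186921 : act 3 n71327 = n118856 := d6_3 F186919 (iv3 F115153) F115156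
def n118857 : Q := act 1 n54706
theorem D118857 : act 1 n54706 = n118857 := rfl
theorem F186922 : act 1 n118857 = n54710 := d15_1 D118857 (iv7 F162584) F162582
theorem F186923 : act 5 n118857 = n70201 := d17_7 (iv1 D28375) D28376 F50535 (iv5 D26458) D26457 D54706 D118857 F106663 (iv4 D59816)
def n118858 : Q := act 4 n54706
theorem D118858 : act 4 n54706 = n118858 := rfl
def n118859 : Q := act 6 n54706
theorem D118859 : act 6 n54706 = n118859 := rfl
theorem F186924 : act 3 n118859 = n71892 := d7_1 D118859 F108386 (iv3 F86516)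
theorem F186925 : act 5 n118859 = n71886 := d12_1 D118859 (iv6 D71886) (iv5 D33219) (iv6 F42317) D54706
def n118860 : Q := act 4 n54707
theorem D118860 : act 4 n54707 = n118860 := rfl
theorem F186926 : act 2 n118860 = n71250 := d1_1 D118860 (iv4 D71250) F86518
theorem F186927 : act 7 n118860 = n76260 := d11_2 F94206 D118860 F114302
theorem F186928 : act 0 n118860 = n76263 := d18_2 D54707 D118860 F114305 F55094 F42294 F86427 F86425 F42269 D26458
theorem F186929 : act 1 n118860 = n76246 := d18_6 (iv1 F79157) (iv4 F55284) (iv1 F82997) F82996 (iv5 F86517) D118860 (iv4 D76246) D76245 F114263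
def n118861 : Q := act 6 n54707
theorem D118861 : act 6 n54707 = n118861 := rfl
theorem F186930 : act 2 n118861 = n71251 := d3_1 D118861 (iv6 D71251) F86518
theorem F186931 : act 3 n118861 = n55040 := d7_1 D118861 (iv6 D55040) (iv3 F86520)
theorem F186932 : act 5 n118861 = n76626 := d12_1 D118861 (iv6 D76626) (iv5 D35015) D35016 (iv5 F86517)
def n118862 : Q := act 3 n54708
theorem D118862 : act 3 n54708 = n118862 := rfl
def n118863 : Q := act 5 n54708
theorem D118863 : act 5 n54708 = n118863 := rfl
def n118864 : Q := act 6 n54708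
theorem D118864 : act 6 n54708 = n118864 := rfl
theorem F186933 : act 4 n118864 = n54709 := d10_1 D118864 (iv6 D54709) D54708
def n118865 : Q := act 0 n54709
theorem D118865 : act 0 n54709 = n118865 := rfl
def n118866 : Q := act 1 n54709
theorem D118866 : act 1 n54709 = n118866 := rfl
def n118867 : Q := act 7 n54709
theorem D118867 : act 7 n54709 = n118867 := rfl
theorem F186934 : act 5 n118867 = n84884 := d13_1 D118867 (iv7 D84884) (iv5 F86521)
def n118868 : Q := act 4 n54710
theorem D118868 : act 4 n54710 = n118868 := rfl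
def n118869 : Q := act 6 n54710
theorem D118869 : act 6 n54710 = n118869 := rfl
def n118870 : Q := act 3 n54711
theorem D118870 : act 3 n54711 = n118870 := rfl
def n118871 : Q := act 5 n54711
theorem D118871 : act 5 n54711 = n118871 := rfl
def n118872 : Q := act 6 n54711
theorem D118872 : act 6 n54711 = n118872 := rfl
theorem F186935 : act 4 n118872 = n54712 := d10_1 D118872 (iv6 D54712) D54711
def n118873 : Q := act 0 n54712
theorem D118873 : act 0 n54712 = n118873 := rfl
def n118874 : Q := act 1 n54712
theorem D118874 : act 1 n54712 = n118874 := rfl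
def n118875 : Q := act 7 n54712
theorem D118875 : act 7 n54712 = n118875 := rfl
def n118876 : Q := act 6 n54713
theorem D118876 : act 6 n54713 = n118876 := rfl
theorem F186936 : act 2 n118876 = n72615 := d3_1 D118876 (iv6 D72615) (iv2 F86524)
theorem F186937 : act 3 n118876 = n54715 := d7_1 D118876 (iv6 D54715) D54713
theorem F186938 : act 5 n118876 = n72615 := d12_1 D118876 (iv6 D72615) (iv5 F104074) F104072 (iv5 F86522)
def n118877 : Q := act 3 n54714
theorem D118877 : act 3 n54714 = n118877 := rfl
def n118878 : Q := act 5 n54714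
theorem D118878 : act 5 n54714 = n118878 := rfl
def n118879 : Q := act 6 n54714
theorem D118879 : act 6 n54714 = n118879 := rfl
theorem F186939 : act 4 n118879 = n54715 := d10_1 D118879 (iv6 D54715) D54714
def n118880 : Q := act 0 n54715
theorem D118880 : act 0 n54715 = n118880 := rfl
def n118881 : Q := act 1 n54715
theorem D118881 : act 1 n54715 = n118881 := rfl
def n118882 : Q := act 5 n54715
theorem D118882 : act 5 n54715 = n118882 := rfl
theorem F186940 : act 2 n118882 = n74021 := d2_1 D118882 (iv5 F186767) F186765
theorem F186941 : act 3 n118882 = n72615 := d6_1 D118882 (iv5 F186938) F186937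
theorem F186942 : act 6 n118882 = n55221 := d12_2 D54715 D118882 (iv5 F94967) F94966 (iv5 F86468)
def n118883 : Q := act 7 n54715
theorem D118883 : act 7 n54715 = n118883 := rfl
def n118884 : Q := act 3 n54716
theorem D118884 : act 3 n54716 = n118884 := rfl
def n118885 : Q := act 5 n54716
theorem D118885 : act 5 n54716 = n118885 := rfl
def n118886 : Q := act 6 n54716
theorem D118886 : act 6 n54716 = n118886 := rfl
theorem F186943 : act 4 n118886 = n54717 := d10_1 D118886 (iv6 D54717) D54716
def n118890 : Q := act 3 n54718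
theorem D118890 : act 3 n54718 = n118890 := rfl
theorem F186944 : act 4 n118890 = n72737 := d5_2 (iv4 F107525) D118890 (iv3 D72737) D72738 (iv3 F109222)
def n118891 : Q := act 5 n54718
theorem D118891 : act 5 n54718 = n118891 := rfl
def n118892 : Q := act 6 n54718
theorem D118892 : act 6 n54718 = n118892 := rfl
def n118893 : Q := act 3 n54719
theorem D118893 : act 3 n54719 = n118893 := rfl
theorem F186945 : act 4 n118893 = n70221 := d5_2 F86526 D118893 (iv3 D70221) (iv4 D32590) (iv3 F51643)
def n118894 : Q := act 5 n54719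
theorem D118894 : act 5 n54719 = n118894 := rfl
def n118895 : Q := act 6 n54719
theorem D118895 : act 6 n54719 = n118895 := rfl
theorem F186946 : act 4 n118895 = n70198 := d10_1 D118895 F106655 F86526
def n118899 : Q := act 5 n54720
theorem D118899 : act 5 n54720 = n118899 := rfl
theorem F186948 : act 3 n118899 = n54721 := d6_1 D118899 (iv5 D54721) D54720
def n118900 : Q := act 0 n54721
theorem D118900 : act 0 n54721 = n118900 := rfl
theorem F186949 : act 5 n118900 = n76246 := d17_3 (iv1 D54719) D54721 D118900 (iv4 D76246) (iv5 D34826) F50933 D28573 (iv0 F56750) F86526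
theorem F186950 : act 2 n76262 = n118900 := d2_3 F186949 F114266 D76262
def n118901 : Q := act 1 n54721
theorem D118901 : act 1 n54721 = n118901 := rfl
theorem F186951 : act 7 n118901 = n76262 := d15_2 (iv0 D118900) D118901 F186950
theorem F186952 : act 5 n118901 = n76263 := d17_7 (iv1 F86519) (iv5 D26460) (iv1 D12628) D12629 D26463 D54721 D118901 (iv0 F186928) (iv4 D118860)
def n118902 : Q := act 4 n54721
theorem D118902 : act 4 n54721 = n118902 := rfl
def n118903 : Q := act 6 n54721
theorem D118903 : act 6 n54721 = n118903 := rfl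
def n118904 : Q := act 7 n54721
theorem D118904 : act 7 n54721 = n118904 := rfl
theorem F186953 : act 5 n118904 = n54722 := d13_1 D118904 (iv7 D54722) D54721
theorem F186954 : act 0 n76262 = n118904 := d17_2 (iv1 D76260) D76262 F186953 F86528 F42319 F42262 D54640 (iv0 F94207) (iv4 F114302)
def n118905 : Q := act 6 n54722
theorem D118905 : act 6 n54722 = n118905 := rfl
theorem F186955 : act 4 n118905 = n54723 := d10_1 D118905 (iv6 D54723) (iv4 F86528)
def n118906 : Q := act 0 n54723
theorem D118906 : act 0 n54723 = n118906 := rfl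
def n118907 : Q := act 1 n54723
theorem D118907 : act 1 n54723 = n118907 := rfl
def n118908 : Q := act 4 n54724
theorem D118908 : act 4 n54724 = n118908 := rfl
theorem F186956 : act 2 n118908 = n54869 := d1_1 D118908 F86812 (iv2 F113932)
theorem F186958 : act 7 n118908 = n54826 := d11_2 (iv7 F113934) D118908 F86763
theorem F186959 : act 0 n118908 = n54867 := d20_1 D118908 (iv4 F185139) (iv3 D54456) (iv1 D26335) F20920 F9279 D6217 (iv4 F30384) D26465 D54724
theorem F186960 : act 3 n77672 = n118908 := d8_3 F186958 F86762 D77672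
theorem F186961 : act 1 n118908 = n54866 := d15_0 (iv0 D54866) D54869 (iv2 F186956)
def n118909 : Q := act 5 n54724
theorem D118909 : act 5 n54724 = n118909 := rfl
theorem F186962 : act 2 n118909 = n54883 := d2_1 D118909 F86819 (iv2 F113932)
theorem F186963 : act 7 n118909 = n54836 := d13_2 (iv7 F113934) D118909 (iv5 D54836)
theorem F186964 : act 0 n118909 = n54881 := d21_1 D118909 (iv5 F86815) (iv6 D39291) (iv1 F42567) F42564 (iv5 F60287) (iv1 F86879) F113940 (iv6 D54729) D54724
theorem F186965 : act 0 n54740 = n118909 := d21_1 F130165 (iv5 D118909) F113933 (iv1 F86310) (iv6 F130435) (iv5 D85094) (iv1 F60317) (iv5 D18661) D18662 D39368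
def n118910 : Q := act 4 n54726
theorem D118910 : act 4 n54726 = n118910 := rfl
theorem F186966 : act 2 n118910 = n54727 := d1_1 D118910 (iv4 D54727) D54726
theorem F186967 : act 7 n118910 = n54877 := d11_2 F113938 D118910 (iv4 D54877)
theorem F186968 : act 0 n118910 = n72178 := d20_1 D118910 (iv4 F123800) (iv3 D80527) (iv1 F57615) (iv3 F57669) (iv4 F123868) (iv1 F123872) F107247 F86664 F110796
theorem F186969 : act 3 n82608 = n118910 := d0_0 F186966 F86537 F117795 D37932 D82608
theorem F186970 : act 1 n118910 = n72177 := d15_0 (iv0 D72177) (iv7 F86538) (iv2 F186966)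
def n118911 : Q := act 0 n54727
theorem D118911 : act 0 n54727 = n118911 := rfl
theorem F186971 : act 1 n54877 = n118911 := d15_0 (iv0 D118911) F86538 (iv2 F113943)
def n118912 : Q := act 1 n54727
theorem D118912 : act 1 n54727 = n118912 := rfl
theorem F186972 : act 1 n118912 = n54877 := d15_1 D118912 (iv7 F186967) F186966
theorem F186973 : act 4 n71024 = n118912 := d20_6 F11754 (iv1 F9619) (iv4 F41740) D15840 D32893 D71024 (iv1 D118912) (iv4 D54727) (iv3 D26465) (iv1 F21034)
def n118913 : Q := act 5 n54727
theorem D118913 : act 5 n54727 = n118913 := rfl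
theorem F186974 : act 3 n118913 = n56791 := d6_1 D118913 (iv5 D56791) (iv3 F86537)
theorem F186975 : act 7 n118913 = n72179 := d13_2 (iv7 F86538) D118913 (iv5 D72179)
def n118914 : Q := act 6 n54727
theorem D118914 : act 6 n54727 = n118914 := rfl
theorem F186976 : act 3 n118914 = n56792 := d7_1 D118914 (iv6 D56792) (iv3 F86537)
theorem F186977 : act 4 n118914 = n54729 := d10_1 D118914 (iv6 D54729) D54727
def n118915 : Q := act 4 n54728
theorem D118915 : act 4 n54728 = n118915 := rfl
theorem F186978 : act 7 n118915 = n72183 := d11_2 (iv7 F86540) D118915 (iv4 D72183)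
def n118916 : Q := act 6 n54728
theorem D118916 : act 6 n54728 = n118916 := rfl
theorem F186979 : act 2 n118916 = n85466 := d3_1 D118916 (iv6 F131021) F130471
theorem F186980 : act 3 n118916 = n54731 := d7_1 D118916 (iv6 D54731) (iv3 F86539)
def n118917 : Q := act 0 n54729
theorem D118917 : act 0 n54729 = n118917 := rfl
theorem F186981 : act 5 n118917 = n73524 := d21_0 F130267 (iv5 D39308) D39309 D84996 F130231 (iv5 F130480) (iv1 F130481) (iv5 D54728) D54729 D118917
theorem F186982 : act 6 n54814 = n118917 := d21_5 F130230 (iv1 F105062) F54935 (iv6 F42950) (iv1 F86738) F186981 F130267 (iv5 D39308) D39309 D84996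
theorem F186983 : act 2 n118917 = n55323 := d3_1 F186982 (iv6 D55323) (iv2 F186206)
theorem F186984 : act 7 n118917 = n85167 := d14_2 (iv7 F186207) F186982 (iv6 D85167) (iv7 F186111) (iv6 D55318)
theorem F186985 : act 1 n55323 = n85006 := d15_0 (iv0 F130511) (iv7 F186984) F186983
def n118918 : Q := act 1 n54729
theorem D118918 : act 1 n54729 = n118918 := rfl
theorem F186986 : act 7 n118918 = n55323 := d15_2 (iv0 D118917) D118918 (iv2 F186983)
theorem F186987 : act 6 n85038 = n118918 := d21_3 D18651 D39324 D85038 (iv1 D118918) (iv6 D54729) D54728 F130397 (iv5 D85034) (iv6 D39323) (iv1 D18650)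
theorem F186988 : act 2 n118918 = n85167 := d3_1 F186987 (iv6 D85167) (iv2 F186120)
theorem F186989 : act 5 n73525 = n118918 := d21_2 D39308 (iv1 F130268) (iv6 F186987) F130401 (iv6 D73647) (iv5 D33842) (iv1 F53179) F53176 (iv6 F42549) (iv1 F42551)
theorem F186990 : act 6 n118045 = n73525 := d12_0 F186989 (iv6 F186987) (iv5 D85038) D85039 (iv5 F186186)
theorem E18506 : n73528 = n54909 := (c21_11 (iv5 F108178) F186542 (iv5 D118602) (iv6 F130435) (iv1 F130506) F186987 (iv5 F186989) (iv1 D73525) (iv5 D33796) D33797 D73528)
theorem F186991 : act 1 n54909 = n33797 := (sb E18506 (iv0 D73528))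
theorem E18507 : n73529 = n55035 := (c15_2 F186991 D73529 (iv7 D55035) (iv2 F162710))
theorem F186992 : act 0 n55035 = n33797 := (sb E18507 (iv1 D73529))
theorem F186993 : act 3 n73525 = n118048 := d7_1 F186990 (iv6 D118048) D118045
theorem F186994 : act 1 n73570 = n55323 := d15_1 (iv0 F130512) (iv7 F186986) F186988
def n118921 : Q := act 3 n54732
theorem D118921 : act 3 n54732 = n118921 := rfl
theorem F186999 : act 5 n118921 = n73533 := d6_2 (iv5 F86551) D118921 (iv3 D73533)
theorem F187000 : act 6 n118921 = n58453 := d7_2 F86549 D118921 F92326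
theorem F187001 : act 7 n118921 = n55337 := d8_2 (iv7 F86547) D118921 F87575
def n118922 : Q := act 2 n54733
theorem D118922 : act 2 n54733 = n118922 := rfl
theorem F187002 : act 7 n54734 = n118922 := d15_2 (iv0 D54733) D54734 (iv2 D118922)
def n118923 : Q := act 3 n54733
theorem D118923 : act 3 n54733 = n118923 := rfl
theorem F187003 : act 4 n118923 = n80503 := d20_6 F11711 (iv1 F9682) (iv4 F30387) D26468 D54733 D118923 (iv1 D80503) F57604 (iv3 D17711) F41730
theorem F187004 : act 0 n72060 = n118923 := d20_10 F187003 (iv1 D80503) F57604 (iv3 D17711) F41730 (iv3 F25316) (iv4 F52033) (iv1 F107318) (iv4 F185135) F185048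
def n118927 : Q := act 7 n54733
theorem D118927 : act 7 n54733 = n118927 := rfl
theorem F187005 : act 2 n118927 = n54734 := d4_1 D118927 F187002 (iv2 D118922)
def n118928 : Q := act 3 n54734
theorem D118928 : act 3 n54734 = n118928 := rfl
theorem F187006 : act 4 n118217 = n118928 := d20_2 D54452 D118217 (iv3 D118928) (iv1 D54734) (iv3 D26468) F30387 (iv1 D6218) (iv4 F9279) (iv3 F20920) D26334
theorem F187007 : act 4 n118228 = n72177 := d20_0 (iv1 F186970) (iv4 D118910) F86532 (iv1 F86557) D118928 (iv4 F187006) (iv1 F185758) (iv4 D54457) D54456 D118228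
theorem F187008 : act 3 n118228 = n70931 := d20_3 D33318 D72177 (iv4 F187007) (iv1 D70931) (iv3 D32859) D32860 D70937 (iv4 F110793) F86793 (iv1 F110794)
def n118932 : Q := act 4 n54735
theorem D118932 : act 4 n54735 = n118932 := rfl
theorem F187009 : act 2 n118932 = n54736 := d1_1 D118932 (iv4 D54736) D54735
theorem F187010 : act 7 n118932 = n72145 := d11_2 (iv7 F86555) D118932 (iv4 D72145)
theorem F187011 : act 0 n118932 = n72149 := d20_1 D118932 (iv4 F123924) (iv3 D80591) (iv1 F57668) (iv3 F57616) (iv4 F123751) (iv1 F123755) (iv4 F108582) (iv3 D72136) (iv1 F86556)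
def n118933 : Q := act 5 n54735
theorem D118933 : act 5 n54735 = n118933 := rfl
theorem F187013 : act 2 n118933 = n54737 := d2_1 D118933 (iv5 D54737) D54735
theorem F187015 : act 7 n118933 = n72146 := d13_2 (iv7 F86555) D118933 (iv5 D72146)
def n118934 : Q := act 6 n54735
theorem D118934 : act 6 n54735 = n118934 := rfl
theorem F187019 : act 3 n118934 = n54879 := d7_1 D118934 (iv6 D54879) (iv3 F113942)
def n118935 : Q := act 0 n54736
theorem D118935 : act 0 n54736 = n118935 := rfl
theorem F187020 : act 1 n72145 = n118935 := d15_0 (iv0 D118935) F86560 (iv2 F108585)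
theorem F187021 : act 4 n70952 = n118935 := d20_0 (iv1 F187020) (iv4 D72145) (iv3 F86532) F110795 (iv3 F86793) F110793 (iv1 F107490) (iv4 D32865) D32864 D70952
theorem F187022 : act 3 n70952 = n118212 := d20_3 D54736 D118935 (iv4 F187021) (iv1 D118212) (iv3 D54451) D54452 D118217 F187006 (iv3 D118928) (iv1 D54734)
theorem F187023 : act 4 n118212 = n72043 := d20_6 F110793 (iv1 F107490) (iv4 D32865) D32864 D70952 F187022 (iv1 D72043) (iv4 D33272) D33271 (iv1 F185042)
def n118936 : Q := act 1 n54736
theorem D118936 : act 1 n54736 = n118936 := rfl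
theorem F187024 : act 1 n118936 = n72145 := d15_1 D118936 (iv7 F187010) F187009
def n118937 : Q := act 5 n54736
theorem D118937 : act 5 n54736 = n118937 := rfl
theorem F187027 : act 7 n118937 = n72150 := d13_2 (iv7 F86560) D118937 (iv5 D72150)
def n118938 : Q := act 6 n54736
theorem D118938 : act 6 n54736 = n118938 := rfl
theorem F187028 : act 3 n118938 = n56808 := d7_1 D118938 (iv6 D56808) (iv3 F86559)
theorem F187029 : act 4 n118938 = n54738 := d10_1 D118938 (iv6 D54738) D54736
def n118939 : Q := act 0 n54737
theorem D118939 : act 0 n54737 = n118939 := rfl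
theorem F187030 : act 1 n72146 = n118939 := d15_0 (iv0 D118939) F86562 (iv2 F108586)
def n118940 : Q := act 1 n54737
theorem D118940 : act 1 n54737 = n118940 := rfl
theorem F187031 : act 1 n118940 = n72146 := d15_1 D118940 (iv7 F187015) F187013
def n118942 : Q := act 0 n54738
theorem D118942 : act 0 n54738 = n118942 := rfl
def n118943 : Q := act 1 n54738
theorem D118943 : act 1 n54738 = n118943 := rfl
def n118945 : Q := act 2 n54740
theorem D118945 : act 2 n54740 = n118945 := rfl
theorem F187035 : act 3 n118945 = n72189 := d0_2 D54740 D118945 (iv2 D72189) (iv3 D33322) F42331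
theorem F187036 : act 5 n118945 = n84931 := d2_2 F130165 D118945 F130176
theorem F187037 : act 7 n118945 = n54881 := d4_2 (iv7 F86568) D118945 F86816
theorem F187038 : act 1 n118945 = n54836 := d15_0 (iv0 F86777) (iv7 F86568) D118945
theorem F187039 : act 1 n54883 = n118945 := d15_0 F187038 (iv7 F186963) F186962
theorem F187040 : act 6 n85145 = n71294 := d21_3 F187036 (iv1 F130235) (iv5 F130480) (iv1 D71294) (iv6 D32991) (iv5 D15887) (iv1 F26795) D26533 (iv6 F86776) (iv1 F187038)
def n118946 : Q := act 4 n54740
theorem D118946 : act 4 n54740 = n118946 := rfl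
theorem F187041 : act 7 n118946 = n72195 := d11_2 (iv7 F86568) D118946 (iv4 D72195)
def n118947 : Q := act 6 n54740
theorem D118947 : act 6 n54740 = n118947 := rfl
theorem F187042 : act 3 n118947 = n54741 := d7_1 D118947 (iv6 D54741) D54740
theorem F187043 : act 5 n74865 = n118947 := d6_0 F187042 F86570 D74865
def n118948 : Q := act 0 n54741
theorem D118948 : act 0 n54741 = n118948 := rfl
theorem F187044 : act 6 n118948 = n54756 := d21_5 (iv5 D18699) D18697 (iv5 F42330) D54741 D118948 F110231 (iv1 D73577) F53152 (iv6 D33311) (iv1 F29963)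
theorem F187045 : act 1 n72194 = n118948 := d15_0 (iv0 D118948) (iv7 F166689) F166688
def n118949 : Q := act 1 n54741
theorem D118949 : act 1 n54741 = n118949 := rfl
theorem F187046 : act 1 n118949 = n72194 := d15_1 D118949 (iv7 D72194) (iv2 F86569)
def n118950 : Q := act 0 n54742
theorem D118950 : act 0 n54742 = n118950 := rfl
theorem F187047 : act 1 n72189 = n118950 := d15_0 (iv0 D118950) F86576 D72189
def n118951 : Q := act 1 n54742
theorem D118951 : act 1 n54742 = n118951 := rfl
def n118952 : Q := act 2 n54742
theorem D118952 : act 2 n54742 = n118952 := rfl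
theorem F187048 : act 3 n118952 = n54881 := d0_2 D54742 D118952 F86816 (iv3 D33324) F42348
theorem F187049 : act 5 n118952 = n73674 := d2_2 (iv5 F86575) D118952 F110370
theorem F187050 : act 7 n118952 = n72189 := d4_2 (iv7 F86576) D118952 (iv2 D72189)
theorem F187051 : act 1 n118952 = n72187 := d15_0 (iv0 D72187) (iv7 F86576) D118952
theorem F187052 : act 1 n118951 = n72189 := d15_1 D118951 (iv7 F187050) (iv2 D118952)
theorem F187053 : act 1 n72188 = n118952 := d15_1 D72188 F187050 (iv2 D72189)
def n118953 : Q := act 4 n54742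
theorem D118953 : act 4 n54742 = n118953 := rfl
theorem F187054 : act 7 n118953 = n72190 := d11_2 (iv7 F86576) D118953 (iv4 D72190)
def n118954 : Q := act 6 n54742
theorem D118954 : act 6 n54742 = n118954 := rfl
theorem F187055 : act 3 n118954 = n54743 := d7_1 D118954 (iv6 D54743) D54742
theorem F187056 : act 5 n118954 = n73682 := d12_1 D118954 (iv6 D73682) (iv5 D33853) D33854 (iv5 F86575)
def n118955 : Q := act 0 n54743
theorem D118955 : act 0 n54743 = n118955 := rfl
theorem F187057 : act 6 n118955 = n117715 := d21_5 F52543 (iv1 F44920) F42336 D54743 D118955 F184337 F183861 F53259 F51174 (iv1 F52541)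
theorem F187058 : act 5 n118955 = n56000 := d21_8 F120330 (iv1 D54288) F130855 F130851 (iv1 D33856) D33858 (iv5 F86578) D118955 F104927 F183860
theorem F187059 : act 0 n118955 = n72199 := d21_4 (iv5 F51175) (iv1 F183862) (iv5 F184337) (iv6 F187057) F166692 (iv5 D107887) (iv1 F78762) (iv5 F112370) F112371 (iv1 F85572)
def n118956 : Q := act 1 n54743
theorem D118956 : act 1 n54743 = n118956 := rfl
theorem F187060 : act 1 n118956 = n72199 := d15_1 D118956 (iv7 D72199) (iv2 F86577)
theorem F187061 : act 5 n56001 = n118956 := d21_0 (iv1 D118956) F86578 (iv6 D33858) D33855 D73687 F110381 D75932 (iv5 F131163) F131164 (iv1 F88642)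
theorem F187062 : act 6 n118956 = n54749 := d21_3 F86161 (iv1 F88642) F187061 (iv1 F86601) (iv6 F86612) F86611 (iv1 F85830) D70322 (iv6 F106775) (iv1 F86165)
def n118957 : Q := act 7 n54743
theorem D118957 : act 7 n54743 = n118957 := rfl
theorem F187064 : act 5 n118957 = n73693 := d13_1 D118957 (iv7 D73693) (iv5 F86578)
theorem F187065 : act 6 n118957 = n72194 := d14_1 D118957 (iv7 D72194) (iv6 D33323) (iv7 F42335) D54743
theorem F187066 : act 1 n72198 = n118957 := d15_1 D72198 (iv7 D118957) F86577
theorem E18508 : n72223 = n72198 := ((c21_11 F108662 (iv1 D35981) (iv5 F42085) (iv6 D26372) (iv1 F27096) (iv6 F54438) (iv5 D34306) D34304 (iv5 F108628) (iv6 F187065) (iv1 F187066))).symm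
theorem F187067 : act 5 n72198 = n35981 := (sb E18508 F108662)
theorem F187068 : act 6 n72198 = n33337 := (sb E18508 (iv6 D72223))
theorem E18509 : n79065 = n73711 := ((c21_5 F87190 (iv1 F53214) (iv5 D33870) D33871 D73711 (iv6 D79065) (iv5 F187067) (iv1 D72198) (iv5 F87202) (iv6 D55129) D55126)).symm
theorem F187069 : act 6 n73711 = n35981 := (sb E18509 (iv6 D79065))
theorem F187070 : act 0 n72197 = n118957 := d21_4 (iv5 F85565) (iv1 F108635) (iv5 F105624) F108631 F187065 F108628 (iv1 F78764) (iv5 F105668) (iv6 D69388) (iv1 F85563)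
def n118961 : Q := act 4 n54746
theorem D118961 : act 4 n54746 = n118961 := rfl
theorem F187073 : act 2 n118961 = n54747 := d1_1 D118961 (iv4 D54747) D54746
theorem F187074 : act 7 n118961 = n54886 := d11_2 (iv7 F86587) D118961 (iv4 D54886)
def n118962 : Q := act 6 n54746
theorem D118962 : act 6 n54746 = n118962 := rfl
theorem F187077 : act 2 n118962 = n54748 := d3_1 D118962 (iv6 D54748) D54746
theorem F187079 : act 5 n118962 = n71869 := d12_1 D118962 (iv6 D71869) F77005 (iv6 F84998) (iv5 F86586)
def n118963 : Q := act 0 n54747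
theorem D118963 : act 0 n54747 = n118963 := rfl
theorem F187080 : act 4 n118963 = n70581 := d18_3 (iv1 F51648) D54747 D118963 (iv5 D70581) F83382 (iv0 D52782) F40519 F26890 D12682
theorem F187082 : act 1 n54886 = n118963 := d15_0 (iv0 D118963) F86590 (iv2 F86826)
theorem F187083 : act 7 n118963 = n72229 := d15_2 F178723 F187082 (iv2 F178722)
def n118964 : Q := act 5 n54747
theorem D118964 : act 5 n54747 = n118964 := rfl
def n118965 : Q := act 6 n54747
theorem D118965 : act 6 n54747 = n118965 := rfl
theorem F187085 : act 4 n118965 = n54748 := d10_1 D118965 (iv6 D54748) D54747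
def n118966 : Q := act 0 n54748
theorem D118966 : act 0 n54748 = n118966 := rfl
theorem F187086 : act 6 n118966 = n71829 := d21_5 (iv5 F42830) F42831 (iv5 F42356) D54748 D118966 (iv5 D71829) (iv1 D33197) D33198 F52420 (iv1 F42775)
def n118967 : Q := act 1 n54748
theorem D118967 : act 1 n54748 = n118967 := rfl
def n118968 : Q := act 7 n54748
theorem D118968 : act 7 n54748 = n118968 := rfl
theorem F187087 : act 3 n118968 = n54752 := d8_1 D118968 (iv7 D54752) (iv3 F86591)
theorem F187088 : act 5 n118968 = n72106 := d13_1 D118968 (iv7 D72106) (iv5 F86592)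
theorem F187089 : act 6 n118968 = n72235 := d14_1 D118968 (iv7 D72235) (iv6 D33342) (iv7 F42357) D54748
def n118969 : Q := act 2 n54749
theorem D118969 : act 2 n54749 = n118969 := rfl
theorem F187090 : act 7 n54750 = n118969 := d15_2 (iv0 D54749) D54750 (iv2 D118969)
def n118970 : Q := act 3 n54749
theorem D118970 : act 3 n54749 = n118970 := rfl
def n118971 : Q := act 5 n54749
theorem D118971 : act 5 n54749 = n118971 := rfl
def n118972 : Q := act 7 n54749
theorem D118972 : act 7 n54749 = n118972 := rfl
def n118973 : Q := act 3 n54750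
theorem D118973 : act 3 n54750 = n118973 := rfl
def n118974 : Q := act 4 n54751
theorem D118974 : act 4 n54751 = n118974 := rfl
theorem F187092 : act 2 n118974 = n70987 := d1_1 D118974 F107545 (iv2 F86594)
theorem F187093 : act 6 n118974 = n55214 := d10_2 (iv6 F86596) D118974 (iv4 D55214)
theorem F187094 : act 7 n118974 = n85438 := d11_2 F92313 D118974 (iv4 D85438)
theorem F187095 : act 0 n118974 = n58621 := d21_4 (iv5 F26521) D32878 (iv5 F87355) (iv6 F187093) (iv6 D58621) (iv5 F87850) (iv1 F87853) (iv5 D27824) F22064 D16445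
theorem F187096 : act 1 n118974 = n85994 := d15_1 (iv0 F187095) (iv7 D85994) (iv2 F92588)
theorem E18510 : n118380 = n118360 := ((c18_2 (iv1 F86110) D118360 (iv1 D118380) F86132 D54751 D118974 F187096 F131922 F92594 (iv5 F92597))).symm
theorem F187097 : act 0 n118360 = n54519 := (sb E18510 (iv1 D118380))
theorem F187098 : act 1 n118360 = n71194 := (sb E18510 F186013)
def n118975 : Q := act 0 n54753
theorem D118975 : act 0 n54753 = n118975 := rfl
theorem F187099 : act 4 n118975 = n59947 := d18_3 (iv1 F54120) D54753 D118975 (iv5 D59947) F50870 (iv0 F50862) (iv4 F20959) (iv0 F50786) (iv5 F25766)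
theorem F187100 : act 1 n72211 = n118975 := d15_0 (iv0 D118975) F86605 (iv2 F108654)
theorem F187101 : act 2 n60131 = n118975 := d1_3 F187099 F94421 D60131
theorem F187102 : act 7 n60351 = n118975 := d11_0 F187099 F94422 D60351
def n118976 : Q := act 1 n54753
theorem D118976 : act 1 n54753 = n118976 := rfl
theorem F187103 : act 1 n118976 = n72211 := d15_1 D118976 F108655 (iv2 F86604)
theorem F187104 : act 7 n118976 = n60131 := d15_2 (iv0 D118975) D118976 F187101
theorem F187105 : act 4 n118976 = n59948 := d18_7 (iv1 F110882) F79154 F54147 (iv4 F41216) (iv5 F42359) D54753 D118976 F109223 (iv5 F110878)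
theorem F187106 : act 2 n60351 = n118976 := d1_3 F187105 F94424 D60351
def n118977 : Q := act 5 n54753
theorem D118977 : act 5 n54753 = n118977 := rfl
theorem F187107 : act 2 n118977 = n72732 := d2_1 D118977 (iv5 D72732) (iv2 F86604)
theorem F187108 : act 7 n118977 = n72213 := d13_2 (iv7 F86605) D118977 (iv5 D72213)
def n118979 : Q := act 0 n54754
theorem D118979 : act 0 n54754 = n118979 := rfl
def n118980 : Q := act 1 n54754
theorem D118980 : act 1 n54754 = n118980 := rfl
theorem F187111 : act 1 n118980 = n72736 := d15_1 D118980 (iv7 D72736) (iv2 F86606)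
def n118981 : Q := act 7 n54754
theorem D118981 : act 7 n54754 = n118981 := rfl
theorem F187112 : act 2 n118981 = n72736 := d4_1 D118981 (iv7 D72736) (iv2 F86606)
theorem F187113 : act 3 n118981 = n54757 := d8_1 D118981 (iv7 D54757) (iv3 F86607)
theorem F187114 : act 5 n118981 = n118035 := d13_1 D118981 (iv7 D118035) (iv5 F86608)
theorem F187115 : act 6 n118981 = n72218 := d14_1 D118981 (iv7 D72218) (iv6 D33336) (iv7 F42360) D54754
theorem F187116 : act 1 n72736 = n118979 := d15_0 (iv0 D118979) D118981 F187112
theorem F187117 : act 1 n72735 = n118981 := d15_1 D72735 (iv7 D118981) F86606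
theorem F187118 : act 1 n118981 = n72734 := d15_0 (iv0 D72734) D72736 (iv2 F187112)
def n118982 : Q := act 2 n54755
theorem D118982 : act 2 n54755 = n118982 := rfl
theorem F187119 : act 7 n54756 = n118982 := d15_2 (iv0 D54755) D54756 (iv2 D118982)
def n118984 : Q := act 4 n54755
theorem D118984 : act 4 n54755 = n118984 := rfl
def n118985 : Q := act 6 n54755
theorem D118985 : act 6 n54755 = n118985 := rfl
theorem F187120 : act 5 n118985 = n68550 := d21_6 F25352 (iv1 F20532) (iv5 F21043) D26478 D54755 D118985 (iv1 D68550) F50199 (iv6 D15889) (iv1 F25351)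
theorem F187122 : act 0 n117717 = n118985 := d21_4 (iv5 D26224) D26222 D54223 D117717 (iv6 D118985) (iv5 F110230) (iv1 F183833) (iv5 F184359) (iv6 D117722) (iv1 D54231)
def n118986 : Q := act 7 n54755
theorem D118986 : act 7 n54755 = n118986 := rfl
theorem F187123 : act 2 n118986 = n54756 := d4_1 D118986 F187119 (iv2 D118982)
def n118987 : Q := act 3 n54756
theorem D118987 : act 3 n54756 = n118987 := rfl
def n118988 : Q := act 4 n54756
theorem D118988 : act 4 n54756 = n118988 := rfl
def n118999 : Q := act 3 n54761
theorem D118999 : act 3 n54761 = n118999 := rfl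
theorem F187126 : act 6 n118999 = n117551 := d7_2 (iv6 F86617) D118999 F184154
theorem F187127 : act 7 n118999 = n72291 := d8_2 (iv7 F183561) D118999 (iv3 D72291)
theorem F187128 : act 0 n54893 = n118999 := d21_4 (iv5 D16024) (iv1 F26806) (iv5 F42507) D54893 F187126 (iv5 D117551) (iv1 D54160) D54161 F85490 (iv1 F52167)
def n119000 : Q := act 4 n54761
theorem D119000 : act 4 n54761 = n119000 := rfl
theorem F187129 : act 2 n119000 = n72288 := d1_1 D119000 (iv4 D72288) (iv2 F183560)
theorem F187131 : act 7 n119000 = n72292 := d11_2 (iv7 F183561) D119000 (iv4 D72292)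
def n119001 : Q := act 5 n54761
theorem D119001 : act 5 n54761 = n119001 := rfl
theorem F187132 : act 2 n119001 = n72289 := d2_1 D119001 (iv5 D72289) (iv2 F183560)
theorem F187133 : act 6 n119001 = n117719 := d12_2 (iv6 F86617) D119001 (iv5 D117719) (iv6 D54229) D54228
theorem F187134 : act 7 n119001 = n72293 := d13_2 (iv7 F183561) D119001 (iv5 D72293)
theorem F187135 : act 0 n61554 = n119001 := d21_10 (iv5 D119001) (iv1 F86618) (iv5 F86341) (iv6 D54624) (iv1 F42168) D33167 (iv5 F87114) F96091 (iv5 D61553) D61554
theorem F187136 : act 1 n62726 = n72293 := d15_1 (iv0 F108741) (iv7 F187134) F187132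
def n119002 : Q := act 3 n54762
theorem D119002 : act 3 n54762 = n119002 := rfl
theorem F187137 : act 7 n119002 = n72287 := d8_2 (iv7 F183615) D119002 (iv3 D72287)
def n119003 : Q := act 4 n54762
theorem D119003 : act 4 n54762 = n119003 := rfl
theorem F187138 : act 2 n119003 = n72292 := d1_1 D119003 (iv4 D72292) (iv2 F183614)
theorem F187139 : act 7 n119003 = n72288 := d11_2 (iv7 F183615) D119003 (iv4 D72288)
def n119004 : Q := act 5 n54762
theorem D119004 : act 5 n54762 = n119004 := rfl
theorem F187140 : act 2 n119004 = n72293 := d2_1 D119004 (iv5 D72293) (iv2 F183614)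
theorem F187141 : act 7 n119004 = n72289 := d13_2 (iv7 F183615) D119004 (iv5 D72289)
theorem F187142 : act 6 n119004 = n61537 := d21_3 F86341 (iv1 F86619) D119004 (iv1 F96066) (iv6 F96083) F96082 (iv1 F87402) (iv5 F108233) (iv6 D71769) (iv1 F86344)
theorem F187143 : act 1 n61554 = n119004 := d15_1 (iv0 F187135) F187141 (iv2 F187132)
def n119005 : Q := act 6 n54762
theorem D119005 : act 6 n54762 = n119005 := rfl
theorem F187144 : act 2 n119005 = n72294 := d3_1 D119005 (iv6 D72294) (iv2 F183614)
theorem F187145 : act 7 n119005 = n117717 := d14_2 (iv7 F183615) D119005 (iv6 D117717) F183580 (iv6 F52593)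
theorem F187146 : act 1 n119005 = n72240 := d15_0 (iv0 F108673) (iv7 F108744) (iv2 F187144)
def n119006 : Q := act 3 n54763
theorem D119006 : act 3 n54763 = n119006 := rfl
theorem F187147 : act 4 n119006 = n72295 := d5_2 D54763 D119006 (iv3 D72295) (iv4 D33359) (iv3 F42366)
theorem F187148 : act 6 n119006 = n85046 := d7_2 (iv6 F86621) D119006 (iv3 D85046)
theorem F187149 : act 7 n119006 = n72092 := d8_2 (iv7 F86622) D119006 (iv3 D72092)
def n119007 : Q := act 5 n54763
theorem D119007 : act 5 n54763 = n119007 := rfl
theorem F187150 : act 2 n119007 = n55045 := d2_1 D119007 (iv5 D55045) (iv2 F86620)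
theorem F187151 : act 7 n119007 = n72093 := d13_2 (iv7 F86622) D119007 (iv5 D72093)
def n119008 : Q := act 0 n54764
theorem D119008 : act 0 n54764 = n119008 := rfl
def n119009 : Q := act 1 n54764
theorem D119009 : act 1 n54764 = n119009 := rfl
theorem F187152 : act 1 n119009 = n54803 := d15_1 D119009 (iv7 D54803) (iv2 F86623)
def n119010 : Q := act 7 n54764
theorem D119010 : act 7 n54764 = n119010 := rfl
theorem F187153 : act 2 n119010 = n54803 := d4_1 D119010 (iv7 D54803) (iv2 F86623)
theorem F187155 : act 6 n119010 = n54858 := d14_1 D119010 (iv7 D54858) (iv6 D26538) (iv7 F42371) D54764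
theorem F187156 : act 1 n54803 = n119008 := d15_0 (iv0 D119008) D119010 F187153
def n119011 : Q := act 6 n54765
theorem D119011 : act 6 n54765 = n119011 := rfl
theorem F187159 : act 2 n119011 = n54816 := d3_1 D119011 (iv6 D54816) F86627
theorem F187160 : act 3 n119011 = n75479 := d7_1 D119011 (iv6 D75479) F86630
theorem F187161 : act 4 n119011 = n69872 := d10_1 D119011 (iv6 D69872) (iv4 F86626)
def n119012 : Q := act 6 n54766
theorem D119012 : act 6 n54766 = n119012 := rfl
theorem F187162 : act 2 n119012 = n54821 := d3_1 D119012 (iv6 D54821) (iv2 F86631)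
theorem F187163 : act 3 n119012 = n77635 := d7_1 D119012 (iv6 D77635) (iv3 F86632)
theorem F187164 : act 4 n119012 = n81437 := d10_1 D119012 (iv6 D81437) (iv4 F86636)
def n119013 : Q := act 0 n54767
theorem D119013 : act 0 n54767 = n119013 := rfl
theorem F187165 : act 2 n54822 = n119013 := d15_3 (iv0 D119013) F107176 F155344
theorem F187166 : act 1 n54825 = n119013 := d15_0 (iv0 D119013) (iv7 F186523) F186521
theorem F187167 : act 7 n119013 = n54823 := d15_2 (iv0 F107175) F187166 (iv2 F186532)
def n119014 : Q := act 5 n54767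
theorem D119014 : act 5 n54767 = n119014 := rfl
def n119015 : Q := act 0 n54768
theorem D119015 : act 0 n54768 = n119015 := rfl
def n119016 : Q := act 1 n54768
theorem D119016 : act 1 n54768 = n119016 := rfl
theorem F187169 : act 1 n119016 = n71363 := d15_1 D119016 (iv7 D71363) (iv2 F86639)
def n119017 : Q := act 7 n54768
theorem D119017 : act 7 n54768 = n119017 := rfl
theorem F187170 : act 2 n119017 = n71363 := d4_1 D119017 (iv7 D71363) (iv2 F86639)
theorem F187171 : act 3 n119017 = n72585 := d8_1 D119017 (iv7 D72585) (iv3 F86640)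
theorem F187172 : act 6 n119017 = n84884 := d14_1 D119017 (iv7 D84884) (iv6 D39273) (iv7 F42377) D54768
theorem F187173 : act 1 n71363 = n119015 := d15_0 (iv0 D119015) D119017 F187170
def n119018 : Q := act 0 n54769
theorem D119018 : act 0 n54769 = n119018 := rfl
theorem F187176 : act 3 n119018 = n70669 := d20_5 D54433 (iv1 F110446) F106832 (iv3 F86642) D119018 (iv4 D70669) (iv1 F107074) F107070 (iv3 F85962) (iv1 F85965)
theorem F187177 : act 2 n71580 = n119018 := d15_3 (iv0 D119018) F124882 (iv7 F108093)
theorem E18511 : n71586 = n70669 := ((c0_3 D71580 F187177 F187176 (iv2 D71586) (iv3 D33105) D33104)).symm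
theorem F187178 : act 2 n70669 = n33105 := (sb E18511 (iv2 D71586))
theorem F187179 : act 7 n119018 = n71607 := d4_2 (iv7 F108093) F187177 (iv2 D71607)
theorem F187180 : act 1 n54779 = n119018 := d15_1 (iv0 F124883) F187179 (iv2 D71607)
theorem E18512 : n70667 = n70600 := ((c1_3 D70669 F187178 F107073 (iv2 D70667))).symm
theorem F187181 : act 2 n70600 = n32773 := (sb E18512 (iv2 D70667))
theorem F187182 : act 7 n70600 = n32774 := (sb E18512 (iv7 F107134))
theorem E18513 : n71589 = n70674 := ((c11_2 F187182 D70674 (iv7 D71589) F107073)).symm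
theorem E18514 : n33109 = n33039 := ((((iv3 F107136)).symm.trans (sb E18513 F108101))).symm
theorem F187183 : act 7 n70674 = n33105 := (sb E18513 (iv7 D71589))
theorem E18515 : n71579 = n15931 := ((((iv1 D33039)).symm.trans (sb E18514 (iv1 F108092)))).symm
theorem E18517 : n71408 = n15966 := (((iv2 F107912)).symm.trans (sb E18514 F52330))
theorem E18518 : n71595 = n71409 := (((D71409).symm.trans (sb E18514 (iv4 F108105)))).symm
theorem E18519 : n71600 = n71410 := (((D71410).symm.trans (sb E18514 (iv5 F108110)))).symm
theorem E18520 : n71604 = n71411 := (((D71411).symm.trans (sb E18514 D71604))).symm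
theorem E18522 : n33104 = n33038 := (((D33038).symm.trans (sb E18515 (iv1 D71579)))).symm
theorem F187184 : act 2 n15966 = n33039 := (sb E18517 F107912)
theorem F187185 : act 2 n71409 = n33111 := (sb E18518 F108104)
theorem F187187 : act 2 n71410 = n33112 := (sb E18519 F108109)
theorem F187189 : act 1 n71411 = n76616 := (sb E18520 F130101)
theorem F187190 : act 2 n71411 = n33113 := (sb E18520 F108112)
theorem E18523 : n71580 = n71404 := (((D71404).symm.trans (sb E18522 D71580))).symm
theorem E18524 : n71581 = n71405 := (((D71405).symm.trans (sb E18522 D71581))).symm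
theorem E18525 : n71582 = n71406 := (((D71406).symm.trans (sb E18522 D71582))).symm
theorem E18526 : n71583 = n71407 := (((D71407).symm.trans (sb E18522 D71583))).symm
theorem F187194 : act 2 n71404 = n119018 := (sb E18523 F187177)
theorem F187195 : act 7 n71404 = n33110 := (sb E18523 F108093)
theorem F187196 : act 2 n71405 = n33106 := (sb E18524 F108094)
theorem F187197 : act 7 n71405 = n33111 := (sb E18524 F108095)
theorem F187198 : act 2 n71406 = n33107 := (sb E18525 F108096)
theorem F187200 : act 2 n71407 = n33108 := (sb E18526 F108098)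
theorem E18527 : n84891 = n55124 := (((F107911).symm.trans (sb E18526 (iv5 F130103)))).symm
theorem F187201 : act 7 n71407 = n84889 := (sb E18526 F130096)
theorem F187202 : act 2 n55124 = n39276 := (sb E18527 F130102)
theorem F187203 : act 7 n55124 = n39275 := (sb E18527 (iv7 D84891))
theorem E18528 : n70672 = n70601 := (c15_4 F107067 F107071 F187182 (iv2 F107135))
theorem F187204 : act 2 n70601 = n32774 := (sb E18528 F107135)
theorem F187205 : act 7 n70601 = n32773 := (sb E18528 (iv7 D70672))
theorem E18529 : n84886 = n55123 := (c15_4 (iv0 D55123) D55124 F187203 D84886)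
theorem F187206 : act 2 n55123 = n39275 := (sb E18529 (iv2 D84886))
theorem F187207 : act 5 n55123 = n71603 := (sb E18529 F130094)
theorem F187208 : act 7 n55123 = n39276 := (sb E18529 (iv7 F130093))
theorem F187209 : act 7 n84892 = n118088 := d8_2 F187208 D84892 F185545
theorem E18530 : n118091 = n118073 := (c11_3 F187209 (iv4 D118088) D118091 (iv4 F185504))
theorem F187211 : act 7 n118073 = n54400 := (sb E18530 (iv7 D118091))
theorem E18531 : n118086 = n118072 := (c15_4 (iv0 D118072) D118073 F187211 D118086)
theorem F187212 : act 2 n118072 = n54400 := (sb E18531 (iv2 D118086))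
theorem F187213 : act 7 n118072 = n54401 := (sb E18531 (iv7 F185544))
theorem F187214 : act 7 n118093 = n55114 := d11_2 F187213 D118093 (iv4 F185501)
theorem E18532 : n55118 = n55103 := (c8_3 F187214 (iv3 D55114) D55118 (iv3 F185547))
theorem F187215 : act 2 n55103 = n26636 := (sb E18532 F87181)
theorem F187216 : act 7 n55103 = n26635 := (sb E18532 (iv7 D55118))
theorem E18533 : n55113 = n55102 := (c15_4 (iv0 D55102) D55103 F187216 D55113)
theorem F187217 : act 2 n55102 = n26635 := (sb E18533 (iv2 D55113))
theorem F187218 : act 7 n55102 = n26636 := (sb E18533 (iv7 F87180))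
theorem F187219 : act 2 n55117 = n118848 := d3_3 F186912 F187217 D55117
theorem E18534 : n118845 = n118724 := (c2_4 (iv5 F186745) F187219 (iv5 D118848) (iv2 F186911))
theorem F187220 : act 2 n118724 = n54703 := (sb E18534 F186911)
theorem F187221 : act 7 n118724 = n54702 := (sb E18534 (iv7 D118845))
theorem F187222 : act 7 n118843 = n55117 := d13_2 F187221 D118843 F186745
theorem E18535 : n118840 = n118723 := (c15_4 (iv0 D118723) D118724 F187221 D118840)
theorem F187223 : act 2 n118723 = n54702 := (sb E18535 (iv2 D118840))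
theorem F187224 : act 7 n118723 = n54703 := (sb E18535 (iv7 F186910))
theorem F187225 : act 2 n118088 = n55114 := d1_3 (iv4 F185501) F187212 D118088
theorem E18536 : n84887 = n55102 := ((c0_4 (iv3 F185545) F187225 (iv3 D55114) (iv2 F187217) (iv3 D84887) (iv2 F187206))).symm
theorem F187226 : act 3 n55102 = n39275 := (sb E18536 (iv3 D84887))
theorem F187227 : act 2 n118093 = n84892 := d4_3 F187209 F187225 (iv7 F187214)
theorem E18537 : n55124 = n55119 := (c0_4 (iv3 F185547) F187227 (iv3 D84892) (iv2 F187202) (iv3 D55119) (iv2 F187215))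
theorem F187228 : act 0 n55119 = n26637 := (sb E18537 (iv1 D55124))
theorem F187229 : act 1 n55119 = n39277 := (sb E18537 F87183)
theorem F187230 : act 2 n55119 = n39276 := (sb E18537 F187202)
theorem F187231 : act 5 n55119 = n71407 := (sb E18537 (iv5 F107911))
theorem F187232 : act 7 n55119 = n39275 := (sb E18537 F187203)
theorem F187233 : act 3 n71407 = n55121 := d6_1 F187231 (iv5 D55121) D55119
theorem E18538 : n71404 = n54776 := ((c7_3 D71407 F187233 (iv6 F87182) (iv3 D71404))).symm
theorem F187234 : act 2 n54776 = n119018 := (sb E18538 F187194)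
theorem F187235 : act 3 n54776 = n33038 := (sb E18538 (iv3 D71404))
theorem F187236 : act 7 n54776 = n33110 := (sb E18538 F187195)
theorem E18539 : n71607 = n54777 := ((c15_2 (iv0 D54776) D54777 (iv7 F187179) (iv2 F187234))).symm
theorem F187237 : act 2 n54777 = n33110 := (sb E18539 (iv2 D71607))
theorem F187238 : act 7 n54777 = n119018 := (sb E18539 (iv7 F187179))
theorem F187239 : act 3 n84890 = n118848 := d7_3 F186912 F187226 D84890
theorem F187240 : act 0 n78330 = n84888 := d20_1 D78330 (iv4 D84888) (iv3 F187226) (iv1 F87166) F42689 F21141 (iv1 F9494) D8104 D17302 D35703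
theorem F187241 : act 5 n118846 = n84890 := d6_0 F187239 (iv5 D118848) D118846
theorem F187242 : act 0 n118846 = n55223 := d21_7 F42391 (iv1 F26649) F26652 D18634 D39275 D84890 (iv5 F187241) (iv5 F106995) (iv6 D70538) F51796
def n119019 : Q := act 7 n54769
theorem D119019 : act 7 n54769 = n119019 := rfl
theorem F187243 : act 2 n119019 = n54779 := d4_1 D119019 (iv7 D54779) (iv2 F86641)
theorem F187244 : act 3 n119019 = n74931 := d8_1 D119019 (iv7 D74931) (iv3 F86642)
theorem F187245 : act 4 n119019 = n80982 := d11_1 D119019 F124739 F107244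
theorem F187246 : act 5 n119019 = n74924 := d13_1 D119019 (iv7 D74924) (iv5 F86643)
theorem F187247 : act 1 n54777 = n119019 := d15_1 D54777 (iv7 D119019) F86641
theorem F187248 : act 1 n119019 = n54776 := d15_1 F187247 F187236 (iv2 F187237)
def n119020 : Q := act 6 n54770
theorem D119020 : act 6 n54770 = n119020 := rfl
theorem F187249 : act 3 n119020 = n54772 := d7_1 D119020 (iv6 D54772) (iv3 F86644)
def n119021 : Q := act 6 n54771
theorem D119021 : act 6 n54771 = n119021 := rfl
theorem F187250 : act 2 n119021 = n96251 := d3_1 D119021 (iv6 D96251) (iv2 F86648)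
theorem F187251 : act 4 n119021 = n54772 := d10_1 D119021 (iv6 D54772) D54771
def n119022 : Q := act 0 n54772
theorem D119022 : act 0 n54772 = n119022 := rfl
def n119023 : Q := act 1 n54772
theorem D119023 : act 1 n54772 = n119023 := rfl
theorem F187252 : act 1 n119023 = n105414 := d15_1 D119023 (iv7 D105414) (iv2 F86651)
def n119024 : Q := act 5 n54772
theorem D119024 : act 5 n54772 = n119024 := rfl
theorem F187253 : act 2 n119024 = n105413 := d2_1 D119024 (iv5 D105413) (iv2 F86651)
theorem F187254 : act 6 n119024 = n54773 := d12_2 D54772 D119024 (iv5 D54773) (iv6 D26489) D26488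
def n119025 : Q := act 7 n54772
theorem D119025 : act 7 n54772 = n119025 := rfl
theorem F187255 : act 2 n119025 = n105414 := d4_1 D119025 (iv7 D105414) (iv2 F86651)
theorem F187257 : act 1 n105414 = n119022 := d15_0 (iv0 D119022) D119025 F187255
theorem F187259 : act 1 n119025 = n105411 := d15_0 (iv0 D105411) D105414 (iv2 F187255)
def n119026 : Q := act 4 n54773
theorem D119026 : act 4 n54773 = n119026 := rfl
theorem F187260 : act 2 n119026 = n105415 := d1_1 D119026 (iv4 D105415) (iv2 F86652)
def n119027 : Q := act 0 n54774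
theorem D119027 : act 0 n54774 = n119027 := rfl
def n119028 : Q := act 1 n54774
theorem D119028 : act 1 n54774 = n119028 := rfl
theorem F187261 : act 1 n119028 = n71516 := d15_1 D119028 (iv7 D71516) (iv2 F86654)
def n119029 : Q := act 7 n54774
theorem D119029 : act 7 n54774 = n119029 := rfl
theorem F187263 : act 3 n119029 = n69860 := d8_1 D119029 (iv7 D69860) (iv3 F86655)
theorem F187264 : act 5 n119029 = n68679 := d13_1 D119029 (iv7 D68679) (iv5 F86656)
theorem F187266 : act 1 n71515 = n119029 := d15_1 D71515 (iv7 D119029) F86654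
def n119030 : Q := act 5 n54775
theorem D119030 : act 5 n54775 = n119030 := rfl
theorem F187268 : act 3 n119030 = n79296 := d6_1 D119030 (iv5 D79296) (iv3 F86657)
theorem F187269 : act 6 n119030 = n79289 := d12_2 D54775 D119030 (iv5 D79289) (iv6 D36093) (iv5 F42458)
def n119031 : Q := act 4 n54776
theorem D119031 : act 4 n54776 = n119031 := rfl
theorem F187270 : act 7 n119031 = n71608 := d11_2 (iv7 F187236) D119031 (iv4 D71608)
theorem F187271 : act 0 n70819 = n119031 := d20_1 D70819 (iv4 D119031) F187235 (iv1 F52237) F25485 F11732 (iv1 F9654) F30457 D15716 D32823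
def n119032 : Q := act 5 n54776
theorem D119032 : act 5 n54776 = n119032 := rfl
theorem F187273 : act 7 n119032 = n71609 := d13_2 (iv7 F187236) D119032 (iv5 D71609)
def n119033 : Q := act 3 n54777
theorem D119033 : act 3 n54777 = n119033 := rfl
theorem F187274 : act 2 n119033 = n70674 := d0_1 D119033 (iv3 F107136) (iv2 F187184) D33110 (iv2 F187237)
theorem F187275 : act 7 n119033 = n70669 := d8_2 (iv7 F187238) D119033 (iv3 F187176)
theorem F187276 : act 4 n70601 = n119033 := d20_2 (iv4 F51896) (iv1 F107067) (iv3 D119033) (iv1 D54777) F42394 (iv4 F42462) D54822 F107076 (iv3 D70605) (iv1 F51843)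
theorem F187277 : act 1 n71585 = n119033 := d15_1 D71585 F187275 F187178
def n119034 : Q := act 4 n54777
theorem D119034 : act 4 n54777 = n119034 := rfl
theorem F187279 : act 2 n119034 = n71608 := d1_1 D119034 (iv4 D71608) (iv2 F187237)
theorem F187280 : act 3 n119034 = n86402 := d20_3 (iv4 F187245) (iv1 F187247) D119034 (iv1 D86402) F60877 F30203 F118054 D17805 D36998 D80982
theorem F187281 : act 0 n70824 = n119034 := d20_1 D70824 (iv4 D119034) D119033 (iv1 F187277) (iv3 F186420) F186419 (iv1 F124841) (iv4 D70793) (iv3 F57924) (iv1 F57928)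
theorem F187282 : act 1 n70824 = n119031 := d15_1 (iv0 F187281) F187270 (iv2 F187279)
def n119035 : Q := act 5 n54777
theorem D119035 : act 5 n54777 = n119035 := rfl
theorem F187283 : act 2 n119035 = n71609 := d2_1 D119035 (iv5 D71609) (iv2 F187237)
theorem F187284 : act 6 n107882 = n119035 := d21_5 F55585 (iv1 F50544) D24295 D49825 D107882 (iv5 D119035) (iv1 D54777) D54778 F86662 (iv1 F55587)
def n119036 : Q := act 6 n54777
theorem D119036 : act 6 n54777 = n119036 := rfl
theorem F187285 : act 2 n119036 = n71610 := d3_1 D119036 (iv6 D71610) (iv2 F187237)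
def n119037 : Q := act 0 n54778
theorem D119037 : act 0 n54778 = n119037 := rfl
theorem F187286 : act 6 n119037 = n117750 := d21_5 F54406 (iv1 F38067) D26495 (iv6 F86662) D119037 (iv5 D117750) (iv1 D54241) (iv5 F54414) (iv6 D34293) D34290
def n119039 : Q := act 4 n54778
theorem D119039 : act 4 n54778 = n119039 := rfl
theorem F187288 : act 2 n119039 = n74921 := d1_1 D119039 F112443 (iv2 F86660)
theorem F187289 : act 6 n119039 = n54781 := d10_2 (iv6 F86662) D119039 (iv4 D54781)
theorem F187290 : act 0 n119039 = n62903 := d20_7 (iv4 F46933) (iv1 F47853) F47855 D54619 F130270 (iv3 F86661) D119039 (iv4 D62903) (iv3 D29762) (iv1 F23627)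
def n119040 : Q := act 7 n54778
theorem D119040 : act 7 n54778 = n119040 := rfl
theorem F187291 : act 2 n119040 = n74924 := d4_1 D119040 (iv7 D74924) (iv2 F86660)
theorem F187293 : act 5 n119040 = n54779 := d13_1 D119040 (iv7 D54779) D54778
theorem F187294 : act 1 n74924 = n119037 := d15_0 (iv0 D119037) D119040 F187291
theorem F187295 : act 1 n74923 = n119040 := d15_1 D74923 (iv7 D119040) F86660
def n119041 : Q := act 0 n54780
theorem D119041 : act 0 n54780 = n119041 := rfl
def n119042 : Q := act 1 n54780
theorem D119042 : act 1 n54780 = n119042 := rfl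
def n119043 : Q := act 3 n54781
theorem D119043 : act 3 n54781 = n119043 := rfl
def n119044 : Q := act 5 n54781
theorem D119044 : act 5 n54781 = n119044 := rfl
theorem F187298 : act 2 n119044 = n74920 := d2_1 D119044 (iv5 D74920) (iv2 F86665)
theorem F187299 : act 0 n119044 = n62777 := d17_2 F96349 D119044 (iv5 D62777) (iv4 D29700) (iv5 D14107) D14104 D29691 F54235 D61765
def n119045 : Q := act 6 n54782
theorem D119045 : act 6 n54782 = n119045 := rfl
theorem F187300 : act 2 n119045 = n114678 := d3_1 D119045 (iv6 D114678) (iv2 F86667)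
theorem F187301 : act 4 n119045 = n54783 := d10_1 D119045 (iv6 D54783) D54782
def n119046 : Q := act 0 n54783
theorem D119046 : act 0 n54783 = n119046 := rfl
def n119047 : Q := act 1 n54783
theorem D119047 : act 1 n54783 = n119047 := rfl
def n119048 : Q := act 5 n54783
theorem D119048 : act 5 n54783 = n119048 := rfl
theorem F187302 : act 2 n119048 = n71942 := d2_1 D119048 (iv5 F177735) F177733
theorem F187303 : act 3 n119048 = n71325 := d6_1 D119048 (iv5 D71325) (iv3 F86671)
theorem F187304 : act 6 n119048 = n54784 := d12_2 D54783 D119048 (iv5 D54784) (iv6 D26498) D26497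
def n119049 : Q := act 7 n54783
theorem D119049 : act 7 n54783 = n119049 := rfl
theorem F187305 : act 3 n119049 = n71326 := d8_1 D119049 (iv7 D71326) (iv3 F86671)
def n119050 : Q := act 4 n54784
theorem D119050 : act 4 n54784 = n119050 := rfl
theorem F187306 : act 2 n119050 = n71941 := d1_1 D119050 (iv4 D71941) (iv2 F86672)
theorem F187307 : act 7 n119050 = n71944 := d11_2 (iv7 F86674) D119050 (iv4 D71944)
theorem F187308 : act 0 n119050 = n114806 := d18_2 F176790 D119050 (iv4 D114806) (iv5 F95773) F95772 F115250 D68011 (iv0 F104116) D113613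
theorem F187309 : act 1 n119050 = n114808 := d18_6 (iv1 F50919) (iv4 F77225) F77226 (iv4 F42409) D54784 D119050 (iv4 D114808) F83702 (iv5 D33285)
def n119051 : Q := act 3 n54785
theorem D119051 : act 3 n54785 = n119051 := rfl
theorem F187310 : act 2 n119051 = n57693 := d0_1 D119051 F90873 (iv2 F129487) F129488 (iv2 F86675)
theorem F187311 : act 4 n119051 = n57692 := d5_2 D54785 D119051 F161599 (iv4 D105372) (iv3 F76670)
theorem F187312 : act 7 n119051 = n114677 := d8_2 (iv7 F86676) D119051 (iv3 D114677)
theorem F187313 : act 0 n119051 = n103125 := d19_4 (iv1 F21069) D26499 D54785 D119051 F158408 F125417 (iv3 F115037) (iv1 D76680) (iv5 D35051) (iv4 D17015) F12574 D7944 (iv5 F20648) (iv4 D12398) (iv3 F20049) (iv1 F22721) (iv5 F22845) (iv4 F26787) (iv3 D12675)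
def n119052 : Q := act 6 n54785
theorem D119052 : act 6 n54785 = n119052 := rfl
def n119053 : Q := act 0 n54786
theorem D119053 : act 0 n54786 = n119053 := rfl
def n119054 : Q := act 1 n54786
theorem D119054 : act 1 n54786 = n119054 := rfl
def n119055 : Q := act 7 n54786
theorem D119055 : act 7 n54786 = n119055 := rfl
def n119056 : Q := act 6 n54787
theorem D119056 : act 6 n54787 = n119056 := rfl
theorem F187316 : act 2 n119056 = n54790 := d3_1 D119056 (iv6 D54790) (iv2 F86679)
theorem F187317 : act 3 n119056 = n76270 := d7_1 D119056 (iv6 D76270) (iv3 F86680)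
theorem F187318 : act 5 n119056 = n106740 := d12_1 D119056 (iv6 D106740) F77989 F42414 D54787
def n119057 : Q := act 6 n54788
theorem D119057 : act 6 n54788 = n119057 := rfl
theorem F187321 : act 5 n119057 = n113671 := d12_1 D119057 (iv6 D113671) (iv5 D52483) F67753 (iv5 F86686)
def n119058 : Q := act 3 n54789
theorem D119058 : act 3 n54789 = n119058 := rfl
theorem F187323 : act 4 n119058 = n54797 := d5_2 D54789 D119058 (iv3 D54797) (iv4 D26507) (iv3 F42416)
theorem F187324 : act 5 n119058 = n80416 := d6_2 F109151 D119058 F123600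
theorem F187325 : act 0 n119058 = n78900 := d19_4 F40495 D26502 D54789 D119058 F120086 (iv4 F128377) F128376 F127654 F127652 (iv4 D82717) F60265 (iv1 D39283) (iv5 D18637) (iv4 D8748) D8747 (iv1 F41472) (iv5 D15917) D15916 (iv3 F40494)
theorem F187326 : act 0 n80421 = n119058 := d20_4 (iv4 F89660) F89661 F60776 D80421 (iv3 D119058) (iv4 D54789) F76711 (iv4 F83478) (iv3 F83479) (iv1 F58447)
def n119059 : Q := act 6 n54789
theorem D119059 : act 6 n54789 = n119059 := rfl
def n119060 : Q := act 0 n54790
theorem D119060 : act 0 n54790 = n119060 := rfl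
theorem F187328 : act 6 n119060 = n114140 := d21_5 F83264 F40495 D26502 D54790 D119060 (iv5 D114140) (iv1 D52686) D52687 F83261 D52689
def n119061 : Q := act 1 n54790
theorem D119061 : act 1 n54790 = n119061 := rfl
def n119062 : Q := act 5 n54790
theorem D119062 : act 5 n54790 = n119062 := rfl
theorem F187329 : act 2 n119062 = n106740 := d2_1 D119062 (iv5 F187318) F187316
theorem F187330 : act 3 n119062 = n54802 := d6_1 D119062 (iv5 D54802) (iv3 F86689)
theorem F187331 : act 6 n119062 = n54792 := d12_2 D54790 D119062 (iv5 D54792) (iv6 D26503) D26502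
def n119063 : Q := act 7 n54790
theorem D119063 : act 7 n54790 = n119063 := rfl
theorem F187332 : act 3 n119063 = n54803 := d8_1 D119063 (iv7 D54803) (iv3 F86689)
def n119064 : Q := act 6 n54791
theorem D119064 : act 6 n54791 = n119064 := rfl
theorem F187333 : act 2 n119064 = n106131 := d3_1 D119064 (iv6 D106131) (iv2 F86690)
theorem F187334 : act 3 n119064 = n54804 := d7_1 D119064 (iv6 D54804) (iv3 F86691)
theorem F187335 : act 0 n119064 = n71926 := d21_4 F142213 F76701 (iv5 F86692) D119064 F108438 (iv5 D43244) (iv1 D20400) D20401 (iv6 F67756) D92446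
def n119065 : Q := act 4 n54792
theorem D119065 : act 4 n54792 = n119065 := rfl
theorem F187336 : act 2 n119065 = n106739 := d1_1 D119065 (iv4 D106739) (iv2 F86695)
def n119066 : Q := act 6 n54793
theorem D119066 : act 6 n54793 = n119066 := rfl
theorem F187337 : act 2 n119066 = n114570 := d3_1 D119066 (iv6 D114570) (iv2 F86698)
theorem F187338 : act 4 n119066 = n54794 := d10_1 D119066 (iv6 D54794) D54793
def n119067 : Q := act 0 n54794
theorem D119067 : act 0 n54794 = n119067 := rfl
def n119068 : Q := act 1 n54794
theorem D119068 : act 1 n54794 = n119068 := rfl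
def n119069 : Q := act 7 n54794
theorem D119069 : act 7 n54794 = n119069 := rfl
def n119070 : Q := act 3 n54795
theorem D119070 : act 3 n54795 = n119070 := rfl
theorem F187339 : act 4 n119070 = n114103 := d5_2 D54795 D119070 (iv3 D114103) (iv4 D52671) F42427
theorem F187340 : act 7 n119070 = n114569 := d8_2 (iv7 F86703) D119070 (iv3 D114569)
theorem F187341 : act 0 n119070 = n95873 := d19_4 F40449 (iv5 F42426) D54795 D119070 F147545 (iv4 D57564) D57563 (iv1 F129884) F129882 (iv4 D70301) (iv3 D32626) (iv1 D15448) (iv5 D7293) (iv4 D3348) D3347 (iv1 F12642) F8874 (iv4 F12920) F26700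
theorem F187342 : act 1 n57575 = n95873 := d15_0 (iv0 F187341) F187340 F178660
def n119071 : Q := act 6 n54795
theorem D119071 : act 6 n54795 = n119071 := rfl
def n119072 : Q := act 0 n54796
theorem D119072 : act 0 n54796 = n119072 := rfl
def n119073 : Q := act 1 n54796
theorem D119073 : act 1 n54796 = n119073 := rfl
def n119074 : Q := act 7 n54796
theorem D119074 : act 7 n54796 = n119074 := rfl
theorem F187345 : act 3 n119074 = n114108 := d8_1 D119074 (iv7 D114108) (iv3 F86706)
def n119080 : Q := act 6 n54799
theorem D119080 : act 6 n54799 = n119080 := rfl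
theorem F187349 : act 2 n119080 = n54854 := d3_1 D119080 (iv6 D54854) (iv2 F86711)
theorem F187350 : act 4 n119080 = n54804 := d10_1 D119080 (iv6 D54804) (iv4 F86712)
def n119081 : Q := act 2 n54800
theorem D119081 : act 2 n54800 = n119081 := rfl
def n119082 : Q := act 3 n54800
theorem D119082 : act 3 n54800 = n119082 := rfl
def n119084 : Q := act 5 n54800
theorem D119084 : act 5 n54800 = n119084 := rfl
def n119088 : Q := act 5 n54801
theorem D119088 : act 5 n54801 = n119088 := rfl
def n119090 : Q := act 0 n54802
theorem D119090 : act 0 n54802 = n119090 := rfl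
def n119091 : Q := act 1 n54802
theorem D119091 : act 1 n54802 = n119091 := rfl
def n119092 : Q := act 4 n54802
theorem D119092 : act 4 n54802 = n119092 := rfl
theorem F187353 : act 6 n119092 = n54808 := d10_2 (iv6 F86715) D119092 (iv4 D54808)
def n119093 : Q := act 7 n54802
theorem D119093 : act 7 n54802 = n119093 := rfl
theorem F187354 : act 5 n119093 = n54803 := d13_1 D119093 (iv7 D54803) D54802
def n119094 : Q := act 6 n54803
theorem D119094 : act 6 n54803 = n119094 := rfl
theorem F187355 : act 2 n119094 = n54858 := d3_1 D119094 (iv6 F187155) F187153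
theorem F187356 : act 7 n119094 = n54804 := d14_2 D54803 D119094 (iv6 D54804) (iv7 D26509) D26508
theorem F187357 : act 1 n54856 = n119094 := d15_1 D54856 F187356 F86716
theorem F187358 : act 1 n119094 = n54855 := d15_0 (iv0 D54855) D54858 (iv2 F187355)
theorem F187359 : act 2 n114272 = n54856 := d15_3 F187357 F187358 (iv7 F178120)
def n119095 : Q := act 0 n54804
theorem D119095 : act 0 n54804 = n119095 := rfl
def n119096 : Q := act 1 n54804
theorem D119096 : act 1 n54804 = n119096 := rfl
def n119097 : Q := act 5 n54804
theorem D119097 : act 5 n54804 = n119097 := rfl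
theorem F187362 : act 2 n119097 = n54857 := d2_1 D119097 (iv5 D54857) (iv2 F86716)
theorem F187363 : act 6 n119097 = n54810 := d12_2 D54804 D119097 (iv5 D54810) (iv6 D26514) (iv5 F42429)
def n119098 : Q := act 4 n54805
theorem D119098 : act 4 n54805 = n119098 := rfl
def n119099 : Q := act 4 n54806
theorem D119099 : act 4 n54806 = n119099 := rfl
def n119100 : Q := act 6 n54806
theorem D119100 : act 6 n54806 = n119100 := rfl
theorem F187364 : act 3 n119100 = n113018 := d7_1 D119100 (iv6 D113018) (iv3 F86719)
def n119101 : Q := act 3 n54807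
theorem D119101 : act 3 n54807 = n119101 := rfl
theorem F187365 : act 2 n119101 = n107894 := d0_1 D119101 F166717 F176061 (iv3 F176062) F120070
theorem F187366 : act 5 n119101 = n59813 := d6_2 (iv5 F86726) D119101 F94198
theorem F187367 : act 7 n119101 = n107895 := d8_2 (iv7 F86725) D119101 F166721
theorem F187368 : act 4 n71486 = n119101 := d20_2 D33073 D71486 (iv3 D119101) (iv1 F86723) (iv3 D49327) (iv4 F77775) F77776 (iv4 D24235) (iv3 F37989) F43572
theorem F187369 : act 1 n119101 = n71316 := d18_8 F54285 (iv4 D15971) (iv1 F25403) (iv4 F52225) (iv5 F78508) D107550 F165932 F187368 (iv5 D71316)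
theorem F187370 : act 1 n71637 = n119101 := d15_1 F114856 F187367 F166720
def n119102 : Q := act 4 n54807
theorem D119102 : act 4 n54807 = n119102 := rfl
theorem F187371 : act 2 n119102 = n114598 := d1_1 D119102 F178687 F120070
theorem F187372 : act 7 n119102 = n114051 := d11_2 (iv7 F86725) D119102 (iv4 D114051)
theorem F187373 : act 0 n119102 = n114601 := d18_2 D54807 D119102 F178689 F83588 (iv4 F83568) F83572 F54057 (iv0 D26510) D26512
theorem F187374 : act 1 n119102 = n114549 := d18_6 (iv1 F46656) (iv4 F79129) F79131 F54423 (iv5 F86726) D119102 (iv4 D114549) (iv0 F87975) (iv5 D55615)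
def n119103 : Q := act 6 n54807
theorem D119103 : act 6 n54807 = n119103 := rfl
def n119104 : Q := act 3 n54808
theorem D119104 : act 3 n54808 = n119104 := rfl
def n119105 : Q := act 5 n54808
theorem D119105 : act 5 n54808 = n119105 := rfl
theorem F187375 : act 4 n119105 = n74932 := d16_2 D54808 D119105 (iv5 D74932) (iv4 D34338) F27118 (iv4 F37984) (iv5 F77992) F77993 (iv2 F77747)
def n119106 : Q := act 7 n54808
theorem D119106 : act 7 n54808 = n119106 := rfl
theorem F187376 : act 2 n119106 = n106744 := d4_1 D119106 F164533 F163780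
theorem F187377 : act 4 n119106 = n54809 := d11_1 D119106 (iv7 D54809) D54808
theorem F187378 : act 0 n61290 = n119106 := d18_2 F83543 D61290 F187377 F86722 F42436 F26991 (iv4 F23129) (iv0 F54059) D52874
def n119107 : Q := act 6 n54809
theorem D119107 : act 6 n54809 = n119107 := rfl
theorem F187379 : act 2 n119107 = n106745 := d3_1 D119107 (iv6 D106745) (iv2 F86721)
def n119108 : Q := act 4 n54810
theorem D119108 : act 4 n54810 = n119108 := rfl
theorem F187380 : act 2 n119108 = n54862 := d1_1 D119108 (iv4 D54862) (iv2 F86727)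
def n119109 : Q := act 6 n54811
theorem D119109 : act 6 n54811 = n119109 := rfl
theorem F187381 : act 2 n119109 = n75249 := d3_1 D119109 (iv6 D75249) (iv2 F86728)
theorem F187382 : act 3 n119109 = n54812 := d7_1 D119109 (iv6 D54812) D54811
theorem F187383 : act 4 n119109 = n72408 := d10_1 D119109 (iv6 D72408) (iv4 F86729)
def n119110 : Q := act 0 n54812
theorem D119110 : act 0 n54812 = n119110 := rfl
theorem F187384 : act 6 n119110 = n83751 := d21_5 D18363 D38550 F59375 D54812 D119110 (iv5 D83751) (iv1 D38593) (iv5 D18377) (iv6 D8654) D8650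
theorem F187385 : act 0 n119110 = n55313 := d21_4 (iv5 F128713) (iv1 F128715) D83751 (iv6 F187384) F87544 (iv5 F113462) (iv1 F128786) (iv5 D83726) (iv6 D38586) (iv1 F59394)
theorem F187386 : act 4 n70731 = n119110 := d20_6 F28975 (iv1 D8004) (iv4 F11677) (iv3 F25182) D32790 D70731 F187385 F87543 F42949 (iv1 F21234)
theorem F187387 : act 0 n69872 = n70731 := d20_10 F187386 F187385 F87543 F42949 (iv1 F21234) D16673 D34397 (iv1 F155569) (iv4 F107082) F107081
def n119111 : Q := act 1 n54812
theorem D119111 : act 1 n54812 = n119111 := rfl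
theorem F187388 : act 1 n119111 = n55313 := d15_1 D119111 (iv7 D55313) (iv2 F86734)
def n119112 : Q := act 5 n54812
theorem D119112 : act 5 n54812 = n119112 := rfl
theorem F187389 : act 2 n119112 = n55312 := d2_1 D119112 (iv5 D55312) (iv2 F86734)
def n119113 : Q := act 7 n54812
theorem D119113 : act 7 n54812 = n119113 := rfl
theorem F187390 : act 2 n119113 = n55313 := d4_1 D119113 (iv7 D55313) (iv2 F86734)
theorem F187391 : act 4 n119113 = n54815 := d11_1 D119113 (iv7 D54815) (iv4 F86735)
theorem F187392 : act 6 n119113 = n75594 := d14_1 D119113 (iv7 D75594) (iv6 D34578) (iv7 F42443) D54812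
theorem F187393 : act 1 n55311 = n119113 := d15_1 D55311 (iv7 D119113) F86734
theorem F187394 : act 1 n119113 = n55310 := d15_0 (iv0 D55310) D55313 (iv2 F187390)
theorem F187395 : act 4 n69875 = n55310 := d20_0 (iv1 F187394) F187391 F86740 (iv1 F52722) D34379 (iv4 F155455) (iv1 D69885) F51537 (iv3 F51525) D69875
def n119114 : Q := act 4 n54813
theorem D119114 : act 4 n54813 = n119114 := rfl
theorem F187396 : act 2 n119114 = n55316 := d1_1 D119114 (iv4 D55316) (iv2 F186132)
theorem F187397 : act 6 n119114 = n85182 := d10_2 (iv6 F86736) D119114 (iv4 D85182)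
theorem F187398 : act 7 n119114 = n55321 := d11_2 (iv7 F186133) D119114 (iv4 D55321)
theorem F187399 : act 3 n82512 = n119114 := d20_5 (iv4 F114041) (iv1 D41371) F31185 (iv3 F58746) D82512 (iv4 D119114) F86737 (iv4 F87543) F87542 (iv1 F112799)
theorem F187400 : act 0 n54816 = n119114 := d20_7 (iv4 F107018) (iv1 F130984) (iv4 D70891) (iv3 F155094) (iv1 D32459) (iv3 F51525) (iv4 F86744) (iv4 D119114) (iv3 F162931) (iv1 F85940)
def n119115 : Q := act 5 n54813
theorem D119115 : act 5 n54813 = n119115 := rfl
theorem F187401 : act 2 n119115 = n55317 := d2_1 D119115 (iv5 D55317) (iv2 F186132)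
theorem F187402 : act 3 n119115 = n118141 := d6_1 D119115 (iv5 D118141) F162931
theorem F187403 : act 6 n119115 = n85185 := d12_2 (iv6 F86736) D119115 (iv5 D85185) (iv6 D39381) D39380
theorem F187404 : act 7 n119115 = n55322 := d13_2 (iv7 F186133) D119115 (iv5 D55322)
theorem F187405 : act 0 n119115 = n73703 := d21_1 D119115 (iv5 D73703) (iv6 D33864) (iv1 F53232) (iv6 D8750) (iv5 F25983) (iv1 F11547) (iv5 F26964) D26516 D54813
def n119116 : Q := act 3 n54814
theorem D119116 : act 3 n54814 = n119116 := rfl
theorem F187406 : act 2 n119116 = n118143 := d0_1 D119116 (iv3 D118143) F186136 (iv3 F162889) (iv2 F186206)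
theorem F187407 : act 7 n119116 = n55315 := d8_2 (iv7 F186207) D119116 (iv3 D55315)
theorem F187408 : act 4 n119116 = n69822 := d20_6 F43128 F12753 (iv4 F21231) (iv3 F42949) (iv1 F86738) D119116 (iv1 D69822) F51486 F24899 D15322
def n119117 : Q := act 4 n54814
theorem D119117 : act 4 n54814 = n119117 := rfl
theorem F187409 : act 2 n119117 = n55321 := d1_1 D119117 (iv4 D55321) (iv2 F186206)
theorem F187410 : act 7 n119117 = n55316 := d11_2 (iv7 F186207) D119117 (iv4 D55316)
theorem F187411 : act 0 n119117 = n54816 := d20_1 D119117 F86744 F51525 (iv1 F155098) (iv3 D32429) F43128 F12753 (iv4 F21231) (iv3 F42949) (iv1 F86738)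
def n119118 : Q := act 5 n54814
theorem D119118 : act 5 n54814 = n119118 := rfl
theorem F187412 : act 2 n119118 = n55322 := d2_1 D119118 (iv5 D55322) (iv2 F186206)
theorem F187413 : act 7 n119118 = n55317 := d13_2 (iv7 F186207) D119118 (iv5 D55317)
theorem F187414 : act 0 n73703 = n119118 := d21_10 (iv5 D119118) (iv1 D54814) (iv5 F86281) (iv6 D54595) (iv1 D26401) (iv6 F42143) (iv5 D26393) D26391 D54576 (iv6 F110399)
theorem F187415 : act 6 n118539 = n119118 := d21_5 (iv5 D12599) D12597 D26396 D54588 D118539 (iv5 D119118) (iv1 D54814) (iv5 F86281) (iv6 D54595) (iv1 D26401)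
theorem F187416 : act 2 n61546 = n118539 := d3_3 F187415 F187412 F162896
theorem E18540 : n118540 = n62723 := (c15_2 (iv0 D118539) D118540 (iv7 F186149) F187416)
theorem F187417 : act 0 n62723 = n54588 := (sb E18540 (iv1 D118540))
def n119119 : Q := act 5 n54816
theorem D119119 : act 5 n54816 = n119119 := rfl
def n119120 : Q := act 7 n54816
theorem D119120 : act 7 n54816 = n119120 := rfl
theorem F187418 : act 4 n119120 = n69878 := d11_1 D119120 (iv7 D69878) (iv4 F86744)
theorem F187419 : act 6 n119120 = n75843 := d14_1 D119120 F155374 (iv6 D70634) F51867 D54816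
theorem F187420 : act 0 n55316 = n119120 := d20_1 D55316 F187418 F106302 (iv1 F51860) (iv3 F155478) F43178 (iv1 D7858) (iv4 F9412) (iv3 F21228) D26732
theorem F187421 : act 0 n119120 = n55321 := d20_7 (iv4 F51808) (iv1 F130952) (iv4 D70366) F155474 (iv1 F51863) (iv3 F106302) (iv4 F187418) (iv4 D55321) F162889 (iv1 D32730)
theorem F187422 : act 1 n119011 = n55321 := d15_0 (iv0 F187421) (iv7 D119120) (iv2 F187159)
theorem F187423 : act 1 n55316 = n119011 := d15_0 F187422 (iv7 F187398) F187396
def n119121 : Q := act 5 n54817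
theorem D119121 : act 5 n54817 = n119121 := rfl
def n119122 : Q := act 7 n54817
theorem D119122 : act 7 n54817 = n119122 := rfl
theorem F187426 : act 3 n119122 = n82722 := d8_1 D119122 (iv7 D82722) (iv3 F86745)
theorem F187427 : act 1 n75827 = n119122 := d15_1 F155243 (iv7 D119122) (iv2 F107106)
def n119123 : Q := act 0 n54818
theorem D119123 : act 0 n54818 = n119123 := rfl
theorem F187429 : act 4 n119123 = n79378 := d20_0 (iv1 F124719) F124714 F72857 F117955 (iv3 F86312) (iv4 D54612) F85920 (iv4 F42462) (iv3 F86747) D119123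
theorem F187430 : act 3 n75399 = n119123 := d20_5 (iv4 D27295) (iv1 F117917) (iv4 F27484) (iv3 F54742) D75399 F187429 (iv1 F124719) F124714 F72857 F117955
def n119124 : Q := act 1 n54818
theorem D119124 : act 1 n54818 = n119124 := rfl
theorem F187431 : act 1 n119124 = n77647 := d15_1 D119124 (iv7 D77647) (iv2 F86746)
theorem F187432 : act 4 n79379 = n119124 := d20_0 (iv1 D119124) F86748 (iv3 F86657) F86659 (iv3 D36998) (iv4 D17805) D17802 D36985 D80971 (iv1 F124718)
def n119125 : Q := act 5 n54818
theorem D119125 : act 5 n54818 = n119125 := rfl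
theorem F187433 : act 2 n119125 = n77646 := d2_1 D119125 (iv5 D77646) (iv2 F86746)
theorem F187434 : act 3 n119125 = n54824 := d6_1 D119125 (iv5 D54824) (iv3 F86747)
theorem F187435 : act 6 n119125 = n56072 := d12_2 D54818 D119125 (iv5 D56072) (iv6 D27044) F42452
def n119126 : Q := act 7 n54818
theorem D119126 : act 7 n54818 = n119126 := rfl
theorem F187436 : act 2 n119126 = n77647 := d4_1 D119126 (iv7 D77647) (iv2 F86746)
theorem F187437 : act 3 n119126 = n54825 := d8_1 D119126 (iv7 D54825) (iv3 F86747)
theorem F187438 : act 4 n119126 = n79297 := d11_1 D119126 (iv7 D79297) (iv4 F86748)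
theorem F187440 : act 1 n77647 = n119123 := d15_0 (iv0 D119123) D119126 F187436
theorem F187441 : act 1 n77645 = n119126 := d15_1 D77645 (iv7 D119126) F86746
theorem F187442 : act 4 n77645 = n98738 := d20_0 (iv1 D98738) F72822 F34583 F117930 (iv3 F52373) (iv4 D33148) (iv1 F86306) (iv4 F86760) (iv3 F187437) (iv1 F187441)
theorem F187443 : act 1 n119126 = n77644 := d15_0 (iv0 D77644) D77647 (iv2 F187436)
theorem F187444 : act 4 n98737 = n77644 := d20_0 (iv1 F187443) F187438 F121694 (iv1 D70831) F51974 (iv4 D27210) F118024 (iv4 F34565) (iv3 F72821) D98737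
def n119127 : Q := act 3 n54819
theorem D119127 : act 3 n54819 = n119127 := rfl
theorem F187446 : act 5 n119127 = n54915 := d6_2 (iv5 F86749) D119127 (iv3 D54915)
theorem F187447 : act 7 n119127 = n77662 := d8_2 F86752 D119127 (iv3 D77662)
theorem F187448 : act 0 n119127 = n77459 := d19_4 (iv1 F86678) (iv5 F128729) F128730 D119127 (iv5 F152395) (iv4 D98847) F72912 (iv1 F35066) (iv5 D22508) (iv4 F35031) F35030 (iv1 F32579) F41583 F41581 F26899 (iv1 F11514) (iv5 F12576) (iv4 F24983) D32613
theorem F187449 : act 4 n119127 = n77603 := d20_6 (iv4 F28429) F28427 F21553 (iv3 F42459) D54819 D119127 (iv1 D77603) F56133 (iv3 D17184) (iv1 F28135)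
theorem F187450 : act 0 n101465 = n119127 := d20_4 (iv4 F59117) D83087 (iv4 F151364) (iv3 F156291) (iv3 D119127) (iv4 F128730) (iv1 D83667) (iv4 D38571) D38570 (iv1 F86986)
theorem F187451 : act 3 n77603 = n72845 := d20_3 (iv4 F156290) F187450 F187449 (iv1 D72845) (iv3 D33593) (iv4 F25797) (iv1 F44428) (iv4 D27538) D27537 F90748
def n119128 : Q := act 6 n54819
theorem D119128 : act 6 n54819 = n119128 := rfl
theorem F187452 : act 2 n119128 = n77664 := d3_1 D119128 (iv6 D77664) F86751
def n119129 : Q := act 6 n54820
theorem D119129 : act 6 n54820 = n119129 := rfl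
theorem F187453 : act 2 n119129 = n77663 := d3_1 D119129 (iv6 D77663) F86756
theorem F187454 : act 3 n119129 = n82729 := d7_1 D119129 (iv6 D82729) F87066
def n119130 : Q := act 0 n54821
theorem D119130 : act 0 n54821 = n119130 := rfl
def n119131 : Q := act 1 n54821
theorem D119131 : act 1 n54821 = n119131 := rfl
def n119132 : Q := act 5 n54821
theorem D119132 : act 5 n54821 = n119132 := rfl
theorem F187455 : act 3 n119132 = n56072 := d6_1 D119132 (iv5 D56072) (iv3 F86758)
theorem F187456 : act 6 n119132 = n54824 := d12_2 D54821 D119132 (iv5 D54824) (iv6 D26521) D26520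
def n119133 : Q := act 7 n54821
theorem D119133 : act 7 n54821 = n119133 := rfl
theorem F187457 : act 3 n119133 = n56073 := d8_1 D119133 (iv7 D56073) (iv3 F86758)
theorem F187458 : act 4 n119133 = n81441 := d11_1 D119133 (iv7 D81441) (iv4 F86759)
theorem F187459 : act 6 n119133 = n77668 := d14_1 D119133 (iv7 D77668) (iv6 D35459) F42461 D54821
def n119134 : Q := act 3 n54822
theorem D119134 : act 3 n54822 = n119134 := rfl
def n119135 : Q := act 5 n54822
theorem D119135 : act 5 n54822 = n119135 := rfl
def n119136 : Q := act 6 n54822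
theorem D119136 : act 6 n54822 = n119136 := rfl
def n119137 : Q := act 3 n54823
theorem D119137 : act 3 n54823 = n119137 := rfl
def n119138 : Q := act 5 n54823
theorem D119138 : act 5 n54823 = n119138 := rfl
def n119139 : Q := act 6 n54823
theorem D119139 : act 6 n54823 = n119139 := rfl
def n119140 : Q := act 0 n54824
theorem D119140 : act 0 n54824 = n119140 := rfl
def n119141 : Q := act 1 n54824
theorem D119141 : act 1 n54824 = n119141 := rfl
theorem F187460 : act 5 n84947 = n119141 := d21_6 (iv5 F60257) (iv1 F60258) (iv5 D18643) D18644 D39296 D84947 (iv1 D119141) (iv5 D54824) (iv6 D26521) D26517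
def n119142 : Q := act 4 n54824
theorem D119142 : act 4 n54824 = n119142 := rfl
def n119143 : Q := act 7 n54824
theorem D119143 : act 7 n54824 = n119143 := rfl
theorem F187461 : act 5 n119143 = n54825 := d13_1 D119143 (iv7 D54825) D54824
def n119144 : Q := act 0 n54826
theorem D119144 : act 0 n54826 = n119144 := rfl
theorem F187462 : act 4 n119144 = n118175 := d20_2 (iv4 F86763) D119144 (iv3 D118175) (iv1 F85989) F42002 F20929 (iv1 F9687) F29135 D16088 (iv1 F110797)
theorem F187463 : act 1 n54869 = n119144 := d15_0 (iv0 D119144) (iv7 F186958) F186956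
def n119145 : Q := act 1 n54826
theorem D119145 : act 1 n54826 = n119145 := rfl
theorem F187464 : act 1 n119145 = n54869 := d15_1 D119145 (iv7 D54869) (iv2 F86761)
def n119146 : Q := act 5 n54826
theorem D119146 : act 5 n54826 = n119146 := rfl
theorem F187465 : act 2 n119146 = n54868 := d2_1 D119146 (iv5 D54868) (iv2 F86761)
theorem F187466 : act 3 n119146 = n77671 := d6_1 D119146 (iv5 D77671) (iv3 F86762)
theorem F187467 : act 6 n119146 = n77667 := d12_2 D54826 D119146 (iv5 D77667) (iv6 D35459) (iv5 F42466)
def n119147 : Q := act 3 n54827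
theorem D119147 : act 3 n54827 = n119147 := rfl
theorem F187468 : act 2 n119147 = n75429 := d0_1 D119147 (iv3 D75429) F117918 (iv3 F52373) (iv2 F86764)
theorem F187469 : act 7 n119147 = n82797 := d8_2 F186535 D119147 F186537
theorem F187470 : act 1 n82796 = n119147 := d15_1 D82796 F187469 (iv2 D82797)
def n119148 : Q := act 5 n54827
theorem D119148 : act 5 n54827 = n119148 := rfl
theorem F187472 : act 2 n119148 = n71694 := d2_1 D119148 (iv5 D71694) (iv2 F86764)
def n119149 : Q := act 4 n54828
theorem D119149 : act 4 n54828 = n119149 := rfl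
def n119151 : Q := act 5 n54829
theorem D119151 : act 5 n54829 = n119151 := rfl
theorem F187475 : act 2 n119151 = n55032 := d2_1 D119151 F130337 (iv2 F130312)
theorem F187477 : act 6 n119151 = n84997 := d12_2 (iv6 F105692) D119151 F130326 (iv6 D69416) D69415
theorem F187478 : act 7 n119151 = n54926 := d13_2 F166614 D119151 F166615
theorem F187479 : act 0 n54909 = n119151 := d21_10 (iv5 D119151) (iv1 F166623) F166620 (iv6 F86305) (iv1 F110794) D33320 (iv5 F53258) (iv1 F110801) (iv5 D54908) D54909
theorem F187480 : act 1 n55035 = n119151 := d15_1 (iv0 F186992) F187478 F131621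
theorem E18541 : n55033 = n54926 := (c15_2 (iv0 D55032) D55033 (iv7 F187478) F187475)
theorem F187481 : act 0 n54926 = n26602 := (sb E18541 (iv1 D55033))
theorem F187482 : act 6 n71697 = n62745 := d21_3 D119151 (iv1 F187480) F162730 (iv1 D62745) (iv6 D29677) (iv5 D14099) (iv1 F26674) D12666 (iv6 F42467) D54829
def n119154 : Q := act 3 n54831
theorem D119154 : act 3 n54831 = n119154 := rfl
theorem F187483 : act 6 n119154 = n54843 := d7_2 (iv6 F86767) D119154 (iv3 D54843)
def n119157 : Q := act 6 n54832
theorem D119157 : act 6 n54832 = n119157 := rfl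
theorem F187485 : act 2 n119157 = n74936 := d3_1 D119157 (iv6 F166621) F166618
theorem F187486 : act 7 n119157 = n54846 := d14_2 D54832 D119157 (iv6 D54846) (iv7 D26532) (iv6 F42467)
theorem F187487 : act 1 n74935 = n119157 := d15_1 D74935 F187486 F86788
theorem F187488 : act 1 n119157 = n74934 := d15_0 (iv0 D74934) D74936 (iv2 F187485)
def n119158 : Q := act 4 n54836
theorem D119158 : act 4 n54836 = n119158 := rfl
theorem F187489 : act 2 n119158 = n54882 := d1_1 D119158 (iv4 D54882) (iv2 F86775)
theorem F187490 : act 6 n119158 = n54847 := d10_2 (iv6 F86776) D119158 (iv4 D54847)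
def n119159 : Q := act 3 n54837
theorem D119159 : act 3 n54837 = n119159 := rfl
def n119160 : Q := act 5 n54837
theorem D119160 : act 5 n54837 = n119160 := rfl
theorem F187492 : act 2 n119160 = n61531 := d2_1 D119160 (iv5 D61531) (iv2 F86778)
def n119161 : Q := act 6 n54837
theorem D119161 : act 6 n54837 = n119161 := rfl
theorem F187493 : act 2 n119161 = n61532 := d3_1 D119161 (iv6 D61532) (iv2 F86778)
theorem F187494 : act 4 n119161 = n54838 := d10_1 D119161 (iv6 D54838) D54837
def n119162 : Q := act 1 n54838
theorem D119162 : act 1 n54838 = n119162 := rfl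
theorem F187495 : act 1 n119162 = n61535 := d15_1 D119162 (iv7 D61535) (iv2 F86779)
theorem F187496 : act 7 n119162 = n61533 := d15_2 (iv0 F131031) D119162 (iv2 F130970)
theorem F187497 : act 2 n61534 = n119162 := d4_3 F187496 (iv2 F130970) (iv7 F130971)
theorem F187498 : act 1 n61535 = n75119 := d15_1 F187495 (iv7 F130971) F187497
theorem E18542 : n62790 = n62363 := ((c20_8 (iv4 F98047) F112626 F112625 (iv3 F112623) (iv1 F187498) F96060 (iv4 F95620) (iv1 F97242) (iv4 D62790) D62789 F109904)).symm
theorem F187499 : act 2 n62363 = n61608 := (sb E18542 F109922)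
theorem F187500 : act 4 n62363 = n29705 := (sb E18542 (iv4 D62790))
theorem F187501 : act 7 n62363 = n61603 := (sb E18542 (iv7 F109924))
theorem E18543 : n62785 = n62362 := (c15_4 (iv0 D62362) D62363 F187501 (iv2 F109925))
theorem F187502 : act 2 n62362 = n61603 := (sb E18543 F109925)
theorem F187503 : act 4 n62362 = n29704 := (sb E18543 (iv4 D62785))
theorem F187504 : act 7 n62362 = n61608 := (sb E18543 F109912)
theorem E18544 : n70270 = n70255 := ((c18_2 D32608 D70255 (iv1 F185413) F185409 F88009 (iv4 F95620) F97248 F187503 (iv0 D29704) (iv5 F24981))).symm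
theorem F187506 : act 1 n70255 = n32614 := (sb E18544 (iv0 D70270))
theorem E18545 : n70271 = n70259 := (c15_2 F187506 D70271 (iv7 F185372) F185371)
theorem F187507 : act 0 n70259 = n32614 := (sb E18545 (iv1 D70271))
theorem F187508 : act 1 n70259 = n118032 := (sb E18545 F185412)
def n119163 : Q := act 7 n54838
theorem D119163 : act 7 n54838 = n119163 := rfl
theorem F187511 : act 1 n61534 = n119163 := d15_1 D61534 (iv7 D119163) F86779
theorem F187512 : act 1 n119163 = n61533 := d15_1 F187511 (iv7 F187496) (iv2 F187497)
def n119164 : Q := act 3 n54839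
theorem D119164 : act 3 n54839 = n119164 := rfl
def n119165 : Q := act 5 n54839
theorem D119165 : act 5 n54839 = n119165 := rfl
theorem F187514 : act 2 n119165 = n61401 := d2_1 D119165 (iv5 D61401) (iv2 F86781)
def n119166 : Q := act 6 n54839
theorem D119166 : act 6 n54839 = n119166 := rfl
theorem F187515 : act 2 n119166 = n61402 := d3_1 D119166 (iv6 D61402) (iv2 F86781)
theorem F187516 : act 4 n119166 = n54840 := d10_1 D119166 (iv6 D54840) D54839
def n119167 : Q := act 0 n54840
theorem D119167 : act 0 n54840 = n119167 := rfl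
def n119168 : Q := act 1 n54840
theorem D119168 : act 1 n54840 = n119168 := rfl
theorem F187517 : act 1 n119168 = n61405 := d15_1 D119168 (iv7 D61405) (iv2 F86782)
theorem F187518 : act 5 n117672 = n119168 := d21_6 (iv5 D26146) F26924 (iv5 F20699) D26217 D54205 D117672 (iv1 D119168) (iv5 F103905) (iv6 D67857) F49867
def n119169 : Q := act 7 n54840
theorem D119169 : act 7 n54840 = n119169 := rfl
theorem F187519 : act 2 n119169 = n61405 := d4_1 D119169 (iv7 D61405) (iv2 F86782)
theorem F187520 : act 3 n119169 = n72563 := d8_1 D119169 (iv7 D72563) (iv3 F86783)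
theorem F187521 : act 6 n119169 = n71999 := d14_1 D119169 (iv7 D71999) F52493 F43274 D54840
theorem F187522 : act 1 n61405 = n119167 := d15_0 (iv0 D119167) D119169 F187519
theorem F187523 : act 1 n61404 = n119169 := d15_1 D61404 (iv7 D119169) F86782
theorem F187524 : act 1 n119169 = n61403 := d15_0 (iv0 D61403) D61405 (iv2 F187519)
def n119170 : Q := act 3 n54841
theorem D119170 : act 3 n54841 = n119170 := rfl
def n119171 : Q := act 5 n54841
theorem D119171 : act 5 n54841 = n119171 := rfl
theorem F187525 : act 0 n119171 = n74855 := d17_2 D54841 D119171 (iv5 D74855) (iv4 D34301) (iv5 D16604) F26825 (iv5 F42472) (iv0 D26530) D26531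
def n119172 : Q := act 6 n54841
theorem D119172 : act 6 n54841 = n119172 := rfl
def n119173 : Q := act 3 n54842
theorem D119173 : act 3 n54842 = n119173 := rfl
def n119174 : Q := act 5 n54842
theorem D119174 : act 5 n54842 = n119174 := rfl
theorem F187526 : act 1 n119174 = n74855 := d17_6 F95771 (iv5 D49843) (iv1 F56577) (iv5 F94574) (iv4 F94576) D119174 (iv5 D74855) (iv0 F96260) (iv4 D61674)
def n119175 : Q := act 6 n54842
theorem D119175 : act 6 n54842 = n119175 := rfl
def n119176 : Q := act 0 n54843
theorem D119176 : act 0 n54843 = n119176 := rfl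
def n119179 : Q := act 5 n54843
theorem D119179 : act 5 n54843 = n119179 := rfl
theorem F187527 : act 3 n119179 = n54844 := d6_1 D119179 (iv5 D54844) D54843
def n119180 : Q := act 7 n54843
theorem D119180 : act 7 n54843 = n119180 := rfl
theorem F187528 : act 3 n119180 = n54845 := d8_1 D119180 (iv7 D54845) D54843
def n119181 : Q := act 0 n54844
theorem D119181 : act 0 n54844 = n119181 := rfl
theorem F187529 : act 5 n119181 = n107877 := d17_3 (iv1 D54842) D54844 D119181 F166673 (iv5 D60046) (iv0 D28517) D28519 D60050 (iv4 F94576)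
theorem F187530 : act 1 n74932 = n119181 := d17_6 F46702 (iv5 D26529) (iv1 F26676) (iv5 F27118) D34338 D74932 F187529 F166671 (iv4 D61398)
def n119182 : Q := act 1 n54844
theorem D119182 : act 1 n54844 = n119182 := rfl
theorem F187531 : act 1 n119182 = n74932 := d15_1 D119182 (iv7 F166610) F166609
theorem F187532 : act 5 n119182 = n107876 := d17_7 F38078 (iv5 D14099) (iv1 F26674) D12666 D26531 D54844 D119182 (iv0 D107876) (iv4 D49822)
def n119183 : Q := act 4 n54844
theorem D119183 : act 4 n54844 = n119183 := rfl
theorem F187533 : act 5 n119183 = n106744 := d9_2 D54844 D119183 (iv4 D106744) F77992 F37984 (iv5 F27118) D34338 D74932 (iv4 F187375) (iv5 D119105) (iv4 D54808) (iv5 D26512) F21070 D12666 D26531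
def n119184 : Q := act 6 n54844
theorem D119184 : act 6 n54844 = n119184 := rfl
def n119185 : Q := act 7 n54844
theorem D119185 : act 7 n54844 = n119185 := rfl
theorem F187534 : act 2 n119185 = n74932 := d4_1 D119185 (iv7 F166610) F166609
theorem F187535 : act 5 n119185 = n54845 := d13_1 D119185 (iv7 D54845) D54844
def n119186 : Q := act 6 n54845
theorem D119186 : act 6 n54845 = n119186 := rfl
theorem F187537 : act 4 n119186 = n54846 := d10_1 D119186 (iv6 D54846) (iv4 F86786)
def n119187 : Q := act 0 n54846
theorem D119187 : act 0 n54846 = n119187 := rfl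
theorem F187538 : act 1 n74936 = n119187 := d15_0 (iv0 D119187) (iv7 F187486) F187485
def n119188 : Q := act 1 n54846
theorem D119188 : act 1 n54846 = n119188 := rfl
theorem F187539 : act 1 n119188 = n74936 := d15_1 D119188 (iv7 D74936) (iv2 F86788)
def n119189 : Q := act 0 n54847
theorem D119189 : act 0 n54847 = n119189 := rfl
theorem F187540 : act 4 n119189 = n68020 := d18_3 F42479 D54847 D119189 (iv5 D68020) D68019 (iv0 F104227) (iv4 D68095) (iv0 D31688) (iv5 F25603)
theorem F187541 : act 1 n54892 = n119189 := d15_0 (iv0 D119189) (iv7 F186061) F186060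
theorem F187542 : act 7 n54889 = n119189 := d11_0 F187540 F104142 F86829
theorem F187543 : act 2 n119189 = n54888 := d15_3 (iv0 D54888) D54889 F187542
def n119190 : Q := act 1 n54847
theorem D119190 : act 1 n54847 = n119190 := rfl
theorem F187544 : act 1 n119190 = n54892 := d15_1 D119190 (iv7 D54892) (iv2 F86789)
theorem F187545 : act 7 n119190 = n54888 := d15_2 (iv0 D119189) D119190 (iv2 F187543)
theorem F187546 : act 4 n119190 = n114618 := d18_7 (iv1 F83597) (iv4 F83599) F82876 F42440 D26533 D54847 D119190 F178720 (iv5 D70581)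
theorem F187547 : act 2 n54889 = n119190 := d1_3 F187546 (iv2 F178721) F86829
def n119191 : Q := act 3 n54847
theorem D119191 : act 3 n54847 = n119191 := rfl
def n119192 : Q := act 5 n54847
theorem D119192 : act 5 n54847 = n119192 := rfl
theorem F187548 : act 2 n119192 = n54891 := d2_1 D119192 (iv5 D54891) (iv2 F86789)
def n119193 : Q := act 6 n54848
theorem D119193 : act 6 n54848 = n119193 := rfl
theorem F187549 : act 3 n119193 = n54849 := d7_1 D119193 (iv6 D54849) D54848
theorem F187550 : act 4 n119193 = n54864 := d10_1 D119193 (iv6 D54864) (iv4 F86790)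
def n119194 : Q := act 5 n54849
theorem D119194 : act 5 n54849 = n119194 := rfl
def n119195 : Q := act 3 n54850
theorem D119195 : act 3 n54850 = n119195 := rfl
theorem F187552 : act 2 n119195 = n71856 := d0_1 D119195 (iv3 D71856) F185112 D33271 (iv2 F185100)
theorem F187553 : act 7 n119195 = n72060 := d8_2 (iv7 F185101) D119195 (iv3 F185048)
theorem F187554 : act 0 n119195 = n72136 := d20_4 (iv4 F25313) D32854 (iv4 F185136) D119195 (iv3 D72136) D72137 F108583 (iv4 D70955) (iv3 D32864) (iv1 D15817)
theorem E18546 : n72136 = n72059 := ((c15_1 D72059 (iv0 F187554) F187553 (iv2 D72060))).symm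
theorem F187555 : act 1 n72059 = n119195 := (sb E18546 (iv0 F187554))
theorem F187556 : act 3 n72059 = n33303 := (sb E18546 (iv3 D72136))
theorem F187557 : act 4 n72059 = n71037 := (sb E18546 F108582)
theorem F187558 : act 1 n71856 = n118923 := d15_0 (iv0 F187004) (iv7 F187553) F187552
theorem F187559 : act 1 n119195 = n72058 := d15_0 (iv0 D72058) (iv7 F185116) (iv2 F187552)
theorem F187560 : act 4 n118218 = n118806 := d20_2 D54457 (iv1 F185754) (iv3 F186878) (iv1 F187559) (iv3 D119195) F185136 (iv1 F107326) F107322 (iv3 F85987) (iv1 F85990)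
theorem E18547 : n118211 = n80596 := (c20_11 (iv4 F123926) (iv1 F108518) (iv4 D33277) D33276 D72058 F186878 (iv4 F187560) (iv1 D118218) (iv4 D54452) D54451 D118211)
theorem F187561 : act 1 n80596 = n54451 := (sb E18547 (iv0 D118211))
def n119196 : Q := act 5 n54850
theorem D119196 : act 5 n54850 = n119196 := rfl
theorem F187562 : act 2 n119196 = n72039 := d2_1 D119196 (iv5 D72039) (iv2 F185100)
theorem F187563 : act 6 n119196 = n58458 := d12_2 F115121 D119196 (iv5 F115122) (iv6 D76750) D76749
theorem F187564 : act 7 n119196 = n74102 := d13_2 (iv7 F185101) D119196 F110837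
theorem F187565 : act 0 n69671 = n119196 := d21_10 (iv5 D119196) (iv1 F107001) F106998 F87389 (iv1 F87362) F184899 (iv5 F184898) (iv1 F183618) F104925 D69671
def n119197 : Q := act 5 n54851
theorem D119197 : act 5 n54851 = n119197 := rfl
theorem F187566 : act 2 n119197 = n74102 := d2_1 D119197 F110837 (iv2 F185102)
theorem F187567 : act 3 n119197 = n71862 := d6_1 D119197 (iv5 D71862) (iv3 F108328)
theorem F187568 : act 7 n119197 = n72039 := d13_2 (iv7 F185103) D119197 (iv5 D72039)
theorem F187569 : act 0 n119197 = n69671 := d21_1 D119197 F110416 (iv6 F110415) F184448 F184445 (iv5 D107859) (iv1 F78726) (iv5 F112456) F112457 (iv1 F107000)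
theorem F187570 : act 6 n119197 = n55240 := d21_3 (iv5 F106998) (iv1 F107000) D119197 (iv1 F87418) (iv6 F87404) (iv5 F95882) (iv1 F96077) (iv5 F110808) (iv6 D74058) (iv1 F87395)
def n119198 : Q := act 6 n54851
theorem D119198 : act 6 n54851 = n119198 := rfl
theorem F187571 : act 3 n119198 = n71863 := d7_1 D119198 (iv6 D71863) (iv3 F108328)
theorem F187572 : act 4 n119198 = n70919 := d10_1 D119198 (iv6 D70919) (iv4 F108329)
theorem F187573 : act 0 n118145 = n119198 := d21_4 (iv5 D117767) (iv1 F85668) F85949 D118145 (iv6 D119198) D119197 F187569 F110416 (iv6 F110415) F184448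
def n119199 : Q := act 1 n54854
theorem D119199 : act 1 n54854 = n119199 := rfl
def n119200 : Q := act 5 n54854
theorem D119200 : act 5 n54854 = n119200 := rfl
theorem F187574 : act 3 n119200 = n81447 := d6_1 D119200 (iv5 D81447) (iv3 F86798)
theorem F187575 : act 6 n119200 = n81440 := d12_2 D54854 D119200 (iv5 D81440) (iv6 D37193) (iv5 F42492)
def n119201 : Q := act 7 n54854
theorem D119201 : act 7 n54854 = n119201 := rfl
theorem F187576 : act 3 n119201 = n81448 := d8_1 D119201 (iv7 D81448) (iv3 F86798)
theorem F187577 : act 4 n119201 = n54858 := d11_1 D119201 (iv7 D54858) (iv4 F86799)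
def n119202 : Q := act 2 n54855
theorem D119202 : act 2 n54855 = n119202 := rfl
theorem F187578 : act 7 n119202 = n54856 := d4_2 F178120 D119202 (iv2 F187359)
def n119203 : Q := act 4 n54855
theorem D119203 : act 4 n54855 = n119203 := rfl
def n119204 : Q := act 5 n54855
theorem D119204 : act 5 n54855 = n119204 := rfl
theorem F187579 : act 6 n119204 = n90810 := d12_2 (iv6 F138584) D119204 F143227 (iv6 D90136) D90135
def n119205 : Q := act 3 n54856
theorem D119205 : act 3 n54856 = n119205 := rfl
def n119206 : Q := act 4 n54856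
theorem D119206 : act 4 n54856 = n119206 := rfl
def n119207 : Q := act 5 n54856
theorem D119207 : act 5 n54856 = n119207 := rfl
def n119208 : Q := act 6 n54856
theorem D119208 : act 6 n54856 = n119208 := rfl
def n119209 : Q := act 0 n54857
theorem D119209 : act 0 n54857 = n119209 := rfl
def n119210 : Q := act 1 n54857
theorem D119210 : act 1 n54857 = n119210 := rfl
def n119211 : Q := act 4 n54857
theorem D119211 : act 4 n54857 = n119211 := rfl
theorem F187580 : act 6 n119211 = n54862 := d10_2 (iv6 F86800) D119211 (iv4 D54862)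
def n119212 : Q := act 7 n54857
theorem D119212 : act 7 n54857 = n119212 := rfl
theorem F187581 : act 5 n119212 = n54858 := d13_1 D119212 (iv7 D54858) D54857
def n119213 : Q := act 4 n54859
theorem D119213 : act 4 n54859 = n119213 := rfl
theorem F187582 : act 7 n119213 = n71896 := d11_2 (iv7 F86801) D119213 (iv4 D71896)
def n119214 : Q := act 6 n54859
theorem D119214 : act 6 n54859 = n119214 := rfl
theorem F187583 : act 5 n119214 = n68846 := d12_1 D119214 (iv6 D68846) (iv5 D32023) (iv6 F42495) D54859
def n119215 : Q := act 4 n54860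
theorem D119215 : act 4 n54860 = n119215 := rfl
theorem F187584 : act 2 n119215 = n114645 := d1_1 D119215 F179179 (iv2 F179180)
theorem F187585 : act 7 n119215 = n114646 := d11_2 (iv7 F178139) D119215 F178746
theorem F187586 : act 0 n119215 = n114649 := d18_2 D54860 D119215 F178747 F83616 (iv4 F83605) F83608 F51827 (iv0 F42432) D26540
theorem F187587 : act 0 n114603 = n119215 := d20_1 D114603 (iv4 D119215) (iv3 F178140) (iv1 F178078) F83347 (iv4 F83376) (iv1 F94511) F94513 (iv3 F104218) F104221
def n119216 : Q := act 6 n54860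
theorem D119216 : act 6 n54860 = n119216 := rfl
theorem F187588 : act 5 n119216 = n71949 := d12_1 D119216 (iv6 D71949) D71948 (iv6 F179190) F179187
def n119217 : Q := act 4 n54861
theorem D119217 : act 4 n54861 = n119217 := rfl
theorem F187589 : act 2 n119217 = n114646 := d1_1 D119217 F178746 F178134
theorem F187590 : act 7 n119217 = n114645 := d11_2 F179177 D119217 F179179
theorem F187591 : act 0 n119217 = n114603 := d18_2 F177970 D119217 (iv4 D114603) (iv5 D52899) (iv4 F55083) (iv0 F55084) F42494 F83292 D114189
theorem F187592 : act 1 n119217 = n114649 := d18_6 (iv1 F176822) (iv4 F182654) F182656 F104063 F86802 D119217 F178747 F178582 F178579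
def n119218 : Q := act 3 n54862
theorem D119218 : act 3 n54862 = n119218 := rfl
def n119219 : Q := act 5 n54862
theorem D119219 : act 5 n54862 = n119219 := rfl
def n119220 : Q := act 6 n54863
theorem D119220 : act 6 n54863 = n119220 := rfl
theorem F187593 : act 2 n119220 = n56064 := d3_1 D119220 (iv6 D56064) (iv2 F86803)
theorem F187594 : act 3 n119220 = n54865 := d7_1 D119220 (iv6 D54865) (iv3 F86804)
theorem F187595 : act 1 n119220 = n82564 := d15_0 (iv0 F155441) F133127 (iv2 F187593)
def n119221 : Q := act 5 n54864
theorem D119221 : act 5 n54864 = n119221 := rfl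
def n119222 : Q := act 0 n54865
theorem D119222 : act 0 n54865 = n119222 := rfl
def n119223 : Q := act 1 n54865
theorem D119223 : act 1 n54865 = n119223 := rfl
theorem F187597 : act 1 n119223 = n77668 := d15_1 D119223 (iv7 D77668) (iv2 F86811)
def n119224 : Q := act 5 n54865
theorem D119224 : act 5 n54865 = n119224 := rfl
theorem F187598 : act 2 n119224 = n77667 := d2_1 D119224 (iv5 D77667) (iv2 F86811)
theorem F187599 : act 6 n119224 = n54868 := d12_2 D54865 D119224 (iv5 D54868) (iv6 D26543) D26542
def n119225 : Q := act 7 n54865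
theorem D119225 : act 7 n54865 = n119225 := rfl
theorem F187600 : act 2 n119225 = n77668 := d4_1 D119225 (iv7 D77668) (iv2 F86811)
theorem F187601 : act 4 n119225 = n85563 := d11_1 D119225 F148878 F148877
theorem F187602 : act 1 n77668 = n119222 := d15_0 (iv0 D119222) D119225 F187600
theorem F187603 : act 1 n77666 = n119225 := d15_1 D77666 (iv7 D119225) F86811
theorem F187604 : act 1 n119225 = n77665 := d15_0 (iv0 D77665) D77668 (iv2 F187600)
def n119226 : Q := act 2 n54866
theorem D119226 : act 2 n54866 = n119226 := rfl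
theorem F187605 : act 7 n54867 = n119226 := d15_2 (iv0 D54866) D54867 (iv2 D119226)
theorem F187606 : act 4 n119226 = n118207 := d11_1 F187605 F185745 F185139
def n119227 : Q := act 3 n54866
theorem D119227 : act 3 n54866 = n119227 := rfl
def n119228 : Q := act 4 n54866
theorem D119228 : act 4 n54866 = n119228 := rfl
theorem F187607 : act 2 n119228 = n118207 := d1_1 D119228 (iv4 F187606) (iv2 D119226)
theorem F187608 : act 3 n118213 = n119228 := d0_0 F187607 (iv3 D118207) (iv2 D54450) D54451 D118213
theorem F187609 : act 7 n118230 = n119228 := d4_0 F187607 F185745 D118230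
theorem F187610 : act 1 n119228 = n118228 := d15_0 (iv0 D118228) (iv7 F185745) (iv2 F187607)
theorem F187611 : act 0 n119227 = n75485 := d20_4 (iv4 F187007) (iv1 F187610) (iv4 D119228) D119227 F113293 F54797 F117765 D17977 (iv3 F52552) D72177
theorem F187612 : act 4 n118812 = n70931 := d20_8 (iv4 D119228) (iv1 F186961) (iv4 D118908) F186899 (iv1 D118826) (iv3 D54698) D54699 (iv1 F186883) (iv3 F187008) (iv1 F187610)
theorem E18548 : n118213 = n72018 := (c20_6 D54699 (iv1 F186883) F187612 (iv3 F187008) (iv1 F187610) (iv3 F187608) (iv4 D72018) (iv1 F108318) F108316 (iv3 F86448) (iv1 F86451))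
theorem F187613 : act 2 n72018 = n54451 := (sb E18548 (iv2 D118213))
theorem F187614 : act 3 n72018 = n119228 := (sb E18548 F187608)
theorem E18549 : n118928 = n118805 := ((c20_11 (iv4 F187006) (iv1 F185758) (iv4 D54457) D54456 D118228 F187008 (iv4 F187612) (iv1 D118812) (iv4 D54694) D54693 D118805)).symm
theorem F187615 : act 3 n118805 = n54734 := (sb E18549 (iv3 D118928))
theorem F187616 : act 4 n118805 = n118217 := (sb E18549 (iv4 F187006))
theorem F187617 : act 4 n119227 = n72017 := d5_4 D72018 F187614 (iv4 D119228) D119227 (iv3 D72017)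
theorem F187618 : act 0 n119228 = n80527 := d20_4 (iv4 F25590) D33266 D72018 F187614 (iv3 D80527) D80528 F123801 (iv4 D72061) (iv3 D33276) (iv1 D16065)
theorem E18550 : n118229 = n80527 := (c15_1 D118229 (iv0 F187618) (iv7 F187609) (iv2 D118230))
theorem F187619 : act 0 n80527 = n54456 := (sb E18550 (iv1 D118229))
theorem E18551 : n72016 = n71851 := ((c1_3 D72018 F187613 (iv4 F108311) (iv2 D72016))).symm
theorem F187620 : act 2 n71851 = n33266 := (sb E18551 (iv2 D72016))
theorem F187621 : act 7 n71851 = n33267 := (sb E18551 (iv7 F108498))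
theorem E18552 : n118216 = n72023 := ((c11_2 F187621 D72023 (iv7 D118216) (iv4 F108311))).symm
theorem E18553 : n54455 = n54441 := (((F108500).symm.trans (sb E18552 F185753))).symm
theorem F187622 : act 7 n72023 = n54451 := (sb E18552 (iv7 D118216))
theorem E18554 : n118206 = n26330 := ((((iv1 D54441)).symm.trans (sb E18553 (iv1 F185744)))).symm
theorem E18556 : n118177 = n26335 := (((iv2 F185695)).symm.trans (sb E18553 F86001))
theorem E18557 : n118222 = n118178 := (((D118178).symm.trans (sb E18553 (iv4 F185757)))).symm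
theorem E18558 : n118225 = n85985 := ((((iv5 F155444)).symm.trans (sb E18553 (iv5 F185761)))).symm
theorem E18559 : n118227 = n118179 := (((D118179).symm.trans (sb E18553 D118227))).symm
theorem E18560 : n118174 = n26334 := ((F185693).symm.trans (sb E18553 (iv7 D54455)))
theorem E18561 : n54450 = n54440 := (((D54440).symm.trans (sb E18554 (iv1 D118206)))).symm
theorem F187623 : act 2 n26335 = n54441 := (sb E18556 F185695)
theorem F187624 : act 2 n118178 = n54457 := (sb E18557 F185756)
theorem F187625 : act 7 n118178 = n54452 := (sb E18557 (iv7 D118222))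
theorem F187626 : act 2 n85985 = n54458 := (sb E18558 F185760)
theorem F187627 : act 7 n85985 = n54453 := (sb E18558 (iv7 D118225))
theorem F187628 : act 2 n118179 = n54459 := (sb E18559 F185764)
theorem F187629 : act 7 n26334 = n54441 := (sb E18560 (iv7 F185693))
theorem F187630 : act 2 n54440 = n26334 := (sb E18561 (iv2 D54450))
theorem E18562 : n118207 = n118175 := (((D118175).symm.trans (sb E18561 D118207))).symm
theorem E18563 : n118208 = n118176 := (((D118176).symm.trans (sb E18561 D118208))).symm
theorem E18564 : n118209 = n85986 := (((F155442).symm.trans (sb E18561 D118209))).symm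
theorem E18565 : n118210 = n70041 := ((((iv6 F106428)).symm.trans (sb E18561 D118210))).symm
theorem F187631 : act 7 n54440 = n26335 := (sb E18561 (iv7 F86000))
theorem F187632 : act 2 n118175 = n119228 := (sb E18562 (iv2 F187607))
theorem E18566 : n119226 = n119144 := ((((iv4 F187462)).symm.trans (sb E18562 (iv4 F187606)))).symm
theorem F187633 : act 7 n118175 = n54456 := (sb E18562 F185745)
theorem F187634 : act 2 n118176 = n54452 := (sb E18563 F185746)
theorem F187635 : act 7 n118176 = n54457 := (sb E18563 F185747)
theorem F187636 : act 2 n85986 = n54453 := (sb E18564 F185748)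
theorem F187637 : act 7 n85986 = n54458 := (sb E18564 F185749)
theorem F187638 : act 2 n70041 = n54454 := (sb E18565 F185750)
theorem F187639 : act 2 n119144 = n54866 := (sb E18566 (iv2 D119226))
theorem F187640 : act 7 n119144 = n54867 := (sb E18566 (iv7 F187605))
theorem E18567 : n72021 = n71852 := (c15_4 F108313 (iv0 F108312) F187621 (iv2 F108499))
theorem F187641 : act 2 n71852 = n33267 := (sb E18567 F108499)
theorem F187642 : act 7 n71852 = n33266 := (sb E18567 (iv7 D72021))
theorem F187643 : act 2 n54867 = n119145 := d15_3 F187464 F187463 F187640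
theorem F187644 : act 7 n54866 = n119145 := d4_2 (iv7 F187640) F187639 (iv2 F187643)
theorem F187645 : act 4 n119145 = n118230 := d11_1 F187644 F187609 (iv4 D119228)
theorem E18568 : n70038 = n69921 := ((c2_3 D70041 F187638 F106349 F106427)).symm
theorem F187646 : act 2 n69921 = n32501 := (sb E18568 F106427)
theorem F187647 : act 7 n69921 = n32500 := (sb E18568 (iv7 D70038))
theorem E18569 : n118226 = n70036 := ((c13_2 F187647 D70036 (iv7 D118226) F106349)).symm
theorem F187648 : act 7 n70036 = n54454 := (sb E18569 (iv7 D118226))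
theorem E18570 : n70033 = n69920 := (c15_4 (iv0 D69920) D69921 F187647 D70033)
theorem F187649 : act 2 n69920 = n32500 := (sb E18570 (iv2 D70033))
theorem F187650 : act 7 n69920 = n32501 := (sb E18570 (iv7 F106426))
theorem F187651 : act 2 n70037 = n117203 := d3_3 (iv6 F183359) F187649 D70037
theorem E18571 : n117200 = n117184 := (c2_4 (iv5 F183341) F187651 (iv5 D117203) (iv2 F183358))
theorem F187652 : act 2 n117184 = n54016 := (sb E18571 F183358)
theorem F187653 : act 7 n117184 = n54015 := (sb E18571 (iv7 D117200))
theorem F187654 : act 7 n117198 = n70037 := d13_2 F187653 D117198 F183341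
theorem E18572 : n117195 = n117183 := (c15_4 (iv0 D117183) D117184 F187653 D117195)
theorem F187655 : act 2 n117183 = n54015 := (sb E18572 (iv2 D117195))
theorem F187656 : act 7 n117183 = n54016 := (sb E18572 (iv7 F183357))
theorem F187657 : act 7 n118233 = n98159 := d8_2 F187635 D118233 F185694
theorem F187658 : act 2 n60413 = n106078 := d2_3 (iv5 F185696) F187628 (iv5 F184773)
theorem F187659 : act 1 n55582 = n118238 := d15_1 (iv0 F185697) (iv7 D118238) (iv2 F187628)
theorem F187660 : act 7 n106079 = n60413 := d15_2 (iv0 D106078) D106079 F187658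
theorem F187661 : act 7 n60412 = n106078 := d15_2 F163028 F163029 (iv2 F187658)
theorem F187662 : act 2 n106079 = n60412 := d4_3 F187661 (iv2 F187658) (iv7 F187660)
theorem F187663 : act 5 n118238 = n106079 := d13_3 F187660 F184773 D118238
theorem F187664 : act 2 n118237 = n68005 := d3_3 F155445 F187626 D118237
theorem F187665 : act 7 n68006 = n118237 := d15_2 (iv0 D68005) D68006 F187664
def n119229 : Q := act 5 n54866
theorem D119229 : act 5 n54866 = n119229 := rfl
def n119230 : Q := act 6 n54866
theorem D119230 : act 6 n54866 = n119230 := rfl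
def n119231 : Q := act 3 n54867
theorem D119231 : act 3 n54867 = n119231 := rfl
theorem F187666 : act 4 n119231 = n118233 := d5_2 F185139 D119231 (iv3 D118233) (iv4 D54457) D54456
def n119232 : Q := act 5 n54867
theorem D119232 : act 5 n54867 = n119232 := rfl
def n119233 : Q := act 6 n54867
theorem D119233 : act 6 n54867 = n119233 := rfl
theorem F187667 : act 4 n119233 = n118232 := d10_1 D119233 (iv6 D118232) F185139
theorem F187668 : act 0 n75847 = n119233 := d20_1 (iv4 F113737) F187667 F185766 F185763 (iv3 D80610) F57684 (iv1 F43219) (iv4 F51220) D69588 F130250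
def n119234 : Q := act 0 n54868
theorem D119234 : act 0 n54868 = n119234 := rfl
def n119235 : Q := act 1 n54868
theorem D119235 : act 1 n54868 = n119235 := rfl
theorem F187669 : act 5 n84916 = n119235 := d21_6 (iv5 F60263) (iv1 D39283) (iv5 D18637) D18638 D39285 D84916 (iv1 D119235) (iv5 D54868) (iv6 D26543) (iv1 F42450)
def n119236 : Q := act 4 n54868
theorem D119236 : act 4 n54868 = n119236 := rfl
def n119237 : Q := act 7 n54868
theorem D119237 : act 7 n54868 = n119237 := rfl
theorem F187670 : act 5 n119237 = n54869 := d13_1 D119237 (iv7 D54869) D54868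
def n119238 : Q := act 3 n54877
theorem D119238 : act 3 n54877 = n119238 := rfl
theorem F187671 : act 2 n119238 = n75519 := d0_1 D119238 (iv3 D75519) (iv2 F117766) (iv3 F52552) (iv2 F113943)
theorem F187672 : act 7 n119238 = n82608 := d8_2 F186967 D119238 F186969
theorem F187673 : act 1 n82607 = n119238 := d15_1 D82607 F187672 (iv2 D82608)
theorem F187674 : act 1 n119238 = n82606 := d15_0 (iv0 D82606) (iv7 F113341) (iv2 F187671)
def n119239 : Q := act 5 n54877
theorem D119239 : act 5 n54877 = n119239 := rfl
theorem F187675 : act 2 n119239 = n72179 := d2_1 D119239 (iv5 D72179) (iv2 F113943)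
def n119240 : Q := act 6 n54877
theorem D119240 : act 6 n54877 = n119240 := rfl
theorem F187676 : act 2 n119240 = n72180 := d3_1 D119240 (iv6 D72180) (iv2 F113943)
theorem F187677 : act 4 n119240 = n54879 := d10_1 D119240 (iv6 D54879) D54877
def n119241 : Q := act 4 n54878
theorem D119241 : act 4 n54878 = n119241 := rfl
theorem F187678 : act 2 n119241 = n72183 := d1_1 D119241 (iv4 D72183) (iv2 F113944)
def n119242 : Q := act 4 n54881
theorem D119242 : act 4 n54881 = n119242 := rfl
theorem F187679 : act 2 n119242 = n72195 := d1_1 D119242 (iv4 D72195) (iv2 F86816)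
def n119243 : Q := act 6 n54881
theorem D119243 : act 6 n54881 = n119243 := rfl
theorem F187680 : act 2 n119243 = n72196 := d3_1 D119243 (iv6 D72196) (iv2 F86816)
theorem F187681 : act 5 n119243 = n84929 := d12_1 D119243 (iv6 D84929) (iv5 D39290) D39291 F86815
theorem F187682 : act 0 n118916 = n85456 := d21_4 (iv5 D26546) F113935 D54728 D118916 (iv6 D85456) D85455 (iv1 F131030) (iv5 F187681) (iv6 D119243) (iv1 D54881)
theorem F187683 : act 1 n118916 = n85467 := d15_1 (iv0 F187682) (iv7 D85467) (iv2 F130679)
theorem F187684 : act 7 n118521 = n119243 := d13_0 F187681 F130133 D118521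
theorem F187685 : act 0 n71829 = n119243 := d21_1 D71829 F187681 (iv6 D84929) (iv1 F110395) F130925 (iv5 D54282) D54278 F130934 (iv6 F130749) (iv1 F86205)
def n119244 : Q := act 0 n54882
theorem D119244 : act 0 n54882 = n119244 := rfl
def n119245 : Q := act 1 n54882
theorem D119245 : act 1 n54882 = n119245 := rfl
def n119246 : Q := act 3 n54882
theorem D119246 : act 3 n54882 = n119246 := rfl
theorem F187686 : act 4 n119246 = n74051 := d5_2 D54882 D119246 F110790 F53323 (iv3 F42499)
theorem F187687 : act 6 n119246 = n54890 := d7_2 (iv6 F86817) D119246 (iv3 D54890)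
def n119247 : Q := act 5 n54882
theorem D119247 : act 5 n54882 = n119247 := rfl
def n119248 : Q := act 7 n54882
theorem D119248 : act 7 n54882 = n119248 := rfl
theorem F187688 : act 4 n119248 = n54883 := d11_1 D119248 (iv7 D54883) D54882
def n119249 : Q := act 6 n54883
theorem D119249 : act 6 n54883 = n119249 := rfl
theorem F187689 : act 3 n119249 = n55219 := d7_1 D119249 F87365 (iv3 F86818)
theorem F187690 : act 5 n119249 = n74936 := d12_1 D119249 (iv6 F166621) F166620 (iv6 F86305) (iv5 F86819)
theorem F187691 : act 7 n119249 = n54893 := d14_2 D54883 D119249 (iv6 D54893) (iv7 D26553) (iv6 F42500)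
def n119250 : Q := act 3 n54884
theorem D119250 : act 3 n54884 = n119250 := rfl
theorem F187693 : act 7 n119250 = n71835 := d8_2 (iv7 F86822) D119250 (iv3 D71835)
def n119251 : Q := act 5 n54884
theorem D119251 : act 5 n54884 = n119251 := rfl
theorem F187694 : act 2 n119251 = n71291 := d2_1 D119251 (iv5 D71291) (iv2 F86821)
theorem F187695 : act 7 n119251 = n71836 := d13_2 (iv7 F86822) D119251 (iv5 D71836)
def n119252 : Q := act 6 n54884
theorem D119252 : act 6 n54884 = n119252 := rfl
theorem F187696 : act 2 n119252 = n71292 := d3_1 D119252 (iv6 D71292) (iv2 F86821)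
theorem F187697 : act 4 n119252 = n54885 := d10_1 D119252 (iv6 D54885) D54884
def n119253 : Q := act 0 n54885
theorem D119253 : act 0 n54885 = n119253 := rfl
def n119254 : Q := act 1 n54885
theorem D119254 : act 1 n54885 = n119254 := rfl
theorem F187698 : act 1 n119254 = n71295 := d15_1 D119254 (iv7 D71295) (iv2 F86823)
theorem F187699 : act 6 n72181 = n119254 := d21_3 (iv5 F130165) F130162 F130478 (iv1 D119254) (iv6 D54885) (iv5 D26549) (iv1 D12681) D12682 (iv6 F42500) (iv1 F113927)
theorem F187700 : act 5 n75874 = n119254 := d21_6 F11533 F26913 D15265 (iv6 F27559) D34684 D75874 (iv1 D119254) F86825 (iv6 D32015) F28390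
theorem F187701 : act 2 n119254 = n71294 := d3_1 F187699 (iv6 F187040) F130479
theorem F187702 : act 0 n119243 = n71824 := d21_10 (iv5 D71824) (iv1 F86206) F131010 (iv6 F131012) (iv1 F187698) (iv6 F187699) (iv5 F130478) (iv1 D84930) F86815 D119243
def n119255 : Q := act 7 n54885
theorem D119255 : act 7 n54885 = n119255 := rfl
theorem F187703 : act 2 n119255 = n71295 := d4_1 D119255 (iv7 D71295) (iv2 F86823)
theorem F187704 : act 3 n119255 = n72730 := d8_1 D119255 (iv7 D72730) (iv3 F86824)
theorem F187706 : act 6 n119255 = n58461 := d14_1 D119255 F130969 F52420 (iv7 F42505) D54885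
theorem F187707 : act 1 n71295 = n119253 := d15_0 (iv0 D119253) D119255 F187703
theorem F187708 : act 1 n71294 = n119255 := d15_1 D71294 (iv7 D119255) F86823
theorem F187709 : act 0 n72196 = n118454 := d21_10 (iv5 D118454) (iv1 F86204) (iv5 F130968) (iv6 F187706) (iv1 F187708) (iv6 F187040) F130480 F130234 F58347 D72196
theorem F187710 : act 7 n119253 = n71294 := d15_2 F187698 F187707 (iv2 F187701)
theorem F187711 : act 2 n119253 = n71293 := d15_3 (iv0 D71293) D71294 (iv7 F187710)
theorem F187712 : act 7 n71293 = n119254 := d4_2 (iv7 F187710) F187711 F187701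
theorem F187713 : act 1 n119255 = n71293 := d15_1 F187708 F187712 F187701
def n119256 : Q := act 3 n54886
theorem D119256 : act 3 n54886 = n119256 := rfl
def n119257 : Q := act 5 n54886
theorem D119257 : act 5 n54886 = n119257 := rfl
def n119259 : Q := act 0 n54887
theorem D119259 : act 0 n54887 = n119259 := rfl
def n119260 : Q := act 1 n54887
theorem D119260 : act 1 n54887 = n119260 := rfl
theorem F187718 : act 1 n119260 = n72235 := d15_1 D119260 (iv7 D72235) (iv2 F86827)
def n119261 : Q := act 7 n54887
theorem D119261 : act 7 n54887 = n119261 := rfl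
theorem F187719 : act 2 n119261 = n72235 := d4_1 D119261 (iv7 D72235) (iv2 F86827)
theorem F187721 : act 1 n72235 = n119259 := d15_0 (iv0 D119259) D119261 F187719
theorem F187722 : act 1 n72234 = n119261 := d15_1 D72234 (iv7 D119261) F86827
theorem F187723 : act 1 n119261 = n72233 := d15_0 (iv0 D72233) D72235 (iv2 F187719)
def n119262 : Q := act 3 n54888
theorem D119262 : act 3 n54888 = n119262 := rfl
def n119263 : Q := act 4 n54888
theorem D119263 : act 4 n54888 = n119263 := rfl
theorem F187724 : act 2 n119263 = n68020 := d1_1 D119263 (iv4 F187540) F187543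
theorem F187725 : act 7 n119263 = n114618 := d11_2 F187545 D119263 (iv4 F187546)
theorem F187726 : act 5 n119263 = n68018 := d18_4 (iv1 D26551) D26552 D54888 D119263 (iv4 F179188) (iv0 D115080) F83808 (iv0 F50388) F43285
theorem F187727 : act 1 n119263 = n76251 := d18_8 (iv1 F55085) F51827 D52709 F83290 D54527 D118409 F186063 D119263 (iv5 D76251)
theorem F187728 : act 3 n119263 = n72116 := d20_3 D26552 D54888 D119263 (iv1 F162642) F94874 D60351 F94875 (iv4 D33559) (iv3 F54110) (iv1 D26551)
theorem F187729 : act 4 n119262 = n72115 := d5_2 (iv4 D119263) D119262 (iv3 D72115) D72116 (iv3 F187728)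
theorem F187730 : act 0 n119263 = n114620 := d20_4 D16080 D33297 D72116 (iv3 F187728) F178727 D118308 F185876 F94709 (iv3 D33293) (iv1 D16079)
def n119264 : Q := act 5 n54888
theorem D119264 : act 5 n54888 = n119264 := rfl
def n119265 : Q := act 6 n54888
theorem D119265 : act 6 n54888 = n119265 := rfl
def n119266 : Q := act 3 n54889
theorem D119266 : act 3 n54889 = n119266 := rfl
theorem F187731 : act 4 n119266 = n118265 := d5_2 F86829 D119266 (iv3 D118265) (iv4 D54471) D54470
def n119267 : Q := act 5 n54889
theorem D119267 : act 5 n54889 = n119267 := rfl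
def n119268 : Q := act 6 n54889
theorem D119268 : act 6 n54889 = n119268 := rfl
theorem F187732 : act 4 n119268 = n118264 := d10_1 D119268 (iv6 D118264) F86829
def n119271 : Q := act 2 n54890
theorem D119271 : act 2 n54890 = n119271 := rfl
theorem F187733 : act 4 n119271 = n74050 := d1_2 (iv4 F86830) D119271 (iv2 D74050)
def n119273 : Q := act 7 n54890
theorem D119273 : act 7 n54890 = n119273 := rfl
theorem F187735 : act 3 n119273 = n54892 := d8_1 D119273 (iv7 D54892) D54890
theorem F187736 : act 4 n119273 = n55215 := d11_1 D119273 F87359 (iv4 F86830)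
def n119274 : Q := act 0 n54891
theorem D119274 : act 0 n54891 = n119274 := rfl
theorem F187737 : act 5 n119274 = n74083 := d17_3 (iv1 D54889) D54891 D119274 F110824 (iv5 D70580) F55085 D76251 (iv0 F114283) F86829
def n119275 : Q := act 1 n54891
theorem D119275 : act 1 n54891 = n119275 := rfl
theorem F187738 : act 5 n119275 = n74084 := d17_7 (iv1 F86147) (iv5 D26549) (iv1 D12681) D12682 D26552 D54891 D119275 (iv0 F186069) (iv4 D118411)
def n119278 : Q := act 7 n54891
theorem D119278 : act 7 n54891 = n119278 := rfl
theorem F187739 : act 5 n119278 = n54892 := d13_1 D119278 (iv7 D54892) D54891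
def n119279 : Q := act 6 n54892
theorem D119279 : act 6 n54892 = n119279 := rfl
theorem F187740 : act 4 n119279 = n54893 := d10_1 D119279 (iv6 D54893) (iv4 F86831)
def n119280 : Q := act 1 n54893
theorem D119280 : act 1 n54893 = n119280 := rfl
def n119281 : Q := act 0 n54894
theorem D119281 : act 0 n54894 = n119281 := rfl
def n119282 : Q := act 1 n54894
theorem D119282 : act 1 n54894 = n119282 := rfl
theorem F187741 : act 1 n119282 = n82393 := d15_1 D119282 (iv7 D82393) (iv2 F86834)
def n119283 : Q := act 5 n54894
theorem D119283 : act 5 n54894 = n119283 := rfl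
theorem F187742 : act 2 n119283 = n82392 := d2_1 D119283 (iv5 D82392) (iv2 F86834)
theorem F187743 : act 3 n119283 = n54898 := d6_1 D119283 (iv5 D54898) (iv3 F86835)
theorem F187744 : act 6 n119283 = n101608 := d12_2 D54894 D119283 (iv5 D101608) (iv6 D47265) F42513
def n119284 : Q := act 7 n54894
theorem D119284 : act 7 n54894 = n119284 := rfl
theorem F187745 : act 2 n119284 = n82393 := d4_1 D119284 (iv7 D82393) (iv2 F86834)
theorem F187746 : act 3 n119284 = n54899 := d8_1 D119284 (iv7 D54899) (iv3 F86835)
theorem F187747 : act 4 n119284 = n72762 := d11_1 D119284 (iv7 D72762) (iv4 F86836)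
theorem F187748 : act 6 n119284 = n82996 := d14_1 D119284 (iv7 D82996) (iv6 D38199) (iv7 F42511) D54894
theorem F187749 : act 1 n82393 = n119281 := d15_0 (iv0 D119281) D119284 F187745
theorem F187750 : act 1 n82391 = n119284 := d15_1 D82391 (iv7 D119284) F86834
theorem F187751 : act 1 n119284 = n82390 := d15_0 (iv0 D82390) D82393 (iv2 F187745)
def n119285 : Q := act 0 n54895
theorem D119285 : act 0 n54895 = n119285 := rfl
def n119286 : Q := act 1 n54895
theorem D119286 : act 1 n54895 = n119286 := rfl
theorem F187752 : act 1 n119286 = n54977 := d15_1 D119286 (iv7 D54977) (iv2 F86837)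
def n119287 : Q := act 5 n54895
theorem D119287 : act 5 n54895 = n119287 := rfl
theorem F187753 : act 2 n119287 = n54976 := d2_1 D119287 (iv5 D54976) (iv2 F86837)
theorem F187754 : act 3 n119287 = n101608 := d6_1 D119287 (iv5 D101608) (iv3 F86838)
theorem F187755 : act 6 n119287 = n54898 := d12_2 D54895 D119287 (iv5 D54898) (iv6 D26556) D26555
def n119288 : Q := act 7 n54895
theorem D119288 : act 7 n54895 = n119288 := rfl
theorem F187756 : act 2 n119288 = n54977 := d4_1 D119288 (iv7 D54977) (iv2 F86837)
theorem F187757 : act 3 n119288 = n101609 := d8_1 D119288 (iv7 D101609) (iv3 F86838)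
theorem F187758 : act 6 n119288 = n83650 := d14_1 D119288 (iv7 D83650) (iv6 D38565) (iv7 F42517) D54895
theorem F187759 : act 1 n54977 = n119285 := d15_0 (iv0 D119285) D119288 F187756
theorem F187760 : act 1 n54975 = n119288 := d15_1 D54975 (iv7 D119288) F86837
theorem F187761 : act 1 n119288 = n54974 := d15_0 (iv0 D54974) D54977 (iv2 F187756)
def n119289 : Q := act 3 n54896
theorem D119289 : act 3 n54896 = n119289 := rfl
theorem F187762 : act 4 n119289 = n60308 := d5_2 F86846 D119289 (iv3 D60308) (iv4 D28649) D28648
theorem F187763 : act 7 n119289 = n54984 := d8_2 (iv7 F185365) D119289 (iv3 D54984)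
def n119290 : Q := act 5 n54896
theorem D119290 : act 5 n54896 = n119290 := rfl
theorem F187764 : act 2 n119290 = n54981 := d2_1 D119290 (iv5 D54981) (iv2 F185364)
theorem F187765 : act 7 n119290 = n54986 := d13_2 (iv7 F185365) D119290 (iv5 D54986)
def n119291 : Q := act 6 n54896
theorem D119291 : act 6 n54896 = n119291 := rfl
theorem F187766 : act 2 n119291 = n54982 := d3_1 D119291 (iv6 D54982) (iv2 F185364)
theorem F187767 : act 4 n119291 = n60304 := d10_1 D119291 (iv6 D60304) F86846
def n119292 : Q := act 3 n54897
theorem D119292 : act 3 n54897 = n119292 := rfl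
theorem F187768 : act 7 n119292 = n54979 := d8_2 (iv7 F185367) D119292 (iv3 D54979)
theorem F187769 : act 4 n119292 = n79333 := d20_6 (iv4 D37795) (iv1 F29294) (iv4 F29568) (iv3 F42589) (iv1 F86839) D119292 (iv1 D79333) (iv4 F59147) F59146 (iv1 F121894)
def n119293 : Q := act 4 n54897
theorem D119293 : act 4 n54897 = n119293 := rfl
theorem F187770 : act 2 n119293 = n54985 := d1_1 D119293 (iv4 D54985) (iv2 F185366)
theorem F187771 : act 7 n119293 = n54980 := d11_2 (iv7 F185367) D119293 (iv4 D54980)
theorem F187772 : act 0 n119293 = n60040 := d20_1 D119293 F94553 F86868 (iv1 F184739) (iv3 D82403) (iv4 D37795) (iv1 F29294) (iv4 F29568) (iv3 F42589) (iv1 F86839)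
theorem F187773 : act 3 n119293 = n60324 := d20_3 (iv4 F42590) (iv1 F86839) D119293 F185362 F51757 (iv4 F51758) D70396 F109939 (iv3 D54901) (iv1 F42526)
theorem F187774 : act 0 n60300 = n119293 := d20_10 (iv4 D119293) (iv1 D54897) F42521 F21095 D16224 D33576 D72789 (iv1 F131170) (iv4 D60402) (iv3 F131202)
def n119294 : Q := act 5 n54897
theorem D119294 : act 5 n54897 = n119294 := rfl
theorem F187775 : act 2 n119294 = n54986 := d2_1 D119294 (iv5 D54986) (iv2 F185366)
theorem F187776 : act 7 n119294 = n54981 := d13_2 (iv7 F185367) D119294 (iv5 D54981)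
def n119295 : Q := act 6 n54897
theorem D119295 : act 6 n54897 = n119295 := rfl
theorem F187777 : act 2 n119295 = n54987 := d3_1 D119295 (iv6 D54987) (iv2 F185366)
def n119296 : Q := act 0 n54898
theorem D119296 : act 0 n54898 = n119296 := rfl
def n119297 : Q := act 1 n54898
theorem D119297 : act 1 n54898 = n119297 := rfl
theorem F187778 : act 1 n119297 = n54991 := d15_1 D119297 (iv7 D54991) (iv2 F86840)
theorem F187779 : act 5 n75604 = n119297 := d21_6 D18367 F29542 (iv5 D16765) D16766 D34581 D75604 (iv1 D119297) (iv5 D54898) (iv6 D26556) (iv1 F21092)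
def n119298 : Q := act 4 n54898
theorem D119298 : act 4 n54898 = n119298 := rfl
theorem F187780 : act 2 n119298 = n54990 := d1_1 D119298 (iv4 D54990) (iv2 F86840)
def n119299 : Q := act 7 n54898
theorem D119299 : act 7 n54898 = n119299 := rfl
theorem F187781 : act 2 n119299 = n54991 := d4_1 D119299 (iv7 D54991) (iv2 F86840)
theorem F187782 : act 5 n119299 = n54899 := d13_1 D119299 (iv7 D54899) D54898
theorem F187783 : act 1 n54991 = n119296 := d15_0 (iv0 D119296) D119299 F187781
theorem F187784 : act 1 n54989 = n119299 := d15_1 D54989 (iv7 D119299) F86840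
theorem F187785 : act 1 n119299 = n54988 := d15_0 (iv0 D54988) D54991 (iv2 F187781)
def n119300 : Q := act 5 n54901
theorem D119300 : act 5 n54901 = n119300 := rfl
theorem F187786 : act 2 n119300 = n79053 := d2_1 D119300 (iv5 D79053) (iv2 F162714)
theorem F187787 : act 3 n119300 = n54903 := d6_1 D119300 (iv5 D54903) D54901
theorem F187788 : act 7 n119300 = n55025 := d13_2 (iv7 F162715) D119300 (iv5 D55025)
def n119301 : Q := act 0 n54902
theorem D119301 : act 0 n54902 = n119301 := rfl
theorem F187789 : act 2 n55005 = n119301 := d15_3 (iv0 D119301) F184664 (iv7 F184586)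
theorem F187790 : act 1 n54907 = n119301 := d15_0 (iv0 D119301) F162717 (iv2 F162706)
theorem F187791 : act 7 n119301 = n54917 := d15_2 (iv0 F184665) F187790 F86867
theorem F187792 : act 3 n83360 = n119301 := d8_3 F187791 F86868 D83360
theorem F187793 : act 6 n84146 = n119301 := d14_5 F187791 (iv6 D54917) F42542 D39281 (iv7 F155159)
def n119302 : Q := act 5 n54902
theorem D119302 : act 5 n54902 = n119302 := rfl
theorem F187794 : act 2 n119302 = n55008 := d2_1 D119302 (iv5 D55008) (iv2 F162716)
theorem F187795 : act 7 n119302 = n55028 := d13_2 (iv7 F162717) D119302 (iv5 D55028)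
def n119303 : Q := act 6 n54902
theorem D119303 : act 6 n54902 = n119303 := rfl
theorem F187796 : act 2 n119303 = n55009 := d3_1 D119303 (iv6 D55009) (iv2 F162716)
theorem F187797 : act 4 n119303 = n54904 := d10_1 D119303 (iv6 D54904) D54902
def n119304 : Q := act 4 n54903
theorem D119304 : act 4 n54903 = n119304 := rfl
theorem F187798 : act 2 n119304 = n55013 := d1_1 D119304 (iv4 D55013) (iv2 F162718)
theorem F187799 : act 7 n119304 = n55030 := d11_2 (iv7 F162719) D119304 (iv4 D55030)
def n119305 : Q := act 6 n54903
theorem D119305 : act 6 n54903 = n119305 := rfl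
theorem F187801 : act 0 n119305 = n68758 := d21_4 F41602 D26557 D54903 D119305 (iv6 D68758) D68757 F181021 (iv5 F184117) (iv6 D117523) (iv1 D54150)
def n119306 : Q := act 1 n54904
theorem D119306 : act 1 n54904 = n119306 := rfl
theorem F187802 : act 1 n119306 = n55019 := d15_1 D119306 (iv7 D55019) (iv2 F162720)
theorem F187803 : act 7 n119306 = n54947 := d15_2 (iv0 F184256) D119306 F86918
theorem F187804 : act 6 n84931 = n119306 := d21_3 D54836 (iv1 F187038) F187036 (iv1 D119306) (iv6 D54904) D54903 F110799 F53258 (iv6 D33320) (iv1 F110797)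
theorem F187805 : act 2 n119306 = n55017 := d3_1 F187804 (iv6 F130166) (iv2 F130176)
theorem F187806 : act 3 n119306 = n73877 := d7_1 F187804 (iv6 F125764) (iv3 F130177)
def n119307 : Q := act 7 n54904
theorem D119307 : act 7 n54904 = n119307 := rfl
theorem F187807 : act 2 n119307 = n55019 := d4_1 D119307 (iv7 D55019) (iv2 F162720)
theorem F187808 : act 3 n119307 = n62701 := d8_1 D119307 F162903 F162885
theorem F187809 : act 5 n119307 = n62699 := d13_1 D119307 (iv7 F162912) (iv5 F87501)
theorem F187810 : act 6 n119307 = n55035 := d14_1 D119307 (iv7 D55035) (iv6 D26602) (iv7 F162713) D54904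
theorem F187811 : act 1 n55017 = n119307 := d15_1 D55017 (iv7 D119307) F162720
theorem F187812 : act 1 n119307 = n54947 := d15_1 F187811 (iv7 F187803) F187805
def n119308 : Q := act 1 n54906
theorem D119308 : act 1 n54906 = n119308 := rfl
theorem F187813 : act 7 n119308 = n54999 := d15_2 (iv0 F162703) D119308 F163022
theorem F187814 : act 3 n72786 = n119308 := d20_3 D49024 D106074 (iv4 F163034) (iv1 D119308) (iv3 D54906) D54907 F184665 F60250 F51564 F184616
theorem F187815 : act 2 n119308 = n54998 := d0_1 F187814 F163004 (iv2 F162852) F110023 (iv2 F163045)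
theorem F187816 : act 0 n55000 = n119308 := d20_4 (iv4 F56700) (iv1 F131199) (iv4 D79052) (iv3 F131171) (iv3 F187814) F163034 (iv1 F163033) (iv4 D60405) (iv3 F77389) (iv1 F110502)
def n119309 : Q := act 2 n54906
theorem D119309 : act 2 n54906 = n119309 := rfl
theorem F187817 : act 3 n119309 = n55023 := d0_2 D54906 D119309 (iv2 D55023) (iv3 D26599) F162705
theorem F187818 : act 4 n119309 = n105945 := d1_2 (iv4 F86850) D119309 F162702
theorem F187819 : act 7 n119309 = n55000 := d4_2 (iv7 F162704) D119309 (iv2 D55000)
theorem F187820 : act 1 n119309 = n54998 := d15_0 (iv0 D54998) (iv7 F162704) D119309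
def n119310 : Q := act 5 n54906
theorem D119310 : act 5 n54906 = n119310 := rfl
theorem F187822 : act 3 n119310 = n54908 := d6_1 D119310 (iv5 D54908) D54906
theorem F187823 : act 7 n119310 = n55002 := d13_2 (iv7 F162704) D119310 (iv5 D55002)
def n119311 : Q := act 6 n54906
theorem D119311 : act 6 n54906 = n119311 := rfl
theorem F187824 : act 3 n119311 = n54909 := d7_1 D119311 (iv6 D54909) D54906
theorem F187825 : act 4 n119311 = n106018 := d10_1 D119311 (iv6 D106018) (iv4 F86850)
def n119312 : Q := act 3 n54907
theorem D119312 : act 3 n54907 = n119312 := rfl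
theorem F187827 : act 7 n119312 = n55007 := d8_2 (iv7 F162707) D119312 (iv3 D55007)
def n119313 : Q := act 5 n54907
theorem D119313 : act 5 n54907 = n119313 := rfl
theorem F187828 : act 2 n119313 = n55028 := d2_1 D119313 (iv5 D55028) (iv2 F162706)
theorem F187829 : act 7 n119313 = n55008 := d13_2 (iv7 F162707) D119313 (iv5 D55008)
def n119314 : Q := act 6 n54907
theorem D119314 : act 6 n54907 = n119314 := rfl
theorem F187830 : act 2 n119314 = n55029 := d3_1 D119314 (iv6 D55029) (iv2 F162706)
theorem F187831 : act 4 n119314 = n54909 := d10_1 D119314 (iv6 D54909) D54907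
def n119315 : Q := act 4 n54908
theorem D119315 : act 4 n54908 = n119315 := rfl
theorem F187832 : act 2 n119315 = n55030 := d1_1 D119315 (iv4 D55030) (iv2 F162708)
theorem F187833 : act 7 n119315 = n55013 := d11_2 (iv7 F162709) D119315 (iv4 D55013)
def n119316 : Q := act 7 n54909
theorem D119316 : act 7 n54909 = n119316 := rfl
theorem F187835 : act 5 n119316 = n118607 := d13_1 D119316 F186556 F108178
theorem F187836 : act 6 n119316 = n55019 := d14_1 D119316 (iv7 D55019) (iv6 D26597) F162711 D54909
theorem F187837 : act 1 n54926 = n119316 := d15_1 (iv0 F187481) (iv7 D119316) F162710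
theorem F187838 : act 1 n119316 = n55032 := d15_1 F187837 F130339 (iv2 F131621)
def n119317 : Q := act 0 n54910
theorem D119317 : act 0 n54910 = n119317 := rfl
theorem F187839 : act 3 n119317 = n69978 := d20_5 D54343 (iv1 F131638) F88027 (iv3 F86852) D119317 (iv4 D69978) (iv1 F106344) F106340 (iv3 F85714) (iv1 F85718)
theorem F187840 : act 2 n73451 = n119317 := d15_3 (iv0 D119317) F130347 (iv7 F110151)
theorem E18573 : n73457 = n69978 := ((c0_3 D73451 F187840 F187839 (iv2 D73457) (iv3 D33779) D33778)).symm
theorem F187841 : act 2 n69978 = n33779 := (sb E18573 (iv2 D73457))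
theorem F187842 : act 7 n119317 = n73478 := d4_2 (iv7 F110151) F187840 (iv2 D73478)
theorem F187843 : act 1 n54914 = n119317 := d15_1 (iv0 F130348) F187842 (iv2 D73478)
theorem E18574 : n69976 = n69907 := ((c1_3 D69978 F187841 F106343 (iv2 D69976))).symm
theorem F187844 : act 2 n69907 = n32486 := (sb E18574 (iv2 D69976))
theorem F187845 : act 7 n69907 = n32487 := (sb E18574 (iv7 F106391))
theorem E18575 : n73460 = n69983 := ((c11_2 F187845 D69983 (iv7 D73460) F106343)).symm
theorem E18576 : n33783 = n33764 := ((((iv3 F106393)).symm.trans (sb E18575 F110159))).symm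
theorem F187846 : act 7 n69983 = n33779 := (sb E18575 (iv7 D73460))
theorem E18577 : n73450 = n16320 := ((((iv1 D33764)).symm.trans (sb E18576 (iv1 F110150)))).symm
theorem E18579 : n73408 = n16326 := (((iv2 F110106)).symm.trans (sb E18576 F53023))
theorem E18580 : n73466 = n73409 := (((D73409).symm.trans (sb E18576 (iv4 F110163)))).symm
theorem E18581 : n73471 = n73410 := (((D73410).symm.trans (sb E18576 (iv5 F110167)))).symm
theorem E18582 : n73475 = n73411 := (((D73411).symm.trans (sb E18576 D73475))).symm
theorem E18583 : n73404 = n16325 := ((F110105).symm.trans (sb E18576 (iv7 D33783)))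
theorem E18584 : n33778 = n33763 := (((D33763).symm.trans (sb E18577 (iv1 D73450)))).symm
theorem F187847 : act 2 n16326 = n33764 := (sb E18579 F110106)
theorem F187848 : act 2 n73409 = n33785 := (sb E18580 F110162)
theorem F187849 : act 7 n73409 = n33780 := (sb E18580 (iv7 D73466))
theorem F187850 : act 2 n73410 = n33786 := (sb E18581 F110166)
theorem F187851 : act 7 n73410 = n33781 := (sb E18581 (iv7 D73471))
theorem F187852 : act 2 n73411 = n33787 := (sb E18582 F110169)
theorem F187853 : act 7 n16325 = n33764 := (sb E18583 (iv7 F110105))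
theorem F187854 : act 2 n33763 = n16325 := (sb E18584 (iv2 D33778))
theorem E18585 : n73451 = n73405 := (((D73405).symm.trans (sb E18584 D73451))).symm
theorem E18586 : n73452 = n73406 := (((D73406).symm.trans (sb E18584 D73452))).symm
theorem E18587 : n73453 = n73407 := (((D73407).symm.trans (sb E18584 D73453))).symm
theorem E18588 : n73454 = n71628 := ((((iv6 F108119)).symm.trans (sb E18584 D73454))).symm
theorem F187855 : act 7 n33763 = n16326 := (sb E18584 (iv7 F53022))
theorem F187856 : act 2 n73405 = n119317 := (sb E18585 F187840)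
theorem F187857 : act 7 n73405 = n33784 := (sb E18585 F110151)
theorem F187858 : act 2 n73406 = n33780 := (sb E18586 F110152)
theorem F187859 : act 7 n73406 = n33785 := (sb E18586 F110153)
theorem F187860 : act 2 n73407 = n33781 := (sb E18587 F110154)
theorem F187861 : act 7 n73407 = n33786 := (sb E18587 F110155)
theorem F187862 : act 2 n71628 = n33782 := (sb E18588 F110156)
theorem E18589 : n69981 = n69908 := (c15_4 F106337 F106341 F187845 (iv2 F106392))
theorem F187863 : act 2 n69908 = n32487 := (sb E18589 F106392)
theorem F187864 : act 7 n69908 = n32486 := (sb E18589 (iv7 D69981))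
theorem E18590 : n71625 = n71413 := ((c2_3 D71628 F187862 F107914 F108118)).symm
theorem F187865 : act 2 n71413 = n33115 := (sb E18590 F108118)
theorem F187866 : act 7 n71413 = n33114 := (sb E18590 (iv7 D71625))
theorem E18591 : n73474 = n71623 := ((c13_2 F187866 D71623 (iv7 D73474) F107914)).symm
theorem F187867 : act 7 n71623 = n33782 := (sb E18591 (iv7 D73474))
theorem E18592 : n71620 = n71412 := (c15_4 (iv0 D71412) D71413 F187866 D71620)
theorem F187868 : act 2 n71412 = n33114 := (sb E18592 (iv2 D71620))
theorem F187869 : act 7 n71412 = n33115 := (sb E18592 (iv7 F108117))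
def n119318 : Q := act 7 n54910
theorem D119318 : act 7 n54910 = n119318 := rfl
theorem F187870 : act 2 n119318 = n54914 := d4_1 D119318 (iv7 D54914) (iv2 F86851)
theorem F187871 : act 3 n119318 = n55144 := d8_1 D119318 F87238 (iv3 F86852)
theorem F187872 : act 4 n119318 = n79722 := d11_1 D119318 F131649 (iv4 F86853)
theorem F187873 : act 5 n119318 = n73506 := d13_1 D119318 F110181 (iv5 F86854)
theorem F187874 : act 6 n119318 = n55125 := d14_1 D119318 (iv7 D55125) F42688 (iv7 F42532) D54910
theorem F187875 : act 1 n54912 = n119318 := d15_1 D54912 (iv7 D119318) F86851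
theorem F187876 : act 1 n119318 = n54911 := d15_0 (iv0 D54911) D54914 (iv2 F187870)
def n119319 : Q := act 2 n54911
theorem D119319 : act 2 n54911 = n119319 := rfl
theorem F187877 : act 7 n54912 = n119319 := d15_2 (iv0 D54911) D54912 (iv2 D119319)
def n119320 : Q := act 3 n54911
theorem D119320 : act 3 n54911 = n119320 := rfl
def n119321 : Q := act 4 n54911
theorem D119321 : act 4 n54911 = n119321 := rfl
def n119322 : Q := act 5 n54911
theorem D119322 : act 5 n54911 = n119322 := rfl
def n119323 : Q := act 6 n54911
theorem D119323 : act 6 n54911 = n119323 := rfl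
theorem F187878 : act 5 n119323 = n74923 := d21_6 (iv5 D27013) (iv1 F26784) (iv5 F27028) D26561 D54911 D119323 (iv1 D74923) (iv5 F86643) (iv6 D54769) (iv1 F43646)
def n119324 : Q := act 7 n54911
theorem D119324 : act 7 n54911 = n119324 := rfl
theorem F187879 : act 2 n119324 = n54912 := d4_1 D119324 F187877 (iv2 D119319)
def n119325 : Q := act 3 n54912
theorem D119325 : act 3 n54912 = n119325 := rfl
theorem F187880 : act 4 n69908 = n119325 := d20_2 (iv4 F51571) (iv1 F106337) (iv3 D119325) (iv1 D54912) F42535 (iv4 F42545) D54918 F131635 (iv3 D69912) (iv1 F51550)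
theorem F187881 : act 2 n119325 = n69983 := d1_1 F187880 (iv4 D69983) (iv2 F187863)
theorem F187882 : act 7 n119325 = n69978 := d11_2 (iv7 F187864) F187880 (iv4 D69978)
theorem E18593 : n73478 = n54912 := (c8_3 F187882 (iv3 F187839) F187842 D119325)
theorem E18594 : n119324 = n33784 := (((iv2 F187879)).symm.trans (sb E18593 (iv2 D73478)))
theorem E18595 : n119319 = n119317 := ((F187877).symm.trans (sb E18593 (iv7 F187842)))
theorem F187883 : act 2 n33784 = n54912 := (sb E18594 F187879)
theorem E18596 : n73405 = n54911 := (((iv7 F187857)).symm.trans (sb E18594 (iv7 D119324)))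
theorem F187884 : act 7 n119317 = n54912 := (sb E18595 (iv7 F187877))
theorem F187885 : act 2 n54911 = n119317 := (sb E18596 F187856)
theorem E18597 : n119320 = n33763 := ((D119320).symm.trans (sb E18596 (iv3 D73405)))
theorem F187886 : act 7 n54911 = n33784 := (sb E18596 F187857)
theorem F187887 : act 3 n33763 = n54911 := (sb E18597 (iv3 D119320))
theorem F187888 : act 1 n73456 = n119325 := d15_1 D73456 F187882 F187841
theorem F187889 : act 3 n119322 = n73407 := d6_3 (iv5 D73407) F187887 D119322
theorem F187890 : act 3 n119323 = n71628 := d7_3 F108119 F187887 D119323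
theorem F187891 : act 0 n70105 = n119321 := d20_1 D70105 (iv4 D119321) (iv3 F187887) (iv1 F53006) F25849 F11830 (iv1 F9581) F41776 D15405 D32528
theorem E18598 : n74923 = n71626 := ((c6_4 (iv5 F187878) F187890 (iv5 D71628) D71626)).symm
theorem F187893 : act 1 n71626 = n119040 := (sb E18598 F187295)
theorem F187894 : act 5 n71626 = n119323 := (sb E18598 (iv5 F187878))
theorem F187896 : act 7 n73479 = n119321 := d11_2 F187886 D73479 (iv4 D119321)
theorem F187897 : act 1 n119325 = n73455 := d15_0 (iv0 D73455) (iv7 F187846) (iv2 F187881)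
def n119326 : Q := act 4 n54912
theorem D119326 : act 4 n54912 = n119326 := rfl
theorem F187898 : act 2 n119326 = n73479 := d1_1 D119326 (iv4 D73479) F187883
theorem F187899 : act 3 n119326 = n86518 := d20_3 (iv4 F187872) (iv1 F187875) D119326 (iv1 D86518) F60997 F30262 F118103 D17533 D36310 D79722
def n119327 : Q := act 5 n54912
theorem D119327 : act 5 n54912 = n119327 := rfl
theorem F187900 : act 2 n119327 = n73480 := d2_1 D119327 (iv5 D73480) F187883
theorem F187901 : act 6 n117375 = n119327 := d21_5 (iv5 F55481) (iv1 D26170) D26171 (iv6 F85363) D117375 (iv5 D119327) (iv1 D54912) D54913 F86857 (iv1 F55618)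
def n119328 : Q := act 6 n54912
theorem D119328 : act 6 n54912 = n119328 := rfl
theorem F187902 : act 2 n119328 = n73481 := d3_1 D119328 (iv6 D73481) F187883
def n119329 : Q := act 0 n54913
theorem D119329 : act 0 n54913 = n119329 := rfl
def n119330 : Q := act 1 n54913
theorem D119330 : act 1 n54913 = n119330 := rfl
theorem F187903 : act 1 n119330 = n73506 := d15_1 D119330 F110181 (iv2 F86855)
def n119331 : Q := act 4 n54913
theorem D119331 : act 4 n54913 = n119331 := rfl
theorem F187904 : act 2 n119331 = n76682 := d1_1 D119331 F115040 (iv2 F86855)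
theorem F187905 : act 6 n119331 = n76637 := d10_2 (iv6 F86857) D119331 F114940
theorem F187906 : act 0 n119331 = n117983 := d20_7 (iv4 F51615) (iv1 F85771) F85773 (iv3 F113939) (iv1 D54933) (iv3 F86856) D119331 (iv4 D117983) (iv3 D54350) (iv1 F41769)
def n119332 : Q := act 7 n54913
theorem D119332 : act 7 n54913 = n119332 := rfl
theorem F187907 : act 2 n119332 = n73506 := d4_1 D119332 F110181 (iv2 F86855)
theorem F187908 : act 3 n119332 = n54935 := d8_1 D119332 (iv7 D54935) (iv3 F86856)
theorem F187909 : act 5 n119332 = n54914 := d13_1 D119332 (iv7 D54914) D54913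
theorem F187910 : act 6 n119332 = n73415 := d14_1 D119332 (iv7 D73415) F53004 D35027 (iv6 F86857)
theorem F187911 : act 1 n73506 = n119329 := d15_0 (iv0 D119329) D119332 F187907
theorem F187912 : act 1 n76684 = n119332 := d15_1 D76684 (iv7 D119332) F86855
theorem F187913 : act 1 n119332 = n76683 := d15_0 (iv0 D76683) (iv7 F110181) (iv2 F187907)
def n119333 : Q := act 6 n54915
theorem D119333 : act 6 n54915 = n119333 := rfl
theorem F187914 : act 2 n119333 = n83352 := d3_1 D119333 (iv6 D83352) (iv2 F86860)
theorem F187915 : act 3 n119333 = n54916 := d7_1 D119333 (iv6 D54916) D54915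
theorem F187916 : act 4 n119333 = n89097 := d10_1 D119333 (iv6 D89097) (iv4 F86861)
theorem F187917 : act 7 n85072 = n119333 := d11_0 F187916 (iv7 F155175) (iv4 F130423)
theorem F187918 : act 0 n83937 = n86594 := d20_1 D83937 F132840 (iv3 D85030) (iv1 F155135) (iv3 F187915) F187916 (iv1 F155433) (iv4 D83897) (iv3 F127950) (iv1 F127954)
theorem E18599 : n83936 = n83706 := ((c20_5 F86866 F155113 (iv4 D38584) D38583 D83706 (iv3 D83936) D83937 F187918 F132840 (iv3 D85030) (iv1 F155135))).symm
theorem F187919 : act 3 n83706 = n38661 := (sb E18599 (iv3 D83936))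
def n119334 : Q := act 5 n54916
theorem D119334 : act 5 n54916 = n119334 := rfl
theorem F187920 : act 2 n119334 = n84903 := d2_1 D119334 (iv5 D84903) (iv2 F86865)
theorem F187921 : act 7 n119334 = n85073 := d13_2 (iv7 F155136) D119334 (iv5 D85073)
def n119335 : Q := act 5 n54917
theorem D119335 : act 5 n54917 = n119335 := rfl
theorem F187922 : act 2 n119335 = n84898 := d2_1 D119335 (iv5 D84898) (iv2 F86867)
theorem F187923 : act 3 n119335 = n83359 := d6_1 D119335 (iv5 D83359) (iv3 F86868)
def n119336 : Q := act 3 n54918
theorem D119336 : act 3 n54918 = n119336 := rfl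
theorem F187924 : act 4 n119336 = n100727 := d5_2 (iv4 F131635) D119336 F154828 (iv4 D69913) D69912
theorem F187925 : act 7 n119336 = n84949 := d8_2 (iv7 F155224) D119336 (iv3 D84949)
def n119337 : Q := act 5 n54918
theorem D119337 : act 5 n54918 = n119337 := rfl
theorem F187926 : act 2 n119337 = n84946 := d2_1 D119337 (iv5 D84946) (iv2 F155223)
theorem F187927 : act 7 n119337 = n84951 := d13_2 (iv7 F155224) D119337 (iv5 D84951)
def n119338 : Q := act 6 n54918
theorem D119338 : act 6 n54918 = n119338 := rfl
theorem F187928 : act 2 n119338 = n84947 := d3_1 D119338 (iv6 D84947) (iv2 F155223)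
def n119339 : Q := act 3 n54919
theorem D119339 : act 3 n54919 = n119339 := rfl
theorem F187929 : act 7 n119339 = n84944 := d8_2 (iv7 F155237) D119339 (iv3 D84944)
def n119340 : Q := act 5 n54919
theorem D119340 : act 5 n54919 = n119340 := rfl
theorem F187930 : act 2 n119340 = n84951 := d2_1 D119340 (iv5 D84951) (iv2 F155235)
theorem F187931 : act 7 n119340 = n84946 := d13_2 (iv7 F155237) D119340 (iv5 D84946)
def n119341 : Q := act 6 n54919
theorem D119341 : act 6 n54919 = n119341 := rfl
theorem F187932 : act 2 n119341 = n84952 := d3_1 D119341 (iv6 D84952) (iv2 F155235)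
theorem F187933 : act 7 n85089 = n119341 := d15_2 F155239 D85089 F187932
def n119342 : Q := act 0 n54920
theorem D119342 : act 0 n54920 = n119342 := rfl
def n119343 : Q := act 1 n54920
theorem D119343 : act 1 n54920 = n119343 := rfl
theorem F187934 : act 1 n119343 = n84956 := d15_1 D119343 (iv7 D84956) (iv2 F86870)
theorem F187935 : act 5 n119230 = n119343 := d21_6 (iv5 F86749) (iv1 F86750) (iv5 D26542) D26543 D54866 D119230 (iv1 D119343) (iv5 D54920) (iv6 D26564) D26562
def n119344 : Q := act 4 n54920
theorem D119344 : act 4 n54920 = n119344 := rfl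
theorem F187936 : act 2 n119344 = n84955 := d1_1 D119344 (iv4 D84955) (iv2 F86870)
def n119345 : Q := act 7 n54920
theorem D119345 : act 7 n54920 = n119345 := rfl
theorem F187937 : act 2 n119345 = n84956 := d4_1 D119345 (iv7 D84956) (iv2 F86870)
theorem F187938 : act 5 n119345 = n54921 := d13_1 D119345 (iv7 D54921) D54920
theorem F187939 : act 1 n84956 = n119342 := d15_0 (iv0 D119342) D119345 F187937
theorem F187940 : act 1 n84954 = n119345 := d15_1 D84954 (iv7 D119345) F86870
theorem F187941 : act 1 n119345 = n84953 := d15_0 (iv0 D84953) D84956 (iv2 F187937)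
def n119346 : Q := act 4 n54923
theorem D119346 : act 4 n54923 = n119346 := rfl
theorem F187942 : act 2 n119346 = n55078 := d1_1 D119346 (iv4 D55078) (iv2 F131615)
theorem F187943 : act 7 n119346 = n73548 := d11_2 (iv7 F131616) D119346 (iv4 D73548)
theorem F187944 : act 0 n119346 = n73552 := d20_1 D119346 (iv4 F122436) (iv3 D79751) (iv1 F57041) (iv3 F57109) (iv4 F122533) (iv1 F122537) (iv4 F110207) (iv3 D73539) (iv1 F131614)
theorem F187945 : act 1 n119346 = n73551 := d15_0 (iv0 D73551) (iv7 F87096) (iv2 F187942)
theorem F187946 : act 4 n117962 = n73551 := d20_0 (iv1 F187945) (iv4 D119346) (iv3 D54923) (iv1 F42550) (iv3 F53239) (iv4 F110451) (iv1 F131637) (iv4 D54343) D54342 D117962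
theorem F187947 : act 3 n117962 = n69997 := d20_3 D33806 D73551 (iv4 F187946) (iv1 D69997) (iv3 D32491) D32492 D70003 F110209 (iv3 D73544) (iv1 D33804)
def n119347 : Q := act 5 n54923
theorem D119347 : act 5 n54923 = n119347 := rfl
theorem F187948 : act 2 n119347 = n55079 := d2_1 D119347 (iv5 D55079) (iv2 F131615)
theorem F187950 : act 7 n119347 = n73549 := d13_2 (iv7 F131616) D119347 (iv5 D73549)
def n119348 : Q := act 6 n54923
theorem D119348 : act 6 n54923 = n119348 := rfl
theorem F187955 : act 7 n119348 = n74011 := d14_2 (iv7 F131616) D119348 (iv6 F131589) F131590 (iv6 D73550)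
theorem F187956 : act 5 n71743 = n119348 := d13_3 F187955 (iv5 F186564) F186565
def n119349 : Q := act 0 n54924
theorem D119349 : act 0 n54924 = n119349 := rfl
theorem F187959 : act 4 n119349 = n70070 := d20_2 D54924 D119349 (iv3 D70070) (iv1 F57111) F57109 D70113 (iv1 F131634) F61032 F42535 D26565
theorem F187960 : act 1 n54929 = n119349 := d15_0 (iv0 D119349) F131618 (iv2 F131603)
theorem E18600 : n70070 = n70019 := ((c20_11 (iv4 F187959) (iv1 F187960) (iv4 D54929) (iv3 F131602) (iv1 D12722) (iv3 F21117) (iv4 F42628) D55057 F155234 (iv3 F130290) (iv1 F130293))).symm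
theorem F187961 : act 3 n70019 = n32518 := (sb E18600 (iv3 D70070))
theorem F187962 : act 4 n70019 = n119349 := (sb E18600 (iv4 F187959))
def n119350 : Q := act 1 n54924
theorem D119350 : act 1 n54924 = n119350 := rfl
theorem F187963 : act 1 n119350 = n54929 := d15_1 D119350 F131606 (iv2 F131617)
theorem F187964 : act 4 n70018 = n119350 := d20_0 (iv1 D119350) (iv4 D54924) D54923 F131613 D73544 (iv4 F110209) (iv1 F106413) (iv4 D32497) D32496 D70018
theorem E18601 : n84944 = n83362 := (c20_4 (iv4 F187964) (iv1 F130292) (iv4 D84945) D84944 (iv1 F128483) F59274 F29522 F117933 D27741 (iv3 F131604) (iv1 F187963))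
theorem F187965 : act 3 n83362 = n39296 := (sb E18601 (iv3 D84944))
theorem F187966 : act 7 n83362 = n119339 := (sb E18601 (iv7 F187929))
theorem F187967 : act 3 n70018 = n117953 := d20_3 D54929 (iv1 F187963) (iv4 F187964) (iv1 D117953) (iv3 D54337) D54338 F131636 F110451 F53239 (iv1 F42546)
theorem F187968 : act 4 n73462 = n117953 := d20_8 (iv4 D84945) (iv1 F86876) F86872 (iv3 F86858) F130348 (iv3 D33784) D33785 (iv1 F110160) (iv3 F187967) (iv1 F130292)
theorem E18602 : n73544 = n73455 := ((c20_11 (iv4 F110209) (iv1 F106413) (iv4 D32497) D32496 D70018 F187967 (iv4 F187968) (iv1 D73462) (iv4 D33780) D33779 D73455)).symm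
theorem F187969 : act 3 n73455 = n33804 := (sb E18602 (iv3 D73544))
theorem F187970 : act 4 n73455 = n70003 := (sb E18602 (iv4 F110209))
theorem F187971 : act 2 n119339 = n83363 := d15_3 F128480 F128483 F187966
def n119351 : Q := act 3 n54924
theorem D119351 : act 3 n54924 = n119351 := rfl
theorem F187972 : act 2 n119351 = n82942 := d0_1 D119351 (iv3 D82942) F59550 (iv3 F118003) (iv2 F131617)
theorem F187973 : act 7 n119351 = n83449 := d8_2 (iv7 F131618) D119351 F130341
theorem F187974 : act 1 n83448 = n119351 := d15_1 D83448 F187973 (iv2 D83449)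
theorem F187975 : act 1 n119351 = n83447 := d15_0 (iv0 D83447) (iv7 F127814) (iv2 F187972)
def n119352 : Q := act 5 n54924
theorem D119352 : act 5 n54924 = n119352 := rfl
theorem F187976 : act 2 n119352 = n73522 := d2_1 D119352 (iv5 D73522) (iv2 F131617)
theorem F187977 : act 7 n119352 = n84992 := d13_2 (iv7 F131618) D119352 (iv5 D84992)
def n119353 : Q := act 6 n54924
theorem D119353 : act 6 n54924 = n119353 := rfl
theorem F187978 : act 2 n119353 = n73523 := d3_1 D119353 (iv6 D73523) (iv2 F131617)
theorem F187979 : act 4 n119353 = n54926 := d10_1 D119353 (iv6 D54926) D54924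
def n119354 : Q := act 0 n54925
theorem D119354 : act 0 n54925 = n119354 := rfl
theorem F187980 : act 5 n119354 = n55323 := d21_2 D54925 D119354 (iv6 D55323) (iv1 D26733) (iv6 D12791) (iv5 D6047) D6044 F27027 D12700 D26565
theorem F187981 : act 1 n54930 = n119354 := d15_0 (iv0 D119354) F131620 (iv2 F131607)
theorem F187982 : act 2 n73524 = n119354 := d2_3 F187980 (iv2 F186983) F186981
def n119355 : Q := act 1 n54925
theorem D119355 : act 1 n54925 = n119355 := rfl
theorem F187984 : act 1 n119355 = n54930 := d15_1 D119355 F131609 (iv2 F131619)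
theorem F187986 : act 5 n85167 = n119355 := d21_0 (iv1 D119355) (iv5 D54925) D54926 F187481 (iv6 D26602) D26601 (iv1 F87020) F113949 (iv6 F110225) F130512
theorem F187987 : act 2 n119355 = n73525 := d2_1 F187986 F186989 F186988
theorem F187988 : act 6 n119355 = n85170 := d12_2 D85167 F187986 (iv5 D85170) (iv6 D39376) D39375
def n119356 : Q := act 4 n54925
theorem D119356 : act 4 n54925 = n119356 := rfl
theorem F187989 : act 2 n119356 = n73526 := d1_1 D119356 (iv4 D73526) (iv2 F131619)
theorem F187990 : act 7 n119356 = n84994 := d11_2 (iv7 F131620) D119356 (iv4 D84994)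
def n119357 : Q := act 6 n54925
theorem D119357 : act 6 n54925 = n119357 := rfl
theorem F187991 : act 2 n119357 = n73527 := d3_1 D119357 (iv6 D73527) (iv2 F131619)
def n119358 : Q := act 5 n54929
theorem D119358 : act 5 n54929 = n119358 := rfl
theorem F187992 : act 2 n119358 = n84992 := d2_1 D119358 (iv5 D84992) (iv2 F131603)
theorem F187993 : act 3 n119358 = n58233 := d6_1 D119358 (iv5 D58233) (iv3 F131604)
theorem F187994 : act 7 n119358 = n73522 := d13_2 (iv7 F131606) D119358 (iv5 D73522)
def n119359 : Q := act 4 n54930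
theorem D119359 : act 4 n54930 = n119359 := rfl
theorem F187995 : act 2 n119359 = n84994 := d1_1 D119359 (iv4 D84994) (iv2 F131607)
theorem F187996 : act 7 n119359 = n73526 := d11_2 (iv7 F131609) D119359 (iv4 D73526)
def n119360 : Q := act 3 n54932
theorem D119360 : act 3 n54932 = n119360 := rfl
theorem F187997 : act 2 n119360 = n55092 := d0_1 D119360 (iv3 D55092) F42665 D33812 (iv2 F113952)
theorem F187998 : act 7 n119360 = n73573 := d8_2 (iv7 F130249) D119360 F130245
def n119361 : Q := act 4 n54932
theorem D119361 : act 4 n54932 = n119361 := rfl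
theorem F188001 : act 2 n119361 = n73569 := d1_1 D119361 (iv4 D73569) (iv2 F113952)
theorem F188002 : act 7 n119361 = n85005 := d11_2 (iv7 F130249) D119361 (iv4 D85005)
def n119362 : Q := act 5 n54932
theorem D119362 : act 5 n54932 = n119362 := rfl
theorem F188003 : act 2 n119362 = n73570 := d2_1 D119362 (iv5 D73570) (iv2 F113952)
theorem F188004 : act 6 n119362 = n117660 := d12_2 (iv6 F183982) D119362 F184255 (iv6 D117480) D117479
theorem F188005 : act 7 n119362 = n85006 := d13_2 (iv7 F130249) D119362 (iv5 D85006)
theorem F188007 : act 0 n118917 = n119362 := d21_10 (iv5 D119362) (iv1 F86884) F60287 (iv6 F42564) F53233 D33864 D73703 F187414 (iv5 D119118) F186982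
def n119363 : Q := act 4 n54933
theorem D119363 : act 4 n54933 = n119363 := rfl
theorem F188008 : act 2 n119363 = n85005 := d1_1 D119363 (iv4 D85005) (iv2 F130246)
theorem F188009 : act 7 n119363 = n73569 := d11_2 (iv7 F113941) D119363 (iv4 D73569)
def n119364 : Q := act 6 n54933
theorem D119364 : act 6 n54933 = n119364 := rfl
theorem F188010 : act 2 n119364 = n85007 := d3_1 D119364 (iv6 D85007) (iv2 F130246)
theorem F188011 : act 3 n119364 = n55094 := d7_1 D119364 (iv6 D55094) (iv3 F113939)
theorem F188012 : act 5 n119364 = n118916 := d12_1 D119364 (iv6 D118916) (iv5 D54728) D54729 (iv5 F113940)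
theorem F188013 : act 0 n55620 = n118062 := d21_10 F185472 (iv1 F187683) (iv5 F188012) (iv6 D119364) (iv1 D54933) (iv6 F42849) (iv5 D26727) (iv1 F26779) D26856 D55620
def n119365 : Q := act 0 n54934
theorem D119365 : act 0 n54934 = n119365 := rfl
def n119366 : Q := act 1 n54934
theorem D119366 : act 1 n54934 = n119366 := rfl
theorem F188014 : act 1 n119366 = n85012 := d15_1 D119366 (iv7 D85012) (iv2 F86881)
def n119367 : Q := act 3 n54934
theorem D119367 : act 3 n54934 = n119367 := rfl
def n119368 : Q := act 5 n54934
theorem D119368 : act 5 n54934 = n119368 := rfl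
theorem F188015 : act 2 n119368 = n85011 := d2_1 D119368 (iv5 D85011) (iv2 F86881)
def n119369 : Q := act 7 n54934
theorem D119369 : act 7 n54934 = n119369 := rfl
theorem F188016 : act 2 n119369 = n85012 := d4_1 D119369 (iv7 D85012) (iv2 F86881)
theorem F188017 : act 4 n119369 = n54935 := d11_1 D119369 (iv7 D54935) D54934
theorem F188018 : act 1 n85012 = n119365 := d15_0 (iv0 D119365) D119369 F188016
theorem F188019 : act 1 n85009 = n119369 := d15_1 D85009 (iv7 D119369) F86881
theorem F188020 : act 1 n119369 = n85008 := d15_0 (iv0 D85008) D85012 (iv2 F188016)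
def n119370 : Q := act 6 n54935
theorem D119370 : act 6 n54935 = n119370 := rfl
theorem F188021 : act 2 n119370 = n55074 := d3_1 D119370 F87088 (iv2 F86882)
theorem F188022 : act 3 n119370 = n73415 := d7_1 D119370 (iv6 F187910) F187908
theorem F188023 : act 5 n119370 = n55051 := d12_1 D119370 F87057 F53176 (iv6 F42549) (iv5 F86883)
theorem F188024 : act 7 n119370 = n55050 := d14_2 D54935 D119370 F87054 F43279 F42849
theorem F188025 : act 1 n55072 = n119370 := d15_1 D55072 F188024 F87052
theorem F188026 : act 1 n119370 = n55071 := d15_1 F188025 (iv7 F131187) F185122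
def n119371 : Q := act 0 n54936
theorem D119371 : act 0 n54936 = n119371 := rfl
theorem F188027 : act 2 n82896 = n119371 := d15_3 (iv0 D119371) (iv0 F119015) (iv7 F127691)
theorem F188028 : act 3 n119371 = n83219 := d0_2 D82896 F188027 (iv2 D83219) (iv3 D38304) (iv2 F118626)
theorem F188029 : act 4 n119371 = n84429 := d1_2 (iv4 F127690) F188027 (iv2 D84429)
theorem F188030 : act 7 n119371 = n83228 := d4_2 (iv7 F127691) F188027 (iv2 D83228)
theorem F188031 : act 1 n80261 = n83228 := d15_1 (iv0 F129629) (iv7 F188030) (iv2 F188027)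
theorem F188032 : act 1 n83227 = n119371 := d15_1 D83227 F188030 (iv2 D83228)
def n119372 : Q := act 5 n54936
theorem D119372 : act 5 n54936 = n119372 := rfl
theorem F188033 : act 3 n119372 = n54940 := d6_1 D119372 (iv5 D54940) (iv3 F86887)
theorem F188034 : act 0 n83244 = n119372 := d21_7 (iv5 F86809) (iv1 D35447) D35450 D77639 F186529 D82767 (iv5 F128325) (iv5 D119372) (iv6 D54936) (iv1 F72365)
def n119373 : Q := act 7 n54936
theorem D119373 : act 7 n54936 = n119373 := rfl
theorem F188035 : act 2 n119373 = n83227 := d4_1 D119373 F128301 F123343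
theorem F188036 : act 3 n119373 = n54941 := d8_1 D119373 (iv7 D54941) (iv3 F86887)
theorem F188037 : act 4 n119373 = n73725 := d11_1 D119373 (iv7 D73725) (iv4 F86888)
theorem F188038 : act 6 n119373 = n83401 := d14_1 D119373 F131630 (iv6 D39293) (iv7 F42554) D54936
theorem F188039 : act 1 n83228 = n119373 := d15_1 F188031 (iv7 D119373) (iv2 F123343)
theorem F188040 : act 1 n119373 = n82896 := d15_1 F188039 F127691 D83228
def n119374 : Q := act 0 n54937
theorem D119374 : act 0 n54937 = n119374 := rfl
def n119375 : Q := act 1 n54937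
theorem D119375 : act 1 n54937 = n119375 := rfl
theorem F188041 : act 1 n119375 = n84911 := d15_1 D119375 (iv7 D84911) (iv2 F86889)
def n119376 : Q := act 5 n54937
theorem D119376 : act 5 n54937 = n119376 := rfl
theorem F188043 : act 6 n119376 = n54940 := d12_2 D54937 D119376 (iv5 D54940) (iv6 D26571) D26570
def n119377 : Q := act 7 n54937
theorem D119377 : act 7 n54937 = n119377 := rfl
theorem F188044 : act 2 n119377 = n84911 := d4_1 D119377 (iv7 D84911) (iv2 F86889)
theorem F188045 : act 6 n119377 = n84942 := d14_1 D119377 (iv7 D84942) (iv6 D39295) (iv7 F42557) D54937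
theorem F188046 : act 1 n84911 = n119374 := d15_0 (iv0 D119374) D119377 F188044
theorem F188047 : act 1 n84909 = n119377 := d15_1 D84909 (iv7 D119377) F86889
theorem F188048 : act 1 n119377 = n84908 := d15_0 (iv0 D84908) D84911 (iv2 F188044)
def n119378 : Q := act 3 n54938
theorem D119378 : act 3 n54938 = n119378 := rfl
theorem F188049 : act 7 n119378 = n84918 := d8_2 (iv7 F155330) D119378 (iv3 D84918)
def n119379 : Q := act 4 n54938
theorem D119379 : act 4 n54938 = n119379 := rfl
theorem F188050 : act 2 n119379 = n84914 := d1_1 D119379 (iv4 D84914) (iv2 F155329)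
theorem F188051 : act 7 n119379 = n84919 := d11_2 (iv7 F155330) D119379 (iv4 D84919)
theorem F188052 : act 1 n118112 = n119379 := d15_1 D118112 F188051 F155331
theorem F188053 : act 3 n73627 = n119379 := d0_0 F188050 F130128 F155323 D54405 (iv2 F155343)
theorem F188054 : act 1 n119379 = n118111 := d15_0 (iv0 D118111) F155326 (iv2 F188050)
theorem F188055 : act 4 n119378 = n73626 := d5_4 D73627 F188053 (iv4 D119379) D119378 (iv3 D73626)
theorem E18603 : n118112 = n78233 := (c20_5 (iv4 F25865) D33835 D73627 F188053 (iv1 F188052) (iv3 D78233) D78234 F119419 (iv4 D73652) (iv3 D33845) (iv1 D16360))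
theorem F188056 : act 0 n78233 = n54410 := (sb E18603 (iv1 D118112))
theorem F188057 : act 1 n78233 = n119379 := (sb E18603 F188052)
theorem F188058 : act 0 n73708 = n78234 := d20_7 F86891 (iv1 D54939) F42559 F27022 D16373 D33868 D73708 (iv4 D78234) D78233 F188056
theorem F188059 : act 0 n119378 = n82891 := d20_7 (iv4 D17211) (iv1 D8071) (iv4 F12864) (iv3 F25864) D33835 D73626 (iv4 F188055) F127679 (iv3 D77794) (iv1 F56191)
theorem F188060 : act 4 n73694 = n118111 := d20_0 (iv1 F188054) (iv4 D119379) D119378 F188059 F127678 F58977 (iv1 F29415) D18302 (iv3 F117679) D73694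
theorem F188061 : act 3 n118111 = n70450 := d20_3 D33862 D73694 F188060 (iv1 D70450) (iv3 D32694) D32695 (iv1 F53231) F53229 (iv3 F42562) F53233
theorem F188062 : act 5 n70476 = n118111 := d6_0 F188061 F106937 D70476
theorem F188063 : act 1 n73627 = n70476 := d18_8 (iv1 F188054) (iv4 D119379) (iv1 F86896) F60269 (iv5 F53176) (iv4 F110274) F110276 D73627 F188062
theorem F188064 : act 1 n70476 = n73632 := d15_1 F188063 (iv7 F155322) (iv2 F155343)
def n119380 : Q := act 5 n54938
theorem D119380 : act 5 n54938 = n119380 := rfl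
theorem F188065 : act 2 n119380 = n84915 := d2_1 D119380 (iv5 D84915) (iv2 F155329)
theorem F188066 : act 7 n119380 = n84920 := d13_2 (iv7 F155330) D119380 (iv5 D84920)
def n119381 : Q := act 6 n54938
theorem D119381 : act 6 n54938 = n119381 := rfl
theorem F188067 : act 2 n119381 = n84916 := d3_1 D119381 (iv6 D84916) (iv2 F155329)
def n119382 : Q := act 3 n54939
theorem D119382 : act 3 n54939 = n119382 := rfl
theorem F188068 : act 4 n119382 = n100756 := d5_2 F86891 D119382 F154849 (iv4 D54411) D54410
theorem F188069 : act 7 n119382 = n84913 := d8_2 (iv7 F155328) D119382 (iv3 D84913)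
def n119384 : Q := act 6 n54939
theorem D119384 : act 6 n54939 = n119384 := rfl
theorem F188072 : act 2 n119384 = n84921 := d3_1 D119384 (iv6 D84921) (iv2 F155327)
theorem F188073 : act 4 n119384 = n118113 := d10_1 D119384 (iv6 D118113) F86891
theorem F188074 : act 0 n55009 = n119384 := d20_1 (iv4 F87015) F188073 F185563 F184651 (iv3 D78348) F56388 (iv1 F44646) (iv4 F42733) (iv3 F113928) (iv1 D55017)
def n119385 : Q := act 0 n54940
theorem D119385 : act 0 n54940 = n119385 := rfl
def n119386 : Q := act 1 n54940
theorem D119386 : act 1 n54940 = n119386 := rfl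
theorem F188075 : act 1 n119386 = n84925 := d15_1 D119386 (iv7 D84925) (iv2 F86892)
theorem F188076 : act 5 n119136 = n119386 := d21_6 (iv5 F86755) (iv1 D54820) (iv5 D26520) D26521 D54822 D119136 (iv1 D119386) (iv5 D54940) (iv6 D26571) (iv1 F42541)
def n119387 : Q := act 4 n54940
theorem D119387 : act 4 n54940 = n119387 := rfl
theorem F188077 : act 2 n119387 = n84924 := d1_1 D119387 (iv4 D84924) (iv2 F86892)
def n119388 : Q := act 7 n54940
theorem D119388 : act 7 n54940 = n119388 := rfl
theorem F188078 : act 2 n119388 = n84925 := d4_1 D119388 (iv7 D84925) (iv2 F86892)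
theorem F188079 : act 5 n119388 = n54941 := d13_1 D119388 (iv7 D54941) D54940
theorem F188080 : act 1 n84925 = n119385 := d15_0 (iv0 D119385) D119388 F188078
theorem F188081 : act 1 n84923 = n119388 := d15_1 D84923 (iv7 D119388) F86892
theorem F188082 : act 1 n119388 = n84922 := d15_0 (iv0 D84922) D84925 (iv2 F188078)
def n119389 : Q := act 0 n54942
theorem D119389 : act 0 n54942 = n119389 := rfl
theorem F188083 : act 1 n54945 = n119389 := d15_0 (iv0 D119389) F86901 (iv2 F86909)
def n119390 : Q := act 1 n54942
theorem D119390 : act 1 n54942 = n119390 := rfl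
theorem F188084 : act 1 n119390 = n54945 := d15_1 D119390 F86910 (iv2 F86899)
theorem F188085 : act 4 n70505 = n119390 := d20_6 F11835 (iv1 F9488) F41950 D15597 D32711 D70505 (iv1 D119390) (iv4 D54942) F53224 (iv1 F21143)
def n119391 : Q := act 5 n54942
theorem D119391 : act 5 n54942 = n119391 := rfl
theorem F188086 : act 2 n119391 = n84926 := d2_1 D119391 (iv5 D84926) (iv2 F86899)
theorem F188087 : act 3 n119391 = n58055 := d6_1 D119391 (iv5 D58055) (iv3 F86900)
theorem F188088 : act 7 n119391 = n73696 := d13_2 (iv7 F86901) D119391 (iv5 D73696)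
def n119392 : Q := act 0 n54943
theorem D119392 : act 0 n54943 = n119392 := rfl
theorem F188089 : act 5 n119392 = n71700 := d21_2 D54943 D119392 F120245 (iv1 D34672) (iv6 D16791) F12395 F26771 (iv5 F27018) D12705 D26572
theorem F188090 : act 2 n73699 = n119392 := d15_3 (iv0 D119392) (iv0 F130882) F130886
theorem F188091 : act 1 n54946 = n119392 := d15_0 (iv0 D119392) F86904 (iv2 F86911)
theorem F188092 : act 7 n119392 = n73698 := d15_2 F130883 F188091 (iv2 F130884)
theorem F188093 : act 6 n117844 = n119392 := d21_3 (iv5 F50379) F130863 D117844 (iv1 F188091) (iv6 F86913) F131204 (iv1 D73979) (iv5 D33954) (iv6 D16411) F130762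
theorem F188094 : act 0 n118459 = n72196 := d21_1 D118459 (iv5 F131018) (iv6 F131020) D119392 (iv6 F188093) (iv5 D117844) (iv1 F85644) (iv5 F130867) (iv6 F130764) (iv1 F86200)
theorem F188095 : act 0 n72081 = n118460 := d21_4 F188089 (iv1 F110285) (iv5 D73602) (iv6 F108533) (iv6 D118460) D118459 F188094 (iv5 F131018) (iv6 F131020) D119392
theorem F188096 : act 1 n118459 = n118521 := d15_1 (iv0 F188094) F187684 F187680
theorem F188097 : act 0 n118460 = n72076 := d21_10 (iv5 D72076) (iv1 F108336) F108333 (iv6 F86234) (iv1 F86236) D54581 D118521 (iv1 F188096) (iv5 D118459) D118460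
def n119393 : Q := act 4 n54943
theorem D119393 : act 4 n54943 = n119393 := rfl
theorem F188098 : act 2 n119393 = n84928 := d1_1 D119393 (iv4 D84928) (iv2 F86902)
theorem F188099 : act 7 n119393 = n73700 := d11_2 (iv7 F86904) D119393 (iv4 D73700)
def n119394 : Q := act 4 n54944
theorem D119394 : act 4 n54944 = n119394 := rfl
theorem F188100 : act 2 n119394 = n55132 := d1_1 D119394 (iv4 D55132) (iv2 F86905)
theorem F188101 : act 7 n119394 = n73672 := d11_2 (iv7 F86906) D119394 (iv4 D73672)
theorem F188102 : act 0 n119394 = n73676 := d20_1 D119394 (iv4 F119544) (iv3 D78329) (iv1 F56376) (iv3 F56323) (iv4 F119399) (iv1 F119403) (iv4 F110353) (iv3 F110354) (iv1 F86908)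
theorem F188103 : act 1 n119394 = n73675 := d15_0 (iv0 D73675) (iv7 F87206) (iv2 F188100)
theorem F188104 : act 4 n118118 = n73675 := d20_0 (iv1 F188103) (iv4 D119394) (iv3 D54944) (iv1 D26573) F27022 D16375 D33873 F53219 D54413 D118118
def n119395 : Q := act 5 n54944
theorem D119395 : act 5 n54944 = n119395 := rfl
theorem F188105 : act 2 n119395 = n55133 := d2_1 D119395 (iv5 D55133) (iv2 F86905)
theorem F188106 : act 3 n119395 = n54946 := d6_1 D119395 (iv5 D54946) D54944
theorem F188107 : act 7 n119395 = n73673 := d13_2 (iv7 F86906) D119395 (iv5 D73673)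
theorem F188109 : act 6 n118472 = n119395 := d7_0 F188106 (iv6 F86913) D118472
def n119396 : Q := act 6 n54944
theorem D119396 : act 6 n54944 = n119396 := rfl
theorem F188111 : act 2 n119396 = n55134 := d3_1 D119396 (iv6 D55134) (iv2 F86905)
theorem F188113 : act 7 n119396 = n73877 := d14_2 (iv7 F86906) D119396 (iv6 F125764) F125765 (iv6 D73674)
def n119397 : Q := act 3 n54945
theorem D119397 : act 3 n54945 = n119397 := rfl
theorem F188116 : act 2 n119397 = n82905 := d0_1 D119397 (iv3 D82905) F59634 (iv3 F117679) (iv2 F86909)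
theorem F188117 : act 7 n119397 = n83255 := d8_2 (iv7 F86910) D119397 F128330
theorem F188118 : act 1 n83254 = n119397 := d15_1 D83254 F188117 (iv2 D83255)
theorem F188119 : act 1 n119397 = n83253 := d15_0 (iv0 D83253) (iv7 F127716) (iv2 F188116)
def n119398 : Q := act 5 n54945
theorem D119398 : act 5 n54945 = n119398 := rfl
theorem F188120 : act 2 n119398 = n73696 := d2_1 D119398 (iv5 D73696) (iv2 F86909)
theorem F188121 : act 7 n119398 = n84926 := d13_2 (iv7 F86910) D119398 (iv5 D84926)
def n119399 : Q := act 6 n54945
theorem D119399 : act 6 n54945 = n119399 := rfl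
theorem F188122 : act 2 n119399 = n73697 := d3_1 D119399 (iv6 D73697) (iv2 F86909)
theorem F188123 : act 4 n119399 = n54947 := d10_1 D119399 (iv6 D54947) D54945
def n119400 : Q := act 4 n54946
theorem D119400 : act 4 n54946 = n119400 := rfl
theorem F188124 : act 2 n119400 = n73700 := d1_1 D119400 (iv4 D73700) (iv2 F86911)
theorem F188125 : act 6 n119400 = n118473 := d10_2 F86913 D119400 (iv4 D118473)
theorem F188126 : act 7 n119400 = n84928 := d11_2 (iv7 F86912) D119400 (iv4 D84928)
def n119401 : Q := act 5 n54947
theorem D119401 : act 5 n54947 = n119401 := rfl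
theorem F188127 : act 2 n119401 = n73703 := d2_1 D119401 (iv5 D73703) (iv2 F86918)
theorem F188128 : act 6 n119401 = n73979 := d12_2 D54947 D119401 (iv5 F131204) F86913 (iv5 D54946)
theorem F188129 : act 0 n119401 = n55322 := d21_1 D119401 (iv5 D55322) D55323 (iv1 F186994) F110225 (iv5 F113949) (iv1 D55012) (iv5 D26596) D26597 (iv1 F113931)
theorem F188130 : act 0 n55317 = n119401 := d21_1 D55317 (iv5 D119401) (iv6 D54947) (iv1 D26573) (iv6 D12705) F27018 (iv1 F26770) D6047 D12791 D26732
def n119402 : Q := act 4 n54948
theorem D119402 : act 4 n54948 = n119402 := rfl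
theorem F188131 : act 2 n119402 = n83592 := d1_1 D119402 (iv4 D83592) (iv2 F86929)
theorem F188132 : act 7 n119402 = n83548 := d11_2 F86922 D119402 (iv4 D83548)
theorem F188133 : act 5 n119402 = n81598 := d17_5 (iv1 D75577) (iv5 F86983) (iv1 F86985) (iv5 F86919) D119402 F132396 F132393 (iv0 F127141) F123981
theorem F188134 : act 0 n119402 = n81519 := d18_2 D54948 D119402 F125370 D83148 (iv4 F128208) (iv0 D77106) (iv4 F57343) F86941 (iv5 D54952)
theorem F188135 : act 1 n119402 = n83144 := d18_6 F116262 F119259 (iv1 D78064) (iv4 F59231) (iv5 F86919) D119402 (iv4 D83144) (iv0 D38273) (iv5 F58751)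
def n119403 : Q := act 6 n54948
theorem D119403 : act 6 n54948 = n119403 := rfl
theorem F188136 : act 2 n119403 = n83593 := d3_1 D119403 (iv6 D83593) (iv2 F86929)
def n119404 : Q := act 3 n54949
theorem D119404 : act 3 n54949 = n119404 := rfl
theorem F188138 : act 2 n119404 = n80171 := d0_1 D119404 (iv3 D80171) (iv2 F57355) D38521 F86927
theorem F188139 : act 4 n119404 = n82879 := d5_2 F120495 D119404 F127646 F71077 D79218
theorem F188140 : act 5 n119404 = n82881 := d6_2 F108268 D119404 F127655
theorem F188141 : act 7 n119404 = n82982 := d8_2 F86928 D119404 F127903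
theorem F188142 : act 0 n119404 = n82983 := d19_4 D81597 (iv5 F125493) F120495 D119404 F127905 (iv4 F113247) F58810 F29353 (iv5 D17185) (iv4 D8063) D8062 (iv1 F21242) (iv5 D12796) (iv4 D6050) (iv3 F6113) F13808 F13805 D17917 D37289
theorem F188143 : act 0 n82387 = n119404 := d20_4 D83163 F128226 (iv4 D82388) D82387 (iv3 D119404) (iv4 F120495) F128181 (iv4 D83144) (iv3 F90361) (iv1 F90362)
def n119405 : Q := act 6 n54949
theorem D119405 : act 6 n54949 = n119405 := rfl
def n119406 : Q := act 6 n54950
theorem D119406 : act 6 n54950 = n119406 := rfl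
theorem F188145 : act 2 n119406 = n54953 := d3_1 D119406 (iv6 D54953) D54950
theorem F188146 : act 3 n119406 = n71981 := d7_1 D119406 (iv6 D71981) (iv3 F86923)
theorem F188147 : act 4 n119406 = n79326 := d10_1 D119406 (iv6 D79326) F86937
def n119407 : Q := act 6 n54951
theorem D119407 : act 6 n54951 = n119407 := rfl
theorem F188148 : act 2 n119407 = n79326 := d3_1 D119407 (iv6 D79326) (iv2 F86936)
theorem F188149 : act 3 n119407 = n71330 := d7_1 D119407 (iv6 D71330) (iv3 F86932)
theorem F188150 : act 4 n119407 = n54953 := d10_1 D119407 (iv6 D54953) D54951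
def n119408 : Q := act 4 n54952
theorem D119408 : act 4 n54952 = n119408 := rfl
theorem F188151 : act 2 n119408 = n60067 := d1_1 D119408 F94606 (iv2 F86938)
theorem F188152 : act 3 n119408 = n77083 := d5_1 D119408 F115810 F107015 F83662 (iv3 F86939)
theorem F188154 : act 0 n119408 = n82500 := d20_1 D119408 (iv4 D82500) F58741 (iv1 F29405) (iv3 F58962) (iv4 F58966) (iv1 F54782) (iv4 F58809) (iv3 F116173) (iv1 F116176)
def n119409 : Q := act 6 n54952
theorem D119409 : act 6 n54952 = n119409 := rfl
theorem F188155 : act 2 n119409 = n71980 := d3_1 D119409 (iv6 D71980) (iv2 F86938)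
theorem F188156 : act 3 n119409 = n54955 := d7_1 D119409 (iv6 D54955) (iv3 F86939)
def n119410 : Q := act 0 n54953
theorem D119410 : act 0 n54953 = n119410 := rfl
def n119412 : Q := act 5 n54953
theorem D119412 : act 5 n54953 = n119412 := rfl
theorem F188157 : act 3 n119412 = n54958 := d6_1 D119412 (iv5 D54958) (iv3 F86943)
def n119413 : Q := act 7 n54953
theorem D119413 : act 7 n54953 = n119413 := rfl
theorem F188158 : act 3 n119413 = n54959 := d8_1 D119413 (iv7 D54959) (iv3 F86943)
theorem F188159 : act 6 n119413 = n83600 := d14_1 D119413 (iv7 D83600) (iv6 D38548) F42873 D54953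
def n119414 : Q := act 0 n54954
theorem D119414 : act 0 n54954 = n119414 := rfl
def n119415 : Q := act 1 n54954
theorem D119415 : act 1 n54954 = n119415 := rfl
theorem F188160 : act 1 n119415 = n60195 := d15_1 D119415 (iv7 D60195) (iv2 F86944)
def n119416 : Q := act 5 n54954
theorem D119416 : act 5 n54954 = n119416 := rfl
theorem F188161 : act 2 n119416 = n60194 := d2_1 D119416 (iv5 D60194) (iv2 F86944)
theorem F188162 : act 3 n119416 = n70185 := d6_1 D119416 (iv5 F120369) F120367
theorem F188163 : act 6 n119416 = n69871 := d12_2 D54954 D119416 (iv5 D69871) (iv6 D32445) (iv5 F42569)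
def n119417 : Q := act 7 n54954
theorem D119417 : act 7 n54954 = n119417 := rfl
theorem F188164 : act 2 n119417 = n60195 := d4_1 D119417 (iv7 D60195) (iv2 F86944)
theorem F188165 : act 4 n119417 = n54959 := d11_1 D119417 (iv7 D54959) (iv4 F86945)
theorem F188166 : act 6 n119417 = n83603 := d14_1 D119417 (iv7 D83603) (iv6 D38549) F42874 D54954
theorem F188167 : act 1 n60195 = n119414 := d15_0 (iv0 D119414) D119417 F188164
theorem F188168 : act 1 n60193 = n119417 := d15_1 D60193 (iv7 D119417) F86944
theorem F188169 : act 1 n119417 = n60192 := d15_0 (iv0 D60192) D60195 (iv2 F188164)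
def n119418 : Q := act 0 n54955
theorem D119418 : act 0 n54955 = n119418 := rfl
def n119419 : Q := act 1 n54955
theorem D119419 : act 1 n54955 = n119419 := rfl
theorem F188170 : act 1 n119419 = n83632 := d15_1 D119419 (iv7 D83632) (iv2 F86946)
theorem F188171 : act 3 n119419 = n82965 := d20_5 (iv4 D55327) F130956 (iv4 F120199) (iv3 F128696) (iv1 F188170) F155525 (iv1 D46493) (iv4 F59012) F59011 (iv1 F155522)
theorem F188172 : act 4 n119419 = n96684 := d20_0 (iv1 D96684) F71178 F57447 (iv1 F117081) F91235 (iv4 D55327) F130956 (iv4 F120199) (iv3 F128696) (iv1 F188170)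
theorem F188173 : act 7 n83569 = n119419 := d8_0 F188171 F156860 D83569
theorem F188174 : act 2 n83569 = n119418 := d15_3 (iv0 D119418) D119419 (iv7 F188173)
theorem F188175 : act 7 n83630 = n119418 := d15_2 F155093 D83630 (iv2 F188174)
theorem F188176 : act 2 n119419 = n83630 := d4_3 F188175 (iv2 F188174) F188173
theorem F188177 : act 1 n83632 = n119418 := d15_1 F188170 (iv7 F188175) (iv2 F188176)
def n119420 : Q := act 5 n54955
theorem D119420 : act 5 n54955 = n119420 := rfl
theorem F188178 : act 2 n119420 = n83631 := d2_1 D119420 (iv5 D83631) (iv2 F86946)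
theorem F188179 : act 6 n119420 = n54958 := d12_2 D54955 D119420 (iv5 D54958) (iv6 D26579) D26578
def n119421 : Q := act 7 n54955
theorem D119421 : act 7 n54955 = n119421 := rfl
theorem F188180 : act 2 n119421 = n83632 := d4_1 D119421 (iv7 D83632) (iv2 F86946)
theorem F188181 : act 6 n119421 = n83609 := d14_1 D119421 (iv7 D83609) (iv6 D38552) F42872 D54955
theorem F188182 : act 1 n83630 = n119421 := d15_1 D83630 (iv7 D119421) F86946
theorem F188183 : act 1 n119421 = n83569 := d15_1 F188182 F188173 F188176
def n119424 : Q := act 4 n54956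
theorem D119424 : act 4 n54956 = n119424 := rfl
def n119432 : Q := act 0 n54958
theorem D119432 : act 0 n54958 = n119432 := rfl
def n119433 : Q := act 1 n54958
theorem D119433 : act 1 n54958 = n119433 := rfl
theorem F188186 : act 1 n119433 = n83646 := d15_1 D119433 (iv7 D83646) (iv2 F86948)
def n119434 : Q := act 4 n54958
theorem D119434 : act 4 n54958 = n119434 := rfl
theorem F188187 : act 2 n119434 = n83645 := d1_1 D119434 (iv4 D83645) (iv2 F86948)
def n119435 : Q := act 7 n54958
theorem D119435 : act 7 n54958 = n119435 := rfl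
theorem F188188 : act 2 n119435 = n83646 := d4_1 D119435 (iv7 D83646) (iv2 F86948)
theorem F188189 : act 5 n119435 = n54959 := d13_1 D119435 (iv7 D54959) D54958
theorem F188190 : act 1 n83646 = n119432 := d15_0 (iv0 D119432) D119435 F188188
theorem F188191 : act 1 n83644 = n119435 := d15_1 D83644 (iv7 D119435) F86948
theorem F188192 : act 1 n119435 = n83643 := d15_0 (iv0 D83643) D83646 (iv2 F188188)
def n119436 : Q := act 3 n54960
theorem D119436 : act 3 n54960 = n119436 := rfl
theorem F188193 : act 2 n119436 = n79079 := d0_1 D119436 F120305 F59333 D38487 F86956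
theorem F188194 : act 4 n119436 = n76734 := d5_2 F86958 D119436 F128750 (iv4 F128107) (iv3 D83097)
theorem F188195 : act 5 n119436 = n101590 := d6_2 (iv5 F86954) D119436 (iv3 F156500)
theorem F188196 : act 7 n119436 = n79083 := d8_2 F86957 D119436 F120316
theorem F188197 : act 0 n119436 = n82384 := d19_4 D71879 (iv5 F108368) F86958 D119436 (iv5 F136973) F136972 (iv3 D87318) (iv1 D40569) (iv5 F61049) D86600 F132845 (iv1 F61864) F56893 D56295 F89058 F54675 D36462 F57256 (iv3 F52456)
theorem F188198 : act 0 n82972 = n119436 := d20_4 (iv4 F87062) (iv1 F87065) (iv4 F127310) (iv3 F127889) (iv3 D119436) (iv4 F86958) (iv1 F110313) (iv4 D73616) F53189 (iv1 F58955)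
def n119437 : Q := act 6 n54960
theorem D119437 : act 6 n54960 = n119437 := rfl
theorem F188199 : act 2 n119437 = n83481 := d3_1 D119437 (iv6 D83481) F86956
theorem F188200 : act 4 n119437 = n83098 := d10_1 D119437 (iv6 D83098) F86958
def n119438 : Q := act 6 n54961
theorem D119438 : act 6 n54961 = n119438 := rfl
theorem F188201 : act 2 n119438 = n83624 := d3_1 D119438 (iv6 D83624) F86962
theorem F188202 : act 3 n119438 = n82957 := d7_1 D119438 (iv6 D82957) F86963
theorem F188203 : act 4 n119438 = n83099 := d10_1 D119438 (iv6 D83099) (iv4 F86964)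
def n119439 : Q := act 6 n54962
theorem D119439 : act 6 n54962 = n119439 := rfl
theorem F188204 : act 3 n119439 = n60172 := d7_1 D119439 (iv6 D60172) (iv3 F86965)
theorem F188205 : act 4 n119439 = n54963 := d10_1 D119439 (iv6 D54963) D54962
def n119440 : Q := act 0 n54963
theorem D119440 : act 0 n54963 = n119440 := rfl
def n119441 : Q := act 1 n54963
theorem D119441 : act 1 n54963 = n119441 := rfl
def n119442 : Q := act 5 n54963
theorem D119442 : act 5 n54963 = n119442 := rfl
theorem F188206 : act 3 n119442 = n54968 := d6_1 D119442 (iv5 D54968) (iv3 F86969)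
theorem F188207 : act 6 n119442 = n71964 := d12_2 D54963 D119442 (iv5 D71964) (iv6 D33248) (iv5 F42864)
def n119443 : Q := act 7 n54963
theorem D119443 : act 7 n54963 = n119443 := rfl
theorem F188208 : act 3 n119443 = n54969 := d8_1 D119443 (iv7 D54969) (iv3 F86969)
theorem F188209 : act 6 n119443 = n83628 := d14_1 D119443 (iv7 D83628) (iv6 D38559) (iv7 F42945) D54963
def n119444 : Q := act 0 n54964
theorem D119444 : act 0 n54964 = n119444 := rfl
def n119445 : Q := act 1 n54964
theorem D119445 : act 1 n54964 = n119445 := rfl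
theorem F188210 : act 1 n119445 = n83603 := d15_1 D119445 (iv7 D83603) (iv2 F86970)
def n119446 : Q := act 7 n54964
theorem D119446 : act 7 n54964 = n119446 := rfl
theorem F188211 : act 2 n119446 = n83603 := d4_1 D119446 (iv7 D83603) (iv2 F86970)
theorem F188212 : act 3 n119446 = n60175 := d8_1 D119446 (iv7 D60175) (iv3 F86971)
theorem F188213 : act 4 n119446 = n54969 := d11_1 D119446 (iv7 D54969) (iv4 F86972)
theorem F188214 : act 6 n119446 = n60195 := d14_1 D119446 (iv7 D60195) (iv6 D28612) (iv7 F42897) D54964
theorem F188215 : act 1 n83603 = n119444 := d15_0 (iv0 D119444) D119446 F188211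
theorem F188216 : act 1 n83602 = n119446 := d15_1 D83602 (iv7 D119446) F86970
theorem F188217 : act 1 n119446 = n83601 := d15_0 (iv0 D83601) D83603 (iv2 F188211)
def n119447 : Q := act 0 n54965
theorem D119447 : act 0 n54965 = n119447 := rfl
theorem F188218 : act 3 n119447 = n80167 := d20_5 (iv4 D55542) (iv1 F130874) (iv4 F52486) (iv3 F86974) D119447 F155405 (iv1 F73496) (iv4 F59169) (iv3 F128242) (iv1 F155404)
theorem F188219 : act 7 n83530 = n119447 := d8_0 F188218 F155803 D83530
def n119448 : Q := act 1 n54965
theorem D119448 : act 1 n54965 = n119448 := rfl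
theorem F188220 : act 1 n119448 = n83609 := d15_1 D119448 (iv7 D83609) (iv2 F86973)
def n119449 : Q := act 5 n54965
theorem D119449 : act 5 n54965 = n119449 := rfl
theorem F188221 : act 2 n119449 = n83608 := d2_1 D119449 (iv5 D83608) (iv2 F86973)
theorem F188222 : act 3 n119449 = n71964 := d6_1 D119449 (iv5 D71964) (iv3 F86974)
theorem F188223 : act 6 n119449 = n54968 := d12_2 D54965 D119449 (iv5 D54968) (iv6 D26584) D26583
def n119450 : Q := act 7 n54965
theorem D119450 : act 7 n54965 = n119450 := rfl
theorem F188224 : act 2 n119450 = n83609 := d4_1 D119450 (iv7 D83609) (iv2 F86973)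
theorem F188225 : act 3 n119450 = n71965 := d8_1 D119450 (iv7 D71965) (iv3 F86974)
theorem F188226 : act 6 n119450 = n83632 := d14_1 D119450 (iv7 D83632) (iv6 D38560) (iv7 F42865) D54965
theorem F188227 : act 1 n83609 = n119447 := d15_0 (iv0 D119447) D119450 F188224
theorem F188228 : act 1 n83607 = n119450 := d15_1 D83607 (iv7 D119450) F86973
theorem E18604 : n83607 = n83530 := (c20_5 (iv4 D34691) (iv1 F130871) (iv4 F108460) (iv3 F188225) (iv1 F188228) (iv3 D83530) F155362 (iv1 D22656) (iv4 F29498) (iv3 F59154) (iv1 F155358))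
theorem F188229 : act 0 n83530 = n38552 := (sb E18604 (iv1 D83607))
theorem F188230 : act 1 n83530 = n119450 := (sb E18604 F188228)
theorem F188231 : act 2 n119447 = n83606 := d15_3 (iv0 D83606) (iv0 F188229) F188219
theorem F188232 : act 7 n119448 = n83606 := d15_2 (iv0 D119447) D119448 (iv2 F188231)
theorem F188233 : act 2 n83530 = n119448 := d4_3 F188232 (iv2 F188231) (iv7 F188219)
theorem F188234 : act 1 n119450 = n83606 := d15_1 F188230 (iv7 F188232) (iv2 F188233)
def n119461 : Q := act 0 n54968
theorem D119461 : act 0 n54968 = n119461 := rfl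
def n119462 : Q := act 1 n54968
theorem D119462 : act 1 n54968 = n119462 := rfl
theorem F188237 : act 1 n119462 = n83623 := d15_1 D119462 (iv7 D83623) (iv2 F86976)
def n119463 : Q := act 4 n54968
theorem D119463 : act 4 n54968 = n119463 := rfl
theorem F188238 : act 2 n119463 = n83622 := d1_1 D119463 (iv4 D83622) (iv2 F86976)
def n119464 : Q := act 7 n54968
theorem D119464 : act 7 n54968 = n119464 := rfl
theorem F188239 : act 2 n119464 = n83623 := d4_1 D119464 (iv7 D83623) (iv2 F86976)
theorem F188240 : act 5 n119464 = n54969 := d13_1 D119464 (iv7 D54969) D54968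
theorem F188241 : act 1 n83623 = n119461 := d15_0 (iv0 D119461) D119464 F188239
theorem F188242 : act 1 n83621 = n119464 := d15_1 D83621 (iv7 D119464) F86976
theorem F188243 : act 1 n119464 = n83620 := d15_0 (iv0 D83620) D83623 (iv2 F188239)
def n119465 : Q := act 4 n54970
theorem D119465 : act 4 n54970 = n119465 := rfl
theorem F188244 : act 2 n119465 = n72366 := d1_1 D119465 F108838 (iv2 F86982)
theorem F188245 : act 3 n119465 = n77019 := d5_1 D119465 F115757 F106890 F83610 D54970
theorem F188246 : act 7 n119465 = n83664 := d11_2 (iv7 F86984) D119465 (iv4 D83664)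
theorem F188247 : act 0 n119465 = n98144 := d18_2 (iv1 F108267) D119465 (iv4 D98144) (iv5 D45845) (iv4 F43368) (iv0 F86934) (iv4 D54951) D54949 (iv5 F108268)
def n119466 : Q := act 6 n54970
theorem D119466 : act 6 n54970 = n119466 := rfl
theorem F188248 : act 2 n119466 = n118464 := d3_1 D119466 (iv6 D118464) (iv2 F86982)
theorem F188249 : act 3 n119466 = n54971 := d7_1 D119466 (iv6 D54971) D54970
def n119467 : Q := act 0 n54971
theorem D119467 : act 0 n54971 = n119467 := rfl
def n119468 : Q := act 1 n54971
theorem D119468 : act 1 n54971 = n119468 := rfl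
theorem F188250 : act 1 n119468 = n83678 := d15_1 D119468 (iv7 D83678) (iv2 F86987)
theorem F188251 : act 3 n119468 = n75536 := d20_5 (iv4 D26656) D26653 D55147 F130745 (iv1 F188250) F184696 (iv1 D41658) (iv4 F54744) (iv3 F87071) F184569
theorem F188252 : act 4 n119468 = n81439 := d20_0 (iv1 D81439) (iv4 F86759) F86758 (iv1 F125928) F61303 (iv4 D26656) D26653 D55147 F130745 (iv1 F188250)
theorem F188253 : act 7 n83675 = n119468 := d8_0 F188251 F184697 (iv3 F184738)
theorem F188254 : act 2 n83675 = n119467 := d15_3 (iv0 D119467) D119468 (iv7 F188253)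
theorem F188255 : act 7 n83676 = n119467 := d15_2 (iv0 D83675) D83676 (iv2 F188254)
theorem F188256 : act 2 n119468 = n83676 := d4_3 F188255 (iv2 F188254) F188253
theorem F188257 : act 1 n83678 = n119467 := d15_1 F188250 (iv7 F188255) (iv2 F188256)
def n119469 : Q := act 5 n54971
theorem D119469 : act 5 n54971 = n119469 := rfl
theorem F188258 : act 2 n119469 = n83677 := d2_1 D119469 (iv5 D83677) (iv2 F86987)
theorem F188259 : act 6 n119469 = n75582 := d12_2 D54971 D119469 (iv5 D75582) (iv6 D34574) (iv5 F42575)
def n119470 : Q := act 7 n54971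
theorem D119470 : act 7 n54971 = n119470 := rfl
theorem F188260 : act 2 n119470 = n83678 := d4_1 D119470 (iv7 D83678) (iv2 F86987)
theorem F188261 : act 6 n119470 = n83673 := d14_1 D119470 (iv7 D83673) (iv6 D38572) F42583 D54971
theorem F188262 : act 1 n83676 = n119470 := d15_1 D83676 (iv7 D119470) F86987
theorem F188263 : act 1 n119470 = n83675 := d15_1 F188262 F188253 F188256
def n119471 : Q := act 0 n54972
theorem D119471 : act 0 n54972 = n119471 := rfl
def n119473 : Q := act 5 n54972
theorem D119473 : act 5 n54972 = n119473 := rfl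
theorem F188265 : act 2 n119473 = n83672 := d2_1 D119473 (iv5 D83672) (iv2 F86988)
theorem F188267 : act 6 n119473 = n75588 := d12_2 D54972 D119473 (iv5 D75588) (iv6 D34576) (iv5 F42578)
def n119474 : Q := act 7 n54972
theorem D119474 : act 7 n54972 = n119474 := rfl
theorem F188268 : act 2 n119474 = n83673 := d4_1 D119474 (iv7 D83673) (iv2 F86988)
theorem F188269 : act 3 n119474 = n118450 := d8_1 D119474 (iv7 D118450) (iv3 F86989)
theorem F188270 : act 6 n119474 = n83678 := d14_1 D119474 (iv7 D83678) (iv6 D38574) (iv7 F42580) D54972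
theorem F188271 : act 1 n83673 = n119471 := d15_0 (iv0 D119471) D119474 F188268
theorem F188272 : act 1 n83671 = n119474 := d15_1 D83671 (iv7 D119474) F86988
theorem F188273 : act 1 n119474 = n83670 := d15_0 (iv0 D83670) D83673 (iv2 F188268)
def n119475 : Q := act 0 n54973
theorem D119475 : act 0 n54973 = n119475 := rfl
def n119476 : Q := act 1 n54973
theorem D119476 : act 1 n54973 = n119476 := rfl
def n119477 : Q := act 5 n54973
theorem D119477 : act 5 n54973 = n119477 := rfl
theorem F188274 : act 3 n119477 = n99610 := d6_1 D119477 (iv5 D99610) (iv3 F86990)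
def n119478 : Q := act 7 n54973
theorem D119478 : act 7 n54973 = n119478 := rfl
theorem F188275 : act 3 n119478 = n99611 := d8_1 D119478 (iv7 D99611) (iv3 F86990)
theorem F188276 : act 4 n119478 = n54977 := d11_1 D119478 (iv7 D54977) (iv4 F86991)
theorem F188277 : act 6 n119478 = n83685 := d14_1 D119478 (iv7 D83685) (iv6 D38577) (iv7 F42585) D54973
def n119479 : Q := act 2 n54974
theorem D119479 : act 2 n54974 = n119479 := rfl
theorem F188278 : act 7 n54975 = n119479 := d15_2 (iv0 D54974) D54975 (iv2 D119479)
def n119480 : Q := act 3 n54974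
theorem D119480 : act 3 n54974 = n119480 := rfl
def n119481 : Q := act 4 n54974
theorem D119481 : act 4 n54974 = n119481 := rfl
def n119482 : Q := act 5 n54974
theorem D119482 : act 5 n54974 = n119482 := rfl
def n119483 : Q := act 6 n54974
theorem D119483 : act 6 n54974 = n119483 := rfl
def n119484 : Q := act 7 n54974
theorem D119484 : act 7 n54974 = n119484 := rfl
theorem F188279 : act 2 n119484 = n54975 := d4_1 D119484 F188278 (iv2 D119479)
def n119485 : Q := act 3 n54975
theorem D119485 : act 3 n54975 = n119485 := rfl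
def n119486 : Q := act 4 n54975
theorem D119486 : act 4 n54975 = n119486 := rfl
def n119487 : Q := act 5 n54975
theorem D119487 : act 5 n54975 = n119487 := rfl
def n119488 : Q := act 6 n54975
theorem D119488 : act 6 n54975 = n119488 := rfl
def n119489 : Q := act 0 n54976
theorem D119489 : act 0 n54976 = n119489 := rfl
def n119490 : Q := act 1 n54976
theorem D119490 : act 1 n54976 = n119490 := rfl
def n119491 : Q := act 4 n54976
theorem D119491 : act 4 n54976 = n119491 := rfl
theorem F188280 : act 6 n119491 = n54990 := d10_2 (iv6 F86993) D119491 (iv4 D54990)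
def n119492 : Q := act 7 n54976
theorem D119492 : act 7 n54976 = n119492 := rfl
theorem F188281 : act 3 n119492 = n83873 := d8_1 D119492 F128879 (iv3 F86992)
theorem F188282 : act 5 n119492 = n54977 := d13_1 D119492 (iv7 D54977) D54976
def n119494 : Q := act 1 n54979
theorem D119494 : act 1 n54979 = n119494 := rfl
def n119495 : Q := act 2 n54979
theorem D119495 : act 2 n54979 = n119495 := rfl
def n119496 : Q := act 4 n54979
theorem D119496 : act 4 n54979 = n119496 := rfl
theorem F188283 : act 7 n119496 = n79333 := d11_2 F187768 D119496 (iv4 F187769)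
theorem F188284 : act 0 n119496 = n79335 := d20_7 (iv4 D18456) (iv1 D8677) (iv4 F13577) (iv3 F21102) D26589 D54979 D119496 (iv4 F128214) F128213 F121804
theorem F188286 : act 2 n119496 = n79332 := d15_3 (iv0 D79332) D79333 (iv7 F188283)
theorem F188287 : act 4 n79332 = n119495 := d1_2 D119496 F188286 (iv2 D119495)
def n119497 : Q := act 5 n54979
theorem D119497 : act 5 n54979 = n119497 := rfl
theorem F188288 : act 3 n119497 = n54981 := d6_1 D119497 (iv5 D54981) D54979
def n119498 : Q := act 6 n54979
theorem D119498 : act 6 n54979 = n119498 := rfl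
theorem F188289 : act 3 n119498 = n54982 := d7_1 D119498 (iv6 D54982) D54979
def n119499 : Q := act 0 n54980
theorem D119499 : act 0 n54980 = n119499 := rfl
theorem F188290 : act 4 n119499 = n119301 := d20_2 D54980 D119499 (iv3 F187792) F184759 (iv3 D38834) (iv4 D18456) (iv1 D8677) (iv4 F13577) (iv3 F21102) D26589
theorem F188291 : act 2 n60300 = n119499 := d15_3 (iv0 D119499) F184630 (iv7 F184578)
theorem F188292 : act 1 n54985 = n119499 := d15_0 (iv0 D119499) (iv7 F187771) F187770
theorem F188293 : act 7 n119499 = n60040 := d15_2 (iv0 F185369) F188292 F94552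
theorem F188294 : act 6 n83713 = n119499 := d14_5 F188293 (iv6 D60040) (iv7 F60252) D84900 F155133
def n119500 : Q := act 3 n54980
theorem D119500 : act 3 n54980 = n119500 := rfl
theorem F188295 : act 2 n119500 = n60184 := d0_1 D119500 (iv3 D60184) (iv2 F185342) D28648 (iv2 F185368)
theorem F188298 : act 4 n119500 = n73736 := d20_6 D33731 (iv1 F184622) F51565 (iv3 F51564) (iv1 F184630) D119500 (iv1 D73736) (iv4 D33881) F110023 (iv1 D33729)
theorem F188299 : act 3 n119496 = n73736 := d5_5 (iv4 F188298) (iv3 D119500) (iv4 D54980) D54979 D119496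
theorem F188300 : act 0 n60112 = n119500 := d20_4 D16293 F109822 (iv4 F108837) F108836 (iv3 D119500) (iv4 D54980) (iv1 F86847) F86842 F42524 (iv1 F25773)
def n119501 : Q := act 5 n54980
theorem D119501 : act 5 n54980 = n119501 := rfl
theorem F188301 : act 2 n119501 = n60303 := d2_1 D119501 (iv5 D60303) (iv2 F185368)
def n119502 : Q := act 6 n54980
theorem D119502 : act 6 n54980 = n119502 := rfl
theorem F188302 : act 2 n119502 = n60304 := d3_1 D119502 (iv6 D60304) (iv2 F185368)
theorem F188303 : act 4 n119502 = n54982 := d10_1 D119502 (iv6 D54982) D54980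
def n119503 : Q := act 0 n54981
theorem D119503 : act 0 n54981 = n119503 := rfl
theorem F188304 : act 5 n119503 = n119240 := d17_3 D26589 D54981 D119503 F187677 (iv5 F87019) (iv0 D55011) (iv5 D26596) (iv0 D12710) (iv4 F21103)
theorem E18605 : n118912 = n34576 := (c21_5 D54981 D119503 F188304 (iv6 D119240) (iv1 F186972) (iv6 D34576) (iv5 F42578) (iv1 D26586) (iv5 D12708) D12709 D26589)
theorem E18606 : n75586 = n54727 := ((D75586).symm.trans (sb E18605 (iv1 D118912)))
theorem E18607 : n75587 = n54877 := ((D75587).symm.trans (sb E18605 F186972))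
theorem E18608 : n71024 = n52903 := ((((iv4 F83596)).symm.trans (sb E18605 (iv4 F186973)))).symm
theorem F188305 : act 1 n54727 = n34576 := (sb E18606 (iv0 D75586))
theorem F188306 : act 0 n54877 = n34576 := (sb E18607 (iv1 D75587))
theorem E18609 : n32893 = n28544 := (((F83595).symm.trans (sb E18608 (iv3 D71024)))).symm
theorem E18610 : n60099 = n36740 := ((D60099).symm.trans (sb E18609 (iv1 F57618)))
theorem E18611 : n60100 = n15840 := ((D60100).symm.trans (sb E18609 (iv0 D32893)))
theorem E18617 : n32894 = n28586 := (((iv1 F57620)).symm.trans (sb E18610 (iv1 F94652)))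
theorem F188307 : act 1 n36740 = n28544 := (sb E18610 (iv0 D60099))
theorem F188308 : act 0 n15840 = n28544 := (sb E18611 (iv1 D60100))
theorem F188309 : act 0 n28586 = n15840 := (sb E18617 (iv1 D32894))
theorem F188310 : act 1 n28586 = n36740 := (sb E18617 F57620)
theorem E18618 : n70930 = n60123 := ((((iv3 F94683)).symm.trans (sb E18617 (iv3 F186889)))).symm
theorem F188311 : act 1 n60123 = n32859 := (sb E18618 (iv0 D70930))
theorem F188312 : act 4 n60123 = n118811 := (sb E18618 F186890)
theorem F188313 : act 1 n54986 = n119503 := d15_0 (iv0 D119503) (iv7 F187776) F187775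
theorem F188314 : act 7 n118811 = n60119 := d11_2 D60123 F188312 F94680
theorem E18622 : n118812 = n76563 := ((c15_4 F186883 F186887 F188314 (iv2 F114814))).symm
theorem F188316 : act 1 n76563 = n54699 := (sb E18622 F186883)
theorem E18623 : n70931 = n60113 := (((F114815).symm.trans (sb E18622 F187612))).symm
theorem F188317 : act 0 n60113 = n32859 := (sb E18623 (iv1 D70931))
theorem E18624 : n118228 = n69874 := ((((iv3 F106298)).symm.trans (sb E18623 (iv3 F187008)))).symm
theorem F188318 : act 0 n69874 = n119228 := (sb E18624 (iv1 F187610))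
theorem F188319 : act 1 n69874 = n54456 := (sb E18624 (iv0 D118228))
theorem E18625 : n72177 = n55307 := (((F106299).symm.trans (sb E18624 F187007))).symm
theorem F188320 : act 0 n55307 = n118910 := (sb E18625 (iv1 F186970))
theorem F188321 : act 1 n55307 = n33318 := (sb E18625 (iv0 D72177))
theorem E18626 : n75589 = n72178 := ((c15_2 F188321 D72178 (iv7 D75589) (iv2 F87537))).symm
theorem E18627 : n114616 = n80527 := ((((iv4 F123800)).symm.trans (sb E18626 (iv4 F178712)))).symm
theorem F188322 : act 7 n72178 = n34576 := (sb E18626 (iv7 D75589))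
theorem E18628 : n60098 = n36738 := ((((iv3 D80527)).symm.trans (sb E18627 F178711))).symm
theorem F188323 : act 6 n80527 = n60045 := (sb E18627 F178713)
theorem F188324 : act 7 n80527 = n52903 := (sb E18627 (iv7 D114616))
theorem E18629 : n32895 = n28584 := (((iv1 F57615)).symm.trans (sb E18628 (iv1 F94650)))
theorem E18630 : n28583 = n17711 := ((((iv0 D36738)).symm.trans (sb E18628 F94651))).symm
theorem E18631 : n80526 = n28586 := ((D80526).symm.trans (sb E18628 F94648))
theorem E18632 : n80530 = n28543 := ((D80530).symm.trans (sb E18628 (iv6 D60098)))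
theorem E18633 : n80531 = n28544 := ((D80531).symm.trans (sb E18628 F94649))
theorem E18634 : n36739 = n13626 := ((((iv1 D28584)).symm.trans (sb E18629 (iv1 F57619)))).symm
theorem F188325 : act 1 n28584 = n36738 := (sb E18629 F57615)
theorem E18635 : n60146 = n15840 := (((iv2 F94700)).symm.trans (sb E18629 (iv2 D32895)))
theorem E18636 : n60147 = n36778 := ((D60147).symm.trans (sb E18629 (iv3 F57669)))
theorem E18637 : n71033 = n60148 := (((D60148).symm.trans (sb E18629 D71033))).symm
theorem E18638 : n71034 = n60149 := (((D60149).symm.trans (sb E18629 D71034))).symm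
theorem E18639 : n71035 = n60150 := (((D60150).symm.trans (sb E18629 D71035))).symm
theorem E18640 : n60141 = n36740 := ((F94699).symm.trans (sb E18629 (iv7 F57617)))
theorem E18644 : n60145 = n36742 := (((D36742).symm.trans (sb E18630 D60145))).symm
theorem F188326 : act 2 n28586 = n36738 := (sb E18631 (iv2 D80526))
theorem F188327 : act 6 n28543 = n36738 := (sb E18632 (iv6 D80530))
theorem F188328 : act 7 n28544 = n36738 := (sb E18633 (iv7 D80531))
theorem F188329 : act 0 n13626 = n17711 := (sb E18634 (iv1 D36739))
theorem F188330 : act 2 n15840 = n28584 := (sb E18635 F94700)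
theorem F188331 : act 3 n36778 = n28584 := (sb E18636 (iv3 D60147))
theorem F188332 : act 0 n60148 = n80503 := (sb E18637 (iv1 F123754))
theorem F188333 : act 1 n60148 = n80502 := (sb E18637 F123750)
theorem F188334 : act 2 n60148 = n32896 := (sb E18637 F107577)
theorem F188335 : act 7 n60148 = n80504 := (sb E18637 (iv7 F123752))
theorem F188336 : act 0 n60149 = n80539 := (sb E18638 (iv1 F123811))
theorem F188337 : act 1 n60149 = n80538 := (sb E18638 F123810)
theorem F188338 : act 2 n60149 = n32897 := (sb E18638 F107578)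
theorem F188339 : act 3 n60149 = n80600 := (sb E18638 (iv3 F123929))
theorem F188340 : act 7 n60149 = n80536 := (sb E18638 (iv7 F123805))
theorem F188341 : act 2 n60150 = n32898 := (sb E18639 F107579)
theorem F188342 : act 3 n60150 = n80601 := (sb E18639 (iv3 F123934))
theorem F188343 : act 7 n36740 = n28584 := (sb E18640 (iv7 F94699))
theorem E18649 : n60220 = n54351 := ((((iv5 F85763)).symm.trans (sb E18644 F94779))).symm
theorem E18650 : n117984 = n28620 := ((D117984).symm.trans (sb E18649 (iv1 D60220)))
theorem E18651 : n70136 = n60219 := (((D60219).symm.trans (sb E18650 (iv1 F185149)))).symm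
theorem F188344 : act 1 n28620 = n54351 := (sb E18650 (iv0 D117984))
theorem F188345 : act 0 n60219 = n117985 := (sb E18651 (iv1 F185154))
theorem F188346 : act 2 n60219 = n32537 := (sb E18651 (iv2 D70136))
theorem F188347 : act 3 n60219 = n117982 := (sb E18651 (iv3 F185143))
theorem F188348 : act 7 n60219 = n117986 := (sb E18651 (iv7 F185152))
theorem F188349 : act 2 n60222 = n117985 := d15_3 (iv0 F188345) (iv0 D60219) D60222
theorem F188350 : act 5 n117985 = n60171 := d2_2 (iv5 F94782) F188349 F94720
theorem F188351 : act 7 n117985 = n60170 := d4_2 D60222 F188349 F94718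
theorem F188352 : act 2 n71045 = n60312 := d2_3 F94856 F188341 D71045
theorem E18652 : n60388 = n60313 := ((c15_2 (iv0 D60312) D60313 F107584 F188352)).symm
theorem F188353 : act 3 n60313 = n28679 := (sb E18652 (iv3 D60388))
theorem F188354 : act 5 n60313 = n71046 := (sb E18652 (iv5 F107586))
theorem F188355 : act 6 n60313 = n31907 := (sb E18652 F94903)
theorem F188356 : act 7 n60313 = n71045 := (sb E18652 F107584)
theorem F188357 : act 0 n118720 = n60119 := d20_1 D118720 F94680 F46152 F188329 (iv3 D17711) (iv4 D8334) (iv1 F9625) (iv4 F21032) (iv3 F42314) (iv1 F86443)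
theorem F188358 : act 0 n82469 = n60135 := d20_4 F117818 (iv1 F58666) D37838 D82469 F94696 F46157 F188329 (iv4 F57604) (iv3 D36728) D36726
theorem F188359 : act 7 n80528 = n60083 := d11_2 F188328 D80528 F94643
theorem F188360 : act 7 n80529 = n60101 := d13_2 F188328 D80529 (iv5 D60101)
theorem F188361 : act 2 n60154 = n80529 := d4_3 F188360 F94654 D60154
theorem F188362 : act 1 n60152 = n80529 := d15_1 D60152 F188360 F94654
theorem F188363 : act 1 n80529 = n60151 := d15_0 (iv0 D60151) D60154 F188361
theorem F188364 : act 2 n60140 = n80528 := d4_3 F188359 F94642 D60140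
theorem F188365 : act 6 n60082 = n80528 := d14_5 F188359 (iv6 D60083) (iv7 D28539) D28538 D60082
theorem E18653 : n72061 = n60138 := ((c15_1 D60138 (iv0 F123801) F188359 F94642)).symm
theorem F188366 : act 1 n60138 = n80528 := (sb E18653 (iv0 F123801))
theorem F188367 : act 4 n60138 = n33276 := (sb E18653 (iv4 D72061))
theorem E18654 : n70932 = n60120 := ((c20_11 (iv4 F110581) (iv1 F186740) F186737 F86448 (iv1 F52439) D33276 (iv4 F188367) (iv1 D60138) F46157 (iv3 F46152) D60120)).symm
theorem F188368 : act 2 n60120 = n32859 := (sb E18654 (iv2 D70932))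
theorem F188369 : act 4 n60120 = n54688 := (sb E18654 (iv4 F110581))
theorem E18655 : n70855 = n60121 := ((c15_2 (iv0 D60120) D60121 F110564 (iv2 F188368))).symm
theorem F188370 : act 3 n60121 = n32835 := (sb E18655 (iv3 D70855))
theorem F188371 : act 4 n60121 = n54689 := (sb E18655 F107330)
theorem F188372 : act 7 n60121 = n32859 := (sb E18655 F110564)
theorem F188373 : act 1 n80528 = n60137 := d15_0 (iv0 D60137) D60140 F188364
theorem F188374 : act 4 n119195 = n60137 := d20_0 (iv1 F188373) (iv4 D80528) D80527 F187619 (iv3 D54456) D54457 (iv1 F185754) F187560 (iv3 F186878) (iv1 F187559)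
theorem F188375 : act 2 n72178 = n118911 := d15_3 (iv0 D118911) F188305 (iv7 F188322)
theorem F188376 : act 7 n118911 = n55307 := d4_2 (iv7 F188322) F188375 F87537
theorem F188377 : act 6 n75583 = n118911 := d14_5 F188376 (iv6 D55307) (iv7 F42853) D34574 D75583
theorem F188378 : act 0 n70282 = n76752 := d21_7 (iv5 D33051) (iv1 F37260) D28564 D60113 F188317 D70935 (iv5 F107484) F115131 (iv6 D60165) (iv1 F52271)
theorem F188379 : act 0 n60186 = n71045 := d21_1 D60186 (iv5 D71045) (iv6 D32898) F188308 (iv6 D28544) F22793 (iv1 F37246) D6487 D13642 D28609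
theorem F188380 : act 0 n118312 = n68070 := d21_4 F86103 (iv1 F84994) (iv5 F86062) D118312 F104186 (iv5 D32897) F188308 D60101 F94655 (iv1 F86105)
theorem F188381 : act 1 n60190 = n71045 := d15_0 (iv0 F188379) F185347 (iv2 F185354)
theorem E18656 : n70135 = n60170 := (c21_8 F10560 F37247 (iv5 F22793) D28544 (iv1 F188307) D80537 (iv5 F185151) (iv1 F185155) (iv5 D60170) (iv6 D28603) (iv1 F22803))
theorem F188382 : act 0 n60170 = n32537 := (sb E18656 (iv1 D70135))
theorem F188383 : act 1 n60170 = n117986 := (sb E18656 F185155)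
theorem F188384 : act 5 n71041 = n60346 := d21_2 D80536 (iv1 F123806) (iv6 D60346) (iv1 D28658) (iv6 D13661) F10560 F37247 (iv5 F22793) D28544 (iv1 F188307)
theorem E18657 : n71043 = n59936 := (c21_11 (iv5 D59936) (iv1 F94376) F94373 (iv6 F92454) (iv1 F92458) D60346 (iv5 F188384) (iv1 D71041) (iv5 D32897) D32898 D71043)
theorem F188385 : act 1 n59936 = n32898 := (sb E18657 (iv0 D71043))
theorem E18658 : n70134 = n60222 := (c15_2 F188383 F185153 (iv7 D60222) (iv2 F94718))
theorem F188386 : act 0 n60222 = n117986 := (sb E18658 (iv1 F185153))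
theorem F188387 : act 1 n60222 = n32537 := (sb E18658 (iv0 D70134))
theorem E18659 : n68589 = n59868 := (c21_8 (iv5 D35093) (iv1 F54128) D32383 (iv6 F94719) F188382 F104798 (iv5 D68593) D68589 (iv5 F106608) (iv6 D70163) (iv1 F55758))
theorem F188388 : act 0 n59868 = n117209 := (sb E18659 (iv1 F183366))
theorem F188389 : act 1 n59868 = n31907 := (sb E18659 (iv0 D68589))
theorem F188390 : act 0 n71046 = n69773 := d21_10 F106183 (iv1 D59894) F45981 (iv6 D13642) D13639 D28603 D60170 F188382 D70138 (iv6 F107587)
theorem F188391 : act 1 n60150 = n69773 := d15_0 (iv0 F188390) (iv7 D71046) (iv2 F188341)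
theorem E18660 : n68590 = n59884 := (c15_2 F188389 D68590 (iv7 D59884) (iv2 F94325))
theorem F188392 : act 0 n59884 = n31907 := (sb E18660 (iv1 D68590))
theorem F188393 : act 1 n59884 = n117209 := (sb E18660 F183368)
theorem F188394 : act 5 n118914 = n119433 := d21_6 D18369 (iv1 F42577) F42578 D34576 (iv1 F188305) D118914 (iv1 D119433) (iv5 D54958) (iv6 D26579) (iv1 F21098)
theorem F188395 : act 3 n119433 = n82969 := d6_1 F188394 (iv5 F127881) (iv3 F186976)
theorem E18661 : n119424 = n26565 := (c17_10 (iv1 F42550) (iv5 F60287) (iv1 F86879) F113940 (iv4 F186977) F188394 F188186 F128699 F86951 D119424)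
theorem E18662 : n54956 = n54924 := (((D54924).symm.trans (sb E18661 (iv4 D119424)))).symm
theorem E18663 : n119349 = n38564 := ((D119349).symm.trans (sb E18662 (iv1 F86951)))
theorem E18664 : n119350 = n26579 := ((D119350).symm.trans (sb E18662 (iv0 D54956)))
theorem E18670 : n54957 = n54929 := (((iv1 F86947)).symm.trans (sb E18663 (iv1 F187960)))
theorem F188396 : act 1 n38564 = n54924 := (sb E18663 (iv0 D119349))
theorem E18671 : n70019 = n60195 := ((((iv4 F94749)).symm.trans (sb E18663 (iv4 F187962)))).symm
theorem F188397 : act 0 n26579 = n54924 := (sb E18664 (iv1 D119350))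
theorem E18672 : n70018 = n54954 := ((((iv4 F86945)).symm.trans (sb E18664 (iv4 F187964)))).symm
theorem F188398 : act 0 n54929 = n26579 := (sb E18670 (iv1 D54957))
theorem F188399 : act 1 n54929 = n38564 := (sb E18670 F86947)
theorem E18677 : n119415 = n32496 := (((iv1 F188160)).symm.trans (sb E18671 (iv1 D70019)))
theorem E18678 : n119414 = n84945 := ((F188167).symm.trans (sb E18671 F130293))
theorem E18679 : n32518 = n28621 := (((F94748).symm.trans (sb E18671 F187961))).symm
theorem E18680 : n117953 = n79104 := ((((iv3 F120367)).symm.trans (sb E18672 F187967))).symm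
theorem F188400 : act 0 n32496 = n54954 := (sb E18677 (iv1 D119415))
theorem F188401 : act 1 n32496 = n60195 := (sb E18677 F188160)
theorem F188402 : act 0 n84945 = n60195 := (sb E18678 (iv1 F188167))
theorem F188403 : act 1 n84945 = n54954 := (sb E18678 (iv0 D119414))
theorem E18681 : n60169 = n36369 := (((iv1 F94717)).symm.trans (sb E18679 (iv1 F57111)))
theorem E18682 : n60168 = n15400 := ((F94722).symm.trans (sb E18679 (iv0 D32518)))
theorem F188404 : act 0 n79104 = n54337 := (sb E18680 (iv1 D117953))
theorem E18688 : n73462 = n71330 := (((F120368).symm.trans (sb E18680 (iv4 F187968)))).symm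
theorem E18689 : n32519 = n28603 := (((iv1 F57113)).symm.trans (sb E18681 (iv1 D60169)))
theorem F188405 : act 1 n36369 = n28621 := (sb E18681 F94717)
theorem F188406 : act 0 n15400 = n28621 := (sb E18682 (iv1 F94722))
theorem F188407 : act 0 n71330 = n33780 := (sb E18688 (iv1 D73462))
theorem F188408 : act 1 n71330 = n33785 := (sb E18688 F110160)
theorem F188409 : act 0 n28603 = n15400 := (sb E18689 (iv1 D32519))
theorem F188410 : act 1 n28603 = n36369 := (sb E18689 F57113)
theorem F188411 : act 0 n118652 = n73406 := d20_7 F187872 (iv1 F122413) (iv4 D70113) (iv3 F57109) (iv1 F188410) (iv3 F94712) (iv4 F186625) (iv4 D73406) F187887 (iv1 F187876)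
theorem F188412 : act 1 n118652 = n73409 := d15_1 (iv0 F188411) F187849 (iv2 F187858)
theorem E18694 : n62913 = n28542 := (c21_8 F25731 (iv1 F11867) (iv5 F25820) D28603 F188409 D32523 (iv5 F51599) D62913 (iv5 D28542) (iv6 D13610) D13607)
theorem E18695 : n61808 = n60094 := (((D60094).symm.trans (sb E18694 (iv1 F98155)))).symm
theorem E18696 : n60095 = n29766 := ((D60095).symm.trans (sb E18694 (iv0 D62913)))
theorem F188413 : act 0 n60094 = n62914 := (sb E18695 (iv1 F98159))
theorem F188414 : act 2 n60094 = n29293 := (sb E18695 (iv2 D61808))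
theorem F188415 : act 3 n60094 = n62902 := (sb E18695 (iv3 F98129))
theorem F188416 : act 7 n60094 = n62915 := (sb E18695 (iv7 F98157))
theorem F188417 : act 0 n29766 = n28542 := (sb E18696 (iv1 D60095))
theorem F188418 : act 7 n62914 = n60037 := d15_2 (iv0 F188417) D62914 F94540
theorem F188419 : act 2 n60097 = n62914 := d4_3 F188418 F94540 D60097
theorem F188420 : act 3 n107939 = n62914 := d8_3 F188418 F94541 D107939
theorem F188421 : act 5 n60038 = n62914 := d13_3 F188418 (iv5 D60037) D60038
theorem F188422 : act 7 n73461 = n118652 := d15_2 F188408 F110164 F186624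
theorem F188423 : act 7 n60165 = n79839 := d11_2 F188422 F186625 (iv4 F122579)
theorem E18697 : n79833 = n28603 := (c8_3 F188423 (iv3 D79839) F122576 (iv3 F94712))
theorem E18698 : n36367 = n13647 := (((F46166).symm.trans (sb E18697 (iv2 D79833)))).symm
theorem E18699 : n60171 = n36368 := ((D60171).symm.trans (sb E18697 (iv7 F122576)))
theorem E18700 : n32520 = n28618 := (((D28618).symm.trans (sb E18698 (iv1 F57108)))).symm
theorem E18701 : n28619 = n17558 := ((D28619).symm.trans (sb E18698 (iv0 D36367)))
theorem E18702 : n79834 = n28612 := ((((iv3 F46181)).symm.trans (sb E18698 D79834))).symm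
theorem E18706 : n79838 = n28621 := (((D28621).symm.trans (sb E18698 D79838))).symm
theorem E18707 : n117985 = n79841 := (((D79841).symm.trans (sb E18699 (iv5 F188350)))).symm
theorem E18708 : n79842 = n28631 := ((D79842).symm.trans (sb E18699 F94721))
theorem F188424 : act 7 n36368 = n28603 := (sb E18699 (iv7 D60171))
theorem F188425 : act 0 n28618 = n36368 := (sb E18700 (iv1 F57112))
theorem E18709 : n60209 = n15400 := ((D60209).symm.trans (sb E18700 (iv2 D32520)))
theorem E18710 : n60210 = n36322 := ((D60210).symm.trans (sb E18700 (iv3 F57042)))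
theorem E18711 : n70079 = n60211 := (((D60211).symm.trans (sb E18700 D70079))).symm
theorem E18712 : n70080 = n60212 := (((D60212).symm.trans (sb E18700 D70080))).symm
theorem E18713 : n70081 = n60213 := (((D60213).symm.trans (sb E18700 D70081))).symm
theorem E18714 : n60214 = n36369 := ((D60214).symm.trans (sb E18700 (iv7 F57110)))
theorem F188426 : act 0 n17558 = n13647 := (sb E18701 (iv1 D28619))
theorem E18719 : n73521 = n18368 := (((F46182).symm.trans (sb E18702 F122577))).symm
theorem F188427 : act 2 n28621 = n36368 := (sb E18706 F122578)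
theorem F188428 : act 0 n79841 = n54351 := (sb E18707 (iv1 D117985))
theorem F188429 : act 1 n79841 = n60219 := (sb E18707 (iv0 F188345))
theorem F188430 : act 2 n79841 = n60222 := (sb E18707 (iv2 F188349))
theorem F188431 : act 7 n79841 = n60170 := (sb E18707 F188351)
theorem F188432 : act 6 n28631 = n36368 := (sb E18708 (iv6 D79842))
theorem F188433 : act 2 n15400 = n28618 := (sb E18709 (iv2 D60209))
theorem F188434 : act 3 n36322 = n28618 := (sb E18710 (iv3 D60210))
theorem F188435 : act 0 n60211 = n79808 := (sb E18711 (iv1 F122536))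
theorem F188436 : act 1 n60211 = n79807 := (sb E18711 F122532)
theorem F188437 : act 2 n60211 = n32521 := (sb E18711 F106466)
theorem F188438 : act 7 n60211 = n79809 := (sb E18711 (iv7 F122534))
theorem F188439 : act 0 n60212 = n79846 := (sb E18712 (iv1 F122589))
theorem F188440 : act 1 n60212 = n79845 := (sb E18712 F122588)
theorem F188441 : act 2 n60212 = n32522 := (sb E18712 F106467)
theorem F188442 : act 3 n60212 = n79760 := (sb E18712 (iv3 F122440))
theorem F188443 : act 7 n60212 = n79843 := (sb E18712 (iv7 F122583))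
theorem F188444 : act 2 n60213 = n32523 := (sb E18713 F106468)
theorem F188446 : act 5 n60213 = n62915 := (sb E18713 (iv5 F106469))
theorem F188447 : act 7 n36369 = n28618 := (sb E18714 (iv7 D60214))
theorem E18720 : n38561 = n33795 := ((D38561).symm.trans (sb E18719 (iv1 D73521)))
theorem E18721 : n39307 = n38562 := (((D38562).symm.trans (sb E18719 F130265))).symm
theorem E18722 : n73520 = n54959 := ((D73520).symm.trans (sb E18720 (iv1 F86953)))
theorem F188448 : act 1 n33795 = n18368 := (sb E18720 (iv0 D38561))
theorem E18723 : n83633 = n54924 := ((((iv2 F131617)).symm.trans (sb E18720 D83633))).symm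
theorem E18728 : n83638 = n54929 := ((((iv7 F131606)).symm.trans (sb E18720 D83638))).symm
theorem E18729 : n83639 = n83449 := ((D83639).symm.trans (sb E18721 (iv3 F130341)))
theorem E18730 : n83640 = n18646 := ((D83640).symm.trans (sb E18721 (iv4 D39307)))
theorem E18731 : n84992 = n83641 := (((D83641).symm.trans (sb E18721 D84992))).symm
theorem E18732 : n83724 = n83642 := (((D83642).symm.trans (sb E18721 (iv6 F130284)))).symm
theorem F188449 : act 1 n54959 = n33795 := (sb E18722 (iv0 D73520))
theorem F188450 : act 7 n54924 = n38562 := (sb E18723 (iv7 F128697))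
theorem F188451 : act 2 n54929 = n38562 := (sb E18728 F128698)
theorem F188452 : act 3 n83449 = n38562 := (sb E18729 (iv3 D83639))
theorem F188453 : act 4 n18646 = n38562 := (sb E18730 (iv4 D83640))
theorem F188454 : act 2 n83641 = n119358 := (sb E18731 (iv2 F187992))
theorem F188455 : act 7 n83641 = n119352 := (sb E18731 (iv7 F187977))
theorem F188456 : act 1 n83642 = n38586 := (sb E18732 (iv0 D83724))
theorem F188457 : act 2 n83642 = n84107 := (sb E18732 (iv2 F130282))
theorem F188458 : act 4 n83642 = n39309 := (sb E18732 F130283)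
theorem F188459 : act 6 n79839 = n60227 := d14_1 F188423 (iv7 D60227) (iv6 D28624) (iv7 F46163) D60165
theorem F188460 : act 4 n119413 = n79524 := d20_6 F13546 D8638 D18330 (iv3 F118003) (iv1 F188449) (iv3 F188158) (iv1 D79524) (iv4 F118559) (iv3 D38424) (iv1 D18325)
theorem F188461 : act 4 n60193 = n83379 := d20_2 (iv4 F188165) (iv1 F188168) (iv3 D83379) (iv1 D38411) F29520 F13546 D8638 D18330 (iv3 F118003) (iv1 F188449)
theorem F188462 : act 7 n79524 = n119407 := d11_2 D119413 F188460 F188150
theorem E18733 : n79523 = n79326 := ((c15_4 (iv0 D79523) D79524 F188462 F188148)).symm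
theorem F188463 : act 1 n79326 = n36214 := (sb E18733 (iv0 D79523))
theorem E18734 : n61807 = n60037 := (c21_8 F11674 D7640 F25821 D13647 D28618 D60213 F188446 (iv1 F98160) (iv5 D60037) (iv6 D28508) F37255)
theorem F188464 : act 0 n60037 = n29293 := (sb E18734 (iv1 D61807))
theorem F188465 : act 1 n60037 = n62915 := (sb E18734 F98160)
theorem E18735 : n61806 = n60097 := ((c21_7 D79841 F188428 F85763 (iv6 D36742) D36738 (iv6 F188327) (iv5 F94647) (iv1 F98158) (iv5 F188446) (iv6 D60213) F188425)).symm
theorem F188466 : act 0 n60097 = n62915 := (sb E18735 (iv1 F98158))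
theorem F188467 : act 1 n60097 = n29293 := (sb E18735 (iv0 D61806))
theorem E18736 : n60423 = n60333 := ((c21_11 F94931 (iv1 F188467) F94647 F188327 (iv1 F188325) D60150 (iv5 F94856) (iv1 F94860) (iv5 D28655) D28656 D60333)).symm
theorem F188468 : act 3 n60333 = n28693 := (sb E18736 (iv3 D60423))
theorem F188469 : act 5 n60333 = n29293 := (sb E18736 F94931)
theorem F188470 : act 6 n60333 = n39621 := (sb E18736 F94932)
theorem F188471 : act 7 n60333 = n32523 := (sb E18736 F94933)
theorem F188472 : act 0 n76044 = n69772 := d21_7 (iv5 F94856) (iv1 F94860) (iv5 D28655) D28656 D60333 F188470 (iv5 F113914) (iv5 D69772) D69773 (iv1 F188391)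
theorem F188473 : act 5 n79846 = n70739 := d21_2 D60212 F188439 (iv6 D70739) (iv1 D32791) (iv6 D15697) F11674 D7640 F25821 D13647 D28618
theorem F188474 : act 6 n79840 = n60236 := d10_2 F188432 D79840 F94794
theorem F188475 : act 7 n60167 = n79840 := d14_0 F188474 (iv7 D60236) (iv6 D28627) (iv7 F46165) D60167
theorem F188476 : act 2 n79840 = n60208 := d4_1 F188475 (iv7 D60208) (iv2 F94715)
theorem F188477 : act 1 n60206 = n79840 := d15_1 D60206 (iv7 F188475) F94715
theorem F188478 : act 1 n79840 = n60205 := d15_0 (iv0 D60205) D60208 (iv2 F188476)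
theorem F188479 : act 0 n70165 = n79848 := d21_4 (iv5 F56722) (iv1 F56726) F54320 D70165 (iv6 D79848) (iv5 D36370) F188426 D28620 (iv6 F53371) (iv1 F54176)
theorem E18737 : n107938 = n74760 := ((c21_7 (iv5 D32656) (iv1 F28419) D35999 D79104 F188404 D117955 (iv5 F185012) (iv1 D107938) (iv5 F94534) (iv6 D60032) (iv1 F51723))).symm
theorem F188480 : act 0 n74760 = n49855 := (sb E18737 (iv1 D107938))
theorem F188482 : act 3 n119410 = n80220 := d20_5 (iv4 F130279) F188400 F86945 (iv3 F86943) D119410 F154836 (iv1 F124191) (iv4 F123372) F123371 (iv1 F86875)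
theorem F188483 : act 0 n119407 = n79238 := d20_7 F29522 F117933 D27741 (iv3 F131604) F188398 (iv3 F86943) (iv4 F188150) (iv4 F127794) (iv3 D82934) (iv1 F59018)
theorem F188484 : act 7 n83582 = n119433 := d8_0 F188395 F127880 D83582
theorem F188485 : act 2 n83582 = n119432 := d15_3 (iv0 D119432) D119433 (iv7 F188484)
def n119504 : Q := act 1 n54981
theorem D119504 : act 1 n54981 = n119504 := rfl
theorem F188486 : act 1 n119504 = n54986 := d15_1 D119504 (iv7 F187765) F187764
def n119505 : Q := act 4 n54981
theorem D119505 : act 4 n54981 = n119505 := rfl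
def n119506 : Q := act 6 n54981
theorem D119506 : act 6 n54981 = n119506 := rfl
def n119507 : Q := act 0 n54982
theorem D119507 : act 0 n54982 = n119507 := rfl
def n119508 : Q := act 1 n54982
theorem D119508 : act 1 n54982 = n119508 := rfl
def n119509 : Q := act 5 n54982
theorem D119509 : act 5 n54982 = n119509 := rfl
theorem F188487 : act 0 n119509 = n119112 := d21_7 (iv5 F42578) (iv1 D26586) (iv5 D12708) D12709 D26589 D54982 D119509 (iv5 D119112) (iv6 D54812) F42444
theorem F188488 : act 4 n119508 = n55017 := d17_9 (iv1 D55017) D55018 F87024 F86281 (iv4 F86735) D119112 (iv0 F188487) (iv5 D119509) D119508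
theorem F188489 : act 3 n83271 = n119508 := d5_5 F188488 F113928 F42733 (iv3 F117690) (iv4 F128340)
theorem F188490 : act 6 n83961 = n119508 := d10_0 F188488 (iv6 F130166) F130164
theorem F188491 : act 7 n73697 = n119508 := d11_0 F188488 F113930 (iv4 F110393)
theorem E18738 : n119507 = n119399 := ((c15_4 (iv0 D119507) D119508 (iv7 F188491) (iv2 F188122))).symm
theorem F188492 : act 1 n119399 = n54982 := (sb E18738 (iv0 D119507))
def n119510 : Q := act 7 n54982
theorem D119510 : act 7 n54982 = n119510 := rfl
def n119511 : Q := act 0 n54984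
theorem D119511 : act 0 n54984 = n119511 := rfl
def n119512 : Q := act 1 n54984
theorem D119512 : act 1 n54984 = n119512 := rfl
def n119513 : Q := act 2 n54984
theorem D119513 : act 2 n54984 = n119513 := rfl
def n119514 : Q := act 4 n54984
theorem D119514 : act 4 n54984 = n119514 := rfl
theorem F188493 : act 3 n119514 = n60189 := d5_1 D119514 (iv4 D60189) (iv3 F86998) (iv4 D54985) D54984
theorem F188494 : act 7 n119514 = n60308 := d11_2 F187763 D119514 (iv4 F187762)
def n119515 : Q := act 5 n54984
theorem D119515 : act 5 n54984 = n119515 := rfl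
theorem F188495 : act 3 n119515 = n54986 := d6_1 D119515 (iv5 D54986) D54984
def n119516 : Q := act 6 n54984
theorem D119516 : act 6 n54984 = n119516 := rfl
theorem F188496 : act 3 n119516 = n54987 := d7_1 D119516 (iv6 D54987) D54984
def n119517 : Q := act 5 n54985
theorem D119517 : act 5 n54985 = n119517 := rfl
theorem F188497 : act 3 n119517 = n60190 := d6_1 D119517 (iv5 D60190) (iv3 F86998)
theorem F188498 : act 7 n119517 = n60303 := d13_2 (iv7 F185351) D119517 (iv5 D60303)
def n119518 : Q := act 6 n54985
theorem D119518 : act 6 n54985 = n119518 := rfl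
theorem F188499 : act 3 n119518 = n60191 := d7_1 D119518 (iv6 D60191) (iv3 F86998)
theorem F188500 : act 4 n119518 = n54987 := d10_1 D119518 (iv6 D54987) D54985
def n119519 : Q := act 4 n54986
theorem D119519 : act 4 n54986 = n119519 := rfl
def n119520 : Q := act 6 n54986
theorem D119520 : act 6 n54986 = n119520 := rfl
def n119521 : Q := act 0 n54987
theorem D119521 : act 0 n54987 = n119521 := rfl
def n119522 : Q := act 1 n54987
theorem D119522 : act 1 n54987 = n119522 := rfl
def n119523 : Q := act 5 n54987
theorem D119523 : act 5 n54987 = n119523 := rfl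
theorem F188501 : act 0 n119523 = n118605 := d21_7 (iv5 D83746) (iv1 F128716) F128713 (iv6 F86843) (iv1 F86845) D54987 D119523 (iv5 D118605) D118606 (iv1 F186553)
theorem E18739 : n119522 = n119353 := (c17_9 F187481 D55034 F130510 (iv5 D54613) D54612 D118605 (iv0 F188501) (iv5 D119523) D119522 F187979)
theorem F188502 : act 0 n119353 = n54987 := (sb E18739 (iv1 D119522))
def n119524 : Q := act 7 n54987
theorem D119524 : act 7 n54987 = n119524 := rfl
def n119525 : Q := act 2 n54988
theorem D119525 : act 2 n54988 = n119525 := rfl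
theorem F188503 : act 7 n54989 = n119525 := d15_2 (iv0 D54988) D54989 (iv2 D119525)
def n119526 : Q := act 3 n54988
theorem D119526 : act 3 n54988 = n119526 := rfl
def n119527 : Q := act 4 n54988
theorem D119527 : act 4 n54988 = n119527 := rfl
def n119528 : Q := act 5 n54988
theorem D119528 : act 5 n54988 = n119528 := rfl
theorem F188504 : act 1 n119528 = n72180 := d17_8 (iv1 F130475) (iv5 D54197) (iv1 F85479) F85476 (iv4 F86842) (iv5 F187782) F187785 D119528 F108625
theorem F188505 : act 0 n83741 = n72179 := d21_7 (iv5 D119528) (iv1 F187785) F187782 F86843 (iv1 F59393) D38591 D83741 (iv5 D72179) D72180 (iv1 F188504)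
theorem E18740 : n84927 = n83740 := (c17_10 (iv1 D83740) D83741 F188505 (iv5 D72179) (iv4 D33318) D33319 F130474 (iv5 D39370) (iv0 F120250) (iv4 F130132))
theorem F188506 : act 2 n83740 = n81824 := (sb E18740 F130131)
theorem F188507 : act 4 n83740 = n39291 := (sb E18740 F130132)
theorem F188508 : act 6 n83740 = n39289 := (sb E18740 (iv6 D84927))
def n119529 : Q := act 6 n54988
theorem D119529 : act 6 n54988 = n119529 := rfl
def n119530 : Q := act 7 n54988
theorem D119530 : act 7 n54988 = n119530 := rfl
theorem F188509 : act 2 n119530 = n54989 := d4_1 D119530 F188503 (iv2 D119525)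
def n119531 : Q := act 3 n54989
theorem D119531 : act 3 n54989 = n119531 := rfl
def n119532 : Q := act 4 n54989
theorem D119532 : act 4 n54989 = n119532 := rfl
def n119533 : Q := act 5 n54989
theorem D119533 : act 5 n54989 = n119533 := rfl
theorem F188510 : act 6 n119533 = n75591 := d21_9 (iv5 F113462) (iv1 F128786) (iv5 D83726) (iv6 D38586) (iv1 F59394) (iv6 F86843) (iv5 F187782) (iv1 F187784) D119533 (iv1 F113450)
def n119534 : Q := act 6 n54989
theorem D119534 : act 6 n54989 = n119534 := rfl
def n119535 : Q := act 0 n54990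
theorem D119535 : act 0 n54990 = n119535 := rfl
def n119536 : Q := act 1 n54990
theorem D119536 : act 1 n54990 = n119536 := rfl
def n119537 : Q := act 3 n54990
theorem D119537 : act 3 n54990 = n119537 := rfl
theorem F188511 : act 4 n119537 = n84035 := d5_2 D54990 D119537 (iv3 D84035) (iv4 D38703) (iv3 F42588)
def n119538 : Q := act 5 n54990
theorem D119538 : act 5 n54990 = n119538 := rfl
def n119539 : Q := act 7 n54990
theorem D119539 : act 7 n54990 = n119539 := rfl
theorem F188512 : act 4 n119539 = n54991 := d11_1 D119539 (iv7 D54991) D54990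
def n119540 : Q := act 6 n54991
theorem D119540 : act 6 n54991 = n119540 := rfl
theorem F188513 : act 3 n119540 = n84005 := d7_1 D119540 F128968 (iv3 F86999)
theorem F188514 : act 5 n119540 = n83758 := d12_1 D119540 (iv6 D83758) F59410 (iv6 F42591) (iv5 F87000)
def n119541 : Q := act 5 n54998
theorem D119541 : act 5 n54998 = n119541 := rfl
theorem F188515 : act 3 n119541 = n55191 := d6_1 D119541 (iv5 D55191) (iv3 F163004)
def n119542 : Q := act 6 n54998
theorem D119542 : act 6 n54998 = n119542 := rfl
def n119543 : Q := act 6 n54999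
theorem D119543 : act 6 n54999 = n119543 := rfl
theorem F188518 : act 2 n119543 = n73755 := d3_1 D119543 (iv6 D73755) (iv2 F163022)
def n119544 : Q := act 5 n55000
theorem D119544 : act 5 n55000 = n119544 := rfl
theorem F188520 : act 2 n119544 = n55002 := d2_1 D119544 (iv5 D55002) D55000
theorem F188521 : act 3 n119544 = n79053 := d6_1 D119544 (iv5 D79053) (iv3 F131171)
def n119545 : Q := act 6 n55000
theorem D119545 : act 6 n55000 = n119545 := rfl
theorem F188522 : act 2 n119545 = n55003 := d3_1 D119545 (iv6 D55003) D55000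
theorem F188523 : act 3 n119545 = n62706 := d7_1 D119545 (iv6 F97818) (iv3 F131171)
theorem F188524 : act 4 n119545 = n106015 := d10_1 D119545 (iv6 D106015) (iv4 F162698)
theorem F188525 : act 5 n62704 = n119545 := d6_0 F188523 (iv5 D62706) D62704
def n119546 : Q := act 3 n55001
theorem D119546 : act 3 n55001 = n119546 := rfl
theorem F188526 : act 4 n119546 = n55007 := d5_2 D55001 D119546 (iv3 D55007) (iv4 D26595) D26594
def n119547 : Q := act 5 n55001
theorem D119547 : act 5 n55001 = n119547 := rfl
theorem F188528 : act 2 n119547 = n106014 := d2_1 D119547 (iv5 D106014) F162699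
theorem F188529 : act 7 n119547 = n106017 := d13_2 F162701 D119547 (iv5 D106017)
def n119548 : Q := act 6 n55001
theorem D119548 : act 6 n55001 = n119548 := rfl
theorem F188531 : act 4 n119548 = n55003 := d10_1 D119548 (iv6 D55003) D55001
theorem F188532 : act 0 n119548 = n78296 := d20_7 F56388 (iv1 F44646) (iv4 F42733) (iv3 F113928) (iv1 D55017) (iv3 F87012) (iv4 F188531) F119504 F56384 D35709
def n119549 : Q := act 0 n55002
theorem D119549 : act 0 n55002 = n119549 := rfl
def n119550 : Q := act 1 n55002
theorem D119550 : act 1 n55002 = n119550 := rfl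
def n119551 : Q := act 4 n55002
theorem D119551 : act 4 n55002 = n119551 := rfl
def n119552 : Q := act 6 n55002
theorem D119552 : act 6 n55002 = n119552 := rfl
theorem F188533 : act 3 n119552 = n55014 := d7_1 D119552 (iv6 D55014) (iv3 F87011)
def n119553 : Q := act 0 n55003
theorem D119553 : act 0 n55003 = n119553 := rfl
def n119554 : Q := act 1 n55003
theorem D119554 : act 1 n55003 = n119554 := rfl
def n119555 : Q := act 5 n55003
theorem D119555 : act 5 n55003 = n119555 := rfl
theorem F188534 : act 2 n119555 = n62704 := d2_1 D119555 F188525 F188522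
theorem F188535 : act 3 n119555 = n55018 := d6_1 D119555 (iv5 D55018) (iv3 F87012)
theorem F188536 : act 4 n119555 = n107962 := d20_6 (iv4 F56393) (iv1 F87519) F87516 (iv3 F87502) (iv1 F87504) (iv3 F188535) (iv1 D107962) F78853 F38099 D24319
def n119556 : Q := act 7 n55003
theorem D119556 : act 7 n55003 = n119556 := rfl
theorem F188537 : act 3 n119556 = n55019 := d8_1 D119556 (iv7 D55019) (iv3 F87012)
def n119557 : Q := act 3 n55005
theorem D119557 : act 3 n55005 = n119557 := rfl
theorem F188538 : act 4 n119557 = n101462 := d5_2 F131203 D119557 (iv3 F184580) (iv4 D60402) (iv3 F131202)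
theorem F188539 : act 6 n119557 = n85072 := d7_2 (iv6 F184585) D119557 (iv3 D85072)
theorem F188540 : act 7 n119557 = n84895 := d8_2 (iv7 F184586) D119557 F130107
theorem F188541 : act 2 n101470 = n119557 := d4_3 F188540 F130106 D101470
theorem F188542 : act 1 n101468 = n119557 := d15_1 D101468 F188540 F130106
theorem F188543 : act 1 n119557 = n101467 := d15_0 (iv0 D101467) D101470 F188541
def n119558 : Q := act 5 n55005
theorem D119558 : act 5 n55005 = n119558 := rfl
theorem F188544 : act 7 n119558 = n84898 := d13_2 (iv7 F184586) D119558 (iv5 D84898)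
def n119559 : Q := act 0 n55007
theorem D119559 : act 0 n55007 = n119559 := rfl
def n119560 : Q := act 1 n55007
theorem D119560 : act 1 n55007 = n119560 := rfl
def n119561 : Q := act 2 n55007
theorem D119561 : act 2 n55007 = n119561 := rfl
def n119562 : Q := act 5 n55007
theorem D119562 : act 5 n55007 = n119562 := rfl
theorem F188545 : act 3 n119562 = n55008 := d6_1 D119562 (iv5 D55008) D55007
def n119563 : Q := act 6 n55007
theorem D119563 : act 6 n55007 = n119563 := rfl
theorem F188546 : act 3 n119563 = n55009 := d7_1 D119563 (iv6 D55009) D55007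
def n119564 : Q := act 0 n55008
theorem D119564 : act 0 n55008 = n119564 := rfl
theorem F188547 : act 5 n119564 = n119233 := d21_2 D55008 D119564 (iv6 D119233) (iv1 D54867) (iv6 D26543) D26542 (iv1 F86753) F86755 D54917 F184587
theorem F188548 : act 1 n55028 = n119564 := d15_0 (iv0 D119564) (iv7 F187829) F187828
def n119565 : Q := act 1 n55008
theorem D119565 : act 1 n55008 = n119565 := rfl
theorem F188549 : act 1 n119565 = n55028 := d15_1 D119565 (iv7 F187795) F187794
def n119566 : Q := act 4 n55008
theorem D119566 : act 4 n55008 = n119566 := rfl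
def n119567 : Q := act 6 n55008
theorem D119567 : act 6 n55008 = n119567 := rfl
def n119568 : Q := act 1 n55009
theorem D119568 : act 1 n55009 = n119568 := rfl
theorem F188550 : act 7 n119568 = n84921 := d15_2 (iv0 F188074) D119568 (iv2 F188072)
def n119569 : Q := act 5 n55009
theorem D119569 : act 5 n55009 = n119569 := rfl
theorem F188551 : act 0 n119569 = n119119 := d21_7 D26542 (iv1 F86753) F86755 D54917 F184587 D55009 D119569 (iv5 D119119) (iv6 D54816) (iv1 F42449)
def n119570 : Q := act 7 n55009
theorem D119570 : act 7 n55009 = n119570 := rfl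
theorem F188552 : act 4 n119570 = n55019 := d11_1 D119570 (iv7 D55019) (iv4 F87015)
def n119571 : Q := act 3 n55011
theorem D119571 : act 3 n55011 = n119571 := rfl
theorem F188554 : act 5 n119571 = n118934 := d6_2 (iv5 F87019) D119571 F187019
theorem F188555 : act 7 n119571 = n73853 := d8_2 (iv7 F183995) D119571 (iv3 F183994)
def n119572 : Q := act 4 n55011
theorem D119572 : act 4 n55011 = n119572 := rfl
theorem F188558 : act 2 n119572 = n73846 := d1_1 D119572 (iv4 D73846) (iv2 F113946)
def n119573 : Q := act 6 n55011
theorem D119573 : act 6 n55011 = n119573 := rfl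
theorem F188559 : act 2 n119573 = n73847 := d3_1 D119573 (iv6 D73847) (iv2 F113946)
theorem F188560 : act 5 n119573 = n117553 := d12_1 D119573 F184157 (iv5 D54878) D54879 (iv5 F87019)
def n119574 : Q := act 4 n55012
theorem D119574 : act 4 n55012 = n119574 := rfl
theorem F188561 : act 6 n119574 = n68927 := d10_2 (iv6 F113950) D119574 (iv4 D68927)
theorem F188562 : act 7 n119574 = n73846 := d11_2 (iv7 F113951) D119574 (iv4 D73846)
def n119575 : Q := act 0 n55013
theorem D119575 : act 0 n55013 = n119575 := rfl
theorem F188563 : act 1 n55030 = n119575 := d15_0 (iv0 D119575) (iv7 F187833) F187832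
def n119576 : Q := act 1 n55013
theorem D119576 : act 1 n55013 = n119576 := rfl
theorem F188564 : act 1 n119576 = n55030 := d15_1 D119576 (iv7 F187799) F187798
def n119577 : Q := act 3 n55013
theorem D119577 : act 3 n55013 = n119577 := rfl
def n119578 : Q := act 5 n55013
theorem D119578 : act 5 n55013 = n119578 := rfl
def n119579 : Q := act 6 n55013
theorem D119579 : act 6 n55013 = n119579 := rfl
theorem F188565 : act 4 n119579 = n55014 := d10_1 D119579 (iv6 D55014) D55013
def n119580 : Q := act 1 n55014
theorem D119580 : act 1 n55014 = n119580 := rfl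
theorem F188566 : act 7 n119580 = n68758 := d15_2 (iv0 F183960) D119580 (iv2 F183959)
theorem F188568 : act 5 n74844 = n119580 := d13_3 F188566 (iv5 F105758) (iv7 F112328)
def n119581 : Q := act 5 n55014
theorem D119581 : act 5 n55014 = n119581 := rfl
theorem F188569 : act 6 n119581 = n55018 := d12_2 D55014 D119581 (iv5 D55018) (iv6 D26597) D26596
theorem E18741 : n117577 = n74844 := (c21_11 F188568 (iv1 D119580) D119581 F188569 F87024 (iv6 D54595) (iv5 F42153) F41537 (iv5 F46801) (iv6 F85493) D117577)
theorem F188570 : act 1 n74844 = n54168 := (sb E18741 (iv0 D117577))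
theorem F188571 : act 0 n69450 = n119581 := d21_1 D69450 (iv5 D119581) (iv6 D55014) D55011 D119573 F188560 (iv1 F184165) (iv5 F184040) F184041 F112124
def n119582 : Q := act 7 n55014
theorem D119582 : act 7 n55014 = n119582 := rfl
def n119583 : Q := act 5 n55017
theorem D119583 : act 5 n55017 = n119583 := rfl
theorem F188572 : act 3 n119583 = n55182 := d6_1 D119583 (iv5 D55182) (iv3 F113928)
theorem F188573 : act 6 n119583 = n74865 := d12_2 F130166 D119583 F187043 (iv6 D118947) (iv5 F130165)
theorem F188574 : act 7 n119583 = n73703 := d13_2 (iv7 F113930) D119583 (iv5 D73703)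
theorem F188575 : act 0 n119583 = n55317 := d21_1 D119583 (iv5 D55317) D55318 (iv1 F130436) F130435 D118602 (iv1 F186543) (iv5 F162730) (iv6 F187810) (iv1 F187811)
theorem F188576 : act 0 n55322 = n119583 := d21_1 D55322 (iv5 D119583) (iv6 F130166) F130162 (iv6 F130139) F130138 (iv1 F105064) F105061 (iv6 F86741) (iv1 F86742)
def n119584 : Q := act 4 n55018
theorem D119584 : act 4 n55018 = n119584 := rfl
theorem F188577 : act 0 n119584 = n118562 := d18_2 (iv1 F87504) D119584 F186473 (iv5 D69877) (iv4 F86744) (iv0 F187411) (iv4 D119117) F86738 (iv5 F87503)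
def n119585 : Q := act 5 n55023
theorem D119585 : act 5 n55023 = n119585 := rfl
theorem F188578 : act 2 n119585 = n55025 := d2_1 D119585 (iv5 D55025) D55023
theorem F188579 : act 7 n119585 = n79053 := d13_2 (iv7 F131166) D119585 (iv5 D79053)
theorem F188580 : act 6 n119585 = n68801 := d21_3 F104753 (iv1 F162946) D119585 (iv1 F104997) (iv6 D34712) F27565 (iv1 F21280) D26810 D55546 (iv1 F113826)
theorem F188581 : act 2 n68801 = n69755 := d3_1 F188580 (iv6 F131167) (iv2 F188578)
theorem F188582 : act 7 n69756 = n68801 := d15_2 (iv0 D69755) D69756 F188581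
theorem F188583 : act 7 n68802 = n69755 := d15_2 (iv0 D68801) D68802 (iv2 F188581)
theorem F188584 : act 2 n69756 = n68802 := d4_3 F188583 (iv2 F188581) (iv7 F188582)
theorem F188585 : act 3 n67863 = n68802 := d8_3 F188583 F131172 (iv7 F162732)
def n119586 : Q := act 6 n55023
theorem D119586 : act 6 n55023 = n119586 := rfl
theorem F188586 : act 2 n119586 = n55026 := d3_1 D119586 (iv6 D55026) D55023
def n119587 : Q := act 3 n55024
theorem D119587 : act 3 n55024 = n119587 := rfl
theorem F188587 : act 4 n119587 = n55027 := d5_2 D55024 D119587 (iv3 D55027) (iv4 D26600) D26599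
def n119589 : Q := act 6 n55024
theorem D119589 : act 6 n55024 = n119589 := rfl
theorem F188588 : act 4 n119589 = n55026 := d10_1 D119589 (iv6 D55026) D55024
def n119590 : Q := act 0 n55025
theorem D119590 : act 0 n55025 = n119590 := rfl
theorem F188590 : act 1 n79053 = n119590 := d15_0 (iv0 D119590) (iv7 F187788) F187786
def n119591 : Q := act 1 n55025
theorem D119591 : act 1 n55025 = n119591 := rfl
theorem F188591 : act 1 n119591 = n79053 := d15_1 D119591 (iv7 F188579) F188578
theorem F188592 : act 6 n75949 = n119591 := d21_9 (iv5 D55025) F131159 (iv5 F50201) (iv6 D31894) (iv1 F27302) D34405 F54578 D55240 (iv5 F113842) (iv1 D119591)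
theorem F188593 : act 5 n119591 = n119198 := d12_1 F188592 (iv6 D119198) D119197 F187570 (iv5 F113842)
theorem F188594 : act 3 n55162 = n119591 := d6_3 F188593 F187571 (iv5 F131213)
theorem F188595 : act 0 n55026 = n107859 := d21_4 (iv5 F188593) (iv1 D119591) (iv5 D55025) D55026 (iv6 F184445) (iv5 D117767) (iv1 F85668) F85949 D118145 F187573
theorem F188596 : act 1 n55026 = n107861 := d15_1 (iv0 F188595) F166641 (iv2 F166625)
theorem F188597 : act 7 n119591 = n73951 := d8_2 (iv7 F185115) F188594 (iv3 D73951)
theorem F188598 : act 6 n73951 = n69748 := d14_1 F188597 F185096 F110841 F185091 F188592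
theorem F188599 : act 2 n73951 = n119590 := d15_3 (iv0 D119590) D119591 F188597
theorem F188600 : act 6 n119590 = n68811 := d3_2 (iv6 F188598) F188599 F185097
theorem E18742 : n68893 = n68837 := (c7_2 F188598 (iv3 F185098) F131181 D73951)
theorem F188601 : act 2 n68837 = n32040 := (sb E18742 F105072)
theorem F188602 : act 3 n68837 = n69748 := (sb E18742 F185098)
theorem F188603 : act 7 n68837 = n32039 := (sb E18742 (iv7 D68893))
theorem E18743 : n68888 = n68836 := (c15_4 (iv0 D68836) D68837 F188603 D68888)
theorem F188604 : act 2 n68836 = n32039 := (sb E18743 (iv2 D68888))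
theorem F188605 : act 7 n68836 = n32040 := (sb E18743 (iv7 F105071))
theorem F188606 : act 4 n69748 = n68556 := d20_6 D31903 (iv1 F110679) F49429 (iv3 F50669) (iv1 F105021) F188602 (iv1 D68556) F50202 F24679 D15049
theorem E18744 : n68897 = n55163 := (c3_3 (iv6 F131181) F188601 D68897 F185123)
theorem E18745 : n72072 = n69611 := ((F185124).symm.trans (sb E18744 F183510))
theorem F188607 : act 6 n55163 = n32040 := (sb E18744 (iv6 D68897))
theorem F188608 : act 2 n69611 = n73953 := (sb E18745 F131177)
theorem F188609 : act 5 n69611 = n55163 := (sb E18745 (iv5 F185124))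
theorem F188610 : act 7 n69611 = n33279 := (sb E18745 (iv7 D72072))
theorem E18746 : n71863 = n69610 := (c15_4 (iv0 D69610) D69611 F188610 (iv2 F185109))
theorem F188611 : act 2 n69610 = n33279 := (sb E18746 F185109)
theorem F188612 : act 3 n69610 = n119198 := (sb E18746 (iv3 F187571))
theorem F188613 : act 5 n69610 = n55162 := (sb E18746 (iv5 F131213))
theorem F188614 : act 6 n69610 = n33209 := (sb E18746 (iv6 D71863))
theorem F188615 : act 7 n69610 = n73953 := (sb E18746 F185110)
theorem F188616 : act 0 n69415 = n74983 := d21_7 (iv5 F188613) (iv1 F184787) (iv5 D117844) F130862 (iv1 F131624) (iv6 D69416) D69415 F112515 (iv6 D55165) D55162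
theorem E18747 : n73604 = n55166 := ((c21_8 F108178 F187479 (iv5 D119151) F105692 F188616 (iv6 D74983) F54512 D55166 F110290 (iv6 D71699) D71696)).symm
theorem F188617 : act 2 n55166 = n33848 := (sb E18747 F110288)
theorem F188618 : act 3 n55166 = n33872 := (sb E18747 F110289)
theorem F188619 : act 5 n55166 = n71699 := (sb E18747 F110290)
theorem F188620 : act 6 n55166 = n33827 := (sb E18747 (iv6 D73604))
theorem E18748 : n73662 = n55167 := ((c15_2 (iv0 D55166) D55167 (iv7 D73662) (iv2 F188617))).symm
theorem F188621 : act 7 n55167 = n33848 := (sb E18748 (iv7 D73662))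
def n119592 : Q := act 4 n55025
theorem D119592 : act 4 n55025 = n119592 := rfl
def n119593 : Q := act 5 n55026
theorem D119593 : act 5 n55026 = n119593 := rfl
theorem F188623 : act 0 n119593 = n74864 := d21_7 (iv5 D71268) (iv1 F86165) F86161 (iv6 F131164) (iv1 D55022) D55026 D119593 F112452 (iv6 F112454) (iv1 F110388)
def n119594 : Q := act 7 n55026
theorem D119594 : act 7 n55026 = n119594 := rfl
theorem F188625 : act 3 n119594 = n55035 := d8_1 D119594 (iv7 D55035) (iv3 F87027)
theorem F188626 : act 6 n119594 = n62701 := d14_1 D119594 F162903 (iv6 F162883) F162715 D55026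
theorem F188627 : act 0 n73969 = n119594 := d21_4 (iv5 D32311) (iv1 F87275) D69456 (iv6 F131193) F188626 (iv5 D62701) (iv1 F47629) (iv5 F51809) (iv6 F85945) (iv1 F85947)
theorem F188628 : act 0 n119594 = n74928 := d21_10 (iv5 D74928) (iv1 D34335) D34336 F54493 F38234 D26321 F41973 D29644 D62701 (iv6 F188626)
theorem F188629 : act 1 n119586 = n74928 := d15_0 (iv0 F188628) (iv7 D119594) (iv2 F188586)
theorem F188630 : act 1 n73969 = n119586 := d15_0 F188629 (iv7 F166626) F166625
def n119595 : Q := act 2 n55027
theorem D119595 : act 2 n55027 = n119595 := rfl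
def n119596 : Q := act 5 n55027
theorem D119596 : act 5 n55027 = n119596 := rfl
theorem F188631 : act 3 n119596 = n55028 := d6_1 D119596 (iv5 D55028) D55027
def n119597 : Q := act 6 n55027
theorem D119597 : act 6 n55027 = n119597 := rfl
theorem F188632 : act 3 n119597 = n55029 := d7_1 D119597 (iv6 D55029) D55027
def n119598 : Q := act 4 n55028
theorem D119598 : act 4 n55028 = n119598 := rfl
def n119599 : Q := act 6 n55028
theorem D119599 : act 6 n55028 = n119599 := rfl
def n119600 : Q := act 0 n55029
theorem D119600 : act 0 n55029 = n119600 := rfl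
def n119601 : Q := act 1 n55029
theorem D119601 : act 1 n55029 = n119601 := rfl
def n119602 : Q := act 5 n55029
theorem D119602 : act 5 n55029 = n119602 := rfl
theorem F188633 : act 1 n119602 = n119135 := d17_6 D26523 D54828 F87029 (iv5 D55034) (iv4 F87028) D119602 (iv5 D119135) (iv0 D54822) F42462
def n119603 : Q := act 7 n55029
theorem D119603 : act 7 n55029 = n119603 := rfl
theorem F188634 : act 4 n119603 = n55035 := d11_1 D119603 (iv7 D55035) (iv4 F87028)
theorem F188635 : act 1 n84947 = n119603 := d17_8 F186992 (iv5 F86324) F130270 (iv5 D26525) (iv4 F42462) D54824 D119141 (iv5 F187460) F188634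
theorem F188636 : act 1 n119314 = n84947 := d15_0 F188635 (iv7 D119603) (iv2 F187830)
def n119604 : Q := act 3 n55030
theorem D119604 : act 3 n55030 = n119604 := rfl
def n119605 : Q := act 5 n55030
theorem D119605 : act 5 n55030 = n119605 := rfl
def n119606 : Q := act 6 n55030
theorem D119606 : act 6 n55030 = n119606 := rfl
theorem F188637 : act 4 n119606 = n55031 := d10_1 D119606 (iv6 D55031) D55030
def n119607 : Q := act 5 n55031
theorem D119607 : act 5 n55031 = n119607 := rfl
theorem F188638 : act 6 n119607 = n55034 := d12_2 D55031 D119607 (iv5 D55034) (iv6 D26602) D26601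
def n119608 : Q := act 4 n55032
theorem D119608 : act 4 n55032 = n119608 := rfl
theorem F188639 : act 3 n119608 = n82300 := d5_1 D119608 (iv4 D82300) F58601 F42745 (iv3 F130336)
theorem F188640 : act 6 n119608 = n83725 := d10_2 (iv6 F130338) D119608 F128785
theorem F188642 : act 5 n98774 = n119608 := d6_0 F188639 F126790 D98774
def n119610 : Q := act 4 n55036
theorem D119610 : act 4 n55036 = n119610 := rfl
theorem F188643 : act 2 n119610 = n71957 := d1_1 D119610 F108455 (iv2 F87030)
theorem F188644 : act 7 n119610 = n71847 := d11_2 (iv7 F87031) D119610 (iv4 D71847)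
theorem F188645 : act 5 n119610 = n72129 := d16_1 D119610 (iv4 D72129) (iv5 D33300) (iv4 D16080) (iv5 D7509) (iv4 F11748) D16048 D33245 (iv2 F87030)
theorem F188646 : act 1 n72129 = n114812 := d17_6 F82826 (iv5 D33239) (iv1 F42597) D55036 D119610 F188645 (iv5 D114812) (iv0 F176810) (iv4 D113626)
theorem F188647 : act 0 n119610 = n71954 := d18_2 (iv1 F87033) D119610 (iv4 F178708) (iv5 F178705) (iv4 D72111) (iv0 F52533) (iv4 F82813) F108452 (iv5 D71948)
theorem F188648 : act 1 n119610 = n71953 := d18_6 F50918 F20209 D12713 D26603 D55036 D119610 F178703 (iv0 D114610) (iv5 D52902)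
def n119611 : Q := act 6 n55036
theorem D119611 : act 6 n55036 = n119611 := rfl
theorem F188649 : act 2 n119611 = n71958 := d3_1 D119611 (iv6 D71958) (iv2 F87030)
def n119612 : Q := act 3 n55037
theorem D119612 : act 3 n55037 = n119612 := rfl
theorem F188650 : act 7 n119612 = n71874 := d8_2 (iv7 F87035) D119612 (iv3 D71874)
def n119613 : Q := act 5 n55037
theorem D119613 : act 5 n55037 = n119613 := rfl
theorem F188651 : act 2 n119613 = n72131 := d2_1 D119613 F108579 (iv2 F87034)
theorem F188652 : act 4 n119613 = n71956 := d9_1 D119613 (iv5 D71956) (iv4 D33244) (iv5 D16048) F11748 D7509 D16080 D33300 D72129 (iv5 F188645) (iv4 D119610) (iv5 D55036) (iv4 D26603) D26604 D55037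
theorem F188653 : act 7 n119613 = n71875 := d13_2 (iv7 F87035) D119613 (iv5 D71875)
theorem F188654 : act 1 n72128 = n119613 := d15_1 D72128 F188653 F108353
theorem F188655 : act 1 n119613 = n72127 := d15_0 (iv0 D72127) D72131 (iv2 F188651)
def n119614 : Q := act 6 n55037
theorem D119614 : act 6 n55037 = n119614 := rfl
theorem F188656 : act 2 n119614 = n72132 := d3_1 D119614 (iv6 D72132) (iv2 F87034)
theorem F188657 : act 4 n119614 = n55038 := d10_1 D119614 (iv6 D55038) D55037
def n119615 : Q := act 0 n55038
theorem D119615 : act 0 n55038 = n119615 := rfl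
theorem F188658 : act 6 n119615 = n85102 := d21_5 (iv5 D12715) D12713 D26604 D55038 D119615 F130440 (iv1 D54217) D54218 F85554 (iv1 D26606)
def n119616 : Q := act 1 n55038
theorem D119616 : act 1 n55038 = n119616 := rfl
theorem F188659 : act 1 n119616 = n72088 := d15_1 D119616 F108546 (iv2 F87038)
def n119617 : Q := act 7 n55038
theorem D119617 : act 7 n55038 = n119617 := rfl
theorem F188660 : act 2 n119617 = n72088 := d4_1 D119617 F108546 (iv2 F87038)
theorem F188661 : act 6 n119617 = n71867 := d14_1 D119617 (iv7 D71867) F52436 (iv7 F42599) D55038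
theorem F188662 : act 1 n72088 = n119615 := d15_0 (iv0 D119615) D119617 F188660
theorem F188663 : act 1 n72134 = n119617 := d15_1 D72134 (iv7 D119617) F87038
theorem F188664 : act 1 n119617 = n72133 := d15_0 (iv0 D72133) (iv7 F108546) (iv2 F188660)
def n119618 : Q := act 0 n55039
theorem D119618 : act 0 n55039 = n119618 := rfl
theorem F188665 : act 5 n119618 = n72128 := d17_1 D119618 (iv1 D72128) (iv5 D33300) (iv4 D16080) (iv5 D7509) D7508 D16076 F42602 D55039
theorem F188666 : act 4 n119618 = n71943 := d18_3 D26605 D55039 D119618 (iv5 D71943) (iv4 D33240) F42596 (iv4 D26603) (iv0 D12713) D12715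
theorem F188667 : act 1 n55041 = n119618 := d15_0 (iv0 D119618) (iv7 F184276) F184275
theorem F188668 : act 7 n118165 = n119618 := d11_0 F188666 F108448 D118165
def n119619 : Q := act 1 n55039
theorem D119619 : act 1 n55039 = n119619 := rfl
theorem F188669 : act 1 n119619 = n55041 := d15_1 D119619 (iv7 F112365) F112364
theorem F188670 : act 4 n119619 = n71939 := d18_7 F115165 (iv4 F104111) F95891 F95889 F46705 D55039 D119619 (iv0 F115166) (iv5 F115160)
theorem F188671 : act 5 n119619 = n72127 := d18_9 (iv1 F188655) F188652 (iv1 F178884) F178883 (iv5 D72093) (iv4 D33286) F42602 D55039 D119619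
theorem F188672 : act 2 n118165 = n119619 := d1_3 F188670 F108443 D118165
def n119620 : Q := act 3 n55039
theorem D119620 : act 3 n55039 = n119620 := rfl
def n119621 : Q := act 5 n55039
theorem D119621 : act 5 n55039 = n119621 := rfl
def n119622 : Q := act 6 n55039
theorem D119622 : act 6 n55039 = n119622 := rfl
theorem F188673 : act 4 n119622 = n55040 := d10_1 D119622 (iv6 D55040) D55039
def n119623 : Q := act 0 n55040
theorem D119623 : act 0 n55040 = n119623 := rfl
def n119624 : Q := act 1 n55040
theorem D119624 : act 1 n55040 = n119624 := rfl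
def n119625 : Q := act 7 n55040
theorem D119625 : act 7 n55040 = n119625 := rfl
def n119626 : Q := act 3 n55041
theorem D119626 : act 3 n55041 = n119626 := rfl
theorem F188674 : act 4 n119626 = n71256 := d5_2 D55041 D119626 (iv3 D71256) (iv4 D32979) (iv3 F42605)
def n119627 : Q := act 5 n55041
theorem D119627 : act 5 n55041 = n119627 := rfl
def n119628 : Q := act 3 n55042
theorem D119628 : act 3 n55042 = n119628 := rfl
def n119629 : Q := act 5 n55042
theorem D119629 : act 5 n55042 = n119629 := rfl
def n119630 : Q := act 6 n55042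
theorem D119630 : act 6 n55042 = n119630 := rfl
def n119631 : Q := act 3 n55043
theorem D119631 : act 3 n55043 = n119631 := rfl
def n119632 : Q := act 5 n55043
theorem D119632 : act 5 n55043 = n119632 := rfl
def n119633 : Q := act 6 n55043
theorem D119633 : act 6 n55043 = n119633 := rfl
def n119634 : Q := act 0 n55044
theorem D119634 : act 0 n55044 = n119634 := rfl
def n119635 : Q := act 1 n55044
theorem D119635 : act 1 n55044 = n119635 := rfl
def n119636 : Q := act 2 n55044
theorem D119636 : act 2 n55044 = n119636 := rfl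
theorem F188675 : act 4 n119636 = n55249 := d1_2 (iv4 F87041) D119636 (iv2 D55249)
theorem F188676 : act 6 n119636 = n85199 := d3_2 (iv6 F87042) D119636 (iv2 D85199)
def n119637 : Q := act 5 n55044
theorem D119637 : act 5 n55044 = n119637 := rfl
theorem F188677 : act 3 n119637 = n55045 := d6_1 D119637 (iv5 D55045) D55044
def n119638 : Q := act 0 n55045
theorem D119638 : act 0 n55045 = n119638 := rfl
theorem F188678 : act 5 n119638 = n72098 := d17_3 (iv1 D55043) D55045 D119638 (iv4 F162640) F162641 (iv0 F77245) D54436 D118164 (iv4 F185673)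
theorem F188679 : act 1 n72093 = n119638 := d15_0 (iv0 D119638) (iv7 F184290) F184289
def n119639 : Q := act 1 n55045
theorem D119639 : act 1 n55045 = n119639 := rfl
theorem F188680 : act 1 n119639 = n72093 := d15_1 D119639 (iv7 F187151) F187150
theorem F188681 : act 5 n119639 = n72099 := d17_7 (iv1 D16079) (iv5 D7509) F26868 D12715 D26607 D55045 D119639 F108556 (iv4 D33294)
def n119640 : Q := act 4 n55045
theorem D119640 : act 4 n55045 = n119640 := rfl
theorem F188682 : act 5 n119640 = n72090 := d9_2 D55045 D119640 (iv4 D72090) (iv5 D33285) (iv4 D16075) D16076 D33286 D72093 (iv4 F178883) (iv5 D114812) (iv4 D52978) (iv5 D25715) F20209 D12715 D26607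
theorem F188683 : act 0 n119640 = n71956 := d18_2 (iv1 D119639) D119640 (iv4 F188652) (iv5 D119613) (iv4 D55037) F42601 D33290 D72099 (iv5 F188681)
theorem F188684 : act 1 n119640 = n72129 := d18_6 (iv1 F188667) (iv4 D55041) (iv1 D26606) D26607 D55045 D119640 (iv4 D72129) D72128 (iv5 F188665)
def n119641 : Q := act 6 n55045
theorem D119641 : act 6 n55045 = n119641 := rfl
theorem F188685 : act 5 n119641 = n85205 := d12_1 D119641 (iv6 D85205) (iv5 D39385) (iv6 F42606) D55045
def n119642 : Q := act 6 n55046
theorem D119642 : act 6 n55046 = n119642 := rfl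
theorem F188687 : act 3 n119642 = n55047 := d7_1 D119642 (iv6 D55047) D55046
def n119643 : Q := act 1 n55047
theorem D119643 : act 1 n55047 = n119643 := rfl
theorem F188689 : act 1 n119643 = n55060 := d15_1 D119643 (iv7 D55060) (iv2 F87049)
theorem F188690 : act 7 n119643 = n55057 := d15_2 (iv0 F106405) D119643 (iv2 F155233)
theorem F188691 : act 2 n55058 = n119643 := d4_3 F188690 (iv2 F155233) F155232
theorem F188692 : act 3 n119643 = n83380 := d20_5 F118566 (iv1 F43674) (iv4 F43710) (iv3 F87080) (iv1 F188689) (iv4 D83380) (iv1 D38411) (iv4 F59246) F59245 D38383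
def n119644 : Q := act 5 n55047
theorem D119644 : act 5 n55047 = n119644 := rfl
theorem F188693 : act 2 n119644 = n55059 := d2_1 D119644 (iv5 D55059) (iv2 F87049)
theorem F188694 : act 6 n119644 = n83167 := d12_2 D55047 D119644 (iv5 D83167) (iv6 D38288) (iv5 F52453)
def n119645 : Q := act 7 n55047
theorem D119645 : act 7 n55047 = n119645 := rfl
theorem F188695 : act 2 n119645 = n55060 := d4_1 D119645 (iv7 D55060) (iv2 F87049)
theorem F188696 : act 4 n119645 = n55051 := d11_1 D119645 (iv7 D55051) (iv4 F87050)
theorem F188697 : act 6 n119645 = n73599 := d14_1 D119645 (iv7 D73599) (iv6 D33825) (iv7 F42608) D55047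
theorem F188698 : act 1 n55058 = n119645 := d15_1 D55058 (iv7 D119645) F87049
theorem F188699 : act 1 n119645 = n55057 := d15_1 F188698 (iv7 F188690) (iv2 F188691)
def n119646 : Q := act 3 n55048
theorem D119646 : act 3 n55048 = n119646 := rfl
theorem F188700 : act 2 n119646 = n79087 := d0_1 D119646 (iv3 D79087) (iv2 F166645) (iv3 D55062) (iv2 F184960)
theorem F188701 : act 6 n119646 = n73974 := d7_2 (iv6 F184961) D119646 (iv3 D73974)
theorem F188702 : act 7 n119646 = n55067 := d8_2 (iv7 F184962) D119646 (iv3 D55067)
theorem F188703 : act 4 n60205 = n119646 := d20_2 (iv4 F46189) D60205 (iv3 D119646) (iv1 F87058) F42631 F21122 (iv1 F9587) D8249 D17558 F188426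
def n119647 : Q := act 4 n55048
theorem D119647 : act 4 n55048 = n119647 := rfl
theorem F188704 : act 2 n119647 = n55063 := d1_1 D119647 (iv4 D55063) (iv2 F184960)
theorem F188705 : act 6 n119647 = n73975 := d10_2 (iv6 F184961) D119647 (iv4 D73975)
theorem F188706 : act 7 n119647 = n55068 := d11_2 (iv7 F184962) D119647 (iv4 D55068)
def n119648 : Q := act 5 n55048
theorem D119648 : act 5 n55048 = n119648 := rfl
theorem F188708 : act 7 n119648 = n55069 := d13_2 (iv7 F184962) D119648 (iv5 D55069)
theorem F188709 : act 0 n119648 = n73530 := d21_1 D119648 F110193 (iv6 D34399) F130987 (iv6 D17411) (iv5 D8159) (iv1 F9441) (iv5 F21110) D26609 D55048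
def n119649 : Q := act 4 n55049
theorem D119649 : act 4 n55049 = n119649 := rfl
theorem F188710 : act 2 n119649 = n55068 := d1_1 D119649 (iv4 D55068) (iv2 F184957)
theorem F188711 : act 7 n119649 = n55063 := d11_2 (iv7 F184959) D119649 (iv4 D55063)
def n119650 : Q := act 5 n55049
theorem D119650 : act 5 n55049 = n119650 := rfl
theorem F188712 : act 2 n119650 = n55069 := d2_1 D119650 (iv5 D55069) (iv2 F184957)
theorem F188713 : act 3 n119650 = n79093 := d6_1 D119650 (iv5 D79093) (iv3 F184958)
theorem F188714 : act 7 n119650 = n55064 := d13_2 (iv7 F184959) D119650 (iv5 D55064)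
theorem F188715 : act 6 n117481 = n119650 := d21_5 (iv5 D54137) (iv1 D26197) D26198 (iv6 F85444) D117481 (iv5 D119650) (iv1 D55049) D55050 F87054 (iv1 F85449)
theorem E18749 : n117481 = n117396 := ((c7_4 F188715 F188713 F120322 D117396)).symm
theorem F188716 : act 1 n117396 = n54135 := (sb E18749 (iv0 D117481))
theorem F188717 : act 6 n117396 = n119650 := (sb E18749 F188715)
def n119651 : Q := act 6 n55049
theorem D119651 : act 6 n55049 = n119651 := rfl
theorem F188719 : act 2 n119651 = n55070 := d3_1 D119651 (iv6 D55070) (iv2 F184957)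
theorem F188720 : act 3 n119651 = n79094 := d7_1 D119651 (iv6 D79094) (iv3 F184958)
theorem F188721 : act 7 n119651 = n73972 := d14_2 (iv7 F184959) D119651 (iv6 D73972) (iv7 F166634) (iv6 D55065)
theorem F188722 : act 5 n119651 = n75899 := d21_6 (iv5 D39290) (iv1 F42567) F42563 (iv6 F42632) (iv1 F87051) D119651 (iv1 F130927) F85522 (iv6 F120249) (iv1 F110394)
theorem F188723 : act 0 n71825 = n119651 := d21_10 F188722 (iv1 F130927) F85522 (iv6 F120249) (iv1 F110394) D84929 (iv5 F187681) F187702 (iv5 D71824) D71825
theorem F188724 : act 1 n55070 = n118455 := d15_0 (iv0 F186281) (iv7 F188721) F188719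
def n119652 : Q := act 0 n55050
theorem D119652 : act 0 n55050 = n119652 := rfl
theorem F188725 : act 6 n119652 = n68896 := d21_5 (iv5 D15447) (iv1 F27054) D26854 (iv6 F87054) D119652 (iv5 D68896) (iv1 D32040) D32041 F50668 F27921
theorem F188726 : act 2 n55071 = n119652 := d15_3 (iv0 D119652) (iv0 F108524) F131187
theorem F188727 : act 1 n55074 = n119652 := d15_0 (iv0 D119652) (iv7 F188024) F188021
theorem F188728 : act 7 n119652 = n55072 := d15_2 F108525 F188727 (iv2 F185122)
def n119653 : Q := act 4 n55050
theorem D119653 : act 4 n55050 = n119653 := rfl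
theorem F188729 : act 2 n119653 = n55073 := d1_1 D119653 (iv4 D55073) (iv2 F87052)
theorem F188730 : act 6 n119653 = n55617 := d10_2 (iv6 F87054) D119653 (iv4 D55617)
def n119654 : Q := act 6 n55052
theorem D119654 : act 6 n55052 = n119654 := rfl
theorem F188731 : act 2 n119654 = n75481 := d3_1 D119654 (iv6 D75481) (iv2 F87061)
theorem F188732 : act 3 n119654 = n55053 := d7_1 D119654 (iv6 D55053) D55052
theorem F188733 : act 4 n119654 = n82885 := d10_1 D119654 (iv6 D82885) (iv4 F87062)
theorem F188734 : act 7 n84147 = n119654 := d11_0 F188733 F155158 D84147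
def n119655 : Q := act 5 n55053
theorem D119655 : act 5 n55053 = n119655 := rfl
theorem F188735 : act 2 n119655 = n73614 := d2_1 D119655 (iv5 D73614) (iv2 F87069)
theorem F188736 : act 6 n119655 = n82532 := d12_2 D55053 D119655 (iv5 D82532) (iv6 D37891) (iv5 F42622)
theorem F188737 : act 7 n119655 = n85255 := d13_2 (iv7 F155140) D119655 (iv5 D85255)
def n119656 : Q := act 5 n55054
theorem D119656 : act 5 n55054 = n119656 := rfl
theorem F188740 : act 6 n119656 = n75401 := d12_2 D55054 D119656 (iv5 D75401) (iv6 D34510) F42618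
theorem F188741 : act 7 n119656 = n73935 := d13_2 (iv7 F184594) D119656 (iv5 D73935)
def n119657 : Q := act 3 n55055
theorem D119657 : act 3 n55055 = n119657 := rfl
theorem F188742 : act 4 n119657 = n55643 := d5_2 D55055 D119657 F88032 F43323 (iv3 F42623)
theorem F188743 : act 5 n119657 = n78908 := d6_2 (iv5 F87074) D119657 (iv3 D78908)
theorem F188744 : act 7 n119657 = n73619 := d8_2 (iv7 F87075) D119657 (iv3 D73619)
def n119658 : Q := act 6 n55055
theorem D119658 : act 6 n55055 = n119658 := rfl
theorem F188745 : act 2 n119658 = n78913 := d3_1 D119658 (iv6 D78913) (iv2 F87073)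
theorem F188746 : act 4 n119658 = n55056 := d10_1 D119658 (iv6 D55056) D55055
def n119659 : Q := act 0 n55056
theorem D119659 : act 0 n55056 = n119659 := rfl
def n119660 : Q := act 1 n55056
theorem D119660 : act 1 n55056 = n119660 := rfl
def n119661 : Q := act 5 n55056
theorem D119661 : act 5 n55056 = n119661 := rfl
theorem F188748 : act 2 n119661 = n83167 := d2_1 D119661 (iv5 D83167) (iv2 F87077)
theorem F188749 : act 3 n119661 = n56076 := d6_1 D119661 (iv5 D56076) (iv3 F87078)
theorem F188750 : act 6 n119661 = n55059 := d12_2 D55056 D119661 (iv5 D55059) (iv6 D26613) D26612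
def n119662 : Q := act 7 n55056
theorem D119662 : act 7 n55056 = n119662 := rfl
theorem F188751 : act 2 n119662 = n83168 := d4_1 D119662 (iv7 D83168) (iv2 F87077)
theorem F188752 : act 3 n119662 = n56077 := d8_1 D119662 (iv7 D56077) (iv3 F87078)
theorem F188753 : act 6 n119662 = n73624 := d14_1 D119662 (iv7 D73624) (iv6 D33834) (iv7 F42624) D55056
theorem F188754 : act 1 n83168 = n119659 := d15_0 (iv0 D119659) D119662 F188751
theorem F188755 : act 1 n83166 = n119662 := d15_1 D83166 (iv7 D119662) F87077
theorem F188756 : act 1 n119662 = n83165 := d15_0 (iv0 D83165) D83168 (iv2 F188751)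
def n119663 : Q := act 3 n55057
theorem D119663 : act 3 n55057 = n119663 := rfl
theorem F188757 : act 4 n119663 = n83362 := d5_2 (iv4 F155234) D119663 F187965 D84945 F130290
theorem F188758 : act 7 n119663 = n83380 := d8_2 F188690 D119663 (iv3 F188692)
theorem E18750 : n83373 = n83362 := (c11_3 F188758 (iv4 D83380) F128502 (iv4 F188757))
theorem F188759 : act 2 n83362 = n38410 := (sb E18750 (iv2 D83373))
theorem E18751 : n119339 = n38411 := ((F187966).symm.trans (sb E18750 (iv7 F128502)))
theorem E18752 : n83378 = n83363 := (((iv2 F128503)).symm.trans (sb E18751 F187971))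
theorem E18753 : n83379 = n54919 := ((D83379).symm.trans (sb E18751 (iv3 D119339)))
theorem F188760 : act 7 n38411 = n83362 := (sb E18751 (iv7 F187966))
theorem F188761 : act 2 n83363 = n38411 := (sb E18752 F128503)
theorem F188762 : act 7 n83363 = n38410 := (sb E18752 (iv7 D83378))
theorem F188763 : act 3 n54919 = n38411 := (sb E18753 (iv3 D83379))
theorem E18754 : n70020 = n60193 := ((F155236).symm.trans (sb E18753 (iv4 F188461)))
theorem F188764 : act 2 n60193 = n32496 := (sb E18754 (iv2 D70020))
theorem F188765 : act 4 n60193 = n54919 := (sb E18754 (iv4 F155236))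
theorem F188766 : act 7 n60193 = n84945 := (sb E18754 (iv7 F130291))
theorem E18755 : n69912 = n60192 := (c15_4 (iv0 D60192) D60193 F188766 (iv2 F155214))
theorem F188767 : act 2 n60192 = n84945 := (sb E18755 F155214)
theorem F188768 : act 3 n60192 = n32465 := (sb E18755 (iv3 D69912))
theorem F188769 : act 4 n60192 = n54918 := (sb E18755 (iv4 F131635))
theorem F188770 : act 7 n60192 = n32496 := (sb E18755 F155215)
theorem F188771 : act 3 n83381 = n119340 := d6_3 (iv5 D119340) F188763 D83381
theorem F188772 : act 3 n83382 = n119341 := d7_3 (iv6 D119341) F188763 D83382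
theorem F188773 : act 2 n83374 = n119336 := d0_3 (iv3 F187965) F188759 D83374 (iv3 D119336) F155223
theorem F188774 : act 2 n83375 = n119663 := d1_3 F188757 F188759 D83375
def n119664 : Q := act 5 n55057
theorem D119664 : act 5 n55057 = n119664 := rfl
def n119665 : Q := act 6 n55057
theorem D119665 : act 6 n55057 = n119665 := rfl
theorem F188775 : act 2 n119665 = n73947 := d3_1 D119665 F184658 F155233
def n119666 : Q := act 3 n55058
theorem D119666 : act 3 n55058 = n119666 := rfl
def n119667 : Q := act 5 n55058
theorem D119667 : act 5 n55058 = n119667 := rfl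
def n119668 : Q := act 6 n55058
theorem D119668 : act 6 n55058 = n119668 := rfl
theorem F188776 : act 4 n119668 = n86003 := d10_1 D119668 F155293 F106347
theorem F188777 : act 0 n119668 = n85268 := d20_7 (iv4 D18763) (iv1 F13675) D8812 D18809 D39773 D86003 (iv4 F188776) F130574 F60338 F30423
def n119669 : Q := act 0 n55059
theorem D119669 : act 0 n55059 = n119669 := rfl
def n119670 : Q := act 1 n55059
theorem D119670 : act 1 n55059 = n119670 := rfl
def n119671 : Q := act 4 n55059
theorem D119671 : act 4 n55059 = n119671 := rfl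
def n119672 : Q := act 7 n55059
theorem D119672 : act 7 n55059 = n119672 := rfl
theorem F188778 : act 3 n119672 = n56091 := d8_1 D119672 (iv7 D56091) (iv3 F87079)
theorem F188779 : act 5 n119672 = n55060 := d13_1 D119672 (iv7 D55060) D55059
def n119673 : Q := act 5 n55062
theorem D119673 : act 5 n55062 = n119673 := rfl
theorem F188782 : act 7 n119673 = n79093 := d13_2 (iv7 F166647) D119673 (iv5 D79093)
theorem F188783 : act 0 n70323 = n119673 := d21_10 (iv5 D119673) F166643 (iv5 F87145) (iv6 D55098) (iv1 F42663) D33816 F53152 F106774 (iv5 D70322) D70323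
def n119674 : Q := act 0 n55063
theorem D119674 : act 0 n55063 = n119674 := rfl
theorem F188784 : act 4 n119674 = n70109 := d20_2 D55063 D119674 (iv3 D70109) (iv1 D32529) (iv3 D15405) (iv4 F41776) (iv1 D6162) (iv4 F9351) (iv3 F21117) D26614
theorem F188785 : act 1 n55068 = n119674 := d15_0 (iv0 D119674) (iv7 F188711) F188710
def n119675 : Q := act 1 n55063
theorem D119675 : act 1 n55063 = n119675 := rfl
theorem F188786 : act 1 n119675 = n55068 := d15_1 D119675 (iv7 F188706) F188704
theorem F188787 : act 4 n69997 = n119675 := d20_6 (iv4 F110451) (iv1 F131637) (iv4 D54343) D54342 D117962 F187947 (iv1 D119675) (iv4 D55063) D55062 F166643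
def n119678 : Q := act 6 n55063
theorem D119678 : act 6 n55063 = n119678 := rfl
theorem F188789 : act 4 n119678 = n55065 := d10_1 D119678 (iv6 D55065) D55063
theorem F188790 : act 7 n73970 = n119678 := d11_0 F188789 F166634 D73970
def n119679 : Q := act 0 n55064
theorem D119679 : act 0 n55064 = n119679 := rfl
theorem F188791 : act 5 n119679 = n71995 := d21_2 D55064 D119679 (iv6 D71995) (iv1 D33257) (iv6 D16059) (iv5 F26863) (iv1 D6071) (iv5 F9348) D12720 D26614
theorem F188792 : act 1 n55069 = n119679 := d15_0 (iv0 D119679) (iv7 F188714) F188712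
theorem F188793 : act 2 n73530 = n119679 := d2_3 F188791 F130962 (iv5 F110193)
def n119680 : Q := act 1 n55064
theorem D119680 : act 1 n55064 = n119680 := rfl
theorem F188796 : act 5 n72054 = n119680 := d21_6 D73925 F131026 (iv5 D54580) D54581 F131025 (iv6 F131014) (iv1 D119680) (iv5 D55064) D55065 F166631
theorem F188797 : act 6 n70299 = n119680 := d21_9 (iv5 D55064) (iv1 F87060) (iv5 F188023) (iv6 D119370) (iv1 F86885) D85007 (iv5 F131022) (iv1 D85466) (iv5 F131017) (iv1 D119680)
theorem F188798 : act 3 n119680 = n55082 := d7_1 F188797 (iv6 F87110) (iv3 F131016)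
def n119682 : Q := act 6 n55064
theorem D119682 : act 6 n55064 = n119682 := rfl
def n119683 : Q := act 0 n55067
theorem D119683 : act 0 n55067 = n119683 := rfl
theorem F188799 : act 4 n119683 = n79807 := d20_0 (iv1 F188436) (iv4 D60211) (iv3 F188434) (iv1 F57046) D70109 (iv4 F188784) (iv1 F188785) (iv4 D55068) D55067 D119683
theorem F188800 : act 1 n79087 = n119683 := d15_0 (iv0 D119683) (iv7 F188702) F188700
theorem F188801 : act 3 n119683 = n73456 := d20_3 (iv4 F57099) D79807 (iv4 F188799) (iv1 D73456) (iv3 D33779) D33780 D73461 F122579 (iv3 D79839) (iv1 D36368)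
theorem F188802 : act 4 n70004 = n73456 := d20_2 D32497 (iv1 F106409) (iv3 F188801) (iv1 F188800) (iv3 D79087) (iv4 F184952) F184950 F184946 F85714 (iv1 F51551)
theorem F188803 : act 0 n70110 = n119326 := d20_1 D70110 (iv4 D119326) D119325 (iv1 F187888) (iv3 F188801) F188799 (iv1 F188436) (iv4 D60211) (iv3 F188434) (iv1 F57046)
theorem E18756 : n70109 = n69996 := ((c20_5 (iv4 F188802) (iv1 D70004) (iv4 D32492) D32491 D69996 (iv3 D70109) D70110 F188803 (iv4 D119326) D119325 (iv1 F187888))).symm
theorem F188804 : act 3 n69996 = n32529 := (sb E18756 (iv3 D70109))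
theorem F188805 : act 4 n69996 = n119674 := (sb E18756 (iv4 F188784))
theorem F188806 : act 1 n70110 = n119321 := d15_1 (iv0 F188803) (iv7 F187896) (iv2 F187898)
def n119684 : Q := act 1 n55067
theorem D119684 : act 1 n55067 = n119684 := rfl
def n119685 : Q := act 2 n55067
theorem D119685 : act 2 n55067 = n119685 := rfl
theorem F188807 : act 3 n119685 = n56004 := d0_2 D55067 D119685 F120324 (iv3 F184958) F184957
theorem F188808 : act 7 n119685 = n79087 := d4_2 F188702 D119685 (iv2 F188700)
theorem F188809 : act 1 n119684 = n79087 := d15_1 D119684 (iv7 F188808) (iv2 D119685)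
theorem F188810 : act 4 n119684 = n79808 := d20_0 (iv1 D79808) F57099 (iv3 D17558) F30466 (iv3 F20772) (iv4 F41716) D54332 F184952 D79087 (iv1 F188809)
theorem F188811 : act 3 n55075 = n119684 := d20_5 F9204 D6288 (iv4 F42637) D26619 D55075 F188810 (iv1 D79808) F57099 (iv3 D17558) F30466
theorem F188812 : act 4 n60206 = n119685 := d20_2 D79840 (iv1 F188477) F188807 (iv1 D56004) (iv3 F86852) F86853 F130345 F122414 F188434 F188425
theorem F188813 : act 0 n119685 = n73539 := d20_10 F110207 (iv1 D70083) (iv4 D32521) (iv3 D15400) (iv1 F20784) (iv3 F41720) (iv4 F85745) (iv1 F184937) (iv4 F184939) (iv3 F188807)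
theorem F188814 : act 1 n119646 = n73539 := d15_0 (iv0 F188813) F188808 (iv2 F188700)
def n119686 : Q := act 4 n55067
theorem D119686 : act 4 n55067 = n119686 := rfl
theorem F188815 : act 2 n119686 = n60206 := d1_1 D119686 F188812 (iv2 D119685)
theorem F188816 : act 7 n119686 = n60205 := d11_2 F188702 D119686 F188703
theorem F188817 : act 0 n60208 = n119686 := d20_1 (iv4 F94776) (iv4 D119686) (iv3 D55067) (iv1 D26615) F21117 F9351 D6161 (iv4 F41771) D15400 F188406
theorem F188818 : act 1 n60167 = n119686 := d15_0 (iv0 F188817) (iv7 D60208) (iv2 F94715)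
theorem F188819 : act 0 n60165 = n73437 := d20_10 (iv4 D73437) (iv1 F110104) F110102 (iv3 F87056) (iv1 F87059) D55067 D119686 (iv1 F188818) F94716 (iv3 F94712)
theorem F188820 : act 1 n60165 = n73442 := d15_1 (iv0 F188819) (iv7 F131087) (iv2 F131148)
def n119687 : Q := act 5 n55067
theorem D119687 : act 5 n55067 = n119687 := rfl
theorem F188821 : act 3 n119687 = n55069 := d6_1 D119687 (iv5 D55069) D55067
def n119688 : Q := act 6 n55067
theorem D119688 : act 6 n55067 = n119688 := rfl
theorem F188822 : act 3 n119688 = n55070 := d7_1 D119688 (iv6 D55070) D55067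
def n119689 : Q := act 3 n55068
theorem D119689 : act 3 n55068 = n119689 := rfl
def n119690 : Q := act 5 n55068
theorem D119690 : act 5 n55068 = n119690 := rfl
def n119691 : Q := act 6 n55068
theorem D119691 : act 6 n55068 = n119691 := rfl
theorem F188823 : act 4 n119691 = n55070 := d10_1 D119691 (iv6 D55070) D55068
def n119692 : Q := act 4 n55069
theorem D119692 : act 4 n55069 = n119692 := rfl
def n119693 : Q := act 6 n55069
theorem D119693 : act 6 n55069 = n119693 := rfl
theorem F188824 : act 2 n119693 = n117396 := d3_1 D119693 F188717 F188712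
theorem F188825 : act 0 n119693 = n117484 := d21_10 F184000 F130254 D68928 (iv6 F105099) (iv1 F130247) D119370 F188023 (iv1 F87059) D55069 D119693
theorem F188826 : act 0 n70292 = n119693 := d21_4 F43288 (iv1 F41578) (iv5 F51676) D70292 (iv6 D119693) (iv5 D55069) (iv1 D26615) D26616 F42630 D26858
theorem F188827 : act 7 n117482 = n119693 := d15_2 F188716 D117482 F188824
theorem F188828 : act 2 n117482 = n68938 := d4_3 (iv7 F183853) (iv2 F188824) (iv7 F188827)
def n119694 : Q := act 0 n55070
theorem D119694 : act 0 n55070 = n119694 := rfl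
theorem F188829 : act 6 n119694 = n73649 := d21_5 (iv5 F188791) (iv1 F188792) (iv5 D55069) D55070 D119694 (iv5 F131194) (iv1 D72049) (iv5 D33273) D33274 (iv1 F131027)
theorem F188830 : act 5 n119694 = n79044 := d21_0 (iv1 F120257) F104921 (iv6 F56666) (iv1 F56668) D71995 (iv5 F188791) (iv1 F188792) (iv5 D55069) D55070 D119694
theorem F188831 : act 0 n119694 = n73972 := d21_1 (iv5 F188830) F131189 (iv6 D69451) (iv1 F112123) (iv6 D54143) (iv5 F41597) (iv1 F26729) D17416 (iv6 F56689) D79044
def n119695 : Q := act 5 n55070
theorem D119695 : act 5 n55070 = n119695 := rfl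
theorem F188832 : act 2 n119695 = n75899 := d2_1 D119695 (iv5 F188722) F188719
theorem F188833 : act 0 n119695 = n55543 := d21_1 D119695 (iv5 D55543) D55544 F130882 F131020 F131018 F187709 (iv5 D118454) D118455 (iv1 F188724)
theorem F188834 : act 0 n71969 = n119695 := d21_1 D71969 (iv5 D119695) (iv6 D55070) (iv1 D26615) (iv6 D12720) F9348 D6070 F26854 D16054 D33249
theorem F188835 : act 7 n119695 = n75900 := d15_2 (iv0 F131071) (iv0 F188833) (iv2 F184519)
def n119696 : Q := act 7 n55070
theorem D119696 : act 7 n55070 = n119696 := rfl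
theorem F188837 : act 5 n119696 = n75900 := d13_1 D119696 (iv7 F188835) (iv5 D119695)
theorem F188838 : act 6 n119696 = n73923 := d14_1 D119696 F166637 (iv6 F184961) F184962 D55070
theorem F188839 : act 1 n71825 = n119696 := d15_1 (iv0 F188723) (iv7 D119696) (iv2 F188719)
def n119697 : Q := act 4 n55071
theorem D119697 : act 4 n55071 = n119697 := rfl
def n119698 : Q := act 6 n55071
theorem D119698 : act 6 n55071 = n119698 := rfl
theorem F188840 : act 2 n119698 = n68896 := d3_1 D119698 (iv6 F188725) (iv2 F188726)
theorem F188842 : act 5 n119698 = n68837 := d12_1 D119698 F131181 D73953 (iv6 F131185) (iv5 F131186)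
theorem F188843 : act 7 n68891 = n119698 := d13_0 F188842 F188603 D68891
def n119699 : Q := act 3 n55072
theorem D119699 : act 3 n55072 = n119699 := rfl
theorem F188844 : act 2 n119699 = n76747 := d0_1 D119699 (iv3 D76747) (iv2 F185067) (iv3 F185038) F185122
def n119700 : Q := act 4 n55072
theorem D119700 : act 4 n55072 = n119700 := rfl
def n119701 : Q := act 6 n55072
theorem D119701 : act 6 n55072 = n119701 := rfl
def n119702 : Q := act 0 n55073
theorem D119702 : act 0 n55073 = n119702 := rfl
def n119703 : Q := act 1 n55073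
theorem D119703 : act 1 n55073 = n119703 := rfl
def n119704 : Q := act 3 n55073
theorem D119704 : act 3 n55073 = n119704 := rfl
theorem F188845 : act 4 n119704 = n55095 := d5_2 D55073 D119704 (iv3 D55095) (iv4 D26627) (iv3 F42629)
theorem F188846 : act 6 n119704 = n55627 := d7_2 (iv6 F87085) D119704 (iv3 D55627)
def n119705 : Q := act 5 n55073
theorem D119705 : act 5 n55073 = n119705 := rfl
def n119706 : Q := act 7 n55073
theorem D119706 : act 7 n55073 = n119706 := rfl
theorem F188847 : act 4 n119706 = n55074 := d11_1 D119706 (iv7 D55074) D55073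
theorem F188848 : act 6 n119706 = n85012 := d14_1 D119706 (iv7 D85012) F87998 (iv7 D55628) (iv6 F87085)
def n119708 : Q := act 4 n55075
theorem D119708 : act 4 n55075 = n119708 := rfl
theorem F188850 : act 0 n119708 = n117965 := d20_1 D119708 (iv4 D117965) (iv3 D54342) (iv1 D26266) F20772 F9204 D6288 (iv4 F42637) D26619 D55075
def n119716 : Q := act 0 n55078
theorem D119716 : act 0 n55078 = n119716 := rfl
def n119717 : Q := act 1 n55078
theorem D119717 : act 1 n55078 = n119717 := rfl
theorem F188853 : act 1 n119717 = n73548 := d15_1 D119717 (iv7 F187943) F187942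
theorem F188854 : act 4 n70104 = n119717 := d20_6 F11830 (iv1 F9581) F41776 D15405 D32528 D70104 (iv1 D119717) (iv4 D55078) (iv3 D26619) (iv1 F21124)
def n119718 : Q := act 5 n55078
theorem D119718 : act 5 n55078 = n119718 := rfl
theorem F188856 : act 7 n119718 = n73553 := d13_2 (iv7 F87096) D119718 (iv5 D73553)
def n119719 : Q := act 6 n55078
theorem D119719 : act 6 n55078 = n119719 := rfl
theorem F188857 : act 3 n119719 = n57521 := d7_1 D119719 (iv6 D57521) (iv3 F120606)
theorem F188858 : act 4 n119719 = n55080 := d10_1 D119719 (iv6 D55080) D55078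
theorem F188859 : act 7 n119719 = n74012 := d14_2 (iv7 F87096) D119719 F131581 F131580 (iv6 D73554)
def n119720 : Q := act 0 n55079
theorem D119720 : act 0 n55079 = n119720 := rfl
theorem F188860 : act 1 n73549 = n119720 := d15_0 (iv0 D119720) F87098 (iv2 F110211)
def n119721 : Q := act 1 n55079
theorem D119721 : act 1 n55079 = n119721 := rfl
theorem F188861 : act 1 n119721 = n73549 := d15_1 D119721 (iv7 F187950) F187948
def n119722 : Q := act 4 n55079
theorem D119722 : act 4 n55079 = n119722 := rfl
theorem F188862 : act 7 n119722 = n73557 := d11_2 (iv7 F87098) D119722 (iv4 D73557)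
def n119723 : Q := act 6 n55079
theorem D119723 : act 6 n55079 = n119723 := rfl
theorem F188864 : act 5 n119723 = n71745 := d12_1 D119723 (iv6 D71745) F87101 (iv6 D55080) D55079
def n119724 : Q := act 0 n55080
theorem D119724 : act 0 n55080 = n119724 := rfl
theorem F188865 : act 1 n74011 = n119724 := d15_0 (iv0 D119724) F87100 D74011
def n119725 : Q := act 1 n55080
theorem D119725 : act 1 n55080 = n119725 := rfl
def n119726 : Q := act 3 n55081
theorem D119726 : act 3 n55081 = n119726 := rfl
theorem F188867 : act 5 n119726 = n55337 := d6_2 (iv5 F87102) D119726 F87575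
theorem F188868 : act 7 n119726 = n73533 := d8_2 F87105 D119726 (iv3 D73533)
def n119727 : Q := act 6 n55081
theorem D119727 : act 6 n55081 = n119727 := rfl
theorem F188870 : act 5 n119727 = n55339 := d12_1 D119727 (iv6 D55339) (iv5 D26741) D26742 (iv5 F87102)
theorem F188871 : act 7 n119727 = n70342 := d14_2 F87105 D119727 (iv6 D70342) F85849 F86552
def n119728 : Q := act 3 n55083
theorem D119728 : act 3 n55083 = n119728 := rfl
theorem F188873 : act 7 n119728 = n73562 := d8_2 (iv7 F87112) D119728 (iv3 D73562)
def n119729 : Q := act 6 n55083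
theorem D119729 : act 6 n55083 = n119729 := rfl
theorem F188874 : act 2 n119729 = n73536 := d3_1 D119729 (iv6 D73536) (iv2 F87111)
theorem F188875 : act 4 n119729 = n55084 := d10_1 D119729 (iv6 D55084) D55083
def n119730 : Q := act 7 n55084
theorem D119730 : act 7 n55084 = n119730 := rfl
theorem F188877 : act 5 n119730 = n71747 := d13_1 D119730 (iv7 D71747) (iv5 F87114)
theorem F188878 : act 6 n119730 = n70305 := d14_1 D119730 F106758 (iv6 D33810) F42651 D55084
theorem F188879 : act 1 n62720 = n119730 := d15_1 (iv0 F97836) (iv7 D119730) F87113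
theorem F188880 : act 1 n119730 = n62725 := d15_1 F188879 (iv7 F186151) F186158
def n119731 : Q := act 3 n55090
theorem D119731 : act 3 n55090 = n119731 := rfl
theorem F188881 : act 7 n119731 = n73535 := d8_2 (iv7 F87126) D119731 (iv3 D73535)
def n119732 : Q := act 0 n55092
theorem D119732 : act 0 n55092 = n119732 := rfl
theorem F188882 : act 1 n73573 = n119732 := d15_0 (iv0 D119732) F87129 D73573
def n119733 : Q := act 1 n55092
theorem D119733 : act 1 n55092 = n119733 := rfl
theorem F188883 : act 1 n119733 = n73573 := d15_1 D119733 (iv7 F187998) F187997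
def n119734 : Q := act 4 n55092
theorem D119734 : act 4 n55092 = n119734 := rfl
theorem F188884 : act 7 n119734 = n73574 := d11_2 (iv7 F87129) D119734 (iv4 D73574)
def n119735 : Q := act 1 n55095
theorem D119735 : act 1 n55095 = n119735 := rfl
def n119736 : Q := act 2 n55095
theorem D119736 : act 2 n55095 = n119736 := rfl
theorem F188886 : act 6 n119736 = n55637 := d3_2 (iv6 F87134) D119736 (iv2 D55637)
def n119737 : Q := act 5 n55095
theorem D119737 : act 5 n55095 = n119737 := rfl
theorem F188887 : act 3 n119737 = n55096 := d6_1 D119737 (iv5 D55096) D55095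
theorem F188888 : act 7 n79934 = n119737 := d8_0 F188887 (iv7 F87137) D79934
def n119739 : Q := act 6 n55096
theorem D119739 : act 6 n55096 = n119739 := rfl
theorem F188892 : act 4 n119739 = n79935 := d10_1 D119739 (iv6 D79935) (iv4 F87136)
theorem F188893 : act 5 n119739 = n55639 := d12_1 D119739 (iv6 D55639) (iv5 D26866) (iv6 F42659) D55096
def n119740 : Q := act 6 n55097
theorem D119740 : act 6 n55097 = n119740 := rfl
theorem F188895 : act 4 n119740 = n55098 := d10_1 D119740 (iv6 D55098) (iv4 F87139)
theorem F188896 : act 7 n119740 = n55640 := d14_2 D55097 D119740 (iv6 D55640) (iv7 D26867) (iv6 F42659)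
theorem F188897 : act 1 n76740 = n119740 := d15_1 D76740 F188896 F88028
def n119741 : Q := act 5 n55099
theorem D119741 : act 5 n55099 = n119741 := rfl
theorem F188899 : act 2 n119741 = n55643 := d2_1 D119741 (iv5 D55643) (iv2 F87149)
theorem F188900 : act 3 n119741 = n55100 := d6_1 D119741 (iv5 D55100) D55099
theorem F188901 : act 7 n119741 = n73397 := d13_2 (iv7 F87151) D119741 (iv5 D73397)
def n119742 : Q := act 6 n55099
theorem D119742 : act 6 n55099 = n119742 := rfl
theorem F188905 : act 3 n119742 = n55101 := d7_1 D119742 (iv6 D55101) D55099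
theorem F188906 : act 4 n119742 = n73594 := d10_1 D119742 (iv6 D73594) (iv4 F87150)
def n119743 : Q := act 6 n55100
theorem D119743 : act 6 n55100 = n119743 := rfl
theorem F188907 : act 2 n119743 = n55108 := d3_1 D119743 (iv6 D55108) (iv2 F87154)
theorem F188908 : act 4 n119743 = n76407 := d10_1 D119743 (iv6 D76407) (iv4 F87156)
def n119744 : Q := act 1 n55101
theorem D119744 : act 1 n55101 = n119744 := rfl
theorem F188909 : act 1 n119744 = n55112 := d15_1 D119744 (iv7 D55112) (iv2 F87159)
theorem F188910 : act 7 n119744 = n55109 := d15_2 (iv0 F106916) D119744 (iv2 F106917)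
theorem F188911 : act 2 n55110 = n119744 := d4_3 F188910 (iv2 F106917) F106914
theorem F188912 : act 4 n118125 = n119744 := d11_3 F188910 F106918 (iv7 F185591)
theorem E18757 : n70473 = n70449 := (c18_10 (iv1 F185592) F188912 (iv1 D119744) F87160 F42674 (iv4 F60244) F119497 F119494 F56379 D70473)
theorem E18758 : n79754 = n32701 := (((iv5 F185594)).symm.trans (sb E18757 (iv5 D70473)))
theorem F188913 : act 5 n32701 = n70449 := (sb E18758 F185594)
theorem E18759 : n70474 = n36320 := ((D70474).symm.trans (sb E18758 (iv6 D79754)))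
theorem F188914 : act 6 n36320 = n32701 := (sb E18759 (iv6 D70474))
theorem E18760 : n118119 = n78329 := (c20_5 (iv4 F87178) (iv1 F188909) (iv4 F188912) F185589 (iv1 F185577) (iv3 D78329) D78330 F187240 (iv4 D84888) (iv3 F187226) (iv1 F87166))
theorem F188915 : act 0 n78329 = n54413 := (sb E18760 (iv1 D118119))
theorem F188916 : act 1 n78329 = n70463 := (sb E18760 F185577)
theorem F188917 : act 0 n84893 = n78330 := d20_1 D84893 (iv4 D78330) D78329 F188915 (iv3 D54413) (iv4 F53219) (iv1 F87235) F87232 (iv3 F87185) (iv1 F87188)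
theorem F188919 : act 6 n70471 = n79751 := d7_2 F188914 D70471 (iv3 D79751)
theorem F188920 : act 6 n70472 = n79752 := d10_2 F188914 D70472 (iv4 D79752)
theorem F188922 : act 5 n70826 = n118296 := d21_6 F188913 (iv1 F185592) F185590 (iv6 D81019) (iv1 F57928) D70826 (iv1 D118296) F86028 (iv6 D32706) D32701
def n119745 : Q := act 5 n55101
theorem D119745 : act 5 n55101 = n119745 := rfl
def n119746 : Q := act 7 n55101
theorem D119746 : act 7 n55101 = n119746 := rfl
theorem F188925 : act 4 n119746 = n55104 := d11_1 D119746 (iv7 D55104) (iv4 F87160)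
theorem F188927 : act 1 n55110 = n119746 := d15_1 D55110 (iv7 D119746) F87159
theorem F188928 : act 1 n119746 = n55109 := d15_1 F188927 (iv7 F188910) (iv2 F188911)
theorem E18761 : n78331 = n78238 := ((c18_9 (iv1 F56376) D70480 (iv1 F119493) (iv4 F119491) (iv5 F87164) (iv4 F188925) F188928 F106918 F119500 (iv5 D78331))).symm
theorem F188929 : act 5 n78238 = n35703 := (sb E18761 (iv5 D78331))
theorem F188930 : act 0 n73652 = n78239 := d20_7 (iv4 F106918) (iv1 F188928) F188925 F87163 (iv1 F53178) D33845 D73652 (iv4 D78239) D78238 (iv1 F119500)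
theorem E18762 : n78329 = n78240 := (c6_2 F188929 D78329 (iv5 D78240) D78238)
theorem F188931 : act 0 n78240 = n54413 := (sb E18762 F188915)
theorem F188932 : act 1 n78240 = n70463 := (sb E18762 F188916)
theorem F188933 : act 3 n78240 = n35703 := (sb E18762 (iv3 D78329))
theorem F188934 : act 4 n78240 = n73676 := (sb E18762 F119544)
theorem E18763 : n73665 = n73651 := (c18_10 (iv1 D73651) D73652 F188930 (iv4 D78239) D78240 F188934 (iv0 F188102) (iv4 D119394) F86908 D73665)
theorem F188935 : act 5 n73651 = n33849 := (sb E18763 (iv5 D73665))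
theorem F188936 : act 5 n71716 = n118951 := d21_6 (iv5 F188935) (iv1 D73651) D73653 (iv6 F110357) (iv1 F86294) D71716 (iv1 D118951) F86575 (iv6 D33854) D33849
def n119747 : Q := act 4 n55102
theorem D119747 : act 4 n55102 = n119747 := rfl
theorem F188937 : act 2 n119747 = n55115 := d1_1 D119747 (iv4 D55115) (iv2 F187217)
theorem F188938 : act 7 n119747 = n55120 := d11_2 (iv7 F187218) D119747 (iv4 D55120)
def n119748 : Q := act 5 n55102
theorem D119748 : act 5 n55102 = n119748 := rfl
theorem F188939 : act 2 n119748 = n55116 := d2_1 D119748 (iv5 D55116) (iv2 F187217)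
theorem F188940 : act 3 n119748 = n84889 := d6_1 D119748 (iv5 D84889) (iv3 F187226)
theorem F188941 : act 7 n119748 = n55121 := d13_2 (iv7 F187218) D119748 (iv5 D55121)
def n119749 : Q := act 4 n55103
theorem D119749 : act 4 n55103 = n119749 := rfl
theorem F188942 : act 2 n119749 = n55120 := d1_1 D119749 (iv4 D55120) (iv2 F187215)
theorem F188943 : act 7 n119749 = n55115 := d11_2 (iv7 F187216) D119749 (iv4 D55115)
def n119750 : Q := act 5 n55103
theorem D119750 : act 5 n55103 = n119750 := rfl
theorem F188944 : act 2 n119750 = n55121 := d2_1 D119750 (iv5 D55121) (iv2 F187215)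
theorem F188945 : act 7 n119750 = n55116 := d13_2 (iv7 F187216) D119750 (iv5 D55116)
theorem F188946 : act 6 n119750 = n119018 := d21_9 (iv5 F187293) (iv1 F187893) F187894 (iv6 D119323) (iv1 F187876) F187874 F87186 (iv1 F87161) D119750 (iv1 F187180)
def n119751 : Q := act 6 n55103
theorem D119751 : act 6 n55103 = n119751 := rfl
theorem F188947 : act 2 n119751 = n55122 := d3_1 D119751 (iv6 D55122) (iv2 F187215)
def n119752 : Q := act 1 n55105
theorem D119752 : act 1 n55105 = n119752 := rfl
theorem F188948 : act 1 n119752 = n57471 := d15_1 D119752 (iv7 F162660) F162658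
theorem F188950 : act 5 n119752 = n86482 := d17_7 F127925 F127922 (iv1 F125576) (iv5 F123221) F123332 F123334 D119752 F132648 (iv4 F108251)
theorem F188951 : act 3 n98137 = n119752 := d19_19 (iv1 D119752) (iv5 F123334) (iv4 F123332) (iv3 D80211) (iv1 F57387) (iv5 D18346) D18345 (iv3 F31191) F31194 (iv5 F31279) F31278 (iv3 D9202) D9200 (iv5 F17206) (iv4 F29328) (iv3 F58741) F122965 (iv5 F122978) D98137
def n119753 : Q := act 6 n55105
theorem D119753 : act 6 n55105 = n119753 := rfl
theorem F188953 : act 3 n119753 = n55106 := d7_1 D119753 (iv6 D55106) D55105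
theorem F188954 : act 4 n119753 = n57475 := d10_1 D119753 (iv6 D57475) (iv4 F87169)
theorem F188955 : act 7 n73774 = n119753 := d8_0 F188953 (iv7 F109943) D73774
def n119755 : Q := act 0 n55107
theorem D119755 : act 0 n55107 = n119755 := rfl
def n119756 : Q := act 1 n55107
theorem D119756 : act 1 n55107 = n119756 := rfl
theorem F188959 : act 4 n71827 = n119756 := d20_6 D117929 F186208 F106903 (iv3 F86202) (iv1 F86205) D71827 (iv1 D119756) F87173 F85720 D54322
def n119757 : Q := act 5 n55107
theorem D119757 : act 5 n55107 = n119757 := rfl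
theorem F188960 : act 2 n119757 = n73421 := d2_1 D119757 (iv5 D73421) (iv2 F87172)
def n119758 : Q := act 7 n55107
theorem D119758 : act 7 n55107 = n119758 := rfl
theorem F188961 : act 2 n119758 = n73422 := d4_1 D119758 (iv7 D73422) (iv2 F87172)
theorem F188962 : act 4 n119758 = n117926 := d11_1 D119758 (iv7 D117926) (iv4 F87173)
theorem F188966 : act 1 n119758 = n73419 := d15_0 (iv0 D73419) D73422 (iv2 F188961)
theorem F188967 : act 4 n118452 = n73419 := d20_6 D70423 F185926 F51764 (iv3 F42106) D54547 D118452 (iv1 F188966) F188962 F184975 (iv1 F85727)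
def n119759 : Q := act 0 n55108
theorem D119759 : act 0 n55108 = n119759 := rfl
def n119760 : Q := act 1 n55108
theorem D119760 : act 1 n55108 = n119760 := rfl
def n119761 : Q := act 5 n55108
theorem D119761 : act 5 n55108 = n119761 := rfl
def n119762 : Q := act 7 n55108
theorem D119762 : act 7 n55108 = n119762 := rfl
def n119763 : Q := act 3 n55109
theorem D119763 : act 3 n55109 = n119763 := rfl
def n119764 : Q := act 5 n55109
theorem D119764 : act 5 n55109 = n119764 := rfl
def n119765 : Q := act 6 n55109
theorem D119765 : act 6 n55109 = n119765 := rfl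
def n119766 : Q := act 3 n55110
theorem D119766 : act 3 n55110 = n119766 := rfl
theorem F188972 : act 4 n119766 = n73718 := d5_2 F87175 D119766 (iv3 D73718) F53223 D54415
def n119767 : Q := act 5 n55110
theorem D119767 : act 5 n55110 = n119767 := rfl
def n119768 : Q := act 6 n55110
theorem D119768 : act 6 n55110 = n119768 := rfl
theorem F188973 : act 4 n119768 = n118126 := d10_1 D119768 (iv6 D118126) F87175
theorem F188974 : act 0 n119768 = n73789 := d20_7 F42733 F29726 (iv4 F43122) (iv3 F46223) (iv1 F110505) (iv3 F185596) (iv4 F188973) F110605 F53250 F53044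
def n119773 : Q := act 0 n55114
theorem D119773 : act 0 n55114 = n119773 := rfl
theorem F188978 : act 1 n84892 = n119773 := d15_0 (iv0 D119773) (iv7 F187214) F187227
def n119774 : Q := act 1 n55114
theorem D119774 : act 1 n55114 = n119774 := rfl
theorem F188979 : act 1 n119774 = n84892 := d15_1 D119774 F187209 F187225
theorem F188980 : act 3 n73650 = n119774 := d20_9 (iv4 F185501) F185502 F85895 F41930 (iv1 F20848) D15597 D32714 D70517 (iv4 F119547) (iv1 D119774)
theorem F188981 : act 4 n118105 = n119774 := d20_2 D54411 (iv1 F185554) (iv3 F188980) (iv1 F110351) (iv3 D33868) (iv4 F53215) (iv1 F85934) F85931 (iv3 F85869) (iv1 F85873)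
theorem F188982 : act 0 n78335 = n84893 := d20_1 D78335 (iv4 D84893) D84892 (iv1 F188979) (iv3 F188980) F119547 (iv1 F119401) F119399 F56323 (iv1 F56380)
theorem E18764 : n118100 = n78334 := (c20_5 (iv4 F188981) (iv1 D118105) (iv4 D54406) D54405 D118100 (iv3 D78334) D78335 F188982 (iv4 D84893) D84892 (iv1 F188979))
theorem F188983 : act 1 n78334 = n54405 := (sb E18764 (iv0 D118100))
def n119775 : Q := act 5 n55114
theorem D119775 : act 5 n55114 = n119775 := rfl
theorem F188984 : act 3 n119775 = n55116 := d6_1 D119775 (iv5 D55116) D55114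
def n119776 : Q := act 6 n55114
theorem D119776 : act 6 n55114 = n119776 := rfl
theorem F188985 : act 3 n119776 = n55117 := d7_1 D119776 (iv6 D55117) D55114
def n119777 : Q := act 0 n55115
theorem D119777 : act 0 n55115 = n119777 := rfl
theorem F188986 : act 4 n119777 = n70510 := d20_2 D55115 D119777 (iv3 D70510) (iv1 D32712) (iv3 D15597) (iv4 F41950) (iv1 D6111) (iv4 F9355) (iv3 F21136) D26635
theorem F188987 : act 1 n55120 = n119777 := d15_0 (iv0 D119777) (iv7 F188943) F188942
theorem E18765 : n70510 = n70449 := ((c20_11 (iv4 F188986) (iv1 F188987) (iv4 D55120) D55119 F187228 F42687 D26646 F53204 (iv4 D32695) D32694 D70449)).symm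
theorem F188988 : act 3 n70449 = n32712 := (sb E18765 (iv3 D70510))
theorem F188989 : act 4 n70449 = n119777 := (sb E18765 (iv4 F188986))
theorem E18766 : n70512 = n70471 := (c6_3 F188913 F188988 D70512 (iv3 D70471))
theorem F188990 : act 5 n70471 = n32712 := (sb E18766 (iv5 D70512))
def n119778 : Q := act 1 n55115
theorem D119778 : act 1 n55115 = n119778 := rfl
theorem F188991 : act 1 n119778 = n55120 := d15_1 D119778 (iv7 F188938) F188937
theorem F188992 : act 4 n119778 = n70450 := d20_2 D55120 (iv1 F188991) (iv3 F188061) (iv1 F188054) (iv3 F188053) (iv4 D73627) (iv1 F110276) F110274 (iv3 F87163) (iv1 F87167)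
theorem F188993 : act 4 n119773 = n118104 := d20_0 (iv1 F185553) (iv4 D54411) D54410 D118111 F188061 (iv4 F188992) (iv1 D119778) (iv4 D55115) D55114 D119773
theorem F188994 : act 3 n55131 = n119773 := d20_5 (iv4 F188060) (iv1 F110389) (iv4 D39289) F53236 (iv1 F87204) F188993 (iv1 F185553) (iv4 D54411) D54410 D118111
def n119779 : Q := act 3 n55115
theorem D119779 : act 3 n55115 = n119779 := rfl
def n119780 : Q := act 5 n55115
theorem D119780 : act 5 n55115 = n119780 := rfl
def n119781 : Q := act 6 n55115
theorem D119781 : act 6 n55115 = n119781 := rfl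
theorem F188995 : act 4 n119781 = n55117 := d10_1 D119781 (iv6 D55117) D55115
def n119782 : Q := act 0 n55116
theorem D119782 : act 0 n55116 = n119782 := rfl
theorem F188996 : act 5 n119782 = n71534 := d21_2 D55116 D119782 (iv6 D71534) (iv1 D33087) (iv6 D15960) (iv5 F35189) (iv1 D6129) (iv5 F9352) D12729 D26635
theorem F188997 : act 1 n55121 = n119782 := d15_0 (iv0 D119782) (iv7 F188945) F188944
def n119783 : Q := act 1 n55116
theorem D119783 : act 1 n55116 = n119783 := rfl
theorem F188998 : act 1 n119783 = n55121 := d15_1 D119783 (iv7 F188941) F188939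
def n119784 : Q := act 4 n55116
theorem D119784 : act 4 n55116 = n119784 := rfl
def n119785 : Q := act 6 n55116
theorem D119785 : act 6 n55116 = n119785 := rfl
theorem F188999 : act 7 n119785 = n119036 := d14_2 F188945 D119785 (iv6 D119036) F187238 (iv6 F188946)
def n119786 : Q := act 0 n55117
theorem D119786 : act 0 n55117 = n119786 := rfl
def n119787 : Q := act 1 n55117
theorem D119787 : act 1 n55117 = n119787 := rfl
theorem F189000 : act 6 n73487 = n119787 := d21_3 D33088 D71535 (iv5 F114896) (iv1 D119787) (iv6 D55117) D55116 D119782 F188996 (iv6 D71534) (iv1 D33087)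
def n119788 : Q := act 4 n55119
theorem D119788 : act 4 n55119 = n119788 := rfl
theorem F189001 : act 2 n119788 = n84893 := d1_1 D119788 (iv4 D84893) (iv2 F187230)
theorem F189002 : act 7 n119788 = n84888 := d11_2 (iv7 F187232) D119788 (iv4 D84888)
theorem F189003 : act 0 n119788 = n70477 := d18_2 (iv1 F187229) D119788 (iv4 D70477) (iv5 F106937) (iv4 F188992) F188991 (iv4 D55120) F87167 F87164
theorem F189004 : act 0 n70472 = n119788 := d20_1 D70472 (iv4 D119788) (iv3 D55119) (iv1 D26636) F21136 F9355 D6110 (iv4 F41941) D15592 D32701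
theorem E18767 : n70471 = n70462 := ((c20_5 (iv4 F42685) D55109 F106918 (iv3 F185574) (iv1 F185578) (iv3 D70471) D70472 F189004 (iv4 D119788) (iv3 D55119) (iv1 D26636))).symm
theorem F189005 : act 3 n70462 = n32701 := (sb E18767 (iv3 D70471))
theorem F189006 : act 5 n70462 = n32712 := (sb E18767 F188990)
theorem F189007 : act 6 n70462 = n79751 := (sb E18767 F188919)
theorem F189008 : act 5 n70787 = n118288 := d21_6 (iv5 F189006) (iv1 D70462) F51957 (iv6 D32815) D32810 D70787 (iv1 F185834) F119428 (iv6 D78243) (iv1 F56327)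
theorem F189009 : act 1 n78335 = n84888 := d15_1 (iv0 F188982) (iv7 F189002) F189001
def n119789 : Q := act 6 n55119
theorem D119789 : act 6 n55119 = n119789 := rfl
theorem F189010 : act 2 n119789 = n84894 := d3_1 D119789 (iv6 D84894) (iv2 F187230)
theorem F189011 : act 3 n119789 = n55122 := d7_1 D119789 (iv6 D55122) D55119
def n119791 : Q := act 5 n55120
theorem D119791 : act 5 n55120 = n119791 := rfl
def n119792 : Q := act 6 n55120
theorem D119792 : act 6 n55120 = n119792 := rfl
theorem F189012 : act 4 n119792 = n55122 := d10_1 D119792 (iv6 D55122) D55120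
def n119793 : Q := act 4 n55121
theorem D119793 : act 4 n55121 = n119793 := rfl
theorem F189013 : act 6 n119793 = n119031 := d10_2 F87182 D119793 (iv4 D119031)
def n119794 : Q := act 0 n55122
theorem D119794 : act 0 n55122 = n119794 := rfl
theorem F189014 : act 5 n119794 = n76622 := d21_0 (iv1 F114903) F108030 (iv6 F55441) (iv1 F55443) D71534 (iv5 F188996) (iv1 F188997) (iv5 D55121) D55122 D119794
theorem F189015 : act 6 n119794 = n73473 := d21_3 D35013 D76622 (iv5 F189014) (iv1 D73473) (iv6 D33782) D33781 D73467 F114895 (iv6 D76621) (iv1 D35012)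
def n119796 : Q := act 5 n55122
theorem D119796 : act 5 n55122 = n119796 := rfl
theorem F189016 : act 6 n119796 = n119032 := d12_2 D55122 D119796 (iv5 D119032) F87182 (iv5 D55121)
theorem F189017 : act 0 n71500 = n119796 := d21_1 D71500 (iv5 D119796) (iv6 D55122) (iv1 D26636) (iv6 D12729) F9352 D6128 F35185 D15955 D33077
theorem F189018 : act 0 n119796 = n71505 := d21_10 (iv5 D71505) (iv1 D33078) D33079 F52304 F43608 (iv6 F86662) (iv5 D54778) D54776 D119032 (iv6 F189016)
theorem F189019 : act 0 n71506 = n73494 := d21_10 (iv5 D73494) (iv1 F110115) F110112 (iv6 F87165) (iv1 F87167) D55122 D119796 F189018 (iv5 D71505) D71506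
def n119797 : Q := act 7 n55122
theorem D119797 : act 7 n55122 = n119797 := rfl
def n119798 : Q := act 4 n55123
theorem D119798 : act 4 n55123 = n119798 := rfl
theorem F189020 : act 2 n119798 = n84888 := d1_1 D119798 (iv4 D84888) (iv2 F187206)
theorem F189023 : act 1 n119798 = n70477 := d15_0 (iv0 F189003) F189002 (iv2 F189020)
def n119799 : Q := act 6 n55123
theorem D119799 : act 6 n55123 = n119799 := rfl
theorem F189024 : act 2 n119799 = n84890 := d3_1 D119799 (iv6 D84890) (iv2 F187206)
def n119800 : Q := act 6 n55126
theorem D119800 : act 6 n55126 = n119800 := rfl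
theorem F189025 : act 2 n119800 = n73687 := d3_1 D119800 (iv6 D73687) F87192
theorem F189026 : act 3 n119800 = n117520 := d7_1 D119800 F184107 F130926
theorem F189027 : act 5 n119800 = n55546 := d12_1 D119800 (iv6 D55546) (iv5 D26810) D26811 (iv5 F87190)
theorem F189028 : act 7 n119800 = n70579 := d14_2 F87193 D119800 (iv6 D70579) F130856 F130851
def n119801 : Q := act 3 n55127
theorem D119801 : act 3 n55127 = n119801 := rfl
theorem F189030 : act 5 n119801 = n69569 := d6_2 (iv5 F87196) D119801 F105843
theorem F189031 : act 6 n119801 = n69572 := d7_2 F87198 D119801 F105845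
theorem F189032 : act 7 n119801 = n73685 := d8_2 (iv7 F87195) D119801 (iv3 D73685)
def n119802 : Q := act 3 n55128
theorem D119802 : act 3 n55128 = n119802 := rfl
theorem F189033 : act 7 n119802 = n73704 := d8_2 (iv7 F87200) D119802 (iv3 D73704)
def n119803 : Q := act 6 n55128
theorem D119803 : act 6 n55128 = n119803 := rfl
theorem F189034 : act 2 n119803 = n73691 := d3_1 D119803 (iv6 D73691) (iv2 F87199)
theorem F189035 : act 4 n119803 = n55129 := d10_1 D119803 (iv6 D55129) D55128
theorem F189036 : act 7 n119803 = n96772 := d14_2 (iv7 F87200) D119803 (iv6 D96772) F110402 (iv6 D73705)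
def n119804 : Q := act 7 n55129
theorem D119804 : act 7 n55129 = n119804 := rfl
theorem F189039 : act 4 n119804 = n96772 := d11_1 D119804 (iv7 F189036) F189035
theorem F189040 : act 5 n119804 = n72199 := d13_1 D119804 (iv7 D72199) (iv5 F87202)
theorem F189041 : act 6 n119804 = n70544 := d14_1 D119804 F107008 (iv6 D33866) (iv7 F42693) D55129
theorem F189042 : act 1 n73692 = n119804 := d15_1 D73692 (iv7 D119804) F87201
theorem F189043 : act 1 n119804 = n70558 := d15_1 F189042 (iv7 F186174) F186176
theorem F189044 : act 1 n76011 = n96772 := d18_6 (iv1 D54534) (iv4 F86158) F185918 (iv4 D118326) F109874 (iv4 F113891) (iv4 F189039) F189043 F107021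
theorem F189045 : act 1 n73691 = n76011 := d15_0 F189044 (iv7 F189036) F189034
def n119806 : Q := act 3 n55130
theorem D119806 : act 3 n55130 = n119806 := rfl
theorem F189047 : act 4 n119806 = n78194 := d20_6 F11664 (iv1 F9772) (iv4 F30358) D26641 D55130 D119806 (iv1 D78194) F56317 (iv3 D17283) (iv1 F41758)
theorem F189048 : act 0 n55139 = n119806 := d20_10 F189047 (iv1 D78194) F56317 (iv3 D17283) (iv1 F41758) (iv3 F25108) (iv4 F51768) (iv1 F85921) F85923 D55139
theorem F189049 : act 1 n73600 = n119806 := d15_0 (iv0 F189048) F87224 (iv2 F110277)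
def n119807 : Q := act 4 n55130
theorem D119807 : act 4 n55130 = n119807 := rfl
theorem F189050 : act 0 n119807 = n118121 := d20_1 D119807 (iv4 D118121) (iv3 D54413) (iv1 F41939) F25108 F11664 (iv1 F9772) (iv4 F30358) D26641 D55130
def n119812 : Q := act 5 n55131
theorem D119812 : act 5 n55131 = n119812 := rfl
def n119814 : Q := act 0 n55132
theorem D119814 : act 0 n55132 = n119814 := rfl
theorem F189054 : act 1 n73672 = n119814 := d15_0 (iv0 D119814) F87206 (iv2 F110367)
theorem F189055 : act 4 n70461 = n119814 := d20_0 (iv1 F189054) (iv4 D73672) (iv3 F53236) (iv1 F42567) F42562 (iv4 F53229) (iv1 F53230) (iv4 D32699) D32698 D70461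
theorem F189056 : act 3 n70461 = n118101 := d20_3 D55132 D119814 (iv4 F189055) (iv1 D118101) (iv3 D54405) D54406 D118104 (iv4 F188993) (iv3 F188994) (iv1 D55131)
theorem F189057 : act 4 n118101 = n73640 := d20_6 (iv4 F53229) (iv1 F53230) (iv4 D32699) D32698 D70461 F189056 (iv1 D73640) (iv4 D33841) (iv3 F85911) (iv1 F42708)
theorem F189058 : act 5 n70505 = n118101 := d18_4 (iv1 F42560) D54945 (iv1 F188084) (iv4 F188085) F189057 F110333 (iv4 D33846) F53178 F53176
theorem E18768 : n70507 = n70461 := ((c6_2 F189058 (iv3 F189056) (iv5 D70507) D70505)).symm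
theorem F189059 : act 5 n70461 = n32711 := (sb E18768 (iv5 D70507))
theorem F189060 : act 1 n84914 = n70505 := d18_8 (iv1 D118101) (iv4 F110269) F110270 F53194 (iv5 F42563) (iv4 F86894) F86898 D84914 F189058
theorem F189061 : act 1 n70505 = n84919 := d15_1 F189060 (iv7 F188051) F188050
def n119815 : Q := act 1 n55132
theorem D119815 : act 1 n55132 = n119815 := rfl
theorem F189062 : act 1 n119815 = n73672 := d15_1 D119815 (iv7 F188101) F188100
theorem F189063 : act 4 n70462 = n119815 := d20_0 (iv1 D119815) (iv4 D55132) (iv3 D26641) (iv1 D12731) (iv3 F21136) (iv4 F42685) D55109 F106918 (iv3 F185574) (iv1 F185578)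
theorem F189064 : act 6 n119815 = n73552 := d10_2 (iv6 F189007) F189063 (iv4 F122436)
def n119816 : Q := act 5 n55132
theorem D119816 : act 5 n55132 = n119816 := rfl
theorem F189065 : act 3 n119816 = n57420 := d6_1 D119816 (iv5 D57420) (iv3 F121100)
theorem F189066 : act 7 n119816 = n73677 := d13_2 (iv7 F87206) D119816 (iv5 D73677)
def n119817 : Q := act 6 n55132
theorem D119817 : act 6 n55132 = n119817 := rfl
theorem F189067 : act 3 n119817 = n57421 := d7_1 D119817 (iv6 D57421) (iv3 F121100)
theorem F189068 : act 4 n119817 = n55134 := d10_1 D119817 (iv6 D55134) D55132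
theorem F189069 : act 7 n119817 = n73878 := d14_2 (iv7 F87206) D119817 F125746 F125745 (iv6 D73678)
def n119818 : Q := act 0 n55133
theorem D119818 : act 0 n55133 = n119818 := rfl
theorem F189070 : act 1 n73673 = n119818 := d15_0 (iv0 D119818) F87208 (iv2 F110368)
def n119819 : Q := act 1 n55133
theorem D119819 : act 1 n55133 = n119819 := rfl
theorem F189071 : act 1 n119819 = n73673 := d15_1 D119819 (iv7 F188107) F188105
def n119820 : Q := act 4 n55133
theorem D119820 : act 4 n55133 = n119820 := rfl
theorem F189072 : act 7 n119820 = n73681 := d11_2 (iv7 F87208) D119820 (iv4 D73681)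
def n119821 : Q := act 6 n55133
theorem D119821 : act 6 n55133 = n119821 := rfl
theorem F189073 : act 2 n119821 = n118472 := d3_1 D119821 F188109 F188105
theorem F189074 : act 3 n119821 = n55136 := d7_1 D119821 (iv6 D55136) (iv3 F87207)
theorem F189075 : act 7 n118512 = n119821 := d8_0 F189074 (iv7 F112451) (iv3 F186421)
theorem F189076 : act 0 n119821 = n118576 := d20_4 (iv4 F33980) D45223 F110405 (iv3 F189074) (iv3 D118576) D118577 F186489 (iv4 D118157) (iv3 D54432) (iv1 D26325)
theorem E18769 : n118576 = n118511 := ((c15_1 D118511 (iv0 F189076) (iv7 F189075) (iv2 D118512))).symm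
theorem F189078 : act 3 n118511 = n54602 := (sb E18769 (iv3 D118576))
theorem F189081 : act 1 n119821 = n118510 := d15_0 (iv0 D118510) (iv7 F186315) (iv2 F189073)
theorem F189082 : act 4 n70695 = n71585 := d20_2 D32784 (iv1 F107155) (iv3 F186420) (iv1 F189081) F189074 (iv4 F110405) (iv1 F149241) F149238 F85962 (iv1 F51844)
theorem E18770 : n70823 = n70687 := ((c20_5 (iv4 F189082) (iv1 D70695) (iv4 D32779) D32778 D70687 (iv3 D70823) D70824 F187281 (iv4 D119034) D119033 (iv1 F187277))).symm
theorem F189083 : act 3 n70687 = n32824 := (sb E18770 (iv3 D70823))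
theorem F189084 : act 4 n70687 = n118505 := (sb E18770 (iv4 F186416))
def n119822 : Q := act 0 n55134
theorem D119822 : act 0 n55134 = n119822 := rfl
theorem F189085 : act 1 n73877 = n119822 := d15_0 (iv0 D119822) F87210 D73877
def n119823 : Q := act 1 n55134
theorem D119823 : act 1 n55134 = n119823 := rfl
theorem F189086 : act 1 n119823 = n73877 := d15_1 D119823 (iv7 F188113) F188111
def n119824 : Q := act 5 n55134
theorem D119824 : act 5 n55134 = n119824 := rfl
theorem F189087 : act 3 n119824 = n55137 := d6_1 D119824 (iv5 D55137) (iv3 F87209)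
theorem F189088 : act 7 n119824 = n73879 := d13_2 (iv7 F87210) D119824 (iv5 D73879)
def n119826 : Q := act 5 n55136
theorem D119826 : act 5 n55136 = n119826 := rfl
theorem F189091 : act 2 n119826 = n73706 := d2_1 D119826 (iv5 D73706) (iv2 F87213)
theorem F189092 : act 6 n119826 = n55137 := d12_2 D55136 D119826 (iv5 D55137) (iv6 D26643) D26642
theorem F189093 : act 7 n119826 = n74864 := d13_2 F112451 D119826 F112452
def n119827 : Q := act 4 n55137
theorem D119827 : act 4 n55137 = n119827 := rfl
theorem F189096 : act 0 n119827 = n70753 := d18_2 (iv1 F87218) D119827 (iv4 D70753) (iv5 D32796) F43178 F12760 F12758 F21233 D26737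
theorem F189097 : act 1 n119827 = n70745 := d18_6 (iv1 D28683) F43122 (iv1 F29879) (iv4 F42698) D55137 D119827 (iv4 D70745) (iv0 F94911) (iv5 D60394)
def n119828 : Q := act 0 n55138
theorem D119828 : act 0 n55138 = n119828 := rfl
theorem F189098 : act 6 n119828 = n56001 := d21_5 F53201 F52379 F52378 D55138 D119828 F187061 (iv1 D118956) F86578 (iv6 D33858) D33855
theorem F189099 : act 0 n119828 = n73713 := d21_10 F110417 (iv1 F87395) (iv5 F106998) (iv6 F112457) (iv1 F112458) (iv6 F189041) F189040 (iv1 F187060) (iv5 F187061) (iv6 F189098)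
def n119829 : Q := act 1 n55138
theorem D119829 : act 1 n55138 = n119829 := rfl
theorem F189100 : act 1 n119829 = n73713 := d15_1 D119829 (iv7 D73713) (iv2 F87219)
theorem F189101 : act 5 n117915 = n119829 := d21_0 (iv1 D119829) F87221 (iv6 F60350) (iv1 D18680) D18682 D39425 F112649 (iv5 D74101) D74102 F184929
theorem F189102 : act 6 n67876 = n119829 := d21_3 F41975 D31542 D67876 (iv1 D119829) (iv6 D55138) (iv5 F52378) F85660 F85659 (iv6 F130851) (iv1 F130852)
def n119830 : Q := act 7 n55138
theorem D119830 : act 7 n55138 = n119830 := rfl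
theorem F189103 : act 2 n119830 = n73713 := d4_1 D119830 (iv7 D73713) (iv2 F87219)
theorem F189104 : act 3 n119830 = n72076 := d8_1 D119830 F108538 (iv3 F87220)
theorem F189105 : act 5 n119830 = n55226 := d13_1 D119830 F87392 (iv5 F87221)
theorem F189106 : act 6 n119830 = n73714 := d14_1 D119830 (iv7 D73714) (iv6 D33872) (iv7 F42710) D55138
theorem F189107 : act 1 n73712 = n119830 := d15_1 D73712 (iv7 D119830) F87219
theorem F189108 : act 0 n76749 = n118144 := d21_4 (iv5 F110416) F187565 (iv5 D119196) (iv6 F115121) (iv6 D118144) (iv5 F97837) (iv1 F186148) (iv5 F110418) (iv6 F189106) (iv1 F189107)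
theorem F189109 : act 0 n73711 = n119830 := d21_4 (iv5 F187064) (iv1 F187066) F187067 (iv6 F187069) F189106 F110418 (iv1 F185639) (iv5 D118141) (iv6 F107765) (iv1 F186177)
def n119831 : Q := act 1 n55139
theorem D119831 : act 1 n55139 = n119831 := rfl
def n119832 : Q := act 4 n55139
theorem D119832 : act 4 n55139 = n119832 := rfl
theorem F189111 : act 2 n119832 = n73652 := d1_1 D119832 (iv4 D73652) (iv2 F87222)
theorem F189112 : act 7 n119832 = n73708 := d11_2 (iv7 F87224) D119832 (iv4 D73708)
theorem F189113 : act 0 n119832 = n70506 := d20_7 (iv4 D84914) (iv1 F86898) F86894 F42562 (iv1 F42701) D55139 D119832 (iv4 D70506) D70505 (iv1 F189060)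
theorem E18771 : n119831 = n119812 := (c18_9 (iv1 D55131) D55132 D119814 (iv4 F189055) F189059 D70506 (iv0 F189113) (iv4 D119832) D119831 (iv5 D119812))
theorem F189114 : act 0 n119812 = n55139 := (sb E18771 (iv1 D119831))
theorem F189116 : act 0 n70511 = n119832 := d20_1 D70511 (iv4 D119832) (iv3 D55139) (iv1 D26645) (iv3 F42687) (iv4 F61030) (iv1 F106933) (iv4 D70480) (iv3 F56323) (iv1 F56327)
theorem F189117 : act 5 n118579 = n72187 := d21_6 D119812 F189114 F87223 (iv6 D54607) D54602 D118579 (iv1 F187051) F187049 (iv6 D73674) (iv1 F87204)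
def n119833 : Q := act 6 n55139
theorem D119833 : act 6 n55139 = n119833 := rfl
theorem F189118 : act 2 n119833 = n73654 := d3_1 D119833 (iv6 D73654) (iv2 F87222)
theorem F189119 : act 3 n119833 = n55140 := d7_1 D119833 (iv6 D55140) D55139
theorem F189120 : act 5 n119833 = n118594 := d12_1 D119833 (iv6 D118594) (iv5 D54606) D54607 (iv5 F87223)
def n119834 : Q := act 7 n55140
theorem D119834 : act 7 n55140 = n119834 := rfl
theorem F189122 : act 5 n119834 = n118599 := d13_1 D119834 (iv7 D118599) (iv5 F87226)
theorem F189123 : act 6 n119834 = n73713 := d14_1 D119834 (iv7 D73713) (iv6 D33871) F42712 D55140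
theorem F189124 : act 1 n62706 = n119834 := d15_1 (iv0 F97817) (iv7 D119834) F87225
theorem F189125 : act 1 n119834 = n62701 := d15_1 F189124 F162903 F162884
def n119835 : Q := act 1 n55141
theorem D119835 : act 1 n55141 = n119835 := rfl
def n119836 : Q := act 5 n55141
theorem D119836 : act 5 n55141 = n119836 := rfl
theorem F189128 : act 7 n119836 = n78446 := d13_2 F129627 D119836 (iv5 F129626)
def n119837 : Q := act 6 n55142
theorem D119837 : act 6 n55142 = n119837 := rfl
theorem F189131 : act 5 n119837 = n55640 := d12_1 D119837 (iv6 D55640) F43312 (iv6 F42705) D55142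
def n119838 : Q := act 6 n55143
theorem D119838 : act 6 n55143 = n119838 := rfl
theorem F189132 : act 2 n119838 = n73729 := d3_1 D119838 (iv6 D73729) (iv2 F87231)
theorem F189133 : act 4 n119838 = n55144 := d10_1 D119838 (iv6 D55144) (iv4 F87232)
theorem F189134 : act 7 n119838 = n55639 := d14_2 D55143 D119838 (iv6 D55639) F43307 (iv6 F42705)
theorem F189135 : act 1 n76738 = n119838 := d15_1 D76738 F189134 F88026
theorem F189136 : act 1 n119838 = n76737 := d15_1 F189135 (iv7 F131142) (iv2 F131143)
def n119839 : Q := act 5 n55147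
theorem D119839 : act 5 n55147 = n119839 := rfl
theorem F189137 : act 2 n119839 = n73910 := d2_1 D119839 (iv5 D73910) (iv2 F130766)
theorem F189138 : act 7 n119839 = n71792 := d13_2 (iv7 F130746) D119839 (iv5 D71792)
def n119840 : Q := act 3 n55155
theorem D119840 : act 3 n55155 = n119840 := rfl
theorem F189139 : act 2 n119840 = n77575 := d0_1 D119840 (iv3 D77575) (iv2 F125929) F61303 (iv2 F87243)
theorem F189140 : act 4 n119840 = n73765 := d5_2 D55155 D119840 (iv3 D73765) (iv4 D33889) F53136
def n119841 : Q := act 5 n55155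
theorem D119841 : act 5 n55155 = n119841 := rfl
theorem F189142 : act 2 n119841 = n55160 := d2_1 D119841 (iv5 D55160) (iv2 F87243)
theorem F189143 : act 7 n119841 = n73919 := d13_2 (iv7 F87244) D119841 (iv5 D73919)
theorem F189144 : act 1 n73943 = n119841 := d15_1 D73943 F189143 F110713
theorem F189145 : act 5 n73943 = n72025 := d21_2 D119841 (iv1 F189144) (iv6 D72025) (iv1 D33267) (iv6 D16063) D16062 D33263 F52496 D33830 (iv1 F184592)
theorem F189146 : act 1 n119841 = n73942 := d15_0 (iv0 D73942) (iv7 F87256) (iv2 F189142)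
def n119842 : Q := act 6 n55155
theorem D119842 : act 6 n55155 = n119842 := rfl
theorem F189147 : act 2 n119842 = n55161 := d3_1 D119842 (iv6 D55161) (iv2 F87243)
theorem F189148 : act 4 n119842 = n55157 := d10_1 D119842 (iv6 D55157) D55155
def n119843 : Q := act 4 n55156
theorem D119843 : act 4 n55156 = n119843 := rfl
theorem F189149 : act 2 n119843 = n55164 := d1_1 D119843 (iv4 D55164) (iv2 F87247)
theorem F189150 : act 7 n119843 = n73921 := d11_2 (iv7 F87249) D119843 (iv4 D73921)
theorem F189151 : act 1 n73961 = n119843 := d15_1 D73961 F189150 F110716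
theorem F189152 : act 1 n119843 = n73960 := d15_0 (iv0 D73960) (iv7 F87260) (iv2 F189149)
def n119844 : Q := act 6 n55156
theorem D119844 : act 6 n55156 = n119844 := rfl
theorem F189153 : act 2 n119844 = n55165 := d3_1 D119844 (iv6 D55165) (iv2 F87247)
theorem F189154 : act 3 n119844 = n73769 := d7_1 D119844 (iv6 D73769) (iv3 F87248)
def n119845 : Q := act 1 n55157
theorem D119845 : act 1 n55157 = n119845 := rfl
theorem F189155 : act 1 n119845 = n55168 := d15_1 D119845 (iv7 D55168) (iv2 F87252)
theorem F189156 : act 7 n119845 = n55166 := d15_2 (iv0 F131182) D119845 F188617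
theorem F189157 : act 6 n72076 = n119845 := d21_3 D16066 D33280 D72076 (iv1 D119845) (iv6 D55157) D55156 (iv1 F87250) (iv5 F130784) (iv6 D33279) (iv1 D16065)
theorem F189158 : act 3 n119845 = n73714 := d7_1 F189157 (iv6 F189106) F189104
theorem F189159 : act 5 n119845 = n75116 := d21_6 D118521 (iv1 F188096) (iv5 D118459) D118460 F188097 F189157 (iv1 F130996) (iv5 D79018) D79019 (iv1 F131029)
theorem F189160 : act 2 n55167 = n119845 := d4_3 F189156 F188617 (iv7 F188621)
def n119846 : Q := act 7 n55157
theorem D119846 : act 7 n55157 = n119846 := rfl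
theorem F189161 : act 2 n119846 = n55168 := d4_1 D119846 (iv7 D55168) (iv2 F87252)
theorem F189162 : act 3 n119846 = n73773 := d8_1 D119846 (iv7 D73773) (iv3 F87253)
theorem F189163 : act 5 n119846 = n62695 := d13_1 D119846 F130939 (iv5 F130760)
theorem F189164 : act 6 n119846 = n73926 := d14_1 D119846 (iv7 D73926) (iv6 D33942) (iv7 F53129) D55157
theorem F189165 : act 1 n55167 = n119846 := d15_1 D55167 (iv7 D119846) F87252
theorem F189166 : act 1 n119846 = n55166 := d15_1 F189165 (iv7 F189156) (iv2 F189160)
def n119847 : Q := act 3 n55158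
theorem D119847 : act 3 n55158 = n119847 := rfl
theorem F189167 : act 2 n119847 = n82734 := d0_1 D119847 F127503 (iv2 F184602) (iv3 D73933) (iv2 F184597)
theorem F189168 : act 6 n119847 = n84147 := d7_2 (iv6 F184598) D119847 (iv3 F129191)
theorem F189169 : act 7 n119847 = n73607 := d8_2 (iv7 F184599) D119847 F110303
theorem F189170 : act 4 n119847 = n83360 := d20_6 F43693 F125926 D40284 F61303 D55158 D119847 F184759 (iv4 F129254) (iv3 D84201) F126031
theorem F189171 : act 1 n82732 = n119847 := d15_1 D82732 F189169 F110302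
theorem F189172 : act 1 n119847 = n82731 := d15_0 (iv0 D82731) D82734 (iv2 F189167)
def n119848 : Q := act 4 n55158
theorem D119848 : act 4 n55158 = n119848 := rfl
theorem F189174 : act 3 n119848 = n119499 := d5_1 D119848 F188290 (iv3 F187792) (iv4 F189170) (iv3 D119847)
theorem F189175 : act 6 n119848 = n85254 := d10_2 (iv6 F184598) D119848 (iv4 D85254)
theorem F189177 : act 0 n105949 = n119848 := d20_10 (iv4 D119848) (iv1 F87254) (iv4 D33940) F53135 (iv1 F53124) D33885 D73753 (iv1 F163000) (iv4 D105950) D105949
theorem F189178 : act 1 n106050 = n119848 := d15_0 (iv0 F189177) F162960 D106050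
def n119849 : Q := act 5 n55158
theorem D119849 : act 5 n55158 = n119849 := rfl
theorem F189179 : act 2 n119849 = n73935 := d2_1 D119849 (iv5 D73935) (iv2 F184597)
theorem F189180 : act 7 n119849 = n73610 := d13_2 (iv7 F184599) D119849 (iv5 D73610)
def n119850 : Q := act 0 n55160
theorem D119850 : act 0 n55160 = n119850 := rfl
theorem F189181 : act 1 n73919 = n119850 := d15_0 (iv0 D119850) F87256 (iv2 F110713)
def n119851 : Q := act 1 n55160
theorem D119851 : act 1 n55160 = n119851 := rfl
theorem F189182 : act 1 n119851 = n73919 := d15_1 D119851 (iv7 F189143) F189142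
def n119852 : Q := act 4 n55160
theorem D119852 : act 4 n55160 = n119852 := rfl
theorem F189183 : act 7 n119852 = n73944 := d11_2 (iv7 F87256) D119852 (iv4 D73944)
def n119853 : Q := act 6 n55160
theorem D119853 : act 6 n55160 = n119853 := rfl
def n119854 : Q := act 0 n55161
theorem D119854 : act 0 n55161 = n119854 := rfl
def n119855 : Q := act 1 n55161
theorem D119855 : act 1 n55161 = n119855 := rfl
def n119856 : Q := act 5 n55161
theorem D119856 : act 5 n55161 = n119856 := rfl
theorem F189184 : act 0 n119856 = n118487 := d21_7 D33206 F52430 F42618 D55054 F184569 D55161 D119856 (iv5 D118487) (iv6 D54567) (iv1 F42134)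
def n119857 : Q := act 7 n55161
theorem D119857 : act 7 n55161 = n119857 := rfl
theorem F189185 : act 3 n119857 = n77754 := d8_1 D119857 F133213 F133211
theorem F189186 : act 4 n119857 = n55168 := d11_1 D119857 (iv7 D55168) (iv4 F87257)
theorem F189187 : act 6 n119857 = n73949 := d14_1 D119857 (iv7 D73949) (iv6 D33947) (iv7 F53130) D55161
def n119858 : Q := act 4 n55162
theorem D119858 : act 4 n55162 = n119858 := rfl
theorem F189188 : act 2 n119858 = n73957 := d1_1 D119858 (iv4 D73957) (iv2 F185114)
theorem F189189 : act 7 n119858 = n73952 := d11_2 (iv7 F185115) D119858 (iv4 D73952)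
def n119859 : Q := act 6 n55162
theorem D119859 : act 6 n55162 = n119859 := rfl
theorem F189190 : act 2 n119859 = n73959 := d3_1 D119859 (iv6 D73959) (iv2 F185114)
theorem F189191 : act 3 n119859 = n75949 := d7_1 D119859 F188592 (iv3 F188594)
theorem F189193 : act 7 n119859 = n68892 := d14_2 (iv7 F185115) D119859 (iv6 D68892) (iv7 F188603) F131181
theorem F189194 : act 0 n75878 = n119859 := d21_4 (iv5 F130326) (iv1 F130330) F60289 D75878 (iv6 D119859) (iv5 F188613) (iv1 F184787) (iv5 D117844) F130862 (iv1 F131624)
theorem F189195 : act 1 n85104 = n68892 := d15_1 (iv0 F131038) (iv7 F189193) F189190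
def n119860 : Q := act 3 n55163
theorem D119860 : act 3 n55163 = n119860 := rfl
theorem F189196 : act 6 n119860 = n68894 := d7_2 (iv6 F188607) D119860 (iv3 D68894)
theorem F189197 : act 7 n119860 = n73956 := d8_2 (iv7 F185125) D119860 (iv3 D73956)
def n119861 : Q := act 4 n55163
theorem D119861 : act 4 n55163 = n119861 := rfl
theorem F189198 : act 2 n119861 = n73952 := d1_1 D119861 (iv4 D73952) (iv2 F185123)
theorem F189199 : act 6 n119861 = n68895 := d10_2 (iv6 F188607) D119861 (iv4 D68895)
theorem F189200 : act 7 n119861 = n73957 := d11_2 (iv7 F185125) D119861 (iv4 D73957)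
def n119862 : Q := act 0 n55164
theorem D119862 : act 0 n55164 = n119862 := rfl
theorem F189201 : act 1 n73921 = n119862 := d15_0 (iv0 D119862) F87260 (iv2 F110716)
def n119863 : Q := act 1 n55164
theorem D119863 : act 1 n55164 = n119863 := rfl
theorem F189202 : act 1 n119863 = n73921 := d15_1 D119863 (iv7 F189150) F189149
def n119864 : Q := act 3 n55164
theorem D119864 : act 3 n55164 = n119864 := rfl
theorem F189204 : act 7 n119864 = n73962 := d8_2 (iv7 F87260) D119864 (iv3 D73962)
def n119865 : Q := act 5 n55164
theorem D119865 : act 5 n55164 = n119865 := rfl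
theorem F189205 : act 7 n119865 = n73963 := d13_2 (iv7 F87260) D119865 (iv5 D73963)
def n119866 : Q := act 6 n55164
theorem D119866 : act 6 n55164 = n119866 := rfl
theorem F189206 : act 4 n119866 = n55165 := d10_1 D119866 (iv6 D55165) D55164
def n119867 : Q := act 0 n55165
theorem D119867 : act 0 n55165 = n119867 := rfl
def n119868 : Q := act 1 n55165
theorem D119868 : act 1 n55165 = n119868 := rfl
def n119869 : Q := act 7 n55165
theorem D119869 : act 7 n55165 = n119869 := rfl
theorem F189208 : act 6 n119869 = n68746 := d14_1 D119869 F104942 (iv6 D33951) (iv7 F53125) D55165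
def n119870 : Q := act 4 n55166
theorem D119870 : act 4 n55166 = n119870 := rfl
theorem F189209 : act 2 n119870 = n73657 := d1_1 D119870 F110359 (iv2 F188617)
theorem F189210 : act 6 n119870 = n73603 := d10_2 (iv6 F188620) D119870 (iv4 D73603)
def n119871 : Q := act 3 n55167
theorem D119871 : act 3 n55167 = n119871 := rfl
theorem F189211 : act 7 n119871 = n73654 := d8_2 (iv7 F188621) D119871 F110358
def n119872 : Q := act 4 n55167
theorem D119872 : act 4 n55167 = n119872 := rfl
theorem F189212 : act 7 n119872 = n73657 := d11_2 (iv7 F188621) D119872 F110359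
def n119873 : Q := act 5 n55167
theorem D119873 : act 5 n55167 = n119873 := rfl
theorem F189213 : act 2 n119873 = n75116 := d2_1 D119873 (iv5 F189159) (iv2 F189160)
theorem F189214 : act 7 n119873 = n73661 := d13_2 (iv7 F188621) D119873 (iv5 D73661)
theorem F189215 : act 6 n119873 = n74858 := d21_3 (iv5 F189163) (iv1 F189165) D119873 (iv1 D74858) (iv6 D34302) (iv5 D16604) F26824 D14082 D29643 D62695
theorem F189216 : act 1 n55328 = n119873 := d15_1 (iv0 F130964) F189214 F110362
theorem F189217 : act 1 n119873 = n71994 := d15_1 F189216 (iv7 F130993) (iv2 F130994)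
def n119874 : Q := act 6 n55167
theorem D119874 : act 6 n55167 = n119874 := rfl
theorem F189218 : act 2 n119874 = n72076 := d3_1 D119874 F189157 (iv2 F189160)
theorem F189219 : act 7 n119874 = n72081 := d14_2 (iv7 F188621) D119874 F108533 F85917 D33848
theorem F189220 : act 0 n119874 = n73649 := d21_4 D71994 (iv1 F189217) (iv5 D119873) D119874 (iv6 F188829) F188830 (iv1 F120257) F104921 (iv6 F56666) (iv1 F56668)
theorem F189221 : act 5 n71864 = n119874 := d21_2 D33210 D71864 (iv6 D119874) (iv1 D55167) (iv6 D26658) D26657 D55162 (iv5 F188613) F188614 (iv1 D33209)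
theorem F189222 : act 1 n119874 = n71830 := d15_0 F131037 (iv7 F108538) (iv2 F189218)
def n119875 : Q := act 0 n55169
theorem D119875 : act 0 n55169 = n119875 := rfl
def n119876 : Q := act 1 n55169
theorem D119876 : act 1 n55169 = n119876 := rfl
def n119877 : Q := act 4 n55169
theorem D119877 : act 4 n55169 = n119877 := rfl
theorem F189225 : act 7 n119877 = n73854 := d11_2 (iv7 F87265) D119877 (iv4 D73854)
def n119878 : Q := act 6 n55169
theorem D119878 : act 6 n55169 = n119878 := rfl
theorem F189226 : act 3 n119878 = n55171 := d7_1 D119878 (iv6 D55171) D55169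
theorem F189227 : act 5 n119878 = n117721 := d12_1 D119878 F184356 (iv5 D54737) D54738 (iv5 F87264)
theorem F189228 : act 7 n119878 = n68912 := d14_2 (iv7 F87265) D119878 (iv6 D68912) (iv7 F85383) F85382
def n119879 : Q := act 3 n55170
theorem D119879 : act 3 n55170 = n119879 := rfl
theorem F189229 : act 7 n119879 = n73856 := d8_2 (iv7 F87267) D119879 (iv3 D73856)
def n119880 : Q := act 6 n55170
theorem D119880 : act 6 n55170 = n119880 := rfl
theorem F189230 : act 2 n119880 = n73850 := d3_1 D119880 (iv6 D73850) (iv2 F87266)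
theorem F189231 : act 4 n119880 = n55171 := d10_1 D119880 (iv6 D55171) D55170
theorem F189232 : act 7 n119880 = n66864 := d14_2 (iv7 F87267) D119880 (iv6 D66864) (iv7 F110654) F110653
def n119881 : Q := act 3 n55173
theorem D119881 : act 3 n55173 = n119881 := rfl
theorem F189234 : act 6 n119881 = n66866 := d7_2 (iv6 F105821) D119881 (iv3 D66866)
theorem F189235 : act 7 n119881 = n73848 := d8_2 (iv7 F87280) D119881 (iv3 D73848)
def n119882 : Q := act 3 n55174
theorem D119882 : act 3 n55174 = n119882 := rfl
theorem F189236 : act 7 n119882 = n73861 := d8_2 F87286 D119882 (iv3 D73861)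
def n119883 : Q := act 6 n55174
theorem D119883 : act 6 n55174 = n119883 := rfl
theorem F189237 : act 2 n119883 = n73860 := d3_1 D119883 (iv6 D73860) F87285
theorem F189238 : act 4 n119883 = n68072 := d10_1 D119883 F104190 (iv4 F87283)
theorem F189239 : act 7 n119883 = n66418 := d14_2 F87286 D119883 (iv6 D66418) F105862 F53275
theorem F189240 : act 5 n116062 = n119883 := d21_8 D55209 F87342 (iv5 D48930) (iv6 D23857) (iv1 F20399) D25910 D53493 D116062 (iv6 D119883) (iv1 F87284)
def n119884 : Q := act 3 n55175
theorem D119884 : act 3 n55175 = n119884 := rfl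
theorem F189241 : act 6 n119884 = n66420 := d7_2 (iv6 F105859) D119884 (iv3 D66420)
def n119885 : Q := act 0 n55176
theorem D119885 : act 0 n55176 = n119885 := rfl
theorem F189243 : act 1 n74002 = n119885 := d15_0 (iv0 D119885) F87292 D74002
def n119887 : Q := act 2 n55176
theorem D119887 : act 2 n55176 = n119887 := rfl
theorem F189244 : act 3 n119887 = n73865 := d0_2 D55176 D119887 (iv2 D73865) (iv3 D33921) F53127
theorem F189245 : act 7 n119887 = n74002 := d4_2 (iv7 F87292) D119887 (iv2 D74002)
theorem F189246 : act 1 n119887 = n74000 := d15_0 (iv0 D74000) (iv7 F87292) D119887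
theorem F189248 : act 1 n74001 = n119887 := d15_1 D74001 F189245 (iv2 D74002)
def n119889 : Q := act 6 n55176
theorem D119889 : act 6 n55176 = n119889 := rfl
theorem F189251 : act 3 n119889 = n55178 := d7_1 D119889 (iv6 D55178) D55176
def n119890 : Q := act 6 n55177
theorem D119890 : act 6 n55177 = n119890 := rfl
theorem F189253 : act 4 n119890 = n86123 := d10_1 D119890 (iv6 D86123) (iv4 F87295)
def n119891 : Q := act 1 n55178
theorem D119891 : act 1 n55178 = n119891 := rfl
theorem F189256 : act 4 n119891 = n68403 := d18_7 (iv1 F166871) D117150 (iv1 F183248) F112518 F54516 (iv4 F87298) D119891 F104570 (iv5 F166869)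
theorem F189258 : act 5 n115888 = n119891 := d17_3 (iv1 F130302) D53427 D115888 F189256 (iv5 D68403) (iv0 D31822) (iv5 D14975) D14974 D31819
def n119892 : Q := act 5 n55178
theorem D119892 : act 5 n55178 = n119892 := rfl
theorem F189262 : act 1 n119892 = n65773 := d17_6 (iv1 F41642) D32258 F87273 F54516 (iv4 F87298) D119892 (iv5 D65773) F84286 F84283
def n119893 : Q := act 7 n55178
theorem D119893 : act 7 n55178 = n119893 := rfl
theorem F189264 : act 4 n119893 = n55180 := d11_1 D119893 (iv7 D55180) (iv4 F87298)
theorem F189265 : act 6 n119893 = n66402 := d14_1 D119893 F102294 (iv6 D33964) (iv7 F53126) D55178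
def n119895 : Q := act 4 n55182
theorem D119895 : act 4 n55182 = n119895 := rfl
theorem F189274 : act 7 n119895 = n73707 := d11_2 (iv7 F87310) D119895 (iv4 D73707)
theorem F189275 : act 0 n119895 = n70745 := d18_2 (iv1 F87312) D119895 (iv4 D70745) (iv5 D32794) F38268 (iv0 D7857) (iv4 F9412) D12793 D26741
theorem F189276 : act 1 n119895 = n70753 := d18_6 D35709 F56388 (iv1 F44646) (iv4 F42733) D55182 D119895 (iv4 D70753) (iv0 F56395) (iv5 D35710)
def n119896 : Q := act 5 n55184
theorem D119896 : act 5 n55184 = n119896 := rfl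
theorem F189277 : act 2 n119896 = n73307 := d2_1 D119896 (iv5 D73307) (iv2 F162861)
theorem F189278 : act 3 n119896 = n55186 := d6_1 D119896 (iv5 D55186) D55184
theorem F189279 : act 7 n119896 = n69270 := d13_2 (iv7 F162862) D119896 F184634
theorem E18772 : n73307 = n69269 := (c15_4 (iv0 D69269) D69270 (iv7 F189279) F189277)
theorem F189280 : act 2 n69269 = n119896 := (sb E18772 (iv2 F189277))
theorem F189282 : act 5 n69269 = n33728 := (sb E18772 (iv5 D73307))
def n119898 : Q := act 0 n55185
theorem D119898 : act 0 n55185 = n119898 := rfl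
theorem F189285 : act 4 n119898 = n60184 := d20_2 D55185 D119898 (iv3 D60184) (iv1 F46178) F22814 (iv4 F12876) (iv1 F13881) (iv4 F41672) D12740 D26669
theorem F189286 : act 1 n55190 = n119898 := d15_0 (iv0 D119898) F162864 (iv2 F162853)
theorem F189287 : act 2 n73736 = n119898 := d1_3 F189285 (iv2 F188295) F188298
theorem F189288 : act 7 n60325 = n119898 := d11_0 F189285 F185343 D60325
def n119899 : Q := act 1 n55185
theorem D119899 : act 1 n55185 = n119899 := rfl
theorem F189289 : act 1 n119899 = n55190 := d15_1 D119899 F162854 (iv2 F162863)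
theorem F189291 : act 4 n60324 = n119899 := d20_0 (iv1 D119899) (iv4 D55185) D55184 F163038 (iv3 D33576) D33577 D72793 F110545 (iv3 F110487) (iv1 F185363)
theorem F189293 : act 3 n119899 = n79333 := d5_1 F189291 (iv4 F187769) (iv3 D119292) D119293 F187773
def n119900 : Q := act 3 n55185
theorem D119900 : act 3 n55185 = n119900 := rfl
theorem F189294 : act 7 n119900 = n73737 := d8_2 (iv7 F162864) D119900 (iv3 D73737)
theorem F189295 : act 0 n119900 = n101265 := d20_10 (iv4 D101265) (iv1 F74432) (iv4 F121985) F121984 (iv1 F124376) F61328 (iv4 D26672) D26669 D55185 D119900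
theorem F189296 : act 1 n119900 = n101269 := d15_1 (iv0 F189295) (iv7 F184715) (iv2 F184719)
def n119901 : Q := act 5 n55185
theorem D119901 : act 5 n55185 = n119901 := rfl
theorem F189298 : act 7 n119901 = n73738 := d13_2 (iv7 F162864) D119901 (iv5 D73738)
def n119904 : Q := act 1 n55186
theorem D119904 : act 1 n55186 = n119904 := rfl
theorem F189302 : act 1 n119904 = n55191 := d15_1 D119904 (iv7 F184827) F184826
def n119905 : Q := act 4 n55186
theorem D119905 : act 4 n55186 = n119905 := rfl
theorem F189303 : act 2 n119905 = n69555 := d1_1 D119905 (iv4 D69555) F184826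
theorem F189304 : act 7 n119905 = n69550 := d11_2 (iv7 F184825) D119905 (iv4 D69550)
def n119911 : Q := act 3 n55190
theorem D119911 : act 3 n55190 = n119911 := rfl
theorem F189314 : act 0 n79341 = n119911 := d20_4 F43390 D36478 (iv4 F124365) D79341 (iv3 D119911) (iv4 D55190) (iv1 D26670) D26672 (iv3 F61328) F124375
def n119912 : Q := act 5 n55190
theorem D119912 : act 5 n55190 = n119912 := rfl
theorem F189315 : act 2 n119912 = n73738 := d2_1 D119912 (iv5 D73738) (iv2 F162853)
def n119913 : Q := act 6 n55190
theorem D119913 : act 6 n55190 = n119913 := rfl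
def n119914 : Q := act 4 n55191
theorem D119914 : act 4 n55191 = n119914 := rfl
theorem F189319 : act 2 n119914 = n69550 := d1_1 D119914 (iv4 D69550) (iv2 F184823)
theorem F189320 : act 7 n119914 = n69555 := d11_2 F184827 D119914 (iv4 D69555)
def n119915 : Q := act 6 n55191
theorem D119915 : act 6 n55191 = n119915 := rfl
theorem F189321 : act 2 n119915 = n69552 := d3_1 D119915 (iv6 D69552) (iv2 F184823)
def n119919 : Q := act 7 n55192
theorem D119919 : act 7 n55192 = n119919 := rfl
theorem F189325 : act 6 n119919 = n73764 := d14_1 D119919 (iv7 D73764) (iv6 D33888) F162858 D55192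
def n119920 : Q := act 3 n55193
theorem D119920 : act 3 n55193 = n119920 := rfl
theorem F189329 : act 2 n119920 = n79353 := d0_1 D119920 (iv3 D79353) (iv2 F121797) F61328 (iv2 F87316)
theorem F189331 : act 7 n119920 = n73765 := d8_2 (iv7 F87317) D119920 (iv3 D73765)
def n119921 : Q := act 5 n55193
theorem D119921 : act 5 n55193 = n119921 := rfl
theorem F189332 : act 2 n119921 = n55198 := d2_1 D119921 (iv5 D55198) (iv2 F87316)
theorem F189333 : act 7 n119921 = n73766 := d13_2 (iv7 F87317) D119921 (iv5 D73766)
theorem F189335 : act 1 n119921 = n73782 := d15_0 (iv0 D73782) (iv7 F87329) (iv2 F189332)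
def n119922 : Q := act 6 n55193
theorem D119922 : act 6 n55193 = n119922 := rfl
theorem F189336 : act 2 n119922 = n55199 := d3_1 D119922 (iv6 D55199) (iv2 F87316)
def n119923 : Q := act 4 n55194
theorem D119923 : act 4 n55194 = n119923 := rfl
theorem F189338 : act 2 n119923 = n55202 := d1_1 D119923 (iv4 D55202) (iv2 F87320)
theorem F189339 : act 7 n119923 = n73768 := d11_2 (iv7 F87322) D119923 (iv4 D73768)
theorem F189340 : act 1 n73801 = n119923 := d15_1 D73801 F189339 F110477
theorem F189341 : act 1 n119923 = n73800 := d15_0 (iv0 D73800) (iv7 F87333) (iv2 F189338)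
def n119924 : Q := act 6 n55194
theorem D119924 : act 6 n55194 = n119924 := rfl
theorem F189342 : act 2 n119924 = n55203 := d3_1 D119924 (iv6 D55203) (iv2 F87320)
theorem F189343 : act 3 n119924 = n68866 := d7_1 D119924 F130734 (iv3 F87321)
def n119925 : Q := act 0 n55195
theorem D119925 : act 0 n55195 = n119925 := rfl
def n119926 : Q := act 1 n55195
theorem D119926 : act 1 n55195 = n119926 := rfl
theorem F189344 : act 1 n119926 = n55207 := d15_1 D119926 (iv7 D55207) (iv2 F87325)
def n119927 : Q := act 5 n55195
theorem D119927 : act 5 n55195 = n119927 := rfl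
theorem F189345 : act 2 n119927 = n55206 := d2_1 D119927 (iv5 D55206) (iv2 F87325)
theorem F189346 : act 3 n119927 = n73925 := d6_1 D119927 (iv5 D73925) (iv3 F87326)
def n119928 : Q := act 7 n55195
theorem D119928 : act 7 n55195 = n119928 := rfl
theorem F189347 : act 2 n119928 = n55207 := d4_1 D119928 (iv7 D55207) (iv2 F87325)
theorem F189349 : act 6 n119928 = n73773 := d14_1 D119928 (iv7 D73773) (iv6 D33891) F53119 D55195
theorem F189350 : act 1 n55207 = n119925 := d15_0 (iv0 D119925) D119928 F189347
theorem F189351 : act 1 n55205 = n119928 := d15_1 D55205 (iv7 D119928) F87325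
theorem F189352 : act 1 n119928 = n55204 := d15_0 (iv0 D55204) D55207 (iv2 F189347)
def n119930 : Q := act 5 n55197
theorem D119930 : act 5 n55197 = n119930 := rfl
theorem F189354 : act 2 n119930 = n73776 := d2_1 D119930 (iv5 D73776) (iv2 F110503)
theorem F189355 : act 7 n119930 = n73425 := d13_2 (iv7 F110504) D119930 (iv5 D73425)
def n119932 : Q := act 1 n55198
theorem D119932 : act 1 n55198 = n119932 := rfl
theorem F189357 : act 1 n119932 = n73766 := d15_1 D119932 (iv7 F189333) F189332
theorem F189358 : act 5 n119932 = n118794 := d21_2 D73766 (iv1 F189357) (iv6 D118794) (iv1 D54689) (iv6 D26452) D26451 D54686 F86502 D55106 F110582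
def n119935 : Q := act 0 n55199
theorem D119935 : act 0 n55199 = n119935 := rfl
def n119936 : Q := act 1 n55199
theorem D119936 : act 1 n55199 = n119936 := rfl
theorem F189360 : act 4 n117955 = n119936 := d20_6 (iv4 F42745) (iv1 F44757) (iv4 F57066) D79775 F122477 (iv3 F185011) (iv1 D119936) F87330 F42740 D26677
theorem F189361 : act 6 n119936 = n73400 := d10_2 D117955 F189360 F110097
theorem F189362 : act 2 n73439 = n119936 := d3_3 F189361 F131144 D73439
theorem F189363 : act 5 n119936 = n71575 := d21_6 D33091 (iv1 F52998) (iv5 D33761) D33762 D73400 (iv6 F189361) (iv1 D71575) (iv5 D33102) (iv6 D15964) D15961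
def n119938 : Q := act 7 n55199
theorem D119938 : act 7 n55199 = n119938 := rfl
theorem F189364 : act 3 n119938 = n79446 := d8_1 D119938 F133240 F133238
theorem F189365 : act 4 n119938 = n55207 := d11_1 D119938 (iv7 D55207) (iv4 F87330)
theorem F189366 : act 6 n119938 = n73789 := d14_1 D119938 (iv7 D73789) (iv6 D33896) F53120 D55199
def n119939 : Q := act 2 n55200
theorem D119939 : act 2 n55200 = n119939 := rfl
theorem F189367 : act 7 n55201 = n119939 := d15_2 (iv0 D55200) D55201 (iv2 D119939)
def n119940 : Q := act 3 n55200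
theorem D119940 : act 3 n55200 = n119940 := rfl
def n119941 : Q := act 4 n55200
theorem D119941 : act 4 n55200 = n119941 := rfl
def n119942 : Q := act 5 n55200
theorem D119942 : act 5 n55200 = n119942 := rfl
def n119943 : Q := act 6 n55200
theorem D119943 : act 6 n55200 = n119943 := rfl
def n119944 : Q := act 7 n55200
theorem D119944 : act 7 n55200 = n119944 := rfl
theorem F189368 : act 2 n119944 = n55201 := d4_1 D119944 F189367 (iv2 D119939)
def n119945 : Q := act 3 n55201
theorem D119945 : act 3 n55201 = n119945 := rfl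
def n119946 : Q := act 4 n55201
theorem D119946 : act 4 n55201 = n119946 := rfl
def n119947 : Q := act 5 n55201
theorem D119947 : act 5 n55201 = n119947 := rfl
def n119948 : Q := act 6 n55201
theorem D119948 : act 6 n55201 = n119948 := rfl
def n119949 : Q := act 0 n55202
theorem D119949 : act 0 n55202 = n119949 := rfl
theorem F189369 : act 1 n73768 = n119949 := d15_0 (iv0 D119949) F87333 (iv2 F110477)
def n119950 : Q := act 1 n55202
theorem D119950 : act 1 n55202 = n119950 := rfl
theorem F189370 : act 1 n119950 = n73768 := d15_1 D119950 (iv7 F189339) F189338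
def n119951 : Q := act 3 n55202
theorem D119951 : act 3 n55202 = n119951 := rfl
theorem F189371 : act 4 n119951 = n55208 := d5_2 D55202 D119951 (iv3 D55208) (iv4 D26675) (iv3 F42739)
theorem F189372 : act 7 n119951 = n73802 := d8_2 (iv7 F87333) D119951 (iv3 D73802)
def n119952 : Q := act 5 n55202
theorem D119952 : act 5 n55202 = n119952 := rfl
theorem F189373 : act 7 n119952 = n73803 := d13_2 (iv7 F87333) D119952 (iv5 D73803)
def n119953 : Q := act 6 n55202
theorem D119953 : act 6 n55202 = n119953 := rfl
theorem F189374 : act 4 n119953 = n55203 := d10_1 D119953 (iv6 D55203) D55202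
theorem F189375 : act 0 n68694 = n119953 := d20_7 (iv4 F101356) (iv1 F102687) (iv4 F102690) D68480 F110531 (iv3 F104728) (iv4 F104898) F189374 F87334 (iv1 F50360)
def n119954 : Q := act 0 n55203
theorem D119954 : act 0 n55203 = n119954 := rfl
def n119955 : Q := act 1 n55203
theorem D119955 : act 1 n55203 = n119955 := rfl
def n119956 : Q := act 5 n55203
theorem D119956 : act 5 n55203 = n119956 := rfl
theorem F189377 : act 6 n119956 = n55206 := d12_2 D55203 D119956 (iv5 D55206) (iv6 D26674) D26673
def n119957 : Q := act 2 n55204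
theorem D119957 : act 2 n55204 = n119957 := rfl
theorem F189378 : act 7 n55205 = n119957 := d15_2 (iv0 D55204) D55205 (iv2 D119957)
def n119958 : Q := act 3 n55204
theorem D119958 : act 3 n55204 = n119958 := rfl
def n119960 : Q := act 5 n55204
theorem D119960 : act 5 n55204 = n119960 := rfl
def n119961 : Q := act 6 n55204
theorem D119961 : act 6 n55204 = n119961 := rfl
theorem F189379 : act 5 n75924 = n119961 := d21_2 D34699 D75924 (iv6 D119961) (iv1 F189352) F189349 (iv5 F112497) (iv1 F112501) (iv5 F184838) (iv6 D75916) (iv1 D34696)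
def n119962 : Q := act 7 n55204
theorem D119962 : act 7 n55204 = n119962 := rfl
def n119963 : Q := act 3 n55205
theorem D119963 : act 3 n55205 = n119963 := rfl
def n119965 : Q := act 5 n55205
theorem D119965 : act 5 n55205 = n119965 := rfl
def n119966 : Q := act 6 n55205
theorem D119966 : act 6 n55205 = n119966 := rfl
def n119968 : Q := act 1 n55206
theorem D119968 : act 1 n55206 = n119968 := rfl
def n119970 : Q := act 0 n55208
theorem D119970 : act 0 n55208 = n119970 := rfl
theorem F189381 : act 1 n73865 = n119970 := d15_0 (iv0 D119970) F87338 D73865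
def n119971 : Q := act 1 n55208
theorem D119971 : act 1 n55208 = n119971 := rfl
def n119972 : Q := act 2 n55208
theorem D119972 : act 2 n55208 = n119972 := rfl
theorem F189382 : act 3 n119972 = n74002 := d0_2 D55208 D119972 (iv2 D74002) (iv3 D33962) F53105
theorem F189383 : act 7 n119972 = n73865 := d4_2 (iv7 F87338) D119972 (iv2 D73865)
theorem F189384 : act 1 n119972 = n73863 := d15_0 (iv0 D73863) (iv7 F87338) D119972
theorem F189385 : act 1 n119971 = n73865 := d15_1 D119971 (iv7 F189383) (iv2 D119972)
theorem F189386 : act 1 n73864 = n119972 := d15_1 D73864 F189383 (iv2 D73865)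
def n119973 : Q := act 5 n55208
theorem D119973 : act 5 n55208 = n119973 := rfl
theorem F189388 : act 7 n119973 = n73866 := d13_2 (iv7 F87338) D119973 (iv5 D73866)
def n119974 : Q := act 6 n55208
theorem D119974 : act 6 n55208 = n119974 := rfl
def n119977 : Q := act 1 n55211
theorem D119977 : act 1 n55211 = n119977 := rfl
theorem F189393 : act 1 n119977 = n62752 := d15_1 D119977 F97891 (iv2 F87346)
theorem F189395 : act 5 n69378 = n119977 := d21_0 (iv1 D119977) (iv5 D55211) (iv6 D26676) (iv1 F42726) F51223 D32054 (iv1 F105094) F105918 (iv6 F105717) (iv1 F105917)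
theorem F189397 : act 6 n119977 = n61394 := d12_2 (iv6 F105638) F189395 (iv5 F183623) (iv6 D117294) (iv5 F85292)
def n119978 : Q := act 4 n55211
theorem D119978 : act 4 n55211 = n119978 := rfl
theorem F189398 : act 2 n119978 = n74008 := d1_1 D119978 (iv4 D74008) (iv2 F87346)
theorem F189399 : act 6 n119978 = n55213 := d10_2 (iv6 F87347) D119978 (iv4 D55213)
def n119980 : Q := act 5 n55213
theorem D119980 : act 5 n55213 = n119980 := rfl
theorem F189401 : act 4 n119980 = n81142 := d16_2 D55213 D119980 F124928 (iv4 D56560) (iv5 F43979) F53075 (iv5 F53301) (iv7 D33968) (iv2 F53069)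
theorem F189403 : act 1 n119980 = n62919 := d17_6 (iv1 F42168) (iv5 F42634) (iv1 F42747) D26678 D55213 D119980 (iv5 D62919) F86337 F86334
def n119981 : Q := act 3 n55214
theorem D119981 : act 3 n55214 = n119981 := rfl
theorem F189404 : act 4 n119981 = n72100 := d5_2 D55214 D119981 (iv3 D72100) (iv4 D33290) (iv3 F52525)
theorem F189405 : act 5 n119981 = n70986 := d6_2 (iv5 F87355) D119981 (iv3 D70986)
theorem F189406 : act 7 n119981 = n70988 := d8_2 (iv7 F87356) D119981 (iv3 D70988)
def n119982 : Q := act 0 n55215
theorem D119982 : act 0 n55215 = n119982 := rfl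
def n119983 : Q := act 1 n55215
theorem D119983 : act 1 n55215 = n119983 := rfl
def n119984 : Q := act 2 n55215
theorem D119984 : act 2 n55215 = n119984 := rfl
theorem F189408 : act 3 n119984 = n74035 := d0_2 D55215 D119984 (iv2 D74035) (iv3 D33977) (iv2 F42754)
theorem F189409 : act 7 n119984 = n74050 := d4_2 (iv7 F87359) D119984 (iv2 D74050)
def n119985 : Q := act 6 n55215
theorem D119985 : act 6 n55215 = n119985 := rfl
theorem F189413 : act 3 n119985 = n55216 := d7_1 D119985 (iv6 D55216) D55215
def n119986 : Q := act 0 n55216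
theorem D119986 : act 0 n55216 = n119986 := rfl
def n119987 : Q := act 1 n55216
theorem D119987 : act 1 n55216 = n119987 := rfl
theorem F189414 : act 1 n119987 = n74040 := d15_1 D119987 (iv7 D74040) (iv2 F87360)
def n119988 : Q := act 5 n55216
theorem D119988 : act 5 n55216 = n119988 := rfl
def n119989 : Q := act 7 n55216
theorem D119989 : act 7 n55216 = n119989 := rfl
theorem F189416 : act 2 n119989 = n74040 := d4_1 D119989 (iv7 D74040) (iv2 F87360)
theorem F189417 : act 4 n119989 = n55219 := d11_1 D119989 (iv7 D55219) (iv4 F87361)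
theorem F189418 : act 6 n119989 = n74055 := d14_1 D119989 (iv7 D74055) (iv6 D33983) (iv7 F42755) D55216
theorem F189419 : act 1 n74040 = n119986 := d15_0 (iv0 D119986) D119989 F189416
theorem F189420 : act 1 n74038 = n119989 := d15_1 D74038 (iv7 D119989) F87360
theorem F189421 : act 1 n119989 = n74037 := d15_0 (iv0 D74037) D74040 (iv2 F189416)
def n119990 : Q := act 3 n55217
theorem D119990 : act 3 n55217 = n119990 := rfl
theorem F189422 : act 6 n119990 = n85322 := d7_2 (iv6 F112338) D119990 (iv3 D85322)
def n119991 : Q := act 4 n55217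
theorem D119991 : act 4 n55217 = n119991 := rfl
theorem F189424 : act 2 n119991 = n74043 := d1_1 D119991 (iv4 D74043) (iv2 F112337)
theorem F189426 : act 7 n119991 = n74047 := d11_2 (iv7 F112339) D119991 (iv4 D74047)
def n119992 : Q := act 3 n55218
theorem D119992 : act 3 n55218 = n119992 := rfl
theorem F189427 : act 7 n119992 = n74042 := d8_2 (iv7 F112335) D119992 (iv3 D74042)
def n119993 : Q := act 4 n55218
theorem D119993 : act 4 n55218 = n119993 := rfl
theorem F189428 : act 2 n119993 = n74047 := d1_1 D119993 (iv4 D74047) (iv2 F112334)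
def n119994 : Q := act 0 n55220
theorem D119994 : act 0 n55220 = n119994 := rfl
theorem F189430 : act 5 n119994 = n68082 := d17_3 F42762 D55220 D119994 (iv4 D68082) (iv5 F52117) F55057 (iv5 D34823) F50829 (iv4 F40523)
theorem F189431 : act 2 n68084 = n119994 := d15_3 (iv0 D119994) (iv0 F87372) (iv7 F104209)
theorem F189432 : act 1 n71349 = n119994 := d15_0 (iv0 D119994) F87371 (iv2 F107837)
theorem F189433 : act 7 n119994 = n74015 := d15_2 (iv0 F107839) F189432 (iv2 F110758)
theorem F189434 : act 3 n114515 = n119994 := d8_3 F189433 F110760 (iv7 F178580)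
def n119995 : Q := act 4 n55220
theorem D119995 : act 4 n55220 = n119995 := rfl
theorem F189435 : act 2 n119995 = n105423 := d1_1 D119995 (iv4 D105423) (iv2 F87369)
theorem F189436 : act 7 n119995 = n74016 := d11_2 (iv7 F87371) D119995 (iv4 D74016)
def n119996 : Q := act 6 n55220
theorem D119996 : act 6 n55220 = n119996 := rfl
theorem F189437 : act 2 n119996 = n105421 := d3_1 D119996 F161814 (iv2 F87369)
theorem F189438 : act 3 n119996 = n76224 := d7_1 D119996 (iv6 D76224) (iv3 F87370)
theorem F189439 : act 5 n119996 = n69798 := d12_1 D119996 (iv6 D69798) F51468 (iv6 F42760) D55220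
def n119997 : Q := act 3 n55222
theorem D119997 : act 3 n55222 = n119997 := rfl
theorem F189440 : act 4 n119997 = n55224 := d5_2 D55222 D119997 (iv3 D55224) (iv4 D26685) (iv3 F42764)
def n119998 : Q := act 5 n55222
theorem D119998 : act 5 n55222 = n119998 := rfl
theorem F189442 : act 7 n119998 = n74024 := d13_2 (iv7 F87377) D119998 (iv5 D74024)
theorem F189443 : act 1 n119998 = n118331 := d17_6 (iv1 F85317) (iv5 D54071) (iv1 F41479) D26684 D55222 D119998 (iv5 D118331) (iv0 F107847) (iv4 D71352)
def n119999 : Q := act 6 n55222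
theorem D119999 : act 6 n55222 = n119999 := rfl
theorem F189444 : act 4 n119999 = n55223 := d10_1 D119999 (iv6 D55223) D55222
def n120000 : Q := act 0 n55223
theorem D120000 : act 0 n55223 = n120000 := rfl
def n120001 : Q := act 7 n55223
theorem D120001 : act 7 n55223 = n120001 := rfl
theorem F189445 : act 3 n120001 = n55228 := d8_1 D120001 (iv7 D55228) (iv3 F87379)
theorem F189446 : act 6 n120001 = n74028 := d14_1 D120001 (iv7 D74028) (iv6 D33973) (iv7 F42765) D55223
def n120002 : Q := act 0 n55224
theorem D120002 : act 0 n55224 = n120002 := rfl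
theorem F189447 : act 1 n74035 = n120002 := d15_0 (iv0 D120002) F87380 D74035
def n120003 : Q := act 1 n55224
theorem D120003 : act 1 n55224 = n120003 := rfl
def n120004 : Q := act 2 n55224
theorem D120004 : act 2 n55224 = n120004 := rfl
theorem F189449 : act 7 n120004 = n74035 := d4_2 (iv7 F87380) D120004 (iv2 D74035)
theorem F189450 : act 1 n120004 = n74033 := d15_0 (iv0 D74033) (iv7 F87380) D120004
theorem F189451 : act 1 n120003 = n74035 := d15_1 D120003 (iv7 F189449) (iv2 D120004)
def n120005 : Q := act 6 n55224
theorem D120005 : act 6 n55224 = n120005 := rfl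
theorem F189453 : act 3 n120005 = n55225 := d7_1 D120005 (iv6 D55225) D55224
def n120006 : Q := act 5 n55225
theorem D120006 : act 5 n55225 = n120006 := rfl
theorem F189454 : act 2 n120006 = n74054 := d2_1 D120006 (iv5 D74054) (iv2 F87381)
def n120007 : Q := act 7 n55225
theorem D120007 : act 7 n55225 = n120007 := rfl
theorem F189455 : act 2 n120007 = n74055 := d4_1 D120007 (iv7 D74055) (iv2 F87381)
theorem F189456 : act 4 n120007 = n55228 := d11_1 D120007 (iv7 D55228) (iv4 F87382)
theorem F189457 : act 6 n120007 = n74040 := d14_1 D120007 (iv7 D74040) (iv6 D33978) (iv7 F42767) D55225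
theorem F189458 : act 1 n74053 = n120007 := d15_1 D74053 (iv7 D120007) F87381
theorem F189459 : act 1 n120007 = n74052 := d15_1 F189458 F113955 (iv2 F113923)
def n120008 : Q := act 4 n55226
theorem D120008 : act 4 n55226 = n120008 := rfl
theorem F189460 : act 2 n120008 = n74057 := d1_1 D120008 (iv4 D74057) (iv2 F87393)
theorem F189461 : act 7 n120008 = n70972 := d11_2 (iv7 F87392) D120008 (iv4 F108326)
theorem F189462 : act 0 n120008 = n70975 := d18_2 D55226 D120008 F107520 F52039 (iv4 F52033) F107323 (iv4 F107325) (iv0 F185043) F51800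
theorem F189463 : act 0 n118298 = n119999 := d20_7 D120008 F189462 F107520 F52038 (iv1 F42018) D54481 D118298 F189444 F87379 D55226
theorem E18773 : n118296 = n80598 := ((c18_10 (iv1 D118296) D118298 F189463 F189444 (iv5 F106995) F106994 F185045 F57660 D36777 D80598)).symm
theorem F189464 : act 0 n80598 = n54481 := (sb E18773 (iv1 D118296))
theorem F189465 : act 1 n80598 = n71050 := (sb E18773 F185854)
theorem E18774 : n70826 = n36777 := ((((iv5 D80598)).symm.trans (sb E18773 (iv5 F188922)))).symm
theorem E18775 : n80599 = n32824 := ((D80599).symm.trans (sb E18774 (iv6 D70826)))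
theorem F189466 : act 6 n32824 = n36777 := (sb E18775 (iv6 D80599))
theorem F189467 : act 6 n80595 = n70822 := d3_2 F189466 (iv2 F123925) F107297
theorem F189468 : act 6 n80596 = n70687 := d7_2 F189466 D80596 F189083
theorem F189469 : act 6 n80597 = n70824 := d10_2 F189466 D80597 (iv4 D70824)
theorem E18776 : n117980 = n79753 := ((c21_1 D79753 (iv1 F185142) F107556 (iv6 D71005) (iv1 F57672) (iv6 F189466) (iv5 F112445) (iv1 D61817) F57050 (iv6 D36324) D36320)).symm
theorem F189470 : act 0 n79753 = n70143 := (sb E18776 (iv1 F185142))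
theorem F189471 : act 1 n79753 = n54350 := (sb E18776 (iv0 D117980))
theorem F189472 : act 6 n118505 = n72042 := d10_2 F189468 F189084 F123926
theorem E18777 : n74057 = n70971 := (c15_4 (iv0 D70971) D70972 (iv7 F189461) F189460)
theorem F189474 : act 2 n70971 = n120008 := (sb E18777 (iv2 F189460))
theorem F189475 : act 4 n70971 = n33984 := (sb E18777 (iv4 D74057))
def n120009 : Q := act 6 n55226
theorem D120009 : act 6 n55226 = n120009 := rfl
theorem F189476 : act 2 n120009 = n74058 := d3_1 D120009 (iv6 D74058) (iv2 F87393)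
theorem F189477 : act 3 n120009 = n72077 := d7_1 D120009 (iv6 D72077) (iv3 F108537)
theorem F189478 : act 5 n120009 = n61389 := d12_1 D120009 (iv6 F108189) (iv5 F110418) (iv6 F189106) F189105
theorem F189479 : act 7 n120009 = n58410 := d14_2 (iv7 F87392) D120009 (iv6 D58410) (iv7 F44888) F60350
theorem F189480 : act 0 n69651 = n120009 := d21_4 (iv5 D15238) D15236 D32329 D69651 (iv6 D120009) (iv5 F189105) (iv1 F189107) (iv5 F110416) (iv6 D69671) (iv1 D32337)
theorem F189481 : act 1 n85308 = n120009 := d15_1 D85308 F189479 F92259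
def n120010 : Q := act 3 n55227
theorem D120010 : act 3 n55227 = n120010 := rfl
theorem F189482 : act 2 n120010 = n72079 := d0_1 D120010 (iv3 D72079) (iv2 F108535) F108324 (iv2 F87386)
theorem F189484 : act 6 n120010 = n58411 := d7_2 F87384 D120010 (iv3 D58411)
theorem F189485 : act 7 n120010 = n74056 := d8_2 F87394 D120010 (iv3 D74056)
def n120011 : Q := act 4 n55227
theorem D120011 : act 4 n55227 = n120011 := rfl
theorem F189486 : act 2 n120011 = n70972 := d1_1 D120011 (iv4 F108326) (iv2 F87386)
theorem F189487 : act 6 n120011 = n58412 := d10_2 F87384 D120011 (iv4 D58412)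
theorem F189488 : act 7 n120011 = n70971 := d11_2 F87394 D120011 F189475
theorem F189489 : act 0 n120011 = n55257 := d18_2 (iv1 F87383) D120011 F87449 F42806 (iv4 F51986) D70846 (iv4 F185135) F106996 F86794
theorem F189490 : act 1 n120011 = n70975 := d15_1 (iv0 F189489) (iv7 D70975) (iv2 F87448)
theorem F189491 : act 1 n120008 = n55257 := d15_0 (iv0 F189489) F189488 F189474
def n120012 : Q := act 0 n55229
theorem D120012 : act 0 n55229 = n120012 := rfl
theorem F189492 : act 4 n120012 = n114617 := d18_3 (iv1 F42775) D55229 D120012 (iv5 D114617) (iv4 F83599) F82877 F40672 F26806 D16024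
theorem F189493 : act 2 n74084 = n120012 := d15_3 (iv0 D120012) (iv0 F107047) (iv7 F110827)
theorem F189494 : act 1 n71287 = n120012 := d15_0 (iv0 D120012) F87396 (iv2 F107780)
theorem F189495 : act 7 n120012 = n74083 := d15_2 (iv0 F107781) F189494 (iv2 F110826)
def n120013 : Q := act 3 n55229
theorem D120013 : act 3 n55229 = n120013 := rfl
theorem F189497 : act 7 n120013 = n74085 := d8_2 (iv7 F87396) D120013 (iv3 D74085)
def n120014 : Q := act 5 n55229
theorem D120014 : act 5 n55229 = n120014 := rfl
theorem F189498 : act 7 n120014 = n74086 := d13_2 (iv7 F87396) D120014 (iv5 D74086)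
theorem F189499 : act 1 n120014 = n119267 := d17_6 F86143 (iv5 F43285) F50388 F42830 D55229 D120014 (iv5 D119267) (iv0 F186062) (iv4 D118409)
def n120015 : Q := act 6 n55229
theorem D120015 : act 6 n55229 = n120015 := rfl
theorem F189500 : act 4 n120015 = n55230 := d10_1 D120015 (iv6 D55230) D55229
def n120016 : Q := act 0 n55230
theorem D120016 : act 0 n55230 = n120016 := rfl
def n120017 : Q := act 1 n55230
theorem D120017 : act 1 n55230 = n120017 := rfl
def n120018 : Q := act 7 n55230
theorem D120018 : act 7 n55230 = n120018 := rfl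
theorem F189501 : act 3 n120018 = n55235 := d8_1 D120018 (iv7 D55235) (iv3 F87397)
theorem F189502 : act 6 n120018 = n74089 := d14_1 D120018 (iv7 D74089) (iv6 D33996) (iv7 F42769) D55230
def n120019 : Q := act 0 n55231
theorem D120019 : act 0 n55231 = n120019 := rfl
theorem F189503 : act 1 n74092 = n120019 := d15_0 (iv0 D120019) F87399 D74092
def n120020 : Q := act 1 n55231
theorem D120020 : act 1 n55231 = n120020 := rfl
def n120021 : Q := act 2 n55231
theorem D120021 : act 2 n55231 = n120021 := rfl
theorem F189504 : act 3 n120021 = n74068 := d0_2 D55231 D120021 (iv2 D74068) (iv3 D33990) (iv2 F42770)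
theorem F189506 : act 7 n120021 = n74092 := d4_2 (iv7 F87399) D120021 (iv2 D74092)
theorem F189508 : act 1 n120020 = n74092 := d15_1 D120020 (iv7 F189506) (iv2 D120021)
def n120022 : Q := act 6 n55231
theorem D120022 : act 6 n55231 = n120022 := rfl
theorem F189510 : act 3 n120022 = n55232 := d7_1 D120022 (iv6 D55232) D55231
def n120023 : Q := act 0 n55232
theorem D120023 : act 0 n55232 = n120023 := rfl
def n120024 : Q := act 1 n55232
theorem D120024 : act 1 n55232 = n120024 := rfl
theorem F189511 : act 1 n120024 = n74073 := d15_1 D120024 (iv7 D74073) (iv2 F87400)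
def n120025 : Q := act 5 n55232
theorem D120025 : act 5 n55232 = n120025 := rfl
theorem F189512 : act 2 n120025 = n74072 := d2_1 D120025 (iv5 D74072) (iv2 F87400)
theorem F189513 : act 6 n120025 = n120006 := d12_2 D55232 D120025 (iv5 D120006) (iv6 D55225) (iv5 F42772)
def n120026 : Q := act 7 n55232
theorem D120026 : act 7 n55232 = n120026 := rfl
theorem F189514 : act 2 n120026 = n74073 := d4_1 D120026 (iv7 D74073) (iv2 F87400)
theorem F189515 : act 4 n120026 = n55235 := d11_1 D120026 (iv7 D55235) (iv4 F87401)
theorem F189516 : act 6 n120026 = n74097 := d14_1 D120026 (iv7 D74097) (iv6 D33998) (iv7 F42771) D55232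
theorem F189517 : act 1 n74073 = n120023 := d15_0 (iv0 D120023) D120026 F189514
theorem F189518 : act 1 n74071 = n120026 := d15_1 D74071 (iv7 D120026) F87400
theorem F189519 : act 1 n120026 = n74070 := d15_0 (iv0 D74070) D74073 (iv2 F189514)
def n120027 : Q := act 2 n55233
theorem D120027 : act 2 n55233 = n120027 := rfl
theorem F189520 : act 6 n120027 = n85519 := d3_2 (iv6 F92359) D120027 F130712
theorem F189521 : act 7 n55234 = n120027 := d15_2 (iv0 D55233) D55234 (iv2 D120027)
def n120028 : Q := act 3 n55233
theorem D120028 : act 3 n55233 = n120028 := rfl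
theorem F189522 : act 6 n120028 = n85520 := d7_2 (iv6 F92359) D120028 (iv3 D85520)
def n120029 : Q := act 4 n55233
theorem D120029 : act 4 n55233 = n120029 := rfl
theorem F189523 : act 6 n120029 = n85521 := d10_2 (iv6 F92359) D120029 (iv4 D85521)
def n120030 : Q := act 5 n55233
theorem D120030 : act 5 n55233 = n120030 := rfl
theorem F189524 : act 0 n62573 = n120030 := d21_10 (iv5 D120030) (iv1 F87405) (iv5 F96082) F96083 (iv1 F96063) (iv6 F184355) (iv5 F184351) (iv1 F184353) F85700 D62573
def n120031 : Q := act 7 n55233
theorem D120031 : act 7 n55233 = n120031 := rfl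
theorem F189525 : act 2 n120031 = n55234 := d4_1 D120031 F189521 (iv2 D120027)
def n120032 : Q := act 3 n55234
theorem D120032 : act 3 n55234 = n120032 := rfl
def n120033 : Q := act 4 n55234
theorem D120033 : act 4 n55234 = n120033 := rfl
def n120034 : Q := act 6 n55234
theorem D120034 : act 6 n55234 = n120034 := rfl
theorem F189526 : act 5 n120034 = n85439 := d12_1 D120034 F130668 (iv5 D71768) D71769 F108233
theorem F189527 : act 7 n120034 = n85518 := d14_2 (iv7 F189521) D120034 (iv6 D85518) D85519 (iv6 F189520)
theorem F189528 : act 0 n69667 = n120034 := d21_4 (iv5 D68785) D68783 F104972 D69667 (iv6 D120034) (iv5 F108233) F184906 (iv5 F184904) (iv6 D117901) F104975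
theorem F189529 : act 2 n120034 = n74082 := d15_3 (iv0 F183554) (iv0 F130711) (iv7 F189527)
theorem E18778 : n74078 = n55234 := (c3_4 D120034 F189529 (iv6 D74082) (iv2 F110822))
theorem E18779 : n120031 = n33993 := (((iv2 F189525)).symm.trans (sb E18778 F110822))
theorem E18780 : n120027 = n33992 := ((F189521).symm.trans (sb E18778 (iv7 D74078)))
theorem F189530 : act 2 n33993 = n55234 := (sb E18779 F189525)
theorem E18781 : n74074 = n55233 := ((F110820).symm.trans (sb E18779 (iv7 D120031)))
theorem E18782 : n85519 = n58468 := (((F92353).symm.trans (sb E18780 F189520))).symm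
theorem F189531 : act 7 n33992 = n55234 := (sb E18780 (iv7 F189521))
theorem F189532 : act 2 n55233 = n33992 := (sb E18781 (iv2 D74074))
theorem F189533 : act 7 n55233 = n33993 := (sb E18781 (iv7 F110820))
theorem F189534 : act 2 n58468 = n39482 := (sb E18782 F130712)
theorem E18783 : n107872 = n34341 := (((F92352).symm.trans (sb E18782 (iv5 F166663)))).symm
theorem F189535 : act 7 n58468 = n39481 := (sb E18782 (iv7 D85519))
theorem E18784 : n74941 = n49820 := (((iv2 F112473)).symm.trans (sb E18783 F166662))
theorem E18785 : n74937 = n49819 := ((F112471).symm.trans (sb E18783 (iv7 D107872)))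
theorem F189536 : act 2 n49820 = n34341 := (sb E18784 F112473)
theorem E18786 : n107868 = n34340 := ((F166658).symm.trans (sb E18784 (iv7 D74941)))
theorem F189537 : act 7 n49819 = n34341 := (sb E18785 (iv7 F112471))
theorem F189538 : act 2 n34340 = n49819 := (sb E18786 (iv2 D107868))
theorem E18787 : n85515 = n58467 := ((((iv5 F92350)).symm.trans (sb E18786 F166657))).symm
theorem F189539 : act 7 n34340 = n49820 := (sb E18786 (iv7 F166658))
theorem F189540 : act 2 n58467 = n39481 := (sb E18787 (iv2 D85515))
theorem F189541 : act 7 n58467 = n39482 := (sb E18787 (iv7 F130710))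
theorem F189542 : act 7 n107873 = n74938 := d8_2 F189539 D107873 (iv3 D74938)
theorem F189543 : act 7 n107874 = n74939 := d11_2 F189539 D107874 (iv4 D74939)
theorem F189544 : act 2 n107870 = n74939 := d1_3 (iv4 D74939) F189538 D107870
theorem F189545 : act 2 n107871 = n74940 := d3_3 (iv6 D74940) F189538 D107871
theorem F189546 : act 2 n71255 = n74868 := d2_3 (iv5 F166660) F189545 F112472
theorem F189547 : act 7 n74867 = n71255 := d15_2 F112368 (iv0 F112367) F189546
theorem F189548 : act 7 n71254 = n74868 := d15_2 F112372 F112373 (iv2 F189546)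
theorem F189549 : act 2 n74867 = n71254 := d4_3 F189548 (iv2 F189546) (iv7 F189547)
theorem F189550 : act 2 n118644 = n71773 := d3_3 (iv6 F112366) F189549 (iv6 F186606)
theorem E18788 : n71770 = n54629 := (c2_4 D118644 F189550 (iv5 D71773) (iv2 F108234))
theorem E18789 : n118641 = n33176 := (((iv2 F186605)).symm.trans (sb E18788 F108234))
theorem E18790 : n118637 = n33175 := ((F186603).symm.trans (sb E18788 (iv7 D71770)))
theorem F189551 : act 2 n33176 = n54629 := (sb E18789 F186605)
theorem E18791 : n71765 = n54628 := ((F108232).symm.trans (sb E18789 (iv7 D118641)))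
theorem F189552 : act 7 n33175 = n54629 := (sb E18790 (iv7 F186603))
theorem F189553 : act 2 n54628 = n33175 := (sb E18791 (iv2 D71765))
theorem F189554 : act 7 n54628 = n33176 := (sb E18791 (iv7 F108232))
theorem F189555 : act 7 n71771 = n118638 := d8_2 F189554 D71771 (iv3 D118638)
theorem F189556 : act 7 n71772 = n118639 := d11_2 F189554 D71772 (iv4 D118639)
theorem F189557 : act 7 n71773 = n118640 := d13_2 F189554 D71773 (iv5 D118640)
theorem F189558 : act 2 n71767 = n118639 := d1_3 (iv4 D118639) F189553 D71767
theorem F189559 : act 2 n71768 = n118640 := d2_3 (iv5 D118640) F189553 D71768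
theorem F189560 : act 2 n71769 = n74081 := d3_3 F110823 F189553 D71769
theorem F189561 : act 7 n118644 = n71768 := d4_0 F189559 (iv7 F189557) (iv2 F189550)
theorem F189562 : act 1 n71273 = n118644 := d15_1 (iv0 F186604) F189561 F189559
theorem F189563 : act 1 n118425 = n71773 := d15_1 (iv0 F186216) F189557 (iv2 F189559)
theorem F189564 : act 7 n118642 = n71766 := d8_2 F189552 D118642 (iv3 D71766)
theorem F189565 : act 7 n118643 = n71767 := d11_2 F189552 D118643 (iv4 D71767)
theorem F189566 : act 2 n71772 = n118643 := d4_3 F189565 F189558 (iv7 F189556)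
theorem F189567 : act 2 n118645 = n71774 := d3_3 (iv6 D71774) F189551 D118645
theorem F189568 : act 7 n74942 = n107869 := d8_2 F189537 D74942 (iv3 D107869)
theorem F189569 : act 7 n74943 = n107870 := d11_2 F189537 D74943 (iv4 D107870)
theorem F189570 : act 2 n107874 = n74943 := d4_3 F189569 F189544 (iv7 F189543)
theorem F189571 : act 2 n74944 = n107875 := d3_3 (iv6 D107875) F189536 D74944
theorem F189572 : act 7 n74978 = n107875 := d15_2 (iv0 F112474) D74978 (iv2 F189571)
theorem F189573 : act 7 n74079 = n120028 := d8_2 F189533 D74079 (iv3 D120028)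
theorem F189574 : act 7 n74080 = n120029 := d11_2 F189533 D74080 (iv4 D120029)
theorem F189575 : act 7 n74081 = n120030 := d13_2 F189533 D74081 (iv5 D120030)
theorem F189576 : act 2 n120030 = n74077 := d15_3 (iv0 F110821) (iv0 F112643) F189575
theorem F189577 : act 7 n71769 = n74077 := d4_2 (iv7 F189575) (iv2 F189560) (iv2 F189576)
theorem F189578 : act 2 n74076 = n120029 := d1_3 (iv4 D120029) F189532 D74076
theorem F189579 : act 7 n120032 = n74075 := d8_2 F189531 D120032 (iv3 D74075)
theorem F189580 : act 7 n120033 = n74076 := d11_2 F189531 D120033 (iv4 D74076)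
theorem F189581 : act 2 n74080 = n120033 := d4_3 F189580 F189578 (iv7 F189574)
theorem F189582 : act 0 n120034 = n118971 := d21_1 (iv5 F189526) (iv5 D118971) (iv6 F187062) (iv1 D118956) (iv6 D54743) (iv5 F42336) F42337 D18699 (iv6 F60374) D85439
def n120035 : Q := act 3 n55236
theorem D120035 : act 3 n55236 = n120035 := rfl
theorem F189583 : act 4 n120035 = n55238 := d5_2 D55236 D120035 (iv3 D55238) (iv4 D26691) D26690
def n120036 : Q := act 5 n55236
theorem D120036 : act 5 n55236 = n120036 := rfl
theorem F189586 : act 1 n120036 = n71141 := d17_6 F86406 (iv5 F55657) (iv1 F55659) (iv5 F54572) D55236 D120036 (iv5 D71141) D71139 F107649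
def n120037 : Q := act 6 n55236
theorem D120037 : act 6 n55236 = n120037 := rfl
theorem F189587 : act 4 n120037 = n55237 := d10_1 D120037 (iv6 D55237) D55236
def n120038 : Q := act 0 n55237
theorem D120038 : act 0 n55237 = n120038 := rfl
def n120039 : Q := act 1 n55237
theorem D120039 : act 1 n55237 = n120039 := rfl
def n120040 : Q := act 7 n55237
theorem D120040 : act 7 n55237 = n120040 := rfl
theorem F189588 : act 3 n120040 = n55242 := d8_1 D120040 (iv7 D55242) (iv3 F87410)
theorem F189589 : act 6 n120040 = n74065 := d14_1 D120040 (iv7 D74065) (iv6 D33989) (iv7 F42777) D55237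
def n120041 : Q := act 0 n55238
theorem D120041 : act 0 n55238 = n120041 := rfl
def n120042 : Q := act 1 n55238
theorem D120042 : act 1 n55238 = n120042 := rfl
def n120043 : Q := act 2 n55238
theorem D120043 : act 2 n55238 = n120043 := rfl
theorem F189591 : act 3 n120043 = n74092 := d0_2 D55238 D120043 (iv2 D74092) (iv3 D33997) (iv2 F42778)
theorem F189592 : act 5 n120043 = n119984 := d2_2 (iv5 F87411) D120043 (iv2 D119984)
def n120044 : Q := act 6 n55238
theorem D120044 : act 6 n55238 = n120044 := rfl
theorem F189597 : act 3 n120044 = n55239 := d7_1 D120044 (iv6 D55239) D55238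
def n120045 : Q := act 0 n55239
theorem D120045 : act 0 n55239 = n120045 := rfl
def n120046 : Q := act 1 n55239
theorem D120046 : act 1 n55239 = n120046 := rfl
theorem F189598 : act 1 n120046 = n74097 := d15_1 D120046 (iv7 D74097) (iv2 F87413)
def n120047 : Q := act 5 n55239
theorem D120047 : act 5 n55239 = n120047 := rfl
theorem F189600 : act 6 n120047 = n119988 := d12_2 D55239 D120047 (iv5 D119988) (iv6 D55216) (iv5 F42779)
def n120048 : Q := act 7 n55239
theorem D120048 : act 7 n55239 = n120048 := rfl
theorem F189601 : act 2 n120048 = n74097 := d4_1 D120048 (iv7 D74097) (iv2 F87413)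
theorem F189602 : act 4 n120048 = n55242 := d11_1 D120048 (iv7 D55242) (iv4 F87414)
theorem F189603 : act 6 n120048 = n74073 := d14_1 D120048 (iv7 D74073) (iv6 D33991) (iv7 F42780) D55239
theorem F189604 : act 1 n74097 = n120045 := d15_0 (iv0 D120045) D120048 F189601
theorem F189605 : act 1 n74095 = n120048 := d15_1 D74095 (iv7 D120048) F87413
theorem F189606 : act 4 n74169 = n120045 := d20_0 (iv1 F189604) F110835 (iv3 F110831) (iv1 F184160) F184163 (iv4 F182803) (iv1 D116955) (iv4 D53900) (iv3 F53355) D74169
theorem F189607 : act 7 n120045 = n74095 := d11_2 F110902 F189606 (iv4 F182813)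
theorem F189608 : act 2 n74095 = n120046 := d15_3 F189598 F189604 F189607
theorem F189609 : act 2 n120045 = n74094 := d15_3 (iv0 D74094) D74095 (iv7 F189607)
theorem F189610 : act 4 n74094 = n60436 := d1_2 F189606 F189609 F110901
theorem F189611 : act 7 n74094 = n120046 := d4_2 (iv7 F189607) F189609 (iv2 F189608)
theorem F189612 : act 4 n120046 = n74170 := d11_1 F189611 F110904 (iv4 F189610)
theorem F189613 : act 1 n120048 = n74094 := d15_1 F189605 F189611 (iv2 F189608)
theorem F189614 : act 0 n116927 = n75127 := d18_2 (iv1 F112688) D116927 F112633 F54578 (iv4 F87414) D120046 F189612 F110903 (iv5 F112686)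
theorem F189615 : act 6 n70961 = n74094 := d10_0 F189610 F94955 D70961
def n120049 : Q := act 4 n55240
theorem D120049 : act 4 n55240 = n120049 := rfl
theorem F189616 : act 2 n120049 = n74100 := d1_1 D120049 (iv4 D74100) (iv2 F185089)
theorem F189617 : act 7 n120049 = n74105 := d11_2 (iv7 F185090) D120049 (iv4 D74105)
theorem F189618 : act 0 n120049 = n74123 := d20_7 D68074 (iv1 F105649) (iv4 D54232) (iv3 F85553) D117706 F185130 D120049 (iv4 F110909) F110908 (iv1 F84988)
theorem E18792 : n74120 = n74100 := ((c15_4 (iv0 D74120) (iv0 F184307) (iv7 F189617) F189616)).symm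
theorem F189619 : act 1 n74100 = n34005 := (sb E18792 (iv0 D74120))
def n120050 : Q := act 3 n55241
theorem D120050 : act 3 n55241 = n120050 := rfl
theorem F189620 : act 6 n120050 = n85479 := d7_2 F113844 D120050 (iv3 D85479)
theorem F189621 : act 7 n120050 = n74099 := d8_2 (iv7 F185087) D120050 (iv3 D74099)
def n120051 : Q := act 4 n55241
theorem D120051 : act 4 n55241 = n120051 := rfl
theorem F189622 : act 2 n120051 = n74105 := d1_1 D120051 (iv4 D74105) (iv2 F185086)
theorem F189623 : act 6 n120051 = n85480 := d10_2 F113844 D120051 (iv4 D85480)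
theorem F189624 : act 7 n120051 = n74100 := d11_2 (iv7 F185087) D120051 (iv4 D74100)
theorem F189625 : act 1 n120051 = n74123 := d15_0 (iv0 F189618) F189617 (iv2 F189622)
theorem F189626 : act 1 n55246 = n120051 := d15_0 F189625 (iv7 D74123) (iv2 F87425)
theorem F189627 : act 1 n120049 = n55246 := d15_0 F189626 F189624 (iv2 F189616)
def n120052 : Q := act 0 n55243
theorem D120052 : act 0 n55243 = n120052 := rfl
theorem F189628 : act 1 n74118 = n120052 := d15_0 (iv0 D120052) F87421 D74118
def n120053 : Q := act 1 n55243
theorem D120053 : act 1 n55243 = n120053 := rfl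
def n120054 : Q := act 2 n55243
theorem D120054 : act 2 n55243 = n120054 := rfl
theorem F189629 : act 3 n120054 = n74109 := d0_2 D55243 D120054 (iv2 D74109) (iv3 D34002) F42785
theorem F189630 : act 7 n120054 = n74118 := d4_2 (iv7 F87421) D120054 (iv2 D74118)
theorem F189631 : act 1 n120054 = n74116 := d15_0 (iv0 D74116) (iv7 F87421) D120054
theorem F189633 : act 1 n74117 = n120054 := d15_1 D74117 F189630 (iv2 D74118)
def n120055 : Q := act 6 n55243
theorem D120055 : act 6 n55243 = n120055 := rfl
theorem F189634 : act 3 n120055 = n55244 := d7_1 D120055 (iv6 D55244) D55243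
def n120056 : Q := act 0 n55244
theorem D120056 : act 0 n55244 = n120056 := rfl
def n120057 : Q := act 1 n55244
theorem D120057 : act 1 n55244 = n120057 := rfl
theorem F189635 : act 1 n120057 = n74115 := d15_1 D120057 (iv7 D74115) (iv2 F87422)
def n120058 : Q := act 5 n55244
theorem D120058 : act 5 n55244 = n120058 := rfl
theorem F189636 : act 2 n120058 = n74114 := d2_1 D120058 (iv5 D74114) (iv2 F87422)
def n120059 : Q := act 7 n55244
theorem D120059 : act 7 n55244 = n120059 := rfl
theorem F189637 : act 2 n120059 = n74115 := d4_1 D120059 (iv7 D74115) (iv2 F87422)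
theorem F189638 : act 4 n120059 = n60433 := d11_1 D120059 (iv7 D60433) (iv4 F87423)
theorem F189639 : act 6 n120059 = n74123 := d14_1 D120059 (iv7 D74123) (iv6 D34005) F42786 D55244
theorem F189640 : act 1 n74115 = n120056 := d15_0 (iv0 D120056) D120059 F189637
theorem F189641 : act 1 n74113 = n120059 := d15_1 D74113 (iv7 D120059) F87422
theorem F189642 : act 1 n120059 = n74112 := d15_0 (iv0 D74112) D74115 (iv2 F189637)
def n120060 : Q := act 0 n55245
theorem D120060 : act 0 n55245 = n120060 := rfl
theorem F189643 : act 1 n74109 = n120060 := d15_0 (iv0 D120060) F87424 D74109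
def n120061 : Q := act 1 n55245
theorem D120061 : act 1 n55245 = n120061 := rfl
def n120062 : Q := act 2 n55245
theorem D120062 : act 2 n55245 = n120062 := rfl
theorem F189644 : act 3 n120062 = n74118 := d0_2 D55245 D120062 (iv2 D74118) (iv3 D34004) F42790
theorem F189645 : act 7 n120062 = n74109 := d4_2 (iv7 F87424) D120062 (iv2 D74109)
theorem F189646 : act 1 n120062 = n74107 := d15_0 (iv0 D74107) (iv7 F87424) D120062
theorem F189647 : act 1 n120061 = n74109 := d15_1 D120061 (iv7 F189645) (iv2 D120062)
theorem F189648 : act 1 n74108 = n120062 := d15_1 D74108 F189645 (iv2 D74109)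
def n120063 : Q := act 4 n55245
theorem D120063 : act 4 n55245 = n120063 := rfl
theorem F189649 : act 3 n120063 = n60434 := d5_1 D120063 (iv4 D60434) (iv3 D28701) (iv4 F42789) D55245
theorem F189650 : act 7 n120063 = n74110 := d11_2 (iv7 F87424) D120063 (iv4 D74110)
def n120064 : Q := act 6 n55245
theorem D120064 : act 6 n55245 = n120064 := rfl
theorem F189651 : act 3 n120064 = n55246 := d7_1 D120064 (iv6 D55246) D55245
def n120065 : Q := act 5 n55246
theorem D120065 : act 5 n55246 = n120065 := rfl
def n120066 : Q := act 7 n55246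
theorem D120066 : act 7 n55246 = n120066 := rfl
theorem F189654 : act 4 n120066 = n60438 := d11_1 D120066 (iv7 D60438) (iv4 F87426)
theorem F189655 : act 6 n120066 = n74115 := d14_1 D120066 (iv7 D74115) (iv6 D34003) (iv7 F42788) D55246
theorem F189656 : act 1 n74105 = n120066 := d15_1 (iv0 F184307) (iv7 D120066) F87425
theorem F189657 : act 1 n120066 = n74100 := d15_1 F189656 (iv7 F189624) F189622
def n120067 : Q := act 2 n55247
theorem D120067 : act 2 n55247 = n120067 := rfl
theorem F189658 : act 7 n55248 = n120067 := d15_2 (iv0 D55247) D55248 (iv2 D120067)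
def n120068 : Q := act 3 n55247
theorem D120068 : act 3 n55247 = n120068 := rfl
def n120069 : Q := act 4 n55247
theorem D120069 : act 4 n55247 = n120069 := rfl
def n120070 : Q := act 5 n55247
theorem D120070 : act 5 n55247 = n120070 := rfl
def n120071 : Q := act 6 n55247
theorem D120071 : act 6 n55247 = n120071 := rfl
def n120072 : Q := act 7 n55247
theorem D120072 : act 7 n55247 = n120072 := rfl
theorem F189659 : act 2 n120072 = n55248 := d4_1 D120072 F189658 (iv2 D120067)
def n120073 : Q := act 3 n55248
theorem D120073 : act 3 n55248 = n120073 := rfl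
def n120074 : Q := act 4 n55248
theorem D120074 : act 4 n55248 = n120074 := rfl
def n120075 : Q := act 5 n55248
theorem D120075 : act 5 n55248 = n120075 := rfl
def n120076 : Q := act 6 n55248
theorem D120076 : act 6 n55248 = n120076 := rfl
def n120079 : Q := act 2 n55251
theorem D120079 : act 2 n55251 = n120079 := rfl
theorem F189662 : act 3 n120079 = n74149 := d0_2 D55251 D120079 (iv2 D74149) (iv3 D34013) (iv2 F42796)
theorem F189664 : act 5 n120079 = n120062 := d2_2 (iv5 F87434) D120079 (iv2 D120062)
def n120080 : Q := act 6 n55251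
theorem D120080 : act 6 n55251 = n120080 := rfl
theorem F189669 : act 3 n120080 = n55252 := d7_1 D120080 (iv6 D55252) D55251
theorem F189670 : act 4 n120080 = n71222 := d10_1 D120080 (iv6 D71222) (iv4 F87433)
def n120081 : Q := act 0 n55252
theorem D120081 : act 0 n55252 = n120081 := rfl
def n120082 : Q := act 1 n55252
theorem D120082 : act 1 n55252 = n120082 := rfl
theorem F189671 : act 1 n120082 = n74154 := d15_1 D120082 (iv7 D74154) (iv2 F87436)
def n120083 : Q := act 5 n55252
theorem D120083 : act 5 n55252 = n120083 := rfl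
theorem F189673 : act 6 n120083 = n120065 := d12_2 D55252 D120083 (iv5 D120065) (iv6 D55246) (iv5 F42798)
def n120084 : Q := act 7 n55252
theorem D120084 : act 7 n55252 = n120084 := rfl
theorem F189674 : act 2 n120084 = n74154 := d4_1 D120084 (iv7 D74154) (iv2 F87436)
theorem F189675 : act 4 n120084 = n55255 := d11_1 D120084 (iv7 D55255) (iv4 F87437)
theorem F189676 : act 6 n120084 = n70975 := d14_1 D120084 (iv7 D70975) F52037 (iv7 F42797) D55252
theorem F189677 : act 1 n74154 = n120081 := d15_0 (iv0 D120081) D120084 F189674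
theorem F189678 : act 1 n74152 = n120084 := d15_1 D74152 (iv7 D120084) F87436
theorem F189679 : act 1 n120084 = n74151 := d15_0 (iv0 D74151) D74154 (iv2 F189674)
def n120085 : Q := act 3 n55253
theorem D120085 : act 3 n55253 = n120085 := rfl
theorem F189680 : act 6 n120085 = n85776 := d7_2 (iv6 F112683) D120085 (iv3 D85776)
theorem F189681 : act 7 n120085 = n74160 := d8_2 (iv7 F131536) D120085 (iv3 D74160)
def n120086 : Q := act 4 n55253
theorem D120086 : act 4 n55253 = n120086 := rfl
theorem F189682 : act 2 n120086 = n74157 := d1_1 D120086 (iv4 D74157) (iv2 F131535)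
theorem F189683 : act 6 n120086 = n85777 := d10_2 (iv6 F112683) D120086 (iv4 D85777)
theorem F189684 : act 7 n120086 = n74161 := d11_2 (iv7 F131536) D120086 (iv4 D74161)
def n120087 : Q := act 5 n55253
theorem D120087 : act 5 n55253 = n120087 := rfl
theorem F189685 : act 2 n120087 = n74158 := d2_1 D120087 (iv5 D74158) (iv2 F131535)
theorem F189686 : act 7 n120087 = n68404 := d13_2 (iv7 F131536) D120087 F104571
def n120088 : Q := act 3 n55254
theorem D120088 : act 3 n55254 = n120088 := rfl
theorem F189688 : act 7 n120088 = n74156 := d8_2 (iv7 F131533) D120088 (iv3 D74156)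
def n120089 : Q := act 4 n55254
theorem D120089 : act 4 n55254 = n120089 := rfl
theorem F189689 : act 2 n120089 = n74161 := d1_1 D120089 (iv4 D74161) (iv2 F131532)
theorem F189690 : act 7 n120089 = n74157 := d11_2 (iv7 F131533) D120089 (iv4 D74157)
def n120090 : Q := act 6 n55254
theorem D120090 : act 6 n55254 = n120090 := rfl
theorem F189692 : act 5 n120090 = n117176 := d12_1 D120090 F183321 (iv5 F94905) D74813 F112272
theorem F189693 : act 7 n120090 = n85781 := d14_2 (iv7 F131533) D120090 (iv6 D85781) (iv7 F131541) (iv6 F92490)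
theorem F189694 : act 0 n120090 = n59988 := d21_10 (iv5 D59988) (iv1 F77162) F77159 (iv6 D39590) (iv1 F46259) D60428 (iv5 F106263) F112273 F112272 D120090
theorem F189695 : act 1 n120090 = n59993 := d15_1 (iv0 F189694) (iv7 F182284) (iv2 F182283)
def n120091 : Q := act 0 n55256
theorem D120091 : act 0 n55256 = n120091 := rfl
theorem F189696 : act 1 n74149 = n120091 := d15_0 (iv0 D120091) F87447 D74149
def n120092 : Q := act 1 n55256
theorem D120092 : act 1 n55256 = n120092 := rfl
def n120093 : Q := act 2 n55256
theorem D120093 : act 2 n55256 = n120093 := rfl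
theorem F189697 : act 3 n120093 = n70992 := d0_2 D55256 D120093 (iv2 D70992) (iv3 D32880) (iv2 F42802)
theorem F189698 : act 5 n120093 = n120054 := d2_2 (iv5 F87446) D120093 (iv2 D120054)
theorem F189699 : act 7 n120093 = n74149 := d4_2 (iv7 F87447) D120093 (iv2 D74149)
theorem F189700 : act 1 n120093 = n74147 := d15_0 (iv0 D74147) (iv7 F87447) D120093
theorem F189702 : act 1 n74148 = n120093 := d15_1 D74148 F189699 (iv2 D74149)
def n120094 : Q := act 6 n55256
theorem D120094 : act 6 n55256 = n120094 := rfl
theorem F189703 : act 3 n120094 = n55257 := d7_1 D120094 (iv6 D55257) D55256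
def n120095 : Q := act 5 n55257
theorem D120095 : act 5 n55257 = n120095 := rfl
theorem F189704 : act 2 n120095 = n70974 := d2_1 D120095 (iv5 D70974) (iv2 F87448)
theorem F189705 : act 6 n120095 = n120058 := d12_2 D55257 D120095 (iv5 D120058) (iv6 D55244) (iv5 F42803)
def n120096 : Q := act 7 n55257
theorem D120096 : act 7 n55257 = n120096 := rfl
theorem F189707 : act 4 n120096 = n55260 := d11_1 D120096 (iv7 D55260) (iv4 F87449)
theorem F189708 : act 6 n120096 = n74154 := d14_1 D120096 (iv7 D74154) (iv6 D34014) (iv7 F42804) D55257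
theorem F189709 : act 1 n70972 = n120096 := d15_1 D70972 (iv7 D120096) F87448
theorem F189710 : act 1 n120096 = n70971 := d15_1 F189709 (iv7 F189488) F189486
theorem F189711 : act 4 n118242 = n119245 := d20_6 (iv4 F189475) (iv1 F189710) F189707 (iv3 F185712) (iv1 F185715) D118242 (iv1 D119245) (iv4 D54882) F42499 D33984
theorem F189712 : act 6 n119245 = n85280 := d10_2 (iv6 F185774) F189711 (iv4 F131911)
def n120097 : Q := act 3 n55258
theorem D120097 : act 3 n55258 = n120097 := rfl
theorem F189713 : act 7 n120097 = n70969 := d8_2 (iv7 F87459) D120097 (iv3 D70969)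
def n120098 : Q := act 6 n55258
theorem D120098 : act 6 n55258 = n120098 := rfl
theorem F189714 : act 2 n120098 = n70968 := d3_1 D120098 (iv6 D70968) (iv2 F87460)
theorem F189715 : act 5 n120098 = n61382 := d12_1 D120098 (iv6 F107293) (iv5 F110507) (iv6 F185586) F185585
theorem F189716 : act 7 n120098 = n58547 := d14_2 (iv7 F87459) D120098 (iv6 D58547) (iv7 F44978) F57135
theorem F189717 : act 0 n85760 = n120098 := d21_4 F55096 D48936 D105854 F162558 (iv6 D120098) (iv5 F185585) (iv1 F185587) (iv5 F131951) F131950 (iv1 D76269)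
theorem F189718 : act 1 n85761 = n120098 := d15_1 D85761 F189716 F92483
theorem F189719 : act 6 n85761 = n70218 := d21_5 F107491 (iv1 F185588) F185585 D120098 (iv1 F189718) (iv5 F185375) F185374 (iv5 F107493) (iv6 D70946) D70943
def n120099 : Q := act 3 n55259
theorem D120099 : act 3 n55259 = n120099 := rfl
theorem F189720 : act 5 n120099 = n70454 := d6_2 F87452 D120099 F106921
theorem F189721 : act 6 n120099 = n58548 := d7_2 F87451 D120099 (iv3 D58548)
theorem F189722 : act 7 n120099 = n70966 := d8_2 F87461 D120099 (iv3 D70966)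
theorem F189723 : act 4 n120099 = n118851 := d20_6 (iv4 F86032) (iv1 F86033) F52104 (iv3 F52038) (iv1 F87450) D120099 (iv1 D118851) (iv4 D54704) F42312 D26471
def n120100 : Q := act 0 n55262
theorem D120100 : act 0 n55262 = n120100 := rfl
def n120101 : Q := act 1 n55262
theorem D120101 : act 1 n55262 = n120101 := rfl
def n120102 : Q := act 5 n55262
theorem D120102 : act 5 n55262 = n120102 := rfl
def n120103 : Q := act 7 n55262
theorem D120103 : act 7 n55262 = n120103 := rfl
theorem F189724 : act 4 n120103 = n55265 := d11_1 D120103 (iv7 D55265) (iv4 F87466)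
def n120104 : Q := act 2 n55263
theorem D120104 : act 2 n55263 = n120104 := rfl
theorem F189725 : act 7 n55264 = n120104 := d15_2 (iv0 D55263) D55264 (iv2 D120104)
def n120105 : Q := act 3 n55263
theorem D120105 : act 3 n55263 = n120105 := rfl
def n120106 : Q := act 4 n55263
theorem D120106 : act 4 n55263 = n120106 := rfl
def n120107 : Q := act 5 n55263
theorem D120107 : act 5 n55263 = n120107 := rfl
def n120108 : Q := act 6 n55263
theorem D120108 : act 6 n55263 = n120108 := rfl
def n120109 : Q := act 7 n55263
theorem D120109 : act 7 n55263 = n120109 := rfl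
theorem F189726 : act 2 n120109 = n55264 := d4_1 D120109 F189725 (iv2 D120104)
def n120110 : Q := act 3 n55264
theorem D120110 : act 3 n55264 = n120110 := rfl
def n120111 : Q := act 4 n55264
theorem D120111 : act 4 n55264 = n120111 := rfl
def n120112 : Q := act 5 n55264
theorem D120112 : act 5 n55264 = n120112 := rfl
def n120113 : Q := act 6 n55264
theorem D120113 : act 6 n55264 = n120113 := rfl
def n120114 : Q := act 2 n55267
theorem D120114 : act 2 n55267 = n120114 := rfl
theorem F189727 : act 7 n120114 = n76397 := d4_2 (iv7 F177474) D120114 (iv2 F177465)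
def n120115 : Q := act 4 n55267
theorem D120115 : act 4 n55267 = n120115 := rfl
theorem F189728 : act 0 n76596 = n120115 := d20_7 F56565 (iv1 F55213) F177659 D114046 F177539 F83231 (iv4 F114871) (iv4 D120115) (iv3 D55267) (iv1 F56569)
def n120116 : Q := act 5 n55267
theorem D120116 : act 5 n55267 = n120116 := rfl
theorem F189729 : act 3 n120116 = n55269 := d6_1 D120116 (iv5 D55269) D55267
def n120117 : Q := act 6 n55267
theorem D120117 : act 6 n55267 = n120117 := rfl
theorem F189730 : act 3 n120117 = n55270 := d7_1 D120117 (iv6 D55270) D55267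
theorem F189731 : act 5 n114909 = n120117 := d6_0 F189730 F87469 D114909
theorem F189732 : act 0 n114909 = n71434 := d21_7 (iv5 D26987) (iv1 F21472) D16927 D34907 (iv1 F177473) D120117 (iv5 F189731) (iv5 D71434) (iv6 D33053) (iv1 F43571)
def n120118 : Q := act 4 n55269
theorem D120118 : act 4 n55269 = n120118 := rfl
def n120119 : Q := act 6 n55269
theorem D120119 : act 6 n55269 = n120119 := rfl
theorem F189733 : act 5 n120119 = n114911 := d12_1 D120119 (iv6 D114911) (iv5 F87469) (iv6 D55270) D55269
def n120120 : Q := act 4 n55272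
theorem D120120 : act 4 n55272 = n120120 := rfl
def n120121 : Q := act 4 n55274
theorem D120121 : act 4 n55274 = n120121 := rfl
def n120122 : Q := act 4 n55278
theorem D120122 : act 4 n55278 = n120122 := rfl
theorem F189734 : act 0 n120122 = n118542 := d18_2 (iv1 F87481) D120122 (iv4 D118542) (iv5 D54589) (iv4 D26398) F42131 (iv4 F82390) (iv0 D52121) D52122
theorem F189735 : act 1 n120122 = n118532 := d18_6 (iv1 D24837) F19127 D12769 D26713 D55278 D120122 (iv4 D118532) F86269 (iv5 D51060)
def n120123 : Q := act 6 n55278
theorem D120123 : act 6 n55278 = n120123 := rfl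
def n120124 : Q := act 7 n55278
theorem D120124 : act 7 n55278 = n120124 := rfl
theorem F189736 : act 2 n120124 = n55283 := d4_1 D120124 (iv7 F97538) F97536
theorem F189737 : act 5 n120124 = n55279 := d13_1 D120124 (iv7 D55279) D55278
theorem F189738 : act 1 n61651 = n120124 := d15_1 F97539 (iv7 D120124) (iv2 F97536)
theorem F189739 : act 1 n120124 = n112921 := d15_1 F189738 (iv7 D112921) (iv2 F96218)
def n120125 : Q := act 0 n55280
theorem D120125 : act 0 n55280 = n120125 := rfl
theorem F189740 : act 5 n120125 = n118568 := d17_1 D120125 (iv1 D118568) (iv5 D54599) (iv4 D26402) (iv5 D12599) D12598 D26399 (iv0 F42821) D55280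
theorem F189741 : act 4 n120125 = n61655 := d18_3 F42822 D55280 D120125 F96226 F50577 F82395 F82390 F42132 D26396
theorem F189742 : act 7 n61653 = n120125 := d11_0 F189741 (iv7 D61655) D61653
theorem F189743 : act 1 n55284 = n120125 := d18_6 (iv1 F50486) (iv4 F87471) (iv1 F87476) (iv4 D26716) D26717 D55284 F189741 (iv0 F96227) (iv5 D50014)
def n120126 : Q := act 1 n55280
theorem D120126 : act 1 n55280 = n120126 := rfl
theorem F189744 : act 1 n120126 = n55284 := d15_1 D120126 (iv7 F96062) F96061
theorem F189745 : act 4 n120126 = n61649 := d18_7 F93548 (iv4 F56622) (iv1 F76665) (iv4 D26713) D26714 D55280 D120126 F97953 F97951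
theorem F189746 : act 2 n61653 = n120126 := d1_3 F189745 F96214 D61653
theorem F189747 : act 5 n118567 = n120126 := d17_3 (iv1 D54597) D54599 D118567 F189745 (iv5 D61649) F54253 D62761 F97915 F86282
def n120127 : Q := act 3 n55280
theorem D120127 : act 3 n55280 = n120127 := rfl
def n120128 : Q := act 5 n55280
theorem D120128 : act 5 n55280 = n120128 := rfl
def n120129 : Q := act 6 n55280
theorem D120129 : act 6 n55280 = n120129 := rfl
theorem F189749 : act 4 n120129 = n55281 := d10_1 D120129 (iv6 D55281) D55280
def n120130 : Q := act 7 n55280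
theorem D120130 : act 7 n55280 = n120130 := rfl
theorem F189750 : act 2 n120130 = n55284 := d4_1 D120130 (iv7 F96062) F96061
theorem F189751 : act 4 n120130 = n55282 := d11_1 D120130 (iv7 D55282) D55280
theorem F189752 : act 1 n61653 = n120130 := d15_1 (iv0 F96223) (iv7 D120130) (iv2 F96061)
def n120131 : Q := act 0 n55281
theorem D120131 : act 0 n55281 = n120131 := rfl
theorem F189753 : act 2 n74844 = n120131 := d15_3 (iv0 D120131) (iv0 F180399) (iv7 F112328)
theorem F189754 : act 7 n120131 = n117578 := d4_2 (iv7 F112328) F189753 F184178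
theorem F189755 : act 1 n117580 = n120131 := d15_1 F184182 F189754 F184178
def n120132 : Q := act 7 n55281
theorem D120132 : act 7 n55281 = n120132 := rfl
theorem F189757 : act 5 n120132 = n117500 := d13_1 D120132 (iv7 D117500) (iv5 F87488)
theorem F189758 : act 1 n117578 = n120132 := d15_1 D117578 (iv7 D120132) F87487
def n120133 : Q := act 6 n55282
theorem D120133 : act 6 n55282 = n120133 := rfl
theorem F189760 : act 2 n120133 = n55285 := d3_1 D120133 (iv6 D55285) (iv2 F87489)
theorem F189761 : act 5 n120133 = n118412 := d12_1 D120133 (iv6 D118412) F86145 F49972 (iv5 F87490)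
theorem F189762 : act 0 n120133 = n118520 := d21_4 F42151 (iv1 F42825) (iv5 F87490) D120133 (iv6 D118520) (iv5 D54580) (iv1 D26392) D26393 F42143 D26400
theorem F189763 : act 0 n74865 = n120133 := d21_4 (iv5 F187809) (iv1 F187811) D119583 F188573 (iv6 D120133) F87490 (iv1 F42824) F42153 D54595 (iv1 F162942)
def n120134 : Q := act 4 n55283
theorem D120134 : act 4 n55283 = n120134 := rfl
theorem F189764 : act 0 n120134 = n118532 := d18_2 (iv1 F87494) D120134 (iv4 D118532) (iv5 D54586) (iv4 D26395) (iv0 D12597) (iv4 F19878) D25309 D52124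
theorem F189765 : act 1 n120134 = n118542 := d18_6 D51056 F80512 (iv1 F42818) D26716 D55283 D120134 (iv4 D118542) F86273 (iv5 D51058)
def n120135 : Q := act 6 n55283
theorem D120135 : act 6 n55283 = n120135 := rfl
theorem F189766 : act 3 n120135 = n61275 := d7_1 D120135 (iv6 D61275) (iv3 F87493)
def n120136 : Q := act 3 n55284
theorem D120136 : act 3 n55284 = n120136 := rfl
theorem F189767 : act 4 n120136 = n60939 := d5_2 D55284 D120136 (iv3 D60939) F46535 (iv3 F42827)
def n120137 : Q := act 5 n55284
theorem D120137 : act 5 n55284 = n120137 := rfl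
def n120138 : Q := act 6 n55284
theorem D120138 : act 6 n55284 = n120138 := rfl
theorem F189768 : act 4 n120138 = n55285 := d10_1 D120138 (iv6 D55285) D55284
def n120139 : Q := act 1 n55285
theorem D120139 : act 1 n55285 = n120139 := rfl
theorem F189769 : act 7 n120139 = n118520 := d15_2 (iv0 F166698) D120139 F186427
theorem F189770 : act 2 n74865 = n120139 := d4_3 F189769 F186427 F166685
def n120140 : Q := act 7 n55285
theorem D120140 : act 7 n55285 = n120140 := rfl
theorem F189771 : act 3 n120140 = n61390 := d8_1 D120140 (iv7 D61390) (iv3 F87496)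
theorem F189772 : act 5 n120140 = n120018 := d13_1 D120140 (iv7 D120018) (iv5 F87497)
theorem F189773 : act 6 n120140 = n117580 := d14_1 D120140 (iv7 D117580) F85493 F46802 D55285
theorem F189774 : act 1 n74865 = n120140 := d15_1 (iv0 F189763) (iv7 D120140) (iv2 F189760)
theorem F189775 : act 1 n120140 = n118520 := d15_1 F189774 (iv7 F189769) (iv2 F189770)
def n120141 : Q := act 3 n55286
theorem D120141 : act 3 n55286 = n120141 := rfl
def n120142 : Q := act 5 n55286
theorem D120142 : act 5 n55286 = n120142 := rfl
def n120143 : Q := act 6 n55286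
theorem D120143 : act 6 n55286 = n120143 := rfl
def n120144 : Q := act 3 n55287
theorem D120144 : act 3 n55287 = n120144 := rfl
def n120145 : Q := act 5 n55287
theorem D120145 : act 5 n55287 = n120145 := rfl
def n120146 : Q := act 6 n55287
theorem D120146 : act 6 n55287 = n120146 := rfl
def n120147 : Q := act 0 n55288
theorem D120147 : act 0 n55288 = n120147 := rfl
def n120148 : Q := act 1 n55288
theorem D120148 : act 1 n55288 = n120148 := rfl
theorem F189777 : act 4 n108269 = n120148 := d20_6 (iv4 D14133) (iv1 F26538) (iv4 F18784) (iv3 F38219) D50001 D108269 (iv1 D120148) F87498 (iv3 D26721) (iv1 F26541)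
theorem F189778 : act 0 n74671 = n120148 := d20_7 (iv4 F166820) (iv1 F167417) (iv4 F167418) (iv3 D74946) (iv1 F54496) (iv3 F53855) D74671 (iv4 F189777) (iv3 D108269) (iv1 F79089)
def n120149 : Q := act 2 n55288
theorem D120149 : act 2 n55288 = n120149 := rfl
theorem F189779 : act 4 n120149 = n55296 := d1_2 (iv4 F87498) D120149 (iv2 D55296)
theorem F189780 : act 7 n120149 = n74671 := d4_2 (iv7 F87499) D120149 F112082
theorem F189781 : act 1 n120149 = n74683 := d15_0 (iv0 D74683) (iv7 F87499) D120149
theorem F189782 : act 1 n74684 = n120149 := d15_1 D74684 F189780 F112082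
def n120150 : Q := act 5 n55288
theorem D120150 : act 5 n55288 = n120150 := rfl
theorem F189783 : act 3 n120150 = n55289 := d6_1 D120150 (iv5 D55289) D55288
theorem F189784 : act 7 n120150 = n74685 := d13_2 (iv7 F87499) D120150 (iv5 D74685)
def n120151 : Q := act 6 n55288
theorem D120151 : act 6 n55288 = n120151 := rfl
theorem F189785 : act 3 n120151 = n55290 := d7_1 D120151 (iv6 D55290) D55288
theorem F189786 : act 4 n120151 = n55297 := d10_1 D120151 (iv6 D55297) (iv4 F87498)
def n120152 : Q := act 0 n55289
theorem D120152 : act 0 n55289 = n120152 := rfl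
theorem F189787 : act 5 n120152 = n118534 := d17_3 (iv1 D55287) D55289 D120152 F186439 F96189 (iv0 D32451) D32453 D69879 F106308
def n120153 : Q := act 1 n55289
theorem D120153 : act 1 n55289 = n120153 := rfl
theorem F189788 : act 5 n120153 = n118535 := d17_7 F52522 (iv5 D26717) (iv1 D12770) D12772 D26719 D55289 D120153 F186442 (iv4 D54590)
def n120154 : Q := act 4 n55289
theorem D120154 : act 4 n55289 = n120154 := rfl
def n120155 : Q := act 6 n55289
theorem D120155 : act 6 n55289 = n120155 := rfl
def n120156 : Q := act 0 n55290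
theorem D120156 : act 0 n55290 = n120156 := rfl
theorem F189789 : act 6 n120156 = n62210 := d21_5 (iv5 F189788) (iv1 D120153) (iv5 D55289) D55290 D120156 (iv5 D62210) (iv1 D29442) D29444 (iv6 F185310) (iv1 F186442)
def n120157 : Q := act 1 n55290
theorem D120157 : act 1 n55290 = n120157 := rfl
def n120158 : Q := act 5 n55290
theorem D120158 : act 5 n55290 = n120158 := rfl
def n120159 : Q := act 7 n55290
theorem D120159 : act 7 n55290 = n120159 := rfl
theorem F189790 : act 4 n120159 = n55293 := d11_1 D120159 (iv7 D55293) (iv4 F87500)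
def n120160 : Q := act 3 n55291
theorem D120160 : act 3 n55291 = n120160 := rfl
theorem F189791 : act 2 n120160 = n61497 := d0_1 D120160 (iv3 D61497) F162899 D62699 F162919
theorem F189792 : act 5 n120160 = n119556 := d6_2 (iv5 F162941) D120160 F188537
theorem F189793 : act 7 n120160 = n119555 := d8_2 F162920 D120160 F188535
def n120161 : Q := act 4 n55291
theorem D120161 : act 4 n55291 = n120161 := rfl
theorem F189794 : act 7 n120161 = n119584 := d11_2 F162920 D120161 (iv4 D119584)
def n120162 : Q := act 6 n55291
theorem D120162 : act 6 n55291 = n120162 := rfl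
def n120163 : Q := act 4 n55292
theorem D120163 : act 4 n55292 = n120163 := rfl
theorem F189795 : act 2 n120163 = n119584 := d1_1 D120163 (iv4 D119584) F162721
def n120164 : Q := act 6 n55292
theorem D120164 : act 6 n55292 = n120164 := rfl
theorem F189796 : act 2 n120164 = n119581 := d3_1 D120164 F188569 F162721
theorem F189797 : act 3 n120164 = n61505 := d7_1 D120164 (iv6 D61505) (iv3 F162886)
theorem F189798 : act 5 n120164 = n119305 := d12_1 D120164 (iv6 D119305) (iv5 D54903) D54904 F87501
theorem F189799 : act 0 n117575 = n120164 := d21_4 (iv5 D73925) D73923 (iv5 F186326) F186324 (iv6 D120164) (iv5 F87501) F184256 D73703 F110399 F130750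
def n120165 : Q := act 2 n55294
theorem D120165 : act 2 n55294 = n120165 := rfl
theorem F189800 : act 7 n55295 = n120165 := d15_2 (iv0 D55294) D55295 (iv2 D120165)
def n120168 : Q := act 5 n55294
theorem D120168 : act 5 n55294 = n120168 := rfl
theorem F189802 : act 6 n115807 = n120168 := d21_5 D53711 F181961 F49499 D53403 D115807 (iv5 D120168) (iv1 F87505) (iv5 D34223) F26217 (iv1 F181460)
def n120171 : Q := act 3 n55295
theorem D120171 : act 3 n55295 = n120171 := rfl
def n120172 : Q := act 4 n55295
theorem D120172 : act 4 n55295 = n120172 := rfl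
def n120173 : Q := act 5 n55295
theorem D120173 : act 5 n55295 = n120173 := rfl
def n120174 : Q := act 6 n55295
theorem D120174 : act 6 n55295 = n120174 := rfl
def n120175 : Q := act 6 n55296
theorem D120175 : act 6 n55296 = n120175 := rfl
theorem F189804 : act 2 n120175 = n55297 := d3_1 D120175 (iv6 D55297) D55296
theorem F189805 : act 3 n120175 = n74955 := d7_1 D120175 (iv6 D74955) (iv3 F87506)
def n120178 : Q := act 5 n55297
theorem D120178 : act 5 n55297 = n120178 := rfl
theorem F189806 : act 3 n120178 = n55298 := d6_1 D120178 (iv5 D55298) (iv3 F87512)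
theorem F189807 : act 6 n120178 = n74692 := d12_2 D55297 D120178 (iv5 D74692) (iv6 D34228) (iv5 F42834)
def n120180 : Q := act 0 n55298
theorem D120180 : act 0 n55298 = n120180 := rfl
theorem F189810 : act 5 n120180 = n70745 := d17_3 F79221 D55298 D120180 (iv4 D70745) (iv5 D32794) (iv0 D15698) (iv5 F18821) D24409 D50052
theorem F189811 : act 4 n120180 = n76177 := d18_1 D120180 F114139 D77247 F116010 F78865 F38271 D50049 F79214 D55298
theorem F189812 : act 1 n74969 = n120180 := d15_0 (iv0 D120180) (iv7 F105835) (iv2 F112492)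
def n120181 : Q := act 1 n55298
theorem D120181 : act 1 n55298 = n120181 := rfl
theorem F189817 : act 5 n120181 = n70753 := d17_7 F87217 (iv5 D26741) (iv1 D12793) (iv5 F21211) (iv4 F42837) D55298 D120181 (iv0 F189096) (iv4 D119827)
theorem F189818 : act 4 n120181 = n76163 := d17_9 (iv1 F122775) F122773 (iv1 F57207) D76192 (iv4 F167566) (iv5 D108389) F79214 D55298 D120181
def n120182 : Q := act 4 n55300
theorem D120182 : act 4 n55300 = n120182 := rfl
theorem F189820 : act 7 n120182 = n74982 := d11_2 (iv7 F87521) D120182 (iv4 D74982)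
def n120183 : Q := act 6 n55300
theorem D120183 : act 6 n55300 = n120183 := rfl
theorem F189821 : act 3 n120183 = n55301 := d7_1 D120183 (iv6 D55301) D55300
theorem F189822 : act 5 n120183 = n61575 := d12_1 D120183 F110745 F110744 (iv6 F87263) (iv5 F87520)
def n120184 : Q := act 1 n55301
theorem D120184 : act 1 n55301 = n120184 := rfl
theorem F189823 : act 1 n120184 = n61573 := d15_1 D120184 F96121 (iv2 F87522)
theorem F189824 : act 7 n120184 = n74944 := d15_2 (iv0 F166665) D120184 F189571
theorem F189825 : act 5 n118645 = n120184 := d21_6 (iv5 D26407) (iv1 F20987) (iv5 F25494) D33171 (iv1 F86353) D118645 (iv1 D120184) F87523 (iv6 F53304) (iv1 F53302)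
theorem F189826 : act 2 n120184 = n74978 := d2_1 F189825 (iv5 F112510) (iv2 F189567)
theorem F189827 : act 0 n61500 = n118645 := d21_10 F189825 (iv1 D120184) F87523 (iv6 F53304) (iv1 F53302) D54609 (iv5 F87226) F96012 (iv5 D61499) D61500
def n120185 : Q := act 2 n55303
theorem D120185 : act 2 n55303 = n120185 := rfl
theorem F189829 : act 7 n55304 = n120185 := d15_2 (iv0 D55303) D55304 (iv2 D120185)
def n120186 : Q := act 3 n55303
theorem D120186 : act 3 n55303 = n120186 := rfl
def n120187 : Q := act 5 n55303
theorem D120187 : act 5 n55303 = n120187 := rfl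
theorem F189830 : act 0 n120187 = n117284 := d21_1 D120187 F183542 (iv6 D74849) (iv1 D34295) (iv6 D16602) (iv5 D7720) (iv1 F9407) (iv5 F21214) D26725 D55303
def n120188 : Q := act 6 n55303
theorem D120188 : act 6 n55303 = n120188 := rfl
theorem F189831 : act 4 n120188 = n108291 := d10_1 D120188 (iv6 D108291) (iv4 F167442)
theorem F189832 : act 5 n120188 = n55631 := d21_6 (iv5 D7720) (iv1 F9407) (iv5 F21214) D26725 D55303 D120188 (iv1 D55631) (iv5 F46783) (iv6 D29120) F23127
theorem F189833 : act 0 n117758 = n120188 := d21_4 F27089 D26231 D54246 D117758 (iv6 D120188) D120187 F189830 F183542 (iv6 D74849) (iv1 D34295)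
theorem F189834 : act 1 n74929 = n120188 := d15_0 (iv0 F189833) F184419 F166649
def n120189 : Q := act 7 n55303
theorem D120189 : act 7 n55303 = n120189 := rfl
theorem F189835 : act 2 n120189 = n55304 := d4_1 D120189 F189829 (iv2 D120185)
theorem F189836 : act 4 n120189 = n108292 := d11_1 D120189 (iv7 D108292) (iv4 F167442)
def n120190 : Q := act 3 n55304
theorem D120190 : act 3 n55304 = n120190 := rfl
def n120191 : Q := act 5 n55304
theorem D120191 : act 5 n55304 = n120191 := rfl
theorem F189837 : act 6 n120191 = n117177 := d21_3 F87860 (iv1 F87531) D120191 (iv1 F183329) (iv6 F113822) (iv5 F131163) (iv1 D55022) D55025 F131167 (iv1 F106158)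
theorem F189838 : act 0 n117284 = n120191 := d21_10 (iv5 D120191) (iv1 D55304) (iv5 F51429) (iv6 D32378) (iv1 F24866) (iv6 F41456) (iv5 D26149) D26147 D54052 D117284
def n120192 : Q := act 6 n55304
theorem D120192 : act 6 n55304 = n120192 := rfl
theorem F189839 : act 4 n120192 = n108296 := d10_1 D120192 (iv6 D108296) (iv4 F167445)
theorem F189840 : act 5 n120192 = n118949 := d21_6 (iv5 D26737) (iv1 F21233) (iv5 F27133) D34357 (iv1 F87531) D120192 (iv1 D118949) F86570 (iv6 F87309) F87311
theorem F189841 : act 0 n74940 = n120192 := d21_10 F189840 (iv1 D118949) F86570 (iv6 F87309) F87311 D55331 F87564 D58467 F92350 D74940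
def n120193 : Q := act 3 n55305
theorem D120193 : act 3 n55305 = n120193 := rfl
theorem F189842 : act 4 n120193 = n57286 := d5_2 D55305 D120193 F114944 F114940 F55616
theorem F189843 : act 6 n120193 = n119367 := d7_2 (iv6 F87532) D120193 (iv3 D119367)
theorem F189844 : act 0 n78908 = n120193 := d20_4 (iv4 D52640) (iv1 F40403) D35923 D78908 (iv3 D120193) (iv4 D55305) (iv1 F43291) D55623 (iv3 F108238) F108239
theorem F189845 : act 1 n114813 = n120193 := d15_0 (iv0 F189844) (iv7 F177551) (iv2 F178885)
def n120194 : Q := act 1 n55306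
theorem D120194 : act 1 n55306 = n120194 := rfl
theorem F189846 : act 1 n120194 = n75578 := d15_1 D120194 F113432 F108269
theorem F189848 : act 5 n120194 = n77363 := d18_9 (iv1 F116176) D119408 F188154 (iv4 D82500) (iv5 D37875) F29327 D36846 (iv4 F87533) D120194
theorem F189849 : act 3 n82634 = n120194 := d19_19 (iv1 D120194) F87534 D83664 (iv3 F132290) (iv1 F132293) (iv5 F178513) F178512 F148043 (iv1 D96250) F70634 (iv4 F43350) (iv3 D26880) (iv1 F21932) D27485 (iv4 F57352) D80171 F123117 F113261 D82634
def n120195 : Q := act 6 n55306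
theorem D120195 : act 6 n55306 = n120195 := rfl
theorem F189851 : act 3 n120195 = n55307 := d7_1 D120195 (iv6 D55307) D55306
theorem F189852 : act 4 n120195 = n80706 := d10_1 D120195 (iv6 D80706) (iv4 F87533)
theorem F189853 : act 0 n80706 = n82575 := d20_7 F54797 F117765 D17977 (iv3 F52552) (iv1 F188321) (iv3 F189851) F189852 (iv4 D82575) (iv3 D37904) (iv1 F54801)
def n120196 : Q := act 5 n55307
theorem D120196 : act 5 n55307 = n120196 := rfl
theorem F189854 : act 2 n120196 = n75588 := d2_1 D120196 (iv5 D75588) (iv2 F87537)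
theorem F189855 : act 6 n120196 = n83672 := d12_2 D55307 D120196 (iv5 D83672) (iv6 D38572) (iv5 F42850)
def n120197 : Q := act 0 n55308
theorem D120197 : act 0 n55308 = n120197 := rfl
def n120198 : Q := act 1 n55308
theorem D120198 : act 1 n55308 = n120198 := rfl
theorem F189856 : act 1 n120198 = n75583 := d15_1 D120198 (iv7 D75583) (iv2 F87538)
def n120199 : Q := act 5 n55308
theorem D120199 : act 5 n55308 = n120199 := rfl
theorem F189858 : act 6 n120199 = n83677 := d12_2 D55308 D120199 (iv5 D83677) (iv6 D38574) (iv5 F42856)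
theorem F189859 : act 0 n120199 = n98774 := d21_7 D83726 F128784 (iv5 D75593) (iv6 D34578) (iv1 F42854) D55308 D120199 F188642 F188640 (iv1 D83725)
theorem E18793 : n120198 = n118601 := (c17_9 (iv1 F86311) (iv5 F78722) F130294 (iv5 F130337) D119608 (iv5 F188642) (iv0 F189859) (iv5 D120199) D120198 (iv4 D118601))
theorem E18794 : n71693 = n55308 := ((F186536).symm.trans (sb E18793 (iv1 D120198)))
theorem E18795 : n75583 = n71692 := (((F186538).symm.trans (sb E18793 F189856))).symm
theorem E18796 : n120197 = n33148 := ((D120197).symm.trans (sb E18794 (iv1 D71693)))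
theorem F189860 : act 1 n55308 = n118601 := (sb E18794 (iv0 F186536))
theorem E18797 : n81086 = n28516 := (((F87539).symm.trans (sb E18794 (iv4 F124879)))).symm
theorem F189861 : act 4 n71692 = n114563 := (sb E18795 (iv4 F178643))
theorem F189862 : act 6 n71692 = n118911 := (sb E18795 F188377)
theorem F189864 : act 1 n33148 = n55308 := (sb E18796 (iv0 D120197))
theorem E18798 : n37051 = n13610 := (((F46082).symm.trans (sb E18797 (iv3 D81086)))).symm
theorem E18799 : n32812 = n28540 := (((D28540).symm.trans (sb E18798 (iv1 F57982)))).symm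
theorem E18800 : n28541 = n17830 := ((D28541).symm.trans (sb E18798 (iv0 D37051)))
theorem E18806 : n60038 = n37052 := (((iv1 F94547)).symm.trans (sb E18799 (iv1 F57986)))
theorem E18807 : n60084 = n15711 := ((D60084).symm.trans (sb E18799 (iv2 D32812)))
theorem E18808 : n60085 = n37010 := ((D60085).symm.trans (sb E18799 (iv3 F57924)))
theorem E18809 : n70793 = n60086 := (((D60086).symm.trans (sb E18799 D70793))).symm
theorem E18810 : n70794 = n60087 := (((D60087).symm.trans (sb E18799 D70794))).symm
theorem E18811 : n70795 = n60088 := (((D60088).symm.trans (sb E18799 D70795))).symm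
theorem F189865 : act 0 n17830 = n13610 := (sb E18800 (iv1 D28541))
theorem F189866 : act 1 n37052 = n28540 := (sb E18806 F94547)
theorem E18817 : n81093 = n62914 := ((D81093).symm.trans (sb E18806 F188421))
theorem E18818 : n81094 = n28586 := ((D81094).symm.trans (sb E18806 F94544))
theorem F189869 : act 2 n15711 = n28540 := (sb E18807 (iv2 D60084))
theorem F189870 : act 3 n37010 = n28540 := (sb E18808 (iv3 D60085))
theorem F189872 : act 1 n60086 = n81063 := (sb E18809 F124841)
theorem F189873 : act 2 n60086 = n32813 := (sb E18809 F107262)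
theorem F189874 : act 7 n60086 = n81065 := (sb E18809 (iv7 F124843))
theorem E18819 : n81098 = n60335 := (((F94869).symm.trans (sb E18810 (iv1 F124893)))).symm
theorem F189875 : act 1 n60087 = n81097 := (sb E18810 F124892)
theorem F189876 : act 2 n60087 = n32814 := (sb E18810 F107263)
theorem F189877 : act 3 n60087 = n81018 := (sb E18810 (iv3 F124770))
theorem F189878 : act 7 n60087 = n81095 := (sb E18810 (iv7 F124887))
theorem F189879 : act 2 n60088 = n32815 := (sb E18811 F107264)
theorem F189880 : act 3 n60088 = n81019 := (sb E18811 (iv3 F124775))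
theorem E18820 : n70463 = n60248 := (((F94798).symm.trans (sb E18811 (iv5 F107265)))).symm
theorem F189882 : act 5 n62914 = n37052 := (sb E18817 (iv5 D81093))
theorem F189883 : act 6 n28586 = n37052 := (sb E18818 (iv6 D81094))
theorem F189884 : act 0 n60335 = n37054 := (sb E18819 (iv1 D81098))
theorem E18821 : n78240 = n28630 := ((((iv1 D60248)).symm.trans (sb E18820 (iv1 F188932)))).symm
theorem F189885 : act 1 n60248 = n118118 := (sb E18820 F185573)
theorem F189886 : act 2 n60248 = n32698 := (sb E18820 (iv2 D70463))
theorem F189887 : act 3 n60248 = n118125 := (sb E18820 (iv3 F185589))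
theorem F189888 : act 7 n60248 = n118120 := (sb E18820 (iv7 F185575))
theorem E18822 : n60247 = n54413 := ((D60247).symm.trans (sb E18821 F188931))
theorem E18823 : n35703 = n18992 := ((((iv3 F50907)).symm.trans (sb E18821 F188933))).symm
theorem E18824 : n73676 = n16277 := ((((iv4 F50908)).symm.trans (sb E18821 F188934))).symm
theorem E18825 : n35659 = n13652 := ((((iv5 D28630)).symm.trans (sb E18821 (iv5 D78240)))).symm
theorem F189889 : act 1 n54413 = n28630 := (sb E18822 (iv0 D60247))
theorem E18826 : n40219 = n32703 := ((D40219).symm.trans (sb E18823 (iv1 F56376)))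
theorem E18827 : n40220 = n17302 := ((D40220).symm.trans (sb E18823 (iv0 D35703)))
theorem E18829 : n78330 = n40218 := ((((iv4 F61206)).symm.trans (sb E18823 D78330))).symm
theorem E18830 : n78238 = n28624 := ((((iv5 F50909)).symm.trans (sb E18823 (iv5 F188929)))).symm
theorem E18833 : n33852 = n33672 := (((D33672).symm.trans (sb E18824 (iv1 D73676)))).symm
theorem E18834 : n119394 = n33673 := (((D33673).symm.trans (sb E18824 (iv0 F188102)))).symm
theorem E18835 : n28628 = n17283 := ((D28628).symm.trans (sb E18825 (iv1 D35659)))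
theorem E18836 : n32713 = n28629 := (((D28629).symm.trans (sb E18825 F56326))).symm
theorem E18838 : n78239 = n28627 := ((((iv4 F46197)).symm.trans (sb E18825 D78239))).symm
theorem E18841 : n49002 = n35704 := ((((iv1 F56380)).symm.trans (sb E18826 (iv1 F77344)))).symm
theorem F189890 : act 1 n32703 = n18992 := (sb E18826 (iv0 D40219))
theorem E18846 : n86734 = n70482 := (((D70482).symm.trans (sb E18826 D86734))).symm
theorem F189891 : act 0 n17302 = n18992 := (sb E18827 (iv1 D40220))
theorem E18852 : n86726 = n84888 := ((D86726).symm.trans (sb E18829 F187240))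
theorem E18853 : n86727 = n84893 := ((D86727).symm.trans (sb E18829 (iv0 F188917)))
theorem E18854 : n70451 = n60225 := (((D60225).symm.trans (sb E18830 (iv1 F119500)))).symm
theorem E18855 : n60226 = n54415 := ((D60226).symm.trans (sb E18830 (iv0 F119499)))
theorem E18856 : n73675 = n57649 := ((((iv1 F90799)).symm.trans (sb E18833 D73675))).symm
theorem E18857 : n73672 = n73092 := (((D73092).symm.trans (sb E18833 (iv2 F110367)))).symm
theorem E18858 : n73093 = n18516 := ((D73093).symm.trans (sb E18833 F53198))
theorem E18860 : n73677 = n73095 := (((D73095).symm.trans (sb E18833 D73677))).symm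
theorem E18861 : n73678 = n73096 := (((D73096).symm.trans (sb E18833 D73678))).symm
theorem E18862 : n73097 = n55132 := ((D73097).symm.trans (sb E18833 (iv7 F87206)))
theorem E18863 : n73099 = n54944 := ((D73099).symm.trans (sb E18834 (iv4 D119394)))
theorem E18864 : n60175 = n35658 := (((D35658).symm.trans (sb E18835 (iv1 F94732)))).symm
theorem F189892 : act 1 n17283 = n13652 := (sb E18835 (iv0 D28628))
theorem E18865 : n60237 = n35660 := (((D35660).symm.trans (sb E18835 D60237))).symm
theorem E18870 : n60242 = n15597 := (((F41960).symm.trans (sb E18835 D60242))).symm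
theorem E18871 : n60243 = n35705 := ((D60243).symm.trans (sb E18836 (iv3 F56377)))
theorem E18872 : n70514 = n60244 := (((D60244).symm.trans (sb E18836 D70514))).symm
theorem E18873 : n70515 = n60245 := (((D60245).symm.trans (sb E18836 D70515))).symm
theorem E18874 : n70516 = n60246 := (((D60246).symm.trans (sb E18836 D70516))).symm
theorem E18875 : n73708 = n60233 := (((D60233).symm.trans (sb E18838 F119498))).symm
theorem E18876 : n73652 = n60234 := (((D60234).symm.trans (sb E18838 (iv0 F188930)))).symm
theorem F189893 : act 2 n35704 = n40221 := (sb E18841 F77340)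
theorem E18877 : n105985 = n78334 := (((D78334).symm.trans (sb E18841 (iv3 F162785)))).symm
theorem E18878 : n105991 = n78335 := (((D78335).symm.trans (sb E18841 (iv4 F162793)))).symm
theorem E18879 : n106005 = n78336 := (((D78336).symm.trans (sb E18841 (iv5 F162807)))).symm
theorem E18880 : n78337 = n40229 := ((D78337).symm.trans (sb E18841 F77341))
theorem F189894 : act 7 n35704 = n23907 := (sb E18841 (iv7 D49002))
theorem E18881 : n118297 = n105934 := (((iv5 F185851)).symm.trans (sb E18846 F162669))
theorem F189895 : act 1 n84888 = n40218 := (sb E18852 (iv0 D86726))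
theorem F189896 : act 0 n84893 = n40218 := (sb E18853 (iv1 D86727))
theorem F189897 : act 2 n60225 = n32694 := (sb E18854 (iv2 D70451))
theorem F189898 : act 3 n60225 = n118120 := (sb E18854 (iv3 F185574))
theorem F189899 : act 4 n60225 = n55109 := (sb E18854 (iv4 F106918))
theorem F189900 : act 7 n60225 = n118125 := (sb E18854 (iv7 F185591))
theorem F189901 : act 0 n54415 = n28624 := (sb E18855 (iv1 D60226))
theorem F189902 : act 4 n57649 = n118118 := (sb E18856 (iv4 F188104))
theorem F189903 : act 0 n73092 = n119815 := (sb E18857 (iv1 F189062))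
theorem F189906 : act 3 n18516 = n33672 := (sb E18858 (iv3 D73093))
theorem F189908 : act 3 n73095 = n39015 := (sb E18860 F110372)
theorem F189909 : act 7 n73095 = n119816 := (sb E18860 (iv7 F189066))
theorem F189910 : act 3 n73096 = n39016 := (sb E18861 F110373)
theorem F189912 : act 7 n73096 = n81809 := (sb E18861 (iv7 F125745))
theorem F189914 : act 7 n55132 = n33672 := (sb E18862 (iv7 D73097))
theorem F189915 : act 4 n54944 = n33673 := (sb E18863 (iv4 D73099))
theorem F189916 : act 0 n35658 = n28629 := (sb E18864 (iv1 F94731))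
theorem F189917 : act 2 n35658 = n28631 := (sb E18864 F94728)
theorem E18882 : n119446 = n78233 := (((D78233).symm.trans (sb E18864 (iv3 F188212)))).symm
theorem E18883 : n78236 = n28621 := ((D78236).symm.trans (sb E18864 F94729))
theorem F189918 : act 7 n35658 = n28605 := (sb E18864 (iv7 D60175))
theorem F189919 : act 7 n35660 = n28629 := (sb E18865 (iv7 F94795))
theorem F189920 : act 2 n15597 = n28629 := (sb E18870 F94796)
theorem F189921 : act 3 n35705 = n28629 := (sb E18871 (iv3 D60243))
theorem F189922 : act 0 n60244 = n78194 := (sb E18872 (iv1 F119402))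
theorem F189924 : act 2 n60244 = n32714 := (sb E18872 F106965)
theorem F189925 : act 7 n60244 = n78195 := (sb E18872 (iv7 F119400))
theorem F189927 : act 1 n60245 = n78244 := (sb E18873 F119429)
theorem F189928 : act 2 n60245 = n32715 := (sb E18873 F106966)
theorem F189931 : act 2 n60246 = n32716 := (sb E18874 F106967)
theorem F189932 : act 3 n60246 = n78339 := (sb E18874 (iv3 F119557))
theorem F189933 : act 0 n60233 = n78234 := (sb E18875 F188058)
theorem F189934 : act 4 n60233 = n33868 := (sb E18875 (iv4 D73708))
theorem F189935 : act 7 n60233 = n119832 := (sb E18875 (iv7 F189112))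
theorem F189936 : act 1 n60234 = n78234 := (sb E18876 (iv0 F119419))
theorem F189937 : act 2 n60234 = n119832 := (sb E18876 (iv2 F189111))
theorem F189938 : act 4 n60234 = n33845 := (sb E18876 (iv4 D73652))
theorem F189939 : act 5 n78334 = n83603 := (sb E18877 F162786)
theorem F189940 : act 6 n78334 = n86743 := (sb E18877 F162787)
theorem F189941 : act 7 n78334 = n48995 := (sb E18877 (iv7 D105985))
theorem F189942 : act 2 n78335 = n86729 := (sb E18878 F162792)
theorem F189943 : act 6 n78335 = n86750 := (sb E18878 F162794)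
theorem F189944 : act 7 n78335 = n48998 := (sb E18878 (iv7 D105991))
theorem F189945 : act 1 n78336 = n60225 := (sb E18879 F162810)
theorem F189946 : act 2 n78336 = n60227 := (sb E18879 F162805)
theorem F189947 : act 3 n78336 = n83603 := (sb E18879 F162806)
theorem F189948 : act 7 n78336 = n49001 := (sb E18879 (iv7 D106005))
theorem F189949 : act 6 n40229 = n35704 := (sb E18880 (iv6 D78337))
theorem E18884 : n71049 = n48974 := ((((iv1 D105934)).symm.trans (sb E18881 (iv1 F185856)))).symm
theorem F189950 : act 1 n105934 = n71048 := (sb E18881 F185853)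
theorem F189952 : act 3 n105934 = n71060 := (sb E18881 F185850)
theorem F189953 : act 5 n105934 = n70482 := (sb E18881 F185851)
theorem F189954 : act 7 n105934 = n71050 := (sb E18881 F185852)
theorem E18885 : n83602 = n54410 := (((F188056).symm.trans (sb E18882 (iv1 F188216)))).symm
theorem E18886 : n119379 = n83601 := ((F188057).symm.trans (sb E18882 F188217))
theorem F189955 : act 2 n78233 = n83603 := (sb E18882 F188211)
theorem E18887 : n73695 = n54969 := ((F119418).symm.trans (sb E18882 F188213))
theorem F189956 : act 6 n78233 = n60195 := (sb E18882 F188214)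
theorem F189957 : act 7 n78233 = n54964 := (sb E18882 (iv7 D119446))
theorem F189958 : act 6 n28621 = n35658 := (sb E18883 (iv6 D78236))
theorem E18888 : n105933 = n32902 := ((D105933).symm.trans (sb E18884 (iv1 D71049)))
theorem E18889 : n118111 = n38549 := ((D118111).symm.trans (sb E18885 (iv1 D83602)))
theorem F189959 : act 0 n83601 = n78233 := (sb E18886 (iv1 F188057))
theorem F189960 : act 2 n83601 = n84914 := (sb E18886 F188050)
theorem F189961 : act 3 n83601 = n73627 := (sb E18886 (iv3 F188053))
theorem F189962 : act 4 n83601 = n54938 := (sb E18886 (iv4 D119379))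
theorem F189963 : act 7 n83601 = n84919 := (sb E18886 F188051)
theorem E18890 : n38554 = n33862 := (((iv1 F86980)).symm.trans (sb E18887 (iv1 D73695)))
theorem E18891 : n39289 = n38553 := (((F86981).symm.trans (sb E18887 F110390))).symm
theorem F189964 : act 4 n54969 = n78233 := (sb E18887 (iv4 F119418))
theorem F189965 : act 1 n32902 = n48974 := (sb E18888 (iv0 D105933))
theorem F189966 : act 1 n38549 = n54410 := (sb E18889 (iv0 D118111))
theorem E18892 : n70450 = n49001 := ((((iv3 F77338)).symm.trans (sb E18889 F188061))).symm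
theorem E18893 : n73694 = n18364 := (((F59374).symm.trans (sb E18889 (iv4 F188060)))).symm
theorem E18894 : n70476 = n48995 := ((((iv5 F77329)).symm.trans (sb E18889 (iv5 F188062)))).symm
theorem F189967 : act 1 n33862 = n54969 := (sb E18890 F86980)
theorem E18895 : n83615 = n54945 := ((((iv2 F86909)).symm.trans (sb E18890 (iv2 F128689)))).symm
theorem E18900 : n83610 = n54942 := ((((iv7 F86901)).symm.trans (sb E18890 F128688))).symm
theorem E18901 : n83611 = n83255 := ((D83611).symm.trans (sb E18891 (iv3 F128330)))
theorem E18902 : n83612 = n18639 := ((D83612).symm.trans (sb E18891 (iv4 D39289)))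
theorem E18903 : n84926 = n83613 := (((D83613).symm.trans (sb E18891 D84926))).symm
theorem E18904 : n83740 = n83614 := (((D83614).symm.trans (sb E18891 (iv6 F188508)))).symm
theorem E18905 : n106002 = n32694 := ((D106002).symm.trans (sb E18892 (iv1 D70450)))
theorem E18906 : n118125 = n106003 := (((D106003).symm.trans (sb E18892 F185595))).symm
theorem E18907 : n119778 = n106004 := (((D106004).symm.trans (sb E18892 (iv4 F188992)))).symm
theorem E18908 : n32702 = n23907 := ((((iv5 D49001)).symm.trans (sb E18892 F106937))).symm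
theorem F189968 : act 1 n18364 = n33862 := (sb E18893 (iv0 D73694))
theorem E18909 : n105983 = n73627 := ((D105983).symm.trans (sb E18894 (iv1 F188063)))
theorem E18910 : n105984 = n73632 := ((D105984).symm.trans (sb E18894 F188064))
theorem F189969 : act 7 n54945 = n38553 := (sb E18895 (iv7 D83615))
theorem F189970 : act 2 n54942 = n38553 := (sb E18900 (iv2 D83610))
theorem F189971 : act 3 n83255 = n38553 := (sb E18901 (iv3 D83611))
theorem F189972 : act 4 n18639 = n38553 := (sb E18902 (iv4 D83612))
theorem F189973 : act 2 n83613 = n119391 := (sb E18903 (iv2 F188086))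
theorem F189974 : act 7 n83613 = n119398 := (sb E18903 (iv7 F188121))
theorem F189975 : act 0 n83614 = n38591 := (sb E18904 (iv1 D83740))
theorem F189976 : act 2 n83614 = n81824 := (sb E18904 F188506)
theorem F189977 : act 4 n83614 = n39291 := (sb E18904 F188507)
theorem E18911 : n70449 = n60227 := ((D70449).symm.trans (sb E18905 (iv1 F162808)))
theorem F189978 : act 1 n32694 = n49001 := (sb E18905 (iv0 D106002))
theorem F189979 : act 2 n106003 = n54415 := (sb E18906 (iv2 D118125))
theorem F189980 : act 3 n106003 = n60248 := (sb E18906 (iv3 F189887))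
theorem F189981 : act 4 n106003 = n119744 := (sb E18906 F188912)
theorem E18912 : n105886 = n81019 := (((iv5 F162801)).symm.trans (sb E18906 F185590))
theorem F189982 : act 7 n106003 = n60225 := (sb E18906 (iv7 F189900))
theorem F189983 : act 0 n106004 = n55115 := (sb E18907 (iv1 D119778))
theorem F189984 : act 1 n106004 = n55120 := (sb E18907 F188991)
theorem E18913 : n48999 = n15592 := ((D48999).symm.trans (sb E18908 (iv1 D32702)))
theorem E18914 : n49000 = n35705 := ((D49000).symm.trans (sb E18908 F56381))
theorem E18916 : n70477 = n48998 := ((((iv4 F77335)).symm.trans (sb E18908 D70477))).symm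
theorem F189985 : act 1 n73627 = n48995 := (sb E18909 (iv0 D105983))
theorem F189986 : act 0 n73632 = n48995 := (sb E18910 (iv1 D105984))
theorem F189987 : act 1 n60227 = n32694 := (sb E18911 (iv0 D70449))
theorem E18919 : n32712 = n28631 := (((F94785).symm.trans (sb E18911 F188988))).symm
theorem F189988 : act 4 n60227 = n119777 := (sb E18911 F188989)
theorem E18920 : n40221 = n32701 := ((F94786).symm.trans (sb E18911 (iv5 F188913)))
theorem F189989 : act 5 n81019 = n106003 := (sb E18912 F162801)
theorem E18921 : n48953 = n37010 := ((((iv6 D81019)).symm.trans (sb E18912 (iv6 D105886)))).symm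
theorem F189990 : act 1 n15592 = n23907 := (sb E18913 (iv0 D48999))
theorem F189991 : act 0 n35705 = n23907 := (sb E18914 (iv1 D49000))
theorem E18932 : n119798 = n105988 := (((D105988).symm.trans (sb E18916 (iv1 F189023)))).symm
theorem E18933 : n119788 = n105989 := (((D105989).symm.trans (sb E18916 (iv0 F189003)))).symm
theorem E18936 : n60174 = n15597 := (((iv1 F94727)).symm.trans (sb E18919 (iv1 D32712)))
theorem E18937 : n60173 = n35660 := ((F94730).symm.trans (sb E18919 F56327))
theorem E18939 : n70511 = n60236 := ((((iv4 F94794)).symm.trans (sb E18919 D70511))).symm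
theorem E18940 : n70462 = n60249 := ((((iv5 F94801)).symm.trans (sb E18919 (iv5 F189006)))).symm
theorem F189992 : act 2 n32701 = n35704 := (sb E18920 (iv2 F189893))
theorem E18943 : n86729 = n70472 := (((D70472).symm.trans (sb E18920 (iv4 F133019)))).symm
theorem F189993 : act 5 n32701 = n60227 := (sb E18920 (iv5 F94786))
theorem E18944 : n48992 = n36320 := ((((iv6 F188914)).symm.trans (sb E18920 (iv6 F77314)))).symm
theorem F189994 : act 7 n32701 = n18992 := (sb E18920 (iv7 D40221))
theorem E18945 : n69816 = n32824 := ((((iv1 F57928)).symm.trans (sb E18921 (iv1 F106250)))).symm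
theorem E18946 : n32823 = n23880 := ((F57926).symm.trans (sb E18921 (iv0 D48953)))
theorem E18950 : n105885 = n81018 := (((D81018).symm.trans (sb E18921 D105885))).symm
theorem F189995 : act 2 n105988 = n84888 := (sb E18932 F189020)
theorem F189996 : act 4 n105988 = n55123 := (sb E18932 (iv4 D119798))
theorem F189999 : act 4 n105989 = n55119 := (sb E18933 (iv4 D119788))
theorem E18953 : n32711 = n28605 := ((D32711).symm.trans (sb E18936 (iv1 D60174)))
theorem F190001 : act 1 n15597 = n28631 := (sb E18936 F94727)
theorem F190002 : act 0 n35660 = n28631 := (sb E18937 (iv1 F94730))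
theorem F190003 : act 0 n60236 = n119832 := (sb E18939 F189116)
theorem F190004 : act 0 n60249 = n32698 := (sb E18940 (iv1 D70462))
theorem F190005 : act 1 n60249 = n118120 := (sb E18940 F185578)
theorem F190006 : act 3 n60249 = n32701 := (sb E18940 F189005)
theorem E18954 : n119815 = n33675 := (((F94800).symm.trans (sb E18940 F189063))).symm
theorem E18955 : n105959 = n79751 := (((iv6 F162748)).symm.trans (sb E18940 F189007))
theorem F190007 : act 0 n70472 = n105989 := (sb E18943 (iv1 F162790))
theorem F190008 : act 1 n70472 = n105988 := (sb E18943 F162795)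
theorem F190009 : act 2 n70472 = n78335 := (sb E18943 (iv2 F189942))
theorem E18956 : n105966 = n79752 := (((F188920).symm.trans (sb E18943 (iv6 F162764)))).symm
theorem F190010 : act 7 n70472 = n40218 := (sb E18943 (iv7 D86729))
theorem E18957 : n40227 = n32530 := ((((iv1 F57041)).symm.trans (sb E18944 (iv1 F77316)))).symm
theorem E18958 : n40226 = n17539 := ((((iv0 D36320)).symm.trans (sb E18944 F77317))).symm
theorem F190011 : act 2 n36320 = n40229 := (sb E18944 F77313)
theorem E18959 : n105980 = n79753 := (((D79753).symm.trans (sb E18944 (iv5 F162775)))).symm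
theorem E18960 : n79755 = n23903 := ((D79755).symm.trans (sb E18944 (iv7 D48992)))
theorem E18961 : n48954 = n15716 := ((((iv1 D32824)).symm.trans (sb E18945 (iv1 F106249)))).symm
theorem E18962 : n70822 = n48956 := (((iv2 F107297)).symm.trans (sb E18945 F106246))
theorem E18963 : n48975 = n36777 := (((F189466).symm.trans (sb E18945 F106247))).symm
theorem E18964 : n70817 = n32422 := ((F107296).symm.trans (sb E18945 (iv7 D69816)))
theorem F190012 : act 0 n23880 = n37010 := (sb E18946 (iv1 F57926))
theorem E18965 : n70818 = n48938 := ((((iv3 F77166)).symm.trans (sb E18946 D70818))).symm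
theorem E18966 : n70819 = n48952 := ((((iv4 F77221)).symm.trans (sb E18946 D70819))).symm
theorem E18969 : n106061 = n70835 := ((((iv1 F124772)).symm.trans (sb E18950 F163013))).symm
theorem F190013 : act 0 n28605 = n35660 := (sb E18953 (iv1 F56325))
theorem F190014 : act 1 n28605 = n15597 := (sb E18953 (iv0 D32711))
theorem E18973 : n70505 = n54964 := ((((iv3 F86971)).symm.trans (sb E18953 D70505))).symm
theorem E18974 : n70506 = n60172 := ((((iv4 F94726)).symm.trans (sb E18953 D70506))).symm
theorem E18975 : n70461 = n57643 := ((((iv5 F90788)).symm.trans (sb E18953 (iv5 F189059)))).symm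
theorem E18977 : n57647 = n55132 := (((iv1 F90793)).symm.trans (sb E18954 (iv1 D119815)))
theorem E18978 : n73092 = n57646 := (((F90797).symm.trans (sb E18954 (iv0 F189903)))).symm
theorem E18979 : n73552 = n57658 := ((((iv6 F90825)).symm.trans (sb E18954 F189064))).symm
theorem F190015 : act 0 n79751 = n73056 := (sb E18955 (iv1 F162750))
theorem F190016 : act 1 n79751 = n73055 := (sb E18955 F162751)
theorem F190017 : act 2 n79751 = n73057 := (sb E18955 F162745)
theorem F190018 : act 6 n79751 = n60249 := (sb E18955 F162748)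
theorem F190019 : act 7 n79751 = n48985 := (sb E18955 (iv7 D105959))
theorem E18980 : n86748 = n73479 := (((F122437).symm.trans (sb E18956 (iv1 F162766)))).symm
theorem F190020 : act 1 n79752 = n86747 := (sb E18956 F162767)
theorem F190021 : act 2 n79752 = n86750 := (sb E18956 F162762)
theorem F190022 : act 7 n79752 = n48988 := (sb E18956 (iv7 D105966))
theorem F190023 : act 0 n32530 = n18996 := (sb E18957 (iv1 D40227))
theorem F190024 : act 1 n17539 = n18996 := (sb E18958 (iv0 D40226))
theorem E18990 : n86755 = n36324 := (((D36324).symm.trans (sb E18958 D86755))).symm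
theorem E18991 : n86762 = n70143 := (((F189470).symm.trans (sb E18959 (iv1 F162777)))).symm
theorem F190025 : act 2 n79753 = n86763 := (sb E18959 F162774)
theorem F190026 : act 7 n79753 = n48991 := (sb E18959 (iv7 D105980))
theorem F190027 : act 7 n23903 = n36320 := (sb E18960 (iv7 D79755))
theorem F190028 : act 0 n15716 = n23880 := (sb E18961 (iv1 D48954))
theorem F190029 : act 2 n48956 = n32824 := (sb E18962 F107297)
theorem E18997 : n80595 = n69809 := ((((iv6 F106231)).symm.trans (sb E18962 (iv6 F189467)))).symm
theorem E19000 : n105904 = n80596 := (((D80596).symm.trans (sb E18963 (iv3 F162633)))).symm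
theorem E19001 : n105922 = n80597 := (((D80597).symm.trans (sb E18963 (iv4 F162666)))).symm
theorem E19002 : n105936 = n80598 := (((D80598).symm.trans (sb E18963 (iv5 F162671)))).symm
theorem E19003 : n80590 = n23893 := ((F123923).symm.trans (sb E18963 (iv7 D48975)))
theorem F190030 : act 7 n32422 = n32824 := (sb E18964 (iv7 F107296))
theorem E19004 : n118588 = n34366 := (((F77167).symm.trans (sb E18965 F186505))).symm
theorem E19005 : n119031 = n105878 := (((D105878).symm.trans (sb E18966 F187271))).symm
theorem F190031 : act 5 n70835 = n49020 := (sb E18969 (iv5 D106061))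
theorem E19007 : n119444 = n84914 := ((D119444).symm.trans (sb E18973 (iv1 F189060)))
theorem E19008 : n119445 = n84919 := ((D119445).symm.trans (sb E18973 F189061))
theorem E19009 : n119390 = n26584 := (((F86972).symm.trans (sb E18973 F188085))).symm
theorem E19010 : n118101 = n105981 := ((((iv5 F162782)).symm.trans (sb E18973 F189058))).symm
theorem F190032 : act 1 n60172 = n119832 := (sb E18974 (iv0 F189113))
theorem F190033 : act 0 n57643 = n118120 := (sb E18975 (iv1 F185576))
theorem F190034 : act 1 n57643 = n32698 := (sb E18975 (iv0 D70461))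
theorem E19011 : n119814 = n27540 := (((F90787).symm.trans (sb E18975 F189055))).symm
theorem F190035 : act 1 n55132 = n33675 := (sb E18977 F90793)
theorem F190036 : act 2 n57646 = n33672 := (sb E18978 (iv2 D73092))
theorem F190038 : act 7 n57646 = n33673 := (sb E18978 (iv7 F109604))
theorem E19012 : n33806 = n33662 := ((((iv1 F90827)).symm.trans (sb E18979 (iv1 D73552)))).symm
theorem E19013 : n119346 = n33661 := (((F90828).symm.trans (sb E18979 (iv0 F187944)))).symm
theorem F190039 : act 4 n57658 = n79751 := (sb E18979 (iv4 F122436))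
theorem F190040 : act 0 n73479 = n40225 := (sb E18980 (iv1 D86748))
theorem E19014 : n105893 = n29296 := ((((iv5 F57050)).symm.trans (sb E18990 F162614))).symm
theorem E19015 : n117981 = n40228 := (((iv1 F185146)).symm.trans (sb E18991 (iv1 D86762)))
theorem F190041 : act 2 n69809 = n36777 := (sb E18997 F123925)
theorem E19016 : n36776 = n32419 := ((((iv7 D69809)).symm.trans (sb E18997 (iv7 D80595)))).symm
theorem F190042 : act 7 n80596 = n48961 := (sb E19000 (iv7 D105904))
theorem F190043 : act 7 n80597 = n48971 := (sb E19001 (iv7 D105922))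
theorem F190044 : act 7 n80598 = n48974 := (sb E19002 (iv7 D105936))
theorem F190045 : act 7 n23893 = n36777 := (sb E19003 (iv7 F123923))
theorem E19017 : n75009 = n54605 := ((D75009).symm.trans (sb E19004 (iv1 D118588)))
theorem E19018 : n75010 = n71717 := ((D75010).symm.trans (sb E19004 F186504))
theorem F190046 : act 0 n105878 = n70824 := (sb E19005 (iv1 F187282))
theorem F190047 : act 4 n105878 = n54776 := (sb E19005 (iv4 D119031))
theorem F190048 : act 6 n105878 = n119793 := (sb E19005 (iv6 F189013))
theorem F190049 : act 7 n105878 = n71608 := (sb E19005 F187270)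
theorem F190050 : act 0 n84914 = n83603 := (sb E19007 (iv1 F188215))
theorem F190051 : act 1 n84914 = n54964 := (sb E19007 (iv0 D119444))
theorem F190052 : act 0 n84919 = n54964 := (sb E19008 (iv1 D119445))
theorem F190053 : act 1 n84919 = n83603 := (sb E19008 F188210)
theorem E19019 : n54966 = n54942 := ((D54966).symm.trans (sb E19009 (iv1 D119390)))
theorem E19020 : n54967 = n54945 := ((D54967).symm.trans (sb E19009 F188084))
theorem F190054 : act 0 n105981 = n54405 := (sb E19010 (iv1 D118101))
theorem E19021 : n73640 = n71787 := (((F162781).symm.trans (sb E19010 F189057))).symm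
theorem F190055 : act 1 n27540 = n55132 := (sb E19011 (iv0 D119814))
theorem E19022 : n73551 = n16272 := ((((iv1 D33662)).symm.trans (sb E19012 D73551))).symm
theorem E19023 : n73548 = n73069 := ((((iv2 F109591)).symm.trans (sb E19012 (iv2 F110210)))).symm
theorem E19024 : n73070 = n18610 := ((D73070).symm.trans (sb E19012 F53138))
theorem E19025 : n73071 = n16335 := ((D73071).symm.trans (sb E19012 (iv4 D33806)))
theorem E19026 : n73553 = n73072 := (((D73072).symm.trans (sb E19012 D73553))).symm
theorem E19027 : n73554 = n73073 := (((D73073).symm.trans (sb E19012 D73554))).symm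
theorem E19029 : n73066 = n54923 := ((D73066).symm.trans (sb E19013 (iv4 D119346)))
theorem E19030 : n61816 = n48955 := ((D61816).symm.trans (sb E19014 (iv1 D105893)))
theorem F190056 : act 0 n40228 = n54350 := (sb E19015 (iv1 D117981))
theorem F190057 : act 1 n40228 = n70143 := (sb E19015 F185146)
theorem F190058 : act 0 n32419 = n32883 := (sb E19016 (iv1 F57668))
theorem F190059 : act 1 n32419 = n17728 := (sb E19016 (iv0 D36776))
theorem E19031 : n80591 = n28575 := (((F51476).symm.trans (sb E19016 D80591))).symm
theorem F190060 : act 1 n54605 = n34366 := (sb E19017 (iv0 D75009))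
theorem F190061 : act 0 n71717 = n34366 := (sb E19018 (iv1 D75010))
theorem E19034 : n119389 = n38556 := ((D119389).symm.trans (sb E19019 (iv1 F86979)))
theorem F190062 : act 1 n54942 = n26584 := (sb E19019 (iv0 D54966))
theorem F190063 : act 0 n54945 = n26584 := (sb E19020 (iv1 D54967))
theorem F190064 : act 0 n71787 = n33841 := (sb E19021 (iv1 D73640))
theorem F190065 : act 1 n71787 = n33846 := (sb E19021 F110333)
theorem E19045 : n117962 = n33658 := ((((iv4 F52931)).symm.trans (sb E19022 (iv4 F187946)))).symm
theorem F190066 : act 0 n73069 = n119717 := (sb E19023 (iv1 F188853))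
theorem F190068 : act 4 n73069 = n33805 := (sb E19023 (iv4 D73548))
theorem F190069 : act 3 n18610 = n33662 := (sb E19024 (iv3 D73070))
theorem F190070 : act 4 n16335 = n33662 := (sb E19025 (iv4 D73071))
theorem F190071 : act 3 n73072 = n39236 := (sb E19026 F110213)
theorem F190072 : act 7 n73072 = n119718 := (sb E19026 (iv7 F188856))
theorem F190073 : act 3 n73073 = n39237 := (sb E19027 F110214)
theorem F190075 : act 7 n73073 = n85792 := (sb E19027 (iv7 F131580))
theorem F190078 : act 4 n54923 = n33661 := (sb E19029 (iv4 D73066))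
theorem E19046 : n105892 = n62902 := ((D105892).symm.trans (sb E19030 (iv1 F98131)))
theorem F190079 : act 1 n48955 = n29296 := (sb E19030 (iv0 D61816))
theorem E19047 : n72149 = n55445 := ((((iv4 F87735)).symm.trans (sb E19031 F123924))).symm
theorem F190080 : act 0 n38556 = n54945 := (sb E19034 (iv1 F188083))
theorem F190081 : act 1 n38556 = n54942 := (sb E19034 (iv0 D119389))
theorem E19048 : n73056 = n54342 := ((D73056).symm.trans (sb E19045 (iv0 D117962)))
theorem E19049 : n69997 = n69849 := ((((iv3 F106268)).symm.trans (sb E19045 F187947))).symm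
theorem F190082 : act 1 n62902 = n48955 := (sb E19046 (iv0 D105892))
theorem E19050 : n33538 = n33306 := ((F109641).symm.trans (sb E19047 (iv1 D72149)))
theorem E19051 : n118932 = n33543 := (((F109642).symm.trans (sb E19047 (iv0 F187011)))).symm
theorem F190083 : act 0 n54342 = n33658 := (sb E19048 (iv1 D73056))
theorem E19052 : n117963 = n79751 := ((D117963).symm.trans (sb E19048 (iv0 F190015)))
theorem F190084 : act 0 n69849 = n32491 := (sb E19049 (iv1 D69997))
theorem E19053 : n119675 = n118446 := ((((iv4 F186270)).symm.trans (sb E19049 F188787))).symm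
theorem E19054 : n72684 = n72148 := (((D72148).symm.trans (sb E19050 D72684))).symm
theorem F190085 : act 1 n33306 = n55445 := (sb E19050 (iv0 F109641))
theorem E19055 : n72541 = n72145 := ((((iv2 F108585)).symm.trans (sb E19050 (iv2 F109410)))).symm
theorem E19057 : n16203 = n16083 := ((((iv4 D33306)).symm.trans (sb E19050 (iv4 D33538)))).symm
theorem E19059 : n72688 = n72151 := (((D72151).symm.trans (sb E19050 D72688))).symm
theorem E19060 : n72546 = n54736 := ((((iv7 F86560)).symm.trans (sb E19050 (iv7 F109419)))).symm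
theorem E19061 : n54735 = n16204 := ((((iv4 D33543)).symm.trans (sb E19051 (iv4 D118932)))).symm
theorem F190086 : act 0 n79751 = n54342 := (sb E19052 (iv1 D117963))
theorem F190088 : act 1 n118446 = n55068 := (sb E19053 F188786)
theorem F190089 : act 0 n72148 = n33543 := (sb E19054 (iv1 F109201))
theorem F190090 : act 7 n72148 = n34364 := (sb E19054 F109643)
theorem E19062 : n33472 = n33305 := ((((iv4 D72145)).symm.trans (sb E19055 (iv4 D72541)))).symm
theorem F190091 : act 7 n72145 = n33543 := (sb E19055 F109411)
theorem E19063 : n33471 = n33303 := (((D33303).symm.trans (sb E19057 (iv1 F52753)))).symm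
theorem E19064 : n33304 = n7557 := ((D33304).symm.trans (sb E19057 (iv0 D16203)))
theorem E19065 : n33537 = n7511 := ((((iv3 D16083)).symm.trans (sb E19057 D33537))).symm
theorem E19066 : n33539 = n33307 := (((D33307).symm.trans (sb E19057 D33539))).symm
theorem E19067 : n33540 = n33308 := (((D33308).symm.trans (sb E19057 D33540))).symm
theorem E19068 : n33473 = n26468 := ((((iv7 F42325)).symm.trans (sb E19057 (iv7 F109416)))).symm
theorem F190092 : act 5 n72151 = n73075 := (sb E19059 F109644)
theorem F190093 : act 2 n54736 = n33543 := (sb E19060 F109418)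
theorem E19069 : n33542 = n26545 := ((D33542).symm.trans (sb E19061 F113942))
theorem E19071 : n118934 = n33545 := (((D33545).symm.trans (sb E19061 D118934))).symm
theorem E19072 : n54734 = n16206 := (((iv1 F86557)).symm.trans (sb E19062 (iv1 F52754)))
theorem E19073 : n54733 = n16165 := ((F86553).symm.trans (sb E19062 (iv0 D33472)))
theorem E19075 : n72542 = n72146 := (((D72146).symm.trans (sb E19062 D72542))).symm
theorem E19076 : n72543 = n72147 := (((D72147).symm.trans (sb E19062 D72543))).symm
theorem F190094 : act 7 n33305 = n16204 := (sb E19062 (iv7 F109414))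
theorem F190095 : act 0 n33303 = n16204 := (sb E19063 (iv1 F52752))
theorem E19077 : n72135 = n16206 := ((D72135).symm.trans (sb E19063 F52750))
theorem E19078 : n72059 = n33524 := (((iv3 F187556)).symm.trans (sb E19063 (iv3 F52843)))
theorem E19079 : n72479 = n72137 := (((D72137).symm.trans (sb E19063 (iv4 F108995)))).symm
theorem E19080 : n72538 = n72138 := (((D72138).symm.trans (sb E19063 D72538))).symm
theorem E19081 : n72139 = n16164 := ((D72139).symm.trans (sb E19063 (iv6 D33471)))
theorem F190096 : act 0 n7557 = n16083 := (sb E19064 (iv1 D33304))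
theorem E19092 : n72682 = n16086 := (((D16086).symm.trans (sb E19065 D72682))).symm
theorem E19094 : n72690 = n72152 := (((D72152).symm.trans (sb E19066 D72690))).symm
theorem E19095 : n72691 = n72153 := (((D72153).symm.trans (sb E19066 D72691))).symm
theorem E19097 : n72693 = n72155 := (((D72155).symm.trans (sb E19066 D72693))).symm
theorem E19099 : n72695 = n72156 := (((D72156).symm.trans (sb E19067 D72695))).symm
theorem E19100 : n72696 = n72157 := (((D72157).symm.trans (sb E19067 D72696))).symm
theorem E19101 : n33815 = n33619 := (((iv5 F53151)).symm.trans (sb E19067 F52903))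
theorem E19102 : n72697 = n72158 := (((D72158).symm.trans (sb E19067 D72697))).symm
theorem F190097 : act 2 n26468 = n16204 := (sb E19068 F109415)
theorem E19103 : n69260 = n54738 := (((D54738).symm.trans (sb E19068 (iv6 F109424)))).symm
theorem F190098 : act 3 n26545 = n16204 := (sb E19069 (iv3 D33542))
theorem E19108 : n72703 = n54878 := (((D54878).symm.trans (sb E19069 D72703))).symm
theorem E19109 : n72704 = n54879 := (((D54879).symm.trans (sb E19069 D72704))).symm
theorem E19110 : n119571 = n33718 := ((((iv5 F52972)).symm.trans (sb E19071 (iv5 F188554)))).symm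
theorem F190099 : act 0 n16206 = n26468 := (sb E19072 (iv1 D54734))
theorem F190100 : act 1 n16206 = n33305 := (sb E19072 F86557)
theorem F190101 : act 2 n16206 = n118927 := (sb E19072 (iv2 F187005))
theorem E19111 : n118805 = n33513 := ((((iv3 F52834)).symm.trans (sb E19072 (iv3 F187615)))).symm
theorem F190102 : act 0 n16165 = n33305 := (sb E19073 (iv1 F86553))
theorem F190103 : act 1 n16165 = n26468 := (sb E19073 (iv0 D54733))
theorem E19116 : n118923 = n16195 := ((((iv3 F25757)).symm.trans (sb E19073 D118923))).symm
theorem F190104 : act 7 n16165 = n118927 := (sb E19073 D118927)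
theorem E19120 : n118940 = n58366 := (((iv1 F187031)).symm.trans (sb E19075 F109041))
theorem F190105 : act 7 n72146 = n33544 := (sb E19075 F109407)
theorem F190106 : act 0 n72147 = n34382 := (sb E19076 (iv1 F109511))
theorem E19121 : n73573 = n58308 := (((iv5 F110227)).symm.trans (sb E19076 F109042))
theorem F190107 : act 7 n72147 = n72932 := (sb E19076 F109413)
theorem E19122 : n118927 = n33303 := ((F190101).symm.trans (sb E19077 (iv2 D72135)))
theorem E19123 : n72402 = n33276 := (((iv1 F108903)).symm.trans (sb E19078 (iv1 D72059)))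
theorem E19124 : n119195 = n72401 := (((F108902).symm.trans (sb E19078 F187555))).symm
theorem F190108 : act 3 n33524 = n33303 := (sb E19078 F187556)
theorem E19125 : n72628 = n71037 := (((iv4 F109161)).symm.trans (sb E19078 F187557))
theorem E19126 : n70955 = n33533 := ((F108583).symm.trans (sb E19079 (iv1 F108997)))
theorem F190109 : act 1 n72137 = n33532 := (sb E19079 F108998)
theorem F190110 : act 2 n72137 = n33535 := (sb E19079 F108994)
theorem F190111 : act 6 n72137 = n33455 := (sb E19079 (iv6 D72479))
theorem F190112 : act 7 n72137 = n33456 := (sb E19079 F108996)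
theorem F190113 : act 0 n72138 = n33547 := (sb E19080 F109036)
theorem F190114 : act 1 n72138 = n33546 := (sb E19080 F109037)
theorem F190115 : act 2 n72138 = n33549 := (sb E19080 F109034)
theorem F190116 : act 3 n72138 = n72642 := (sb E19080 (iv3 F109166))
theorem F190117 : act 7 n72138 = n33474 := (sb E19080 F109035)
theorem F190118 : act 6 n16164 = n33303 := (sb E19081 (iv6 D72139))
theorem E19127 : n72933 = n16340 := (((F25852).symm.trans (sb E19092 (iv5 F109436)))).symm
theorem F190119 : act 0 n72152 = n33544 := (sb E19094 (iv1 F109206))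
theorem F190120 : act 5 n72152 = n58319 := (sb E19094 F109202)
theorem F190121 : act 1 n72153 = n33544 := (sb E19095 F109203)
theorem E19128 : n73575 = n72935 := (((iv5 F110229)).symm.trans (sb E19097 (iv5 F109437)))
theorem F190123 : act 0 n72156 = n72932 := (sb E19099 (iv1 F109399))
theorem F190124 : act 1 n72157 = n72932 := (sb E19100 F109401)
theorem E19131 : n73574 = n72934 := (((D72934).symm.trans (sb E19101 D73574))).symm
theorem F190125 : act 5 n33619 = n33308 := (sb E19101 F53151)
theorem E19132 : n58307 = n55092 := (((iv7 F109435)).symm.trans (sb E19101 (iv7 F87129)))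
theorem F190126 : act 1 n72158 = n34382 := (sb E19102 (iv0 F109510))
theorem F190127 : act 2 n72158 = n72932 := (sb E19102 (iv2 F109396))
theorem E19133 : n73855 = n73286 := ((F110646).symm.trans (sb E19102 F109733))
theorem E19134 : n118942 = n32200 := ((D118942).symm.trans (sb E19103 (iv1 D69260)))
theorem E19135 : n118943 = n32205 := ((D118943).symm.trans (sb E19103 F105530))
theorem F190128 : act 2 n54738 = n33545 := (sb E19103 F109403)
theorem E19136 : n72799 = n55169 := ((((iv5 F87264)).symm.trans (sb E19103 F109423))).symm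
theorem F190129 : act 3 n54878 = n33544 := (sb E19108 F109209)
theorem F190130 : act 3 n54879 = n33545 := (sb E19109 F109210)
theorem E19137 : n73281 = n55011 := ((((iv5 F87019)).symm.trans (sb E19109 (iv5 F109729)))).symm
theorem E19140 : n73853 = n69056 := (((F109402).symm.trans (sb E19110 F188555))).symm
theorem E19141 : n72586 = n54693 := ((F109115).symm.trans (sb E19111 (iv0 D118805)))
theorem E19142 : n118217 = n72599 := ((((iv4 F109135)).symm.trans (sb E19111 F187616))).symm
theorem E19143 : n71856 = n33521 := (((D33521).symm.trans (sb E19116 (iv1 F187558)))).symm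
theorem E19144 : n72060 = n33522 := (((D33522).symm.trans (sb E19116 (iv0 F187004)))).symm
theorem E19145 : n80503 = n33520 := ((((iv4 F52840)).symm.trans (sb E19116 F187003))).symm
theorem F190131 : act 0 n58366 = n54737 := (sb E19120 (iv1 D118940))
theorem F190132 : act 1 n58366 = n72146 := (sb E19120 F187031)
theorem E19146 : n119733 = n27771 := ((((iv1 D58308)).symm.trans (sb E19121 (iv1 F188883)))).symm
theorem E19147 : n119732 = n33621 := (((F92172).symm.trans (sb E19121 F188882))).symm
theorem F190133 : act 3 n58308 = n39311 := (sb E19121 F130245)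
theorem F190134 : act 5 n58308 = n72147 := (sb E19121 F110227)
theorem E19148 : n119360 = n33618 := ((((iv7 F109431)).symm.trans (sb E19121 (iv7 F187998)))).symm
theorem F190135 : act 2 n33303 = n16206 := (sb E19122 (iv2 F190101))
theorem F190136 : act 7 n33303 = n16165 := (sb E19122 (iv7 F190104))
theorem E19149 : n72058 = n33421 := ((D72058).symm.trans (sb E19123 (iv1 D72402)))
theorem F190137 : act 1 n33276 = n33524 := (sb E19123 F108903)
theorem E19150 : n72629 = n72401 := ((D72629).symm.trans (iv2 (sb E19124 (tr F187552 E19143))))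
theorem F190138 : act 3 n72401 = n54850 := (sb E19124 (iv3 D119195))
theorem F190139 : act 4 n72401 = n60137 := (sb E19124 F188374)
theorem F190140 : act 4 n71037 = n33524 := (sb E19125 F109161)
theorem F190141 : act 6 n71037 = n72339 := (sb E19125 F109162)
theorem F190142 : act 7 n71037 = n33520 := (sb E19125 (iv7 D72628))
theorem F190143 : act 1 n33533 = n72137 := (sb E19126 (iv0 F108583))
theorem E19151 : n72664 = n32864 := ((D72664).symm.trans (sb E19126 (iv4 D70955)))
theorem F190144 : act 3 n16340 = n33619 := (sb E19127 (iv3 D72933))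
theorem F190146 : act 5 n72935 = n72155 := (sb E19128 F110229)
theorem E19152 : n119734 = n52960 := (((F177846).symm.trans (sb E19131 (iv7 F188884)))).symm
theorem F190147 : act 7 n55092 = n33619 := (sb E19132 F109435)
theorem F190148 : act 3 n73286 = n33918 := (sb E19133 F110644)
theorem E19153 : n33916 = n33719 := ((((iv5 D73286)).symm.trans (sb E19133 (iv5 D73855)))).symm
theorem F190149 : act 6 n73286 = n72158 := (sb E19133 (iv6 F110646))
theorem F190150 : act 7 n73286 = n54738 := (sb E19133 F110645)
theorem F190151 : act 1 n32200 = n54738 := (sb E19134 (iv0 D118942))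
theorem F190152 : act 0 n32205 = n54738 := (sb E19135 (iv1 D118943))
theorem E19154 : n119875 = n33583 := ((D119875).symm.trans (sb E19136 (iv1 F109289)))
theorem E19155 : n119876 = n33578 := ((D119876).symm.trans (sb E19136 (iv0 D72799)))
theorem F190153 : act 2 n55169 = n33718 := (sb E19136 F109425)
theorem F190154 : act 3 n55011 = n33718 := (sb E19137 (iv3 D73281))
theorem F190155 : act 3 n69056 = n117480 := (sb E19140 (iv3 F183994))
theorem E19156 : n117392 = n32121 := ((((iv6 D69056)).symm.trans (sb E19140 (iv6 F183840)))).symm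
theorem F190156 : act 0 n54693 = n33513 := (sb E19141 (iv1 F109115))
theorem E19157 : n118806 = n33505 := ((D118806).symm.trans (sb E19141 (iv0 D72586)))
theorem E19158 : n101066 = n54457 := (((iv1 F155734)).symm.trans (sb E19142 (iv1 F185758)))
theorem E19159 : n101065 = n54452 := ((F155739).symm.trans (sb E19142 (iv0 D118217)))
theorem E19160 : n72630 = n33208 := ((D72630).symm.trans (sb E19143 (iv3 D71856)))
theorem E19161 : n72634 = n33276 := ((D72634).symm.trans (sb E19143 F185116))
theorem E19162 : n72635 = n70540 := ((D72635).symm.trans (sb E19144 (iv3 F185048)))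
theorem E19163 : n72625 = n36728 := ((D72625).symm.trans (sb E19145 (iv1 D80503)))
theorem E19164 : n72626 = n60148 := ((D72626).symm.trans (sb E19145 (iv0 F188332)))
theorem F190157 : act 0 n27771 = n55092 := (sb E19146 (iv1 D119733))
theorem F190158 : act 1 n33621 = n55092 := (sb E19147 (iv0 D119732))
theorem F190159 : act 2 n33618 = n55092 := (sb E19148 F187997)
theorem E19165 : n72930 = n54932 := ((D72930).symm.trans (sb E19148 (iv3 D119360)))
theorem F190160 : act 1 n33421 = n33276 := (sb E19149 (iv0 D72058))
theorem E19166 : n71036 = n70724 := ((((iv4 F107187)).symm.trans (sb E19149 F123927))).symm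
theorem F190161 : act 2 n72401 = n33521 := (sb E19150 (iv2 D72629))
theorem F190162 : act 7 n72401 = n33522 := (sb E19150 (iv7 F109163))
theorem F190163 : act 4 n32864 = n33533 := (sb E19151 (iv4 D72664))
theorem F190164 : act 4 n52960 = n55092 := (sb E19152 (iv4 D119734))
theorem E19167 : n73284 = n16397 := ((D73284).symm.trans (sb E19153 (iv3 D33916)))
theorem E19168 : n73854 = n73285 := (((D73285).symm.trans (sb E19153 D73854))).symm
theorem E19169 : n69018 = n54097 := (((iv6 F109784)).symm.trans (sb E19153 (iv6 F85382)))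
theorem F190165 : act 7 n33719 = n55169 := (sb E19153 (iv7 F87265))
theorem F190166 : act 1 n33583 = n55169 := (sb E19154 (iv0 D119875))
theorem F190167 : act 0 n33578 = n55169 := (sb E19155 (iv1 D119876))
theorem E19171 : n69016 = n68907 := ((F105220).symm.trans (sb E19156 F183842))
theorem E19172 : n69053 = n54134 := ((D69053).symm.trans (sb E19156 F183989))
theorem E19173 : n69017 = n68909 := (((iv7 F109787)).symm.trans (sb E19156 F183841))
theorem F190168 : act 0 n33505 = n54693 := (sb E19157 (iv1 D118806))
theorem E19174 : n118218 = n47083 := ((((iv4 F74340)).symm.trans (sb E19157 (iv4 F187560)))).symm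
theorem F190169 : act 1 n54457 = n72599 := (sb E19158 F155734)
theorem F190170 : act 0 n54452 = n72599 := (sb E19159 (iv1 F155739))
theorem F190171 : act 3 n33208 = n33521 := (sb E19160 (iv3 D72630))
theorem F190172 : act 2 n33276 = n33522 := (sb E19161 F109164)
theorem F190173 : act 7 n33276 = n33521 := (sb E19161 (iv7 D72634))
theorem F190174 : act 3 n70540 = n33522 := (sb E19162 (iv3 D72635))
theorem F190175 : act 1 n36728 = n33520 := (sb E19163 (iv0 D72625))
theorem F190176 : act 0 n60148 = n33520 := (sb E19164 (iv1 D72626))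
theorem F190177 : act 3 n54932 = n33618 := (sb E19165 (iv3 D72930))
theorem F190178 : act 0 n70724 = n80504 := (sb E19166 (iv1 F123753))
theorem F190179 : act 1 n70724 = n32896 := (sb E19166 (iv0 D71036))
theorem F190180 : act 3 n16397 = n33719 := (sb E19167 (iv3 D73284))
theorem F190181 : act 6 n73285 = n117393 := (sb E19168 (iv6 F183845))
theorem F190182 : act 7 n73285 = n119877 := (sb E19168 (iv7 F189225))
theorem E19175 : n117390 = n32103 := ((D117390).symm.trans (sb E19169 (iv1 D69018)))
theorem E19176 : n117391 = n32123 := ((D117391).symm.trans (sb E19169 F105223))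
theorem F190183 : act 2 n54097 = n32121 := (sb E19169 F109783)
theorem F190184 : act 6 n54097 = n33719 := (sb E19169 F109784)
theorem E19177 : n32120 = n32047 := (((F85383).symm.trans (sb E19169 F109785))).symm
theorem F190185 : act 0 n68907 = n32121 := (sb E19171 (iv1 F105220))
theorem F190186 : act 2 n68907 = n32123 := (sb E19171 F105218)
theorem F190187 : act 3 n68907 = n69036 := (sb E19171 (iv3 F105255))
theorem F190188 : act 6 n68907 = n32102 := (sb E19171 (iv6 D69016))
theorem F190189 : act 7 n68907 = n32103 := (sb E19171 F105219)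
theorem F190190 : act 3 n54134 = n32121 := (sb E19172 (iv3 D69053))
theorem F190191 : act 7 n68909 = n32121 := (sb E19173 F109787)
theorem F190192 : act 0 n47083 = n54452 := (sb E19174 (iv1 D118218))
theorem F190193 : act 1 n47083 = n54457 := (sb E19174 F185754)
theorem F190194 : act 0 n32103 = n68909 := (sb E19175 (iv1 F183838))
theorem F190195 : act 1 n32103 = n54097 := (sb E19175 (iv0 D117390))
theorem F190196 : act 0 n32123 = n54097 := (sb E19176 (iv1 D117391))
theorem F190197 : act 1 n32123 = n68909 := (sb E19176 F183843)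
theorem F190198 : act 1 n32047 = n15165 := (sb E19177 (iv0 D32120))
theorem E19181 : n69051 = n68912 := (((D68912).symm.trans (sb E19177 D69051))).symm
theorem E19182 : n69380 = n69137 := (((iv5 F105642)).symm.trans (sb E19181 F105430))
theorem F190199 : act 3 n69137 = n32237 := (sb E19182 (iv3 D69380))
theorem F190200 : act 5 n69137 = n68912 := (sb E19182 F105642)
theorem F190201 : act 7 n69137 = n117721 := (sb E19182 (iv7 F184357))
theorem F190202 : act 2 n117721 = n69136 := d15_3 (iv0 D69136) D69137 F190201
theorem F190204 : act 2 n73283 = n119878 := d2_3 F189227 F190202 (iv5 F109730)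
theorem F190205 : act 3 n119573 = n73283 := d0_0 F190204 F189226 F87270 (iv3 F110629) (iv2 F188559)
theorem F190206 : act 0 n69032 = n117210 := d20_7 (iv4 F49508) (iv1 F84663) F110652 D54097 (iv1 F190195) (iv3 F51066) (iv4 F105251) (iv4 D117210) (iv3 D54020) (iv1 F41409)
theorem F190207 : act 3 n69055 = n117479 := d6_3 (iv5 D117479) F190190 D69055
theorem F190208 : act 2 n117394 = n69055 := d0_5 F190207 F183983 F105098 (iv2 F85387) (iv3 F183847)
theorem F190209 : act 2 n69054 = n117393 := d1_3 (iv4 D117393) F190183 D69054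
theorem F190210 : act 3 n72932 = n119362 := d6_3 (iv5 D119362) F190177 D72932
theorem F190211 : act 3 n117660 = n69259 := d7_3 (iv6 F109397) F190210 F188004
theorem F190212 : act 7 n80502 = n70724 := d15_2 (iv0 F190176) F188333 F107186
theorem F190213 : act 2 n71037 = n80502 := d4_3 F190212 F107186 (iv7 F190142)
theorem F190214 : act 4 n72400 = n80502 := d11_3 F190212 F107187 (iv7 F108899)
theorem F190215 : act 6 n72386 = n80502 := d14_5 F190212 (iv6 D70724) F51903 D33416 D72386
theorem E19183 : n72606 = n54660 := (c20_6 (iv4 F57604) D80502 (iv4 F190214) (iv3 F109113) (iv1 F109116) D72606 D118720 F188357 F94680 F46152 F188329)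
theorem E19184 : n118198 = n33511 := (((iv3 F185740)).symm.trans (sb E19183 (iv3 D72606)))
theorem F190216 : act 3 n33511 = n54660 := (sb E19184 F185740)
theorem E19185 : n72607 = n54447 := ((D72607).symm.trans (sb E19184 (iv4 D118198)))
theorem F190217 : act 4 n54447 = n33511 := (sb E19185 (iv4 D72607))
theorem F190218 : act 4 n72605 = n118196 := d1_2 F190217 (iv2 F109137) F185739
theorem F190219 : act 4 n72609 = n118200 := d10_3 (iv6 D118200) F190217 D72609
theorem F190220 : act 4 n72600 = n118191 := d11_3 (iv7 F185738) F190217 F109136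
theorem E19186 : n118193 = n33510 := (c1_3 F190220 (iv2 D118191) D118193 D72600)
theorem E19187 : n72602 = n54446 := ((D72602).symm.trans (sb E19186 (iv4 D118193)))
theorem F190221 : act 4 n54446 = n33510 := (sb E19187 (iv4 D72602))
theorem F190222 : act 4 n72604 = n118195 := d10_3 (iv6 D118195) F190221 D72604
theorem F190223 : act 0 n72601 = n118826 := d20_4 (iv4 F41999) D54446 F190221 D72601 (iv3 F186899) D118908 F186959 (iv4 F185139) (iv3 D54456) (iv1 D26335)
theorem F190224 : act 0 n70538 = n72601 := d20_4 D32865 (iv1 F110804) F105118 (iv3 F106993) (iv3 D72601) (iv4 F190221) (iv1 F185692) F185689 F85987 (iv1 F51990)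
theorem F190225 : act 2 n118801 = n72601 := d15_3 (iv0 F190224) (iv0 F186888) (iv7 F186872)
theorem E19188 : n72600 = n54693 := (c0_4 D118801 F190225 (iv3 D72601) D72600 (iv3 D54693) D54692)
theorem E19189 : n118807 = n33510 := ((D118807).symm.trans (sb E19188 (iv2 D72600)))
theorem E19190 : n118191 = n118170 := ((((iv4 F185684)).symm.trans (sb E19188 F190220))).symm
theorem E19191 : n118810 = n33511 := ((D118810).symm.trans (sb E19188 (iv7 F109136)))
theorem F190226 : act 2 n33510 = n54693 := (sb E19189 (iv2 D118807))
theorem F190227 : act 2 n118170 = n54446 := (sb E19190 (iv2 D118191))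
theorem F190228 : act 7 n118170 = n54447 := (sb E19190 (iv7 F185738))
theorem E19192 : n54697 = n54660 := (((F190216).symm.trans (sb E19191 F186881))).symm
theorem F190229 : act 7 n33511 = n54693 := (sb E19191 (iv7 D118810))
theorem E19193 : n118800 = n26436 := ((((iv1 D54660)).symm.trans (sb E19192 (iv1 F186871)))).symm
theorem E19195 : n118719 = n26454 := (((iv2 F186742)).symm.trans (sb E19192 F86512))
theorem E19196 : n118816 = n118720 := (((D118720).symm.trans (sb E19192 (iv4 F186886)))).symm
theorem E19197 : n118821 = n118721 := (((D118721).symm.trans (sb E19192 (iv5 F186894)))).symm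
theorem E19198 : n118825 = n118722 := (((D118722).symm.trans (sb E19192 D118825))).symm
theorem E19199 : n118715 = n26453 := ((F186741).symm.trans (sb E19192 (iv7 D54697)))
theorem E19200 : n54692 = n54659 := (((D54659).symm.trans (sb E19193 (iv1 D118800)))).symm
theorem F190230 : act 2 n26454 = n54660 := (sb E19195 F186742)
theorem F190232 : act 7 n118720 = n54694 := (sb E19196 (iv7 D118816))
theorem F190233 : act 2 n118721 = n54700 := (sb E19197 F186893)
theorem F190234 : act 7 n118721 = n54695 := (sb E19197 (iv7 D118821))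
theorem F190235 : act 2 n118722 = n54701 := (sb E19198 F186897)
theorem F190236 : act 7 n26453 = n54660 := (sb E19199 (iv7 F186741))
theorem E19201 : n118801 = n118716 := (((D118716).symm.trans (sb E19200 D118801))).symm
theorem E19202 : n118802 = n118717 := (((D118717).symm.trans (sb E19200 D118802))).symm
theorem E19203 : n118803 = n118718 := (((D118718).symm.trans (sb E19200 D118803))).symm
theorem E19204 : n118804 = n73499 := ((((iv6 F110175)).symm.trans (sb E19200 D118804))).symm
theorem F190238 : act 7 n54659 = n26454 := (sb E19200 (iv7 F86511))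
theorem F190239 : act 2 n118716 = n72601 := (sb E19201 F190225)
theorem F190240 : act 7 n118716 = n54698 := (sb E19201 F186872)
theorem F190241 : act 2 n118717 = n54694 := (sb E19202 F186873)
theorem F190243 : act 2 n118718 = n54695 := (sb E19203 F186875)
theorem F190244 : act 7 n118718 = n54700 := (sb E19203 F186876)
theorem F190245 : act 2 n73499 = n54696 := (sb E19204 F186877)
theorem E19205 : n73496 = n73413 := ((c2_3 D73499 F190245 F110108 F110174)).symm
theorem F190246 : act 2 n73413 = n33789 := (sb E19205 F110174)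
theorem F190247 : act 7 n73413 = n33788 := (sb E19205 (iv7 D73496))
theorem E19206 : n118824 = n73494 := ((c13_2 F190247 D73494 (iv7 D118824) F110108)).symm
theorem F190248 : act 7 n73494 = n54696 := (sb E19206 (iv7 D118824))
theorem E19207 : n73491 = n73412 := (c15_4 (iv0 D73412) D73413 F190247 D73491)
theorem F190249 : act 2 n73412 = n33788 := (sb E19207 (iv2 D73491))
theorem F190250 : act 7 n73412 = n33789 := (sb E19207 (iv7 F110173))
theorem F190251 : act 2 n73495 = n117373 := d3_3 (iv6 F183806) F190249 D73495
theorem E19208 : n117370 = n117326 := (c2_4 (iv5 F183712) F190251 (iv5 D117373) (iv2 F183805))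
theorem F190252 : act 2 n117326 = n54088 := (sb E19208 F183805)
theorem F190253 : act 7 n117326 = n54087 := (sb E19208 (iv7 D117370))
theorem F190254 : act 7 n117368 = n73495 := d13_2 F190253 D117368 F183712
theorem E19209 : n117365 = n117325 := (c15_4 (iv0 D117325) D117326 F190253 D117365)
theorem F190255 : act 2 n117325 = n54087 := (sb E19209 (iv2 D117365))
theorem F190256 : act 7 n117325 = n54088 := (sb E19209 (iv7 F183804))
theorem F190257 : act 1 n118717 = n60119 := d15_0 (iv0 F188357) F190232 (iv2 F190241)
theorem F190258 : act 7 n118827 = n72601 := d4_2 F190240 D118827 (iv2 F190239)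
theorem F190259 : act 3 n72605 = n118827 := d8_3 F190258 (iv3 D72601) D72605
theorem F190260 : act 2 n118835 = n69336 := d3_3 F186743 F190233 D118835
theorem F190261 : act 7 n69337 = n118835 := d15_2 (iv0 D69336) D69337 F190260
theorem F190262 : act 7 n118808 = n72608 := d13_2 F190229 D118808 (iv5 D72608)
theorem E19210 : n72605 = n72587 := (c15_4 F109108 (iv0 F190156) (iv7 F190229) (iv2 F109137))
theorem F190263 : act 2 n72587 = n33511 := (sb E19210 F109137)
theorem F190264 : act 3 n72587 = n118827 := (sb E19210 F190259)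
theorem F190265 : act 4 n72587 = n118196 := (sb E19210 F190218)
theorem F190266 : act 7 n72587 = n33510 := (sb E19210 (iv7 D72605))
theorem F190267 : act 3 n72608 = n118721 := d8_1 F190262 F190234 (iv3 F186879)
theorem E19211 : n118196 = n118171 := (c15_4 F185686 (iv0 F185685) F190228 (iv2 F185739))
theorem F190268 : act 2 n118171 = n54447 := (sb E19211 F185739)
theorem F190269 : act 4 n118171 = n72587 := (sb E19211 (iv4 F190265))
theorem F190270 : act 7 n118171 = n54446 := (sb E19211 (iv7 D118196))
theorem E19212 : n119042 = n118827 := ((c20_4 (iv4 F85998) (iv1 F185686) F190269 F190264 (iv1 D119042) F86664 (iv4 F86763) D119144 F187462 (iv3 D118175) (iv1 F85989))).symm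
theorem F190271 : act 0 n118827 = n54780 := (sb E19212 (iv1 D119042))
theorem F190272 : act 4 n70850 = n72480 := d20_6 (iv4 F190269) (iv1 D118171) F85981 F41989 D32834 D70850 (iv1 F108999) F52849 (iv3 F52834) (iv1 F109108)
theorem E19213 : n72657 = n72480 := ((c11_2 (iv7 F110555) F190272 (iv7 F109183) (iv4 F190163))).symm
theorem F190273 : act 2 n72480 = n33532 := (sb E19213 (iv2 D72657))
theorem F190274 : act 7 n72480 = n33533 := (sb E19213 (iv7 F109183))
theorem F190275 : act 2 n70850 = n72659 := d1_1 (iv4 F190272) (iv4 D72659) (iv2 F190273)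
theorem F190276 : act 3 n72659 = n60120 := d0_2 D70850 F190275 F188368 (iv3 D32859) F110553
theorem F190277 : act 7 n72659 = n70954 := d4_2 (iv7 F110555) F190275 (iv2 D70954)
theorem F190278 : act 1 n72659 = n70952 := d15_0 (iv0 D70952) (iv7 F110555) F190275
theorem F190279 : act 4 n70954 = n72662 := d11_1 F190277 (iv7 D72662) D72659
theorem F190280 : act 1 n70953 = n72659 := d15_1 D70953 F190277 (iv2 D70954)
theorem E19214 : n70994 = n70953 := ((c20_5 (iv4 F42311) D54688 (iv4 F188369) (iv3 F190276) (iv1 F190280) (iv3 D70994) D70995 F186902 (iv4 D118828) (iv3 D54698) (iv1 D26454))).symm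
theorem F190281 : act 3 n70953 = n32881 := (sb E19214 (iv3 D70994))
theorem E19215 : n72662 = n72481 := (c15_4 F109000 F108999 F190274 (iv2 F109184))
theorem F190284 : act 2 n72481 = n33533 := (sb E19215 F109184)
theorem F190285 : act 4 n72481 = n70954 := (sb E19215 (iv4 F190279))
theorem F190286 : act 7 n72481 = n33532 := (sb E19215 (iv7 D72662))
theorem E19216 : n119041 = n118716 := ((c15_4 (iv0 D119041) (iv0 F190271) F190258 (iv2 F190239))).symm
theorem F190287 : act 1 n118716 = n54780 := (sb E19216 (iv0 D119041))
theorem F190288 : act 2 n118808 = n72603 := d2_3 (iv5 D72603) F190226 D118808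
theorem F190289 : act 2 n118809 = n72604 := d3_3 (iv6 D72604) F190226 D118809
theorem F190290 : act 3 n118722 = n72609 := d7_3 (iv6 D72609) F190216 D118722
theorem F190291 : act 3 n72637 = n74102 := d6_3 F110837 F190174 D72637
theorem F190292 : act 0 n60140 = n72636 := d20_1 (iv4 F94698) (iv4 D72636) (iv3 F190174) (iv1 D70540) (iv3 F106993) F106994 F185044 (iv4 D71003) (iv3 F57616) (iv1 F188310)
theorem E19217 : n118176 = n72596 := (c20_1 D118176 (iv1 F155741) F155738 F109113 (iv1 F108900) (iv3 F190174) F185135 (iv1 D70846) F51986 (iv3 F41989) D54440)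
theorem F190293 : act 2 n72596 = n54452 := (sb E19217 F187634)
theorem F190294 : act 3 n72596 = n98159 := (sb E19217 (iv3 F185694))
theorem F190295 : act 4 n72596 = n54440 := (sb E19217 (iv4 D118176))
theorem F190296 : act 7 n72596 = n54457 := (sb E19217 F187635)
theorem E19218 : n118178 = n72597 := (c15_4 F155740 F155741 F190296 (iv2 F187624))
theorem F190297 : act 2 n72597 = n54457 := (sb E19218 F187624)
theorem F190298 : act 4 n72597 = n54441 := (sb E19218 (iv4 D118178))
theorem F190299 : act 7 n72597 = n54452 := (sb E19218 F187625)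
theorem E19219 : n72650 = n57003 := ((c20_7 F190295 (iv1 F85989) (iv4 F85998) F85997 (iv1 F118997) D98169 F151433 (iv1 D72650) (iv4 F109132) F109131 D72596)).symm
theorem F190300 : act 0 n57003 = n33530 := (sb E19219 (iv1 D72650))
theorem F190301 : act 1 n60083 = n72636 := d15_0 (iv0 F190292) (iv7 D60140) (iv2 F94642)
theorem E19220 : n118175 = n114613 := ((c20_5 D72636 (iv1 F190301) F94643 (iv3 F83595) D114613 (iv3 D118175) (iv4 F190295) (iv1 F155741) F155738 F109113 (iv1 F108900))).symm
theorem F190302 : act 2 n114613 = n119228 := (sb E19220 F187632)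
theorem F190303 : act 3 n114613 = n54440 := (sb E19220 (iv3 D118175))
theorem F190304 : act 4 n114613 = n119144 := (sb E19220 (iv4 F187462))
theorem F190305 : act 7 n114613 = n54456 := (sb E19220 F187633)
theorem E19221 : n118230 = n114614 := ((c15_2 (iv0 D114613) D114614 F187609 (iv2 F190302))).symm
theorem F190306 : act 2 n114614 = n54456 := (sb E19221 (iv2 D118230))
theorem F190307 : act 4 n114614 = n119145 := (sb E19221 (iv4 F187645))
theorem F190308 : act 7 n114614 = n119228 := (sb E19221 F187609)
theorem F190309 : act 2 n72062 = n72637 := d0_5 F190291 (iv2 F187566) F187567 F185107 (iv3 F108527)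
theorem E19222 : n74099 = n73381 := (c7_4 F110084 F190291 (iv6 D74102) D74099)
theorem F190310 : act 3 n73381 = n33999 := (sb E19222 (iv3 D74099))
theorem F190311 : act 7 n73381 = n120050 := (sb E19222 (iv7 F189621))
theorem F190312 : act 7 n72631 = n60138 := d11_2 F190173 D72631 F188367
theorem F190313 : act 7 n72632 = n72062 := d13_2 F190173 D72632 (iv5 D72062)
theorem F190314 : act 3 n71858 = n72632 := d8_3 F190313 F108527 (iv7 F185120)
theorem F190315 : act 2 n72631 = n60137 := d15_3 (iv0 D60137) D60138 (iv7 F190312)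
theorem F190316 : act 2 n72636 = n60138 := d1_3 F188367 F190172 D72636
theorem F190317 : act 2 n72638 = n72063 := d3_3 (iv6 D72063) F190172 D72638
theorem F190318 : act 7 n60137 = n72636 := d4_0 F190316 (iv7 F190312) F190315
theorem F190319 : act 1 n60140 = n72631 := d15_1 (iv0 F190292) F190312 (iv2 F190316)
theorem F190320 : act 1 n72631 = n60083 := d15_1 F190319 (iv7 F188359) (iv2 F188364)
theorem F190321 : act 3 n72633 = n71859 := d7_3 (iv6 D71859) F190171 D72633
theorem F190322 : act 5 n119699 = n72633 := d6_0 F190321 F108320 D119699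
theorem F190323 : act 0 n72843 = n119699 := d21_7 (iv5 F110069) (iv1 F110071) (iv5 F109547) (iv6 D73030) (iv1 F92097) F92094 (iv5 F109344) F190322 (iv6 D72633) (iv1 F108901)
theorem F190324 : act 0 n119699 = n70325 := d21_7 (iv5 D16128) (iv1 F11776) D7554 D16195 D33521 D72633 (iv5 F190322) F106783 (iv6 D33585) (iv1 F27184)
theorem F190325 : act 0 n117721 = n69139 := d21_7 D69167 (iv1 F185298) F112439 (iv6 D72802) F190167 D119878 F189227 F105432 (iv6 F105323) (iv1 F105325)
theorem F190326 : act 0 n69074 = n117721 := d21_7 (iv5 D33583) (iv1 D16225) (iv5 F24806) (iv6 D15175) D15172 D32138 D69074 (iv5 F189227) (iv6 D119878) (iv1 F190166)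
theorem E19223 : n117989 = n52961 := (c5_4 F190164 (iv3 D55092) (iv4 F85767) D117989 (iv4 D52961) D52960)
theorem E19224 : n114762 = n54353 := ((D114762).symm.trans (sb E19223 (iv3 D117989)))
theorem E19225 : n114671 = n70153 := (((iv7 F178789)).symm.trans (sb E19223 F185159))
theorem F190327 : act 3 n54353 = n52961 := (sb E19224 (iv3 D114762))
theorem F190328 : act 2 n70153 = n52966 := (sb E19225 F178788)
theorem F190329 : act 4 n70153 = n52926 := (sb E19225 (iv4 D114671))
theorem F190331 : act 4 n117394 = n114759 := d10_3 (iv6 D114759) F190164 (iv6 F183848)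
theorem F190332 : act 3 n114764 = n117395 := d5_3 F190331 F178858 (iv4 F178861) (iv4 D117395) (iv3 F183847)
theorem F190333 : act 3 n103034 = n114663 := d20_9 F83688 (iv1 F83636) (iv4 F190329) (iv3 D70153) (iv1 D32544) (iv3 F44723) F44724 D47768 D103034 F178773
theorem F190334 : act 0 n70139 = n114733 := d20_4 (iv4 D15411) D15409 D32538 D70139 F178838 F83688 (iv1 F83636) (iv4 F190329) (iv3 D70153) (iv1 D32544)
theorem E19226 : n106141 = n103033 := (c5_5 D103034 F190333 F178772 (iv3 D106140) D106141 (iv3 D103033))
theorem F190335 : act 4 n103033 = n49058 := (sb E19226 (iv4 D106141))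
theorem F190336 : act 3 n84420 = n106136 := d20_9 F77438 D49058 (iv4 F190335) (iv3 D103033) (iv1 F75031) (iv3 F36292) (iv4 F75493) (iv1 F75496) D84420 (iv1 D106136)
theorem F190337 : act 4 n76272 = n103600 := d20_8 (iv4 F75493) (iv1 F75496) D84420 F190336 (iv1 D106136) (iv3 F114327) F114328 D76272 (iv3 D103600) (iv1 F75369)
theorem E19227 : n103181 = n52955 := (c20_10 F40626 D25709 D52961 (iv3 F190327) (iv1 F85770) (iv3 F91930) F91931 (iv1 F75032) D47822 D103181 (iv1 D52955))
theorem E19228 : n114744 = n47822 := ((D114744).symm.trans (sb E19227 (iv3 D103181)))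
theorem F190340 : act 3 n47822 = n52955 := (sb E19228 (iv3 D114744))
theorem E19229 : n114731 = n73581 := ((c20_4 F51615 (iv1 F41727) (iv4 F53157) D73581 (iv1 D114731) F83684 F40626 D25709 D52961 (iv3 F190327) (iv1 F85770))).symm
theorem F190341 : act 0 n73581 = n52952 := (sb E19229 (iv1 D114731))
theorem E19230 : n114874 = n103134 := (c20_3 F83685 D53006 D114874 (iv3 D103134) (iv1 F91935) F91930 F51615 (iv1 F41727) (iv4 F53157) D73581 F190341)
theorem F190342 : act 4 n103134 = n53006 := (sb E19230 (iv4 D114874))
theorem E19231 : n103178 = n78988 := ((c5_4 D47822 F190340 D114745 F178851 (iv4 D103178) (iv3 D47821))).symm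
theorem F190344 : act 4 n78988 = n47821 := (sb E19231 (iv4 D103178))
theorem F190347 : act 3 n114738 = n103150 := d8_3 F158421 F190340 F178849
theorem F190348 : act 2 n103162 = n114739 := d0_3 F190347 F158420 D103162 (iv3 D114739) D114738
theorem F190349 : act 7 n119735 = n114739 := d15_2 (iv0 F158429) D119735 (iv2 F190348)
theorem F190350 : act 3 n114743 = n119735 := d8_3 F190349 (iv3 D114739) D114743
theorem F190351 : act 4 n103175 = n114924 := d20_2 F190344 D103175 (iv3 D114924) (iv1 D53031) (iv3 D25734) D25735 (iv1 F177625) F55107 (iv3 F77439) (iv1 F120162)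
theorem F190352 : act 4 n72663 = n70958 := d5_2 F190163 D72663 (iv3 D70958) (iv4 D32865) D32864
theorem F190353 : act 4 n72666 = n70957 := d10_3 (iv6 D70957) F190163 D72666
theorem E19232 : n73956 = n73245 := ((c21_2 D33709 D73245 F131174 (iv6 D72063) (iv1 F190160) (iv6 D33421) F25679 (iv1 F11817) D16117 D33381 F130785)).symm
theorem F190354 : act 3 n73245 = n33949 := (sb E19232 (iv3 D73956))
theorem F190355 : act 5 n73245 = n72063 := (sb E19232 F131174)
theorem F190356 : act 7 n73245 = n119860 := (sb E19232 (iv7 F189197))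
theorem F190357 : act 0 n106325 = n117987 := d20_7 D26272 D54353 F85767 D55092 (iv1 F190158) (iv3 F109343) (iv4 F163394) (iv4 D117987) (iv3 D54351) (iv1 D26271)
theorem F190358 : act 4 n106306 = n117974 := d20_2 (iv4 F77596) (iv1 F163381) (iv3 D117974) (iv1 D54347) F41718 D26272 D54353 F85767 D55092 (iv1 F190158)
theorem E19233 : n114435 = n53011 := (c20_5 (iv4 D117987) (iv1 F188344) D60221 (iv3 F94781) D114435 (iv3 D53011) (iv4 F177819) (iv1 F37467) (iv4 F77604) (iv3 F163393) F190357)
theorem E19234 : n114887 = n52816 := ((D114887).symm.trans (sb E19233 (iv0 D114435)))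
theorem F190359 : act 0 n52816 = n53011 := (sb E19234 (iv1 D114887))
theorem E19235 : n115021 = n114436 := (((D114436).symm.trans (sb E19234 F179115))).symm
theorem F190360 : act 1 n114436 = n114886 := (sb E19235 F179113)
theorem F190361 : act 2 n114436 = n53074 := (sb E19235 (iv2 D115021))
theorem F190362 : act 3 n114436 = n114899 := (sb E19235 F179111)
theorem F190363 : act 7 n114436 = n114888 := (sb E19235 F179112)
theorem F190364 : act 1 n106284 = n117987 := d15_0 (iv0 F190357) F163395 (iv2 F163340)
theorem E19236 : n119683 = n33585 := (c18_4 (iv1 D36368) (iv4 F57099) D79807 (iv4 F188799) (iv5 F106783) (iv4 F163342) F190364 (iv4 D117987) (iv0 F188428) (iv5 D79841))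
theorem E19237 : n79087 = n72820 := (((D72820).symm.trans (sb E19236 (iv1 F188800)))).symm
theorem E19238 : n72821 = n55067 := ((D72821).symm.trans (sb E19236 (iv0 D119683)))
theorem E19239 : n73456 = n58282 := ((((iv3 F92138)).symm.trans (sb E19236 F188801))).symm
theorem E19240 : n79807 = n28634 := (((F52876).symm.trans (sb E19236 F188799))).symm
theorem E19241 : n119684 = n33592 := ((((iv1 F109306)).symm.trans (sb E19237 (iv1 F188809)))).symm
theorem F190365 : act 2 n72820 = n119646 := (sb E19237 (iv2 F188700))
theorem F190366 : act 3 n72820 = n35990 := (sb E19237 (iv3 D79087))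
theorem F190367 : act 7 n72820 = n119685 := (sb E19237 (iv7 F188808))
theorem F190368 : act 0 n55067 = n33585 := (sb E19238 (iv1 D72821))
theorem F190369 : act 0 n58282 = n33779 := (sb E19239 (iv1 D73456))
theorem F190370 : act 1 n58282 = n119325 := (sb E19239 F187888)
theorem E19242 : n70004 = n47067 := (((F92139).symm.trans (sb E19239 (iv4 F188802)))).symm
theorem E19243 : n60256 = n60211 := ((D60256).symm.trans (sb E19240 (iv1 F188436)))
theorem E19244 : n60257 = n36357 := ((D60257).symm.trans (sb E19240 (iv0 D79807)))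
theorem F190371 : act 0 n33592 = n55067 := (sb E19241 (iv1 D119684))
theorem E19245 : n55075 = n16254 := (((F52886).symm.trans (sb E19241 (iv3 F188811)))).symm
theorem E19246 : n79808 = n72830 := ((((iv4 F109334)).symm.trans (sb E19241 F188810))).symm
theorem E19247 : n101018 = n32492 := ((D101018).symm.trans (sb E19242 (iv1 D70004)))
theorem E19248 : n101019 = n32497 := ((D101019).symm.trans (sb E19242 F106409))
theorem F190372 : act 1 n60211 = n28634 := (sb E19243 (iv0 D60256))
theorem F190373 : act 0 n36357 = n28634 := (sb E19244 (iv1 D60257))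
theorem E19249 : n33805 = n27770 := ((((iv1 F44852)).symm.trans (sb E19245 (iv1 F87089)))).symm
theorem E19250 : n27769 = n26619 := ((F44856).symm.trans (sb E19245 (iv0 D55075)))
theorem E19252 : n119708 = n33607 := ((((iv4 F52900)).symm.trans (sb E19245 D119708))).symm
theorem F190374 : act 0 n72830 = n36357 := (sb E19246 (iv1 D79808))
theorem F190375 : act 1 n72830 = n60211 := (sb E19246 (iv0 F188435))
theorem F190376 : act 1 n32492 = n47067 := (sb E19247 (iv0 D101018))
theorem F190377 : act 0 n32497 = n47067 := (sb E19248 (iv1 D101019))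
theorem E19256 : n55076 = n13257 := ((((iv1 D27770)).symm.trans (sb E19249 (iv1 F87093)))).symm
theorem E19258 : n58303 = n18646 := ((D58303).symm.trans (sb E19249 F130272))
theorem E19259 : n73069 = n58304 := (((D58304).symm.trans (sb E19249 (iv4 F190068)))).symm
theorem E19260 : n73549 = n58305 := (((D58305).symm.trans (sb E19249 D73549))).symm
theorem E19261 : n73550 = n58306 := (((D58306).symm.trans (sb E19249 D73550))).symm
theorem E19262 : n58297 = n54923 := ((F92169).symm.trans (sb E19249 (iv7 F131616)))
theorem F190378 : act 0 n26619 = n16254 := (sb E19250 (iv1 F44856))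
theorem E19266 : n58301 = n55080 := (((D55080).symm.trans (sb E19250 D58301))).symm
theorem E19267 : n117965 = n58294 := ((((iv1 F92161)).symm.trans (sb E19252 F188850))).symm
theorem F190379 : act 0 n13257 = n26619 := (sb E19256 (iv1 D55076))
theorem F190381 : act 3 n18646 = n27770 := (sb E19258 (iv3 D58303))
theorem F190382 : act 0 n58304 = n119717 := (sb E19259 F190066)
theorem F190385 : act 7 n58304 = n33661 := (sb E19259 (iv7 D73069))
theorem F190386 : act 0 n58305 = n119721 := (sb E19260 (iv1 F188861))
theorem F190387 : act 1 n58305 = n119720 := (sb E19260 F188860)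
theorem F190389 : act 3 n58305 = n39308 := (sb E19260 F130277)
theorem F190390 : act 7 n58305 = n119347 := (sb E19260 (iv7 F187950))
theorem F190391 : act 0 n58306 = n85796 := (sb E19261 (iv1 F131592))
theorem F190392 : act 1 n58306 = n85795 := (sb E19261 F131587)
theorem F190394 : act 3 n58306 = n39309 := (sb E19261 F130278)
theorem F190395 : act 7 n58306 = n85797 := (sb E19261 (iv7 F131590))
theorem F190396 : act 7 n54923 = n27770 := (sb E19262 (iv7 F92169))
theorem E19272 : n119724 = n33584 := ((D119724).symm.trans (sb E19266 F109957))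
theorem E19273 : n119725 = n33742 := ((D119725).symm.trans (sb E19266 (iv0 F109690)))
theorem E19274 : n33468 = n33166 := ((((iv5 F87101)).symm.trans (sb E19266 F92170))).symm
theorem F190397 : act 4 n58294 = n54342 := (sb E19267 (iv4 D117965))
theorem E19275 : n74011 = n72526 := (((F109290).symm.trans (sb E19272 (iv1 F188865)))).symm
theorem F190398 : act 1 n33584 = n55080 := (sb E19272 (iv0 D119724))
theorem F190399 : act 0 n33742 = n55080 := (sb E19273 (iv1 D119725))
theorem E19276 : n71741 = n16163 := ((D71741).symm.trans (sb E19274 (iv1 D33468)))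
theorem E19277 : n72321 = n71742 := (((D71742).symm.trans (sb E19274 F108773))).symm
theorem F190400 : act 2 n72526 = n33966 := (sb E19275 (iv2 D74011))
theorem E19283 : n118613 = n33467 := ((((iv5 D72526)).symm.trans (sb E19275 (iv5 F186564)))).symm
theorem F190402 : act 6 n72526 = n85797 := (sb E19275 (iv6 F131589))
theorem F190404 : act 1 n16163 = n33166 := (sb E19276 (iv0 D71741))
theorem F190406 : act 5 n71742 = n33372 := (sb E19277 F108771)
theorem F190407 : act 7 n71742 = n33371 := (sb E19277 (iv7 D72321))
theorem F190408 : act 0 n33467 = n71742 := (sb E19283 (iv1 F186568))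
theorem F190409 : act 2 n33467 = n54617 := (sb E19283 (iv2 D118613))
theorem E19284 : n72524 = n54829 := ((D72524).symm.trans (sb E19283 F186563))
theorem F190411 : act 3 n54829 = n33467 := (sb E19284 (iv3 D72524))
theorem F190412 : act 3 n72527 = n69415 := d7_3 (iv6 F105692) F190411 D72527
theorem F190413 : act 2 n118615 = n72527 := d0_5 F190412 (iv2 F130313) F108205 (iv2 F86323) (iv3 F186570)
theorem F190414 : act 5 n69413 = n72527 := d6_0 F190412 (iv5 D69415) D69413
theorem F190415 : act 0 n69413 = n75067 := d21_7 (iv5 D13874) F53962 D7545 (iv6 F25699) D33467 D72527 (iv5 F190414) F112587 (iv6 D61561) (iv1 D29149)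
theorem F190416 : act 2 n118614 = n72525 := d1_3 (iv4 D72525) F190409 D118614
theorem E19285 : n69167 = n61809 := (c20_8 (iv4 F47860) (iv1 F47862) F46932 D33166 (iv1 F190404) (iv3 F52631) D72351 F185271 (iv4 D61809) (iv3 D29293) (iv1 F23629))
theorem F190417 : act 0 n61809 = n74916 := (sb E19285 (iv1 F185298))
theorem F190418 : act 1 n61809 = n72351 := (sb E19285 (iv0 F185271))
theorem F190419 : act 5 n61809 = n32169 := (sb E19285 (iv5 D69167))
theorem F190420 : act 6 n61809 = n72349 := (sb E19285 (iv6 F108797))
theorem F190421 : act 4 n72532 = n74756 := d20_2 D33469 D72532 (iv3 D74756) (iv1 F53911) F47809 (iv4 F47860) (iv1 F47862) F46932 D33166 (iv1 F190404)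
theorem E19286 : n74926 = n72350 := (c20_4 (iv4 F98061) (iv1 F112112) F112466 D74926 (iv1 D72350) F52631 D33469 D72532 F190421 (iv3 D74756) (iv1 F53911))
theorem F190422 : act 2 n72350 = n118523 := (sb E19286 (iv2 F186429))
theorem F190423 : act 3 n72350 = n34335 := (sb E19286 (iv3 D74926))
theorem F190424 : act 7 n72350 = n107858 := (sb E19286 (iv7 F166624))
theorem F190425 : act 2 n107858 = n72349 := d15_3 (iv0 D72349) D72350 F190424
theorem F190426 : act 7 n118523 = n72349 := d4_2 (iv7 F190424) F190422 (iv2 F190425)
theorem F190427 : act 3 n72349 = n118476 := d8_1 F190426 F186328 D118523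
theorem F190428 : act 3 n117575 = n61809 := d7_3 F190420 F190427 F186324
theorem F190429 : act 2 n61809 = n117764 := d0_1 F190428 F184435 F105738 (iv3 F105748) (iv2 F186327)
theorem F190430 : act 4 n61811 = n117575 := d5_0 F190428 (iv4 D61809) (iv3 D29293) D29294 D61811
theorem E19287 : n69165 = n54167 := (c6_4 D117575 F190428 F190419 D69165)
theorem E19288 : n117573 = n32169 := ((D117573).symm.trans (sb E19287 (iv3 D69165)))
theorem E19289 : n69428 = n15185 := ((((iv1 D32169)).symm.trans (sb E19288 F186331))).symm
theorem E19291 : n69164 = n54249 := (((iv2 F105452)).symm.trans (sb E19288 F186333))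
theorem F190431 : act 3 n32169 = n54167 := (sb E19288 (iv3 D117573))
theorem E19292 : n69429 = n69159 := (((F105451).symm.trans (sb E19288 F186334))).symm
theorem E19293 : n32251 = n32168 := (((D32168).symm.trans (sb E19289 (iv1 D69428)))).symm
theorem F190432 : act 2 n54249 = n32169 := (sb E19291 F105452)
theorem F190433 : act 0 n69159 = n117761 := (sb E19292 (iv1 F184432))
theorem F190434 : act 1 n69159 = n117760 := (sb E19292 F184428)
theorem F190435 : act 3 n69159 = n117499 := (sb E19292 (iv3 F184058))
theorem E19294 : n69160 = n15213 := ((D69160).symm.trans (sb E19293 (iv3 D32251)))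
theorem E19295 : n69430 = n69161 := (((D69161).symm.trans (sb E19293 D69430))).symm
theorem E19296 : n69431 = n69162 := (((D69162).symm.trans (sb E19293 D69431))).symm
theorem E19297 : n69432 = n69163 := (((D69163).symm.trans (sb E19293 D69432))).symm
theorem F190436 : act 7 n32168 = n54249 := (sb E19293 (iv7 F105735))
theorem F190437 : act 3 n15213 = n32168 := (sb E19294 (iv3 D69160))
theorem F190438 : act 7 n69161 = n117763 := (sb E19295 (iv7 F184434))
theorem F190439 : act 3 n69162 = n32253 := (sb E19296 F105704)
theorem F190440 : act 7 n69162 = n117764 := (sb E19296 (iv7 F184436))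
theorem F190442 : act 5 n69163 = n117398 := (sb E19297 (iv5 F183863))
theorem F190443 : act 0 n117398 = n69019 := d21_7 F50349 (iv1 F41178) (iv5 F50818) D15185 D32168 D69163 F190442 (iv5 D69019) (iv6 D32103) (iv1 F50759)
theorem F190444 : act 0 n69060 = n117398 := d21_7 (iv5 F112382) (iv1 F112384) (iv5 F105453) (iv6 D69010) (iv1 F105152) F105149 (iv5 F105274) (iv5 F190442) (iv6 D69163) (iv1 F105326)
theorem F190445 : act 4 n114018 = n117223 := d20_8 (iv4 F104805) (iv1 F107453) F110663 D117398 F190443 (iv3 F105252) (iv4 F105254) D114018 (iv3 D117223) (iv1 F85237)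
theorem F190446 : act 4 n76350 = n79848 := d20_2 (iv4 F105226) D76350 F122591 F104765 F104762 (iv4 F104805) (iv1 F107453) F110663 D117398 F190443
theorem F190447 : act 6 n79847 = n76350 := d10_0 F190446 (iv6 D79848) D79847
theorem F190448 : act 2 n62916 = n69162 := d4_3 F190440 (iv2 F190429) (iv7 F98161)
theorem F190449 : act 1 n72351 = n69162 := d15_1 F190418 F190440 (iv2 F190429)
theorem F190450 : act 1 n69162 = n74916 := d15_1 F190449 (iv7 F185282) F108891
theorem F190451 : act 4 n72349 = n61810 := d20_2 (iv4 D72351) D72349 F96378 F96362 F110538 (iv4 F112484) F163080 (iv4 D69440) (iv3 F190439) (iv1 F190449)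
theorem F190452 : act 0 n60096 = n61810 := d20_1 D60096 (iv4 F190451) F190427 (iv1 F186329) F86266 (iv4 F86334) (iv1 F86337) (iv4 D29767) D29766 F188417
theorem F190453 : act 4 n69162 = n62915 := d1_2 D62916 F190448 (iv2 D62915)
theorem F190454 : act 5 n69159 = n62916 := d2_0 F190448 (iv5 D69162) D69159
theorem F190455 : act 4 n60094 = n117764 := d11_3 (iv7 F190440) F190453 (iv7 F188416)
theorem F190456 : act 4 n60036 = n72337 := d18_1 (iv1 F94539) (iv1 D72337) F52630 D33388 D72351 F190449 F190453 (iv0 F188466) F94647
theorem F190457 : act 2 n69166 = n117763 := d1_3 (iv4 D117763) F190432 D69166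
theorem F190458 : act 2 n69168 = n117765 := d3_3 (iv6 D117765) F190432 D69168
theorem F190459 : act 3 n75900 = n69168 := d0_0 F190458 F184438 F105740 (iv3 F105749) F184519
theorem E19298 : n69589 = n69265 := ((c15_2 F185299 D69265 F184439 (iv2 F190458))).symm
theorem F190460 : act 3 n69265 = n32310 := (sb E19298 (iv3 D69589))
theorem F190461 : act 7 n69265 = n117765 := (sb E19298 F184439)
theorem F190462 : act 4 n69169 = n60087 := d17_9 F94869 (iv5 D60335) D60333 F188469 D61809 F190419 F105325 (iv5 F112382) F112385
theorem F190463 : act 2 n70802 = n69169 := d1_3 F190462 F189876 D70802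
theorem E19299 : n118514 = n72394 := (c18_10 (iv1 F185296) (iv4 D69171) D69169 F190462 (iv5 D60087) D60086 F189872 (iv4 F186419) (iv0 D118510) D118514)
theorem F190464 : act 3 n72394 = n54580 := (sb E19299 F186424)
theorem E19300 : n54578 = n33418 := ((((iv5 D72394)).symm.trans (sb E19299 (iv5 D118514)))).symm
theorem E19301 : n118510 = n16138 := ((((iv1 D33418)).symm.trans (sb E19300 D118510))).symm
theorem E19302 : n118511 = n33389 := (((F52688).symm.trans (sb E19300 D118511))).symm
theorem E19303 : n118512 = n33387 := (((F109769).symm.trans (sb E19300 D118512))).symm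
theorem E19304 : n72392 = n26392 := ((D72392).symm.trans (sb E19300 (iv3 D54578)))
theorem E19305 : n118513 = n72393 := (((D72393).symm.trans (sb E19300 D118513))).symm
theorem E19306 : n118515 = n72395 := (((D72395).symm.trans (sb E19300 D118515))).symm
theorem E19307 : n118472 = n33386 := (((F109770).symm.trans (sb E19300 (iv7 F186315)))).symm
theorem E19308 : n119821 = n33417 := (((D33417).symm.trans (sb E19301 (iv1 F189081)))).symm
theorem E19309 : n71585 = n33408 := ((((iv3 F52667)).symm.trans (sb E19301 F186420))).symm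
theorem E19310 : n81063 = n33416 := ((((iv4 F52687)).symm.trans (sb E19301 F186419))).symm
theorem E19311 : n54602 = n16164 := (((F52633).symm.trans (sb E19302 F189078))).symm
theorem E19313 : n71708 = n16122 := ((((iv1 D33387)).symm.trans (sb E19303 F186422))).symm
theorem E19314 : n74930 = n72345 := (((D72345).symm.trans (sb E19303 F186421))).symm
theorem F190465 : act 3 n26392 = n33418 := (sb E19304 (iv3 D72392))
theorem E19315 : n72341 = n54559 := ((((iv7 F86915)).symm.trans (sb E19304 (iv7 F109771)))).symm
theorem F190466 : act 1 n72393 = n70785 := (sb E19305 (iv0 F186423))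
theorem F190467 : act 3 n72395 = n54581 := (sb E19306 F186425)
theorem E19316 : n119395 = n33646 := (((F52924).symm.trans (sb E19307 F188109))).symm
theorem E19317 : n72388 = n55136 := ((D72388).symm.trans (sb E19308 F189074))
theorem E19318 : n58280 = n55133 := ((F92136).symm.trans (sb E19308 (iv6 D119821)))
theorem E19319 : n72372 = n33105 := ((D72372).symm.trans (sb E19309 (iv1 D71585)))
theorem E19320 : n119033 = n72373 := (((D72373).symm.trans (sb E19309 F187277))).symm
theorem E19321 : n70695 = n70618 := ((((iv4 F107086)).symm.trans (sb E19309 (iv4 F189082)))).symm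
theorem E19322 : n72383 = n60086 := ((D72383).symm.trans (sb E19310 (iv1 F189872)))
theorem E19323 : n72384 = n37043 := ((D72384).symm.trans (sb E19310 (iv0 D81063)))
theorem E19324 : n33370 = n33157 := (((iv1 F52608)).symm.trans (sb E19311 (iv1 F86289)))
theorem E19325 : n33369 = n26405 := ((F52613).symm.trans (sb E19311 (iv0 D54602)))
theorem E19327 : n118577 = n33455 := ((((iv4 F52743)).symm.trans (sb E19311 D118577))).symm
theorem E19329 : n118579 = n33303 := (((F190118).symm.trans (sb E19311 D118579))).symm
theorem E19332 : n70797 = n33385 := ((((iv4 F52630)).symm.trans (sb E19313 F108191))).symm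
theorem F190468 : act 0 n72345 = n34336 := (sb E19314 (iv1 D74930))
theorem F190469 : act 1 n72345 = n70545 := (sb E19314 F112450)
theorem F190471 : act 4 n72345 = n96761 := (sb E19314 (iv4 F149233))
theorem F190472 : act 5 n72345 = n74864 := (sb E19314 (iv5 F112452))
theorem F190473 : act 6 n72345 = n73693 := (sb E19314 (iv6 F112454))
theorem F190474 : act 3 n54559 = n33386 := (sb E19315 (iv3 D72341))
theorem E19333 : n73016 = n54946 := (((F86913).symm.trans (sb E19315 F109503))).symm
theorem E19336 : n54944 = n16265 := ((((iv5 D33646)).symm.trans (sb E19316 (iv5 D119395)))).symm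
theorem E19337 : n73673 = n58275 := ((((iv7 F109756)).symm.trans (sb E19316 F188107))).symm
theorem F190475 : act 3 n55136 = n33417 := (sb E19317 (iv3 D72388))
theorem F190476 : act 7 n55136 = n72345 := (sb E19317 F109777)
theorem F190477 : act 2 n55133 = n33646 := (sb E19318 F109763)
theorem E19338 : n27760 = n26641 := ((((iv5 D55133)).symm.trans (sb E19318 (iv5 D58280)))).symm
theorem F190478 : act 6 n55133 = n33417 := (sb E19318 (iv6 F92136))
theorem E19339 : n33853 = n33641 := ((F87208).symm.trans (sb E19318 F109764))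
theorem E19340 : n72300 = n71584 := (((D71584).symm.trans (sb E19319 (iv1 F108860)))).symm
theorem F190479 : act 1 n33105 = n33408 := (sb E19319 (iv0 D72372))
theorem F190480 : act 2 n72373 = n70674 := (sb E19320 F187274)
theorem F190481 : act 3 n72373 = n54777 := (sb E19320 (iv3 D119033))
theorem F190482 : act 4 n72373 = n70601 := (sb E19320 (iv4 F187276))
theorem F190483 : act 7 n72373 = n70669 := (sb E19320 F187275)
theorem F190484 : act 0 n70618 = n32779 := (sb E19321 (iv1 D70695))
theorem F190485 : act 1 n70618 = n32784 := (sb E19321 F107155)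
theorem F190487 : act 1 n60086 = n33416 := (sb E19322 (iv0 D72383))
theorem F190488 : act 0 n37043 = n33416 := (sb E19323 (iv1 D72384))
theorem F190489 : act 1 n37043 = n72339 := (sb E19323 F108881)
theorem E19341 : n54603 = n16112 := (((iv1 F86293)).symm.trans (sb E19324 (iv1 D33370)))
theorem E19342 : n16162 = n15989 := ((((iv2 D33157)).symm.trans (sb E19324 (iv2 F109523)))).symm
theorem E19343 : n72314 = n54611 := ((((iv3 F86308)).symm.trans (sb E19324 D72314))).symm
theorem E19344 : n72315 = n71717 := (((D71717).symm.trans (sb E19324 D72315))).symm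
theorem E19345 : n72316 = n71718 := (((D71718).symm.trans (sb E19324 D72316))).symm
theorem E19346 : n72317 = n71719 := (((D71719).symm.trans (sb E19324 D72317))).symm
theorem E19347 : n54604 = n16161 := (((iv7 F86291)).symm.trans (sb E19324 (iv7 F109529)))
theorem F190491 : act 0 n26405 = n16164 := (sb E19325 (iv1 F52613))
theorem E19351 : n72312 = n54607 := (((D54607).symm.trans (sb E19325 D72312))).symm
theorem E19352 : n118157 = n72305 := ((((iv1 F108754)).symm.trans (sb E19327 F186489))).symm
theorem E19353 : n72187 = n72138 := (((D72138).symm.trans (sb E19329 F189117))).symm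
theorem E19359 : n72336 = n32813 := ((D72336).symm.trans (sb E19332 (iv1 D70797)))
theorem E19360 : n81065 = n72337 := (((D72337).symm.trans (sb E19332 F124846))).symm
theorem F190492 : act 3 n54946 = n33646 := (sb E19333 F109502)
theorem E19361 : n33644 = n26573 := ((((iv5 D54946)).symm.trans (sb E19333 (iv5 D73016)))).symm
theorem E19363 : n33849 = n27762 := (((F44825).symm.trans (sb E19336 F86908))).symm
theorem E19364 : n33673 = n33645 := (((D33645).symm.trans (sb E19336 F189915))).symm
theorem E19365 : n119396 = n33647 := (((D33647).symm.trans (sb E19336 D119396))).symm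
theorem E19366 : n33851 = n27759 := (((F109757).symm.trans (sb E19336 F86906))).symm
theorem F190493 : act 0 n58275 = n119819 := (sb E19337 (iv1 F189071))
theorem F190494 : act 1 n58275 = n119818 := (sb E19337 F189070)
theorem F190495 : act 3 n58275 = n39290 := (sb E19337 F110369)
theorem E19367 : n55130 = n13252 := ((D55130).symm.trans (sb E19338 (iv1 D27760)))
theorem E19368 : n55131 = n16267 := ((D55131).symm.trans (sb E19338 F44820))
theorem F190496 : act 2 n26641 = n16265 := (sb E19338 F109758)
theorem E19369 : n58278 = n12731 := ((((iv3 D26641)).symm.trans (sb E19338 D58278))).symm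
theorem E19370 : n58279 = n55132 := (((D55132).symm.trans (sb E19338 D58279))).symm
theorem E19371 : n58281 = n55134 := (((D55134).symm.trans (sb E19338 D58281))).symm
theorem E19372 : n16364 = n16264 := ((F42694).symm.trans (sb E19338 F109759))
theorem E19373 : n72994 = n16366 := (((iv3 F109487)).symm.trans (sb E19339 F53199))
theorem E19374 : n73681 = n73005 := (((D73005).symm.trans (sb E19339 D73681))).symm
theorem E19375 : n73682 = n73006 := (((D73006).symm.trans (sb E19339 D73682))).symm
theorem F190497 : act 7 n33641 = n55133 := (sb E19339 (iv7 F87208))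
theorem F190498 : act 0 n71584 = n72373 := (sb E19340 (iv1 F108854))
theorem F190500 : act 3 n71584 = n33372 := (sb E19340 F108748)
theorem F190501 : act 4 n71584 = n101064 := (sb E19340 (iv4 F155732))
theorem F190502 : act 6 n71584 = n33513 := (sb E19340 F108749)
theorem F190503 : act 7 n71584 = n33360 := (sb E19340 (iv7 D72300))
theorem F190504 : act 0 n16112 = n26405 := (sb E19341 (iv1 D54603))
theorem F190505 : act 1 n16112 = n33157 := (sb E19341 F86293)
theorem F190506 : act 0 n15989 = n7541 := (sb E19342 (iv1 D16162))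
theorem E19380 : n33372 = n33156 := (((D33156).symm.trans (sb E19342 F52614))).symm
theorem E19382 : n33464 = n33158 := (((D33158).symm.trans (sb E19342 D33464))).symm
theorem E19383 : n33465 = n33159 := (((D33159).symm.trans (sb E19342 D33465))).symm
theorem E19384 : n33466 = n33160 := (((D33160).symm.trans (sb E19342 D33466))).symm
theorem E19385 : n33458 = n26523 := (((F86309).symm.trans (sb E19343 F109524))).symm
theorem E19386 : n118585 = n33459 := (((iv7 F186492)).symm.trans (sb E19344 F109526))
theorem E19387 : n118592 = n73355 := (((iv1 F186511)).symm.trans (sb E19345 F109953))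
theorem E19388 : n118591 = n72818 := ((F186510).symm.trans (sb E19345 F109544))
theorem E19389 : n118586 = n33460 := (((iv7 F186500)).symm.trans (sb E19345 F109528))
theorem F190507 : act 1 n71719 = n34377 := (sb E19346 F109546)
theorem E19390 : n85092 = n58343 := ((F130432).symm.trans (sb E19346 (iv5 F108765)))
theorem E19391 : n73653 = n33461 := (((D33461).symm.trans (sb E19347 F110357))).symm
theorem E19392 : n58257 = n55139 := ((((iv5 F87223)).symm.trans (sb E19351 F108763))).symm
theorem E19393 : n73709 = n73029 := (((iv7 F110412)).symm.trans (sb E19351 F109538))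
theorem F190510 : act 4 n72305 = n54432 := (sb E19352 (iv4 D118157))
theorem E19394 : n118952 = n33547 := (((F190113).symm.trans (sb E19353 (iv1 F187051)))).symm
theorem E19395 : n33546 = n33322 := ((F190114).symm.trans (sb E19353 (iv0 D72187)))
theorem E19396 : n72386 = n70796 := (((D70796).symm.trans (sb E19359 (iv1 F108887)))).symm
theorem F190511 : act 1 n32813 = n33385 := (sb E19359 (iv0 D72336))
theorem F190512 : act 2 n72337 = n37043 := (sb E19360 (iv2 D81065))
theorem E19397 : n60036 = n37053 := (((iv4 F190456)).symm.trans (sb E19360 F124842))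
theorem F190513 : act 7 n72337 = n60086 := (sb E19360 (iv7 F189874))
theorem F190514 : act 3 n26573 = n16265 := (sb E19361 (iv3 D33644))
theorem E19402 : n73017 = n54947 := (((D54947).symm.trans (sb E19361 D73017))).symm
theorem E19403 : n58273 = n18639 := ((((iv7 F53234)).symm.trans (sb E19361 (iv7 F109752)))).symm
theorem E19410 : n73651 = n58258 := ((((iv3 F92092)).symm.trans (sb E19363 F110354))).symm
theorem E19411 : n73664 = n58271 := ((((iv4 F92128)).symm.trans (sb E19363 D73664))).symm
theorem E19413 : n72998 = n16277 := (((iv1 F109490)).symm.trans (sb E19364 (iv1 D33673)))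
theorem E19414 : n72997 = n57649 := ((F109494).symm.trans (sb E19364 F90798))
theorem E19418 : n58274 = n57646 := (((iv7 F109754)).symm.trans (sb E19364 (iv7 F190038)))
theorem E19421 : n73877 = n73025 := (((D73025).symm.trans (sb E19365 F188113))).symm
theorem E19422 : n73674 = n58276 := (((D58276).symm.trans (sb E19366 D73674))).symm
theorem F190515 : act 1 n13252 = n26641 := (sb E19367 (iv0 D55130))
theorem E19424 : n119806 = n27753 := ((((iv3 F44807)).symm.trans (sb E19367 D119806))).symm
theorem E19425 : n119807 = n27758 := ((((iv4 F44819)).symm.trans (sb E19367 D119807))).symm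
theorem F190516 : act 0 n16267 = n26641 := (sb E19368 (iv1 D55131))
theorem E19429 : n119773 = n33628 := ((((iv3 F52916)).symm.trans (sb E19368 F188994))).symm
theorem E19431 : n119812 = n33651 := ((((iv5 F52928)).symm.trans (sb E19368 D119812))).symm
theorem E19433 : n33639 = n7600 := (((F42343).symm.trans (sb E19369 F109760))).symm
theorem F190517 : act 2 n55132 = n33645 := (sb E19370 F109761)
theorem E19434 : n33672 = n33640 := ((F189914).symm.trans (sb E19370 F109762))
theorem F190518 : act 2 n55134 = n33647 := (sb E19371 F109765)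
theorem E19435 : n33927 = n33724 := ((F87210).symm.trans (sb E19371 F109766))
theorem E19436 : n33854 = n33642 := (((D33642).symm.trans (sb E19372 D33854))).symm
theorem F190519 : act 7 n16264 = n26641 := (sb E19372 (iv7 F42694))
theorem F190520 : act 3 n16366 = n33641 := (sb E19373 F109487)
theorem F190521 : act 7 n73005 = n119820 := (sb E19374 (iv7 F189072))
theorem F190522 : act 3 n73006 = n33858 := (sb E19375 F110375)
theorem F190523 : act 5 n73006 = n118954 := (sb E19375 (iv5 F187056))
theorem F190524 : act 1 n33156 = n16161 := (sb E19380 F52615)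
theorem F190525 : act 2 n33156 = n16164 := (sb E19380 F52611)
theorem E19437 : n71713 = n71584 := ((D71713).symm.trans (sb E19380 (iv3 F190500)))
theorem E19438 : n72307 = n71714 := (((D71714).symm.trans (sb E19380 (iv4 F108757)))).symm
theorem E19439 : n71742 = n71715 := (((D71715).symm.trans (sb E19380 (iv5 F190406)))).symm
theorem E19440 : n71716 = n16206 := ((D71716).symm.trans (sb E19380 F52612))
theorem F190526 : act 7 n33156 = n16112 := (sb E19380 (iv7 D33372))
theorem E19447 : n72497 = n71720 := (((D71720).symm.trans (sb E19382 (iv1 F109013)))).symm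
theorem E19452 : n72502 = n71724 := (((D71724).symm.trans (sb E19383 (iv1 F109018)))).symm
theorem E19453 : n71725 = n33741 := ((D71725).symm.trans (sb E19383 F109021))
theorem E19455 : n72519 = n71727 := (((D71727).symm.trans (sb E19383 D72519))).symm
theorem E19456 : n71728 = n58371 := ((D71728).symm.trans (sb E19384 F109022))
theorem E19458 : n72521 = n39413 := ((((iv5 F60340)).symm.trans (sb E19384 D72521))).symm
theorem E19459 : n72522 = n71730 := (((D71730).symm.trans (sb E19384 D72522))).symm
theorem F190527 : act 3 n26523 = n16161 := (sb E19385 (iv3 D33458))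
theorem E19465 : n72494 = n33847 := (((F53197).symm.trans (sb E19385 D72494))).symm
theorem F190528 : act 2 n33459 = n54605 := (sb E19386 F186491)
theorem F190530 : act 0 n73355 = n54606 := (sb E19387 (iv1 D118592))
theorem F190532 : act 0 n72818 = n71718 := (sb E19388 (iv1 F186510))
theorem F190533 : act 1 n72818 = n54606 := (sb E19388 (iv0 D118591))
theorem F190534 : act 2 n33460 = n54606 := (sb E19389 F186498)
theorem F190535 : act 7 n33460 = n71718 := (sb E19389 F186500)
theorem F190536 : act 3 n58343 = n39347 := (sb E19390 (iv3 D85092))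
theorem F190537 : act 5 n58343 = n71719 := (sb E19390 (iv5 F130432))
theorem F190538 : act 2 n33461 = n54607 := (sb E19391 F110355)
theorem E19466 : n33845 = n33649 := (((F52925).symm.trans (sb E19391 (iv5 D73653)))).symm
theorem E19467 : n33868 = n33648 := ((F87224).symm.trans (sb E19392 (iv7 F109539)))
theorem F190539 : act 3 n73029 = n33870 := (sb E19393 F110411)
theorem F190540 : act 7 n73029 = n54607 := (sb E19393 F110412)
theorem E19468 : n72188 = n16205 := ((((iv1 D33547)).symm.trans (sb E19394 (iv1 F187053)))).symm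
theorem E19469 : n72550 = n54742 := (((iv2 F109746)).symm.trans (sb E19394 (iv2 D118952)))
theorem E19470 : n72716 = n54881 := ((D72716).symm.trans (sb E19394 F187048))
theorem E19471 : n72549 = n72189 := (((iv7 F109749)).symm.trans (sb E19394 F187050))
theorem F190541 : act 0 n33322 = n72138 := (sb E19395 (iv1 F190114))
theorem E19474 : n58364 = n37427 := ((((iv5 F58326)).symm.trans (sb E19395 (iv5 F109038)))).symm
theorem F190542 : act 0 n70796 = n72337 := (sb E19396 (iv1 F108886))
theorem F190544 : act 4 n70796 = n33420 := (sb E19396 F108884)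
theorem F190545 : act 6 n70796 = n80502 := (sb E19396 F190215)
theorem F190546 : act 7 n70796 = n33416 := (sb E19396 (iv7 D72386))
theorem E19476 : n32811 = n28508 := (((iv1 F57987)).symm.trans (sb E19397 (iv1 D60036)))
theorem E19477 : n32810 = n28543 := ((F57985).symm.trans (sb E19397 F94539))
theorem F190547 : act 4 n37053 = n72337 := (sb E19397 F190456)
theorem F190548 : act 3 n54947 = n33647 := (sb E19402 F109504)
theorem F190549 : act 3 n18639 = n27759 := (sb E19403 (iv3 D58273))
theorem E19478 : n70518 = n60268 := ((((iv4 F94821)).symm.trans (sb E19410 F110353))).symm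
theorem E19479 : n70464 = n33635 := ((((iv1 F92131)).symm.trans (sb E19411 F110365))).symm
theorem F190550 : act 1 n16277 = n33645 := (sb E19413 F109490)
theorem F190551 : act 0 n57649 = n33645 := (sb E19414 (iv1 F109494))
theorem F190552 : act 4 n57646 = n27759 := (sb E19418 (iv4 D58274))
theorem F190553 : act 7 n57646 = n33645 := (sb E19418 F109754)
theorem F190554 : act 0 n73025 = n119823 := (sb E19421 (iv1 F189086))
theorem F190555 : act 1 n73025 = n119822 := (sb E19421 F189085)
theorem F190556 : act 3 n73025 = n119306 := (sb E19421 (iv3 F187806))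
theorem F190557 : act 6 n73025 = n81818 := (sb E19421 (iv6 F125764))
theorem F190558 : act 0 n58276 = n81817 := (sb E19422 (iv1 F125767))
theorem F190559 : act 1 n58276 = n81816 := (sb E19422 F125762)
theorem F190560 : act 3 n58276 = n39291 := (sb E19422 F110371)
theorem F190561 : act 7 n58276 = n81818 := (sb E19422 (iv7 F125765))
theorem E19480 : n73600 = n58256 := (((D58256).symm.trans (sb E19424 (iv1 F189049)))).symm
theorem F190562 : act 1 n27753 = n55139 := (sb E19424 (iv0 F189048))
theorem E19481 : n78194 = n28637 := ((((iv4 F46201)).symm.trans (sb E19424 F189047))).symm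
theorem E19482 : n118121 = n58268 := (((D58268).symm.trans (sb E19425 F189050))).symm
theorem E19483 : n84892 = n72938 := ((((iv1 F109440)).symm.trans (sb E19429 (iv1 F188978)))).symm
theorem E19484 : n72937 = n55114 := ((F109444).symm.trans (sb E19429 (iv0 D119773)))
theorem E19485 : n118104 = n72947 := ((((iv4 F109459)).symm.trans (sb E19429 F188993))).symm
theorem F190563 : act 0 n33651 = n55139 := (sb E19431 F189114)
theorem F190564 : act 3 n7600 = n16264 := (sb E19433 (iv3 D33639))
theorem E19491 : n72995 = n16367 := (((D16367).symm.trans (sb E19433 D72995))).symm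
theorem F190565 : act 0 n33640 = n57649 := (sb E19434 (iv1 F90799))
theorem F190566 : act 1 n33640 = n16277 := (sb E19434 (iv0 D33672))
theorem F190567 : act 2 n33640 = n57646 := (sb E19434 (iv2 F190036))
theorem E19492 : n72999 = n18516 := ((D72999).symm.trans (sb E19434 (iv3 F189906)))
theorem E19493 : n73095 = n73000 := (((D73000).symm.trans (sb E19434 D73095))).symm
theorem E19494 : n73096 = n73001 := (((D73001).symm.trans (sb E19434 D73096))).symm
theorem F190568 : act 7 n33640 = n55132 := (sb E19434 (iv7 F189914))
theorem E19495 : n73297 = n16402 := ((D73297).symm.trans (sb E19435 (iv3 D33927)))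
theorem E19496 : n73878 = n73163 := ((((iv4 F109650)).symm.trans (sb E19435 D73878))).symm
theorem E19497 : n73879 = n73298 := (((D73298).symm.trans (sb E19435 D73879))).symm
theorem E19498 : n73683 = n73008 := (((D73008).symm.trans (sb E19436 D73683))).symm
theorem E19499 : n73684 = n73009 := (((D73009).symm.trans (sb E19436 D73684))).symm
theorem F190570 : act 3 n71584 = n33156 := (sb E19437 (iv3 D71713))
theorem E19500 : n101064 = n70694 := ((F190501).symm.trans (sb E19437 (iv4 F108193)))
theorem F190571 : act 0 n71714 = n33453 := (sb E19438 (iv1 F108760))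
theorem F190572 : act 1 n71714 = n33452 := (sb E19438 F108761)
theorem F190573 : act 2 n71714 = n33455 := (sb E19438 F108756)
theorem F190574 : act 6 n71714 = n33535 := (sb E19438 F108758)
theorem F190575 : act 7 n71714 = n33368 := (sb E19438 (iv7 D72307))
theorem F190576 : act 0 n71715 = n33166 := (sb E19439 (iv1 D71742))
theorem F190577 : act 1 n71715 = n33467 := (sb E19439 (iv0 F190408))
theorem F190579 : act 7 n71715 = n33371 := (sb E19439 F190407)
theorem E19501 : n118951 = n33549 := ((((iv5 F52853)).symm.trans (sb E19440 F188936))).symm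
theorem F190580 : act 6 n16206 = n33156 := (sb E19440 (iv6 D71716))
theorem F190581 : act 0 n71720 = n33459 := (sb E19447 (iv1 D72497))
theorem F190583 : act 0 n71724 = n33460 := (sb E19452 (iv1 D72502))
theorem F190585 : act 3 n71724 = n74871 := (sb E19452 (iv3 F185302))
theorem F190586 : act 4 n71724 = n72574 := (sb E19452 (iv4 F185303))
theorem F190587 : act 5 n71724 = n72819 := (sb E19452 (iv5 F109963))
theorem F190588 : act 6 n71724 = n72573 := (sb E19452 F185301)
theorem F190590 : act 0 n33741 = n33159 := (sb E19453 (iv1 D71725))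
theorem F190591 : act 1 n71727 = n61485 := (sb E19455 (iv0 F109027))
theorem F190592 : act 1 n58371 = n33160 := (sb E19456 (iv0 D71728))
theorem E19502 : n85302 = n58313 := ((D85302).symm.trans (sb E19458 (iv0 F109028)))
theorem F190593 : act 2 n39413 = n58343 := (sb E19458 F109521)
theorem E19503 : n58411 = n58344 := (((iv7 F92261)).symm.trans (sb E19458 F109520))
theorem F190594 : act 0 n71730 = n34377 := (sb E19459 F109545)
theorem F190595 : act 6 n71730 = n73029 := (sb E19459 (iv6 F109517))
theorem F190597 : act 3 n33847 = n33461 := (sb E19465 F109011)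
theorem E19504 : n73031 = n16360 := ((((iv5 D33847)).symm.trans (sb E19465 (iv5 F109549)))).symm
theorem E19505 : n73650 = n16266 := ((((iv1 D33649)).symm.trans (sb E19466 D73650))).symm
theorem F190598 : act 2 n33649 = n55139 := (sb E19466 (iv2 F87222))
theorem E19506 : n73032 = n60234 := ((D73032).symm.trans (sb E19466 (iv4 F189938)))
theorem E19507 : n73654 = n73033 := (((D73033).symm.trans (sb E19466 D73654))).symm
theorem E19508 : n73027 = n16373 := ((D73027).symm.trans (sb E19467 (iv3 D33868)))
theorem E19509 : n73028 = n60233 := ((D73028).symm.trans (sb E19467 (iv4 F189934)))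
theorem E19510 : n73710 = n73030 := (((D73030).symm.trans (sb E19467 D73710))).symm
theorem F190599 : act 7 n33648 = n55139 := (sb E19467 (iv7 F87224))
theorem F190600 : act 0 n16205 = n33322 := (sb E19468 (iv1 D72188))
theorem E19511 : n118950 = n33474 := ((D118950).symm.trans (sb E19469 (iv1 D72550)))
theorem F190601 : act 2 n54742 = n33547 := (sb E19469 F109746)
theorem F190602 : act 5 n54742 = n33642 := (sb E19469 (iv5 F109046))
theorem F190603 : act 3 n54881 = n33547 := (sb E19470 (iv3 D72716))
theorem F190604 : act 7 n72189 = n33547 := (sb E19471 F109749)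
theorem E19512 : n81817 = n27786 := ((D81817).symm.trans (sb E19474 (iv0 D58364)))
theorem F190605 : act 6 n37427 = n33724 := (sb E19474 F109039)
theorem F190606 : act 7 n37427 = n33642 := (sb E19474 F109745)
theorem E19513 : n60035 = n15711 := ((D60035).symm.trans (sb E19476 (iv1 D32811)))
theorem F190607 : act 1 n28508 = n37053 := (sb E19476 F57987)
theorem F190608 : act 0 n28543 = n37053 := (sb E19477 (iv1 F57985))
theorem E19520 : n70784 = n60045 := ((((iv3 F94558)).symm.trans (sb E19477 D70784))).symm
theorem E19521 : n70785 = n60082 := ((((iv4 F94641)).symm.trans (sb E19477 D70785))).symm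
theorem E19523 : n70787 = n36738 := (((F188327).symm.trans (sb E19477 D70787))).symm
theorem E19524 : n73035 = n32714 := (((iv1 F109551)).symm.trans (sb E19478 (iv1 D70518)))
theorem E19525 : n78195 = n73034 := (((F109557).symm.trans (sb E19478 F119403))).symm
theorem E19526 : n72977 = n32698 := ((D72977).symm.trans (sb E19479 (iv4 D70464)))
theorem E19527 : n72970 = n58268 := ((F109475).symm.trans (sb E19479 (tr (iv7 F185579) E19482)))
theorem F190609 : act 3 n58256 = n33826 := (sb E19480 (iv3 D73600))
theorem E19528 : n60265 = n35649 := ((D60265).symm.trans (sb E19481 (iv1 D78194)))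
theorem E19529 : n60266 = n60244 := ((D60266).symm.trans (sb E19481 (iv0 F189922)))
theorem F190610 : act 4 n58268 = n54413 := (sb E19482 (iv4 D118121))
theorem E19530 : n119774 = n33623 := ((((iv1 D72938)).symm.trans (sb E19483 (iv1 F188979)))).symm
theorem F190611 : act 2 n72938 = n118093 := (sb E19483 (iv2 F187227))
theorem F190612 : act 3 n72938 = n39276 := (sb E19483 (iv3 D84892))
theorem F190613 : act 4 n72938 = n118073 := (sb E19483 F185504)
theorem F190614 : act 5 n72938 = n71588 := (sb E19483 F130104)
theorem F190615 : act 7 n72938 = n118088 := (sb E19483 F187209)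
theorem F190616 : act 0 n55114 = n33628 := (sb E19484 (iv1 F109444))
theorem F190617 : act 0 n72947 = n54411 := (sb E19485 (iv1 F185553))
theorem F190618 : act 1 n72947 = n54406 := (sb E19485 (iv0 D118104))
theorem F190619 : act 3 n16367 = n33642 := (sb E19491 F109488)
theorem F190620 : act 3 n18516 = n33640 := (sb E19492 (iv3 D72999))
theorem F190621 : act 3 n73000 = n39015 := (sb E19493 F189908)
theorem F190622 : act 7 n73000 = n119816 := (sb E19493 F189909)
theorem F190623 : act 3 n73001 = n39016 := (sb E19494 F189910)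
theorem F190624 : act 7 n73001 = n81809 := (sb E19494 F189912)
theorem F190625 : act 3 n16402 = n33724 := (sb E19495 (iv3 D73297))
theorem F190626 : act 3 n73163 = n81811 := (sb E19496 (iv3 F125749))
theorem F190627 : act 6 n73163 = n81809 := (sb E19496 F125746)
theorem F190628 : act 7 n73163 = n119817 := (sb E19496 (iv7 F189069))
theorem F190629 : act 3 n73298 = n33928 := (sb E19497 F110689)
theorem F190630 : act 6 n73298 = n107889 := (sb E19497 (iv6 F166700))
theorem F190631 : act 7 n73298 = n119824 := (sb E19497 (iv7 F189088))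
theorem F190632 : act 0 n73008 = n81818 := (sb E19498 (iv1 F125766))
theorem F190633 : act 1 n73009 = n81818 := (sb E19499 F125768)
theorem F190634 : act 4 n70694 = n71584 := (sb E19500 (iv4 F190501))
theorem F190635 : act 6 n70694 = n72599 := (sb E19500 F155733)
theorem F190636 : act 7 n70694 = n47082 := (sb E19500 (iv7 D101064))
theorem F190637 : act 0 n33549 = n54742 := (sb E19501 (iv1 D118951))
theorem F190638 : act 1 n33549 = n72189 := (sb E19501 F187052)
theorem F190639 : act 0 n58313 = n39413 := (sb E19502 (iv1 D85302))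
theorem F190640 : act 3 n58344 = n27798 := (sb E19503 (iv3 D58411))
theorem F190641 : act 5 n58344 = n71730 := (sb E19503 (iv5 F108202))
theorem E19531 : n120010 = n72640 := (((F109548).symm.trans (sb E19503 (iv6 F189484)))).symm
theorem F190642 : act 7 n58344 = n39413 := (sb E19503 F92261)
theorem F190643 : act 3 n16360 = n33649 := (sb E19504 (iv3 D73031))
theorem E19532 : n70517 = n33650 := (((D33650).symm.trans (sb E19505 F119547))).symm
theorem F190644 : act 4 n60234 = n33649 := (sb E19506 (iv4 D73032))
theorem F190645 : act 2 n73033 = n119833 := (sb E19507 (iv2 F189118))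
theorem F190646 : act 3 n73033 = n33848 := (sb E19507 F110358)
theorem F190647 : act 7 n73033 = n119871 := (sb E19507 (iv7 F189211))
theorem F190648 : act 3 n16373 = n33648 := (sb E19508 (iv3 D73027))
theorem F190649 : act 4 n60233 = n33648 := (sb E19509 (iv4 D73028))
theorem F190650 : act 3 n73030 = n33871 := (sb E19510 F110414)
theorem F190651 : act 0 n33474 = n72189 := (sb E19511 (iv1 F187047))
theorem F190652 : act 1 n33474 = n54742 := (sb E19511 (iv0 D118950))
theorem F190653 : act 0 n27786 = n37427 := (sb E19512 (iv1 D81817))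
theorem E19533 : n58365 = n58276 := ((D58365).symm.trans (sb E19512 (iv0 F190558)))
theorem F190654 : act 0 n15711 = n28543 := (sb E19513 (iv1 F94545))
theorem F190655 : act 1 n15711 = n28508 := (sb E19513 (iv0 D60035))
theorem F190656 : act 4 n60045 = n118604 := (sb E19520 F186548)
theorem F190657 : act 0 n60082 = n72393 := (sb E19521 (iv1 F190466))
theorem E19534 : n118288 = n80529 := (((D80529).symm.trans (sb E19523 F189008))).symm
theorem F190658 : act 1 n32714 = n60268 := (sb E19524 F109551)
theorem F190659 : act 2 n73034 = n35649 := (sb E19525 (iv2 D78195))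
theorem F190660 : act 4 n73034 = n35660 := (sb E19525 F119399)
theorem F190661 : act 7 n73034 = n60244 := (sb E19525 (iv7 F189925))
theorem F190662 : act 4 n32698 = n33635 := (sb E19526 (iv4 D72977))
theorem F190663 : act 2 n58268 = n33634 := (sb E19527 (iv2 D72970))
theorem F190664 : act 7 n58268 = n33635 := (sb E19527 (iv7 F109475))
theorem F190665 : act 0 n35649 = n73038 := (sb E19528 (iv1 F109559))
theorem F190666 : act 1 n35649 = n28637 := (sb E19528 (iv0 D60265))
theorem F190667 : act 0 n60244 = n28637 := (sb E19529 (iv1 D60266))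
theorem F190668 : act 1 n60244 = n73038 := (sb E19529 F109558)
theorem F190669 : act 0 n33623 = n55114 := (sb E19530 (iv1 D119774))
theorem E19535 : n118105 = n72936 := ((((iv4 F109439)).symm.trans (sb E19530 (iv4 F188981)))).symm
theorem F190670 : act 2 n72640 = n72079 := (sb E19531 F189482)
theorem F190671 : act 3 n72640 = n55227 := (sb E19531 (iv3 D120010))
theorem F190672 : act 7 n72640 = n74056 := (sb E19531 F189485)
theorem F190673 : act 1 n33650 = n32714 := (sb E19532 (iv0 D70517))
theorem F190674 : act 0 n58276 = n27786 := (sb E19533 (iv1 D58365))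
theorem E19536 : n71060 = n60152 := ((((iv1 F188362)).symm.trans (sb E19534 (iv1 F185834)))).symm
theorem E19537 : n60151 = n54479 := ((F188363).symm.trans (sb E19534 (iv0 D118288)))
theorem F190675 : act 0 n72936 = n54406 := (sb E19535 (iv1 D118105))
theorem F190676 : act 1 n72936 = n54411 := (sb E19535 F185554)
theorem E19538 : n118289 = n28585 := ((((iv1 D60152)).symm.trans (sb E19536 (iv1 F185839)))).symm
theorem F190677 : act 2 n60152 = n32905 := (sb E19536 (iv2 D71060))
theorem F190678 : act 3 n60152 = n105934 := (sb E19536 (iv3 F189952))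
theorem F190679 : act 5 n60152 = n78243 := (sb E19536 F119428)
theorem F190680 : act 7 n60152 = n118290 := (sb E19536 (iv7 F185837))
theorem F190681 : act 0 n54479 = n80529 := (sb E19537 (iv1 F188363))
theorem F190682 : act 0 n28585 = n54479 := (sb E19538 (iv1 D118289))
theorem E19539 : n60393 = n60318 := (c21_4 D28585 F190682 F86020 (iv6 F94907) (iv1 D60318) (iv6 D28651) D28650 D60312 F94856 (iv6 D60150) (iv1 D28584))
theorem F190683 : act 3 n60318 = n28683 := (sb E19539 (iv3 D60393))
theorem F190684 : act 6 n60318 = n36749 := (sb E19539 F94907)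
theorem F190685 : act 7 n60318 = n32716 := (sb E19539 F94908)
theorem F190686 : act 0 n74821 = n108311 := d21_7 (iv5 D28595) (iv1 D13628) D13629 (iv6 F46158) F190682 D118292 (iv5 F185843) (iv5 F185885) (iv6 D118311) (iv1 F86056)
theorem F190687 : act 1 n74821 = n108317 := d15_1 (iv0 F190686) (iv7 D108317) (iv2 F167475)
theorem E19540 : n60317 = n60246 := ((c15_4 (iv0 D60317) D60318 F190685 (iv2 F189931))).symm
theorem F190688 : act 1 n60246 = n28651 := (sb E19540 (iv0 D60317))
theorem F190689 : act 0 n119291 = n73697 := d20_7 (iv4 F53082) F28785 (iv4 F46229) (iv3 F190683) (iv1 D60318) (iv3 F94848) (iv4 F187767) F110393 F53208 F53092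
theorem E19541 : n118077 = n72945 := (c18_2 (iv1 F85867) D118077 (iv1 D72945) F52915 (iv5 F52912) (iv4 F109439) F190676 (iv4 D54411) F85873 F85870)
theorem F190690 : act 2 n72945 = n54411 := (sb E19541 F185520)
theorem F190691 : act 4 n72945 = n54388 := (sb E19541 (iv4 D118077))
theorem F190692 : act 7 n72945 = n54406 := (sb E19541 F185521)
theorem E19542 : n118076 = n72944 := (c15_4 (iv0 D72944) D72945 F190692 (iv2 F185512))
theorem F190694 : act 3 n72944 = n83500 := (sb E19542 F185513)
theorem F190695 : act 4 n72944 = n54387 := (sb E19542 (iv4 D118076))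
theorem F190696 : act 6 n72944 = n85982 := (sb E19542 F185514)
theorem F190697 : act 7 n72944 = n54411 := (sb E19542 F185515)
theorem F190698 : act 5 n69262 = n119818 := d21_0 (iv1 F190494) (iv5 D58275) D58276 F190674 (iv6 D27786) D27785 (iv1 F92207) F190641 F190595 (iv1 F109518)
theorem F190699 : act 7 n81816 = n58352 := d15_2 (iv0 F190674) F190559 F92213
theorem F190700 : act 2 n58367 = n81816 := d4_3 F190699 F92213 D58367
theorem F190701 : act 6 n58351 = n81816 := d14_5 F190699 (iv6 D58352) (iv7 D27782) D27781 D58351
theorem F190702 : act 5 n55529 = n58351 := d21_8 F92134 (iv1 D33547) (iv5 D16205) (iv6 D7557) F25724 D12821 D26803 D55529 F190701 (iv1 F190559)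
theorem F190703 : act 7 n58350 = n55529 := d13_0 F190702 (iv7 D58351) D58350
theorem F190704 : act 5 n119819 = n55528 := d21_8 D26803 D55529 F190702 F190701 (iv1 F190559) (iv6 D58276) D58275 F190493 (iv6 D55528) (iv1 D26802)
theorem E19543 : n119822 = n33726 := (c21_11 (iv5 F110034) (iv1 F108939) F108936 (iv6 F87805) (iv1 F87806) D55528 (iv5 F190704) (iv1 D119819) (iv5 D55133) D55134 D119822)
theorem E19544 : n73025 = n72805 := ((((iv1 F110011)).symm.trans (sb E19543 (iv1 F190555)))).symm
theorem E19545 : n72804 = n55134 := (((iv0 F110010)).symm.trans (sb E19543 (iv0 D119822)))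
theorem E19546 : n119823 = n33579 := ((((iv1 D72805)).symm.trans (sb E19544 F190554))).symm
theorem F190705 : act 2 n72805 = n33724 := (sb E19544 F109744)
theorem F190706 : act 3 n72805 = n119306 := (sb E19544 F190556)
theorem F190707 : act 6 n72805 = n81818 := (sb E19544 F190557)
theorem F190708 : act 7 n72805 = n33647 := (sb E19544 (iv7 D73025))
theorem F190709 : act 0 n55134 = n33726 := (sb E19545 F110010)
theorem F190710 : act 0 n33579 = n55134 := (sb E19546 (iv1 D119823))
theorem E19547 : n72506 = n55528 := (c21_11 (iv5 F190704) (iv1 D119819) (iv5 D55133) D55134 F190709 (iv6 F109964) (iv5 F190587) F190583 (iv5 D33460) D33461 D72506)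
theorem F190711 : act 0 n55528 = n73029 := (sb E19547 (iv1 F109516))
theorem F190712 : act 1 n55528 = n33461 := (sb E19547 (iv0 D72506))
theorem F190713 : act 6 n119818 = n69266 := d12_2 D69262 F190698 (iv5 D69266) (iv6 D32201) D32200
theorem F190714 : act 5 n72840 = n69265 := d21_6 (iv5 D58275) (iv1 F44824) (iv5 F52928) (iv6 F109305) (iv1 F109307) D72840 (iv1 D69265) D69266 (iv6 F190713) (iv1 F190494)
theorem F190715 : act 3 n69590 = n72840 := d6_3 F190714 F190460 D69590
theorem F190716 : act 2 n72840 = n119688 := d0_1 F190715 F188822 (iv2 F188719) F188720 F120329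
theorem E19548 : n72837 = n56004 := (c7_4 (iv6 F105881) F190715 (iv6 D72840) D72837)
theorem E19549 : n119685 = n33590 := (((iv3 F188807)).symm.trans (sb E19548 (iv3 D72837)))
theorem E19550 : n73539 = n16238 := ((((iv1 D33590)).symm.trans (sb E19549 F188813))).symm
theorem E19551 : n72836 = n55067 := (((iv2 F109341)).symm.trans (sb E19549 (iv2 D119685)))
theorem E19552 : n72838 = n60206 := ((D72838).symm.trans (sb E19549 (iv4 F188812)))
theorem E19553 : n72831 = n72820 := ((F109339).symm.trans (sb E19549 (iv7 F190367)))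
theorem E19554 : n119646 = n33589 := (((D33589).symm.trans (sb E19550 (iv1 F188814)))).symm
theorem E19555 : n33803 = n7570 := (((F25788).symm.trans (sb E19550 (iv3 D73539)))).symm
theorem E19556 : n70083 = n33588 := ((((iv4 F52884)).symm.trans (sb E19550 F110207))).symm
theorem F190718 : act 2 n55067 = n33590 := (sb E19551 F109341)
theorem F190719 : act 4 n60206 = n33590 := (sb E19552 (iv4 D72838))
theorem F190720 : act 7 n72820 = n33590 := (sb E19553 (iv7 F109339))
theorem F190721 : act 2 n33589 = n72820 := (sb E19554 (iv2 F190365))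
theorem E19557 : n72832 = n55048 := ((D72832).symm.trans (sb E19554 (iv3 D119646)))
theorem E19558 : n72833 = n60205 := ((D72833).symm.trans (sb E19554 (iv4 F188703)))
theorem E19559 : n73974 = n72835 := (((D72835).symm.trans (sb E19554 F188701))).symm
theorem F190722 : act 7 n33589 = n55067 := (sb E19554 F188702)
theorem E19560 : n54923 = n16251 := (((D16251).symm.trans (sb E19555 (iv1 F131614)))).symm
theorem E19561 : n16335 = n16252 := (((D16252).symm.trans (sb E19555 (iv0 D33803)))).symm
theorem E19567 : n72827 = n32521 := ((D72827).symm.trans (sb E19556 (iv1 D70083)))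
theorem E19568 : n79809 = n72828 := (((D72828).symm.trans (sb E19556 F122537))).symm
theorem F190723 : act 3 n55048 = n33589 := (sb E19557 (iv3 D72832))
theorem F190724 : act 4 n60205 = n33589 := (sb E19558 (iv4 D72833))
theorem F190725 : act 3 n72835 = n33953 := (sb E19559 (iv3 D73974))
theorem E19569 : n118523 = n72397 := (((F109340).symm.trans (sb E19559 (iv5 F186430)))).symm
theorem E19570 : n33804 = n27772 := ((((iv1 F44858)).symm.trans (sb E19560 F131613))).symm
theorem E19571 : n33608 = n26619 := ((D33608).symm.trans (sb E19560 F131615))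
theorem E19572 : n33609 = n26565 := ((D33609).symm.trans (sb E19560 (iv3 D54923)))
theorem E19573 : n33661 = n33610 := (((D33610).symm.trans (sb E19560 F190078))).symm
theorem E19574 : n119347 = n33611 := (((D33611).symm.trans (sb E19560 D119347))).symm
theorem E19575 : n119348 = n33612 := (((D33612).symm.trans (sb E19560 D119348))).symm
theorem E19576 : n33613 = n27770 := ((D33613).symm.trans (sb E19560 F190396))
theorem E19577 : n33614 = n7592 := ((D33614).symm.trans (sb E19561 (iv3 D16335)))
theorem E19578 : n33662 = n33615 := (((D33615).symm.trans (sb E19561 F190070))).symm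
theorem E19579 : n33807 = n33616 := (((D33616).symm.trans (sb E19561 D33807))).symm
theorem E19580 : n33808 = n33617 := (((D33617).symm.trans (sb E19561 D33808))).symm
theorem E19581 : n70082 = n60259 := ((D70082).symm.trans (sb E19567 (iv1 F109336)))
theorem F190726 : act 1 n32521 = n33588 := (sb E19567 (iv0 D72827))
theorem F190727 : act 2 n72828 = n36357 := (sb E19568 (iv2 D79809))
theorem F190728 : act 4 n72828 = n36369 := (sb E19568 F122533)
theorem F190729 : act 7 n72828 = n60211 := (sb E19568 (iv7 F188438))
theorem F190730 : act 2 n72397 = n72350 := (sb E19569 (iv2 F190422))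
theorem F190731 : act 3 n72397 = n54583 := (sb E19569 (iv3 D118523))
theorem F190732 : act 7 n72397 = n72349 := (sb E19569 F190426)
theorem E19582 : n73455 = n58288 := ((((iv3 F92147)).symm.trans (sb E19570 (iv3 F187969)))).symm
theorem F190733 : act 2 n26619 = n16251 := (sb E19571 (iv2 D33608))
theorem E19589 : n72889 = n55078 := (((D55078).symm.trans (sb E19571 D72889))).symm
theorem E19590 : n72890 = n55079 := (((D55079).symm.trans (sb E19571 D72890))).symm
theorem E19591 : n72891 = n55080 := (((D55080).symm.trans (sb E19571 D72891))).symm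
theorem F190734 : act 7 n26619 = n16252 := (sb E19571 (iv7 F52901))
theorem F190735 : act 3 n26565 = n16251 := (sb E19572 (iv3 D33609))
theorem E19596 : n72896 = n54925 := (((D54925).symm.trans (sb E19572 D72896))).symm
theorem E19599 : n72899 = n57658 := ((D72899).symm.trans (sb E19573 (iv1 F90828)))
theorem E19600 : n72900 = n16272 := ((D72900).symm.trans (sb E19573 (iv0 D33661)))
theorem E19604 : n72904 = n58304 := ((D72904).symm.trans (sb E19573 (iv7 F190385)))
theorem E19607 : n72909 = n58305 := ((D72909).symm.trans (sb E19574 (iv7 F190390)))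
theorem E19610 : n72319 = n71743 := ((F108767).symm.trans (sb E19575 (iv5 F187956)))
theorem F190736 : act 2 n27770 = n16252 := (sb E19576 F52902)
theorem E19612 : n58348 = n58306 := (((D58306).symm.trans (sb E19576 (iv6 F110042)))).symm
theorem F190737 : act 7 n27770 = n16251 := (sb E19576 (iv7 D33613))
theorem F190738 : act 3 n7592 = n16252 := (sb E19577 (iv3 D33614))
theorem E19617 : n72918 = n16337 := (((D16337).symm.trans (sb E19577 D72918))).symm
theorem E19618 : n72919 = n16338 := (((D16338).symm.trans (sb E19577 D72919))).symm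
theorem E19619 : n72920 = n18610 := ((D72920).symm.trans (sb E19578 (iv3 F190069)))
theorem E19620 : n73072 = n72921 := (((D72921).symm.trans (sb E19578 D73072))).symm
theorem E19621 : n73073 = n72922 := (((D72922).symm.trans (sb E19578 D73073))).symm
theorem E19622 : n73557 = n72923 := (((D72923).symm.trans (sb E19579 D73557))).symm
theorem E19623 : n73558 = n72924 := (((D72924).symm.trans (sb E19579 D73558))).symm
theorem E19624 : n73559 = n72925 := (((D72925).symm.trans (sb E19580 D73559))).symm
theorem E19625 : n73560 = n72926 := (((D72926).symm.trans (sb E19580 D73560))).symm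
theorem E19626 : n73561 = n72927 := (((D72927).symm.trans (sb E19580 D73561))).symm
theorem E19627 : n58349 = n39628 := (((iv7 F110040)).symm.trans (sb E19580 (iv7 F60504)))
theorem F190739 : act 1 n60259 = n32521 := (sb E19581 (iv0 D70082))
theorem F190740 : act 0 n58288 = n119325 := (sb E19582 (iv1 F187897))
theorem F190741 : act 1 n58288 = n33779 := (sb E19582 (iv0 D73455))
theorem F190742 : act 4 n58288 = n70003 := (sb E19582 F187970)
theorem F190743 : act 2 n55078 = n33610 := (sb E19589 F109371)
theorem F190744 : act 7 n55078 = n33615 := (sb E19589 F109372)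
theorem F190745 : act 2 n55079 = n33611 := (sb E19590 F109373)
theorem F190746 : act 7 n55079 = n33616 := (sb E19590 F109374)
theorem F190747 : act 2 n55080 = n33612 := (sb E19591 F109375)
theorem E19628 : n33966 = n33739 := ((F87100).symm.trans (sb E19591 F110038))
theorem F190748 : act 3 n54925 = n33611 := (sb E19596 F109376)
theorem F190750 : act 0 n57658 = n33615 := (sb E19599 (iv1 F109383))
theorem F190751 : act 1 n57658 = n33610 := (sb E19599 (iv0 D72899))
theorem F190752 : act 0 n16272 = n33610 := (sb E19600 (iv1 D72900))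
theorem F190753 : act 1 n16272 = n33615 := (sb E19600 F109379)
theorem F190754 : act 2 n58304 = n33615 := (sb E19604 F109381)
theorem F190755 : act 7 n58304 = n33610 := (sb E19604 (iv7 D72904))
theorem F190756 : act 2 n58305 = n33616 := (sb E19607 F109386)
theorem F190757 : act 7 n58305 = n33611 := (sb E19607 (iv7 D72909))
theorem F190758 : act 5 n71743 = n33612 := (sb E19610 (iv5 F108767))
theorem E19631 : n85795 = n27781 := ((F190392).symm.trans (sb E19612 (iv0 D58348)))
theorem F190760 : act 2 n58306 = n33617 := (sb E19612 F110041)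
theorem F190761 : act 3 n16337 = n33616 := (sb E19617 F109390)
theorem F190762 : act 3 n16338 = n33617 := (sb E19618 F109391)
theorem F190763 : act 3 n18610 = n33615 := (sb E19619 (iv3 D72920))
theorem F190764 : act 3 n72921 = n39236 := (sb E19620 F190071)
theorem F190765 : act 7 n72921 = n119718 := (sb E19620 F190072)
theorem F190766 : act 3 n72922 = n39237 := (sb E19621 F190073)
theorem F190767 : act 7 n72922 = n85792 := (sb E19621 F190075)
theorem F190768 : act 7 n72923 = n119722 := (sb E19622 (iv7 F188862))
theorem F190769 : act 3 n72924 = n33810 := (sb E19623 F110216)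
theorem F190770 : act 0 n72925 = n85797 := (sb E19624 (iv1 F131591))
theorem F190771 : act 1 n72926 = n85797 := (sb E19625 F131593)
theorem F190772 : act 3 n72927 = n33811 := (sb E19626 F110217)
theorem F190773 : act 7 n72927 = n85798 := (sb E19626 (iv7 F131595))
theorem F190774 : act 7 n39628 = n33617 := (sb E19627 F110040)
theorem F190775 : act 2 n33739 = n72526 := (sb E19628 (iv2 F190400))
theorem E19632 : n73347 = n16417 := ((D73347).symm.trans (sb E19628 (iv3 D33966)))
theorem E19633 : n74012 = n73348 := (((D73348).symm.trans (sb E19628 D74012))).symm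
theorem E19634 : n72318 = n54617 := ((F108774).symm.trans (sb E19628 (iv5 F86321)))
theorem F190776 : act 6 n33739 = n39628 := (sb E19628 (iv6 F60503))
theorem F190780 : act 0 n27781 = n58306 := (sb E19631 (iv1 F190392))
theorem F190781 : act 1 n27781 = n39628 := (sb E19631 (iv0 D85795))
theorem F190782 : act 3 n16417 = n33739 := (sb E19632 (iv3 D73347))
theorem F190783 : act 3 n73348 = n85794 := (sb E19633 (iv3 F131584))
theorem F190784 : act 6 n73348 = n85792 := (sb E19633 F131581)
theorem F190785 : act 7 n73348 = n119719 := (sb E19633 (iv7 F188859))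
theorem F190786 : act 0 n54617 = n33470 := (sb E19634 (iv1 F108772))
theorem F190787 : act 1 n54617 = n33371 := (sb E19634 (iv0 D72318))
theorem F190788 : act 5 n54617 = n33739 := (sb E19634 (iv5 F108774))
theorem F190789 : act 0 n73294 = n62916 := d20_7 (iv4 F23623) D29758 F47849 D54617 F190786 (iv3 F108799) F185285 (iv4 D62916) (iv3 D29766) (iv1 D14143)
theorem E19635 : n107858 = n72396 := (c20_10 F185285 F190789 (iv4 D62916) (iv3 D29766) (iv1 D14143) (iv3 F23610) (iv4 F47808) D62830 F112468 D107858 (iv1 F108895))
theorem F190790 : act 2 n72396 = n72349 := (sb E19635 F190425)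
theorem F190791 : act 3 n72396 = n49813 := (sb E19635 (iv3 D107858))
theorem F190792 : act 6 n72396 = n117764 := (sb E19635 F184437)
theorem F190793 : act 7 n72396 = n72350 := (sb E19635 (iv7 F190424))
theorem F190794 : act 1 n73294 = n117764 := d15_1 (iv0 F190789) (iv7 F190440) (iv2 F190448)
theorem F190795 : act 1 n72398 = n62916 := d15_0 (iv0 F190789) F185283 (iv2 F108891)
theorem F190796 : act 1 n117764 = n72398 := d15_0 F190795 F98161 F190429
theorem E19636 : n117760 = n32141 := (c21_2 (iv5 D117764) D117760 (iv5 F54447) (iv6 D34310) (iv1 F52781) (iv6 F185224) (iv5 F185236) F185233 (iv5 D72406) (iv6 F108892) (iv1 F190796))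
theorem E19637 : n69159 = n69078 := (((D69078).symm.trans (sb E19636 (iv1 F190434)))).symm
theorem E19638 : n69079 = n54249 := ((D69079).symm.trans (sb E19636 (iv0 D117760)))
theorem E19639 : n117761 = n32171 := ((((iv1 F105324)).symm.trans (sb E19637 F190433))).symm
theorem F190797 : act 2 n69078 = n32168 := (sb E19637 (iv2 D69159))
theorem F190798 : act 3 n69078 = n117499 := (sb E19637 F190435)
theorem F190799 : act 5 n69078 = n62916 := (sb E19637 F190454)
theorem F190800 : act 7 n69078 = n32169 := (sb E19637 (iv7 F105451))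
theorem F190801 : act 0 n54249 = n32141 := (sb E19638 (iv1 D69079))
theorem F190802 : act 0 n32171 = n54249 := (sb E19639 (iv1 D117761))
theorem F190803 : act 0 n59918 = n117137 := d20_7 (iv4 F49570) (iv1 F84807) F182130 D54249 F190801 (iv3 F105316) F105317 (iv4 D117137) (iv3 D53983) (iv1 F41298)
theorem F190804 : act 0 n74883 = n107889 := d21_4 (iv5 F190799) (iv1 F105324) (iv5 F105456) (iv6 F112397) (iv6 F190630) (iv5 D73298) (iv1 D33724) D33725 (iv6 F109793) F190789
theorem F190805 : act 1 n74875 = n107889 := d15_0 (iv0 F190804) (iv7 D74883) (iv2 F112386)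
theorem E19640 : n81099 = n69170 := (c17_5 F188413 F189882 (iv1 D37052) D37054 D81099 (iv5 F105453) (iv0 F105454) D73294 F190794 (iv4 F190455))
theorem F190806 : act 4 n69170 = n37054 := (sb E19640 (iv4 D81099))
theorem F190807 : act 7 n69170 = n70802 := (sb E19640 F124894)
theorem F190808 : act 0 n69103 = n117765 := d21_4 F52972 F109207 (iv5 D69102) D69103 (iv6 D117765) D117764 (iv1 F190794) (iv5 D73294) (iv6 D33721) D33718
theorem F190809 : act 0 n70007 = n73321 := d20_1 (iv4 F106410) F109814 F52980 D33739 (iv3 F190782) (iv4 F42171) (iv1 F30003) (iv4 F46247) (iv3 F94927) F184647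
theorem F190810 : act 7 n85796 = n58329 := d15_2 F190781 D85796 F92198
theorem F190811 : act 2 n58351 = n85796 := d4_3 F190810 F92198 D58351
theorem F190812 : act 6 n58367 = n85796 := d14_5 F190810 (iv6 D58329) (iv7 F44869) D27786 D58367
theorem F190813 : act 5 n72153 = n58367 := d21_2 D33544 (iv1 F190121) F190812 (iv1 D85796) (iv6 F190776) (iv5 F190788) F190786 F52749 F190118 F190095
theorem F190814 : act 0 n85798 = n55522 := d21_1 D85798 (iv5 D55522) D55523 F109735 (iv6 D33545) D33544 (iv1 F190121) F190813 F190812 (iv1 D85796)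
theorem F190815 : act 5 n72156 = n119720 := d21_0 (iv1 F190387) (iv5 D58305) D58306 F190391 (iv6 F190812) (iv5 F190813) (iv1 D72153) (iv5 D33307) D33308 D72156
theorem E19641 : n72422 = n72156 := ((c21_3 D55079 D119720 (iv5 F190815) (iv6 D72422) (iv1 D33434) (iv6 D16149) (iv5 F25728) F27158 (iv5 F27160) D13257 F190379)).symm
theorem F190816 : act 2 n72156 = n34382 := (sb E19641 F155551)
theorem F190817 : act 6 n72156 = n33434 := (sb E19641 (iv6 D72422))
theorem F190818 : act 0 n119824 = n72421 := d21_1 D119824 (iv5 D72421) (iv6 F190817) F190123 F109397 F105529 F109428 (iv5 D33578) D33579 F190710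
theorem F190819 : act 6 n72390 = n119824 := d21_9 (iv5 D72421) (iv1 D33434) D33435 F52719 (iv1 F50972) (iv6 F52690) (iv5 D33419) D33417 D72390 F190818
theorem F190820 : act 1 n119824 = n72417 := d15_1 (iv0 F190818) F155540 (iv2 F155549)
theorem F190821 : act 2 n119824 = n73024 := d3_1 F190819 F109507 F109780
theorem F190822 : act 3 n119826 = n72390 := d7_3 F190819 F189087 (iv6 F189092)
theorem E19642 : n74880 = n74862 := ((c14_5 (iv7 F109779) F190819 (iv7 F190631) F190630 F166701 F112394)).symm
theorem F190823 : act 1 n74862 = n34316 := (sb E19642 (iv0 D74880))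
theorem F190824 : act 6 n74862 = n72347 := (sb E19642 F112394)
theorem F190825 : act 3 n72347 = n74864 := d7_1 F190824 (iv6 D74864) D74862
theorem F190826 : act 3 n72343 = n73979 := d0_2 F190822 (iv2 F109780) F131206 (iv3 F110407) (iv2 F189091)
theorem F190827 : act 3 n119401 = n73024 := d7_3 F109507 F190826 (iv6 F188128)
theorem F190828 : act 2 n72905 = n119720 := d2_3 (iv5 F190815) F190816 (iv5 F109384)
theorem E19643 : n75066 = n72157 := ((c15_2 (iv0 D72156) D72157 (iv7 D75066) (iv2 F190816))).symm
theorem F190829 : act 7 n72157 = n34382 := (sb E19643 (iv7 D75066))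
theorem F190830 : act 7 n119721 = n72905 := d15_2 (iv0 D119720) D119721 F190828
theorem F190831 : act 7 n72906 = n119720 := d15_2 (iv0 D72905) D72906 (iv2 F190828)
theorem F190832 : act 2 n119721 = n72906 := d4_3 F190831 (iv2 F190828) (iv7 F190830)
theorem F190833 : act 5 n72157 = n119721 := d13_3 F190830 F109384 (iv7 F190829)
theorem F190834 : act 6 n119721 = n70330 := d21_3 D72932 (iv1 F190124) F190833 (iv1 D70330) (iv6 D32645) (iv5 D15455) (iv1 F54072) D16648 F27285 D33618
theorem F190835 : act 7 n58366 = n72153 := d13_0 F190813 (iv7 D58367) D58366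
theorem F190836 : act 2 n72153 = n118939 := d15_3 (iv0 D118939) (iv0 F190131) F190835
theorem F190837 : act 2 n58366 = n72152 := d15_3 (iv0 D72152) D72153 (iv7 F190835)
theorem E19644 : n58352 = n58319 := ((c2_3 D58366 F190837 F190120 F92213)).symm
theorem F190838 : act 2 n58319 = n27786 := (sb E19644 F92213)
theorem E19645 : n27782 = n27774 := ((((iv6 D58319)).symm.trans (sb E19644 (iv6 D58352)))).symm
theorem F190839 : act 7 n58319 = n81816 := (sb E19644 (iv7 F190699))
theorem E19646 : n58325 = n13258 := ((((iv1 D27774)).symm.trans (sb E19645 (iv1 F92192)))).symm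
theorem E19648 : n58315 = n13260 := (((iv2 F92180)).symm.trans (sb E19645 F44870))
theorem E19649 : n58336 = n58316 := (((D58316).symm.trans (sb E19645 (iv3 F92201)))).symm
theorem E19650 : n58342 = n58317 := (((D58317).symm.trans (sb E19645 (iv4 F92205)))).symm
theorem E19651 : n58347 = n58318 := (((D58318).symm.trans (sb E19645 (iv5 F92209)))).symm
theorem E19652 : n58310 = n13259 := ((F92178).symm.trans (sb E19645 (iv7 D27782)))
theorem E19653 : n27777 = n27773 := (((D27773).symm.trans (sb E19646 (iv1 D58325)))).symm
theorem F190840 : act 2 n13260 = n27774 := (sb E19648 F92180)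
theorem F190841 : act 7 n58316 = n27778 := (sb E19649 (iv7 D58336))
theorem F190842 : act 2 n58317 = n27784 := (sb E19650 F92204)
theorem F190843 : act 7 n58317 = n27779 := (sb E19650 (iv7 D58342))
theorem F190844 : act 2 n58318 = n27785 := (sb E19651 F92208)
theorem F190845 : act 7 n58318 = n27780 := (sb E19651 (iv7 D58347))
theorem F190846 : act 7 n13259 = n27774 := (sb E19652 (iv7 F92178))
theorem F190847 : act 2 n27773 = n13259 := (sb E19653 (iv2 D27777))
theorem E19654 : n58326 = n58311 := (((D58311).symm.trans (sb E19653 D58326))).symm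
theorem E19655 : n58327 = n58312 := (((D58312).symm.trans (sb E19653 D58327))).symm
theorem E19656 : n58328 = n58313 := (((D58313).symm.trans (sb E19653 D58328))).symm
theorem E19657 : n58329 = n58314 := (((D58314).symm.trans (sb E19653 D58329))).symm
theorem F190848 : act 7 n27773 = n13260 := (sb E19653 (iv7 F44869))
theorem F190849 : act 7 n58311 = n27783 := (sb E19654 F92193)
theorem F190850 : act 2 n58312 = n27779 := (sb E19655 F92194)
theorem F190851 : act 7 n58312 = n27784 := (sb E19655 F92195)
theorem F190852 : act 2 n58313 = n27780 := (sb E19656 F92196)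
theorem F190853 : act 7 n58313 = n27785 := (sb E19656 F92197)
theorem F190854 : act 2 n58314 = n27781 := (sb E19657 F92198)
theorem F190855 : act 7 n58314 = n85796 := (sb E19657 (iv7 F190810))
theorem F190856 : act 7 n72152 = n118939 := d4_2 (iv7 F190835) F190837 (iv2 F190836)
theorem F190857 : act 5 n118939 = n81816 := d13_1 F190856 (iv7 F190839) (iv5 F190120)
theorem E19658 : n72925 = n58351 := ((c21_4 D54737 D118939 F190857 (iv6 F190701) F190770 (iv6 F190402) (iv5 D72526) (iv1 F190577) (iv5 D71715) (iv6 F190580) F190099)).symm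
theorem F190859 : act 1 n58351 = n33617 := (sb E19658 (iv0 D72925))
theorem F190860 : act 6 n118939 = n72729 := d21_3 (iv5 F58326) D81816 (iv5 F190857) (iv1 D72729) (iv6 D33551) (iv5 D16215) (iv1 D7559) D7560 (iv6 F25763) F190600
theorem E19659 : n72926 = n58314 := (c15_2 F190859 D72926 F190855 (iv2 F190811))
theorem F190861 : act 0 n58314 = n33617 := (sb E19659 (iv1 D72926))
theorem F190862 : act 1 n58314 = n85797 := (sb E19659 F190771)
theorem F190863 : act 2 n58350 = n55530 := d2_3 (iv5 F92179) F190854 D58350
theorem E19660 : n85301 = n58318 := ((c15_4 (iv0 D85301) (iv0 F190639) F190853 (iv2 F190844))).symm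
theorem F190864 : act 1 n58318 = n39413 := (sb E19660 (iv0 D85301))
theorem E19661 : n73008 = n58319 := ((c21_10 F125763 (iv1 F190638) F52853 F190580 (iv1 D33156) D33160 (iv5 F60340) (iv1 F190864) (iv5 D58318) D58319 F190632)).symm
theorem F190865 : act 0 n58319 = n81818 := (sb E19661 F190632)
theorem F190866 : act 1 n58319 = n33642 := (sb E19661 (iv0 D73008))
theorem E19662 : n73009 = n58367 := (c15_2 F190866 D73009 (iv7 D58367) (iv2 F190838))
theorem F190867 : act 0 n58367 = n33642 := (sb E19662 (iv1 D73009))
theorem F190868 : act 1 n58367 = n81818 := (sb E19662 F190633)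
theorem F190869 : act 6 n72153 = n118432 := d21_3 (iv5 F125763) (iv1 F190868) (iv5 F190813) (iv1 D118432) (iv6 D54538) (iv5 D26374) F50782 D16183 (iv6 F52757) F190651
theorem F190870 : act 2 n118432 = n72729 := d3_1 F190869 (iv6 F190860) (iv2 F190836)
theorem F190871 : act 7 n72728 = n118432 := d15_2 F186236 F186237 F190870
theorem F190872 : act 7 n118431 = n72729 := d15_2 F186231 F186235 (iv2 F190870)
theorem F190873 : act 2 n72728 = n118431 := d4_3 F190872 (iv2 F190870) (iv7 F190871)
theorem F190874 : act 1 n58312 = n85706 := d15_0 (iv0 F131449) F190843 (iv2 F190850)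
theorem E19663 : n101545 = n58356 := ((c11_2 F190849 D58356 (iv7 D101545) F155125)).symm
theorem F190875 : act 2 n58356 = n47238 := (sb E19663 F156349)
theorem F190876 : act 7 n58356 = n47237 := (sb E19663 (iv7 D101545))
theorem E19664 : n101541 = n101539 := (c15_4 (iv0 D101539) F155116 F190876 D101541)
theorem F190877 : act 2 n101539 = n47237 := (sb E19664 (iv2 D101541))
theorem F190878 : act 7 n101539 = n47238 := (sb E19664 (iv7 F156348))
theorem E19665 : n101547 = n58355 := (c1_3 D58356 F190875 D101547 (iv2 D58355))
theorem F190879 : act 4 n58355 = n47238 := (sb E19665 (iv4 D101547))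
theorem F190880 : act 7 n58333 = n60292 := d11_2 F190841 D58333 (iv4 F94837)
theorem F190881 : act 2 n58333 = n60291 := d15_3 (iv0 D60291) D60292 (iv7 F190880)
theorem F190882 : act 4 n60291 = n58332 := d1_2 D58333 F190881 (iv2 D58332)
theorem F190883 : act 0 n55527 = n85798 := d21_1 D55527 (iv5 D85798) (iv6 F190776) (iv1 F109961) F109964 (iv5 F110034) (iv1 F108939) F108936 (iv6 F87805) (iv1 F87806)
theorem F190884 : act 3 n73437 = n73055 := d20_9 (iv4 F190039) F190750 (iv4 D33615) (iv3 F190738) (iv1 D7592) (iv3 F11828) (iv4 F25846) D33774 D73437 (iv1 F190016)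
theorem F190885 : act 2 n73055 = n117921 := d0_1 F190884 (iv3 D117921) F131090 D54337 (iv2 F131148)
theorem F190886 : act 4 n73055 = n58293 := d20_6 D119686 (iv1 F188818) F94716 (iv3 F94712) F188819 F190884 (iv1 F92166) F52900 (iv3 F52886) F190371
theorem F190887 : act 7 n117964 = n73055 := d4_0 F190885 F184965 D117964
theorem F190888 : act 3 n72908 = n119357 := d7_3 (iv6 D119357) F190748 D72908
theorem F190890 : act 2 n72903 = n119719 := d1_3 F188858 F190747 (iv4 F109380)
theorem F190891 : act 2 n72907 = n119722 := d1_3 (iv4 D119722) F190745 D72907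
theorem F190892 : act 2 n72902 = n119718 := d2_3 (iv5 D119718) F190743 D72902
theorem F190893 : act 6 n70003 = n72947 := d10_2 (iv6 F92148) F190742 F109459
theorem F190894 : act 7 n70003 = n58284 := d11_2 D58288 F190742 F92145
theorem F190895 : act 2 n101021 = n70003 := d4_3 F190894 F92144 D101021
theorem E19666 : n117921 = n72874 := (c20_6 (iv4 F187880) (iv1 D69908) F51544 (iv3 F41695) D54318 D117921 (iv4 D72874) (iv1 F92168) F92164 (iv3 F92147) F190740)
theorem F190896 : act 2 n72874 = n73055 := (sb E19666 (iv2 F190885))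
theorem F190897 : act 3 n72874 = n54318 := (sb E19666 (iv3 D117921))
theorem F190898 : act 7 n72874 = n54342 := (sb E19666 F184965)
theorem E19667 : n72877 = n58294 := ((c11_2 F190898 (iv4 F190397) (iv7 D72877) D72874)).symm
theorem F190899 : act 2 n58294 = n33605 := (sb E19667 F109365)
theorem F190900 : act 7 n58294 = n33604 := (sb E19667 (iv7 D72877))
theorem E19668 : n72872 = n58293 := (c15_4 (iv0 D58293) D58294 F190900 D72872)
theorem F190901 : act 2 n58293 = n33604 := (sb E19668 (iv2 D72872))
theorem F190902 : act 7 n58293 = n33605 := (sb E19668 (iv7 F109364))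
theorem E19669 : n117964 = n72879 := ((c11_2 F190902 D72879 F190887 F190886)).symm
theorem F190903 : act 2 n72879 = n54342 := (sb E19669 (iv2 D117964))
theorem F190904 : act 7 n72879 = n73055 := (sb E19669 F190887)
theorem F190906 : act 4 n117986 = n106327 := d18_1 F188386 (iv1 D106327) F77598 (iv5 D33591) (iv4 F52884) D72828 F190728 F188405 (iv5 F94782)
theorem F190907 : act 0 n71786 = n119647 := d20_7 F109304 (iv1 F109331) F190728 F57109 F190023 (iv3 F61207) (iv4 F108252) (iv4 D119647) F190723 (iv1 F109308)
theorem F190908 : act 1 n71786 = n119649 := d15_1 (iv0 F190907) F188711 (iv2 F188704)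
theorem F190909 : act 2 n106327 = n117987 := d1_1 F190906 (iv4 D117987) D117986
theorem F190910 : act 3 n72834 = n119648 := d6_3 (iv5 D119648) F190723 D72834
theorem F190911 : act 7 n119687 = n72834 := d8_0 F190910 F188708 (iv3 F188821)
theorem F190912 : act 2 n72839 = n119687 := d2_3 (iv5 D119687) F190718 D72839
theorem F190913 : act 3 n68936 = n72839 := d0_0 F190912 F188821 (iv2 F188712) F188713 (iv2 F120323)
theorem E19670 : n69057 = n68933 := (c7_3 D68936 F190913 (iv6 F109342) (iv3 D68933))
theorem F190914 : act 1 n68933 = n32122 := (sb E19670 (iv0 D69057))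
theorem F190915 : act 6 n68933 = n72839 := (sb E19670 F109342)
theorem F190916 : act 2 n74056 = n72639 := d15_3 (iv0 D72639) D72640 F190672
theorem F190917 : act 7 n72079 = n72639 := d4_2 (iv7 F190672) F190670 (iv2 F190916)
theorem F190918 : act 3 n72639 = n71864 := d8_1 F190917 F108540 D72079
theorem F190919 : act 0 n72641 = n118291 := d20_1 D72641 (iv4 D118291) (iv3 D54479) (iv1 F42016) (iv3 F52038) (iv4 F107520) (iv1 F189490) (iv4 D120011) (iv3 F190671) (iv1 D72640)
theorem E19671 : n118088 = n33626 := (c18_8 F190669 (iv4 F185501) F185502 F85895 (iv5 F85870) (iv4 F185508) F185511 D118088 (iv0 D33626) (iv5 F52912))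
theorem E19672 : n72948 = n55114 := ((D72948).symm.trans (sb E19671 F187225))
theorem E19673 : n72949 = n55123 := ((D72949).symm.trans (sb E19671 F185545))
theorem E19674 : n72950 = n54400 := ((D72950).symm.trans (sb E19671 (iv4 D118088)))
theorem E19675 : n72953 = n72938 := ((D72953).symm.trans (sb E19671 (iv7 F190615)))
theorem F190920 : act 2 n55114 = n33626 := (sb E19672 (iv2 D72948))
theorem E19676 : n118093 = n33627 := (((iv7 F187214)).symm.trans (sb E19672 (iv7 F109460)))
theorem F190921 : act 3 n55123 = n33626 := (sb E19673 (iv3 D72949))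
theorem F190922 : act 4 n54400 = n33626 := (sb E19674 (iv4 D72950))
theorem F190923 : act 7 n72938 = n33626 := (sb E19675 (iv7 D72953))
theorem F190924 : act 2 n33627 = n72938 := (sb E19676 (iv2 F190611))
theorem E19677 : n72954 = n55103 := ((D72954).symm.trans (sb E19676 F185547))
theorem E19678 : n72955 = n54401 := ((D72955).symm.trans (sb E19676 (iv4 D118093)))
theorem F190925 : act 7 n33627 = n55114 := (sb E19676 F187214)
theorem F190926 : act 3 n55103 = n33627 := (sb E19677 (iv3 D72954))
theorem F190927 : act 4 n54401 = n33627 := (sb E19678 (iv4 D72955))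
theorem F190928 : act 5 n119776 = n72611 := d21_6 (iv5 D15340) D15337 F27153 D33623 F190669 D119776 (iv1 D72611) (iv5 D33512) (iv6 D16189) (iv1 F24919)
theorem F190929 : act 3 n72611 = n118724 := d6_1 F190928 (iv5 F186745) (iv3 F188985)
theorem F190930 : act 7 n118841 = n72611 := d8_0 F190929 F187221 D118841
theorem F190931 : act 4 n72611 = n118245 := d20_6 (iv4 F52556) (iv1 F52566) F52563 (iv3 F86514) (iv1 F186744) (iv3 F190929) (iv1 D118245) (iv4 D54462) F42000 D26345
theorem F190932 : act 2 n118841 = n72610 := d15_3 (iv0 D72610) D72611 (iv7 F190930)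
theorem F190933 : act 4 n72957 = n118095 := d10_3 (iv6 D118095) F190927 D72957
theorem F190934 : act 3 n72956 = n119750 := d6_3 (iv5 D119750) F190926 D72956
theorem F190935 : act 3 n72957 = n119751 := d7_3 (iv6 D119751) F190926 D72957
theorem F190936 : act 0 n119749 = n60224 := d20_7 (iv4 F56317) F190665 F109555 (iv3 F109442) (iv1 F109445) (iv3 F190926) D119749 F94784 F46195 (iv1 F189892)
theorem F190937 : act 1 n119747 = n60224 := d15_0 (iv0 F190936) F188943 (iv2 F188937)
theorem F190938 : act 2 n71588 = n72956 := d0_5 F190934 F188944 (iv3 F187233) F187200 (iv3 F108100)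
theorem E19679 : n72297 = n70669 := ((c7_4 F109462 F190934 F188946 F187176)).symm
theorem F190939 : act 0 n70669 = n72375 := (sb E19679 (iv1 F108862))
theorem F190940 : act 1 n70669 = n33360 := (sb E19679 (iv0 D72297))
theorem F190941 : act 6 n70669 = n72956 := (sb E19679 F109462)
theorem F190942 : act 7 n119775 = n72956 := d8_0 F190934 F188945 (iv3 F188984)
theorem F190943 : act 4 n72956 = n70671 := d10_1 F190941 (iv6 D70671) D70669
theorem E19680 : n72298 = n70674 := (c15_2 F190940 D72298 F187183 (iv2 F187178))
theorem F190944 : act 0 n70674 = n33360 := (sb E19680 (iv1 D72298))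
theorem F190945 : act 1 n70674 = n72375 := (sb E19680 F108861)
theorem F190946 : act 0 n71409 = n76562 := d20_7 D32813 D70796 F190544 (iv3 F108859) (iv1 F190945) (iv3 F107136) D71409 F114813 F94533 (iv1 F190655)
theorem F190948 : act 7 n72951 = n71588 := d13_2 F190923 D72951 (iv5 F190614)
theorem F190949 : act 2 n119775 = n72951 := d4_3 F190948 F190938 (iv7 F190942)
theorem F190950 : act 3 n71603 = n72951 := d8_3 F190948 F108100 D71603
theorem F190951 : act 4 n72952 = n118090 := d10_3 (iv6 D118090) F190922 D72952
theorem F190952 : act 3 n72952 = n119799 := d7_3 (iv6 D119799) F190921 D72952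
theorem F190953 : act 2 n119776 = n72952 := d0_5 F190952 F189024 F187239 (iv2 F187219) (iv3 F188985)
theorem F190954 : act 0 n105982 = n73601 := d20_7 (iv4 F109555) (iv1 F190668) (iv4 D60244) (iv3 F189921) F189991 (iv3 F77328) (iv4 F162784) (iv4 D73601) (iv3 F190609) (iv1 F92095)
theorem F190955 : act 1 n105982 = n73603 := d15_1 (iv0 F190954) F110287 (iv2 F110279)
theorem E19681 : n72975 = n58269 := (c15_4 F92125 F92130 F190664 (iv2 F109476))
theorem F190956 : act 2 n58269 = n33635 := (sb E19681 F109476)
theorem F190957 : act 7 n58269 = n33634 := (sb E19681 (iv7 D72975))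
theorem F190958 : act 4 n60248 = n58269 := d1_0 F190956 (iv4 F190662) (iv2 F189886)
theorem E19682 : n118120 = n72972 := ((c11_4 (iv7 F189888) F190958 F190957 D72972)).symm
theorem F190959 : act 0 n72972 = n60249 := (sb E19682 (iv1 F190005))
theorem F190960 : act 1 n72972 = n57643 := (sb E19682 (iv0 F190033))
theorem F190961 : act 2 n72972 = n54413 := (sb E19682 (iv2 D118120))
theorem F190962 : act 3 n72972 = n60225 := (sb E19682 (iv3 F189898))
theorem F190963 : act 7 n72972 = n60248 := (sb E19682 (iv7 F189888))
theorem E19683 : n118118 = n78235 := ((c18_10 (iv1 F189885) F190958 (iv1 D58269) F44819 (iv5 F51016) (iv4 F46201) (iv0 F190667) (iv4 D60244) (iv0 F189916) D78235)).symm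
theorem F190964 : act 0 n78235 = n60248 := (sb E19683 (iv1 F189885))
theorem F190965 : act 1 n78235 = n54413 := (sb E19683 (iv0 D118118))
theorem F190966 : act 4 n78235 = n57649 := (sb E19683 (iv4 F189902))
theorem F190967 : act 2 n60249 = n78235 := d1_3 F190966 F90795 (iv4 F94800)
theorem F190968 : act 6 n73057 = n78235 := d10_0 F190966 F90796 (iv4 F109583)
theorem F190969 : act 7 n57643 = n78235 := d11_0 F190966 (iv7 D57649) (iv4 F90787)
theorem E19684 : n71059 = n60154 := ((c21_7 D78235 F190964 (iv5 F94798) (iv6 D60088) (iv1 F189866) (iv6 F189883) (iv5 F94702) (iv1 D71059) F56331 (iv6 D35662) D35658)).symm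
theorem F190970 : act 0 n60154 = n32905 := (sb E19684 (iv1 D71059))
theorem F190971 : act 1 n60154 = n118290 := (sb E19684 F185840)
theorem E19685 : n71058 = n60101 := (c15_2 F190971 F185838 (iv7 F188360) (iv2 F188361))
theorem F190972 : act 0 n60101 = n118290 := (sb E19685 (iv1 F185838))
theorem F190973 : act 1 n60101 = n32905 := (sb E19685 (iv0 D71058))
theorem F190974 : act 0 n71061 = n73365 := d18_2 F190970 D71061 F110066 F52988 (iv4 F107187) F190179 (iv4 D32896) (iv0 F188309) (iv5 F94702)
theorem F190975 : act 4 n119763 = n72971 := d5_4 D72972 F190962 F189899 D119763 (iv3 D72971)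
theorem F190976 : act 4 n72976 = n70466 := d5_2 F190662 D72976 (iv3 D70466) (iv4 D32699) D32698
theorem F190977 : act 4 n72979 = n70465 := d10_3 (iv6 D70465) F190662 D72979
theorem E19686 : n73276 = n72979 := (c20_2 (iv4 F52968) D73276 F190977 F106926 (iv1 F109842) F94896 F46233 (iv1 F29883) (iv4 F29128) F190625 (iv1 D33724))
theorem F190978 : act 1 n72979 = n33716 := (sb E19686 (iv0 D73276))
theorem F190979 : act 3 n70689 = n114560 := d20_3 (iv4 F42141) D54570 F155347 (iv1 F178644) F94558 (iv4 F94641) F190657 (iv4 D72393) (iv3 F190465) (iv1 D26392)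
theorem F190980 : act 1 n60082 = n72389 := d15_1 (iv0 F190657) F109778 F109774
theorem F190981 : act 1 n60034 = n72393 := d15_0 (iv0 F190657) (iv7 D60082) (iv2 F94537)
theorem F190982 : act 1 n72389 = n60034 := d15_0 F190981 (iv7 F109772) F109781
theorem F190983 : act 0 n60032 = n71566 := d20_10 (iv4 D71566) (iv1 F107909) F107907 (iv3 F86233) (iv1 F86236) F190465 D72393 (iv1 F190981) F94538 (iv3 F94533)
theorem F190984 : act 1 n60032 = n71571 := d15_1 (iv0 F190983) (iv7 F108083) (iv2 F108088)
theorem E19687 : n114561 = n32783 := (c20_5 D72389 (iv1 F190980) F94641 (iv3 F94558) (iv1 F178638) (iv3 D32783) D32784 (iv1 F190485) F107086 F52667 D33417)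
theorem E19688 : n70709 = n52881 := ((D70709).symm.trans (sb E19687 (iv1 D114561)))
theorem E19689 : n70710 = n60045 := ((D70710).symm.trans (sb E19687 F178638))
theorem F190985 : act 1 n52881 = n32783 := (sb E19688 (iv0 D70709))
theorem E19690 : n118147 = n70351 := ((((iv3 F106829)).symm.trans (sb E19688 F186546))).symm
theorem E19691 : n118603 = n34574 := (((F83556).symm.trans (sb E19688 F186545))).symm
theorem F190986 : act 0 n60045 = n32783 := (sb E19689 (iv1 D70710))
theorem F190987 : act 0 n70351 = n54429 := (sb E19690 (iv1 D118147))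
theorem E19692 : n75580 = n54827 := ((D75580).symm.trans (sb E19691 (iv1 F186544)))
theorem E19693 : n75581 = n54612 := ((D75581).symm.trans (sb E19691 (iv0 D118603)))
theorem F190988 : act 1 n54827 = n34574 := (sb E19692 (iv0 D75580))
theorem F190989 : act 0 n54612 = n34574 := (sb E19693 (iv1 D75581))
theorem F190990 : act 0 n79159 = n80643 := d20_7 F29376 F117916 D27295 (iv3 F86312) F190989 (iv3 F113437) (iv4 F120448) F124016 (iv3 D46209) F118287
theorem F190991 : act 7 n118604 = n55308 := d15_2 (iv0 F190989) D118604 F87538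
theorem F190993 : act 6 n72178 = n118604 := d14_5 F190991 (iv6 D55308) F42855 D34576 (iv7 F188322)
theorem F190995 : act 5 n73658 = n119462 := d21_6 D12708 D26585 F42575 D34574 (iv1 F190988) (iv6 F110361) (iv1 D119462) (iv5 D54968) (iv6 D26584) (iv1 D12707)
theorem F190996 : act 0 n119148 = n119523 := d21_1 D119148 (iv5 D119523) (iv6 D54987) (iv1 D26590) (iv6 D12709) D12708 D26585 F42575 D34574 (iv1 F190988)
theorem F190997 : act 2 n119462 = n83540 := d2_1 F190995 F128632 (iv2 F110360)
theorem F190998 : act 7 n119461 = n83540 := d15_2 F188237 F188241 (iv2 F190997)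
theorem F190999 : act 3 n82952 = n119461 := d8_3 F190998 (iv3 D83540) F127841
theorem F191000 : act 5 n73646 = n119461 := d13_3 F190998 F128632 (iv7 F110338)
theorem F191001 : act 7 n114560 = n70711 := d15_2 (iv0 F190986) F178644 (iv2 D70711)
theorem F191002 : act 2 n70605 = n114560 := d4_3 F191001 (iv2 D70711) (iv7 F155313)
theorem F191003 : act 4 n119013 = n114560 := d11_3 F191001 (iv4 F186533) (iv7 F187167)
theorem F191004 : act 3 n82723 = n119013 := d5_5 F191003 (iv3 F190979) (iv4 F155347) D118495 F186407
theorem E19694 : n71591 = n71492 := (c20_8 (iv4 F191003) (iv1 F187166) F86760 (iv3 F86663) F124883 (iv3 D33110) D33111 (iv1 F108102) F108024 F106829 D114560)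
theorem F191005 : act 0 n71492 = n33106 := (sb E19694 (iv1 D71591))
theorem F191006 : act 1 n71492 = n33111 := (sb E19694 F108102)
theorem F191007 : act 7 n71590 = n76562 := d15_2 F191006 F108106 F114812
theorem F191008 : act 7 n60032 = n81091 := d11_2 F191007 F114813 (iv4 F124881)
theorem F191009 : act 6 n118811 = n71590 := d14_5 F191007 (iv6 D76562) (iv7 F55430) D60119 (iv7 F188314)
theorem F191010 : act 6 n81091 = n60123 := d10_2 F191009 F124881 F188312
theorem F191011 : act 5 n81091 = n107939 := d13_1 F191008 (iv7 D107939) (iv5 F94534)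
theorem F191012 : act 2 n119134 = n82736 := d0_3 F191004 (iv2 F187165) D119134 (iv3 D82736) (iv2 F186408)
theorem E19695 : n119137 = n38030 := (c8_4 (iv7 F186409) F191004 F187167 D119137)
theorem E19696 : n82741 = n54823 := ((D82741).symm.trans (sb E19695 (iv3 D119137)))
theorem F191013 : act 3 n54823 = n38030 := (sb E19696 (iv3 D82741))
theorem F191014 : act 3 n82743 = n119138 := d6_3 (iv5 D119138) F191013 D82743
theorem F191015 : act 3 n82744 = n119139 := d7_3 (iv6 D119139) F191013 D82744
theorem E19697 : n70711 = n60043 := ((c20_2 F189861 (iv1 F178645) (iv4 F186533) F191013 (iv1 D38030) F29374 F13499 F117914 D18075 (iv3 F52373) D71692)).symm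
theorem F191016 : act 2 n60043 = n32783 := (sb E19697 (iv2 D70711))
theorem F191017 : act 4 n60043 = n54823 := (sb E19697 (iv4 F186533))
theorem F191018 : act 7 n60043 = n114560 := (sb E19697 (iv7 F191001))
theorem E19698 : n70605 = n60042 := (c15_4 (iv0 D60042) D60043 F191018 (iv2 F191002))
theorem F191019 : act 2 n60042 = n114560 := (sb E19698 F191002)
theorem F191020 : act 3 n60042 = n32751 := (sb E19698 (iv3 D70605))
theorem F191021 : act 4 n60042 = n54822 := (sb E19698 (iv4 F107076))
theorem F191022 : act 7 n60042 = n32783 := (sb E19698 F155313)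
theorem E19699 : n72346 = n60080 := (c20_7 F191021 F186525 (iv4 D118600) (iv3 F107011) (iv1 F190469) (iv3 D72345) D72346 (iv1 D60080) F46111 (iv3 F46082) D60042)
theorem F191023 : act 2 n60080 = n72393 := (sb E19699 F109774)
theorem F191024 : act 4 n60080 = n33387 := (sb E19699 (iv4 D72346))
theorem F191025 : act 7 n60080 = n72389 := (sb E19699 (iv7 F109778))
theorem E19700 : n72342 = n60079 := (c15_4 (iv0 D60079) D60080 F191025 (iv2 F109781))
theorem F191026 : act 2 n60079 = n72389 := (sb E19700 F109781)
theorem F191027 : act 4 n60079 = n33386 := (sb E19700 (iv4 D72342))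
theorem F191028 : act 6 n60079 = n73021 := (sb E19700 (iv6 F109506))
theorem F191029 : act 7 n60079 = n72393 := (sb E19700 F109772)
theorem F191030 : act 0 n81092 = n60080 := d20_1 D81092 F191024 D72345 F190468 (iv3 F86642) (iv4 F107244) (iv1 F124744) F124742 F189870 (iv1 F189866)
theorem F191031 : act 1 n81092 = n60079 := d15_1 (iv0 F191030) F191029 (iv2 F191023)
theorem F191032 : act 7 n81092 = n60034 := d15_2 D60080 (iv0 F191030) F94537
theorem F191033 : act 2 n60082 = n81092 := d4_3 F191032 F94537 D60082
theorem F191034 : act 6 n60140 = n81092 := d14_5 F191032 (iv6 D60034) F46062 D28582 D60140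
theorem E19701 : n101061 = n70606 := (c20_8 (iv4 F189861) (iv1 F186538) (iv4 D118601) F86308 (iv1 F190505) (iv3 F52595) (iv4 F74338) D101061 (iv4 D70606) (iv3 F191020) (iv1 F178646))
theorem F191035 : act 1 n70606 = n47082 := (sb E19701 (iv0 D101061))
theorem E19702 : n101062 = n70611 := (c15_2 F191035 D101062 F155307 (iv2 F155314))
theorem F191036 : act 0 n70611 = n47082 := (sb E19702 (iv1 D101062))
theorem F191037 : act 5 n70800 = n60191 := d21_2 D32814 D70800 (iv6 D60191) (iv1 D28610) (iv6 D13642) (iv5 D6487) F37245 D13593 D28508 (iv1 F190655)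
theorem F191038 : act 2 n60335 = n70800 := d2_3 F191037 F185356 D60335
theorem F191039 : act 7 n70801 = n60335 := d15_2 (iv0 D70800) D70801 F191038
theorem F191040 : act 7 n81097 = n70800 := d15_2 (iv0 F94869) F189875 (iv2 F191038)
theorem F191041 : act 2 n70801 = n81097 := d4_3 F191040 (iv2 F191038) (iv7 F191039)
theorem F191042 : act 5 n60336 = n70801 := d13_3 F191039 (iv5 D60335) D60336
theorem F191043 : act 6 n61583 = n70801 := d21_9 (iv5 D32814) F190654 (iv5 F94647) (iv6 F185326) (iv1 D74907) (iv6 D34326) D34325 D74901 F112420 (iv1 D70801)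
theorem F191044 : act 6 n81097 = n62799 := d3_2 F191043 F191041 F98001
theorem F191045 : act 4 n70801 = n61584 := d10_1 F191043 (iv6 D61584) D61583
theorem F191046 : act 4 n62800 = n81097 := d1_2 F191045 (iv2 F98004) (iv2 F191041)
theorem E19703 : n69194 = n69166 := ((c18_2 (iv1 F105325) D69166 (iv1 D69194) (iv4 F105484) F105485 F191046 (iv0 D81097) (iv4 F190806) F112384 F112382)).symm
theorem F191047 : act 0 n69166 = n32181 := (sb E19703 (iv1 D69194))
theorem F191048 : act 3 n73661 = n72504 := d6_3 (iv5 F109550) F190646 D73661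
theorem F191050 : act 7 n73251 = n119833 := d15_2 F131035 D73251 (iv2 F190645)
theorem F191051 : act 2 n119871 = n73251 := d4_3 F191050 (iv2 F190645) F190647
theorem F191052 : act 3 n119834 = n73251 := d8_3 F191050 F189119 D119834
theorem F191053 : act 2 n119817 = n73162 := d15_3 (iv0 D73162) D73163 F190628
theorem E19704 : n73162 = n73020 := (c1_2 (iv4 F189068) F191053 F109505 (iv2 F190518))
theorem F191054 : act 1 n73020 = n33689 := (sb E19704 (iv0 D73162))
theorem F191055 : act 2 n73020 = n119817 := (sb E19704 (iv2 F191053))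
theorem F191056 : act 0 n73243 = n70520 := d20_7 F46233 (iv1 F29883) (iv4 F29128) F190625 (iv1 D33724) (iv3 F52965) (iv4 F109707) F106970 F51782 F46235
theorem E19705 : n72963 = n57380 := ((c20_4 (iv4 F87588) (iv1 F121218) F121190 D57380 (iv1 D72963) F52920 F25828 D16264 D33640 (iv3 F190620) F121197)).symm
theorem F191057 : act 0 n57380 = n33632 := (sb E19705 (iv1 D72963))
theorem F191058 : act 3 n73602 = n72507 := d6_3 (iv5 F109542) F190609 D73602
theorem F191059 : act 3 n72718 = n119243 := d7_3 (iv6 D119243) F190603 D72718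
theorem F191060 : act 2 n118954 = n72718 := d0_5 F191059 F187680 F108629 (iv2 F86577) (iv3 F187055)
theorem F191061 : act 2 n72717 = n118953 := d1_3 (iv4 D118953) F190601 D72717
theorem E19706 : n74872 = n70802 := (c20_8 D70808 F107275 (iv4 D33161) (iv3 F52381) D71724 F190585 F112379 D74872 (iv4 D70802) F51955 D32816)
theorem F191062 : act 0 n70802 = n69172 := (sb E19706 (iv1 F112383))
theorem F191063 : act 1 n70802 = n34310 := (sb E19706 (iv0 D74872))
theorem F191064 : act 7 n74873 = n69169 := d15_2 F191063 D74873 (iv2 F190463)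
theorem F191065 : act 1 n74871 = n72347 := d18_8 (iv1 D33387) (iv4 F52630) (iv1 F190511) (iv4 D32813) D32814 D70802 F191063 (iv4 F112379) (iv5 D72347)
theorem F191067 : act 2 n69170 = n74873 := d4_3 F191064 (iv2 F190463) (iv7 F190807)
theorem F191068 : act 4 n81095 = n74873 := d11_3 F191064 F190462 F189878
theorem E19707 : n70091 = n60336 := (c17_7 (iv1 D74873) F54447 D69078 F190799 (iv4 D62916) F51599 D70091 F191042 F124888 F191068)
theorem F191069 : act 0 n60336 = n32523 := (sb E19707 (iv1 D70091))
theorem E19708 : n70090 = n60191 := ((c15_4 (iv0 D70090) (iv0 F191069) (iv7 D60336) (iv2 F185356))).symm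
theorem F191070 : act 1 n60191 = n32523 := (sb E19708 (iv0 D70090))
theorem E19709 : n119608 = n119521 := ((c20_8 (iv4 F53075) (iv1 D27088) F41796 (iv3 F51598) (iv1 F191070) (iv3 F188499) F188500 D119521 (iv4 D119608) F130336 (iv1 F53094))).symm
theorem F191071 : act 3 n119521 = n82300 := (sb E19709 F188639)
theorem F191072 : act 4 n119521 = n55032 := (sb E19709 (iv4 D119608))
theorem F191074 : act 6 n119521 = n83725 := (sb E19709 F188640)
theorem E19710 : n72467 = n70524 := ((c20_6 F190482 (iv1 D70601) F51840 (iv3 F41977) F51784 (iv3 F106971) (iv4 D72467) (iv1 F190572) (iv4 D71714) (iv3 F190570) F190498)).symm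
theorem F191076 : act 4 n70524 = n33452 := (sb E19710 (iv4 D72467))
theorem E19711 : n72469 = n70523 := (c10_3 D70524 F191076 D72469 (iv4 D70523))
theorem F191077 : act 5 n70523 = n72981 := (sb E19711 F109477)
theorem F191078 : act 6 n70523 = n33452 := (sb E19711 (iv6 D72469))
theorem E19712 : n72470 = n72305 := (c11_3 F106972 F191076 D72470 F190510)
theorem F191079 : act 2 n72305 = n33453 := (sb E19712 F108992)
theorem F191080 : act 7 n72305 = n33452 := (sb E19712 (iv7 D72470))
theorem E19713 : n72465 = n72304 := (c15_4 (iv0 D72304) D72305 F191080 D72465)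
theorem F191081 : act 2 n72304 = n33452 := (sb E19713 (iv2 D72465))
theorem E19714 : n118156 = n72472 := ((c1_3 (iv4 F190510) F191079 D72472 (iv2 D118156))).symm
theorem F191083 : act 2 n72472 = n54432 := (sb E19714 (iv2 D118156))
theorem F191084 : act 6 n69102 = n118596 := d21_9 (iv5 F87223) (iv1 F190562) F51016 (iv6 D13252) (iv1 F9795) D7565 (iv5 F24806) D32147 D69102 (iv1 D118596)
theorem F191085 : act 5 n118596 = n73004 := d21_6 (iv5 F190120) F190119 (iv5 D33544) D33545 F109207 F191084 (iv1 D73004) (iv5 D33641) D33642 (iv1 F190866)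
theorem F191086 : act 6 n72329 = n73004 := d12_4 (iv6 F191084) (iv5 D69102) D69103 F108783 (iv5 F191085)
theorem F191087 : act 0 n72507 = n118596 := d21_1 F109542 F191085 (iv6 F191086) (iv1 D72329) (iv6 D33382) (iv5 F26488) F26485 (iv5 F25823) D27753 D58256
theorem F191088 : act 1 n72507 = n118595 := d15_0 (iv0 D118595) (iv7 F190540) F109514
theorem F191089 : act 2 n118590 = n72500 := d1_3 F109014 F190538 (iv4 F186509)
theorem F191090 : act 2 n118593 = n72503 := d1_3 (iv4 D72503) F190534 D118593
theorem F191091 : act 0 n119833 = n73253 := d21_7 (iv5 D61750) (iv1 F54477) (iv5 F185246) (iv6 F110046) F190530 D118594 (iv5 F189120) (iv5 F185305) F185306 F112377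
theorem F191092 : act 5 n118595 = n73003 := d21_0 (iv1 F109498) (iv5 D33646) D33647 (iv1 F110015) F110018 (iv5 F109952) F190530 (iv5 D54606) D54607 D118595
theorem F191093 : act 3 n119818 = n118595 := d6_3 F191092 F130789 F190698
theorem F191094 : act 6 n55516 = n118595 := d12_0 F191092 (iv6 F130788) (iv5 D69250) D69251 F130787
theorem F191095 : act 0 n72927 = n69251 := d21_7 (iv5 F109542) (iv1 F92095) F52928 (iv6 F44855) (iv1 F44857) D33617 D72927 F130787 F191094 (iv1 F191088)
theorem F191096 : act 1 n119871 = n73253 := d15_0 (iv0 F191091) (iv7 F191050) (iv2 F191051)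
theorem F191097 : act 1 n73240 = n119871 := d15_0 F191096 (iv7 D73253) (iv2 F109705)
theorem F191098 : act 1 n119833 = n73240 := d15_0 F191097 (iv7 F190647) F190645
theorem F191101 : act 3 n73693 = n72348 := d8_3 (iv7 F109500) F190522 D73693
theorem F191102 : act 2 n73019 = n119816 := d2_3 (iv5 D119816) F190517 D73019
theorem F191103 : act 4 n73018 = n119397 := d5_4 (iv4 D54945) F190514 D33645 D73018 (iv3 D119397)
theorem F191104 : act 0 n87973 = n81942 := d20_4 (iv4 F190482) (iv1 D72373) (iv4 F107086) (iv3 F134965) (iv3 D81942) (iv4 D37522) (iv1 F29177) (iv4 F29205) (iv3 F51895) (iv1 F107067)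
theorem F191105 : act 6 n72389 = n119820 := d10_2 F190478 D72389 (iv4 D119820)
theorem F191106 : act 2 n119820 = n73021 := d3_1 F191105 (iv6 F191028) F191026
theorem E19715 : n69978 = n58285 := ((c20_11 (iv4 D69978) (iv1 F106344) F106340 (iv3 F85714) (iv1 F85718) D54342 (iv4 F190397) (iv1 D58294) F44851 (iv3 F44846) D58285)).symm
theorem F191107 : act 2 n58285 = n33779 := (sb E19715 F187841)
theorem F191108 : act 3 n58285 = n119317 := (sb E19715 (iv3 F187839))
theorem F191109 : act 4 n58285 = n32486 := (sb E19715 (iv4 D69978))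
theorem F191110 : act 7 n58285 = n119325 := (sb E19715 (iv7 F187882))
theorem F191111 : act 4 n119317 = n86747 := d20_6 (iv4 F190397) (iv1 D58294) F44851 (iv3 F44846) D58285 F191108 (iv1 F190020) (iv4 D79752) D79751 F190086
theorem F191112 : act 2 n86747 = n119321 := d1_1 F191111 (iv4 D119321) F187885
theorem F191113 : act 7 n86747 = n119326 := d11_2 (iv7 F187884) F191111 (iv4 D119326)
theorem F191114 : act 1 n70105 = n119326 := d15_1 (iv0 F187891) (iv7 F191113) F191112
theorem F191115 : act 0 n70104 = n72874 := d20_4 D119326 (iv1 F191114) (iv4 D70105) D70104 F190897 (iv4 F131141) (iv1 F189136) F189133 (iv3 F187871) (iv1 F187875)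
theorem F191116 : act 1 n70104 = n72879 := d15_1 (iv0 F191115) F190904 (iv2 F190896)
theorem E19716 : n69983 = n58286 := ((c15_2 (iv0 D58285) D58286 F187846 (iv2 F191107))).symm
theorem F191117 : act 2 n58286 = n119325 := (sb E19716 (iv2 F187881))
theorem F191118 : act 3 n58286 = n33764 := (sb E19716 (iv3 F106393))
theorem F191119 : act 4 n58286 = n32487 := (sb E19716 (iv4 D69983))
theorem F191120 : act 7 n58286 = n33779 := (sb E19716 F187846)
theorem F191121 : act 0 n58284 = n69913 := d20_7 F188165 (iv1 F86952) (iv4 F188453) F190381 (iv1 D27770) (iv3 F44846) (iv4 F92145) (iv4 D69913) (iv3 F188768) (iv1 F188169)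
theorem F191122 : act 1 n58284 = n69917 := d15_1 (iv0 F191121) F155227 (iv2 F155216)
theorem F191123 : act 1 n101021 = n69913 := d15_0 (iv0 F191121) (iv7 F190894) (iv2 F190895)
theorem F191125 : act 0 n101013 = n84646 := d20_4 F187880 (iv1 F190370) F92139 (iv3 F155624) (iv3 D84646) (iv4 D39093) (iv1 F29806) (iv4 F29819) (iv3 F51570) (iv1 F106337)
theorem F191126 : act 7 n114886 = n76304 := d15_2 D114436 F190360 F114407
theorem F191127 : act 2 n114437 = n114886 := d4_3 F191126 F114407 D114437
theorem F191128 : act 6 n114431 = n114886 := d14_5 F191126 (iv6 D76304) (iv7 F83430) D52811 D114431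
theorem F191129 : act 2 n73282 = n119877 := d1_3 (iv4 D119877) F190153 D73282
theorem F191130 : act 0 n118938 = n73184 := d17_0 (iv5 D73184) (iv1 F109262) F109259 F52868 (iv5 F51105) F51108 D32200 F190151 (iv4 F187029)
theorem E19717 : n106326 = n70137 := (c20_8 (iv4 F85781) (iv1 F85783) F51614 F190144 (iv1 D33619) (iv3 F52885) (iv4 F77598) D106326 (iv4 D70137) (iv3 D32537) (iv1 F41812))
theorem F191131 : act 1 n70137 = n49140 := (sb E19717 (iv0 D106326))
theorem E19718 : n106317 = n70278 := (c20_3 (iv4 F54212) D49137 D106317 (iv3 D70278) (iv1 F85761) F85756 (iv4 F85781) (iv1 F85783) F51614 F190144 (iv1 D33619))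
theorem F191132 : act 4 n70278 = n49137 := (sb E19718 (iv4 D106317))
theorem E19719 : n106320 = n106306 := (c11_3 F185033 F191132 D106320 F190358)
theorem F191133 : act 2 n106306 = n49138 := (sb E19719 F163392)
theorem F191134 : act 7 n106306 = n49137 := (sb E19719 (iv7 D106320))
theorem E19720 : n76747 = n72842 := (c20_4 (iv4 F185057) (iv1 F185060) F184941 D76747 (iv1 D72842) F52885 (iv4 F54212) D49137 (iv4 F191132) (iv3 D70278) (iv1 F85761))
theorem F191135 : act 2 n72842 = n119699 := (sb E19720 (iv2 F188844))
theorem F191136 : act 3 n72842 = n35076 := (sb E19720 (iv3 D76747))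
theorem E19721 : n106315 = n106305 := (c15_4 (iv0 D106305) D106306 F191134 D106315)
theorem F191137 : act 2 n106305 = n49137 := (sb E19721 (iv2 D106315))
theorem F191138 : act 7 n106305 = n49138 := (sb E19721 (iv7 F163391))
theorem F191139 : act 2 n106322 = n117974 := d1_3 (iv4 F190358) F191133 D106322
theorem F191140 : act 2 n72707 = n118938 := d1_3 F187029 F190128 (iv4 F109211)
theorem F191142 : act 4 n72705 = n119238 := d5_4 (iv4 D54877) F190098 D33543 D72705 (iv3 D119238)
theorem F191143 : act 2 n72706 = n118937 := d2_3 (iv5 D118937) F190093 D72706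
theorem F191144 : act 3 n73075 = n81806 := d6_1 F190092 (iv5 D81806) (iv3 F108589)
theorem F191145 : act 7 n119674 = n71786 := d15_2 F190088 F188785 (iv2 F186268)
theorem E19722 : n86743 = n69996 := (c11_3 F191145 F108252 D86743 F188805)
theorem E19723 : n40229 = n32529 := (((F188804).symm.trans (sb E19722 F133024))).symm
theorem F191146 : act 6 n69996 = n78334 := (sb E19722 (iv6 F189940))
theorem F191147 : act 7 n69996 = n40222 := (sb E19722 (iv7 D86743))
theorem E19724 : n48990 = n15405 := ((((iv1 D32529)).symm.trans (sb E19723 (iv1 F77310)))).symm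
theorem E19726 : n70108 = n36320 := (((iv2 F106493)).symm.trans (sb E19723 (iv2 F190011)))
theorem E19727 : n86750 = n70110 := (((D70110).symm.trans (sb E19723 (iv4 F133033)))).symm
theorem E19728 : n86763 = n70111 := (((D70111).symm.trans (sb E19723 (iv5 F133036)))).symm
theorem E19729 : n70112 = n35704 := ((D70112).symm.trans (sb E19723 F189949))
theorem E19730 : n70103 = n18996 := ((F106492).symm.trans (sb E19723 (iv7 D40229)))
theorem E19731 : n32528 = n23903 := ((D32528).symm.trans (sb E19724 (iv1 D48990)))
theorem F191148 : act 2 n36320 = n32529 := (sb E19726 F106493)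
theorem E19742 : n119326 = n105964 := ((F188803).symm.trans (sb E19727 (iv1 F162760)))
theorem E19743 : n119321 = n105963 := ((F188806).symm.trans (sb E19727 F162765))
theorem F191149 : act 2 n70110 = n79752 := (sb E19727 (iv2 F190021))
theorem F191150 : act 6 n70110 = n78335 := (sb E19727 (iv6 F189943))
theorem F191151 : act 7 n70110 = n40225 := (sb E19727 (iv7 D86750))
theorem E19744 : n105978 = n32540 := (((F185140).symm.trans (sb E19728 (iv1 F162770)))).symm
theorem E19745 : n117982 = n105977 := ((F185147).symm.trans (sb E19728 F162776))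
theorem F191152 : act 2 n70111 = n79753 := (sb E19728 (iv2 F190025))
theorem F191153 : act 7 n70111 = n40228 := (sb E19728 (iv7 D86763))
theorem F191154 : act 6 n35704 = n32529 := (sb E19729 (iv6 D70112))
theorem F191155 : act 7 n18996 = n32529 := (sb E19730 (iv7 F106492))
theorem F191156 : act 0 n23903 = n36322 := (sb E19731 (iv1 F57044))
theorem F191157 : act 1 n23903 = n15405 := (sb E19731 (iv0 D32528))
theorem E19746 : n70104 = n48985 := ((((iv3 F77297)).symm.trans (sb E19731 D70104))).symm
theorem F191160 : act 3 n105964 = n86518 := (sb E19742 F187899)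
theorem F191161 : act 4 n105964 = n54912 := (sb E19742 (iv4 D119326))
theorem F191163 : act 0 n105963 = n70110 := (sb E19743 (iv1 F188806))
theorem F191165 : act 4 n105963 = n54911 := (sb E19743 (iv4 D119321))
theorem F191166 : act 7 n105963 = n73479 := (sb E19743 (iv7 F187896))
theorem E19750 : n70141 = n48991 := ((D70141).symm.trans (sb E19744 (iv1 D105978)))
theorem E19751 : n105927 = n32886 := (((F52065).symm.trans (sb E19744 (iv5 F162771)))).symm
theorem F191167 : act 0 n105977 = n70111 := (sb E19745 (iv1 F185147))
theorem F191168 : act 2 n105977 = n54350 := (sb E19745 (iv2 D117982))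
theorem F191169 : act 3 n105977 = n60219 := (sb E19745 (iv3 F188347))
theorem F191170 : act 7 n105977 = n70143 := (sb E19745 F185144)
theorem E19752 : n105957 = n72874 := ((D105957).symm.trans (sb E19746 F191115))
theorem E19753 : n105958 = n72879 := ((D105958).symm.trans (sb E19746 F191116))
theorem E19754 : n119717 = n27543 := (((F77298).symm.trans (sb E19746 F188854))).symm
theorem F191171 : act 1 n48991 = n32540 := (sb E19750 (iv0 D70141))
theorem E19755 : n48972 = n15835 := ((((iv6 D32886)).symm.trans (sb E19751 (iv6 D105927)))).symm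
theorem F191172 : act 0 n72874 = n73057 := (sb E19752 (iv1 F162749))
theorem F191173 : act 1 n72874 = n48985 := (sb E19752 (iv0 D105957))
theorem F191174 : act 0 n72879 = n48985 := (sb E19753 (iv1 D105958))
theorem F191175 : act 1 n72879 = n73057 := (sb E19753 F162744)
theorem E19756 : n57655 = n55078 := ((D57655).symm.trans (sb E19754 (iv1 D119717)))
theorem E19757 : n58304 = n57656 := (((D57656).symm.trans (sb E19754 (iv0 F190382)))).symm
theorem E19758 : n69809 = n32881 := (((D32881).symm.trans (sb E19755 (iv1 F106234)))).symm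
theorem E19759 : n32882 = n23893 := ((D32882).symm.trans (sb E19755 (iv0 D48972)))
theorem E19765 : n119716 = n33664 := ((D119716).symm.trans (sb E19756 (iv1 F90826)))
theorem F191176 : act 1 n55078 = n27543 := (sb E19756 (iv0 D57655))
theorem F191177 : act 2 n57656 = n33615 := (sb E19757 F190754)
theorem F191178 : act 4 n57656 = n27770 := (sb E19757 (iv4 D58304))
theorem F191179 : act 7 n57656 = n33610 := (sb E19757 F190755)
theorem E19766 : n48973 = n36778 := ((((iv1 F57671)).symm.trans (sb E19758 (iv1 F106233)))).symm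
theorem E19767 : n70993 = n36777 := ((D70993).symm.trans (sb E19758 F190041))
theorem E19768 : n70953 = n60129 := (((iv3 F190281)).symm.trans (sb E19758 F106230))
theorem E19769 : n70997 = n48956 := ((D70997).symm.trans (sb E19758 F106231))
theorem E19770 : n70998 = n32419 := ((D70998).symm.trans (sb E19758 (iv7 D69809)))
theorem F191180 : act 0 n23893 = n15835 := (sb E19759 (iv1 D32882))
theorem F191181 : act 1 n33664 = n55078 := (sb E19765 (iv0 D119716))
theorem F191182 : act 0 n36778 = n23893 := (sb E19766 (iv1 D48973))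
theorem E19778 : n105932 = n80601 := (((D80601).symm.trans (sb E19766 D105932))).symm
theorem F191183 : act 2 n36777 = n32881 := (sb E19767 (iv2 D70993))
theorem F191184 : act 0 n60129 = n32864 := (sb E19768 (iv1 D70953))
theorem F191185 : act 1 n60129 = n72659 := (sb E19768 F190280)
theorem F191186 : act 3 n60129 = n32881 := (sb E19768 F190281)
theorem E19779 : n105895 = n62900 := (((iv5 F162616)).symm.trans (sb E19769 F185141))
theorem F191188 : act 6 n48956 = n32881 := (sb E19769 (iv6 D70997))
theorem F191189 : act 7 n32419 = n32881 := (sb E19770 (iv7 D70998))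
theorem F191190 : act 5 n80601 = n106039 := (sb E19778 (iv5 F162868))
theorem F191191 : act 5 n62900 = n48956 := (sb E19779 F162616)
theorem F191192 : act 7 n62900 = n48955 := (sb E19779 (iv7 D105895))
theorem E19780 : n62901 = n62764 := ((c15_4 F98132 F98128 F191192 (iv2 F97925))).symm
theorem F191193 : act 0 n62764 = n29762 := (sb E19780 (iv1 D62901))
theorem F191194 : act 1 n62764 = n61818 := (sb E19780 F98132)
theorem F191195 : act 2 n62900 = n61817 := d15_3 F98133 F190082 (iv7 F191192)
theorem F191196 : act 7 n61817 = n62764 := d4_2 (iv7 F191192) F191195 F97925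
theorem E19781 : n85801 = n40235 := (c21_11 D86788 F133092 (iv5 D70758) (iv6 D32799) (iv1 F25196) D32422 (iv5 F97926) F191193 D62904 (iv6 F98137) D85801)
theorem E19782 : n86786 = n70115 := ((D86786).symm.trans (sb E19781 (iv1 F131655)))
theorem E19783 : n86787 = n39637 := ((D86787).symm.trans (sb E19781 (iv0 D85801)))
theorem F191197 : act 1 n70115 = n40235 := (sb E19782 (iv0 D86786))
theorem F191198 : act 0 n39637 = n40235 := (sb E19783 (iv1 D86787))
theorem F191199 : act 7 n85802 = n86770 := d15_2 (iv0 F191198) D85802 F133046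
theorem F191200 : act 2 n86789 = n85802 := d4_3 F191199 F133046 D86789
theorem F191201 : act 6 n86802 = n85802 := d14_5 F191199 (iv6 D86770) (iv7 F61214) D40240 D86802
theorem F191202 : act 5 n71011 = n86802 := d21_2 D80600 (iv1 F123931) F191201 (iv1 D85802) F98137 (iv5 D62904) D62900 F191191 F191188 (iv1 F57671)
theorem F191203 : act 5 n71014 = n79762 := d21_0 (iv1 F122447) (iv5 D70114) D70115 (iv1 F131659) (iv6 F191201) (iv5 F191202) (iv1 D71011) (iv5 D32885) D32886 D71014
theorem F191204 : act 6 n71014 = n69796 := d21_3 D36323 D79762 (iv5 F191203) (iv1 D69796) (iv6 D32413) (iv5 D15314) (iv1 F12540) (iv5 F30276) D18996 (iv1 F190024)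
theorem F191205 : act 7 n86801 = n71011 := d13_0 F191202 (iv7 D86802) D86801
theorem F191206 : act 2 n86801 = n71010 := d15_3 (iv0 D71010) D71011 (iv7 F191205)
theorem F191207 : act 5 n71010 = n86790 := d2_2 D86801 F191206 F133094
theorem E19784 : n86766 = n18997 := (c21_5 D32885 D71010 F191207 (iv6 D86790) (iv1 F133040) (iv6 D18997) F13868 (iv1 F12437) D11191 D23893 F191180)
theorem E19785 : n40231 = n39585 := ((((iv1 F60454)).symm.trans (sb E19784 (iv1 D86766)))).symm
theorem E19786 : n40236 = n39584 := (((F60451).symm.trans (sb E19784 F133040))).symm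
theorem E19788 : n85663 = n18998 := (((iv2 F131381)).symm.trans (sb E19785 (iv2 D40231)))
theorem E19789 : n86767 = n85664 := (((D85664).symm.trans (sb E19785 D86767))).symm
theorem E19790 : n86768 = n85665 := (((D85665).symm.trans (sb E19785 D86768))).symm
theorem E19791 : n86769 = n85666 := (((D85666).symm.trans (sb E19785 D86769))).symm
theorem E19792 : n86770 = n85667 := (((D85667).symm.trans (sb E19785 D86770))).symm
theorem E19793 : n85659 = n18999 := ((F131380).symm.trans (sb E19785 (iv7 F61214)))
theorem E19794 : n86775 = n57683 := (((F90868).symm.trans (sb E19786 (iv3 F133049)))).symm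
theorem E19795 : n86780 = n85660 := (((D85660).symm.trans (sb E19786 (iv4 F133053)))).symm
theorem E19796 : n86785 = n85661 := (((D85661).symm.trans (sb E19786 (iv5 F133090)))).symm
theorem E19797 : n86790 = n85662 := (((D85662).symm.trans (sb E19786 D86790))).symm
theorem F191208 : act 2 n18998 = n39585 := (sb E19788 F131381)
theorem F191209 : act 7 n18998 = n39584 := (sb E19788 (iv7 D85663))
theorem F191210 : act 7 n85664 = n40237 := (sb E19789 F133041)
theorem F191211 : act 2 n85665 = n40233 := (sb E19790 F133042)
theorem F191212 : act 7 n85665 = n40238 := (sb E19790 F133043)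
theorem F191213 : act 2 n85666 = n40234 := (sb E19791 F133044)
theorem F191214 : act 7 n85666 = n40239 := (sb E19791 F133045)
theorem F191215 : act 2 n85667 = n40235 := (sb E19792 F133046)
theorem F191216 : act 7 n85667 = n85802 := (sb E19792 (iv7 F191199))
theorem F191217 : act 2 n18999 = n39584 := (sb E19793 (iv2 D85659))
theorem F191218 : act 7 n18999 = n39585 := (sb E19793 (iv7 F131380))
theorem F191219 : act 7 n57683 = n40232 := (sb E19794 (iv7 D86775))
theorem F191220 : act 2 n85660 = n40238 := (sb E19795 F133052)
theorem F191221 : act 7 n85660 = n40233 := (sb E19795 (iv7 D86780))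
theorem F191222 : act 2 n85661 = n40239 := (sb E19796 F133089)
theorem F191223 : act 7 n85661 = n40234 := (sb E19796 (iv7 D86785))
theorem F191224 : act 2 n85662 = n40240 := (sb E19797 F133094)
theorem F191225 : act 5 n85662 = n71010 := (sb E19797 (iv5 F191207))
theorem E19798 : n57676 = n57660 := ((c11_2 F191219 F90838 (iv7 F90866) D57683)).symm
theorem F191226 : act 2 n57660 = n27550 := (sb E19798 (iv2 D57676))
theorem F191227 : act 7 n57660 = n27551 := (sb E19798 (iv7 F90866))
theorem E19799 : n57681 = n57661 := (c15_4 F90831 F90836 F191227 (iv2 F90867))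
theorem F191228 : act 2 n57661 = n27551 := (sb E19799 F90867)
theorem F191229 : act 7 n57661 = n27550 := (sb E19799 (iv7 D57681))
theorem E19800 : n86772 = n57678 := ((c1_3 F90838 F191226 D57678 (iv2 D86772))).symm
theorem F191230 : act 2 n57678 = n40232 := (sb E19800 (iv2 D86772))
theorem E19801 : n85704 = n57683 := (c15_2 (iv0 F130460) D85704 F191219 (iv2 F191230))
theorem F191231 : act 0 n57683 = n39597 := (sb E19801 (iv1 D85704))
theorem F191232 : act 2 n86788 = n70779 := d2_3 (iv5 F131382) F191215 D86788
theorem E19802 : n106059 = n62904 := (c21_11 (iv5 D62904) D62900 F191191 F191188 (iv1 F57671) D80601 F191190 (iv1 F162872) (iv5 D49019) D49020 D106059)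
theorem F191233 : act 1 n62904 = n49020 := (sb E19802 (iv0 D106059))
theorem E19803 : n48956 = n37008 := ((c21_11 (iv5 F191191) (iv1 F98128) F122446 (iv6 D79761) (iv1 F57046) (iv6 F191154) D78336 F119548 F85902 (iv6 D37012) D37008)).symm
theorem E19804 : n69815 = n32825 := ((((iv1 F57923)).symm.trans (sb E19803 (iv1 F106245)))).symm
theorem E19806 : n81008 = n32824 := ((D81008).symm.trans (sb E19803 F190029))
theorem E19807 : n105862 = n81009 := (((D81009).symm.trans (sb E19803 (iv3 F162575)))).symm
theorem E19808 : n105881 = n81010 := (((D81010).symm.trans (sb E19803 (iv4 F162611)))).symm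
theorem E19809 : n81011 = n62900 := ((D81011).symm.trans (sb E19803 (iv5 F191191)))
theorem E19810 : n81012 = n32881 := ((D81012).symm.trans (sb E19803 F191188))
theorem E19811 : n81013 = n23880 := ((D81013).symm.trans (sb E19803 (iv7 D48956)))
theorem E19812 : n37009 = n32422 := (((iv1 F57927)).symm.trans (sb E19804 (iv1 D69815)))
theorem F191234 : act 2 n32824 = n37008 := (sb E19806 (iv2 D81008))
theorem F191237 : act 2 n81009 = n60059 := (sb E19807 F162574)
theorem E19813 : n75012 = n71721 := (((F124766).symm.trans (sb E19807 F162576))).symm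
theorem F191238 : act 6 n81009 = n60129 := (sb E19807 F162577)
theorem F191240 : act 7 n81010 = n48952 := (sb E19808 (iv7 D105881))
theorem F191241 : act 5 n62900 = n37008 := (sb E19809 (iv5 D81011))
theorem E19814 : n71048 = n70996 := (((D70996).symm.trans (sb E19810 F185855))).symm
theorem F191242 : act 6 n32881 = n37008 := (sb E19810 (iv6 D81012))
theorem F191243 : act 7 n23880 = n37008 := (sb E19811 (iv7 D81013))
theorem F191244 : act 0 n32422 = n17811 := (sb E19812 (iv1 D37009))
theorem F191245 : act 1 n32422 = n32825 := (sb E19812 F57927)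
theorem F191246 : act 7 n71721 = n34366 := (sb E19813 (iv7 D75012))
theorem F191247 : act 0 n70996 = n105934 := (sb E19814 (iv1 F189950))
theorem F191248 : act 1 n70996 = n32902 := (sb E19814 (iv0 D71048))
theorem F191249 : act 2 n80598 = n70996 := d15_3 F191248 F189965 (iv7 F190044)
theorem F191250 : act 7 n70996 = n69808 := d4_2 (iv7 F190044) F191249 F106226
theorem E19819 : n118295 = n69808 := (c15_2 F189465 F185849 (iv7 F191250) (iv2 F191249))
theorem F191251 : act 0 n69808 = n71050 := (sb E19819 (iv1 F185849))
theorem F191252 : act 1 n69808 = n54481 := (sb E19819 (iv0 D118295))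
theorem E19820 : n71720 = n55443 := ((c15_4 (iv0 D71720) D71721 F191246 (iv2 F87729))).symm
theorem F191253 : act 0 n55443 = n33459 := (sb E19820 F190581)
theorem F191254 : act 1 n55443 = n33158 := (sb E19820 (iv0 D71720))
theorem E19821 : n118154 = n28525 := (((F87730).symm.trans (sb E19820 (iv4 F186495)))).symm
theorem E19822 : n60058 = n54432 := ((D60058).symm.trans (sb E19821 (iv0 D118154)))
theorem E19823 : n70688 = n60054 := ((((iv3 F94585)).symm.trans (sb E19821 F186496))).symm
theorem F191255 : act 0 n54432 = n28525 := (sb E19822 (iv1 D60058))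
theorem F191256 : act 0 n60054 = n32778 := (sb E19823 (iv1 D70688))
theorem E19825 : n118506 = n79010 := ((((iv4 F120195)).symm.trans (sb E19823 F186497))).symm
theorem F191259 : act 1 n79010 = n54579 := (sb E19825 F186418)
theorem F191260 : act 2 n71721 = n118587 := d15_3 (iv0 D118587) F190060 (iv7 F191246)
theorem F191261 : act 4 n118587 = n60059 := d1_2 F124766 F191260 (iv2 F191237)
theorem F191262 : act 7 n118587 = n55443 := d4_2 (iv7 F191246) F191260 F87729
theorem F191263 : act 6 n72148 = n118587 := d14_5 F191262 (iv6 D55443) F43068 D34364 (iv7 F190090)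
theorem E19826 : n105859 = n70524 := ((c20_10 (iv4 F191261) (iv1 F186503) (iv4 D71717) (iv3 F86308) (iv1 F86311) (iv3 F51806) (iv4 F107006) F107007 F106978 (iv3 F106971) (iv1 F162578))).symm
theorem F191264 : act 0 n70524 = n60059 := (sb E19826 (iv1 F162578))
theorem F191265 : act 1 n70524 = n48938 := (sb E19826 (iv0 D105859))
theorem E19827 : n119034 = n105879 := (c20_7 F191076 (iv1 F190572) (iv4 D71714) (iv3 F190570) F190498 F190481 D119034 (iv1 D105879) F77221 (iv3 F77166) (iv1 F191265))
theorem F191266 : act 1 n105879 = n70824 := (sb E19827 (iv0 F187281))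
theorem F191267 : act 2 n105879 = n71608 := (sb E19827 F187279)
theorem F191268 : act 3 n105879 = n86402 := (sb E19827 F187280)
theorem F191269 : act 4 n105879 = n54777 := (sb E19827 (iv4 D119034))
theorem F191270 : act 7 n70824 = n69813 := d15_2 D105879 F191266 F106243
theorem F191271 : act 2 n81010 = n70824 := d4_3 F191270 F106243 (iv7 F191240)
theorem E19828 : n105860 = n72472 := ((c15_4 F162570 (iv0 F191264) (iv7 F106972) (iv2 F191083))).symm
theorem F191272 : act 0 n72472 = n48938 := (sb E19828 (iv1 D105860))
theorem F191273 : act 1 n72472 = n60059 := (sb E19828 F162570)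
theorem E19829 : n72471 = n57116 := (c20_4 F191261 (iv1 F191273) (iv4 D72472) D72471 (iv1 D57116) F44276 F21887 F120611 D27286 (iv3 F86295) D118587)
theorem F191274 : act 3 n57116 = n33453 := (sb E19829 (iv3 D72471))
theorem F191275 : act 7 n118505 = n71960 := d15_2 F191259 F186417 (iv2 F120194)
theorem F191277 : act 4 n60057 = n72304 := d20_0 (iv1 F108759) F52743 (iv3 F52633) (iv1 F52688) (iv3 F190465) D54579 (iv1 F191259) F120195 F94585 D60057
theorem F191278 : act 2 n70524 = n60057 := d1_3 F191277 F191081 (iv4 F191076)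
theorem F191280 : act 7 n69810 = n70687 := d11_2 F191275 F108458 F189084
theorem F191281 : act 7 n79009 = n72042 := d14_4 F191275 (iv6 D71960) F56657 D79009 (iv6 F189472)
theorem E19830 : n72043 = n71961 := ((c15_4 F108514 F108518 (iv7 F191281) F120192)).symm
theorem F191282 : act 0 n71961 = n33272 := (sb E19830 (iv1 D72043))
theorem F191283 : act 1 n71961 = n33277 := (sb E19830 F108514)
theorem E19831 : n118212 = n69853 := (((F108459).symm.trans (sb E19830 (iv4 F187023)))).symm
theorem F191284 : act 0 n69853 = n54451 := (sb E19831 (iv1 D118212))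
theorem E19832 : n70952 = n60060 := (((F106280).symm.trans (sb E19831 (iv3 F187022)))).symm
theorem F191285 : act 0 n60060 = n72659 := (sb E19832 (iv1 F190278))
theorem F191286 : act 1 n60060 = n32864 := (sb E19832 (iv0 D70952))
theorem E19833 : n118935 = n34364 := (((F94593).symm.trans (sb E19832 F187021))).symm
theorem E19834 : n75003 = n72145 := ((D75003).symm.trans (sb E19833 (iv1 F187020)))
theorem E19835 : n75004 = n54736 := ((D75004).symm.trans (sb E19833 (iv0 D118935)))
theorem F191287 : act 1 n72145 = n34364 := (sb E19834 (iv0 D75003))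
theorem F191288 : act 0 n54736 = n34364 := (sb E19835 (iv1 D75004))
theorem F191289 : act 0 n77433 = n80150 := d20_7 F87711 F121118 D27281 (iv3 F86559) F191288 (iv3 F112539) (iv4 F116245) F123035 (iv3 D56998) (iv1 F87715)
theorem F191290 : act 7 n118936 = n55445 := d15_2 (iv0 F191288) D118936 F87734
theorem F191292 : act 6 n71721 = n118936 := d14_5 F191290 (iv6 D55445) (iv7 F43057) D34366 (iv7 F191246)
theorem E19836 : n108315 = n68108 := (c21_5 (iv5 D50011) (iv1 F38240) D24394 D50022 D108315 F185663 (iv5 D118158) F191255 (iv5 F79172) (iv6 D50027) (iv1 F79117))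
theorem F191293 : act 1 n68108 = n50022 := (sb E19836 (iv0 D108315))
theorem F191294 : act 0 n71744 = n108325 := d18_2 F190576 D71744 F167501 F79172 (iv4 F87730) F191254 (iv4 D33158) D33156 D71715
theorem F191295 : act 1 n72525 = n108325 := d15_0 (iv0 F191294) (iv7 F186569) F190416
theorem E19837 : n108327 = n62839 := ((c20_10 (iv4 F167501) (iv1 F191295) (iv4 D72525) (iv3 F190411) (iv1 F166623) F166619 (iv4 F100863) (iv1 F110448) (iv4 D62840) D62839 (iv1 D108327))).symm
theorem F191296 : act 0 n62839 = n50027 := (sb E19837 (iv1 D108327))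
theorem F191297 : act 2 n74756 = n108326 := d15_3 (iv0 D108326) (iv0 F191296) F131122
theorem F191299 : act 5 n72500 = n73103 := d21_6 D7578 D16278 F43039 D55443 F191253 D72500 (iv1 D73103) (iv5 D33674) (iv6 D16277) (iv1 D7577)
theorem F191300 : act 0 n72499 = n73179 := d21_1 D72499 (iv5 D73179) (iv6 D33694) (iv1 D16283) (iv6 D7579) D7578 D16278 F43039 D55443 F191253
theorem F191301 : act 0 n71960 = n118473 := d20_7 (iv4 F190544) F190542 (iv4 F190547) F57983 (iv1 F191245) (iv3 F106236) (iv4 F108458) (iv4 D118473) F190474 (iv1 F52694)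
theorem E19838 : n86781 = n85755 := (c21_2 D40234 D86781 F131490 (iv6 D70829) (iv1 F191245) (iv6 D32422) F43051 (iv1 D7866) (iv5 F5922) D8900 D18998)
theorem F191302 : act 0 n85755 = n40239 := (sb E19838 (iv1 F133091))
theorem F191303 : act 1 n85755 = n40234 := (sb E19838 (iv0 D86781))
theorem E19839 : n86782 = n58548 := (c15_2 F191303 D86782 F92485 D85755)
theorem F191304 : act 0 n58548 = n40234 := (sb E19839 (iv1 D86782))
theorem F191305 : act 1 n58548 = n40239 := (sb E19839 F133088)
theorem E19840 : n86799 = n56386 := (c21_11 F89222 (iv1 F191248) (iv5 D70996) F191242 (iv1 F57923) D70829 (iv5 F131490) F191302 (iv5 D40239) D40240 D86799)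
theorem F191306 : act 1 n56386 = n40240 := (sb E19840 (iv0 D86799))
theorem F191307 : act 1 n71960 = n118474 := d15_1 (iv0 F191301) F186319 (iv2 F186316)
theorem F191308 : act 5 n81020 = n105956 := d21_2 D37011 D81020 (iv6 D105956) (iv1 D48983) (iv6 D23899) (iv5 D11193) (iv1 F12436) (iv5 F43051) D32422 F191244
theorem F191309 : act 2 n70835 = n81020 := d2_3 F191308 F162975 (iv5 F190031)
theorem F191310 : act 7 n81021 = n70835 := d15_2 (iv0 D81020) D81021 F191309
theorem F191311 : act 7 n70834 = n81020 := d15_2 F124772 F124773 (iv2 F191309)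
theorem F191312 : act 2 n81021 = n70834 := d4_3 F191311 (iv2 F191309) (iv7 F191310)
theorem F191313 : act 5 n106062 = n81021 := d13_3 F191310 F190031 D106062
theorem F191314 : act 6 n81010 = n70995 := d10_2 F191242 D81010 (iv4 D70995)
theorem F191315 : act 2 n70995 = n80597 := d3_1 F191314 F189469 (iv2 F191271)
theorem F191316 : act 7 n70995 = n69805 := d14_2 (iv7 F191240) F191314 (iv6 D69805) F51474 D48952
theorem E19841 : n118828 = n105920 := ((c15_1 D105920 (iv0 F186902) F191316 F106223)).symm
theorem F191317 : act 1 n105920 = n70995 := (sb E19841 (iv0 F186902))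
theorem F191318 : act 4 n105920 = n54698 := (sb E19841 (iv4 D118828))
theorem E19842 : n105901 = n72018 := (c20_5 (iv4 F191318) (iv1 D105920) F77262 (iv3 F77239) D105901 F187614 (iv4 D119228) (iv1 F186961) (iv4 D118908) F186899 (iv1 D118826))
theorem F191319 : act 1 n72018 = n48961 := (sb E19842 (iv0 D105901))
theorem E19843 : n105902 = n72023 := (c15_2 F191319 D105902 F187622 (iv2 F187613))
theorem F191320 : act 0 n72023 = n48961 := (sb E19843 (iv1 D105902))
theorem F191321 : act 4 n105919 = n72601 := d20_8 (iv4 F155738) (iv1 F155740) F190298 (iv3 F108500) F191320 F77239 (iv4 F77262) D105919 (iv3 D72601) (iv1 F109117)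
theorem F191322 : act 0 n79009 = n71857 := d20_1 (iv4 F120193) (iv4 D71857) F190171 (iv1 F108901) (iv3 F109113) (iv4 F155738) (iv1 F155740) F190298 (iv3 F108500) F191320
theorem F191323 : act 1 n79009 = n71861 := d15_1 (iv0 F191322) F185106 (iv2 F185117)
theorem F191324 : act 0 n105919 = n70995 := d20_1 (iv4 F191321) (iv4 D70995) (iv3 F191186) F191184 (iv3 D32864) D32865 (iv1 F110804) F105118 (iv3 F106993) F190224
theorem F191325 : act 1 n69813 = n71608 := d15_0 (iv0 F124767) F191240 (iv2 F106243)
theorem F191326 : act 0 n69810 = n70689 := d20_4 D71608 (iv1 F191325) F106244 (iv3 F106236) F190979 (iv4 F191003) (iv1 F187166) F86760 (iv3 F86663) F124883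
theorem F191327 : act 1 n69810 = n70610 := d15_1 (iv0 F191326) F155305 D70689
theorem F191328 : act 2 n106039 = n60386 := d2_1 F191190 F94898 (iv2 F123933)
theorem F191329 : act 3 n106039 = n60312 := d6_1 F191190 F94856 F188342
theorem E19844 : n106045 = n78346 := ((c21_4 D48974 (iv1 F189965) (iv5 F89222) (iv6 F119565) (iv1 D106045) (iv6 D49015) D49014 D106039 (iv5 F191190) (iv6 D80601) F191182)).symm
theorem F191330 : act 0 n78346 = n49015 := (sb E19844 (iv1 D106045))
theorem F191331 : act 0 n72770 = n119817 := d20_7 (iv4 F53042) (iv1 F43459) (iv4 F56398) (iv3 F119564) F191330 (iv3 F162834) F162835 F189068 F87209 (iv1 F53045)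
theorem E19845 : n106044 = n78339 := ((c15_4 (iv0 D106044) (iv0 F191330) (iv7 D78346) (iv2 F119556))).symm
theorem F191332 : act 1 n78339 = n49015 := (sb E19845 (iv0 D106044))
theorem E19846 : n106084 = n106040 := ((c15_2 (iv0 D106039) D106040 F163057 (iv2 F191328))).symm
theorem F191333 : act 3 n106040 = n49027 := (sb E19846 (iv3 D106084))
theorem F191334 : act 5 n106040 = n80608 := (sb E19846 F163055)
theorem F191335 : act 6 n106040 = n54024 := (sb E19846 F163056)
theorem F191336 : act 7 n106040 = n60386 := (sb E19846 F163057)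
theorem E19847 : n72878 = n57483 := (c20_4 (iv4 F109583) (iv1 F191175) (iv4 D72879) D72878 (iv1 D57483) F44408 F21934 D13155 D27503 (iv3 F120606) (iv1 F191181))
theorem F191337 : act 3 n57483 = n33605 := (sb E19847 (iv3 D72878))
theorem F191338 : act 0 n86381 = n105917 := d20_4 F61699 (iv1 F44207) (iv4 F121243) D86381 F162664 F77262 F191180 D32884 F52062 (iv1 F121288)
theorem F191339 : act 0 n76780 = n70278 := d18_0 F191132 (iv1 F163387) F163384 F92174 (iv4 F92164) F92168 D72874 F191173 (iv5 F115230)
theorem E19848 : n114757 = n114550 := ((c20_7 (iv4 F53160) (iv1 F53161) (iv4 D32541) D32540 (iv1 F191171) (iv3 F115229) (iv4 F178626) (iv1 D114757) F190164 (iv3 D55092) (iv1 F42662))).symm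
theorem F191340 : act 0 n114550 = n52960 := (sb E19848 (iv1 D114757))
theorem F191341 : act 0 n106180 = n114127 := d20_7 F190164 (iv1 F190158) (iv4 F77596) F77595 (iv1 F37466) D49067 D106180 (iv4 F178464) (iv3 F178625) F191340
theorem F191342 : act 0 n76757 = n70123 := d21_4 F85786 (iv1 F50222) (iv5 F55732) D76757 (iv6 D70123) (iv5 D32532) (iv1 F191157) D48991 F77312 (iv1 F85788)
theorem F191343 : act 5 n70121 = n69834 := d21_2 D79760 (iv1 F122442) (iv6 D69834) (iv1 D32427) (iv6 D15321) (iv5 D7250) D7246 (iv5 F30279) D23903 F191156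
theorem F191344 : act 6 n73639 = n119674 := d10_2 F191146 (iv4 F119546) (iv4 F188805)
theorem F191345 : act 7 n105982 = n73639 := d14_0 F191344 F191145 (iv6 D71786) (iv7 F77325) D105982
theorem F191346 : act 0 n59883 = n117223 := d21_4 F85799 (iv1 D28434) D28435 (iv6 F94353) F185025 (iv5 D117966) F190083 (iv5 F106549) (iv6 D70160) (iv1 F85801)
theorem E19849 : n84918 = n82889 := (c20_4 (iv4 F128682) (iv1 F190053) (iv4 D84919) D84918 (iv1 D82889) F58971 F29407 F117667 D27682 (iv3 F86900) (iv1 F190081))
theorem F191347 : act 3 n82889 = n39286 := (sb E19849 (iv3 D84918))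
theorem F191348 : act 7 n82889 = n119378 := (sb E19849 (iv7 F188049))
theorem F191349 : act 2 n119378 = n82888 := d15_3 (iv0 D82888) D82889 F191348
theorem F191350 : act 0 n98249 = n120196 := d21_7 D34577 F54851 (iv5 D26583) D26584 (iv1 F190062) (iv6 F125771) (iv5 F151595) (iv5 D120196) (iv6 D55307) (iv1 F42851)
theorem F191351 : act 0 n105951 = n60386 := d21_1 D105951 F94898 (iv6 D36780) (iv1 F190059) (iv6 D32419) F43048 (iv1 F12432) D11193 D23899 D48982
theorem F191353 : act 1 n105955 = n60386 := d15_0 (iv0 F191351) F162965 (iv2 F162973)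
theorem E19850 : n86801 = n80603 := ((c21_2 D71004 (iv1 F123936) (iv5 D86801) (iv6 D40240) (iv1 D18999) (iv6 D8900) F5922 D7865 (iv5 F43048) D32419 F190058)).symm
theorem F191354 : act 2 n80603 = n71010 := (sb E19850 F191206)
theorem F191355 : act 5 n80603 = n40240 := (sb E19850 (iv5 D86801))
theorem F191356 : act 7 n80603 = n71011 := (sb E19850 F191205)
theorem F191357 : act 2 n71011 = n80602 := d15_3 (iv0 D80602) D80603 F191356
theorem F191358 : act 7 n71010 = n80602 := d4_2 (iv7 F191356) F191354 (iv2 F191357)
theorem E19851 : n105825 = n80606 := ((c21_11 (iv5 D105825) (iv1 F162462) F162459 F77292 (iv1 F60455) D40240 (iv5 F191355) (iv1 D80603) (iv5 D36779) D36780 D80606)).symm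
theorem F191359 : act 5 n80606 = n48922 := (sb E19851 (iv5 D105825))
theorem E19852 : n117218 = n67906 := (c21_8 (iv5 D32574) (iv1 F54155) D34961 (iv6 F61211) F190056 (iv6 F183402) (iv5 D117222) D117218 (iv5 F115141) (iv6 D76755) (iv1 F55726))
theorem F191360 : act 0 n67906 = n68574 := (sb E19852 (iv1 F183394))
theorem F191361 : act 1 n67906 = n54024 := (sb E19852 (iv0 D117218))
theorem F191362 : act 0 n80608 = n70772 := d21_10 F162454 (iv1 D105780) F77117 (iv6 D23899) (iv1 F18158) D18996 D40228 F190056 (iv5 F107563) (iv6 F123941)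
theorem F191363 : act 1 n80601 = n70772 := d15_0 (iv0 F191362) (iv7 D80608) (iv2 F123933)
theorem F191364 : act 0 n85805 = n70771 := d21_1 D85805 (iv5 D70771) D70772 (iv1 F191363) (iv6 D80601) D80600 (iv1 F123931) F191202 F191201 (iv1 D85802)
theorem E19853 : n117219 = n105770 := (c15_2 F191361 D117219 (iv7 D105770) (iv2 F103986))
theorem F191365 : act 0 n105770 = n54024 := (sb E19853 (iv1 D117219))
theorem F191366 : act 1 n105770 = n68574 := (sb E19853 F183398)
theorem F191367 : act 0 n83483 = n77491 := d20_7 F90268 (iv1 F44312) D27476 (iv3 F121100) (iv1 F190055) (iv3 F90785) (iv4 F128587) F121528 (iv3 D57375) (iv1 F90272)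
theorem E19854 : n86740 = n69998 := (c20_5 D73479 F190040 F61210 (iv3 F61207) D86740 (iv3 F130290) (iv4 D84945) (iv1 F86876) F86872 (iv3 F86858) F130348)
theorem F191368 : act 1 n69998 = n40222 := (sb E19854 (iv0 D86740))
theorem E19855 : n86741 = n69916 := (c15_2 F191368 D86741 F155225 D69998)
theorem F191369 : act 0 n69916 = n40222 := (sb E19855 (iv1 D86741))
theorem E19856 : n86806 = n70838 := ((c21_11 (iv5 D86806) (iv1 F131390) (iv5 D85669) (iv6 F77292) (iv1 F77294) D49020 (iv5 F190031) (iv1 D70835) (iv5 D32827) D32828 D70838)).symm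
theorem F191370 : act 5 n70838 = n40241 := (sb E19856 (iv5 D86806))
theorem E19857 : n85754 = n85666 := ((c21_1 D85666 (iv1 D85754) F60475 (iv6 D32828) F190028 (iv6 D23880) (iv5 D11186) (iv1 F12435) (iv5 F13868) D18997 (iv1 F60454))).symm
theorem F191371 : act 0 n85666 = n39610 := (sb E19857 (iv1 D85754))
theorem F191372 : act 0 n62775 = n70837 := d21_4 F47813 (iv1 F45546) F54343 D62775 (iv6 D70837) (iv5 D32827) F190028 D48955 F77222 F50931
theorem E19858 : n85753 = n85661 := ((c15_4 (iv0 D85753) (iv0 F191371) F191214 (iv2 F191222))).symm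
theorem F191373 : act 1 n85661 = n39610 := (sb E19858 (iv0 D85753))
theorem F191374 : act 5 n70522 = n69778 := d21_2 D78242 (iv1 F119424) (iv6 D69778) (iv1 D32390) (iv6 D15292) (iv5 D7239) D7236 (iv5 F25825) D28605 F190013
theorem E19859 : n70525 = n60320 := (c21_11 F185340 (iv1 F167491) F167488 (iv6 F106175) (iv1 F106176) D69778 (iv5 F191374) (iv1 D70522) (iv5 D32715) D32716 D70525)
theorem F191375 : act 1 n60320 = n32716 := (sb E19859 (iv0 D70525))
theorem F191376 : act 0 n86492 = n105986 := d20_4 (iv4 F61348) (iv1 F61350) (iv4 F121184) D86492 F162788 F77335 (iv1 F189990) D32704 F51773 (iv1 F121228)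
theorem F191377 : act 6 n119777 = n73461 := d10_2 F188459 F189988 F122579
theorem F191378 : act 7 n119777 = n60224 := d11_2 D60227 F189988 F94784
theorem F191379 : act 0 n79327 = n83220 := d20_4 (iv4 F189981) (iv1 D106003) D106004 F162803 F128292 (iv4 D55652) (iv1 F43336) (iv4 F43398) (iv3 F87177) (iv1 F188909)
theorem F191380 : act 0 n120099 = n60122 := d21_7 F46147 (iv1 F50852) F50856 (iv6 F77339) (iv1 F189978) D70454 (iv5 F189720) (iv5 D60122) (iv6 D28570) D28568
theorem F191381 : act 0 n70840 = n69829 := d21_10 F131400 (iv1 F131399) (iv5 D40230) (iv6 D18997) (iv1 F18161) D23907 D49001 (iv1 F189978) D70453 (iv6 F107310)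
theorem F191382 : act 1 n70829 = n69829 := d15_0 (iv0 F191381) (iv7 D70840) (iv2 F107300)
theorem E19860 : n83621 = n83540 := (c17_3 (iv1 F86981) (iv5 F188240) (iv1 F188242) F128632 F108177 F53173 F53171 (iv5 F42563) F42567 F189972)
theorem F191383 : act 0 n83540 = n38555 := (sb E19860 (iv1 D83621))
theorem F191384 : act 1 n83540 = n119464 := (sb E19860 F188242)
theorem F191385 : act 7 n83620 = n119462 := d15_2 F191384 F188243 F190997
theorem F191386 : act 2 n119461 = n83620 := d4_3 F191385 F190997 (iv7 F190998)
theorem F191387 : act 3 n83597 = n77438 := d20_5 (iv4 F86891) (iv1 F189966) F59374 (iv3 F59373) D83597 (iv4 F129630) (iv1 F124135) F124130 F116574 (iv1 F86890)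
theorem F191388 : act 0 n68111 = n107910 := d21_7 (iv5 D48976) (iv1 D23895) D23896 (iv6 F77263) (iv1 F189965) D71052 (iv5 F107589) F166748 (iv6 D71087) F77268
theorem F191389 : act 1 n68111 = n107925 := d15_1 (iv0 F191388) (iv7 D107925) (iv2 F166746)
theorem F191390 : act 6 n78234 = n60208 := d10_2 F189958 D78234 F94776
theorem F191391 : act 2 n60236 = n78234 := d3_3 F191390 (iv2 F188476) F188474
theorem F191392 : act 7 n60172 = n78234 := d14_0 F191390 (iv7 D60208) (iv6 D28617) (iv7 F46168) D60172
theorem F191393 : act 0 n83125 = n60231 := d20_4 F118590 (iv1 F59127) D38266 D83125 F94792 F46197 (iv1 F189892) (iv4 F56317) (iv3 D35649) D35647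
theorem F191394 : act 5 n78341 = n70777 := d21_2 D70481 (iv1 F119559) (iv6 D70777) (iv1 D32805) (iv6 D15705) F11678 D7920 F25996 D18992 (iv1 F189890)
theorem E19861 : n106047 = n78343 := ((c21_11 F166804 (iv1 F166805) F166798 (iv6 F107235) (iv1 F107237) D70777 (iv5 F191394) (iv1 D78341) (iv5 D35706) D35707 D78343)).symm
theorem F191395 : act 5 n78343 = n49864 := (sb E19861 F166804)
theorem F191396 : act 7 n78343 = n49015 := (sb E19861 (iv7 D106047))
theorem F191397 : act 0 n61586 = n81100 := d21_4 F50876 (iv1 F50880) F54321 D61586 (iv6 D81100) (iv5 D37054) F189865 D28542 F46114 D28555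
def n120200 : Q := act 0 n55309
theorem D120200 : act 0 n55309 = n120200 := rfl
def n120201 : Q := act 1 n55309
theorem D120201 : act 1 n55309 = n120201 := rfl
def n120202 : Q := act 5 n55309
theorem D120202 : act 5 n55309 = n120202 := rfl
theorem F191399 : act 6 n120202 = n55312 := d12_2 D55309 D120202 (iv5 D55312) (iv6 D26731) D26730
def n120203 : Q := act 7 n55309
theorem D120203 : act 7 n55309 = n120203 := rfl
theorem F191400 : act 3 n120203 = n75628 := d8_1 D120203 F113470 (iv3 F87540)
theorem F191401 : act 6 n120203 = n75599 := d14_1 D120203 (iv7 D75599) (iv6 D34580) (iv7 F42860) D55309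
def n120204 : Q := act 2 n55310
theorem D120204 : act 2 n55310 = n120204 := rfl
theorem F191402 : act 7 n55311 = n120204 := d15_2 (iv0 D55310) D55311 (iv2 D120204)
def n120205 : Q := act 3 n55310
theorem D120205 : act 3 n55310 = n120205 := rfl
def n120206 : Q := act 5 n55310
theorem D120206 : act 5 n55310 = n120206 := rfl
def n120207 : Q := act 6 n55310
theorem D120207 : act 6 n55310 = n120207 := rfl
theorem F191403 : act 5 n120207 = n83661 := d21_6 D26583 (iv1 F42862) (iv5 D26730) D26731 D55310 D120207 (iv1 D83661) (iv5 D38568) (iv6 D18370) (iv1 F21099)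
def n120208 : Q := act 7 n55310
theorem D120208 : act 7 n55310 = n120208 := rfl
theorem F191404 : act 2 n120208 = n55311 := d4_1 D120208 F191402 (iv2 D120204)
def n120209 : Q := act 3 n55311
theorem D120209 : act 3 n55311 = n120209 := rfl
def n120210 : Q := act 4 n55311
theorem D120210 : act 4 n55311 = n120210 := rfl
theorem F191405 : act 3 n120210 = n60065 := d20_9 (iv4 F94600) F112567 (iv4 D75041) (iv3 D34374) (iv1 F52723) (iv3 F86740) (iv4 F187391) (iv1 F187393) D120210 (iv1 D60065)
def n120211 : Q := act 5 n55311
theorem D120211 : act 5 n55311 = n120211 := rfl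
def n120212 : Q := act 6 n55311
theorem D120212 : act 6 n55311 = n120212 := rfl
def n120213 : Q := act 0 n55312
theorem D120213 : act 0 n55312 = n120213 := rfl
def n120214 : Q := act 1 n55312
theorem D120214 : act 1 n55312 = n120214 := rfl
theorem F191406 : act 5 n119291 = n120214 := d21_6 F42850 (iv1 F42519) (iv5 D26555) D26556 D54896 D119291 (iv1 D120214) (iv5 D55312) (iv6 D26731) D26728
theorem F191407 : act 2 n120214 = n119509 := d2_1 F191406 (iv5 D119509) (iv2 F187766)
def n120215 : Q := act 4 n55312
theorem D120215 : act 4 n55312 = n120215 := rfl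
def n120216 : Q := act 7 n55312
theorem D120216 : act 7 n55312 = n120216 := rfl
theorem F191408 : act 3 n120216 = n75684 := d8_1 D120216 F113546 (iv3 F87541)
theorem F191409 : act 5 n120216 = n55313 := d13_1 D120216 (iv7 D55313) D55312
theorem F191410 : act 1 n119509 = n120216 := d15_1 (iv0 F188487) (iv7 D120216) (iv2 F187389)
def n120217 : Q := act 0 n55315
theorem D120217 : act 0 n55315 = n120217 := rfl
theorem F191411 : act 1 n118143 = n120217 := d15_0 (iv0 D120217) (iv7 F187407) F187406
def n120218 : Q := act 1 n55315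
theorem D120218 : act 1 n55315 = n120218 := rfl
theorem F191412 : act 1 n120218 = n118143 := d15_1 D120218 (iv7 F186138) (iv2 F162895)
def n120219 : Q := act 4 n55315
theorem D120219 : act 4 n55315 = n120219 := rfl
theorem F191413 : act 2 n120219 = n69821 := d1_1 D120219 F130955 (iv2 F162895)
theorem F191416 : act 0 n69794 = n120219 := d20_1 (iv4 F106206) (iv4 D120219) (iv3 D55315) (iv1 F86743) F86740 (iv4 F108925) (iv1 F108927) D75025 (iv3 F112553) (iv1 D69796)
def n120220 : Q := act 5 n55315
theorem D120220 : act 5 n55315 = n120220 := rfl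
theorem F191417 : act 3 n120220 = n55317 := d6_1 D120220 (iv5 D55317) D55315
def n120221 : Q := act 6 n55315
theorem D120221 : act 6 n55315 = n120221 := rfl
theorem F191418 : act 3 n120221 = n55318 := d7_1 D120221 (iv6 D55318) D55315
theorem F191419 : act 5 n85041 = n120221 := d6_0 F191418 F87546 D85041
theorem F191420 : act 7 n85156 = n120221 := d8_0 F191418 F186111 (iv3 F130491)
def n120222 : Q := act 3 n55316
theorem D120222 : act 3 n55316 = n120222 := rfl
def n120223 : Q := act 5 n55316
theorem D120223 : act 5 n55316 = n120223 := rfl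
def n120224 : Q := act 6 n55316
theorem D120224 : act 6 n55316 = n120224 := rfl
theorem F191421 : act 2 n120224 = n85182 := d3_1 D120224 (iv6 F187397) F187396
theorem F191422 : act 4 n120224 = n55318 := d10_1 D120224 (iv6 D55318) D55316
theorem F191423 : act 7 n85166 = n120224 := d11_0 F191422 F186111 D85166
def n120225 : Q := act 4 n55317
theorem D120225 : act 4 n55317 = n120225 := rfl
def n120226 : Q := act 6 n55317
theorem D120226 : act 6 n55317 = n120226 := rfl
theorem F191424 : act 2 n120226 = n85185 := d3_1 D120226 (iv6 F187403) F187401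
theorem F191425 : act 5 n120226 = n85043 := d12_1 D120226 (iv6 D85043) (iv5 F87546) (iv6 D55318) D55317
def n120227 : Q := act 3 n55321
theorem D120227 : act 3 n55321 = n120227 := rfl
theorem F191426 : act 7 n120227 = n82512 := d8_2 F187398 D120227 F187399
theorem F191427 : act 0 n82515 = n120227 := d20_4 F112808 (iv1 F63803) F63799 (iv3 F127164) (iv3 D120227) (iv4 D55321) (iv1 D26733) (iv4 F42948) F42947 D34605
theorem F191428 : act 1 n82511 = n120227 := d15_0 (iv0 F191427) (iv7 D82515) (iv2 F127162)
def n120228 : Q := act 5 n55321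
theorem D120228 : act 5 n55321 = n120228 := rfl
def n120229 : Q := act 6 n55321
theorem D120229 : act 6 n55321 = n120229 := rfl
theorem F191429 : act 4 n120229 = n55323 := d10_1 D120229 (iv6 D55323) D55321
def n120230 : Q := act 4 n55322
theorem D120230 : act 4 n55322 = n120230 := rfl
def n120231 : Q := act 5 n55327
theorem D120231 : act 5 n55327 = n120231 := rfl
theorem F191431 : act 7 n120231 = n75114 := d13_2 (iv7 F87555) D120231 (iv5 D75114)
def n120232 : Q := act 6 n55327
theorem D120232 : act 6 n55327 = n120232 := rfl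
theorem F191432 : act 3 n120232 = n80194 := d7_1 D120232 F123172 F91235
theorem F191433 : act 4 n120232 = n55329 := d10_1 D120232 (iv6 D55329) D55327
theorem F191434 : act 7 n85464 = n120232 := d11_0 F191433 (iv7 F87560) D85464
def n120233 : Q := act 4 n55328
theorem D120233 : act 4 n55328 = n120233 := rfl
theorem F191435 : act 7 n120233 = n75118 := d11_2 (iv7 F87557) D120233 (iv4 D75118)
def n120234 : Q := act 6 n55328
theorem D120234 : act 6 n55328 = n120234 := rfl
theorem F191437 : act 5 n120234 = n58464 := d12_1 D120234 (iv6 D58464) F87559 (iv6 D55329) D55328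
def n120235 : Q := act 1 n55330
theorem D120235 : act 1 n55330 = n120235 := rfl
theorem F191438 : act 1 n120235 = n55338 := d15_1 D120235 F87577 (iv2 F87561)
theorem F191439 : act 7 n120235 = n75092 := d15_2 F106984 D120235 (iv2 F112603)
theorem F191440 : act 4 n120235 = n68113 := d17_9 (iv1 F104264) (iv5 D32430) (iv1 F25189) (iv5 F38270) (iv4 F79206) (iv5 F122768) F166852 F166850 D120235
def n120238 : Q := act 7 n55331
theorem D120238 : act 7 n55331 = n120238 := rfl
theorem F191447 : act 5 n120238 = n58469 := d13_1 D120238 (iv7 D58469) (iv5 F87564)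
theorem F191448 : act 6 n120238 = n61510 := d14_1 D120238 F96021 (iv6 D34401) F51317 D55331
theorem F191449 : act 1 n75097 = n120238 := d15_1 D75097 (iv7 D120238) F87563
def n120242 : Q := act 5 n55332
theorem D120242 : act 5 n55332 = n120242 := rfl
def n120248 : Q := act 6 n55333
theorem D120248 : act 6 n55333 = n120248 := rfl
def n120249 : Q := act 5 n55334
theorem D120249 : act 5 n55334 = n120249 := rfl
theorem F191453 : act 2 n120249 = n55336 := d2_1 D120249 (iv5 D55336) D55334
theorem F191454 : act 3 n120249 = n71994 := d6_1 D120249 (iv5 D71994) (iv3 F130959)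
theorem F191455 : act 7 n120249 = n75081 := d13_2 (iv7 F87567) D120249 (iv5 D75081)
theorem F191456 : act 1 n75087 = n120249 := d15_1 D75087 F191455 F112595
theorem F191457 : act 1 n120249 = n75086 := d15_0 (iv0 D75086) (iv7 F87574) (iv2 F191453)
def n120250 : Q := act 6 n55334
theorem D120250 : act 6 n55334 = n120250 := rfl
theorem F191458 : act 2 n120250 = n55337 := d3_1 D120250 (iv6 D55337) D55334
theorem F191459 : act 3 n120250 = n71995 := d7_1 D120250 (iv6 D71995) (iv3 F130959)
def n120251 : Q := act 5 n55335
theorem D120251 : act 5 n55335 = n120251 := rfl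
def n120252 : Q := act 6 n55335
theorem D120252 : act 6 n55335 = n120252 := rfl
theorem F191463 : act 4 n120252 = n55337 := d10_1 D120252 (iv6 D55337) D55335
def n120253 : Q := act 0 n55336
theorem D120253 : act 0 n55336 = n120253 := rfl
theorem F191464 : act 1 n75081 = n120253 := d15_0 (iv0 D120253) F87574 (iv2 F112595)
def n120255 : Q := act 4 n55336
theorem D120255 : act 4 n55336 = n120255 := rfl
theorem F191466 : act 7 n120255 = n75088 := d11_2 (iv7 F87574) D120255 (iv4 D75088)
def n120256 : Q := act 6 n55336
theorem D120256 : act 6 n55336 = n120256 := rfl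
theorem F191467 : act 3 n120256 = n55339 := d7_1 D120256 (iv6 D55339) (iv3 F87573)
def n120257 : Q := act 0 n55337
theorem D120257 : act 0 n55337 = n120257 := rfl
def n120258 : Q := act 1 n55337
theorem D120258 : act 1 n55337 = n120258 := rfl
def n120259 : Q := act 3 n55338
theorem D120259 : act 3 n55338 = n120259 := rfl
def n120260 : Q := act 6 n55338
theorem D120260 : act 6 n55338 = n120260 := rfl
theorem F191469 : act 2 n120260 = n75124 := d3_1 D120260 (iv6 D75124) (iv2 F87576)
theorem F191470 : act 4 n120260 = n55339 := d10_1 D120260 (iv6 D55339) D55338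
theorem F191471 : act 0 n64990 = n120260 := d21_4 (iv5 D14497) (iv1 F24129) D30529 D64990 (iv6 D120260) (iv5 F166857) (iv1 D107994) (iv5 D49873) (iv6 D24318) (iv1 F24143)
def n120261 : Q := act 5 n55341
theorem D120261 : act 5 n55341 = n120261 := rfl
theorem F191472 : act 2 n120261 = n77488 := d2_1 D120261 (iv5 D77488) (iv2 F121161)
theorem F191473 : act 3 n120261 = n77783 := d6_1 D120261 (iv5 D77783) (iv3 F121162)
theorem F191474 : act 7 n120261 = n77828 := d13_2 (iv7 F121163) D120261 (iv5 D77828)
theorem F191475 : act 0 n120261 = n77835 := d21_1 D120261 F123183 (iv6 D77420) (iv1 D35348) (iv6 D17154) (iv5 D8040) F12355 D12796 D26744 D55341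
theorem F191476 : act 1 n120261 = n77834 := d15_0 (iv0 D77834) (iv7 F116330) (iv2 F191472)
def n120262 : Q := act 0 n55343
theorem D120262 : act 0 n55343 = n120262 := rfl
theorem F191477 : act 2 n77505 = n120262 := d15_3 (iv0 D120262) F120991 (iv7 F116372)
theorem F191478 : act 3 n120262 = n77862 := d0_2 D77505 F191477 (iv2 D77862) (iv3 D35532) (iv2 F91531)
theorem F191479 : act 7 n120262 = n77875 := d4_2 (iv7 F116372) F191477 (iv2 D77875)
theorem F191480 : act 1 n76803 = n77875 := d15_1 (iv0 F120902) (iv7 F191479) (iv2 F191477)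
theorem F191481 : act 1 n77825 = n120262 := d15_1 (iv0 F121166) F191479 (iv2 D77875)
def n120263 : Q := act 7 n55343
theorem D120263 : act 7 n55343 = n120263 := rfl
theorem F191484 : act 5 n120263 = n55344 := d13_1 D120263 (iv7 D55344) D55343
theorem F191485 : act 1 n77875 = n120263 := d15_1 F191480 (iv7 D120263) (iv2 F115290)
theorem F191486 : act 1 n120263 = n77505 := d15_1 F191485 F116372 D77875
theorem F191487 : act 4 n84575 = n120263 := d18_3 F120664 D39059 D84575 F191484 F87588 (iv0 F121197) (iv4 D18516) (iv0 F121065) D27414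
theorem F191488 : act 7 n57939 = n84575 := d11_0 F191487 (iv7 D120263) (iv4 F91661)
def n120264 : Q := act 6 n55345
theorem D120264 : act 6 n55345 = n120264 := rfl
theorem F191491 : act 5 n120264 = n57100 := d12_1 D120264 (iv6 D57100) (iv5 D27376) (iv6 F42972) D55345
def n120265 : Q := act 3 n55346
theorem D120265 : act 3 n55346 = n120265 := rfl
theorem F191492 : act 4 n120265 = n56008 := d5_2 (iv4 F87594) D120265 (iv3 D56008) (iv4 D27022) (iv3 F43657)
def n120266 : Q := act 5 n55346
theorem D120266 : act 5 n55346 = n120266 := rfl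
theorem F191494 : act 7 n120266 = n77965 := d13_2 F87596 D120266 (iv5 D77965)
theorem F191495 : act 4 n120266 = n77965 := d16_2 (iv4 F87594) D120266 (iv5 D77965) (iv4 D35571) F28191 (iv4 F21839) D27324 (iv7 F87582) F87580
theorem F191496 : act 0 n120266 = n57927 := d17_2 D55346 D120266 (iv5 D57927) (iv4 D27642) (iv5 D13200) F12741 D17050 (iv0 F27974) D26747
theorem F191497 : act 1 n120266 = n57923 := d17_6 F87592 (iv5 D26750) F21835 D27020 (iv4 F87594) D120266 (iv5 D57923) D57921 F91643
def n120267 : Q := act 3 n55347
theorem D120267 : act 3 n55347 = n120267 := rfl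
theorem F191498 : act 4 n120267 = n86192 := d5_2 (iv4 F87598) D120267 (iv3 D86192) F60706 (iv3 F44222)
def n120268 : Q := act 5 n55347
theorem D120268 : act 5 n55347 = n120268 := rfl
theorem F191499 : act 2 n120268 = n77965 := d2_1 D120268 (iv5 D77965) F87599
theorem F191500 : act 0 n120268 = n57923 := d17_2 (iv1 F87597) D120268 (iv5 D57923) (iv4 D27639) (iv5 D13197) (iv0 D6273) D6275 D13201 D27645
theorem F191501 : act 1 n120268 = n57927 := d17_6 (iv1 F55833) (iv5 D35135) F27986 D27324 (iv4 F87598) D120268 (iv5 D57927) (iv0 F56238) (iv4 D35561)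
def n120269 : Q := act 6 n55347
theorem D120269 : act 6 n55347 = n120269 := rfl
theorem F191502 : act 2 n120269 = n77966 := d3_1 D120269 (iv6 D77966) F87599
theorem F191503 : act 4 n120269 = n56936 := d10_1 D120269 F90006 (iv4 F87598)
theorem F191504 : act 0 n57914 = n120269 := d18_2 (iv1 F89950) D57914 F191503 (iv5 D56936) (iv4 F90002) F126118 (iv4 D27632) F44193 (iv5 F89948)
theorem F191505 : act 0 n120269 = n57910 := d20_1 (iv4 F191503) (iv4 D57910) D57909 F149102 F148933 (iv4 F148993) (iv1 F148995) (iv4 F126193) D96329 (iv1 F148245)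
def n120270 : Q := act 0 n55348
theorem D120270 : act 0 n55348 = n120270 := rfl
def n120271 : Q := act 1 n55348
theorem D120271 : act 1 n55348 = n120271 := rfl
def n120272 : Q := act 2 n55348
theorem D120272 : act 2 n55348 = n120272 := rfl
def n120273 : Q := act 5 n55348
theorem D120273 : act 5 n55348 = n120273 := rfl
theorem F191506 : act 3 n120273 = n55349 := d6_1 D120273 (iv5 D55349) D55348
def n120274 : Q := act 0 n55349
theorem D120274 : act 0 n55349 = n120274 := rfl
theorem F191507 : act 5 n120274 = n55357 := d17_1 D120274 (iv1 D55357) D55359 F115556 F115554 (iv0 D55944) D55946 (iv0 F91663) F91662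
theorem F191508 : act 4 n120274 = n77941 := d18_1 D120274 F119156 (iv4 F115536) (iv5 D76905) (iv4 F56520) F56519 (iv4 F87594) (iv0 D55346) D55349
theorem F191509 : act 1 n57932 = n120274 := d15_0 (iv0 D120274) (iv7 F115528) F115527
theorem F191510 : act 7 n77941 = n120274 := d13_0 F191507 F87616 D77941
def n120275 : Q := act 1 n55349
theorem D120275 : act 1 n55349 = n120275 := rfl
theorem F191511 : act 1 n120275 = n57932 := d15_1 D120275 (iv7 F115306) F115305
theorem F191512 : act 5 n120275 = n55356 := d17_7 F21449 (iv5 D12911) (iv1 F17555) D12798 D26747 D55349 D120275 (iv0 D55356) (iv4 D26751)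
theorem F191513 : act 2 n77941 = n120275 := d2_3 F191512 (iv2 F87614) D77941
def n120276 : Q := act 6 n55349
theorem D120276 : act 6 n55349 = n120276 := rfl
def n120277 : Q := act 3 n55350
theorem D120277 : act 3 n55350 = n120277 := rfl
theorem F191514 : act 4 n120277 = n55358 := d5_2 D55350 D120277 (iv3 D55358) (iv4 D26751) (iv3 F42975)
def n120278 : Q := act 5 n55351
theorem D120278 : act 5 n55351 = n120278 := rfl
theorem F191517 : act 7 n120278 = n56124 := d13_2 (iv7 F120833) D120278 (iv5 D56124)
def n120279 : Q := act 6 n55351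
theorem D120279 : act 6 n55351 = n120279 := rfl
theorem F191519 : act 5 n120279 = n56501 := d21_6 F28685 (iv1 F21239) D12800 D26749 D55351 D120279 (iv1 F124081) (iv5 D56962) (iv6 D27331) (iv1 F28687)
def n120280 : Q := act 5 n55352
theorem D120280 : act 5 n55352 = n120280 := rfl
theorem F191520 : act 2 n120280 = n56124 := d2_1 D120280 (iv5 D56124) (iv2 F120835)
theorem F191521 : act 6 n120262 = n120280 := d21_5 (iv5 D17231) (iv1 F28316) D26746 (iv6 F87586) D120262 (iv5 D120280) (iv1 D55352) D55353 F87605 F42979
def n120281 : Q := act 6 n55352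
theorem D120281 : act 6 n55352 = n120281 := rfl
theorem F191523 : act 3 n120281 = n85896 := d7_1 D120281 (iv6 F131783) F129821
theorem F191524 : act 4 n120281 = n57835 := d10_1 D120281 F133157 F120849
theorem F191525 : act 0 n57739 = n120281 := d18_0 F191524 (iv1 D57835) (iv4 D27604) (iv5 D13185) D13184 F91146 (iv4 F56131) F91150 F90916
theorem F191526 : act 1 n79828 = n120281 := d15_0 (iv0 F191525) (iv7 F90917) (iv2 F122556)
def n120282 : Q := act 0 n55353
theorem D120282 : act 0 n55353 = n120282 := rfl
def n120283 : Q := act 1 n55353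
theorem D120283 : act 1 n55353 = n120283 := rfl
theorem F191527 : act 5 n56953 = n120283 := d21_6 F13438 F5998 D6232 D13097 D27328 D56953 (iv1 D120283) (iv5 D55353) (iv6 D26749) F21841
theorem F191528 : act 2 n120283 = n56139 := d2_1 F191527 F123028 F123025
theorem F191529 : act 3 n120283 = n102781 := d6_1 F191527 (iv5 F158033) F123433
def n120284 : Q := act 4 n55353
theorem D120284 : act 4 n55353 = n120284 := rfl
theorem F191530 : act 2 n120284 = n78766 := d1_1 D120284 F119934 F91638
theorem F191531 : act 6 n120284 = n55355 := d10_2 (iv6 F87605) D120284 (iv4 D55355)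
theorem F191532 : act 1 n120284 = n57550 := d18_6 (iv1 F44328) D27508 F120819 (iv4 F42977) D55353 D120284 (iv4 D57550) F90318 F90316
theorem F191533 : act 0 n120284 = n57545 := d20_1 D120284 (iv4 D57545) (iv3 F121125) (iv1 F22049) (iv3 F29823) (iv4 F60165) (iv1 F129871) F158035 (iv3 F191529) (iv1 D120283)
theorem F191534 : act 0 n56953 = n80206 := d18_0 F123215 F125738 F125736 F121130 D57545 (iv0 F191533) (iv4 D120284) D120283 (iv5 F191527)
theorem F191535 : act 7 n84833 = n120284 := d15_2 (iv0 F121547) D84833 F191530
def n120285 : Q := act 7 n55353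
theorem D120285 : act 7 n55353 = n120285 := rfl
theorem F191536 : act 3 n120285 = n56183 := d8_1 D120285 F120789 (iv3 F87604)
theorem F191537 : act 4 n120285 = n84833 := d11_1 D120285 F191535 (iv4 D120284)
theorem F191538 : act 5 n120285 = n55354 := d13_1 D120285 (iv7 D55354) D55353
def n120286 : Q := act 3 n55355
theorem D120286 : act 3 n55355 = n120286 := rfl
theorem F191540 : act 4 n120286 = n77017 := d5_2 D55355 D120286 (iv3 D77017) (iv4 D35180) (iv3 F42978)
theorem F191541 : act 7 n120286 = n78767 := d8_2 (iv7 F87609) D120286 (iv3 D78767)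
def n120287 : Q := act 3 n55356
theorem D120287 : act 3 n55356 = n120287 := rfl
theorem F191542 : act 4 n120287 = n75223 := d5_2 (iv4 F87612) D120287 (iv3 D75223) (iv4 F63819) F63815
def n120288 : Q := act 6 n55356
theorem D120288 : act 6 n55356 = n120288 := rfl
theorem F191543 : act 2 n120288 = n77942 := d3_1 D120288 (iv6 D77942) F87614
theorem F191544 : act 4 n120288 = n77939 := d10_1 D120288 (iv6 D77939) (iv4 F87612)
def n120290 : Q := act 6 n55357
theorem D120290 : act 6 n55357 = n120290 := rfl
theorem F191547 : act 4 n120290 = n56157 := d10_1 D120290 (iv6 D56157) (iv4 F87617)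
def n120291 : Q := act 0 n55358
theorem D120291 : act 0 n55358 = n120291 := rfl
def n120292 : Q := act 1 n55358
theorem D120292 : act 1 n55358 = n120292 := rfl
def n120293 : Q := act 2 n55358
theorem D120293 : act 2 n55358 = n120293 := rfl
def n120294 : Q := act 5 n55358
theorem D120294 : act 5 n55358 = n120294 := rfl
theorem F191548 : act 3 n120294 = n55359 := d6_1 D120294 (iv5 D55359) D55358
def n120295 : Q := act 0 n55359
theorem D120295 : act 0 n55359 = n120295 := rfl
theorem F191549 : act 5 n120295 = n76805 := d17_1 D120295 (iv1 F115302) D76900 (iv4 F115541) (iv5 D76908) F55842 D56907 F115555 (iv4 F115556)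
theorem F191550 : act 4 n120295 = n120268 := d18_1 D120295 F191500 F91669 F91668 F56526 (iv0 F56236) (iv4 F87612) (iv0 D55356) D55359
theorem F191551 : act 2 n120266 = n120295 := d15_3 (iv0 D120295) (iv0 F119176) (iv7 F191494)
theorem F191552 : act 1 n76894 = n120295 := d15_0 (iv0 D120295) (iv7 F91649) (iv2 F115508)
theorem F191553 : act 7 n120295 = n120268 := d15_2 F119177 F191552 F191499
def n120296 : Q := act 6 n55359
theorem D120296 : act 6 n55359 = n120296 := rfl
def n120297 : Q := act 6 n55360
theorem D120297 : act 6 n55360 = n120297 := rfl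
theorem F191554 : act 3 n120297 = n100404 := d7_1 D120297 (iv6 D100404) (iv3 F87618)
def n120298 : Q := act 3 n55361
theorem D120298 : act 3 n55361 = n120298 := rfl
theorem F191556 : act 4 n120298 = n118776 := d5_2 F151496 D120298 (iv3 F186831) (iv4 D98190) D98189
def n120299 : Q := act 6 n55361
theorem D120299 : act 6 n55361 = n120299 := rfl
def n120300 : Q := act 6 n55362
theorem D120300 : act 6 n55362 = n120300 := rfl
theorem F191557 : act 2 n120300 = n55364 := d3_1 D120300 (iv6 D55364) D55362
theorem F191558 : act 3 n120300 = n55446 := d7_1 D120300 (iv6 D55446) (iv3 F87620)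
theorem F191559 : act 4 n120300 = n75321 := d10_1 D120300 (iv6 D75321) (iv4 F87621)
def n120301 : Q := act 6 n55363
theorem D120301 : act 6 n55363 = n120301 := rfl
theorem F191560 : act 3 n120301 = n55365 := d7_1 D120301 (iv6 D55365) (iv3 F87624)
def n120302 : Q := act 0 n55364
theorem D120302 : act 0 n55364 = n120302 := rfl
def n120303 : Q := act 1 n55364
theorem D120303 : act 1 n55364 = n120303 := rfl
def n120304 : Q := act 5 n55364
theorem D120304 : act 5 n55364 = n120304 := rfl
theorem F191561 : act 3 n120304 = n55368 := d6_1 D120304 (iv5 D55368) (iv3 F87625)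
def n120305 : Q := act 7 n55364
theorem D120305 : act 7 n55364 = n120305 := rfl
theorem F191562 : act 3 n120305 = n55369 := d8_1 D120305 (iv7 D55369) (iv3 F87625)
theorem F191563 : act 4 n120305 = n75327 := d11_1 D120305 (iv7 D75327) (iv4 F87626)
def n120306 : Q := act 0 n55365
theorem D120306 : act 0 n55365 = n120306 := rfl
def n120307 : Q := act 1 n55365
theorem D120307 : act 1 n55365 = n120307 := rfl
theorem F191564 : act 1 n120307 = n55458 := d15_1 D120307 (iv7 D55458) (iv2 F87627)
def n120308 : Q := act 5 n55365
theorem D120308 : act 5 n55365 = n120308 := rfl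
theorem F191565 : act 2 n120308 = n55457 := d2_1 D120308 (iv5 D55457) (iv2 F87627)
theorem F191566 : act 6 n120308 = n55368 := d12_2 D55365 D120308 (iv5 D55368) (iv6 D26754) D26753
def n120309 : Q := act 7 n55365
theorem D120309 : act 7 n55365 = n120309 := rfl
theorem F191567 : act 2 n120309 = n55458 := d4_1 D120309 (iv7 D55458) (iv2 F87627)
theorem F191568 : act 4 n120309 = n76831 := d11_1 D120309 (iv7 D76831) (iv4 F87628)
theorem F191569 : act 1 n55458 = n120306 := d15_0 (iv0 D120306) D120309 F191567
theorem F191570 : act 1 n55456 = n120309 := d15_1 D55456 (iv7 D120309) F87627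
theorem F191571 : act 1 n120309 = n55455 := d15_0 (iv0 D55455) D55458 (iv2 F191567)
def n120310 : Q := act 3 n55366
theorem D120310 : act 3 n55366 = n120310 := rfl
theorem F191572 : act 4 n120310 = n80440 := d5_2 F87635 D120310 (iv3 D80440) (iv4 D36660) D36659
theorem F191573 : act 7 n120310 = n55465 := d8_2 (iv7 F115896) D120310 (iv3 D55465)
def n120311 : Q := act 5 n55366
theorem D120311 : act 5 n55366 = n120311 := rfl
theorem F191574 : act 2 n120311 = n55462 := d2_1 D120311 (iv5 D55462) (iv2 F115895)
theorem F191575 : act 7 n120311 = n55467 := d13_2 (iv7 F115896) D120311 (iv5 D55467)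
theorem F191576 : act 0 n120311 = n84821 := d17_2 D55366 D120311 (iv5 D84821) F60201 (iv5 F54975) (iv0 F120586) (iv5 D55373) (iv0 D26755) (iv4 F42984)
def n120312 : Q := act 6 n55366
theorem D120312 : act 6 n55366 = n120312 := rfl
theorem F191577 : act 2 n120312 = n55463 := d3_1 D120312 (iv6 D55463) (iv2 F115895)
theorem F191578 : act 4 n120312 = n80439 := d10_1 D120312 (iv6 D80439) F87635
theorem F191579 : act 5 n120312 = n57790 := d21_6 D27427 F44341 (iv5 D26753) D26754 D55366 D120312 (iv1 D57790) (iv5 D27582) (iv6 D13181) (iv1 F21906)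
theorem F191580 : act 0 n120312 = n56808 := d20_7 (iv4 F57684) (iv1 F57688) F52086 (iv3 F89253) (iv1 F121369) (iv3 F123637) (iv4 F191578) F89823 F44129 (iv1 F43220)
def n120313 : Q := act 3 n55367
theorem D120313 : act 3 n55367 = n120313 := rfl
theorem F191581 : act 4 n120313 = n81591 := d5_2 F91434 D120313 (iv3 D81591) F117104 F91436
theorem F191582 : act 7 n120313 = n55460 := d8_2 (iv7 F115902) D120313 (iv3 D55460)
def n120314 : Q := act 5 n55367
theorem D120314 : act 5 n55367 = n120314 := rfl
theorem F191583 : act 2 n120314 = n55467 := d2_1 D120314 (iv5 D55467) (iv2 F115901)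
theorem F191584 : act 7 n120314 = n55462 := d13_2 (iv7 F115902) D120314 (iv5 D55462)
theorem F191585 : act 1 n120314 = n84821 := d15_0 (iv0 F191576) F191575 (iv2 F191583)
def n120315 : Q := act 6 n55367
theorem D120315 : act 6 n55367 = n120315 := rfl
theorem F191586 : act 2 n120315 = n55468 := d3_1 D120315 (iv6 D55468) (iv2 F115901)
theorem F191587 : act 5 n84551 = n120315 := d21_2 D39015 D84551 (iv6 D120315) (iv1 D55367) (iv6 D26754) D26753 (iv1 F44335) (iv5 D27424) D27425 (iv1 F121198)
def n120316 : Q := act 0 n55368
theorem D120316 : act 0 n55368 = n120316 := rfl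
theorem F191588 : act 5 n120316 = n85791 := d17_3 (iv1 D55367) D55368 D120316 (iv4 F131576) F122557 (iv0 F91149) F56132 D56939 F91434
theorem F191589 : act 2 n55469 = n120316 := d15_3 (iv0 D120316) (iv0 F90929) F91467
theorem F191590 : act 7 n120316 = n55470 := d4_2 F91467 F191589 (iv2 F90928)
theorem F191591 : act 1 n55472 = n120316 := d15_1 F90930 F191590 (iv2 F90928)
def n120317 : Q := act 4 n55368
theorem D120317 : act 4 n55368 = n120317 := rfl
theorem F191592 : act 2 n120317 = n55471 := d1_1 D120317 (iv4 D55471) (iv2 F87630)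
theorem F191593 : act 5 n120317 = n57776 := d16_1 D120317 F90941 F44474 F21964 (iv5 F21271) (iv4 F43078) (iv5 F87761) (iv7 D55472) (iv2 F87630)
theorem F191594 : act 7 n57775 = n120317 := d13_0 F191593 (iv7 D57776) D57775
def n120318 : Q := act 7 n55368
theorem D120318 : act 7 n55368 = n120318 := rfl
theorem F191595 : act 2 n120318 = n55472 := d4_1 D120318 (iv7 D55472) (iv2 F87630)
theorem F191596 : act 4 n120318 = n57775 := d11_1 D120318 F191594 (iv4 D120317)
theorem F191597 : act 5 n120318 = n55369 := d13_1 D120318 (iv7 D55369) D55368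
theorem F191598 : act 1 n55470 = n120318 := d15_1 D55470 (iv7 D120318) F87630
theorem F191599 : act 1 n120318 = n55469 := d15_1 F191598 (iv7 F91467) F90928
theorem F191600 : act 5 n76840 = n84818 := d21_6 (iv5 F91466) (iv1 F191599) F191597 (iv6 F115329) (iv1 F115330) D76840 (iv1 D84818) (iv5 D39236) D39237 F120563
theorem F191601 : act 0 n57028 = n76840 := d17_0 F191600 (iv1 D84818) (iv5 D39236) (iv4 D18610) D18611 D39239 F120623 F115412 (iv4 F90091)
def n120319 : Q := act 0 n55372
theorem D120319 : act 0 n55372 = n120319 := rfl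
theorem F191602 : act 4 n120319 = n56940 := d18_3 D26755 D55372 D120319 F91413 F90910 (iv0 D57312) (iv4 D27441) (iv0 D13135) (iv5 F21254)
theorem F191603 : act 2 n55486 = n120319 := d15_3 (iv0 D120319) F115447 (iv7 F91214)
theorem F191604 : act 1 n55377 = n120319 := d15_0 (iv0 D120319) F115439 (iv2 F115432)
theorem F191605 : act 7 n120319 = n55379 := d15_2 (iv0 F91391) F191604 F87643
theorem F191606 : act 6 n56978 = n120319 := d14_5 F191605 (iv6 D55379) F42993 D27338 D56978
def n120320 : Q := act 3 n55372
theorem D120320 : act 3 n55372 = n120320 := rfl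
theorem F191607 : act 4 n120320 = n79132 := d5_2 D55372 D120320 (iv3 D79132) F117337 (iv3 F117336)
theorem F191609 : act 0 n57108 = n120320 := d20_7 F57800 F59789 D35303 F56016 (iv1 F131056) (iv3 F186833) F186834 F191607 (iv3 D79132) (iv1 F57804)
def n120321 : Q := act 5 n55372
theorem D120321 : act 5 n55372 = n120321 := rfl
theorem F191610 : act 2 n120321 = n55489 := d2_1 D120321 (iv5 D55489) (iv2 F115438)
theorem F191611 : act 7 n120321 = n55508 := d13_2 (iv7 F115439) D120321 (iv5 D55508)
def n120322 : Q := act 6 n55372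
theorem D120322 : act 6 n55372 = n120322 := rfl
theorem F191612 : act 2 n120322 = n55490 := d3_1 D120322 (iv6 D55490) (iv2 F115438)
theorem F191613 : act 4 n120322 = n55374 := d10_1 D120322 (iv6 D55374) D55372
def n120323 : Q := act 4 n55373
theorem D120323 : act 4 n55373 = n120323 := rfl
theorem F191614 : act 2 n120323 = n55494 := d1_1 D120323 (iv4 D55494) (iv2 F115427)
theorem F191615 : act 6 n120323 = n81815 := d10_2 F121213 D120323 (iv4 D81815)
theorem F191616 : act 7 n120323 = n55510 := d11_2 (iv7 F115428) D120323 (iv4 D55510)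
theorem F191617 : act 1 n120323 = n57132 := d18_6 (iv1 D35348) (iv4 F44237) (iv1 F115447) (iv4 D55372) D55373 D120323 F121000 F133149 F115856
def n120324 : Q := act 1 n55374
theorem D120324 : act 1 n55374 = n120324 := rfl
theorem F191618 : act 1 n120324 = n55500 := d15_1 D120324 (iv7 D55500) (iv2 F115440)
theorem F191619 : act 7 n120324 = n55422 := d15_2 (iv0 F121154) D120324 F121150
theorem F191620 : act 6 n57034 = n120324 := d21_3 D27421 D57252 F91109 (iv1 D120324) (iv6 D55374) D55373 F120586 F54975 (iv6 D18612) (iv1 F120601)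
theorem F191621 : act 2 n120324 = n55498 := d3_1 F191620 F121156 F121129
theorem F191622 : act 3 n120324 = n75360 := d7_1 F191620 (iv6 F113073) (iv3 F121535)
def n120325 : Q := act 7 n55374
theorem D120325 : act 7 n55374 = n120325 := rfl
theorem F191623 : act 2 n120325 = n55500 := d4_1 D120325 (iv7 D55500) (iv2 F115440)
theorem F191624 : act 5 n120325 = n56903 := d13_1 D120325 F115446 (iv5 F87640)
theorem F191625 : act 6 n120325 = n55514 := d14_1 D120325 (iv7 D55514) (iv6 D26799) (iv7 F115430) D55374
theorem F191626 : act 1 n55498 = n120325 := d15_1 D55498 (iv7 D120325) F115440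
theorem F191627 : act 1 n120325 = n55422 := d15_1 F191626 (iv7 F191619) F191621
def n120327 : Q := act 5 n55377
theorem D120327 : act 5 n55377 = n120327 := rfl
theorem F191630 : act 2 n120327 = n55508 := d2_1 D120327 (iv5 D55508) (iv2 F115432)
theorem F191631 : act 7 n120327 = n55489 := d13_2 (iv7 F115433) D120327 (iv5 D55489)
def n120328 : Q := act 6 n55377
theorem D120328 : act 6 n55377 = n120328 := rfl
theorem F191632 : act 2 n120328 = n55509 := d3_1 D120328 (iv6 D55509) (iv2 F115432)
theorem F191633 : act 4 n120328 = n55378 := d10_1 D120328 (iv6 D55378) D55377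
def n120329 : Q := act 5 n55379
theorem D120329 : act 5 n55379 = n120329 := rfl
theorem F191634 : act 2 n120329 = n56970 := d2_1 D120329 (iv5 D56970) (iv2 F87643)
theorem F191636 : act 1 n120329 = n57865 := d17_6 (iv1 F133148) (iv5 F90916) (iv1 F91150) F56132 (iv4 F87644) D120329 (iv5 D57865) F91122 (iv4 F133145)
def n120334 : Q := act 7 n55381
theorem D120334 : act 7 n55381 = n120334 := rfl
theorem F191641 : act 3 n120334 = n55387 := d8_1 D120334 (iv7 D55387) (iv3 F87651)
theorem F191643 : act 6 n120334 = n56988 := d14_1 D120334 (iv7 D56988) (iv6 D27343) (iv7 F42997) D55381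
def n120335 : Q := act 6 n55382
theorem D120335 : act 6 n55382 = n120335 := rfl
theorem F191644 : act 2 n120335 = n56990 := d3_1 D120335 (iv6 D56990) F87658
theorem F191645 : act 3 n120335 = n76665 := d7_1 D120335 (iv6 D76665) F87657
theorem F191646 : act 4 n120335 = n56992 := d10_1 D120335 (iv6 D56992) (iv4 F87656)
def n120336 : Q := act 0 n55383
theorem D120336 : act 0 n55383 = n120336 := rfl
def n120337 : Q := act 1 n55383
theorem D120337 : act 1 n55383 = n120337 := rfl
def n120339 : Q := act 7 n55383
theorem D120339 : act 7 n55383 = n120339 := rfl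
theorem F191651 : act 6 n120339 = n56996 := d14_1 D120339 (iv7 D56996) (iv6 D27346) (iv7 F42999) D55383
def n120340 : Q := act 3 n55384
theorem D120340 : act 3 n55384 = n120340 := rfl
theorem F191655 : act 4 n120340 = n82650 := d5_2 (iv4 F120956) D120340 (iv3 D82650) F118204 F120744
def n120341 : Q := act 5 n55384
theorem D120341 : act 5 n55384 = n120341 := rfl
theorem F191657 : act 2 n120341 = n57126 := d2_1 D120341 (iv5 D57126) (iv2 F120957)
theorem F191658 : act 7 n120341 = n57131 := d13_2 (iv7 F120958) D120341 (iv5 D57131)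
def n120342 : Q := act 6 n55384
theorem D120342 : act 6 n55384 = n120342 := rfl
theorem F191659 : act 2 n120342 = n57127 := d3_1 D120342 (iv6 D57127) (iv2 F120957)
def n120343 : Q := act 3 n55385
theorem D120343 : act 3 n55385 = n120343 := rfl
theorem F191662 : act 7 n120343 = n57124 := d8_2 (iv7 F120969) D120343 (iv3 D57124)
theorem F191663 : act 0 n120343 = n72302 := d20_4 (iv4 F90036) (iv1 F90038) (iv4 F120968) D120343 F108752 F52607 F190504 D54605 F86295 (iv1 F120634)
def n120345 : Q := act 6 n55385
theorem D120345 : act 6 n55385 = n120345 := rfl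
theorem F191666 : act 2 n120345 = n57132 := d3_1 D120345 (iv6 D57132) (iv2 F120967)
theorem F191667 : act 4 n120345 = n57095 := d10_1 D120345 (iv6 D57095) (iv4 F120968)
def n120347 : Q := act 1 n55386
theorem D120347 : act 1 n55386 = n120347 := rfl
theorem F191668 : act 1 n120347 = n57136 := d15_1 D120347 (iv7 D57136) (iv2 F87661)
theorem F191669 : act 5 n57494 = n120347 := d21_6 (iv5 F44381) (iv1 F44383) (iv5 D13153) D13154 D27497 D57494 (iv1 D120347) (iv5 D55386) (iv6 D26761) (iv1 F28693)
def n120349 : Q := act 7 n55386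
theorem D120349 : act 7 n55386 = n120349 := rfl
theorem F191671 : act 2 n120349 = n57136 := d4_1 D120349 (iv7 D57136) (iv2 F87661)
theorem F191672 : act 5 n120349 = n55387 := d13_1 D120349 (iv7 D55387) D55386
theorem F191674 : act 1 n57134 = n120349 := d15_1 D57134 (iv7 D120349) F87661
theorem F191675 : act 1 n120349 = n57133 := d15_0 (iv0 D57133) D57136 (iv2 F191671)
def n120351 : Q := act 5 n55390
theorem D120351 : act 5 n55390 = n120351 := rfl
theorem F191679 : act 2 n120351 = n56826 := d2_1 D120351 (iv5 D56826) (iv2 F120637)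
theorem F191680 : act 7 n120351 = n57172 := d13_2 (iv7 F91053) D120351 (iv5 D57172)
theorem F191681 : act 0 n120351 = n82281 := d21_1 D120351 (iv5 F126758) (iv6 D57788) (iv1 D27581) (iv6 D13181) (iv5 F21963) (iv1 F43031) (iv5 D26774) D26775 (iv1 F120760)
theorem F191682 : act 1 n120351 = n82280 := d15_0 (iv0 D82280) (iv7 F89842) (iv2 F191679)
def n120352 : Q := act 6 n55390
theorem D120352 : act 6 n55390 = n120352 := rfl
theorem F191684 : act 4 n120352 = n55392 := d10_1 D120352 (iv6 D55392) D55390
def n120353 : Q := act 4 n55391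
theorem D120353 : act 4 n55391 = n120353 := rfl
theorem F191686 : act 7 n120353 = n57174 := d11_2 (iv7 F91055) D120353 (iv4 D57174)
def n120354 : Q := act 6 n55391
theorem D120354 : act 6 n55391 = n120354 := rfl
theorem F191692 : act 0 n120354 = n78787 := d21_10 (iv5 D78787) (iv1 D35868) (iv5 F29048) (iv6 D17878) F21870 (iv6 F43005) (iv5 D26764) D26762 D55391 D120354
def n120355 : Q := act 4 n55398
theorem D120355 : act 4 n55398 = n120355 := rfl
theorem F191694 : act 2 n120355 = n56863 := d1_1 D120355 (iv4 D56863) (iv2 F120595)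
theorem F191695 : act 6 n120355 = n57174 := d10_2 (iv6 F87672) D120355 (iv4 D57174)
theorem F191698 : act 0 n81401 = n120355 := d20_1 (iv4 F125204) (iv4 D120355) F120596 (iv1 F54765) (iv3 F58817) (iv4 F127370) (iv1 F127372) (iv4 D56502) D56501 (iv1 F124081)
def n120357 : Q := act 1 n55400
theorem D120357 : act 1 n55400 = n120357 := rfl
theorem F191705 : act 4 n57097 = n120357 := d20_6 D87519 F134406 F132511 (iv3 F132449) (iv1 F151456) F151461 (iv1 D120357) (iv4 D55400) F43004 D40736
def n120361 : Q := act 6 n55402
theorem D120361 : act 6 n55402 = n120361 := rfl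
theorem F191715 : act 2 n120361 = n56748 := d3_1 D120361 (iv6 D56748) (iv2 F121451)
theorem F191717 : act 4 n120361 = n56315 := d10_1 D120361 (iv6 D56315) (iv4 F121453)
def n120362 : Q := act 6 n55403
theorem D120362 : act 6 n55403 = n120362 := rfl
theorem F191718 : act 2 n120362 = n82468 := d3_1 D120362 (iv6 D82468) (iv2 F121446)
theorem F191720 : act 4 n120362 = n56320 := d10_1 D120362 (iv6 D56320) (iv4 F121448)
def n120363 : Q := act 3 n55405
theorem D120363 : act 3 n55405 = n120363 := rfl
theorem F191721 : act 2 n120363 = n70374 := d0_1 D120363 (iv3 D70374) F51749 F51748 F87696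
theorem F191722 : act 4 n120363 = n70380 := d5_2 F133027 D120363 (iv3 F107334) F107335 (iv3 F133026)
theorem F191723 : act 7 n120363 = n57103 := d8_2 F87698 D120363 (iv3 D57103)
theorem F191724 : act 1 n72427 = n120363 := d15_1 D72427 F191723 F90152
theorem F191725 : act 0 n72426 = n120363 := d18_2 F148599 (iv4 F125561) F191722 (iv5 F115069) F115068 F107813 D57693 (iv0 F159133) F159131
def n120364 : Q := act 6 n55405
theorem D120364 : act 6 n55405 = n120364 := rfl
def n120365 : Q := act 6 n55406
theorem D120365 : act 6 n55406 = n120365 := rfl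
theorem F191727 : act 2 n120365 = n57106 := d3_1 D120365 (iv6 D57106) (iv2 F87697)
theorem F191728 : act 3 n120365 = n72301 := d7_1 D120365 (iv6 D72301) F87693
theorem F191729 : act 4 n120365 = n71542 := d10_1 D120365 (iv6 D71542) F87694
def n120366 : Q := act 6 n55407
theorem D120366 : act 6 n55407 = n120366 := rfl
theorem F191731 : act 3 n120366 = n56983 := d7_1 D120366 (iv6 D56983) (iv3 F87700)
def n120367 : Q := act 0 n55408
theorem D120367 : act 0 n55408 = n120367 := rfl
theorem F191732 : act 5 n120367 = n57213 := d17_1 D120367 (iv1 F90249) D57476 (iv4 F147903) F147902 (iv0 D45207) (iv5 F59957) (iv0 F129499) F129500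
theorem F191733 : act 4 n120367 = n76726 := d18_3 F129501 F129500 D120367 F151575 (iv4 D98222) F149198 F112922 F71250 D81657
theorem F191734 : act 1 n57109 = n120367 := d15_0 (iv0 D120367) F87705 (iv2 F90158)
theorem F191735 : act 2 n57112 = n120367 := d1_3 F191733 F115103 (iv4 F107826)
theorem F191736 : act 7 n57111 = n120367 := d11_0 F191733 (iv7 D76726) (iv4 F120319)
def n120368 : Q := act 1 n55408
theorem D120368 : act 1 n55408 = n120368 := rfl
theorem F191737 : act 1 n120368 = n57109 := d15_1 D120368 (iv7 F107822) F107820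
theorem F191738 : act 7 n120368 = n57112 := d15_2 (iv0 D120367) D120368 F191735
theorem F191739 : act 5 n120368 = n57214 := d17_7 (iv1 F121673) (iv5 F123318) F123319 F121687 F57736 D55408 D120368 F90256 (iv4 F90634)
theorem F191740 : act 4 n120368 = n76721 := d17_9 F151576 F55692 D35987 D79080 F120313 F94620 (iv0 D55405) D55408 D120368
theorem F191741 : act 3 n58262 = n120368 := d19_19 (iv1 D120368) (iv5 D55408) (iv4 F57736) (iv3 D36819) (iv1 F28860) D17756 F28884 D35465 F57353 (iv5 F56154) D77629 (iv3 F136512) F136514 F132808 F94783 (iv3 D28625) (iv1 F46185) (iv5 F94638) F94639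
theorem F191742 : act 2 n57111 = n120368 := d1_3 F191740 (iv2 D76721) (iv4 F120319)
def n120369 : Q := act 6 n55408
theorem D120369 : act 6 n55408 = n120369 := rfl
theorem F191743 : act 3 n120369 = n55410 := d7_1 D120369 (iv6 D55410) (iv3 F87704)
def n120371 : Q := act 1 n55409
theorem D120371 : act 1 n55409 = n120371 := rfl
def n120372 : Q := act 5 n55409
theorem D120372 : act 5 n55409 = n120372 := rfl
theorem F191744 : act 3 n120372 = n55413 := d6_1 D120372 (iv5 D55413) (iv3 F87706)
def n120373 : Q := act 7 n55409
theorem D120373 : act 7 n55409 = n120373 := rfl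
theorem F191745 : act 3 n120373 = n55414 := d8_1 D120373 (iv7 D55414) (iv3 F87706)
theorem F191746 : act 6 n120373 = n57118 := d14_1 D120373 (iv7 D57118) (iv6 D27382) (iv7 F43015) D55409
theorem F191747 : act 0 n72658 = n120373 := d20_4 (iv4 F94593) F191285 (iv4 D72659) D72658 F191745 F87711 F121118 D27281 (iv3 F86559) F191288
def n120374 : Q := act 0 n55410
theorem D120374 : act 0 n55410 = n120374 := rfl
def n120375 : Q := act 1 n55410
theorem D120375 : act 1 n55410 = n120375 := rfl
theorem F191748 : act 1 n120375 = n56996 := d15_1 D120375 (iv7 D56996) (iv2 F87707)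
def n120376 : Q := act 5 n55410
theorem D120376 : act 5 n55410 = n120376 := rfl
theorem F191749 : act 2 n120376 = n56995 := d2_1 D120376 (iv5 D56995) (iv2 F87707)
theorem F191750 : act 6 n120376 = n55413 := d12_2 D55410 D120376 (iv5 D55413) (iv6 D26769) D26768
def n120377 : Q := act 7 n55410
theorem D120377 : act 7 n55410 = n120377 := rfl
theorem F191751 : act 2 n120377 = n56996 := d4_1 D120377 (iv7 D56996) (iv2 F87707)
theorem F191752 : act 6 n120377 = n57122 := d14_1 D120377 (iv7 D57122) (iv6 D27383) (iv7 F43017) D55410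
theorem F191753 : act 1 n56996 = n120374 := d15_0 (iv0 D120374) D120377 F191751
theorem F191754 : act 1 n56994 = n120377 := d15_1 D56994 (iv7 D120377) F87707
theorem F191755 : act 1 n120377 = n56993 := d15_0 (iv0 D56993) D56996 (iv2 F191751)
def n120378 : Q := act 3 n55411
theorem D120378 : act 3 n55411 = n120378 := rfl
theorem F191756 : act 4 n120378 = n56726 := d5_2 (iv4 F121441) D120378 (iv3 D56726) (iv4 F91369) F121445
theorem F191757 : act 7 n120378 = n57003 := d8_2 (iv7 F121442) D120378 (iv3 D57003)
theorem F191758 : act 0 n120378 = n72652 := d20_4 F44226 D27328 (iv4 F121441) D120378 F109181 F52849 F190099 D54736 F86559 F121337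
theorem F191759 : act 2 n120378 = n72649 := d15_3 (iv0 D72649) (iv0 F190300) (iv7 F191757)
def n120379 : Q := act 5 n55411
theorem D120379 : act 5 n55411 = n120379 := rfl
theorem F191760 : act 2 n120379 = n57000 := d2_1 D120379 (iv5 D57000) (iv2 F121440)
def n120380 : Q := act 6 n55411
theorem D120380 : act 6 n55411 = n120380 := rfl
theorem F191762 : act 2 n120380 = n57001 := d3_1 D120380 (iv6 D57001) (iv2 F121440)
theorem F191763 : act 4 n120380 = n56953 := d10_1 D120380 (iv6 D56953) (iv4 F121441)
def n120381 : Q := act 0 n55413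
theorem D120381 : act 0 n55413 = n120381 := rfl
theorem F191764 : act 5 n120381 = n57860 := d17_3 F121233 D55413 D120381 (iv4 F121444) (iv5 D56952) (iv0 D27328) F21849 F121297 D36633
theorem F191765 : act 1 n57010 = n120381 := d17_6 F121110 (iv5 D17959) (iv1 F121146) F21866 (iv4 F44249) (iv5 F90078) F191764 (iv0 D57860) F44517
def n120382 : Q := act 1 n55413
theorem D120382 : act 1 n55413 = n120382 := rfl
theorem F191766 : act 1 n120382 = n57010 := d15_1 D120382 (iv7 D57010) (iv2 F87709)
theorem F191767 : act 5 n120382 = n57378 := d17_7 F44503 F44393 (iv1 D26771) F21266 (iv4 F43019) D55413 D120382 F121515 F91126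
def n120383 : Q := act 4 n55413
theorem D120383 : act 4 n55413 = n120383 := rfl
theorem F191768 : act 2 n120383 = n57009 := d1_1 D120383 (iv4 D57009) (iv2 F87709)
def n120384 : Q := act 7 n55413
theorem D120384 : act 7 n55413 = n120384 := rfl
theorem F191770 : act 5 n120384 = n55414 := d13_1 D120384 (iv7 D55414) D55413
theorem F191771 : act 1 n57008 = n120384 := d15_1 D57008 (iv7 D120384) F87709
def n120385 : Q := act 3 n55421
theorem D120385 : act 3 n55421 = n120385 := rfl
theorem F191773 : act 2 n120385 = n72705 := d0_1 D120385 (iv3 D72705) (iv2 F190093) F86559 (iv2 F121149)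
theorem F191774 : act 4 n120385 = n75519 := d5_2 D55421 D120385 (iv3 D75519) (iv4 D34553) F121143
theorem F191775 : act 7 n120385 = n57026 := d8_2 (iv7 F91080) D120385 (iv3 D57026)
def n120386 : Q := act 5 n55421
theorem D120386 : act 5 n55421 = n120386 := rfl
theorem F191776 : act 2 n120386 = n56807 := d2_1 D120386 (iv5 D56807) (iv2 F121149)
theorem F191777 : act 7 n120386 = n57027 := d13_2 (iv7 F91080) D120386 (iv5 D57027)
theorem F191778 : act 0 n120386 = n81801 := d17_2 (iv1 F121148) D120386 F125732 F123538 F123536 (iv0 F123518) (iv5 D80382) F121339 (iv4 F121346)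
theorem F191779 : act 1 n120386 = n81800 := d17_6 (iv1 F121091) (iv5 F44502) F44503 F44393 D55421 D120386 F125729 F123544 F60026
def n120387 : Q := act 6 n55421
theorem D120387 : act 6 n55421 = n120387 := rfl
theorem F191780 : act 2 n120387 = n56808 := d3_1 D120387 (iv6 D56808) (iv2 F121149)
theorem F191781 : act 4 n120387 = n55422 := d10_1 D120387 (iv6 D55422) D55421
theorem F191782 : act 0 n55463 = n120387 := d21_4 D85793 F133151 (iv5 D55462) D55463 (iv6 D120387) D120386 F191778 F125732 (iv6 F131578) (iv1 D85791)
def n120388 : Q := act 3 n55423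
theorem D120388 : act 3 n55423 = n120388 := rfl
theorem F191783 : act 2 n120388 = n75006 := d0_1 D120388 F115031 (iv2 F115032) F115061 (iv2 F115060)
theorem F191784 : act 5 n120388 = n71446 := d6_2 (iv5 F106842) D120388 (iv3 F107990)
theorem F191785 : act 7 n120388 = n75007 := d8_2 F115064 D120388 (iv3 F112544)
theorem F191786 : act 4 n120388 = n56916 := d20_6 F21862 F21853 (iv4 F21854) D26773 D55423 D120388 (iv1 D56916) F44202 (iv3 D13102) D13100
def n120389 : Q := act 4 n55423
theorem D120389 : act 4 n55423 = n120389 := rfl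
theorem F191789 : act 2 n120389 = n96492 := d1_1 D120389 F148597 (iv2 F115060)
theorem F191790 : act 1 n120389 = n96742 := d15_0 (iv0 F151572) (iv7 F148598) (iv2 F191789)
def n120390 : Q := act 6 n55423
theorem D120390 : act 6 n55423 = n120390 := rfl
def n120391 : Q := act 6 n55424
theorem D120391 : act 6 n55424 = n120391 := rfl
def n120393 : Q := act 0 n55426
theorem D120393 : act 0 n55426 = n120393 := rfl
theorem F191792 : act 3 n120393 = n71430 := d20_5 (iv4 F56139) F56140 (iv4 F43029) (iv3 F87718) D120393 F107961 (iv1 F86357) (iv4 F44243) F44242 D27344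
theorem F191793 : act 4 n120393 = n70247 := d20_0 F115058 (iv4 F154889) (iv3 D100791) F123201 (iv3 D56989) (iv4 F56139) F56140 (iv4 F43029) (iv3 F87718) D120393
theorem F191794 : act 2 n57565 = n120393 := d15_3 (iv0 D120393) (iv0 F115007) F115006
theorem F191795 : act 1 n57692 = n120393 := d15_0 (iv0 D120393) F87719 D57692
theorem F191796 : act 7 n120393 = n57561 := d15_2 (iv0 F161600) F191795 (iv2 F115004)
theorem F191797 : act 5 n120393 = n57265 := d17_7 F69996 (iv5 F55738) D76765 F115178 F107380 (iv5 F90872) F191795 (iv0 D57265) (iv4 F69994)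
def n120394 : Q := act 4 n55426
theorem D120394 : act 4 n55426 = n120394 := rfl
theorem F191798 : act 2 n120394 = n114677 := d1_1 D120394 F178795 F177736
theorem F191799 : act 3 n120394 = n84377 := d5_1 D120394 F129500 F87704 (iv4 F43029) (iv3 F87718)
theorem F191800 : act 7 n120394 = n57693 := d11_2 (iv7 F87719) D120394 (iv4 D57693)
theorem F191801 : act 5 n120394 = n84376 := d17_5 F177703 (iv5 F115038) (iv1 D55424) D55426 D120394 (iv0 F129494) (iv5 F147545) (iv0 F187341) F187339
theorem F191802 : act 0 n103125 = n120394 := d20_10 (iv4 D120394) D120393 F191793 F106700 (iv1 F83676) (iv3 F134577) F134578 D99605 F153355 D103125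
def n120395 : Q := act 6 n55426
theorem D120395 : act 6 n55426 = n120395 := rfl
theorem F191803 : act 3 n120395 = n55428 := d7_1 D120395 (iv6 D55428) (iv3 F87718)
def n120397 : Q := act 1 n55427
theorem D120397 : act 1 n55427 = n120397 := rfl
def n120399 : Q := act 7 n55427
theorem D120399 : act 7 n55427 = n120399 := rfl
theorem F191806 : act 6 n120399 = n81798 := d14_1 D120399 F125727 (iv6 D56944) F44224 D55427
def n120400 : Q := act 0 n55428
theorem D120400 : act 0 n55428 = n120400 := rfl
def n120401 : Q := act 1 n55428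
theorem D120401 : act 1 n55428 = n120401 := rfl
theorem F191807 : act 1 n120401 = n57704 := d15_1 D120401 (iv7 D57704) (iv2 F87721)
def n120403 : Q := act 7 n55428
theorem D120403 : act 7 n55428 = n120403 := rfl
theorem F191810 : act 2 n120403 = n57704 := d4_1 D120403 (iv7 D57704) (iv2 F87721)
theorem F191811 : act 4 n120403 = n120377 := d11_1 D120403 (iv7 D120377) (iv4 F87722)
theorem F191812 : act 6 n120403 = n57698 := d14_1 D120403 (iv7 D57698) (iv6 D27555) (iv7 F43028) D55428
theorem F191813 : act 1 n57704 = n120400 := d15_0 (iv0 D120400) D120403 F191810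
theorem F191814 : act 1 n57702 = n120403 := d15_1 D57702 (iv7 D120403) F87721
theorem F191815 : act 1 n120403 = n57701 := d15_0 (iv0 D57701) D57704 (iv2 F191810)
def n120408 : Q := act 3 n55433
theorem D120408 : act 3 n55433 = n120408 := rfl
theorem F191821 : act 4 n120408 = n57053 := d20_6 F28689 (iv1 F28688) F21820 D26776 D55433 D120408 (iv1 D57053) F44254 (iv3 D13116) (iv1 F21864)
def n120409 : Q := act 6 n55433
theorem D120409 : act 6 n55433 = n120409 := rfl
def n120410 : Q := act 3 n55434
theorem D120410 : act 3 n55434 = n120410 := rfl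
theorem F191823 : act 4 n120410 = n100812 := d5_2 (iv4 F109150) D120410 F154914 (iv4 F127152) F123600
theorem F191824 : act 5 n120410 = n96352 := d6_2 (iv5 F90765) D120410 F148301
theorem F191825 : act 7 n120410 = n74999 := d8_2 (iv7 F128193) D120410 F112536
theorem F191827 : act 0 n55442 = n120410 := d20_4 (iv4 D32666) F26705 (iv4 F43037) D55442 (iv3 D120410) F109150 (iv1 D72622) F52838 F52735 (iv1 F51752)
theorem F191828 : act 2 n75000 = n120410 := d15_3 (iv0 F191827) F147106 F147104
def n120411 : Q := act 6 n55434
theorem D120411 : act 6 n55434 = n120411 := rfl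
def n120412 : Q := act 6 n55435
theorem D120412 : act 6 n55435 = n120412 := rfl
theorem F191829 : act 2 n120412 = n55436 := d3_1 D120412 (iv6 D55436) D55435
def n120413 : Q := act 0 n55436
theorem D120413 : act 0 n55436 = n120413 := rfl
def n120414 : Q := act 1 n55436
theorem D120414 : act 1 n55436 = n120414 := rfl
def n120415 : Q := act 5 n55436
theorem D120415 : act 5 n55436 = n120415 := rfl
theorem F191830 : act 3 n120415 = n55440 := d6_1 D120415 (iv5 D55440) (iv3 F87723)
def n120416 : Q := act 7 n55436
theorem D120416 : act 7 n55436 = n120416 := rfl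
theorem F191831 : act 3 n120416 = n55441 := d8_1 D120416 (iv7 D55441) (iv3 F87723)
theorem F191832 : act 4 n120416 = n80492 := d11_1 D120416 F123722 F115805
def n120417 : Q := act 0 n55437
theorem D120417 : act 0 n55437 = n120417 := rfl
def n120418 : Q := act 1 n55437
theorem D120418 : act 1 n55437 = n120418 := rfl
theorem F191834 : act 1 n120418 = n57698 := d15_1 D120418 (iv7 D57698) (iv2 F87724)
def n120419 : Q := act 5 n55437
theorem D120419 : act 5 n55437 = n120419 := rfl
theorem F191835 : act 2 n120419 = n57697 := d2_1 D120419 (iv5 D57697) (iv2 F87724)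
theorem F191836 : act 6 n120419 = n55440 := d12_2 D55437 D120419 (iv5 D55440) (iv6 D26778) D26777
def n120420 : Q := act 7 n55437
theorem D120420 : act 7 n55437 = n120420 := rfl
theorem F191837 : act 2 n120420 = n57698 := d4_1 D120420 (iv7 D57698) (iv2 F87724)
theorem F191838 : act 4 n120420 = n120339 := d11_1 D120420 (iv7 D120339) (iv4 F87725)
theorem F191839 : act 6 n120420 = n57704 := d14_1 D120420 (iv7 D57704) (iv6 D27557) (iv7 F43034) D55437
theorem F191840 : act 1 n57698 = n120417 := d15_0 (iv0 D120417) D120420 F191837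
theorem F191841 : act 1 n57696 = n120420 := d15_1 D57696 (iv7 D120420) F87724
theorem F191842 : act 1 n120420 = n57695 := d15_0 (iv0 D57695) D57698 (iv2 F191837)
def n120421 : Q := act 1 n55440
theorem D120421 : act 1 n55440 = n120421 := rfl
theorem F191843 : act 1 n120421 = n81799 := d15_1 D120421 F125728 F90025
theorem F191844 : act 5 n57405 = n120421 := d21_0 (iv1 D120421) (iv5 D55440) (iv6 D26778) (iv1 D12811) D12814 D26788 D55469 F91466 F125743 (iv1 F125741)
theorem F191845 : act 2 n120421 = n84555 := d2_1 F191844 (iv5 D84555) F121087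
def n120422 : Q := act 4 n55440
theorem D120422 : act 4 n55440 = n120422 := rfl
def n120423 : Q := act 7 n55440
theorem D120423 : act 7 n55440 = n120423 := rfl
theorem F191846 : act 2 n120423 = n81799 := d4_1 D120423 F125728 F90025
theorem F191847 : act 5 n120423 = n55441 := d13_1 D120423 (iv7 D55441) D55440
theorem F191848 : act 1 n84555 = n120423 := d15_1 (iv0 F129721) (iv7 D120423) (iv2 F90025)
def n120424 : Q := act 6 n55442
theorem D120424 : act 6 n55442 = n120424 := rfl
theorem F191849 : act 3 n120424 = n55443 := d7_1 D120424 (iv6 D55443) D55442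
theorem F191850 : act 4 n120424 = n80213 := d10_1 D120424 (iv6 D80213) (iv4 F87726)
theorem F191851 : act 0 n80213 = n82650 := d20_7 F44277 F120590 D18097 (iv3 F52380) (iv1 F191254) (iv3 F191849) F191850 (iv4 F191655) (iv3 D120340) (iv1 F87665)
def n120425 : Q := act 5 n55443
theorem D120425 : act 5 n55443 = n120425 := rfl
theorem F191853 : act 6 n120425 = n73110 := d12_2 D55443 D120425 (iv5 D73110) (iv6 D33677) F43039
def n120426 : Q := act 0 n55444
theorem D120426 : act 0 n55444 = n120426 := rfl
theorem F191854 : act 5 n120426 = n71445 := d17_1 D120426 (iv1 F107983) F52938 F52937 (iv5 D33091) (iv0 D15961) D15963 D33097 (iv4 F87731)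
theorem F191855 : act 4 n120426 = n56915 := d18_1 D120426 (iv1 F89975) (iv4 F87646) F87647 (iv4 D54631) F77594 (iv4 F107954) (iv0 D71429) (iv5 F87732)
theorem F191856 : act 3 n120426 = n100403 := d20_5 F52599 (iv1 F46094) F43045 D55444 D120426 F154450 F143058 F74335 (iv3 D33366) D33365
def n120427 : Q := act 6 n55444
theorem D120427 : act 6 n55444 = n120427 := rfl
theorem F191860 : act 3 n120427 = n55445 := d7_1 D120427 (iv6 D55445) D55444
theorem F191861 : act 4 n120427 = n71557 := d10_1 D120427 (iv6 D71557) (iv4 F87731)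
def n120428 : Q := act 5 n55445
theorem D120428 : act 5 n55445 = n120428 := rfl
theorem F191862 : act 2 n120428 = n75005 := d2_1 D120428 (iv5 D75005) (iv2 F87734)
theorem F191863 : act 6 n120428 = n73114 := d12_2 D55445 D120428 (iv5 D73114) (iv6 D33678) F43044
def n120429 : Q := act 0 n55446
theorem D120429 : act 0 n55446 = n120429 := rfl
theorem F191864 : act 6 n120429 = n73189 := d21_5 D16271 D33659 F52932 D55446 D120429 (iv5 D73189) (iv1 D33696) (iv5 D16284) (iv6 D7579) D7576
theorem F191865 : act 0 n120429 = n55452 := d21_4 (iv5 F109259) (iv1 F109261) D73189 (iv6 F191864) F87751 (iv5 F112555) (iv1 F112556) (iv5 D73164) (iv6 D33689) (iv1 F52871)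
theorem F191866 : act 4 n70769 = n120429 := d20_6 (iv4 F28979) (iv1 D8015) (iv4 F11681) (iv3 F25199) D32804 D70769 F191865 F87750 F43085 (iv1 F21287)
theorem F191867 : act 0 n70373 = n70769 := d20_10 F191866 F191865 F87750 F43085 (iv1 F21287) D16801 D34698 (iv1 F131056) (iv4 F94678) (iv3 F106855)
def n120430 : Q := act 1 n55446
theorem D120430 : act 1 n55446 = n120430 := rfl
theorem F191868 : act 1 n120430 = n55452 := d15_1 D120430 (iv7 D55452) (iv2 F87736)
def n120431 : Q := act 5 n55446
theorem D120431 : act 5 n55446 = n120431 := rfl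
theorem F191869 : act 2 n120431 = n55451 := d2_1 D120431 (iv5 D55451) (iv2 F87736)
def n120432 : Q := act 7 n55446
theorem D120432 : act 7 n55446 = n120432 := rfl
theorem F191870 : act 2 n120432 = n55452 := d4_1 D120432 (iv7 D55452) (iv2 F87736)
theorem F191871 : act 4 n120432 = n55518 := d11_1 D120432 (iv7 D55518) (iv4 F87737)
theorem F191872 : act 6 n120432 = n72413 := d14_1 D120432 (iv7 D72413) (iv6 D33432) (iv7 F43041) D55446
theorem F191873 : act 1 n55450 = n120432 := d15_1 D55450 (iv7 D120432) F87736
theorem F191874 : act 1 n120432 = n55449 := d15_0 (iv0 D55449) D55452 (iv2 F191870)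
theorem F191875 : act 4 n70376 = n55449 := d20_0 (iv1 F191874) F191871 F87804 (iv1 F54929) D34680 (iv4 F130822) (iv1 D70383) F51755 (iv3 F51753) D70376
def n120433 : Q := act 3 n55447
theorem D120433 : act 3 n55447 = n120433 := rfl
theorem F191876 : act 2 n120433 = n77047 := d0_1 D120433 F115774 F55932 (iv3 F51904) (iv2 F87738)
theorem F191877 : act 4 n120433 = n55453 := d5_2 D55447 D120433 (iv3 D55453) (iv4 D26784) (iv3 F43069)
theorem F191878 : act 5 n120433 = n60062 := d6_2 (iv5 F87739) D120433 (iv3 D60062)
theorem F191879 : act 7 n120433 = n75013 := d8_2 (iv7 F87740) D120433 (iv3 D75013)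
def n120434 : Q := act 6 n55447
theorem D120434 : act 6 n55447 = n120434 := rfl
theorem F191880 : act 2 n120434 = n70725 := d3_1 D120434 (iv6 D70725) (iv2 F87738)
theorem F191881 : act 4 n120434 = n55448 := d10_1 D120434 (iv6 D55448) D55447
def n120435 : Q := act 0 n55448
theorem D120435 : act 0 n55448 = n120435 := rfl
def n120436 : Q := act 1 n55448
theorem D120436 : act 1 n55448 = n120436 := rfl
def n120437 : Q := act 5 n55448
theorem D120437 : act 5 n55448 = n120437 := rfl
theorem F191882 : act 3 n120437 = n55457 := d6_1 D120437 (iv5 D55457) (iv3 F87747)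
theorem F191883 : act 6 n120437 = n55451 := d12_2 D55448 D120437 (iv5 D55451) (iv6 D26783) D26782
def n120438 : Q := act 7 n55448
theorem D120438 : act 7 n55448 = n120438 := rfl
theorem F191884 : act 3 n120438 = n55458 := d8_1 D120438 (iv7 D55458) (iv3 F87747)
theorem F191885 : act 6 n120438 = n75018 := d14_1 D120438 (iv7 D75018) (iv6 D34368) (iv7 F43070) D55448
def n120439 : Q := act 2 n55449
theorem D120439 : act 2 n55449 = n120439 := rfl
theorem F191886 : act 7 n55450 = n120439 := d15_2 (iv0 D55449) D55450 (iv2 D120439)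
def n120440 : Q := act 3 n55449
theorem D120440 : act 3 n55449 = n120440 := rfl
def n120441 : Q := act 5 n55449
theorem D120441 : act 5 n55449 = n120441 := rfl
def n120442 : Q := act 6 n55449
theorem D120442 : act 6 n55449 = n120442 := rfl
theorem F191887 : act 5 n120442 = n72777 := d21_6 D27542 F44436 (iv5 D26782) D26783 D55449 D120442 (iv1 D72777) (iv5 D33573) (iv6 D16223) (iv1 F21946)
def n120443 : Q := act 7 n55449
theorem D120443 : act 7 n55449 = n120443 := rfl
theorem F191888 : act 2 n120443 = n55450 := d4_1 D120443 F191886 (iv2 D120439)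
def n120444 : Q := act 3 n55450
theorem D120444 : act 3 n55450 = n120444 := rfl
def n120445 : Q := act 4 n55450
theorem D120445 : act 4 n55450 = n120445 := rfl
theorem F191889 : act 3 n120445 = n70757 := d20_9 (iv4 F107227) F113732 (iv4 D75839) (iv3 D34675) (iv1 F54930) (iv3 F87804) (iv4 F191871) (iv1 F191873) D120445 (iv1 D70757)
def n120446 : Q := act 5 n55450
theorem D120446 : act 5 n55450 = n120446 := rfl
def n120447 : Q := act 6 n55450
theorem D120447 : act 6 n55450 = n120447 := rfl
def n120448 : Q := act 0 n55451
theorem D120448 : act 0 n55451 = n120448 := rfl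
def n120449 : Q := act 1 n55451
theorem D120449 : act 1 n55451 = n120449 := rfl
def n120450 : Q := act 4 n55451
theorem D120450 : act 4 n55451 = n120450 := rfl
def n120451 : Q := act 7 n55451
theorem D120451 : act 7 n55451 = n120451 := rfl
theorem F191890 : act 3 n120451 = n55472 := d8_1 D120451 (iv7 D55472) (iv3 F87748)
theorem F191891 : act 5 n120451 = n55452 := d13_1 D120451 (iv7 D55452) D55451
def n120452 : Q := act 0 n55453
theorem D120452 : act 0 n55453 = n120452 := rfl
theorem F191892 : act 5 n120452 = n56886 := d17_3 (iv1 D76809) (iv5 F87752) D120452 (iv4 F122987) (iv5 D80127) F86224 F86222 F116267 F116263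
theorem F191893 : act 3 n120452 = n76641 := d20_5 (iv4 F21940) F21941 D26784 D55453 D120452 (iv4 D76641) (iv1 F55637) D35037 F55649 (iv1 D27463)
theorem F191894 : act 1 n73058 = n120452 := d15_0 (iv0 D120452) F87753 (iv2 F109584)
theorem F191895 : act 7 n57277 = n120452 := d8_0 F191893 F114959 (iv3 F106731)
theorem F191896 : act 2 n120452 = n57282 := d15_3 F113277 (iv0 F108915) F191895
def n120453 : Q := act 1 n55453
theorem D120453 : act 1 n55453 = n120453 := rfl
theorem F191897 : act 1 n120453 = n73058 := d15_1 D120453 F109586 F108913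
theorem F191898 : act 7 n120453 = n57282 := d15_2 (iv0 D120452) D120453 (iv2 F191896)
theorem F191899 : act 5 n120453 = n56887 := d17_7 (iv1 F58634) F122972 (iv1 D41703) (iv5 F54649) (iv4 F55799) (iv5 F87752) D120453 F89926 F44346
theorem F191900 : act 2 n57277 = n120453 := d2_3 F191899 F125376 D57277
def n120454 : Q := act 6 n55453
theorem D120454 : act 6 n55453 = n120454 := rfl
theorem F191901 : act 3 n120454 = n55454 := d7_1 D120454 (iv6 D55454) D55453
def n120455 : Q := act 0 n55454
theorem D120455 : act 0 n55454 = n120455 := rfl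
def n120456 : Q := act 1 n55454
theorem D120456 : act 1 n55454 = n120456 := rfl
theorem F191902 : act 1 n120456 = n76831 := d15_1 D120456 (iv7 D76831) (iv2 F87754)
def n120457 : Q := act 5 n55454
theorem D120457 : act 5 n55454 = n120457 := rfl
theorem F191903 : act 2 n120457 = n76830 := d2_1 D120457 (iv5 D76830) (iv2 F87754)
theorem F191904 : act 6 n120457 = n76813 := d12_2 D55454 D120457 (iv5 D76813) (iv6 D35110) (iv5 F43075)
def n120458 : Q := act 7 n55454
theorem D120458 : act 7 n55454 = n120458 := rfl
theorem F191905 : act 2 n120458 = n76831 := d4_1 D120458 (iv7 D76831) (iv2 F87754)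
theorem F191906 : act 4 n120458 = n55458 := d11_1 D120458 (iv7 D55458) (iv4 F87755)
theorem F191907 : act 6 n120458 = n120309 := d14_1 D120458 (iv7 D120309) (iv6 D55365) (iv7 F43074) D55454
theorem F191908 : act 1 n76831 = n120455 := d15_0 (iv0 D120455) D120458 F191905
theorem F191909 : act 1 n76829 = n120458 := d15_1 D76829 (iv7 D120458) F87754
theorem F191910 : act 1 n120458 = n76828 := d15_0 (iv0 D76828) D76831 (iv2 F191905)
def n120459 : Q := act 2 n55455
theorem D120459 : act 2 n55455 = n120459 := rfl
theorem F191911 : act 7 n55456 = n120459 := d15_2 (iv0 D55455) D55456 (iv2 D120459)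
def n120460 : Q := act 3 n55455
theorem D120460 : act 3 n55455 = n120460 := rfl
def n120461 : Q := act 4 n55455
theorem D120461 : act 4 n55455 = n120461 := rfl
def n120462 : Q := act 5 n55455
theorem D120462 : act 5 n55455 = n120462 := rfl
def n120463 : Q := act 6 n55455
theorem D120463 : act 6 n55455 = n120463 := rfl
def n120464 : Q := act 7 n55455
theorem D120464 : act 7 n55455 = n120464 := rfl
theorem F191912 : act 2 n120464 = n55456 := d4_1 D120464 F191911 (iv2 D120459)
def n120465 : Q := act 3 n55456
theorem D120465 : act 3 n55456 = n120465 := rfl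
def n120466 : Q := act 4 n55456
theorem D120466 : act 4 n55456 = n120466 := rfl
def n120467 : Q := act 5 n55456
theorem D120467 : act 5 n55456 = n120467 := rfl
def n120468 : Q := act 6 n55456
theorem D120468 : act 6 n55456 = n120468 := rfl
def n120469 : Q := act 0 n55457
theorem D120469 : act 0 n55457 = n120469 := rfl
def n120470 : Q := act 1 n55457
theorem D120470 : act 1 n55457 = n120470 := rfl
def n120471 : Q := act 4 n55457
theorem D120471 : act 4 n55457 = n120471 := rfl
theorem F191913 : act 6 n120471 = n55471 := d10_2 (iv6 F87756) D120471 (iv4 D55471)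
def n120472 : Q := act 7 n55457
theorem D120472 : act 7 n55457 = n120472 := rfl
theorem F191914 : act 5 n120472 = n55458 := d13_1 D120472 (iv7 D55458) D55457
def n120473 : Q := act 0 n55460
theorem D120473 : act 0 n55460 = n120473 := rfl
def n120474 : Q := act 1 n55460
theorem D120474 : act 1 n55460 = n120474 := rfl
def n120475 : Q := act 2 n55460
theorem D120475 : act 2 n55460 = n120475 := rfl
def n120476 : Q := act 5 n55460
theorem D120476 : act 5 n55460 = n120476 := rfl
theorem F191915 : act 3 n120476 = n55462 := d6_1 D120476 (iv5 D55462) D55460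
def n120477 : Q := act 6 n55460
theorem D120477 : act 6 n55460 = n120477 := rfl
theorem F191916 : act 3 n120477 = n55463 := d7_1 D120477 (iv6 D55463) D55460
def n120478 : Q := act 0 n55462
theorem D120478 : act 0 n55462 = n120478 := rfl
theorem F191917 : act 5 n120478 = n57539 := d17_3 D26786 D55462 D120478 F90687 (iv5 F87783) (iv0 D55492) (iv5 D26793) (iv0 D12815) (iv4 F21269)
theorem F191919 : act 1 n55467 = n120478 := d15_0 (iv0 D120478) (iv7 F191584) F191583
def n120479 : Q := act 4 n55462
theorem D120479 : act 4 n55462 = n120479 := rfl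
theorem F191920 : act 5 n120479 = n57769 := d16_1 D120479 (iv4 D57769) D57770 (iv4 F115855) F115856 F91465 D55467 (iv7 F191575) F191574
def n120480 : Q := act 6 n55462
theorem D120480 : act 6 n55462 = n120480 := rfl
def n120481 : Q := act 1 n55463
theorem D120481 : act 1 n55463 = n120481 := rfl
theorem F191921 : act 7 n120481 = n56808 := d15_2 (iv0 F191782) D120481 (iv2 F191780)
theorem F191922 : act 4 n55498 = n120481 := d20_6 F125651 F125652 F113888 F54966 (iv1 F43212) (iv3 F121155) (iv1 D120481) (iv4 F116230) (iv3 F133767) F133768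
theorem F191923 : act 6 n81807 = n120481 := d21_3 D27535 D57635 F125737 (iv1 D120481) (iv6 D55463) D55462 D120478 F191917 (iv6 D57539) F120819
def n120482 : Q := act 5 n55463
theorem D120482 : act 5 n55463 = n120482 := rfl
theorem F191924 : act 2 n120482 = n57790 := d2_1 D120482 (iv5 F191579) F191577
theorem F191925 : act 0 n120482 = n56891 := d17_2 (iv1 D120481) D120482 (iv5 D56891) F44184 D27312 (iv0 F87789) (iv5 D55499) D55498 F191922
theorem F191926 : act 1 n120482 = n57778 := d17_6 F125965 (iv5 F119180) F148243 F148241 F116230 D120482 (iv5 D57778) F89935 (iv4 F89937)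
def n120483 : Q := act 7 n55463
theorem D120483 : act 7 n55463 = n120483 := rfl
def n120484 : Q := act 0 n55465
theorem D120484 : act 0 n55465 = n120484 := rfl
def n120485 : Q := act 1 n55465
theorem D120485 : act 1 n55465 = n120485 := rfl
def n120486 : Q := act 2 n55465
theorem D120486 : act 2 n55465 = n120486 := rfl
def n120487 : Q := act 4 n55465
theorem D120487 : act 4 n55465 = n120487 := rfl
theorem F191927 : act 3 n120487 = n80415 := d5_1 D120487 (iv4 D80415) (iv3 F91464) F91465 D55465
theorem F191928 : act 7 n120487 = n80440 := d11_2 F191573 D120487 (iv4 F191572)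
def n120488 : Q := act 5 n55465
theorem D120488 : act 5 n55465 = n120488 := rfl
theorem F191929 : act 3 n120488 = n55467 := d6_1 D120488 (iv5 D55467) D55465
def n120489 : Q := act 6 n55465
theorem D120489 : act 6 n55465 = n120489 := rfl
theorem F191930 : act 3 n120489 = n55468 := d7_1 D120489 (iv6 D55468) D55465
def n120490 : Q := act 4 n55467
theorem D120490 : act 4 n55467 = n120490 := rfl
theorem F191931 : act 5 n120490 = n57764 := d9_2 D55467 D120490 (iv4 D57764) D57765 (iv4 F116229) (iv5 D77418) F91405 D55462 D120479 F191920 (iv4 D57769) D57770 (iv4 F115855) F115856 F91465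
def n120491 : Q := act 6 n55467
theorem D120491 : act 6 n55467 = n120491 := rfl
def n120492 : Q := act 1 n55468
theorem D120492 : act 1 n55468 = n120492 := rfl
def n120493 : Q := act 5 n55468
theorem D120493 : act 5 n55468 = n120493 := rfl
theorem F191932 : act 2 n120493 = n84551 := d2_1 D120493 F191587 F191586
theorem F191933 : act 1 n120493 = n57404 := d17_6 D55341 D120261 F191475 F123183 F116231 D120493 (iv5 D57404) F121192 (iv4 F42966)
theorem F191934 : act 7 n84552 = n120493 := d15_2 (iv0 D84551) D84552 F191932
def n120494 : Q := act 7 n55468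
theorem D120494 : act 7 n55468 = n120494 := rfl
theorem F191935 : act 5 n120494 = n84552 := d13_1 D120494 F191934 (iv5 D120493)
def n120495 : Q := act 3 n55469
theorem D120495 : act 3 n55469 = n120495 := rfl
def n120496 : Q := act 4 n55469
theorem D120496 : act 4 n55469 = n120496 := rfl
theorem F191936 : act 5 n120496 = n57756 := d16_1 D120496 (iv4 D57756) (iv5 D27573) D27572 D57754 F90937 F90383 (iv7 F191590) (iv2 F191589)
def n120497 : Q := act 6 n55469
theorem D120497 : act 6 n55469 = n120497 := rfl
def n120498 : Q := act 3 n55470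
theorem D120498 : act 3 n55470 = n120498 := rfl
def n120499 : Q := act 4 n55470
theorem D120499 : act 4 n55470 = n120499 := rfl
theorem F191937 : act 5 n120499 = n57742 := d9_2 F90383 D120499 (iv4 D57742) (iv5 D27568) D27567 D57738 (iv4 F90931) (iv5 F91466) D120496 F191936 (iv4 D57756) (iv5 D27573) D27572 D57754 F90937
def n120500 : Q := act 6 n55470
theorem D120500 : act 6 n55470 = n120500 := rfl
def n120501 : Q := act 0 n55471
theorem D120501 : act 0 n55471 = n120501 := rfl
theorem F191938 : act 4 n120501 = n57837 := d18_3 (iv1 D55470) D55471 D120501 (iv5 D57837) (iv4 D27604) F120573 (iv4 F60201) F120564 F90383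
theorem F191939 : act 5 n57858 = n120501 := d16_1 D57858 F191938 (iv5 D57837) (iv4 D27604) (iv5 D13185) D13184 D27599 (iv7 F90497) F90496
def n120502 : Q := act 1 n55471
theorem D120502 : act 1 n55471 = n120502 := rfl
theorem F191941 : act 1 n120502 = n57775 := d15_1 D120502 F191594 F191592
theorem F191942 : act 4 n57865 = n120502 := d18_5 (iv1 F90991) (iv4 D57829) (iv1 F44506) D27620 D57865 F191941 (iv4 F191596) F191599 F91466
theorem F191943 : act 5 n120502 = n57822 := d9_2 D57865 F191942 (iv4 D57822) (iv5 D27599) (iv4 D13184) D13185 D27604 D57837 (iv4 F191938) (iv5 F191939) (iv4 D57858) (iv5 D27618) (iv4 D13189) D13190 D27620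
def n120503 : Q := act 3 n55471
theorem D120503 : act 3 n55471 = n120503 := rfl
def n120504 : Q := act 5 n55471
theorem D120504 : act 5 n55471 = n120504 := rfl
theorem F191944 : act 2 n120504 = n57776 := d2_1 D120504 (iv5 F191593) F191592
theorem F191945 : act 4 n120504 = n57308 := d9_1 D120504 F90388 F44356 (iv5 F42988) (iv4 F87632) (iv5 F191597) F191596 (iv5 D57775) (iv4 D27577) (iv5 D13179) F9757 (iv5 F9419) (iv4 F21269) D26788 D55471
theorem F191946 : act 7 n120504 = n57307 := d16_8 (iv4 D27577) (iv5 D13179) F9757 (iv5 F9419) (iv4 F21269) D26788 D55471 D120504 F90386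
theorem F191947 : act 1 n57773 = n120504 := d15_1 D57773 F191946 F90386
theorem F191948 : act 1 n120504 = n57772 := d15_0 (iv0 D57772) D57776 (iv2 F191944)
def n120505 : Q := act 7 n55471
theorem D120505 : act 7 n55471 = n120505 := rfl
theorem F191950 : act 4 n120505 = n55472 := d11_1 D120505 (iv7 D55472) D55471
theorem F191951 : act 5 n120505 = n57307 := d13_1 D120505 (iv7 F191946) (iv5 D120504)
def n120506 : Q := act 6 n55472
theorem D120506 : act 6 n55472 = n120506 := rfl
def n120507 : Q := act 3 n55482
theorem D120507 : act 3 n55482 = n120507 := rfl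
theorem F191952 : act 4 n120507 = n55488 := d5_2 D55482 D120507 (iv3 D55488) (iv4 D26792) D26791
def n120509 : Q := act 4 n55483
theorem D120509 : act 4 n55483 = n120509 := rfl
theorem F191958 : act 5 n120509 = n86465 := d17_5 (iv1 D44571) F33438 (iv1 F116642) D55483 D120509 (iv0 D86465) (iv5 D40050) D40049 (iv4 F116686)
theorem F191959 : act 1 n120509 = n86421 := d18_6 (iv1 D35275) (iv4 F55998) F87772 (iv4 D55482) D55483 D120509 F132486 F118527 F57570
def n120510 : Q := act 6 n55483
theorem D120510 : act 6 n55483 = n120510 := rfl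
theorem F191960 : act 2 n120510 = n87331 := d3_1 D120510 (iv6 F149093) F149089
theorem F191961 : act 3 n120510 = n55495 := d7_1 D120510 (iv6 D55495) (iv3 F87775)
theorem F191962 : act 5 n120510 = n84822 := d12_1 D120510 F148925 (iv5 F148923) (iv6 D55484) D55483
theorem F191963 : act 7 n120510 = n81607 := d14_2 (iv7 F115456) D120510 (iv6 D81607) F117085 D76856
theorem F191965 : act 0 n120510 = n56926 := d21_10 F121490 F121491 F63580 (iv6 D19831) (iv1 F15961) D21201 F33438 (iv1 F116642) D55483 D120510
theorem F191966 : act 1 n120510 = n87332 := d15_1 (iv0 F191965) (iv7 D87332) F121487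
def n120511 : Q := act 0 n55484
theorem D120511 : act 0 n55484 = n120511 := rfl
def n120512 : Q := act 1 n55484
theorem D120512 : act 1 n55484 = n120512 := rfl
theorem F191968 : act 6 n87332 = n120512 := d21_3 (iv5 F63580) F132775 (iv5 F134088) (iv1 D120512) (iv6 D55484) D55483 F131308 (iv5 D85633) F116821 (iv1 F120717)
theorem F191969 : act 7 n120512 = n56931 := d14_2 D87332 F191968 (iv6 D56931) F121286 D40580
theorem F191970 : act 2 n76022 = n120512 := d4_3 F191969 (iv2 F121481) F116912
theorem E19862 : n81783 = n55484 := (c15_1 D81783 D120512 F191969 (iv2 F121481))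
theorem E19863 : n120511 = n37394 := ((D120511).symm.trans (sb E19862 (iv1 D81783)))
theorem F191971 : act 1 n37394 = n55484 := (sb E19863 (iv0 D120511))
def n120513 : Q := act 7 n55484
theorem D120513 : act 7 n55484 = n120513 := rfl
theorem F191973 : act 3 n120513 = n55500 := d8_1 D120513 (iv7 D55500) (iv3 F87776)
theorem F191974 : act 5 n120513 = n57909 := d13_1 D120513 F148926 (iv5 F148923)
theorem F191975 : act 6 n120513 = n87512 := d14_1 D120513 F149113 (iv6 D96713) F116679 D55484
theorem F191976 : act 1 n76022 = n120513 := d15_1 F149105 (iv7 D120513) (iv2 F149095)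
theorem F191977 : act 1 n120513 = n56931 := d15_1 F191976 (iv7 F191969) (iv2 F191970)
def n120514 : Q := act 3 n55486
theorem D120514 : act 3 n55486 = n120514 := rfl
theorem F191978 : act 4 n120514 = n77437 := d5_2 (iv4 F91213) D120514 F116247 F56070 (iv3 F56064)
theorem F191979 : act 7 n120514 = n56966 := d8_2 (iv7 F91214) D120514 F90048
theorem F191980 : act 4 n120440 = n83506 := d20_6 (iv4 D26797) (iv1 D12816) (iv4 F21269) (iv3 F43071) D55449 D120440 (iv1 F128619) (iv4 F191978) (iv3 D120514) (iv1 F87782)
theorem F191981 : act 3 n55526 = n100418 := d20_3 F191871 (iv1 F87806) D55526 (iv1 D100418) (iv3 F128611) F128612 D83506 (iv4 F191980) (iv3 D120440) (iv1 F191874)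
def n120515 : Q := act 5 n55486
theorem D120515 : act 5 n55486 = n120515 := rfl
theorem F191982 : act 7 n120515 = n56970 := d13_2 (iv7 F91214) D120515 (iv5 D56970)
def n120522 : Q := act 1 n55489
theorem D120522 : act 1 n55489 = n120522 := rfl
theorem F191989 : act 1 n120522 = n55508 := d15_1 D120522 (iv7 F191611) F191610
theorem F191990 : act 5 n120522 = n57825 := d17_7 F120567 F29993 (iv1 F120576) (iv5 D26793) D26792 D55489 D120522 F90981 (iv4 D57316)
def n120523 : Q := act 4 n55489
theorem D120523 : act 4 n55489 = n120523 := rfl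
theorem F191991 : act 5 n120523 = n57773 := d17_5 (iv1 F191636) (iv5 D120329) F91215 D55489 D120523 F191947 (iv5 D120504) D120502 (iv4 F191942)
def n120524 : Q := act 6 n55489
theorem D120524 : act 6 n55489 = n120524 := rfl
def n120526 : Q := act 5 n55490
theorem D120526 : act 5 n55490 = n120526 := rfl
theorem F191993 : act 0 n120526 = n57349 := d21_7 D13153 (iv1 F44386) F44388 D55379 F91215 D55490 D120526 (iv5 D57349) (iv6 D27454) (iv1 F21923)
def n120527 : Q := act 7 n55490
theorem D120527 : act 7 n55490 = n120527 := rfl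
theorem F191994 : act 4 n120527 = n55500 := d11_1 D120527 (iv7 D55500) (iv4 F87779)
theorem F191995 : act 0 n57006 = n120527 := d18_2 F133152 F123523 F191994 F115444 D57910 (iv0 F191505) F191503 F148245 F148241
def n120528 : Q := act 4 n55492
theorem D120528 : act 4 n55492 = n120528 := rfl
theorem F191996 : act 2 n120528 = n76052 := d1_1 D120528 (iv4 D76052) (iv2 F120582)
theorem F191997 : act 7 n120528 = n57173 := d11_2 (iv7 F90610) D120528 F90196
theorem F191998 : act 0 n120528 = n57770 := d17_0 (iv5 D57770) (iv1 D27576) (iv5 D13179) F9757 (iv5 F9419) D12816 D26798 F87788 D120528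
theorem F191999 : act 1 n120528 = n57765 := d18_6 (iv1 F133148) F90915 (iv1 F91121) F90687 (iv5 F87783) D120528 (iv4 F116229) F133150 (iv5 F133143)
def n120529 : Q := act 0 n55494
theorem D120529 : act 0 n55494 = n120529 := rfl
theorem F192000 : act 1 n55510 = n120529 := d15_0 (iv0 D120529) F115459 (iv2 F115460)
def n120530 : Q := act 1 n55494
theorem D120530 : act 1 n55494 = n120530 := rfl
theorem F192001 : act 1 n120530 = n55510 := d15_1 D120530 (iv7 F191616) F191614
def n120531 : Q := act 3 n55494
theorem D120531 : act 3 n55494 = n120531 := rfl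
def n120532 : Q := act 5 n55494
theorem D120532 : act 5 n55494 = n120532 := rfl
theorem F192002 : act 1 n120532 = n57355 := d17_6 (iv1 D6270) (iv5 F9419) D12815 D26793 D55494 D120532 (iv5 D57355) (iv0 F91147) (iv4 D13189)
theorem F192003 : act 4 n120532 = n57772 := d18_5 F120887 F58600 (iv1 F120576) D55494 D120532 (iv0 D57772) (iv4 D27577) D27576 D57770
theorem F192004 : act 1 n57808 = n120532 := d17_8 (iv1 F191948) (iv5 D120504) D120501 (iv5 F191939) (iv4 D57858) (iv5 D27618) F44499 D57808 F192003
def n120533 : Q := act 6 n55494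
theorem D120533 : act 6 n55494 = n120533 := rfl
theorem F192005 : act 2 n120533 = n81815 := d3_1 D120533 (iv6 F191615) F191614
theorem F192006 : act 4 n120533 = n55495 := d10_1 D120533 (iv6 D55495) D55494
theorem F192007 : act 7 n120533 = n81813 := d14_2 (iv7 F115459) D120533 F125758 F115417 D76861
theorem F192008 : act 0 n120533 = n57001 := d21_4 D57355 (iv1 F192002) (iv5 D120532) D120533 (iv6 D57001) D57000 (iv1 F91145) (iv5 D57862) (iv6 D27619) F91147
theorem F192009 : act 0 n77227 = n80322 := d20_1 (iv4 F115994) F128447 (iv3 F134087) (iv1 F191966) F191961 (iv4 F192006) F192008 (iv4 F123027) F123026 F91557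
theorem F192010 : act 1 n76874 = n57001 := d15_0 (iv0 F192008) F192007 F125757
theorem E19864 : n83342 = n56142 := (c18_6 F91557 (iv4 F115994) F192009 F128447 (iv5 D83343) D83342 (iv0 D56142) (iv4 D27062) D27061 (iv5 F57335))
theorem F192011 : act 4 n56142 = n38397 := (sb E19864 (iv4 D83342))
def n120534 : Q := act 4 n55499
theorem D120534 : act 4 n55499 = n120534 := rfl
theorem F192012 : act 2 n120534 = n57914 := d1_1 D120534 (iv4 D57914) (iv2 F115441)
theorem F192014 : act 7 n120534 = n57910 := d11_2 (iv7 F115442) D120534 (iv4 D57910)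
theorem F192015 : act 0 n120534 = n77966 := d18_2 F87790 D120534 F119178 F56254 (iv4 F44372) (iv0 F126183) (iv4 D56900) F44185 D27624
def n120535 : Q := act 0 n55506
theorem D120535 : act 0 n55506 = n120535 := rfl
theorem F192016 : act 2 n76110 = n120535 := d15_3 (iv0 D120535) F126509 F117547
theorem F192017 : act 7 n120535 = n57066 := d4_2 F117547 F192016 F120985
theorem F192018 : act 4 n80796 = n120535 := d11_3 F192017 F120983 D80796
theorem F192019 : act 1 n82091 = n120535 := d15_1 D82091 F192017 F120985
def n120536 : Q := act 5 n55506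
theorem D120536 : act 5 n55506 = n120536 := rfl
theorem F192020 : act 3 n120536 = n55513 := d6_1 D120536 (iv5 D55513) (iv3 F87794)
theorem F192021 : act 6 n120536 = n81962 := d12_2 D55506 D120536 (iv5 D81962) F117348 (iv5 D55505)
theorem F192022 : act 0 n57996 = n120536 := d21_1 D57996 (iv5 D120536) (iv6 D55506) (iv1 F117298) (iv6 D27019) (iv5 D12944) F13894 D19047 D40296 F121060
theorem F192023 : act 0 n120536 = n83123 := d21_10 (iv5 D83123) (iv1 F121061) (iv5 F122927) (iv6 D80106) (iv1 F57296) (iv6 F58427) (iv5 D37537) D37535 D81962 (iv6 F192021)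
theorem F192024 : act 7 n84557 = n120536 := d8_0 F192020 (iv7 F121558) D84557
def n120537 : Q := act 7 n55506
theorem D120537 : act 7 n55506 = n120537 := rfl
theorem F192025 : act 2 n120537 = n82091 := d4_1 D120537 (iv7 F126508) F117610
theorem F192026 : act 3 n120537 = n55514 := d8_1 D120537 (iv7 D55514) (iv3 F87794)
theorem F192027 : act 5 n120537 = n84557 := d13_1 D120537 F192024 (iv5 D120536)
def n120539 : Q := act 1 n55507
theorem D120539 : act 1 n55507 = n120539 := rfl
def n120540 : Q := act 2 n55507
theorem D120540 : act 2 n55507 = n120540 := rfl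
def n120541 : Q := act 5 n55507
theorem D120541 : act 5 n55507 = n120541 := rfl
theorem F192028 : act 3 n120541 = n55508 := d6_1 D120541 (iv5 D55508) D55507
def n120543 : Q := act 4 n55508
theorem D120543 : act 4 n55508 = n120543 := rfl
theorem F192030 : act 5 n120543 = n57772 := d16_1 D120543 (iv4 F192003) (iv5 D120532) (iv4 D55494) (iv5 D26793) D26792 D55489 (iv7 F191631) F191630
def n120544 : Q := act 6 n55508
theorem D120544 : act 6 n55508 = n120544 := rfl
def n120548 : Q := act 7 n55509
theorem D120548 : act 7 n55509 = n120548 := rfl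
theorem F192033 : act 4 n120548 = n55514 := d11_1 D120548 (iv7 D55514) (iv4 F87795)
theorem F192034 : act 1 n57127 = n120548 := d17_8 F120660 (iv5 F120661) (iv1 D27480) (iv5 D13147) (iv4 F21925) D27467 D57385 (iv5 F90565) F192033
theorem F192035 : act 1 n120328 = n57127 := d15_0 F192034 (iv7 D120548) (iv2 F191632)
def n120550 : Q := act 5 n55510
theorem D120550 : act 5 n55510 = n120550 := rfl
theorem F192036 : act 4 n120550 = n57773 := d9_1 D120550 (iv5 F191991) (iv4 D120523) (iv5 D55489) (iv4 D26792) D26793 D55494 D120532 F192003 (iv5 F192030) (iv4 D120543) (iv5 D55508) (iv4 D26797) D26798 D55510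
theorem F192038 : act 0 n120550 = n57355 := d21_7 D13143 D27462 F44381 D36534 (iv1 F115465) F115338 D120550 (iv5 D57355) (iv6 D27456) (iv1 D13141)
def n120551 : Q := act 4 n55513
theorem D120551 : act 4 n55513 = n120551 := rfl
theorem F192040 : act 7 n120551 = n84558 := d11_2 F121558 D120551 (iv4 D84558)
def n120552 : Q := act 2 n55515
theorem D120552 : act 2 n55515 = n120552 := rfl
theorem F192041 : act 6 n120552 = n69263 := d3_2 (iv6 F87797) D120552 F105532
theorem F192042 : act 7 n55516 = n120552 := d15_2 (iv0 D55515) D55516 (iv2 D120552)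
theorem F192043 : act 7 n69262 = n118595 := d14_4 F192042 F192041 (iv7 D69263) D69262 (iv6 F191094)
theorem F192044 : act 7 n119818 = n73003 := d8_2 F192043 (iv3 F191093) F130789
theorem F192045 : act 2 n118595 = n55528 := d15_3 F190712 (iv0 F105531) F192043
theorem F192046 : act 2 n69262 = n118596 := d15_3 (iv0 F191087) F191088 (iv7 F192043)
theorem F192047 : act 2 n73004 = n119818 := d2_3 (iv5 F190698) F192046 F191085
theorem E19865 : n69244 = n69102 := ((c3_3 D69262 F192046 (iv6 F191084) F105516)).symm
theorem F192048 : act 2 n69102 = n32200 := (sb E19865 F105516)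
theorem E19866 : n32197 = n32147 := ((((iv5 D69102)).symm.trans (sb E19865 (iv5 D69244)))).symm
theorem F192049 : act 7 n69102 = n32205 := (sb E19865 F105517)
theorem E19867 : n69240 = n15194 := ((((iv1 F51106)).symm.trans (sb E19866 D69240))).symm
theorem E19869 : n69099 = n15192 := ((D69099).symm.trans (sb E19866 (iv2 D32197)))
theorem E19870 : n69242 = n69100 := (((D69100).symm.trans (sb E19866 D69242))).symm
theorem E19871 : n69243 = n69101 := (((D69101).symm.trans (sb E19866 D69243))).symm
theorem E19872 : n69245 = n69103 := (((D69103).symm.trans (sb E19866 D69245))).symm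
theorem E19873 : n69104 = n15193 := ((D69104).symm.trans (sb E19866 (iv7 F51143)))
theorem E19874 : n32202 = n32148 := ((((iv1 F51103)).symm.trans (sb E19867 (iv1 F105511)))).symm
theorem F192050 : act 2 n15192 = n32147 := (sb E19869 (iv2 D69099))
theorem F192051 : act 7 n69100 = n32203 := (sb E19870 F105513)
theorem F192052 : act 2 n69101 = n32199 := (sb E19871 F105514)
theorem F192053 : act 7 n69101 = n32204 := (sb E19871 F105515)
theorem F192054 : act 2 n69103 = n32201 := (sb E19872 F105518)
theorem F192055 : act 7 n15193 = n32147 := (sb E19873 (iv7 D69104))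
theorem F192056 : act 2 n32148 = n15193 := (sb E19874 F51144)
theorem E19875 : n69252 = n69105 := (((D69105).symm.trans (sb E19874 (iv3 F105523)))).symm
theorem E19876 : n69258 = n69106 := (((D69106).symm.trans (sb E19874 (iv4 F105527)))).symm
theorem E19877 : n69263 = n55523 := ((((iv5 F87809)).symm.trans (sb E19874 (iv5 F105533)))).symm
theorem E19878 : n69268 = n69107 := (((D69107).symm.trans (sb E19874 D69268))).symm
theorem F192057 : act 7 n32148 = n15192 := (sb E19874 (iv7 D32202))
theorem F192058 : act 7 n69105 = n32198 := (sb E19875 (iv7 D69252))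
theorem F192059 : act 2 n69106 = n32204 := (sb E19876 F105526)
theorem F192060 : act 7 n69106 = n32199 := (sb E19876 (iv7 D69258))
theorem F192061 : act 2 n55523 = n32205 := (sb E19877 F105532)
theorem E19879 : n120552 = n26801 := ((((iv6 D55523)).symm.trans (sb E19877 (iv6 F192041)))).symm
theorem F192062 : act 7 n55523 = n32200 := (sb E19877 (iv7 D69263))
theorem F192063 : act 2 n69107 = n32206 := (sb E19878 F105536)
theorem E19880 : n55519 = n55515 := ((D55519).symm.trans (sb E19879 (iv2 D120552)))
theorem E19881 : n55524 = n55516 := ((D55524).symm.trans (sb E19879 (iv7 F192042)))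
theorem F192064 : act 2 n55515 = n26801 := (sb E19880 (iv2 D55519))
theorem F192065 : act 7 n55515 = n26802 := (sb E19880 (iv7 F87808))
theorem F192066 : act 2 n55516 = n26802 := (sb E19881 F87810)
theorem F192067 : act 7 n55516 = n26801 := (sb E19881 (iv7 D55524))
theorem F192068 : act 7 n118596 = n55528 := d4_2 (iv7 F192043) F192046 (iv2 F192045)
theorem F192069 : act 7 n119819 = n73004 := d13_2 F192068 (iv5 F190704) (iv5 F191085)
theorem F192070 : act 2 n73003 = n119819 := d4_3 F192069 F192047 F192044
theorem F192071 : act 7 n55520 = n69266 := d8_2 F192067 D55520 (iv3 F130790)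
theorem F192072 : act 7 n55522 = n69251 := d13_2 F192067 D55522 F130787
theorem F192073 : act 3 n69267 = n55522 := d8_3 F192072 F105522 D69267
theorem F192074 : act 5 n55520 = n69267 := d6_0 F192073 (iv5 D55522) D55520
theorem F192075 : act 2 n55520 = n72378 := d15_3 (iv0 D72378) (iv0 F105535) (iv7 F192071)
theorem F192076 : act 2 n55527 = n69251 := d2_3 F130787 F192066 D55527
theorem F192077 : act 6 n69248 = n55527 := d3_0 F192076 (iv6 D69251) D69248
theorem F192078 : act 0 n68975 = n69248 := d21_4 (iv5 D15162) (iv1 F24754) D32086 D68975 F192077 (iv5 D55527) (iv1 D26802) D26803 F43084 (iv1 F50989)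
theorem F192079 : act 1 n68975 = n69105 := d15_1 (iv0 F192078) F192058 D69248
theorem F192080 : act 7 n55525 = n101071 := d8_2 F192065 D55525 F155743
theorem E19882 : n101074 = n70640 := (c11_3 F192080 (iv4 D101071) D101074 F155410)
theorem F192081 : act 2 n70640 = n47085 := (sb E19882 F155746)
theorem F192082 : act 7 n70640 = n47084 := (sb E19882 (iv7 D101074))
theorem E19883 : n101069 = n70639 := (c15_4 (iv0 D70639) D70640 F192082 D101069)
theorem F192083 : act 2 n70639 = n47084 := (sb E19883 (iv2 D101069))
theorem F192084 : act 7 n70639 = n47085 := (sb E19883 (iv7 F155742))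
theorem F192085 : act 2 n101076 = n55525 := d1_3 (iv4 F155410) F192081 D101076
theorem F192086 : act 2 n69266 = n72329 := d0_5 (iv3 F155747) F192085 (iv3 D55525) (iv2 F192066) F130790
theorem F192087 : act 7 n72329 = n72378 := d4_2 F192071 F192086 (iv2 F192075)
theorem E19884 : n72328 = n55520 := (c15_2 F108872 F108873 F192071 F192086)
theorem F192088 : act 0 n55520 = n72379 := (sb E19884 (iv1 F108873))
theorem F192089 : act 1 n55520 = n33382 := (sb E19884 (iv0 D72328))
theorem F192090 : act 7 n69249 = n59929 := d11_2 F192058 D69249 (iv4 F105403)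
theorem F192091 : act 2 n69249 = n59928 := d15_3 (iv0 D59928) D59929 (iv7 F192090)
theorem F192092 : act 4 n59928 = n69248 := d1_2 D69249 F192091 (iv2 D69248)
def n120553 : Q := act 4 n55515
theorem D120553 : act 4 n55515 = n120553 := rfl
theorem F192093 : act 2 n120553 = n55521 := d1_1 D120553 (iv4 D55521) (iv2 F192064)
theorem F192094 : act 6 n120553 = n69278 := d10_2 (iv6 F87797) D120553 (iv4 D69278)
theorem F192095 : act 7 n120553 = n55526 := d11_2 (iv7 F192065) D120553 (iv4 D55526)
def n120554 : Q := act 5 n55515
theorem D120554 : act 5 n55515 = n120554 := rfl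
theorem F192096 : act 2 n120554 = n55522 := d2_1 D120554 (iv5 D55522) (iv2 F192064)
theorem F192097 : act 6 n120554 = n69281 := d12_2 (iv6 F87797) D120554 (iv5 D69281) (iv6 D32206) D32205
theorem F192098 : act 7 n120554 = n55527 := d13_2 (iv7 F192065) D120554 (iv5 D55527)
theorem F192099 : act 0 n120554 = n72927 := d21_1 D120554 (iv5 D72927) (iv6 D33617) (iv1 D16252) (iv6 D7570) F25818 D7735 (iv5 F21274) D26800 D55515
theorem F192100 : act 0 n69281 = n69014 := d21_10 (iv5 D69014) (iv1 D32101) (iv5 F51010) (iv6 D32080) (iv1 F50749) (iv6 F87802) (iv5 D55517) D55515 D120554 F192097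
def n120555 : Q := act 4 n55516
theorem D120555 : act 4 n55516 = n120555 := rfl
theorem F192101 : act 2 n120555 = n55526 := d1_1 D120555 (iv4 D55526) (iv2 F192066)
theorem F192102 : act 7 n120555 = n55521 := d11_2 (iv7 F192067) D120555 (iv4 D55521)
theorem F192103 : act 0 n120555 = n70375 := d20_1 D120555 F106861 F51753 F130801 (iv3 D16824) (iv4 D7848) (iv1 F9429) (iv4 F21284) (iv3 F43085) (iv1 F87799)
theorem F192104 : act 1 n120555 = n72439 := d15_1 (iv0 F192103) (iv7 D72439) (iv2 F106860)
theorem F192105 : act 1 n120553 = n70375 := d15_0 (iv0 F192103) F192102 (iv2 F192093)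
theorem F192106 : act 1 n72439 = n120553 := d15_1 F192104 F192095 (iv2 F192101)
def n120556 : Q := act 0 n55517
theorem D120556 : act 0 n55517 = n120556 := rfl
theorem F192107 : act 5 n120556 = n85796 := d21_2 D55517 D120556 (iv6 F190812) F190867 (iv6 D33642) D33641 D73003 (iv5 F191092) (iv6 F191094) (iv1 D55516)
theorem F192108 : act 2 n55529 = n120556 := d15_3 (iv0 D120556) (iv0 F92211) F190703
theorem F192109 : act 7 n120556 = n55530 := d4_2 F190703 F192108 (iv2 F190863)
theorem F192110 : act 1 n55532 = n120556 := d15_1 (iv0 F92212) F192109 (iv2 F190863)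
def n120557 : Q := act 4 n55517
theorem D120557 : act 4 n55517 = n120557 := rfl
theorem F192111 : act 2 n120557 = n55531 := d1_1 D120557 (iv4 D55531) (iv2 F87800)
theorem F192112 : act 6 n120557 = n59859 := d10_2 (iv6 F87802) D120557 F94311
def n120558 : Q := act 7 n55517
theorem D120558 : act 7 n55517 = n120558 := rfl
theorem F192113 : act 2 n120558 = n55532 := d4_1 D120558 (iv7 D55532) (iv2 F87800)
theorem F192114 : act 3 n120558 = n68873 := d8_1 D120558 (iv7 D68873) (iv3 F87801)
theorem F192115 : act 5 n120558 = n55518 := d13_1 D120558 (iv7 D55518) D55517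
theorem F192116 : act 1 n55530 = n120558 := d15_1 D55530 (iv7 D120558) F87800
theorem F192117 : act 1 n120558 = n55529 := d15_1 F192116 (iv7 F190703) F190863
def n120559 : Q := act 4 n55520
theorem D120559 : act 4 n55520 = n120559 := rfl
theorem F192118 : act 7 n120559 = n69766 := d11_2 (iv7 F192071) D120559 (iv4 F130791)
theorem F192119 : act 0 n120559 = n69768 := d20_1 D120559 F106181 F51447 (iv1 F30440) D26842 (iv4 F87937) F130795 F52022 (iv3 F52623) (iv1 F192089)
theorem F192120 : act 0 n69759 = n120559 := d20_1 (iv4 F106168) (iv4 D120559) (iv3 D55520) (iv1 F87807) F87804 (iv4 F113449) (iv1 F113451) D75607 (iv3 F113460) (iv1 D69761)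
theorem F192121 : act 2 n120559 = n69765 := d15_3 (iv0 D69765) D69766 (iv7 F192118)
theorem F192122 : act 4 n69765 = n72378 := d1_2 D120559 F192121 (iv2 F192075)
def n120560 : Q := act 6 n55520
theorem D120560 : act 6 n55520 = n120560 := rfl
theorem F192123 : act 3 n120560 = n55523 := d7_1 D120560 (iv6 D55523) D55520
theorem F192124 : act 7 n120560 = n69250 := d14_2 (iv7 F192071) D120560 F130788 (iv7 F192044) F190713
theorem F192125 : act 5 n120560 = n69105 := d21_6 (iv5 F27165) (iv1 F26486) F26488 D33382 (iv1 F192089) D120560 (iv1 F192079) F105175 (iv6 D33407) (iv1 F27183)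
def n120561 : Q := act 0 n55521
theorem D120561 : act 0 n55521 = n120561 := rfl
theorem F192126 : act 4 n120561 = n70378 := d20_2 D55521 D120561 F106862 F130802 (iv3 D26842) (iv4 D12833) (iv1 D6066) (iv4 F9423) (iv3 F21279) D26801
theorem F192127 : act 1 n55526 = n120561 := d15_0 (iv0 D120561) (iv7 F192102) F192101
theorem F192128 : act 6 n72434 = n120561 := d10_0 F192126 (iv6 F107377) (iv4 F108943)
theorem F192129 : act 7 n70375 = n120561 := d11_0 F192126 (iv7 D70378) (iv4 F106861)
theorem F192130 : act 2 n120561 = n72439 := d4_1 F192129 (iv7 D72439) (iv2 F106860)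
theorem E19885 : n72437 = n55526 := (c15_1 D72437 F192127 (iv7 F192129) F106860)
theorem F192131 : act 0 n55526 = n33441 := (sb E19885 (iv1 D72437))
theorem E19886 : n72436 = n55521 := ((c15_4 (iv0 D72436) (iv0 F192131) (iv7 F192095) F192093)).symm
theorem F192132 : act 1 n55521 = n33441 := (sb E19886 (iv0 D72436))
def n120562 : Q := act 3 n55521
theorem D120562 : act 3 n55521 = n120562 := rfl
def n120563 : Q := act 5 n55521
theorem D120563 : act 5 n55521 = n120563 := rfl
def n120564 : Q := act 6 n55521
theorem D120564 : act 6 n55521 = n120564 := rfl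
theorem F192133 : act 2 n120564 = n69278 := d3_1 D120564 (iv6 F192094) F192093
theorem F192134 : act 4 n120564 = n55523 := d10_1 D120564 (iv6 D55523) D55521
theorem F192135 : act 7 n69261 = n120564 := d11_0 F192134 F192062 D69261
theorem F192136 : act 1 n72666 = n120564 := d17_8 F109735 (iv5 F52972) (iv1 F52976) (iv5 D16294) D16293 D33735 F109725 F109945 F192134
def n120565 : Q := act 0 n55522
theorem D120565 : act 0 n55522 = n120565 := rfl
theorem F192137 : act 5 n120565 = n58306 := d21_2 D55522 D120565 (iv6 D58306) (iv1 D27770) (iv6 D13257) F27160 (iv1 F27157) (iv5 F9420) D12821 D26801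
theorem F192138 : act 2 n72927 = n120565 := d15_3 (iv0 D120565) (iv0 F190814) (iv7 F190773)
theorem F192140 : act 3 n120565 = n75849 := d0_2 (iv3 F190772) F192138 (iv2 F131596) F131597 F60517
def n120566 : Q := act 4 n55522
theorem D120566 : act 4 n55522 = n120566 := rfl
def n120567 : Q := act 6 n55522
theorem D120567 : act 6 n55522 = n120567 := rfl
theorem F192141 : act 2 n120567 = n69281 := d3_1 D120567 (iv6 F192097) F192096
theorem F192142 : act 5 n120567 = n69107 := d12_1 D120567 (iv6 D69107) (iv5 F87809) (iv6 D55523) D55522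
def n120568 : Q := act 0 n55525
theorem D120568 : act 0 n55525 = n120568 := rfl
theorem F192143 : act 4 n120568 = n76082 := d20_0 (iv1 F155400) (iv4 D69863) (iv3 F155353) (iv1 F52003) (iv3 F106862) (iv4 F192126) (iv1 F192127) (iv4 D55526) D55525 D120568
theorem F192144 : act 3 n75837 = n120568 := d20_5 (iv4 F106867) (iv1 F107359) (iv4 D69591) (iv3 F105845) (iv1 F130918) F192143 (iv1 F155400) (iv4 D69863) (iv3 F155353) (iv1 F52003)
def n120569 : Q := act 1 n55525
theorem D120569 : act 1 n55525 = n120569 := rfl
def n120570 : Q := act 5 n55525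
theorem D120570 : act 5 n55525 = n120570 := rfl
theorem F192145 : act 3 n120570 = n55527 := d6_1 D120570 (iv5 D55527) D55525
def n120571 : Q := act 6 n55525
theorem D120571 : act 6 n55525 = n120571 := rfl
theorem F192146 : act 3 n120571 = n55528 := d7_1 D120571 (iv6 D55528) D55525
def n120572 : Q := act 5 n55526
theorem D120572 : act 5 n55526 = n120572 := rfl
def n120573 : Q := act 6 n55526
theorem D120573 : act 6 n55526 = n120573 := rfl
theorem F192147 : act 4 n120573 = n55528 := d10_1 D120573 (iv6 D55528) D55526
def n120574 : Q := act 4 n55527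
theorem D120574 : act 4 n55527 = n120574 := rfl
theorem F192148 : act 6 n120574 = n59928 := d10_2 F192077 D120574 F192092
def n120575 : Q := act 3 n55529
theorem D120575 : act 3 n55529 = n120575 := rfl
def n120576 : Q := act 4 n55529
theorem D120576 : act 4 n55529 = n120576 := rfl
def n120577 : Q := act 6 n55529
theorem D120577 : act 6 n55529 = n120577 := rfl
theorem F192149 : act 5 n120577 = n72729 := d12_1 D120577 (iv6 F190860) F190857 (iv6 F190701) (iv5 F190702)
def n120578 : Q := act 3 n55530
theorem D120578 : act 3 n55530 = n120578 := rfl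
def n120579 : Q := act 4 n55530
theorem D120579 : act 4 n55530 = n120579 := rfl
def n120580 : Q := act 6 n55530
theorem D120580 : act 6 n55530 = n120580 := rfl
def n120581 : Q := act 0 n55531
theorem D120581 : act 0 n55531 = n120581 := rfl
def n120582 : Q := act 1 n55531
theorem D120582 : act 1 n55531 = n120582 := rfl
def n120583 : Q := act 3 n55531
theorem D120583 : act 3 n55531 = n120583 := rfl
theorem F192150 : act 4 n120583 = n55551 := d5_2 D55531 D120583 (iv3 D55551) (iv4 D26813) (iv3 F43083)
theorem F192151 : act 6 n120583 = n75068 := d7_2 (iv6 F87811) D120583 (iv3 D75068)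
theorem F192152 : act 7 n85556 = n120583 := d11_0 F192150 F87857 D85556
def n120584 : Q := act 5 n55531
theorem D120584 : act 5 n55531 = n120584 := rfl
def n120585 : Q := act 7 n55531
theorem D120585 : act 7 n55531 = n120585 := rfl
theorem F192153 : act 3 n120585 = n85556 := d8_1 D120585 F192152 (iv3 D120583)
theorem F192154 : act 4 n120585 = n55532 := d11_1 D120585 (iv7 D55532) D55531
def n120586 : Q := act 6 n55532
theorem D120586 : act 6 n55532 = n120586 := rfl
theorem F192155 : act 3 n120586 = n55552 := d7_1 D120586 (iv6 D55552) (iv3 F87812)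
theorem F192156 : act 5 n120586 = n74917 := d12_1 D120586 (iv6 D74917) F54486 (iv6 F43086) (iv5 F87813)
theorem F192157 : act 7 n120586 = n68800 := d14_2 D55532 D120586 (iv6 D68800) F50368 (iv6 F43084)
def n120590 : Q := act 5 n55533
theorem D120590 : act 5 n55533 = n120590 := rfl
def n120591 : Q := act 6 n55533
theorem D120591 : act 6 n55533 = n120591 := rfl
def n120597 : Q := act 5 n55535
theorem D120597 : act 5 n55535 = n120597 := rfl
theorem F192161 : act 2 n120597 = n55537 := d2_1 D120597 (iv5 D55537) D55535
theorem F192162 : act 3 n120597 = n71969 := d6_1 D120597 (iv5 D71969) (iv3 F130875)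
theorem F192163 : act 7 n120597 = n75918 := d13_2 (iv7 F87816) D120597 (iv5 D75918)
theorem F192164 : act 1 n75925 = n120597 := d15_1 D75925 F192163 F113816
theorem F192165 : act 1 n120597 = n75924 := d15_0 (iv0 D75924) (iv7 F87823) (iv2 F192161)
theorem E19887 : n119947 = n69567 := ((c21_11 (iv5 D119947) (iv1 D55201) (iv5 D26673) D26674 D55204 D119961 (iv5 F189379) (iv1 F192165) (iv5 D120597) F184837 (iv1 F184836))).symm
theorem F192166 : act 5 n69567 = n55201 := (sb E19887 (iv5 D119947))
def n120598 : Q := act 5 n55536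
theorem D120598 : act 5 n55536 = n120598 := rfl
def n120599 : Q := act 0 n55537
theorem D120599 : act 0 n55537 = n120599 := rfl
theorem F192169 : act 1 n75918 = n120599 := d15_0 (iv0 D120599) F87823 (iv2 F113816)
def n120600 : Q := act 1 n55537
theorem D120600 : act 1 n55537 = n120600 := rfl
theorem F192170 : act 1 n120600 = n75918 := d15_1 D120600 (iv7 F192163) F192161
def n120601 : Q := act 4 n55537
theorem D120601 : act 4 n55537 = n120601 := rfl
theorem F192171 : act 7 n120601 = n75926 := d11_2 (iv7 F87823) D120601 (iv4 D75926)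
def n120602 : Q := act 3 n55538
theorem D120602 : act 3 n55538 = n120602 := rfl
theorem F192172 : act 5 n120602 = n58465 := d6_2 (iv5 F87826) D120602 (iv3 D58465)
theorem F192173 : act 7 n120602 = n75930 := d8_2 (iv7 F87825) D120602 (iv3 D75930)
def n120603 : Q := act 5 n55542
theorem D120603 : act 5 n55542 = n120603 := rfl
theorem F192174 : act 3 n120603 = n80192 := d6_1 D120603 (iv5 D80192) F91221
theorem F192175 : act 7 n120603 = n75898 := d13_2 (iv7 F87834) D120603 (iv5 D75898)
def n120604 : Q := act 6 n55542
theorem D120604 : act 6 n55542 = n120604 := rfl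
theorem F192176 : act 3 n120604 = n80193 := d7_1 D120604 (iv6 D80193) F91221
theorem F192177 : act 4 n120604 = n55544 := d10_1 D120604 (iv6 D55544) D55542
def n120605 : Q := act 4 n55543
theorem D120605 : act 4 n55543 = n120605 := rfl
theorem F192178 : act 2 n120605 = n117659 := d1_1 D120605 F184254 (iv2 F130880)
theorem F192179 : act 6 n120605 = n117519 := d10_2 (iv6 F130881) D120605 (iv4 D117519)
theorem F192180 : act 7 n120605 = n75901 := d11_2 (iv7 F87836) D120605 (iv4 D75901)
def n120606 : Q := act 3 n55545
theorem D120606 : act 3 n55545 = n120606 := rfl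
theorem F192181 : act 5 n120606 = n58455 := d6_2 (iv5 F87839) D120606 (iv3 D58455)
theorem F192182 : act 7 n120606 = n75906 := d8_2 (iv7 F87840) D120606 (iv3 D75906)
def n120607 : Q := act 6 n55545
theorem D120607 : act 6 n55545 = n120607 := rfl
theorem F192184 : act 4 n120607 = n55546 := d10_1 D120607 (iv6 D55546) D55545
theorem F192185 : act 0 n68338 = n120607 := d21_4 (iv5 F54584) (iv1 F84960) F84957 D68338 (iv6 D120607) F87839 (iv1 F60465) F60463 F51452 (iv1 F50376)
theorem F192186 : act 7 n117662 = n120607 := d11_0 F192184 (iv7 F130900) D117662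
def n120608 : Q := act 0 n55547
theorem D120608 : act 0 n55547 = n120608 := rfl
theorem F192187 : act 1 n75944 = n120608 := d15_0 (iv0 D120608) F87843 D75944
def n120609 : Q := act 1 n55547
theorem D120609 : act 1 n55547 = n120609 := rfl
def n120610 : Q := act 2 n55547
theorem D120610 : act 2 n55547 = n120610 := rfl
theorem F192188 : act 3 n120610 = n75936 := d0_2 D55547 D120610 (iv2 D75936) (iv3 D34703) F43092
theorem F192189 : act 7 n120610 = n75944 := d4_2 (iv7 F87843) D120610 (iv2 D75944)
theorem F192191 : act 1 n120609 = n75944 := d15_1 D120609 (iv7 F192189) (iv2 D120610)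
theorem F192192 : act 1 n75943 = n120610 := d15_1 D75943 F192189 (iv2 D75944)
def n120611 : Q := act 4 n55547
theorem D120611 : act 4 n55547 = n120611 := rfl
def n120612 : Q := act 6 n55547
theorem D120612 : act 6 n55547 = n120612 := rfl
theorem F192194 : act 3 n120612 = n55549 := d7_1 D120612 (iv6 D55549) D55547
theorem F192195 : act 5 n120612 = n71308 := d12_1 D120612 F130663 F130662 (iv6 F92251) F92250
def n120613 : Q := act 3 n55548
theorem D120613 : act 3 n55548 = n120613 := rfl
theorem F192196 : act 5 n120613 = n58443 := d6_2 (iv5 F87845) D120613 (iv3 D58443)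
theorem F192197 : act 7 n120613 = n75947 := d8_2 (iv7 F87846) D120613 (iv3 D75947)
def n120614 : Q := act 6 n55548
theorem D120614 : act 6 n55548 = n120614 := rfl
theorem F192198 : act 2 n120614 = n75940 := d3_1 D120614 (iv6 D75940) (iv2 F87844)
theorem F192199 : act 4 n120614 = n55549 := d10_1 D120614 (iv6 D55549) D55548
def n120615 : Q := act 1 n55549
theorem D120615 : act 1 n55549 = n120615 := rfl
theorem F192202 : act 5 n119005 = n120615 := d21_0 (iv1 D120615) F87849 (iv6 F60382) (iv1 F60380) D54731 (iv5 F87133) F108672 (iv5 D72239) D72240 (iv1 F187146)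
def n120616 : Q := act 3 n55550
theorem D120616 : act 3 n55550 = n120616 := rfl
theorem F192204 : act 5 n120616 = n58620 := d6_2 (iv5 F87850) D120616 (iv3 D58620)
def n120617 : Q := act 6 n55550
theorem D120617 : act 6 n55550 = n120617 := rfl
theorem F192206 : act 2 n120617 = n75953 := d3_1 D120617 (iv6 D75953) F87852
theorem F192207 : act 4 n120617 = n58558 := d10_1 D120617 (iv6 D58558) (iv4 F87851)
def n120618 : Q := act 0 n55551
theorem D120618 : act 0 n55551 = n120618 := rfl
theorem F192208 : act 1 n85553 = n120618 := d15_0 (iv0 D120618) F87857 (iv2 F130723)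
def n120619 : Q := act 1 n55551
theorem D120619 : act 1 n55551 = n120619 := rfl
def n120620 : Q := act 2 n55551
theorem D120620 : act 2 n55551 = n120620 := rfl
theorem F192209 : act 3 n120620 = n75958 := d0_2 D55551 D120620 (iv2 D75958) (iv3 D34711) (iv2 F43095)
theorem F192210 : act 5 n120620 = n85540 := d2_2 (iv5 F87855) D120620 (iv2 F130716)
theorem F192211 : act 6 n120620 = n75138 := d3_2 (iv6 F87856) D120620 (iv2 D75138)
theorem F192212 : act 7 n120620 = n85553 := d4_2 (iv7 F87857) D120620 F130723
theorem F192213 : act 1 n120620 = n85554 := d15_0 (iv0 D85554) (iv7 F87857) D120620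
theorem F192214 : act 1 n120619 = n85553 := d15_1 D120619 (iv7 F192212) (iv2 D120620)
theorem F192215 : act 1 n85555 = n120620 := d15_1 D85555 F192212 F130723
def n120621 : Q := act 5 n55555
theorem D120621 : act 5 n55555 = n120621 := rfl
theorem F192216 : act 2 n120621 = n76070 := d2_1 D120621 (iv5 D76070) F91475
theorem F192218 : act 7 n120621 = n56680 := d13_2 F117250 D120621 (iv5 D56680)
theorem F192219 : act 0 n120621 = n82016 := d17_2 (iv1 F117217) D120621 F126441 F125790 (iv5 D40196) (iv0 F61172) F91162 (iv0 F112738) F117617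
theorem F192220 : act 1 n120621 = n82015 := d17_6 F117189 (iv5 D13281) D13277 F91447 D55555 D120621 F129968 (iv0 D84767) F60158
def n120622 : Q := act 3 n55563
theorem D120622 : act 3 n55563 = n120622 := rfl
theorem F192221 : act 4 n120622 = n75976 := d5_2 D55563 D120622 (iv3 D75976) (iv4 D34723) F43206
theorem F192222 : act 7 n120622 = n76073 := d8_2 (iv7 F87865) D120622 (iv3 D76073)
def n120623 : Q := act 5 n55563
theorem D120623 : act 5 n55563 = n120623 := rfl
theorem F192223 : act 2 n120623 = n55569 := d2_1 D120623 (iv5 D55569) (iv2 F87864)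
theorem F192224 : act 7 n120623 = n76074 := d13_2 (iv7 F87865) D120623 (iv5 D76074)
theorem F192225 : act 1 n120623 = n76087 := d17_6 D27843 F117501 (iv1 F87872) (iv5 D55564) D55563 D120623 F131795 (iv0 D58521) (iv4 D27845)
def n120624 : Q := act 6 n55563
theorem D120624 : act 6 n55563 = n120624 := rfl
theorem F192227 : act 2 n120624 = n55570 := d3_1 D120624 (iv6 D55570) (iv2 F87864)
theorem F192228 : act 4 n120624 = n55565 := d10_1 D120624 (iv6 D55565) D55563
theorem F192229 : act 0 n120624 = n56733 := d21_4 (iv5 F131795) (iv1 F192225) (iv5 D120623) D120624 (iv6 D56733) D56732 (iv1 F131737) F131735 F60588 D58521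
theorem F192230 : act 5 n120624 = n84672 := d21_6 D8726 D18570 F29814 D27257 (iv1 F91398) D120624 (iv1 D84672) (iv5 D39112) (iv6 D18569) (iv1 D8725)
def n120625 : Q := act 4 n55564
theorem D120625 : act 4 n55564 = n120625 := rfl
theorem F192231 : act 2 n120625 = n55573 := d1_1 D120625 (iv4 D55573) (iv2 F87868)
theorem F192233 : act 5 n120625 = n84669 := d17_5 F117181 (iv5 F21768) (iv1 F117240) D55564 D120625 (iv0 D84669) (iv5 D39108) (iv0 F91157) (iv4 D8806)
theorem F192234 : act 0 n120625 = n76106 := d17_0 F117534 (iv1 D58508) (iv5 D27842) (iv4 D13280) D13281 (iv0 F117189) F117354 F87871 D120625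
theorem F192235 : act 1 n120625 = n76105 := d15_1 (iv0 F192234) (iv7 F131720) F131719
theorem F192236 : act 1 n98177 = n77314 := d18_8 F114048 F54633 (iv1 F91398) (iv4 D55563) D55564 D120625 F192235 (iv4 F151455) (iv5 D77314)
theorem F192237 : act 0 n80204 = n57095 := d20_4 D85636 F131315 F125538 (iv3 F123208) (iv3 F151454) F151455 (iv1 F192235) (iv4 D120625) F87869 (iv1 F116824)
theorem E19888 : n120530 = n120345 := ((c18_2 F192237 (iv4 F191667) (iv1 D120530) (iv4 D55494) (iv5 D26793) D26792 (iv0 F91215) F87644 D56939 (iv5 F123210))).symm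
theorem F192238 : act 0 n120345 = n55494 := (sb E19888 (iv1 D120530))
theorem F192239 : act 1 n120345 = n55510 := (sb E19888 F192001)
theorem F192240 : act 1 n80438 = n57095 := d15_0 (iv0 F192237) (iv7 F123211) (iv2 F123633)
def n120626 : Q := act 7 n55565
theorem D120626 : act 7 n55565 = n120626 := rfl
theorem F192243 : act 3 n120626 = n75983 := d8_1 D120626 (iv7 D75983) (iv3 F87874)
theorem F192244 : act 5 n120626 = n56638 := d13_1 D120626 (iv7 F117268) (iv5 F117280)
theorem F192245 : act 6 n120626 = n76080 := d14_1 D120626 (iv7 D76080) (iv6 D34761) (iv7 F43182) D55565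
theorem F192246 : act 1 n55576 = n120626 := d15_1 D55576 (iv7 D120626) F87873
theorem F192247 : act 1 n120626 = n55575 := d15_1 F192246 (iv7 F129991) F129989
def n120627 : Q := act 5 n55566
theorem D120627 : act 5 n55566 = n120627 := rfl
theorem F192248 : act 2 n120627 = n76081 := d2_1 D120627 (iv5 D76081) (iv2 F91440)
theorem F192249 : act 7 n120627 = n56719 := d13_2 (iv7 F91442) D120627 (iv5 D56719)
theorem F192250 : act 0 n120627 = n82026 := d17_2 D55566 D120627 (iv5 F126446) (iv4 D39696) (iv5 D18785) F22070 F91447 (iv0 D26821) D26824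
def n120628 : Q := act 0 n55568
theorem D120628 : act 0 n55568 = n120628 := rfl
theorem F192252 : act 1 n70650 = n120628 := d15_0 (iv0 D120628) F87879 (iv2 F155250)
def n120629 : Q := act 1 n55568
theorem D120629 : act 1 n55568 = n120629 := rfl
theorem F192253 : act 1 n120629 = n70650 := d15_1 D120629 (iv7 F155397) (iv2 F155398)
theorem F192254 : act 4 n75908 = n120629 := d20_6 F24882 (iv1 F13137) F28979 D16801 D34695 D75908 (iv1 D120629) F87878 (iv3 D26828) F30448
def n120630 : Q := act 5 n55568
theorem D120630 : act 5 n55568 = n120630 := rfl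
theorem F192255 : act 3 n120630 = n55569 := d6_1 D120630 (iv5 D55569) D55568
theorem F192256 : act 7 n120630 = n76085 := d13_2 (iv7 F87879) D120630 (iv5 D76085)
def n120631 : Q := act 6 n55568
theorem D120631 : act 6 n55568 = n120631 := rfl
theorem F192257 : act 3 n120631 = n55570 := d7_1 D120631 (iv6 D55570) D55568
theorem F192258 : act 4 n120631 = n55582 := d10_1 D120631 (iv6 D55582) (iv4 F87878)
def n120632 : Q := act 4 n55569
theorem D120632 : act 4 n55569 = n120632 := rfl
theorem F192259 : act 7 n120632 = n76089 := d11_2 (iv7 F87880) D120632 (iv4 D76089)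
def n120633 : Q := act 6 n55569
theorem D120633 : act 6 n55569 = n120633 := rfl
def n120634 : Q := act 0 n55570
theorem D120634 : act 0 n55570 = n120634 := rfl
def n120635 : Q := act 1 n55570
theorem D120635 : act 1 n55570 = n120635 := rfl
def n120636 : Q := act 5 n55570
theorem D120636 : act 5 n55570 = n120636 := rfl
theorem F192260 : act 2 n120636 = n84672 := d2_1 D120636 (iv5 F192230) F192227
theorem F192262 : act 0 n120636 = n57970 := d21_7 D18561 (iv1 F29799) (iv5 F17132) D18031 F91443 D55570 D120636 (iv5 D57970) (iv6 D27658) (iv1 F21994)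
def n120637 : Q := act 7 n55570
theorem D120637 : act 7 n55570 = n120637 := rfl
theorem F192263 : act 4 n120637 = n55577 := d11_1 D120637 (iv7 D55577) (iv4 F87881)
theorem F192264 : act 6 n120637 = n76094 := d14_1 D120637 (iv7 D76094) (iv6 D34766) (iv7 F43183) D55570
theorem F192265 : act 5 n84671 = n120637 := d21_2 D39112 D84671 F192264 F126472 (iv6 D37601) D37600 D82052 F126467 (iv6 D81887) F125918
theorem F192266 : act 7 n120636 = n84671 := d13_0 F192265 (iv7 D120637) D120636
theorem F192267 : act 0 n56733 = n120637 := d20_7 (iv4 F51220) (iv1 F51225) F28963 (iv3 F56015) F91259 (iv3 F123076) F123077 F192263 F87888 (iv1 F43219)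
def n120638 : Q := act 3 n55573
theorem D120638 : act 3 n55573 = n120638 := rfl
theorem F192268 : act 4 n120638 = n55585 := d5_2 D55573 D120638 (iv3 D55585) (iv4 D26832) (iv3 F43114)
theorem F192269 : act 7 n120638 = n76107 := d8_2 (iv7 F87884) D120638 (iv3 D76107)
def n120639 : Q := act 5 n55573
theorem D120639 : act 5 n55573 = n120639 := rfl
theorem F192272 : act 0 n120639 = n58502 := d17_2 F126484 D120639 (iv5 D58502) F91427 (iv5 F112743) F112746 D80161 (iv0 F152293) F126483
theorem F192273 : act 1 n120639 = n57972 := d17_6 (iv1 F117172) F21753 (iv1 F117201) D26825 D55573 D120639 (iv5 D57972) F91430 (iv4 D18784)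
def n120640 : Q := act 6 n55573
theorem D120640 : act 6 n55573 = n120640 := rfl
theorem F192274 : act 4 n120640 = n55574 := d10_1 D120640 (iv6 D55574) D55573
theorem F192275 : act 7 n120640 = n76170 := d14_2 (iv7 F87884) D120640 (iv6 D76170) (iv7 F55859) F55858
theorem F192276 : act 0 n120640 = n56729 := d21_4 D57972 (iv1 F192273) (iv5 D120639) D120640 (iv6 D56729) D56728 (iv1 F131694) (iv5 D85838) (iv6 D39695) (iv1 F91430)
theorem F192277 : act 5 n120640 = n84701 := d21_6 (iv5 F126467) (iv1 F126468) (iv5 D37605) D37606 F126484 D120640 (iv1 D84701) (iv5 D39122) D39123 (iv1 F129938)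
def n120642 : Q := act 3 n55576
theorem D120642 : act 3 n55576 = n120642 := rfl
theorem F192280 : act 6 n120642 = n82466 := d7_2 F129861 D120642 (iv3 F129858)
theorem F192281 : act 7 n120642 = n56770 := d8_2 (iv7 F117416) D120642 F89764
theorem F192282 : act 2 n75710 = n120642 := d4_3 F192281 F118653 (iv7 F127049)
theorem F192283 : act 1 n75701 = n120642 := d15_1 (iv0 F129023) F192281 F118653
theorem F192284 : act 1 n120642 = n75712 := d15_1 F192283 (iv7 D75712) (iv2 F113561)
theorem E19889 : n84651 = n82922 := ((c21_2 D38155 D82922 (iv5 F129854) (iv6 F192280) (iv1 F192283) (iv6 D75701) D75700 F129020 (iv5 D84055) (iv6 F118553) (iv1 D38154))).symm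
theorem F192285 : act 3 n82922 = n39099 := (sb E19889 (iv3 D84651))
theorem F192286 : act 5 n82922 = n82466 := (sb E19889 (iv5 F129854))
theorem F192287 : act 7 n82922 = n39181 := (sb E19889 F129853)
theorem E19890 : n82473 = n75712 := ((c15_1 F192284 (iv0 D82473) (iv7 F127049) F192282)).symm
theorem F192288 : act 1 n75712 = n37840 := (sb E19890 (iv0 D82473))
def n120643 : Q := act 4 n55576
theorem D120643 : act 4 n55576 = n120643 := rfl
theorem F192290 : act 7 n120643 = n56773 := d11_2 (iv7 F117416) D120643 F89765
def n120644 : Q := act 4 n55581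
theorem D120644 : act 4 n55581 = n120644 := rfl
def n120645 : Q := act 6 n55581
theorem D120645 : act 6 n55581 = n120645 := rfl
theorem F192292 : act 3 n120645 = n55584 := d7_1 D120645 (iv6 D55584) (iv3 F87897)
theorem F192293 : act 5 n120645 = n59981 := d12_1 D120645 (iv6 D59981) F87900 (iv6 D55582) D55581
def n120646 : Q := act 3 n55583
theorem D120646 : act 3 n55583 = n120646 := rfl
theorem F192294 : act 5 n120646 = n58472 := d6_2 (iv5 F87903) D120646 (iv3 D58472)
def n120647 : Q := act 6 n55583
theorem D120647 : act 6 n55583 = n120647 := rfl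
theorem F192296 : act 2 n120647 = n76047 := d3_1 D120647 (iv6 D76047) (iv2 F87901)
theorem F192297 : act 4 n120647 = n55584 := d10_1 D120647 (iv6 D55584) D55583
def n120648 : Q := act 2 n55585
theorem D120648 : act 2 n55585 = n120648 := rfl
theorem F192300 : act 3 n120648 = n71111 := d0_2 D55585 D120648 F109861 (iv3 D34747) F43208
theorem F192301 : act 5 n120648 = n69941 := d2_2 (iv5 F87908) D120648 F155103
theorem F192302 : act 7 n120648 = n70627 := d4_2 (iv7 F87909) D120648 F155471
theorem F192303 : act 1 n120648 = n70613 := d15_0 F155301 (iv7 F87909) D120648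
theorem F192304 : act 1 n70722 = n120648 := d15_0 F192303 F155303 (iv2 F155196)
def n120649 : Q := act 5 n55595
theorem D120649 : act 5 n55595 = n120649 := rfl
theorem F192305 : act 3 n120649 = n55596 := d6_1 D120649 (iv5 D55596) D55595
theorem F192306 : act 7 n120649 = n75989 := d13_2 (iv7 F87938) D120649 (iv5 D75989)
def n120650 : Q := act 4 n55596
theorem D120650 : act 4 n55596 = n120650 := rfl
def n120651 : Q := act 6 n55596
theorem D120651 : act 6 n55596 = n120651 := rfl
def n120652 : Q := act 5 n55597
theorem D120652 : act 5 n55597 = n120652 := rfl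
theorem F192310 : act 1 n120652 = n84349 := d17_6 D18478 D38898 F116840 (iv5 D55603) (iv4 F87940) D120652 (iv5 D84349) (iv0 D38891) F29658
theorem F192311 : act 1 n84350 = n120652 := d15_0 F192310 F129410 (iv2 F129411)
def n120653 : Q := act 3 n55600
theorem D120653 : act 3 n55600 = n120653 := rfl
theorem F192312 : act 4 n120653 = n55612 := d5_2 D55600 D120653 (iv3 D55612) (iv4 D26845) (iv3 F43229)
theorem F192313 : act 6 n120653 = n70743 := d7_2 (iv6 F87943) D120653 F107201
theorem F192314 : act 7 n120653 = n76011 := d8_2 (iv7 F87944) D120653 (iv3 D76011)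
def n120654 : Q := act 4 n55603
theorem D120654 : act 4 n55603 = n120654 := rfl
theorem F192316 : act 2 n120654 = n84480 := d1_1 D120654 (iv4 D84480) (iv2 F116838)
theorem F192317 : act 6 n120654 = n76161 := d10_2 (iv6 F87946) D120654 (iv4 D76161)
theorem F192318 : act 7 n120654 = n84481 := d11_2 F116837 D120654 (iv4 D84481)
def n120655 : Q := act 3 n55610
theorem D120655 : act 3 n55610 = n120655 := rfl
theorem F192319 : act 4 n120655 = n117823 := d5_2 D55610 D120655 F184509 F85611 (iv3 F130823)
theorem F192320 : act 5 n120655 = n58470 := d6_2 (iv5 F87961) D120655 (iv3 D58470)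
theorem F192321 : act 6 n120655 = n117821 := d7_2 (iv6 F130839) D120655 F184505
theorem F192322 : act 7 n120655 = n76046 := d8_2 (iv7 F87962) D120655 (iv3 D76046)
def n120658 : Q := act 7 n55613
theorem D120658 : act 7 n55613 = n120658 := rfl
theorem F192326 : act 6 n120658 = n79007 := d14_1 D120658 (iv7 D79007) (iv6 D35959) (iv7 F43265) D55613
def n120659 : Q := act 0 n55614
theorem D120659 : act 0 n55614 = n120659 := rfl
def n120660 : Q := act 1 n55614
theorem D120660 : act 1 n55614 = n120660 := rfl
theorem F192330 : act 1 n120660 = n79007 := d15_1 D120660 (iv7 D79007) (iv2 F87970)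
def n120661 : Q := act 5 n55614
theorem D120661 : act 5 n55614 = n120661 := rfl
theorem F192331 : act 2 n120661 = n62619 := d2_1 D120661 F97662 (iv2 F87970)
theorem F192332 : act 3 n120661 = n71450 := d6_1 D120661 (iv5 D71450) (iv3 F87971)
theorem F192333 : act 6 n120661 = n55615 := d12_2 D55614 D120661 (iv5 D55615) (iv6 D26852) D26851
def n120662 : Q := act 7 n55614
theorem D120662 : act 7 n55614 = n120662 := rfl
theorem F192334 : act 2 n120662 = n79007 := d4_1 D120662 (iv7 D79007) (iv2 F87970)
theorem F192335 : act 3 n120662 = n71451 := d8_1 D120662 (iv7 D71451) (iv3 F87971)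
theorem F192336 : act 6 n120662 = n79029 := d14_1 D120662 (iv7 D79029) (iv6 D35967) (iv7 F43269) D55614
theorem F192337 : act 1 n79007 = n120659 := d15_0 (iv0 D120659) D120662 F192334
theorem F192338 : act 1 n79006 = n120662 := d15_1 D79006 (iv7 D120662) F87970
theorem F192339 : act 1 n120662 = n79005 := d15_0 (iv0 D79005) D79007 (iv2 F192334)
def n120663 : Q := act 4 n55615
theorem D120663 : act 4 n55615 = n120663 := rfl
theorem F192340 : act 2 n120663 = n62618 := d1_1 D120663 (iv4 D62618) (iv2 F87972)
theorem F192341 : act 7 n120663 = n114596 := d11_2 (iv7 F87973) D120663 (iv4 D114596)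
theorem F192342 : act 0 n120663 = n106520 := d18_2 (iv1 F87974) D120663 (iv4 D106520) F77746 F38058 F26987 (iv4 F47679) (iv0 F54269) (iv5 F83588)
theorem F192343 : act 1 n120663 = n119106 := d18_6 (iv1 F56586) (iv4 D29064) (iv1 F26731) (iv4 F43272) D55615 D120663 F187377 F120072 F120071
def n120664 : Q := act 3 n55616
theorem D120664 : act 3 n55616 = n120664 := rfl
def n120665 : Q := act 5 n55616
theorem D120665 : act 5 n55616 = n120665 := rfl
theorem F192345 : act 2 n120665 = n62693 := d2_1 D120665 (iv5 D62693) (iv2 F87976)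
theorem F192346 : act 7 n120665 = n119165 := d13_2 (iv7 F87977) D120665 (iv5 D119165)
def n120666 : Q := act 3 n55617
theorem D120666 : act 3 n55617 = n120666 := rfl
theorem F192347 : act 4 n120666 = n57705 := d5_2 D55617 D120666 F90883 (iv4 D35026) (iv3 F43278)
theorem F192348 : act 7 n120666 = n120193 := d8_2 (iv7 F87979) D120666 (iv3 D120193)
theorem F192349 : act 0 n114052 = n120666 := d20_4 (iv4 D33217) (iv1 F40400) D52638 D114052 (iv3 D120666) (iv4 D55617) (iv1 F85449) D117485 F184004 (iv1 D71880)
def n120667 : Q := act 6 n55619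
theorem D120667 : act 6 n55619 = n120667 := rfl
def n120668 : Q := act 1 n55620
theorem D120668 : act 1 n55620 = n120668 := rfl
theorem F192352 : act 1 n120668 = n70300 := d15_1 D120668 (iv7 D70300) (iv2 F87984)
theorem F192353 : act 7 n120668 = n70298 := d15_2 (iv0 F188013) D120668 (iv2 F185474)
theorem F192354 : act 5 n85456 = n120668 := d21_0 (iv1 D120668) F87985 (iv6 D54887) (iv1 D26551) (iv6 F42500) (iv5 D26546) F113935 D54728 D118916 F187682
theorem F192355 : act 2 n120668 = n70299 := d2_1 F192354 F131017 (iv2 F130679)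
theorem F192356 : act 1 n70300 = n118062 := d15_1 F192352 F185473 (iv2 F192355)
def n120669 : Q := act 7 n55620
theorem D120669 : act 7 n55620 = n120669 := rfl
theorem F192358 : act 5 n120669 = n119261 := d13_1 D120669 (iv7 D119261) (iv5 F87985)
theorem F192359 : act 1 n70299 = n120669 := d15_1 D70299 (iv7 D120669) F87984
theorem F192360 : act 1 n120669 = n70298 := d15_1 F192359 (iv7 F192353) F192355
def n120670 : Q := act 0 n55621
theorem D120670 : act 0 n55621 = n120670 := rfl
theorem F192361 : act 5 n120670 = n70723 := d17_1 D120670 (iv1 F151722) F151719 (iv4 D55619) (iv5 D26856) F26779 D26727 (iv0 F43290) D55621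
theorem F192362 : act 4 n120670 = n69871 := d18_3 D26858 D55621 D120670 (iv5 D69871) F51508 (iv0 F54157) F27786 F27043 D12850
theorem F192363 : act 1 n55623 = n120670 := d15_0 (iv0 D120670) F87986 (iv2 F87989)
theorem F192364 : act 3 n57669 = n120670 := d19_19 (iv1 F192363) (iv5 F151703) (iv4 D98290) F72566 (iv1 F71634) (iv5 D44576) F33439 (iv3 D10123) (iv1 F15948) D21170 (iv4 F58237) F115056 (iv1 D76708) F55678 (iv4 F106858) (iv3 D70374) F51751 D33367 F90856
theorem F192365 : act 2 n120670 = n76685 := d0_1 F192364 (iv3 F115042) (iv2 F94827) (iv3 D60271) F90855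
theorem F192366 : act 7 n120670 = n60269 := d8_2 (iv7 F90853) F192364 (iv3 D60269)
def n120671 : Q := act 1 n55621
theorem D120671 : act 1 n55621 = n120671 := rfl
theorem F192367 : act 1 n120671 = n55623 := d15_1 D120671 (iv7 F184006) F184003
theorem F192368 : act 7 n120671 = n76685 := d15_2 (iv0 D120670) D120671 (iv2 F192365)
theorem F192369 : act 5 n120671 = n72381 := d17_7 (iv1 D45996) (iv5 D21977) D21974 D45989 D98284 F151698 D120671 (iv0 F151721) (iv4 D98300)
theorem F192370 : act 4 n120671 = n69851 := d17_9 F106275 (iv5 F85217) F97971 (iv5 F115144) F115143 F108407 (iv0 F151699) F151698 D120671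
theorem F192371 : act 3 n76305 = n120671 := d19_19 (iv1 D120671) (iv5 F151698) (iv4 D98284) F91685 (iv1 D57952) F44574 (iv4 F73793) F73790 (iv1 D22641) D22642 F35180 (iv3 F35183) (iv1 F21009) (iv5 D12617) D12616 F21001 (iv1 F37038) F65468 D76305
theorem F192372 : act 2 n120671 = n60269 := d0_1 F192371 (iv3 D60269) (iv2 F52626) (iv3 F83443) (iv2 F114408)
def n120672 : Q := act 6 n55621
theorem D120672 : act 6 n55621 = n120672 := rfl
theorem F192373 : act 4 n120672 = n55622 := d10_1 D120672 (iv6 D55622) D55621
def n120673 : Q := act 0 n55622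
theorem D120673 : act 0 n55622 = n120673 := rfl
def n120674 : Q := act 1 n55622
theorem D120674 : act 1 n55622 = n120674 := rfl
def n120675 : Q := act 7 n55622
theorem D120675 : act 7 n55622 = n120675 := rfl
theorem F192374 : act 3 n120675 = n55635 := d8_1 D120675 (iv7 D55635) (iv3 F87987)
theorem F192375 : act 5 n120675 = n61535 := d13_1 D120675 (iv7 D61535) (iv5 F87988)
theorem F192376 : act 6 n120675 = n76689 := d14_1 D120675 (iv7 D76689) (iv6 D35055) F43289 D55622
def n120676 : Q := act 6 n55623
theorem D120676 : act 6 n55623 = n120676 := rfl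
theorem F192377 : act 2 n120676 = n76686 := d3_1 D120676 (iv6 D76686) (iv2 F87989)
theorem F192378 : act 4 n120676 = n55624 := d10_1 D120676 (iv6 D55624) D55623
def n120677 : Q := act 0 n55624
theorem D120677 : act 0 n55624 = n120677 := rfl
def n120678 : Q := act 1 n55624
theorem D120678 : act 1 n55624 = n120678 := rfl
theorem F192379 : act 1 n120678 = n76689 := d15_1 D120678 (iv7 D76689) (iv2 F87990)
def n120679 : Q := act 7 n55624
theorem D120679 : act 7 n55624 = n120679 := rfl
theorem F192380 : act 2 n120679 = n76689 := d4_1 D120679 (iv7 D76689) (iv2 F87990)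
theorem F192381 : act 1 n76689 = n120677 := d15_0 (iv0 D120677) D120679 F192380
theorem F192382 : act 1 n76688 = n120679 := d15_1 D76688 (iv7 D120679) F87990
theorem F192383 : act 1 n120679 = n76687 := d15_0 (iv0 D76687) D76689 (iv2 F192380)
def n120680 : Q := act 6 n55625
theorem D120680 : act 6 n55625 = n120680 := rfl
def n120681 : Q := act 3 n55626
theorem D120681 : act 3 n55626 = n120681 := rfl
theorem F192384 : act 4 n120681 = n87457 := d5_2 F96230 D120681 F134269 (iv4 D61672) (iv3 F96228)
theorem F192385 : act 5 n120681 = n60228 := d6_2 F87992 D120681 F94787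
theorem F192386 : act 0 n120681 = n95740 := d19_4 F83065 D61656 F96230 D120681 F147434 (iv4 F124233) (iv3 D80704) (iv1 F57781) (iv5 F61028) F61027 (iv3 D27017) (iv1 F26492) (iv5 F27938) (iv4 D17041) (iv3 F27933) D35095 (iv5 F56711) (iv4 F56716) (iv3 F83063)
theorem F192387 : act 0 n60134 = n120681 := d20_4 (iv4 D16280) D16278 (iv4 F46156) (iv3 F94694) (iv3 D120681) (iv4 F96230) (iv1 F114723) F114721 (iv3 D60269) (iv1 F46204)
def n120682 : Q := act 6 n55626
theorem D120682 : act 6 n55626 = n120682 := rfl
def n120683 : Q := act 0 n55627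
theorem D120683 : act 0 n55627 = n120683 := rfl
theorem F192388 : act 5 n120683 = n60196 := d17_3 F128677 F128259 D120683 F94750 D71814 (iv0 F113400) F113398 F86942 D83595
theorem F192389 : act 3 n120683 = n60076 := d20_5 (iv4 D55623) (iv1 D26859) D26860 D55627 D120683 F94635 F92102 F90856 F192364 (iv1 F192363)
def n120684 : Q := act 1 n55627
theorem D120684 : act 1 n55627 = n120684 := rfl
theorem F192390 : act 5 n120684 = n119465 := d18_9 F188247 (iv4 D98144) D98142 F151355 F149126 (iv4 D96717) (iv0 F71226) (iv4 F87993) D120684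
theorem F192391 : act 4 n103127 = n120684 := d20_6 (iv4 D15430) (iv1 F26338) D26269 (iv3 F75475) (iv1 F75486) D103127 (iv1 D120684) F87993 (iv3 D26865) (iv1 F24978)
def n120685 : Q := act 2 n55627
theorem D120685 : act 2 n55627 = n120685 := rfl
theorem F192392 : act 4 n120685 = n55637 := d1_2 (iv4 F87993) D120685 (iv2 D55637)
def n120686 : Q := act 7 n55627
theorem D120686 : act 7 n55627 = n120686 := rfl
theorem F192393 : act 3 n120686 = n55628 := d8_1 D120686 (iv7 D55628) D55627
theorem F192394 : act 4 n120686 = n55638 := d11_1 D120686 (iv7 D55638) (iv4 F87993)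
theorem F192395 : act 5 n120686 = n82500 := d13_1 D120686 (iv7 F128258) F128259
theorem F192396 : act 6 n85010 = n120686 := d7_0 F192393 (iv6 F87998) D85010
def n120687 : Q := act 0 n55629
theorem D120687 : act 0 n55629 = n120687 := rfl
def n120688 : Q := act 1 n55629
theorem D120688 : act 1 n55629 = n120688 := rfl
def n120689 : Q := act 7 n55629
theorem D120689 : act 7 n55629 = n120689 := rfl
theorem F192397 : act 3 n120689 = n55632 := d8_1 D120689 (iv7 D55632) (iv3 F87999)
theorem F192398 : act 4 n120689 = n114676 := d11_1 D120689 (iv7 D114676) (iv4 F88000)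
theorem F192399 : act 6 n120689 = n76701 := d14_1 D120689 (iv7 D76701) (iv6 D35060) (iv7 F43301) D55629
def n120690 : Q := act 2 n55630
theorem D120690 : act 2 n55630 = n120690 := rfl
theorem F192400 : act 7 n55631 = n120690 := d15_2 (iv0 D55630) D55631 (iv2 D120690)
def n120691 : Q := act 3 n55630
theorem D120691 : act 3 n55630 = n120691 := rfl
def n120693 : Q := act 5 n55630
theorem D120693 : act 5 n55630 = n120693 := rfl
theorem F192401 : act 0 n120693 = n117758 := d21_1 D120693 F184418 (iv6 D68940) (iv1 D32057) F24730 (iv5 D7187) (iv1 F11496) (iv5 F21304) D26863 D55630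
theorem F192402 : act 1 n120693 = n74929 := d15_1 (iv0 F192401) F112449 (iv2 F184417)
def n120694 : Q := act 7 n55630
theorem D120694 : act 7 n55630 = n120694 := rfl
def n120695 : Q := act 3 n55631
theorem D120695 : act 3 n55631 = n120695 := rfl
def n120696 : Q := act 4 n55631
theorem D120696 : act 4 n55631 = n120696 := rfl
def n120697 : Q := act 6 n55631
theorem D120697 : act 6 n55631 = n120697 := rfl
def n120698 : Q := act 3 n55633
theorem D120698 : act 3 n55633 = n120698 := rfl
theorem F192404 : act 7 n120698 = n76705 := d8_2 (iv7 F105949) D120698 (iv3 D76705)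
def n120699 : Q := act 4 n55633
theorem D120699 : act 4 n55633 = n120699 := rfl
theorem F192405 : act 2 n120699 = n76703 := d1_1 D120699 (iv4 D76703) F105950
def n120700 : Q := act 6 n55633
theorem D120700 : act 6 n55633 = n120700 := rfl
theorem F192408 : act 5 n120700 = n70346 := d21_6 F24992 (iv1 F20684) (iv5 F21310) D26864 D55633 D120700 (iv1 D70346) (iv5 D32653) (iv6 D15458) (iv1 F24990)
theorem F192409 : act 0 n120700 = n76750 := d21_10 F115122 (iv1 D58458) F85840 F86552 (iv1 D33799) D33801 (iv5 F86327) D118620 F186583 D120700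
def n120701 : Q := act 3 n55634
theorem D120701 : act 3 n55634 = n120701 := rfl
theorem F192410 : act 7 n120701 = n76702 := d8_2 F105948 D120701 (iv3 D76702)
def n120702 : Q := act 4 n55634
theorem D120702 : act 4 n55634 = n120702 := rfl
theorem F192411 : act 2 n120702 = n76706 := d1_1 D120702 (iv4 D76706) (iv2 F105947)
theorem F192412 : act 7 n120702 = n76703 := d11_2 F105948 D120702 (iv4 D76703)
def n120703 : Q := act 4 n55636
theorem D120703 : act 4 n55636 = n120703 := rfl
theorem F192414 : act 3 n120703 = n114115 := d5_1 D120703 (iv4 D114115) F83244 (iv4 F83630) F88015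
theorem F192415 : act 5 n120703 = n83087 := d9_2 (iv5 F88017) D120703 (iv4 F151364) F151363 (iv4 F124257) F124256 F60854 D45191 D96717 (iv5 F149126) (iv4 F151355) F151358 D98190 F151502 F125494
theorem F192417 : act 0 n120703 = n71887 := d17_0 (iv5 F123606) (iv1 F123609) F125403 (iv4 D81527) (iv5 D37229) D37227 F58186 D55636 D120703
theorem F192418 : act 1 n120703 = n77109 := d18_8 D77106 F128208 F128207 D83191 F128259 F87993 D55636 D120703 (iv5 D77109)
def n120704 : Q := act 6 n55636
theorem D120704 : act 6 n55636 = n120704 := rfl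
def n120705 : Q := act 6 n55638
theorem D120705 : act 6 n55638 = n120705 := rfl
theorem F192421 : act 3 n120705 = n55640 := d7_1 D120705 (iv6 D55640) (iv3 F88022)
theorem F192422 : act 4 n120705 = n85010 := d10_1 D120705 F192396 F192394
theorem F192423 : act 0 n120705 = n103727 := d20_4 F185037 (iv1 D55642) (iv4 F88029) (iv3 F192421) (iv3 D103727) (iv4 D48034) (iv1 F75371) F75367 (iv3 F106540) (iv1 F185036)
def n120706 : Q := act 3 n55641
theorem D120706 : act 3 n55641 = n120706 := rfl
theorem F192424 : act 7 n120706 = n72842 := d8_2 (iv7 F185072) D120706 F191136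
theorem F192425 : act 0 n120706 = n72843 := d20_4 D54348 D117976 F185061 D120706 F109343 (iv4 F77596) (iv1 F163381) F190358 (iv3 D117974) (iv1 D54347)
theorem F192426 : act 4 n114790 = n120706 := d20_6 (iv4 F177795) (iv1 D23782) (iv4 F20216) (iv3 F40630) D52970 D114790 F192425 (iv4 F163394) F163393 (iv1 F77607)
theorem F192427 : act 3 n117976 = n114791 := d5_3 F192426 (iv3 D120706) (iv4 F185061) (iv4 D114791) D114790
theorem E19892 : n114754 = n103746 := ((c20_10 F83690 D52970 D114791 (iv3 F192427) (iv1 F185059) F106540 (iv4 F75367) (iv1 F75370) D48039 D103746 (iv1 D114754))).symm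
theorem F192428 : act 0 n103746 = n52958 := (sb E19892 (iv1 D114754))
theorem F192429 : act 3 n76740 = n105436 := d20_3 F106541 (iv1 F85752) F131640 (iv1 D105436) (iv3 F83689) F83690 D52970 D114791 (iv3 F192427) (iv1 F185059)
theorem E19893 : n105441 = n103699 := (c20_3 F76782 D48756 D105441 (iv3 D103699) (iv1 F75495) (iv3 F106540) F106541 (iv1 F85752) F131640 F192429 (iv1 D105436))
theorem F192430 : act 4 n103699 = n48756 := (sb E19893 (iv4 D105441))
theorem F192431 : act 2 n120706 = n72841 := d15_3 (iv0 D72841) D72842 (iv7 F192424)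
theorem F192432 : act 3 n72841 = n119652 := d0_2 D120706 F192431 (iv2 F188726) F185065 (iv2 F185071)
theorem F192433 : act 7 n72841 = n119699 := d4_2 (iv7 F192424) F192431 (iv2 F191135)
theorem F192434 : act 1 n120706 = n70325 := d15_0 (iv0 F190324) (iv7 F192433) (iv2 F192431)
def n120708 : Q := act 6 n55641
theorem D120708 : act 6 n55641 = n120708 := rfl
theorem F192439 : act 5 n120708 = n68811 := d21_6 (iv5 D7293) F10680 (iv5 F21314) D26868 D55641 D120708 (iv1 D68811) (iv5 F51689) (iv6 D32628) (iv1 D15448)
def n120709 : Q := act 6 n55643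
theorem D120709 : act 6 n55643 = n120709 := rfl
def n120711 : Q := act 1 n55644
theorem D120711 : act 1 n55644 = n120711 := rfl
def n120718 : Q := act 3 n55646
theorem D120718 : act 3 n55646 = n120718 := rfl
theorem F192454 : act 4 n120718 = n58001 := d5_2 (iv4 F88038) D120718 (iv3 D58001) (iv4 D27667) D27666
def n120719 : Q := act 5 n55646
theorem D120719 : act 5 n55646 = n120719 := rfl
theorem F192456 : act 2 n120719 = n55712 := d2_1 D120719 (iv5 D55712) (iv2 F117410)
theorem F192457 : act 7 n120719 = n55717 := d13_2 (iv7 F117411) D120719 (iv5 D55717)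
def n120720 : Q := act 3 n55647
theorem D120720 : act 3 n55647 = n120720 := rfl
theorem F192458 : act 4 n120720 = n83125 := d5_2 F117837 D120720 (iv3 D83125) (iv4 D38266) D38265
theorem F192459 : act 7 n120720 = n55710 := d8_2 (iv7 F117413) D120720 (iv3 D55710)
def n120723 : Q := act 0 n55648
theorem D120723 : act 0 n55648 = n120723 := rfl
def n120725 : Q := act 7 n55648
theorem D120725 : act 7 n55648 = n120725 := rfl
theorem F192465 : act 2 n120725 = n55722 := d4_1 D120725 (iv7 D55722) (iv2 F88041)
theorem F192466 : act 5 n120725 = n55649 := d13_1 D120725 (iv7 D55649) D55648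
theorem F192467 : act 1 n55722 = n120723 := d15_0 (iv0 D120723) D120725 F192465
theorem F192468 : act 1 n55720 = n120725 := d15_1 D55720 (iv7 D120725) F88041
theorem F192469 : act 7 n120723 = n55720 := d15_2 (iv0 F124508) F192467 (iv2 F124505)
theorem F192470 : act 2 n120723 = n55719 := d15_3 (iv0 D55719) D55720 (iv7 F192469)
theorem F192471 : act 7 n55719 = n80795 := d4_2 (iv7 F192469) F192470 F124505
theorem F192472 : act 5 n80796 = n55719 := d13_3 F192471 (iv5 D80795) D80796
theorem F192473 : act 1 n120725 = n55719 := d15_1 F192468 F192471 F124505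
theorem F192474 : act 1 n80796 = n77333 := d17_8 (iv1 F118180) F118181 (iv1 F88059) F88056 (iv4 F88043) (iv5 F192466) F192473 (iv5 F192472) F116146
def n120727 : Q := act 5 n55652
theorem D120727 : act 5 n55652 = n120727 := rfl
def n120729 : Q := act 4 n55653
theorem D120729 : act 4 n55653 = n120729 := rfl
theorem F192489 : act 7 n120729 = n55757 := d11_2 (iv7 F89156) D120729 (iv4 D55757)
def n120730 : Q := act 5 n55655
theorem D120730 : act 5 n55655 = n120730 := rfl
theorem F192490 : act 2 n120730 = n55755 := d2_1 D120730 (iv5 D55755) (iv2 F89165)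
theorem F192491 : act 7 n120730 = n55738 := d13_2 (iv7 F89166) D120730 (iv5 D55738)
def n120732 : Q := act 4 n55656
theorem D120732 : act 4 n55656 = n120732 := rfl
theorem F192494 : act 2 n120732 = n55757 := d1_1 D120732 (iv4 D55757) (iv2 F89167)
theorem F192496 : act 7 n120732 = n55743 := d11_2 (iv7 F89168) D120732 (iv4 D55743)
def n120733 : Q := act 0 n55658
theorem D120733 : act 0 n55658 = n120733 := rfl
theorem F192497 : act 4 n120733 = n58029 := d20_2 D55658 D120733 (iv3 D58029) (iv1 F91716) F91712 (iv4 F129473) (iv1 F129474) (iv4 F124545) F124542 F57856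
theorem F192498 : act 7 n55772 = n120733 := d11_0 F192497 (iv7 F126505) F126510
theorem F192500 : act 2 n120733 = n55771 := d15_3 (iv0 D55771) D55772 F192498
def n120734 : Q := act 1 n55658
theorem D120734 : act 1 n55658 = n120734 := rfl
theorem F192502 : act 7 n120734 = n55771 := d15_2 (iv0 D120733) D120734 (iv2 F192500)
theorem F192503 : act 2 n55772 = n120734 := d4_3 F192502 (iv2 F192500) (iv7 F192498)
theorem F192504 : act 4 n120734 = n83135 := d1_2 F126510 F192503 F128158
def n120735 : Q := act 3 n55658
theorem D120735 : act 3 n55658 = n120735 := rfl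
theorem F192506 : act 6 n120735 = n55661 := d7_2 (iv6 F88053) D120735 (iv3 D55661)
def n120737 : Q := act 7 n55658
theorem D120737 : act 7 n55658 = n120737 := rfl
theorem F192509 : act 4 n120737 = n55659 := d11_1 D120737 (iv7 D55659) D55658
theorem F192510 : act 1 n55772 = n120737 := d15_1 D55772 (iv7 D120737) F88052
theorem F192511 : act 1 n120737 = n55771 := d15_1 F192510 (iv7 F192502) (iv2 F192503)
def n120738 : Q := act 3 n55660
theorem D120738 : act 3 n55660 = n120738 := rfl
theorem F192512 : act 4 n120738 = n75206 := d5_2 (iv4 F88060) D120738 (iv3 D75206) (iv4 D34438) (iv3 F43660)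
theorem F192513 : act 7 n120738 = n55796 := d8_2 (iv7 F88063) D120738 (iv3 D55796)
def n120739 : Q := act 0 n55661
theorem D120739 : act 0 n55661 = n120739 := rfl
def n120740 : Q := act 1 n55661
theorem D120740 : act 1 n55661 = n120740 := rfl
def n120741 : Q := act 2 n55661
theorem D120741 : act 2 n55661 = n120741 := rfl
theorem F192514 : act 3 n120741 = n55800 := d0_2 D55661 D120741 (iv2 D55800) (iv3 D26926) (iv2 F43345)
theorem F192515 : act 4 n120741 = n77525 := d1_2 (iv4 F88064) D120741 (iv2 D77525)
def n120742 : Q := act 5 n55661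
theorem D120742 : act 5 n55661 = n120742 := rfl
theorem F192517 : act 7 n120742 = n78025 := d13_2 F122235 D120742 (iv5 F122234)
def n120750 : Q := act 1 n55665
theorem D120750 : act 1 n55665 = n120750 := rfl
theorem F192526 : act 1 n120750 = n79339 := d15_1 D120750 (iv7 D79339) (iv2 F88074)
def n120752 : Q := act 7 n55665
theorem D120752 : act 7 n55665 = n120752 := rfl
theorem F192529 : act 2 n120752 = n79339 := d4_1 D120752 (iv7 D79339) (iv2 F88074)
theorem F192530 : act 3 n120752 = n80566 := d8_1 D120752 F185049 F107246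
theorem F192531 : act 4 n120752 = n77672 := d11_1 D120752 (iv7 D77672) (iv4 F88075)
theorem F192534 : act 1 n79337 = n120752 := d15_1 D79337 (iv7 D120752) F88074
theorem F192535 : act 1 n120752 = n79336 := d15_0 (iv0 D79336) D79339 (iv2 F192529)
theorem F192536 : act 4 n77614 = n79336 := d20_0 (iv1 F192535) F192531 F186960 F186959 D119231 F187666 (iv1 F185768) F151416 F72504 D77614
theorem E19894 : n81785 = n81613 := (c20_8 (iv4 F192536) (iv1 F116517) (iv4 F121989) F121988 (iv1 F118888) D81777 F125703 D81785 F125526 F121928 D79336)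
theorem F192537 : act 1 n81613 = n37395 := (sb E19894 (iv0 D81785))
theorem F192539 : act 7 n81786 = n96715 := d15_2 F192537 D81786 F149120
def n120754 : Q := act 5 n55666
theorem D120754 : act 5 n55666 = n120754 := rfl
theorem F192542 : act 7 n120754 = n79347 := d13_2 (iv7 F124400) D120754 (iv5 D79347)
def n120756 : Q := act 3 n55667
theorem D120756 : act 3 n55667 = n120756 := rfl
theorem F192550 : act 0 n120756 = n73756 := d20_4 F88136 (iv1 F89264) F124448 D120756 (iv3 D73756) (iv4 D33886) (iv1 D16384) D16386 D33894 (iv1 F124281)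
def n120757 : Q := act 5 n55667
theorem D120757 : act 5 n55667 = n120757 := rfl
theorem F192551 : act 2 n120757 = n79347 := d2_1 D120757 (iv5 D79347) (iv2 F124401)
def n120758 : Q := act 6 n55667
theorem D120758 : act 6 n55667 = n120758 := rfl
theorem F192553 : act 2 n120758 = n79348 := d3_1 D120758 (iv6 D79348) (iv2 F124401)
def n120759 : Q := act 0 n55668
theorem D120759 : act 0 n55668 = n120759 := rfl
def n120760 : Q := act 1 n55668
theorem D120760 : act 1 n55668 = n120760 := rfl
theorem F192555 : act 1 n120760 = n79352 := d15_1 D120760 (iv7 D79352) (iv2 F88077)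
theorem F192556 : act 5 n80721 = n120760 := d21_6 D27485 F44401 (iv5 D17756) D17757 D36851 D80721 (iv1 D120760) (iv5 D55668) (iv6 D26882) (iv1 F21932)
theorem F192557 : act 2 n120760 = n79350 := d2_1 F192556 (iv5 F121944) (iv2 F124198)
def n120762 : Q := act 7 n55668
theorem D120762 : act 7 n55668 = n120762 := rfl
theorem F192559 : act 2 n120762 = n79352 := d4_1 D120762 (iv7 D79352) (iv2 F88077)
theorem F192560 : act 5 n120762 = n55669 := d13_1 D120762 (iv7 D55669) D55668
theorem F192561 : act 1 n79352 = n120759 := d15_0 (iv0 D120759) D120762 F192559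
theorem F192562 : act 1 n79350 = n120762 := d15_1 D79350 (iv7 D120762) F88077
theorem F192563 : act 7 n120759 = n79350 := d15_2 F192555 F192561 (iv2 F192557)
theorem F192564 : act 2 n120759 = n79349 := d15_3 (iv0 D79349) D79350 (iv7 F192563)
theorem F192565 : act 7 n79349 = n120760 := d4_2 (iv7 F192563) F192564 F192557
theorem F192566 : act 1 n120762 = n79349 := d15_1 F192562 F192565 F192557
def n120763 : Q := act 3 n55672
theorem D120763 : act 3 n55672 = n120763 := rfl
theorem F192567 : act 2 n120763 = n73765 := d0_1 D120763 (iv3 D73765) F53243 D33894 (iv2 F121729)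
theorem F192569 : act 7 n120763 = n79353 := d8_2 F121796 D120763 (iv3 D79353)
def n120768 : Q := act 4 n55680
theorem D120768 : act 4 n55680 = n120768 := rfl
theorem F192582 : act 2 n120768 = n78145 := d1_1 D120768 (iv4 D78145) F88088
theorem F192584 : act 1 n120768 = n80104 := d15_0 F124422 F119808 (iv2 F192582)
def n120769 : Q := act 6 n55680
theorem D120769 : act 6 n55680 = n120769 := rfl
theorem F192588 : act 7 n120769 = n79505 := d14_2 (iv7 F88089) D120769 (iv6 D79505) (iv7 F120531) F120535
def n120770 : Q := act 0 n55681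
theorem D120770 : act 0 n55681 = n120770 := rfl
def n120772 : Q := act 3 n55681
theorem D120772 : act 3 n55681 = n120772 := rfl
theorem F192591 : act 6 n120772 = n56275 := d7_2 (iv6 F88093) D120772 (iv3 D56275)
def n120774 : Q := act 7 n55681
theorem D120774 : act 7 n55681 = n120774 := rfl
theorem F192593 : act 2 n120774 = n79362 := d4_1 D120774 (iv7 D79362) (iv2 F88092)
theorem F192594 : act 4 n120774 = n55682 := d11_1 D120774 (iv7 D55682) D55681
theorem F192596 : act 1 n79362 = n120770 := d15_0 (iv0 D120770) D120774 F192593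
theorem F192598 : act 1 n120774 = n79358 := d15_0 (iv0 D79358) D79362 (iv2 F192593)
theorem F192599 : act 4 n79358 = n80103 := d18_7 D36478 (iv4 F124365) (iv1 F88083) F88079 (iv5 F88096) (iv4 F192594) F192598 (iv0 D80103) (iv5 D36480)
theorem F192600 : act 3 n96648 = n80103 := d20_5 D95264 F146876 (iv4 D45158) (iv3 F71111) D96648 (iv4 F192599) (iv1 F192598) F192594 F88095 (iv1 F70719)
def n120775 : Q := act 3 n55683
theorem D120775 : act 3 n55683 = n120775 := rfl
theorem F192601 : act 2 n120775 = n60223 := d0_1 D120775 (iv3 D60223) F86371 (iv3 F86372) F88101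
theorem F192602 : act 4 n120775 = n60229 := d5_2 (iv4 F88100) D120775 (iv3 F110321) F110319 (iv3 F59369)
theorem F192603 : act 5 n120775 = n98484 := d6_2 F124171 D120775 (iv3 F151891)
theorem F192604 : act 7 n120775 = n79325 := d8_2 (iv7 F88103) D120775 (iv3 D79325)
theorem F192605 : act 0 n120775 = n98340 := d19_4 F57345 F59370 (iv4 F88100) D120775 (iv5 D98340) (iv4 D46010) F34491 (iv1 F17137) (iv5 D10611) (iv4 D4856) D4855 (iv1 F7336) (iv5 D4598) D4597 F6664 D8342 (iv5 F27494) (iv4 F28664) D36512
theorem F192606 : act 0 n101286 = n120775 := d20_4 (iv4 F43663) D56010 F88660 D101286 (iv3 D120775) F88100 (iv1 F86926) (iv4 F120495) (iv3 D79218) (iv1 D36063)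
def n120776 : Q := act 6 n55683
theorem D120776 : act 6 n55683 = n120776 := rfl
theorem F192607 : act 2 n120776 = n79327 := d3_1 D120776 (iv6 D79327) F88101
theorem F192608 : act 4 n120776 = n83594 := d10_1 D120776 (iv6 D83594) (iv4 F88100)
def n120777 : Q := act 6 n55684
theorem D120777 : act 6 n55684 = n120777 := rfl
theorem F192610 : act 3 n120777 = n79286 := d7_1 D120777 (iv6 D79286) (iv3 F88104)
theorem F192611 : act 4 n120777 = n98141 := d10_1 D120777 (iv6 D98141) (iv4 F88105)
theorem F192612 : act 0 n120777 = n83709 := d20_7 F59391 (iv1 F29922) D18660 D39363 (iv1 F128218) (iv3 F151351) (iv4 F192611) (iv4 D83709) (iv3 D38583) (iv1 F59394)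
def n120778 : Q := act 6 n55685
theorem D120778 : act 6 n55685 = n120778 := rfl
theorem F192613 : act 3 n120778 = n55687 := d7_1 D120778 (iv6 D55687) (iv3 F88109)
theorem F192614 : act 4 n120778 = n96714 := d10_1 D120778 (iv6 D96714) F88111
def n120779 : Q := act 0 n55686
theorem D120779 : act 0 n55686 = n120779 := rfl
def n120780 : Q := act 1 n55686
theorem D120780 : act 1 n55686 = n120780 := rfl
theorem F192615 : act 4 n83656 = n120780 := d20_6 (iv4 D18264) (iv1 F13529) (iv4 F13576) (iv3 F29551) (iv1 F59388) D83656 (iv1 D120780) F88113 F72400 F59721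

end Cfsg.Agent.Helper17.ONTC
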